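import Cfsg.Statements.S3822
import Cfsg.Agent.Lib.HalfFixed23.Main
import Cfsg.Agent.Lib.Basics.CoprimeAction
import Cfsg.Agent.Lib.Basics.Frattini
import Cfsg.Agent.Lib.Basics.Cores
-- import your own Cfsg.Agent.* helpers here

set_option autoImplicit false
open Cfsg

namespace Cfsg.Agent.S3822

universe u

open scoped commutatorElement

/-- The commutation of the cores. -/
theorem cores_commute {G : Type u} [Group G] [Finite G] {p : ℕ} [Fact p.Prime] (hp : 3 < p)
    (P : Subgroup G) (hP : Nat.card P = p) (A : Subgroup G)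
    (hA : Group.IsSolvable ↥A ∧ ∃ a ∈ A, A = P ⊔ P.map (MulAut.conj a).toMonoidHom)
    (hmax : ∀ B : Subgroup G, A ≤ B → Group.IsSolvable ↥B →
      (∃ b ∈ B, B = P ⊔ P.map (MulAut.conj b).toMonoidHom) → B = A)
    {q r : ℕ} [Fact q.Prime] [Fact r.Prime] (hqr : q ≠ r)
    (R : Subgroup G) (hR : IsPGroup r R) (hAR : A ≤ Subgroup.normalizer (R : Set G)) :
    ⁅(Cfsg.pCore q ↥A).map A.subtype, R⁆ = ⊥ := by
  classical
  obtain ⟨hAsolv, a, haA, hAeq⟩ := hA
  haveI := hAsolv
  set Q := (Cfsg.pCore q ↥A).map A.subtype with hQdef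
  have hQA : Q ≤ A := Subgroup.map_subtype_le _
  have hQq : IsPGroup q Q := (Basics.pCore_isPGroup q).map _
  have hAQ : ∀ g ∈ A, ∀ w ∈ Q, g * w * g⁻¹ ∈ Q := by
    rintro g hg _ ⟨w, hw, rfl⟩
    exact ⟨_, (inferInstance : (Cfsg.pCore q ↥A).Normal).conj_mem w hw ⟨g, hg⟩, rfl⟩
  by_contra hcon
  obtain ⟨R₀, ⟨hR₀R, hAR₀, hne⟩, hmin⟩ := Set.Finite.exists_minimal
    (s := {S : Subgroup G | S ≤ R ∧ A ≤ Subgroup.normalizer (S : Set G) ∧ ⁅Q, S⁆ ≠ ⊥})
    (Set.toFinite _) ⟨R, le_rfl, hAR, hcon⟩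
  have hR₀p : IsPGroup r R₀ := hR.to_le hR₀R
  have hconj : ∀ g ∈ A, ∀ w ∈ R₀, g * w * g⁻¹ ∈ R₀ := fun g hg w hw =>
    (Subgroup.mem_normalizer_iff.mp (hAR₀ hg) w).mp hw
  have hlt : ∀ S : Subgroup G, S ≤ R₀ → S ≠ R₀ → A ≤ Subgroup.normalizer (S : Set G) →
      ⁅Q, S⁆ = ⊥ := by
    intro S hS hSne hAS
    by_contra h
    exact hSne (le_antisymm hS (hmin ⟨hS.trans hR₀R, hAS, h⟩ hS))
  have hQR : Q ≤ Subgroup.normalizer (R₀ : Set G) := hQA.trans hAR₀
  have hcopQR : (Nat.card Q).Coprime (Nat.card R₀) := by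
    obtain ⟨i, hi⟩ := hQq.exists_card_eq
    obtain ⟨j, hj⟩ := hR₀p.exists_card_eq
    rw [hi, hj]
    exact ((Nat.coprime_primes Fact.out Fact.out).mpr hqr).pow i j
  haveI hR₀nil : Group.IsNilpotent R₀ := hR₀p.isNilpotent
  set C := ⁅R₀, Q⁆ with hC
  have hCle : C ≤ R₀ := Subgroup.le_normalizer_iff_commutator_le_left.mp hQR
  have hAC : A ≤ Subgroup.normalizer (C : Set G) := by
    intro g hg
    refine Subgroup.mem_normalizer_iff_map_conj_eq.mpr ?_
    rw [hC, Subgroup.map_commutator]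
    congr 1
    · exact Subgroup.mem_normalizer_iff_map_conj_eq.mp (hAR₀ hg)
    · refine Subgroup.eq_of_le_of_card_ge ?_
        (Subgroup.card_map_of_injective (MulAut.conj g).injective).ge
      rintro _ ⟨w, hw, rfl⟩
      exact hAQ g hg w hw
  have hCeq : C = R₀ := by
    by_contra hCne
    have h1 := hlt C hCle hCne hAC
    have h2 : Q ≤ Subgroup.centralizer (R₀ : Set G) :=
      Basics.le_centralizer_of_commutator_commutator_eq_bot Q R₀ hQR hcopQR
        (Or.inr inferInstance) (by rw [← hC, Subgroup.commutator_comm]; exact h1)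
    exact hne (Subgroup.commutator_eq_bot_iff_le_centralizer.mpr h2)
  -- the Frattini quotient
  set Φ₀ := frattini ↥R₀
  haveI : Φ₀.Normal := inferInstance
  let V := ↥R₀ ⧸ Φ₀
  letI : CommGroup V :=
    { (inferInstance : Group V) with
      mul_comm := fun u v => by
        obtain ⟨u, rfl⟩ := QuotientGroup.mk'_surjective Φ₀ u
        obtain ⟨v, rfl⟩ := QuotientGroup.mk'_surjective Φ₀ v
        refine QuotientGroup.eq.mpr (Basics.commutator_le_frattini ?_)
        have e : (u * v)⁻¹ * (v * u) = ⁅v⁻¹, u⁻¹⁆ := by rw [commutatorElement_def]; group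
        rw [e]
        exact Subgroup.commutator_mem_commutator (Subgroup.mem_top _) (Subgroup.mem_top _) }
  let π : ↥R₀ →* V := QuotientGroup.mk' Φ₀
  have hπsurj : Function.Surjective π := QuotientGroup.mk'_surjective Φ₀
  let ψ₀ : ↥A →* MulAut ↥R₀ :=
    { toFun := fun g =>
        { toFun := fun w => ⟨(g : G) * w * (g : G)⁻¹, hconj g g.2 w w.2⟩
          invFun := fun w => ⟨(g : G)⁻¹ * w * (g : G), by
            simpa using hconj _ (A.inv_mem g.2) w w.2⟩
          left_inv := fun w => Subtype.ext (by simp [mul_assoc])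
          right_inv := fun w => Subtype.ext (by simp [mul_assoc])
          map_mul' := fun v w => Subtype.ext (by simp [mul_assoc]) }
      map_one' := MulEquiv.ext fun w => Subtype.ext (by simp)
      map_mul' := fun g h => MulEquiv.ext fun w => Subtype.ext (by simp [mul_assoc]) }
  have hΦinv : ∀ (g : ↥A) (w : ↥R₀), w ∈ Φ₀ → ψ₀ g w ∈ Φ₀ := by
    intro g w hw
    have h := (frattini_characteristic (G := ↥R₀)).fixed (ψ₀ g)
    have h' : w ∈ (frattini ↥R₀).comap (ψ₀ g).toMonoidHom := by rw [h]; exact hw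
    exact h'
  let act : ↥A →* MulAut V :=
    { toFun := fun g => QuotientGroup.congr Φ₀ Φ₀ (ψ₀ g) (by
        refine Subgroup.eq_of_le_of_card_ge ?_
          (Subgroup.card_map_of_injective (ψ₀ g).injective).ge
        rintro _ ⟨w, hw, rfl⟩
        exact hΦinv g w hw)
      map_one' := MulEquiv.ext fun v => by
        obtain ⟨w, rfl⟩ := hπsurj v
        show π (ψ₀ 1 w) = π w
        rw [map_one]; rfl
      map_mul' := fun g h => MulEquiv.ext fun v => by
        obtain ⟨w, rfl⟩ := hπsurj v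
        show π (ψ₀ (g * h) w) = π (ψ₀ g (ψ₀ h w))
        rw [map_mul]; rfl }
  letI : MulDistribMulAction ↥A V := MulDistribMulAction.compHom V act
  have hsmul : ∀ (g : ↥A) (w : ↥R₀), g • π w = π (ψ₀ g w) := fun g w => rfl
  set QA := Cfsg.pCore q ↥A with hQAdef
  have hVcop : (Nat.card V).Coprime (Nat.card QA) := by
    obtain ⟨i, hi⟩ := (Basics.pCore_isPGroup (G := ↥A) q).exists_card_eq
    obtain ⟨j, hj⟩ := (hR₀p.to_quotient Φ₀).exists_card_eq
    rw [hi, hj]
    exact ((Nat.coprime_primes Fact.out Fact.out).mpr hqr.symm).pow j i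
  -- `Q` has no fixed points on the quotient
  have hCV : ∀ v : V, (∀ g ∈ QA, g • v = v) → v = 1 := by
    intro v hv
    have hker : R₀ ≤ (((RegOrbit23.normOver (W := V) QA).comp π).ker).map R₀.subtype := by
      conv_lhs => rw [← hCeq, hC]
      refine Subgroup.commutator_le.mpr fun w hw g hg => ?_
      obtain ⟨g', hg', rfl⟩ := hg
      have hmem : ⁅w, (g' : G)⁆ ∈ R₀ := by
        rw [commutatorElement_def, show w * (g' : G) * w⁻¹ * (g' : G)⁻¹ = w * ((g' : G) * w⁻¹ * (g' : G)⁻¹) by group]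
        exact mul_mem hw (hconj _ g'.2 _ (inv_mem hw))
      refine ⟨⟨_, hmem⟩, ?_, rfl⟩
      show RegOrbit23.normOver QA (π ⟨_, hmem⟩) = 1
      have e : (⟨_, hmem⟩ : ↥R₀) = ⟨w, hw⟩ * ψ₀ g' (⟨w, hw⟩ : ↥R₀)⁻¹ := Subtype.ext (by
        show ⁅w, (g' : G)⁆ = w * ((g' : G) * w⁻¹ * (g' : G)⁻¹)
        rw [commutatorElement_def]; group)
      rw [e, map_mul, ← hsmul, map_inv, map_mul]
      have h2 : ∀ u : V, RegOrbit23.normOver QA (g' • u) = RegOrbit23.normOver QA u := by
        intro u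
        haveI := Fintype.ofFinite QA
        rw [RegOrbit23.normOver_apply, RegOrbit23.normOver_apply]
        refine Fintype.prod_equiv (Equiv.mulRight ⟨g', hg'⟩) _ _ fun b => ?_
        rw [← mul_smul]
        rfl
      rw [h2, ← map_mul, mul_inv_cancel, map_one]
    obtain ⟨w, rfl⟩ := hπsurj v
    obtain ⟨w', hw', hww⟩ := hker w.2
    obtain rfl : w' = w := Subtype.ext hww
    have h1 : RegOrbit23.normOver QA (π w') = 1 := hw'
    rw [RegOrbit23.normOver_of_fixed QA hv] at h1
    exact RegOrbit23.eq_one_of_pow_eq_one hVcop h1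
  have hirr : ∀ X : Subgroup V, (∀ g : ↥A, ∀ v ∈ X, g • v ∈ X) → X = ⊥ ∨ X = ⊤ := by
    intro X hX
    by_cases htop : X.comap π = ⊤
    · exact Or.inr (eq_top_iff.mpr fun v _ => by
        obtain ⟨w, rfl⟩ := hπsurj v
        exact htop.ge (Subgroup.mem_top w))
    refine Or.inl ((Subgroup.eq_bot_iff_forall _).mpr fun v hv => hCV v fun g hg => ?_)
    have hS : (X.comap π).map R₀.subtype ≠ R₀ := fun h => htop (Subgroup.map_injective R₀.subtype_injective
      (by rw [h, ← MonoidHom.range_eq_map, Subgroup.range_subtype]))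
    have hAS : A ≤ Subgroup.normalizer (((X.comap π).map R₀.subtype : Subgroup G) : Set G) := by
      intro g hg
      refine Subgroup.mem_normalizer_iff_map_conj_eq.mpr (Subgroup.eq_of_le_of_card_ge ?_
        (Subgroup.card_map_of_injective (MulAut.conj g).injective).ge)
      rintro _ ⟨_, ⟨w, hw, rfl⟩, rfl⟩
      exact ⟨ψ₀ ⟨g, hg⟩ w, hX ⟨g, hg⟩ _ hw, rfl⟩
    have h1 := hlt _ (Subgroup.map_subtype_le _) hS hAS
    obtain ⟨w, rfl⟩ := hπsurj v
    have hcomm : (g : G) * (w : G) = (w : G) * (g : G) :=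
      (Subgroup.mem_centralizer_iff.mp ((Subgroup.commutator_eq_bot_iff_le_centralizer.mp h1)
        (Subgroup.mem_map_of_mem A.subtype hg)) _ (Subgroup.mem_map_of_mem R₀.subtype hv)).symm
    rw [hsmul]
    congr 1
    exact Subtype.ext (by show (g : G) * w * (g : G)⁻¹ = w; rw [hcomm, mul_inv_cancel_right])
  -- generators
  obtain ⟨x₀, hx₀⟩ := (isCyclic_of_prime_card hP).exists_generator
  set x : G := (x₀ : G) with hxdef
  have hPx : P = Subgroup.zpowers x := by
    refine le_antisymm (fun g hg => ?_) (Subgroup.zpowers_le.mpr x₀.2)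
    obtain ⟨i, hi⟩ := Subgroup.mem_zpowers_iff.mp (hx₀ ⟨g, hg⟩)
    exact ⟨i, congrArg Subtype.val hi⟩
  have hxp : x ^ p = 1 := by
    have h1 : x₀ ^ p = 1 := hP ▸ pow_card_eq_one'
    exact congrArg Subtype.val h1
  have hmapP : ∀ b : G, P.map (MulAut.conj b).toMonoidHom = Subgroup.zpowers (b * x * b⁻¹) := by
    intro b
    rw [hPx, MonoidHom.map_zpowers]
    rfl
  set y : G := a * x * a⁻¹ with hydef
  have hxA : x ∈ A := hAeq ▸ Subgroup.mem_sup_left x₀.2
  have hyA : y ∈ A := mul_mem (mul_mem haA hxA) (inv_mem haA)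
  have hAgen : A ≤ Subgroup.closure {x, y} := by
    rw [hAeq, hmapP a, ← hydef, hPx]
    exact sup_le (Subgroup.zpowers_le.mpr (Subgroup.subset_closure (Or.inl rfl)))
      (Subgroup.zpowers_le.mpr (Subgroup.subset_closure (Or.inr rfl)))
  -- the ambient solvable group
  set M := A ⊔ R₀ with hMdef
  have hMmem : ∀ g ∈ M, ∃ h ∈ A, ∃ w ∈ R₀, h * w = g := by
    intro g hg
    rw [hMdef, ← SetLike.mem_coe, Subgroup.coe_mul_of_left_le_normalizer_right A R₀ hAR₀] at hg
    obtain ⟨h, hh, w, hw, rfl⟩ := hg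
    exact ⟨h, hh, w, hw, rfl⟩
  have hMsolv : Group.IsSolvable ↥M := by
    haveI hn : (R₀.subgroupOf M).Normal := Subgroup.normal_subgroupOf_iff_le_normalizer le_sup_right |>.mpr
      (sup_le hAR₀ Subgroup.le_normalizer)
    refine (Group.isSolvable_iff_subgroup_quotient (R₀.subgroupOf M)).mpr ⟨?_, ?_⟩
    · haveI : Group.IsSolvable ↥R₀ := inferInstance
      exact Group.isSolvable_of_surjective
        (f := (Subgroup.subgroupOfEquivOfLe (le_sup_right : R₀ ≤ M)).symm.toMonoidHom)
        (Subgroup.subgroupOfEquivOfLe (le_sup_right : R₀ ≤ M)).symm.surjective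
    · refine Group.isSolvable_of_surjective
        (f := (QuotientGroup.mk' (R₀.subgroupOf M)).comp (Subgroup.inclusion (le_sup_left : A ≤ M)))
        fun z => ?_
      obtain ⟨⟨g, hg⟩, rfl⟩ := QuotientGroup.mk'_surjective _ z
      obtain ⟨h, hh, w, hw, rfl⟩ := hMmem g hg
      refine ⟨⟨h, hh⟩, QuotientGroup.eq.mpr ?_⟩
      simpa [Subgroup.mem_subgroupOf] using hw
  have hR₀A : ¬ R₀ ≤ A := by
    intro hle
    have h1 : (R₀.subgroupOf A) ≤ Cfsg.pCore r ↥A := by
      haveI : (R₀.subgroupOf A).Normal := (Subgroup.normal_subgroupOf_iff_le_normalizer hle).mpr hAR₀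
      exact Basics.le_pCore (hR₀p.comap_of_injective A.subtype A.subtype_injective)
    refine hne (Subgroup.commutator_eq_bot_iff_le_centralizer.mpr ?_)
    rintro _ ⟨g, hg, rfl⟩
    refine Subgroup.mem_centralizer_iff.mpr fun w hw => ?_
    exact congrArg Subtype.val (Basics.commute_pCore hqr hg (h1 (x := ⟨w, hle hw⟩) hw)).symm.eq
  -- the half fixed point pair
  haveI : Nontrivial V := by
    by_contra hnt
    rw [not_nontrivial_iff_subsingleton] at hnt
    have h2 : (⊥ : Subgroup ↥R₀) = ⊤ :=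
      frattini_nongenerating (eq_top_iff.mpr fun w _ => Subgroup.mem_sup_right
        ((QuotientGroup.eq_one_iff w).mp (Subsingleton.elim (π w) 1)))
    refine hne ?_
    have h3 : R₀ = ⊥ := (Subgroup.eq_bot_iff_forall _).mpr fun w hw =>
      congrArg Subtype.val (Subgroup.mem_bot.mp (h2.ge (Subgroup.mem_top ⟨w, hw⟩)))
    rw [h3, Subgroup.commutator_bot_right]
  let H := act.range
  set xb : H := act.rangeRestrict ⟨x, hxA⟩ with hxb
  set yb : H := act.rangeRestrict ⟨y, hyA⟩ with hyb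
  have hsm : ∀ (g : ↥A) (v : V), act.rangeRestrict g • v = g • v := fun g v => rfl
  have hAtop : Subgroup.closure ({⟨x, hxA⟩, ⟨y, hyA⟩} : Set ↥A) = ⊤ := by
    refine Subgroup.map_injective A.subtype_injective ?_
    rw [MonoidHom.map_closure, Set.image_pair, ← MonoidHom.range_eq_map, Subgroup.range_subtype]
    exact le_antisymm ((Subgroup.closure_le _).mpr (by rintro z (rfl | rfl); exacts [hxA, hyA])) hAgen
  have hcap : ∀ v : V, xb • v = v → yb • v = v → v = 1 := by
    intro v hxv hyv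
    refine hCV v fun g _ => ?_
    have : (⊤ : Subgroup ↥A) ≤ MulAction.stabilizer ↥A v := by
      rw [← hAtop, Subgroup.closure_le]
      rintro z (rfl | rfl)
      · exact hxv
      · exact hyv
    exact this (Subgroup.mem_top g)
  have hprod : ∀ v : V, ∃ u w : V, xb • u = u ∧ yb • w = w ∧ u * w = v := by
    intro v
    obtain ⟨v₀, rfl⟩ := hπsurj v
    set y' : G := (v₀ : G) * y * (v₀ : G)⁻¹ with hy'
    set B := Subgroup.zpowers x ⊔ Subgroup.zpowers y' with hBdef
    have hv₀M : (v₀ : G) ∈ M := Subgroup.mem_sup_right v₀.2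
    have hBM : B ≤ M := sup_le (Subgroup.zpowers_le.mpr (Subgroup.mem_sup_left hxA))
      (Subgroup.zpowers_le.mpr (mul_mem (mul_mem hv₀M (Subgroup.mem_sup_left hyA)) (inv_mem hv₀M)))
    have hBne : B ≠ M := by
      intro hB
      have h1 := hmax B (hB ▸ le_sup_left) (hB ▸ hMsolv)
        ⟨(v₀ : G) * a, hB ▸ mul_mem hv₀M (Subgroup.mem_sup_left haA), by
          rw [hBdef, hmapP, hPx, hy', hydef]
          congr 2; group⟩
      exact hR₀A (fun w hw => h1 ▸ hB ▸ Subgroup.mem_sup_right hw)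
    -- `B` covers `A` modulo `R₀`
    have hcover : ∀ g : ↥A, ∃ w : ↥R₀, (w : G) * g ∈ B := by
      intro g
      let T : Subgroup ↥A :=
        { carrier := {g | ∃ w : ↥R₀, (w : G) * g ∈ B}
          one_mem' := ⟨1, by simp⟩
          mul_mem' := by
            rintro g h ⟨u, hu⟩ ⟨w, hw⟩
            refine ⟨u * ψ₀ g w, ?_⟩
            have := mul_mem hu hw
            show (u : G) * ((g : G) * w * (g : G)⁻¹) * ((g : G) * (h : G)) ∈ B
            rwa [show (u : G) * ((g : G) * w * (g : G)⁻¹) * ((g : G) * (h : G)) =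
              (u : G) * g * ((w : G) * h) by group]
          inv_mem' := by
            rintro g ⟨u, hu⟩
            refine ⟨ψ₀ g⁻¹ u⁻¹, ?_⟩
            have := inv_mem hu
            show (g : G)⁻¹ * (u : G)⁻¹ * ((g : G)⁻¹)⁻¹ * (g : G)⁻¹ ∈ B
            rwa [show (g : G)⁻¹ * (u : G)⁻¹ * ((g : G)⁻¹)⁻¹ * (g : G)⁻¹ = ((u : G) * g)⁻¹ by group] }
      have : (⊤ : Subgroup ↥A) ≤ T := by
        rw [← hAtop, Subgroup.closure_le]
        rintro z (rfl | rfl)
        · exact ⟨1, by simp only [Subgroup.coe_one, one_mul]; exact Subgroup.mem_sup_left (Subgroup.mem_zpowers x)⟩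
        · refine ⟨v₀ * ψ₀ ⟨y, hyA⟩ v₀⁻¹, ?_⟩
          show (v₀ : G) * (y * (v₀ : G)⁻¹ * y⁻¹) * y ∈ B
          rw [show (v₀ : G) * (y * (v₀ : G)⁻¹ * y⁻¹) * y = y' by rw [hy']; group]
          exact Subgroup.mem_sup_right (Subgroup.mem_zpowers y')
      exact this (Subgroup.mem_top g)
    have hBR : ∀ w : ↥R₀, (w : G) ∈ B → π w = 1 := by
      set S := B.subgroupOf R₀ with hS
      have hXinv : ∀ g : ↥A, ∀ u ∈ S.map π, g • u ∈ S.map π := by
        rintro g _ ⟨w, hw, rfl⟩
        obtain ⟨u, hu⟩ := hcover g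
        refine ⟨u * ψ₀ g w * u⁻¹, ?_, ?_⟩
        · show (u : G) * ((g : G) * w * (g : G)⁻¹) * (u : G)⁻¹ ∈ B
          rw [show (u : G) * ((g : G) * w * (g : G)⁻¹) * (u : G)⁻¹ =
            (u : G) * g * w * ((u : G) * g)⁻¹ by group]
          exact mul_mem (mul_mem hu hw) (inv_mem hu)
        · rw [map_mul, map_mul, map_inv, mul_comm (π u), mul_inv_cancel_right, hsmul]
      rcases hirr _ hXinv with h1 | h1
      · intro w hw
        have : π w ∈ S.map π := ⟨w, hw, rfl⟩
        rwa [h1, Subgroup.mem_bot] at this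
      · exfalso
        apply hBne
        refine le_antisymm hBM ?_
        have hSt : S = ⊤ := frattini_nongenerating (eq_top_iff.mpr fun w _ => by
          obtain ⟨w', hw', hww⟩ := h1.ge (Subgroup.mem_top (π w))
          have hm : w'⁻¹ * w ∈ Φ₀ := QuotientGroup.eq.mp hww
          simpa using mul_mem (Subgroup.mem_sup_left (T := Φ₀) hw') (Subgroup.mem_sup_right (S := S) hm))
        have hR₀B : R₀ ≤ B := fun w hw => (hSt.ge (Subgroup.mem_top (⟨w, hw⟩ : ↥R₀)) : (⟨w, hw⟩ : ↥R₀) ∈ S)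
        refine sup_le (fun g hg => ?_) hR₀B
        obtain ⟨u, hu⟩ := hcover ⟨g, hg⟩
        simpa using mul_mem (inv_mem (hR₀B u.2)) hu
    -- the derivation
    choose cw hcw using hcover
    let c : ↥A → V := fun g => π (cw g)
    have hcuniq : ∀ (g : ↥A) (w : ↥R₀), (w : G) * g ∈ B → π w = c g := by
      intro g w hw
      have h1 := hBR (w * (cw g)⁻¹) (by
        have := mul_mem hw (inv_mem (hcw g))
        simpa [mul_assoc] using this)
      rwa [map_mul, map_inv, mul_inv_eq_one] at h1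
    have hcmul : ∀ g h : ↥A, c (g * h) = c g * g • c h := by
      intro g h
      have := mul_mem (hcw g) (hcw h)
      rw [← hcuniq (g * h) (cw g * ψ₀ g (cw h)) ?_, map_mul, hsmul]
      show (cw g : G) * ((g : G) * cw h * (g : G)⁻¹) * ((g : G) * h) ∈ B
      rwa [show (cw g : G) * ((g : G) * cw h * (g : G)⁻¹) * ((g : G) * h) =
        (cw g : G) * g * ((cw h : G) * h) by group]
    haveI := Fintype.ofFinite QA
    set tot := ∏ g : QA, c (g : ↥A) with htot
    obtain ⟨m, hm⟩ : ∃ m, tot = m ^ Nat.card QA := ⟨_, ((powCoprime hVcop).apply_symm_apply tot).symm⟩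
    have hcQ : ∀ g ∈ QA, c g = m * (g • m)⁻¹ := by
      intro g hg
      have h1 : tot = c g ^ Nat.card QA * g • tot := by
        conv_lhs => rw [htot, ← Fintype.prod_equiv (Equiv.mulLeft (⟨g, hg⟩ : QA))
          (fun b => c (g * (b : ↥A))) (fun b => c (b : ↥A)) (fun b => rfl)]
        simp only [hcmul]
        rw [Finset.prod_mul_distrib, Finset.prod_const, Finset.card_univ, Nat.card_eq_fintype_card,
          ← Finset.smul_prod']
      rw [hm, smul_pow', ← mul_pow] at h1
      have h2 : (c g * g • m) = m := (powCoprime hVcop).injective h1.symm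
      rw [eq_mul_inv_iff_mul_eq, h2]
    let d : ↥A → V := fun g => c g * (g • m) * m⁻¹
    have hdmul : ∀ g h, d (g * h) = d g * g • d h := by
      intro g h
      simp only [d, hcmul, mul_smul, smul_mul', smul_inv']
      have e1 : ∀ a b cc dd : V, a * b * cc * dd⁻¹ = a * (g • m) * dd⁻¹ * (b * cc * (g • m)⁻¹) := by
        intro a b cc dd
        calc a * b * cc * dd⁻¹ = a * b * cc * dd⁻¹ * ((g • m) * (g • m)⁻¹) := by
              rw [mul_inv_cancel, mul_one]
          _ = _ := by ac_rfl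
      exact e1 _ _ _ _
    have hdQ : ∀ g ∈ QA, d g = 1 := fun g hg => by
      simp only [d, hcQ g hg]
      rw [inv_mul_cancel_right, mul_inv_cancel]
    have hd : ∀ g, d g = 1 := by
      intro g
      refine hCV _ fun b hb => ?_
      have hb' : g⁻¹ * b * g ∈ QA := by
        simpa using (inferInstance : QA.Normal).conj_mem b hb g⁻¹
      have h1 : d (b * g) = b • d g := by rw [hdmul, hdQ b hb, one_mul]
      have h2 : d (b * g) = d g := by
        rw [show b * g = g * (g⁻¹ * b * g) by group, hdmul, hdQ _ hb', smul_one, mul_one]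
      rw [← h1, h2]
    have hceq : ∀ g, c g = m * (g • m)⁻¹ := fun g => by
      have := hd g
      simp only [d] at this
      rw [mul_inv_eq_one] at this
      rw [eq_mul_inv_iff_mul_eq, this]
    have hcx : c ⟨x, hxA⟩ = 1 := by
      rw [← hcuniq ⟨x, hxA⟩ 1 (by
        simp only [Subgroup.coe_one, one_mul]
        exact Subgroup.mem_sup_left (Subgroup.mem_zpowers x)), map_one]
    have hcy : c ⟨y, hyA⟩ = π v₀ * ((⟨y, hyA⟩ : ↥A) • π v₀)⁻¹ := by
      rw [← hcuniq ⟨y, hyA⟩ (v₀ * ψ₀ ⟨y, hyA⟩ v₀⁻¹) (by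
        show (v₀ : G) * (y * (v₀ : G)⁻¹ * y⁻¹) * y ∈ B
        rw [show (v₀ : G) * (y * (v₀ : G)⁻¹ * y⁻¹) * y = y' by rw [hy']; group]
        exact Subgroup.mem_sup_right (Subgroup.mem_zpowers y')), map_mul, map_inv, map_inv, hsmul]
    refine ⟨m, π v₀ * m⁻¹, ?_, ?_, by rw [mul_comm m, inv_mul_cancel_right]⟩
    · have := hceq ⟨x, hxA⟩
      rw [hcx, eq_comm, mul_inv_eq_one] at this
      rw [hxb, hsm, ← this]
    · have h1 := hcy.symm.trans (hceq ⟨y, hyA⟩)
      rw [hyb, hsm, smul_mul', smul_inv']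
      rw [mul_inv_eq_mul_inv_iff_mul_eq_mul] at h1 ⊢
      exact (h1.trans (mul_comm _ _)).symm
  refine HalfFixed23.half_pair_false _ H V xb yb p (by
      rcases lt_or_ge p 5 with h | h
      · interval_cases p
        exact absurd (Fact.out : Nat.Prime 4) (by norm_num)
      · exact h) rfl
    ⟨Group.isSolvable_of_surjective act.rangeRestrict_surjective, fun g hg => Subtype.ext
      (MulEquiv.ext fun v => hg v), fun X hX => hirr X fun g v hv => hX (act.rangeRestrict g) v hv,
      ?_, ⟨act.rangeRestrict ⟨a, haA⟩, ?_⟩, ?_, hcap, hprod⟩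
  · have h1 := congrArg (Subgroup.map act.rangeRestrict) hAtop
    rw [MonoidHom.map_closure, Set.image_pair, ← MonoidHom.range_eq_map,
      MonoidHom.range_eq_top_of_surjective _ act.rangeRestrict_surjective] at h1
    exact h1
  · rw [hxb, ← map_inv, ← map_mul, ← map_mul]; rfl
  · rw [hxb, ← map_pow, show (⟨x, hxA⟩ : ↥A) ^ p = 1 from Subtype.ext hxp, map_one]

/-- Let G be a finite group and P a subgroup of prime order p > 3. Consider the solvable subgroups A of G of the form A = ⟨P, aPa⁻¹⟩ for some a ∈ A, and let A be maximal under inclusion among them. Then for every nilpotent subgroup V of G normalized by A, the subgroup F(A)V generated by the Fitting subgroup of A and V is nilpotent. -/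
theorem result {G : Type*} [Group G] [Finite G]
    {p : ℕ} [Fact p.Prime] (hp : 3 < p) (P : Subgroup G) (hP : Nat.card P = p) (A : Subgroup G)
    (hA : Group.IsSolvable ↥A ∧ ∃ a ∈ A, A = P ⊔ P.map (MulAut.conj a).toMonoidHom)
    (hmax : ∀ B : Subgroup G, A ≤ B → Group.IsSolvable ↥B → (∃ b ∈ B, B = P ⊔ P.map (MulAut.conj b).toMonoidHom) → B = A)
    (V : Subgroup G) (hV : Group.IsNilpotent ↥V) (hAV : A ≤ Subgroup.normalizer (V : Set G)) :
    Group.IsNilpotent ↥((Cfsg.fittingSubgroup ↥A).map A.subtype ⊔ V) := by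
  classical
  haveI := hV
  set F := (Cfsg.fittingSubgroup ↥A).map A.subtype
  set J := F ⊔ V with hJ
  let H : (Nat.card G).primeFactors → Subgroup G := fun i =>
    (Cfsg.pCore (i : ℕ) ↥A).map A.subtype ⊔ (Cfsg.pCore (i : ℕ) ↥V).map V.subtype
  have hf : ∀ i : (Nat.card G).primeFactors, Fact (i : ℕ).Prime :=
    fun i => ⟨Nat.prime_of_mem_primeFactors i.2⟩
  have hnorm : ∀ (i : ℕ), A ≤ Subgroup.normalizer (((Cfsg.pCore i ↥V).map V.subtype : Subgroup G) : Set G) := by
    intro i g hg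
    refine Subgroup.mem_normalizer_iff_map_conj_eq.mpr (Subgroup.eq_of_le_of_card_ge ?_
      (Subgroup.card_map_of_injective (MulAut.conj g).injective).ge)
    rintro _ ⟨_, ⟨w, hw, rfl⟩, rfl⟩
    have hmem : ∀ v : ↥V, g * (v : G) * g⁻¹ ∈ V := fun v =>
      (Subgroup.mem_normalizer_iff.mp (hAV hg) v).mp v.2
    let e : ↥V ≃* ↥V :=
      { toFun := fun v => ⟨g * v * g⁻¹, hmem v⟩
        invFun := fun v => ⟨g⁻¹ * v * g, by
          simpa using (Subgroup.mem_normalizer_iff.mp (hAV (inv_mem hg)) v).mp v.2⟩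
        left_inv := fun v => Subtype.ext (by simp [mul_assoc])
        right_inv := fun v => Subtype.ext (by simp [mul_assoc])
        map_mul' := fun v u => Subtype.ext (by simp [mul_assoc]) }
    exact ⟨e w, ((Basics.pCore_characteristic (G := ↥V) i).fixed e).ge hw, rfl⟩
  have hcomm : Pairwise fun i j => ∀ a b : G, a ∈ H i → b ∈ H j → Commute a b := by
    intro i j hij
    have hne : (i : ℕ) ≠ (j : ℕ) := fun h => hij (Subtype.ext h)
    haveI := hf i
    haveI := hf j
    have hle : H i ≤ Subgroup.centralizer (H j : Set G) := by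
      have hqr : ∀ (q r : ℕ) [Fact q.Prime] [Fact r.Prime], q ≠ r →
          (Cfsg.pCore q ↥A).map A.subtype ≤
            Subgroup.centralizer (((Cfsg.pCore r ↥V).map V.subtype : Subgroup G) : Set G) :=
        fun q r _ _ hqr => Subgroup.commutator_eq_bot_iff_le_centralizer.mp
          (cores_commute hp P hP A hA hmax hqr _ ((Basics.pCore_isPGroup r).map _) (hnorm r))
      refine sup_le ?_ ?_ <;> refine Subgroup.le_centralizer_iff.mp (sup_le ?_ ?_)
      · rintro _ ⟨b, hb, rfl⟩
        refine Subgroup.mem_centralizer_iff.mpr ?_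
        rintro _ ⟨c, hc, rfl⟩
        exact congrArg Subtype.val (Basics.commute_pCore hne hc hb).eq
      · exact Subgroup.le_centralizer_iff.mp (hqr i j hne)
      · exact hqr j i hne.symm
      · rintro _ ⟨b, hb, rfl⟩
        refine Subgroup.mem_centralizer_iff.mpr ?_
        rintro _ ⟨c, hc, rfl⟩
        exact congrArg Subtype.val (Basics.commute_pCore hne hc hb).eq
    exact fun a b ha hb => (Subgroup.mem_centralizer_iff.mp (hle ha) b hb).symm
  have hn : ∀ i, Group.IsNilpotent (H i) := fun i => by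
    haveI := hf i
    exact (IsPGroup.to_sup_of_normal_right' ((Basics.pCore_isPGroup (i : ℕ)).map _)
      ((Basics.pCore_isPGroup (i : ℕ)).map _) ((Subgroup.map_subtype_le _).trans (hnorm i))).isNilpotent
  have hrange : (Subgroup.noncommPiCoprod hcomm).range = J := by
    rw [Subgroup.noncommPiCoprod_range, iSup_sup_eq]
    have key : ∀ (K : Subgroup G),
        ⨆ i : (Nat.card G).primeFactors, (Cfsg.pCore (i : ℕ) ↥K).map K.subtype =
          (⨆ i : Nat.Primes, Cfsg.pCore (i : ℕ) ↥K).map K.subtype := by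
      intro K
      rw [Subgroup.map_iSup]
      refine le_antisymm (iSup_le fun i => ?_) (iSup_le fun i => ?_)
      · exact le_iSup (fun q : Nat.Primes => (Cfsg.pCore (q : ℕ) ↥K).map K.subtype)
          ⟨i, Nat.prime_of_mem_primeFactors i.2⟩
      · by_cases hd : (i : ℕ) ∣ Nat.card G
        · exact le_iSup (fun q : (Nat.card G).primeFactors => (Cfsg.pCore (q : ℕ) ↥K).map K.subtype)
            ⟨i, Nat.mem_primeFactors.mpr ⟨i.2, hd, Nat.card_pos.ne'⟩⟩
        · haveI : Fact (i : ℕ).Prime := ⟨i.2⟩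
          rcases (Basics.pCore_isPGroup (G := ↥K) i).card_eq_or_dvd with h | h
          · rw [Subgroup.card_eq_one.mp h, Subgroup.map_bot]; exact bot_le
          · exact absurd ((h.trans (Subgroup.card_subgroup_dvd_card _)).trans
              (Subgroup.card_subgroup_dvd_card K)) hd
    rw [key A, key V, ← Basics.fittingSubgroup_eq_iSup_pCore, hJ]
    congr 1
    have htop : (⊤ : Subgroup ↥V) ≤ ⨆ i : Nat.Primes, Cfsg.pCore (i : ℕ) ↥V :=
      Basics.le_iSup_pCore (Group.nilpotent_of_surjective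
        (f := (Subgroup.topEquiv (G := ↥V)).symm.toMonoidHom)
        (Subgroup.topEquiv (G := ↥V)).symm.surjective)
    rw [top_le_iff.mp htop, ← MonoidHom.range_eq_map, Subgroup.range_subtype]
  rw [← hrange]
  haveI := hn
  exact Group.nilpotent_of_surjective _ (Subgroup.noncommPiCoprod hcomm).rangeRestrict_surjective

end Cfsg.Agent.S3822
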