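import Cfsg.Statements.S3824
import Mathlib
import Cfsg.Agent.Lib.CT.Integral

set_option autoImplicit false
open Cfsg
universe u

namespace Cfsg.Agent.S3824

theorem solvable_of_index : ∀ (n : ℕ) (G : Type u) [Group G] [Finite G], Nat.card G ≤ n →
    ∀ A : Subgroup G, IsMulCommutative A → (∃ k : ℕ, A.index = 2 ^ k) → Group.IsSolvable G := by
  intro n
  induction n with
  | zero => intro G _ _ h; exact absurd h (by have := Nat.card_pos (α := G); omega)
  | succ n ih =>
    intro G _ _ hn A hA hidx
    haveI : Fact (Nat.Prime 2) := ⟨Nat.prime_two⟩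
    obtain ⟨k, hk⟩ := hidx
    by_cases hNex : ∃ N : Subgroup G, N.Normal ∧ N ≠ ⊥ ∧ N ≠ ⊤
    · obtain ⟨N, hN, hN1, hN2⟩ := hNex
      haveI := hN
      have h1 : Nat.card ↥N < Nat.card G := by
        by_contra h
        exact hN2 (Subgroup.eq_top_of_card_eq _ (le_antisymm (Subgroup.card_le_card_group N) (not_lt.mp h)))
      have h2 : Nat.card (G ⧸ N) < Nat.card G := by
        rw [Subgroup.card_eq_card_quotient_mul_card_subgroup N]
        have : 1 < Nat.card ↥N := by
          rw [Subgroup.one_lt_card_iff_ne_bot]; exact hN1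
        exact lt_mul_right Nat.card_pos this
      have hrel : A.relIndex N ∣ A.index := by
        have e : A.relIndex (A ⊔ N) = A.relIndex N := by
          have a1 := Subgroup.relIndex_mul_relIndex (⊥ : Subgroup G) A (A ⊔ N) bot_le le_sup_left
          have a2 := Subgroup.relIndex_mul_relIndex (⊥ : Subgroup G) N (A ⊔ N) bot_le le_sup_right
          have a3 := Subgroup.relIndex_mul_relIndex (⊥ : Subgroup G) (A ⊓ N) A bot_le inf_le_left
          have a4 := Subgroup.relIndex_mul_relIndex (⊥ : Subgroup G) (A ⊓ N) N bot_le inf_le_right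
          simp only [Subgroup.relIndex_bot_left, Subgroup.relIndex_sup_right] at a1 a2 a3 a4
          rw [Subgroup.inf_relIndex_right] at a4
          rw [Subgroup.inf_relIndex_left] at a3
          have hpos : 0 < Nat.card ↥A := Nat.card_pos
          refine Nat.eq_of_mul_eq_mul_left hpos ?_
          rw [a1, ← a2, ← a4, ← a3]; ring
        rw [← e]
        exact ⟨_, (Subgroup.relIndex_mul_index le_sup_left).symm⟩
      have sN : Group.IsSolvable ↥N := by
        refine ih ↥N (by omega) (A.subgroupOf N) ?_ ?_
        · exact IsMulCommutative.of_comm fun a b => Subtype.ext (Subtype.ext (congrArg Subtype.val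
            (hA.is_comm.comm (⟨((a : ↥N) : G), a.2⟩ : ↥A) ⟨((b : ↥N) : G), b.2⟩) :))
        · obtain ⟨j, -, hj⟩ := (Nat.dvd_prime_pow Nat.prime_two).mp (hk ▸ hrel)
          exact ⟨j, hj⟩
      have sQ : Group.IsSolvable (G ⧸ N) := by
        refine ih (G ⧸ N) (by omega) (A.map (QuotientGroup.mk' N)) inferInstance ?_
        obtain ⟨j, -, hj⟩ := (Nat.dvd_prime_pow Nat.prime_two).mp
          (hk ▸ A.index_map_dvd (QuotientGroup.mk'_surjective N))
        exact ⟨j, hj⟩
      haveI := sN
      haveI := sQ
      exact Group.isSolvable_of_ker_le_range N.subtype (QuotientGroup.mk' N) (by simp)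
    · rcases subsingleton_or_nontrivial G with h | h
      · exact Group.isSolvable_of_comm fun a b => Subsingleton.elim _ _
      haveI : IsSimpleGroup G := ⟨fun N hN => by
        by_contra hh; push_neg at hh; exact hNex ⟨N, hN, hh.1, hh.2⟩⟩
      rcases eq_or_ne A ⊥ with rfl | hA1
      · rw [Subgroup.index_bot] at hk
        have hp2 : IsPGroup 2 G := IsPGroup.of_card hk
        haveI := hp2.isNilpotent
        infer_instance
      obtain ⟨a, ha, ha1⟩ := (Subgroup.bot_or_exists_ne_one A).resolve_left hA1
      have hle : A ≤ Subgroup.centralizer ({a} : Set G) := fun b hb =>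
        Subgroup.mem_centralizer_singleton_iff.mpr (congrArg Subtype.val (hA.is_comm.comm ⟨b, hb⟩ ⟨a, ha⟩) :)
      obtain ⟨j, -, hj⟩ := (Nat.dvd_prime_pow Nat.prime_two).mp
        (hk ▸ ⟨_, (Subgroup.relIndex_mul_index hle).symm.trans (mul_comm _ _)⟩ :
          (Subgroup.centralizer ({a} : Set G)).index ∣ 2 ^ k)
      haveI := Fintype.ofFinite G
      have hc := CT.center_eq_top_of_class_prime_pow Nat.prime_two ha1 hj
      exact Group.isSolvable_of_comm fun x y => Subgroup.mem_center_iff.mp (hc ▸ Subgroup.mem_top y) x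

/-- Every finite group having an abelian subgroup whose index is a power of 2 is solvable. -/
theorem result {G : Type*} [Group G] [Finite G]
    (A : Subgroup G) (hA : IsMulCommutative A) (hidx : ∃ k : ℕ, A.index = 2 ^ k) : Group.IsSolvable G := by
  exact solvable_of_index (Nat.card G) G le_rfl A hA hidx

end Cfsg.Agent.S3824
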