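import Cfsg.Statements.S3825
import Mathlib

set_option autoImplicit false
open Cfsg
open scoped commutatorElement

namespace Cfsg.Agent.S3825

/-- Let U be a subgroup of a finite group H and w an involution of H normalizing U and commuting with exactly two elements of U, the identity and y. If V is a non-cyclic elementary abelian 2-subgroup of U containing y which is normal in U and invariant under w, then V is a Sylow 2-subgroup of U, V has order 4, and U/V is abelian. -/
theorem result {H : Type*} [Group H] [Finite H] (U : Subgroup H) (w : H) (hw : orderOf w = 2)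
    (hwU : w ∈ Subgroup.normalizer (U : Set H)) (y : H) (hy : y ≠ 1) (hyU : y ∈ U)
    (hfix : ∀ u ∈ U, w * u * w⁻¹ = u ↔ (u = 1 ∨ u = y))
    (V : Subgroup H) (hVU : V ≤ U) (hVn : (V.subgroupOf U).Normal) (hVw : ∀ v ∈ V, w * v * w⁻¹ ∈ V)
    (hVe : Cfsg.IsElementaryAbelian 2 V) (hVc : ¬ IsCyclic ↥V) (hyV : y ∈ V) :
    ¬ 2 ∣ V.relIndex U ∧ Nat.card ↥V = 4 ∧ ⁅U, U⁆ ≤ V := by
  classical
  obtain ⟨hVab, hV2⟩ := hVe
  have hww : w * w = 1 := by rw [← pow_two, ← hw]; exact pow_orderOf_eq_one w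
  have hwinv : w⁻¹ = w := inv_eq_of_mul_eq_one_right hww
  have hcU : ∀ u ∈ U, w * u * w⁻¹ ∈ U := fun u hu => (Subgroup.mem_normalizer_iff.mp hwU u).mp hu
  have hccV : ∀ v, w * (w * v * w⁻¹) * w⁻¹ = v := fun v => by
    rw [show w * (w * v * w⁻¹) * w⁻¹ = (w * w) * v * (w * w)⁻¹ by group, hww]; group
  -- the elements of `V` inverted by `w`
  have hV : ∀ v ∈ V, w * v * w⁻¹ = v⁻¹ → v = 1 ∨ v = y := by
    intro v hv h
    refine (hfix v (hVU hv)).mp (h.trans (inv_eq_of_mul_eq_one_right ?_))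
    rw [← pow_two, hV2 v hv]
  let f : U →* U :=
    { toFun := fun u => ⟨w * u * w⁻¹, hcU u u.2⟩
      map_one' := Subtype.ext (by simp)
      map_mul' := fun a b => Subtype.ext (by simp only [Subgroup.coe_mul]; group) }
  haveI := hVn
  set N := V.subgroupOf U with hN
  have hcomap : N ≤ N.comap f := fun u hu => hVw u hu
  let φ : U ⧸ N →* U ⧸ N := QuotientGroup.map N N f hcomap
  have hfpf : MonoidHom.FixedPointFree φ := by
    intro g hg
    obtain ⟨u, rfl⟩ := QuotientGroup.mk_surjective g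
    rw [QuotientGroup.map_mk, QuotientGroup.eq] at hg
    have hv : (w * u * w⁻¹)⁻¹ * u ∈ V := hg
    have hv' : ((w * u * w⁻¹)⁻¹ * (u : H))⁻¹ ∈ V := inv_mem hv
    set v := (u : H)⁻¹ * (w * u * w⁻¹) with hvdef
    have hvV : v ∈ V := by rwa [mul_inv_rev, inv_inv] at hv'
    have hu : w * u * w⁻¹ = u * v := by rw [hvdef, mul_inv_cancel_left]
    have hinv : w * v * w⁻¹ = v⁻¹ := by
      have := hccV u
      rw [hu, show w * (u * v) * w⁻¹ = (w * u * w⁻¹) * (w * v * w⁻¹) by group, hu, mul_assoc,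
        mul_eq_left] at this
      exact eq_inv_of_mul_eq_one_right this
    rw [QuotientGroup.eq_one_iff]
    show (u : H) ∈ V
    rcases hV v hvV hinv with h | h
    · rcases (hfix u u.2).mp (by rw [hu, h, mul_one]) with h' | h'
      · rw [h']; exact one_mem _
      · rw [h']; exact hyV
    · -- some element of `V` is moved by `y`
      obtain ⟨v₀, hv₀, hne⟩ : ∃ v₀ ∈ V, w * v₀ * w⁻¹ ≠ v₀ := by
        by_contra hcon
        push_neg at hcon
        apply hVc
        refine ⟨⟨y, hyV⟩, fun v => ?_⟩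
        show v ∈ Subgroup.zpowers (⟨y, hyV⟩ : V)
        rcases (hfix v (hVU v.2)).mp (hcon v v.2) with h0 | h0
        · rw [show v = 1 from Subtype.ext h0]; exact one_mem _
        · rw [show v = ⟨y, hyV⟩ from Subtype.ext h0]; exact Subgroup.mem_zpowers _
      have hcomm : ∀ a ∈ V, ∀ b ∈ V, a * b = b * a := fun a ha b hb =>
        congrArg Subtype.val (mul_comm' (⟨a, ha⟩ : V) ⟨b, hb⟩)
      have hsq : ∀ a ∈ V, a * a = 1 := fun a ha => by rw [← pow_two, hV2 a ha]
      have hv₁ : v₀ * (w * v₀ * w⁻¹) ∈ V := mul_mem hv₀ (hVw _ hv₀)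
      have hy₀ : w * v₀ * w⁻¹ = v₀ * y := by
        have hfx : w * (v₀ * (w * v₀ * w⁻¹)) * w⁻¹ = v₀ * (w * v₀ * w⁻¹) := by
          rw [show w * (v₀ * (w * v₀ * w⁻¹)) * w⁻¹ =
            (w * v₀ * w⁻¹) * (w * (w * v₀ * w⁻¹) * w⁻¹) by group, hccV]
          exact hcomm _ (hVw _ hv₀) _ hv₀
        rcases (hfix _ (hVU hv₁)).mp hfx with h0 | h0
        · exact absurd ((eq_inv_of_mul_eq_one_right h0).trans
            (inv_eq_of_mul_eq_one_right (hsq v₀ hv₀))) hne
        · rw [← h0, ← mul_assoc, hsq v₀ hv₀, one_mul]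
      have hd : w * ((u : H) * v₀⁻¹) * w⁻¹ = (u : H) * v₀⁻¹ := by
        rw [show w * ((u : H) * v₀⁻¹) * w⁻¹ = (w * u * w⁻¹) * (w * v₀ * w⁻¹)⁻¹ by group, hu, hy₀, h,
          mul_inv_rev]
        group
      rcases (hfix _ (mul_mem u.2 (inv_mem (hVU hv₀)))).mp hd with h' | h'
      · rw [mul_inv_eq_one.mp h']; exact hv₀
      · rw [mul_inv_eq_iff_eq_mul.mp h']; exact mul_mem hyV hv₀
  have hinvol : Function.Involutive φ := by
    intro g
    obtain ⟨u, rfl⟩ := QuotientGroup.mk_surjective g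
    rw [QuotientGroup.map_mk, QuotientGroup.map_mk]
    exact congrArg _ (Subtype.ext (hccV u))
  have hodd := hfpf.odd_card_of_involutive hinvol
  refine ⟨?_, ?_, ?_⟩
  · intro hd
    have h2 : 2 ∣ Nat.card (U ⧸ N) := hd
    rw [Nat.odd_iff] at hodd
    omega
  · -- `v ↦ [v, w]` maps `V` onto `{1, y}` with kernel `{1, y}`
    let ψ : V → V := fun v => ⟨(v : H) * (w * v * w⁻¹), mul_mem v.2 (hVw v v.2)⟩
    have hmul : ∀ a b : V, ψ (a * b) = ψ a * ψ b := fun a b => by
      refine Subtype.ext ?_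
      simp only [ψ, Subgroup.coe_mul]
      have hc := congrArg Subtype.val (mul_comm' b ⟨w * a * w⁻¹, hVw a a.2⟩)
      simp only [Subgroup.coe_mul] at hc
      calc (a : H) * b * (w * (a * b) * w⁻¹) = a * (b * (w * a * w⁻¹)) * (w * b * w⁻¹) := by group
        _ = _ := by rw [hc]; group
    let ψ' : V →* V := MonoidHom.mk' ψ hmul
    have hcy : Nat.card (Subgroup.zpowers (⟨y, hyV⟩ : V)) = 2 := by
      rw [Nat.card_zpowers]
      exact orderOf_eq_prime (Subtype.ext (hV2 y hyV)) fun h => hy (congrArg Subtype.val h)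
    have hval : ∀ v : V, w * (v : H) * w⁻¹ = (v : H)⁻¹ →
        v ∈ Subgroup.zpowers (⟨y, hyV⟩ : V) := fun v hv => by
      rcases hV v v.2 hv with h | h
      · rw [show v = 1 from Subtype.ext h]; exact one_mem _
      · rw [show v = ⟨y, hyV⟩ from Subtype.ext h]; exact Subgroup.mem_zpowers _
    have hker : ψ'.ker ≤ Subgroup.zpowers (⟨y, hyV⟩ : V) := fun v hv =>
      hval v (eq_inv_of_mul_eq_one_right (congrArg Subtype.val (MonoidHom.mem_ker.mp hv)))
    have hran : ψ'.range ≤ Subgroup.zpowers (⟨y, hyV⟩ : V) := by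
      rintro _ ⟨v, rfl⟩
      refine hval _ ?_
      show w * ((v : H) * (w * v * w⁻¹)) * w⁻¹ = ((v : H) * (w * v * w⁻¹))⁻¹
      rw [show w * ((v : H) * (w * v * w⁻¹)) * w⁻¹ = (w * v * w⁻¹) * (w * (w * v * w⁻¹) * w⁻¹) by group,
        hccV, inv_eq_of_mul_eq_one_right (show (v : H) * (w * v * w⁻¹) * ((v : H) * (w * v * w⁻¹)) = 1 by
          rw [← pow_two, hV2 _ (mul_mem v.2 (hVw _ v.2))])]
      exact congrArg Subtype.val (mul_comm' (⟨_, hVw _ v.2⟩ : V) v)
    have hle : Nat.card V ≤ 4 := by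
      rw [← Subgroup.card_mul_index ψ'.ker, Subgroup.index_ker]
      exact Nat.mul_le_mul ((Subgroup.card_le_of_le hker).trans hcy.le)
        ((Subgroup.card_le_of_le hran).trans hcy.le)
    have hV2' : IsPGroup 2 V := fun v => ⟨1, Subtype.ext (by simpa using hV2 v v.2)⟩
    obtain ⟨k, hk⟩ := IsPGroup.iff_card.mp hV2'
    rw [hk] at hle ⊢
    have hk2 : k ≤ 2 := (Nat.pow_le_pow_iff_right one_lt_two).mp (hle.trans (by norm_num : (4 : ℕ) ≤ 2 ^ 2))
    interval_cases k
    · exact absurd (by haveI := (Nat.card_eq_one_iff_unique.mp (show Nat.card V = 1 by rw [hk, pow_zero])).1; infer_instance) hVc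
    · exact absurd (isCyclic_of_prime_card (p := 2) (by simpa using hk)) hVc
    · norm_num
  · rw [Subgroup.commutator_le]
    intro a ha b hb
    have := hfpf.commute_all_of_involutive hinvol (QuotientGroup.mk' N ⟨a, ha⟩) (QuotientGroup.mk' N ⟨b, hb⟩)
    have h1 : QuotientGroup.mk' N ⁅(⟨a, ha⟩ : U), ⟨b, hb⟩⁆ = 1 := by
      rw [map_commutatorElement]
      exact commutatorElement_eq_one_iff_mul_comm.mpr this
    exact (QuotientGroup.eq_one_iff ⁅(⟨a, ha⟩ : U), (⟨b, hb⟩ : U)⁆).mp h1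

end Cfsg.Agent.S3825
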