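import Cfsg.Statements.S3835
import Cfsg.Agent.Lib.SL2Dickson.Involve
import Cfsg.Agent.Lib.Basics.Tools

set_option autoImplicit false
open Cfsg

namespace Cfsg.Agent.S3835

open Matrix
open scoped MatrixGroups

variable {p : ℕ}

theorem semidirect_injective :
    Function.Injective (Cfsg.Agent.SL2Dickson.toQd p (MonoidHom.id SL(2, ZMod p))) := by
  intro x y hxy
  have h : ∀ i j, (Cfsg.Agent.SL2Dickson.affine (Multiplicative.toAdd x.left) x.right).1 i j =
      (Cfsg.Agent.SL2Dickson.affine (Multiplicative.toAdd y.left) y.right).1 i j := fun i j =>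
    congrArg (fun M => M.1.1 i j) hxy
  refine SemidirectProduct.ext ?_ ?_
  · refine Multiplicative.toAdd.injective (funext fun i => ?_)
    fin_cases i
    · simpa using h 0 2
    · simpa using h 1 2
  · ext i j
    fin_cases i <;> fin_cases j
    · simpa using h 0 0
    · simpa using h 0 1
    · simpa using h 1 0
    · simpa using h 1 1

/-- The affine permutation representation. -/
def affPerm (p : ℕ) :
    SemidirectProduct (Multiplicative (Fin 2 → ZMod p)) SL(2, ZMod p)
      ((Cfsg.Agent.SL2Dickson.natAut p).comp (MonoidHom.id _)) →*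
      Equiv.Perm (Multiplicative (Fin 2 → ZMod p)) where
  toFun x := (Cfsg.Agent.SL2Dickson.natAut p x.right).toEquiv.trans (Equiv.mulLeft x.left)
  map_one' := by
    ext v : 1
    simp
  map_mul' x y := by
    ext v : 1
    simp [mul_assoc]

theorem affPerm_apply (x : SemidirectProduct (Multiplicative (Fin 2 → ZMod p)) SL(2, ZMod p)
      ((Cfsg.Agent.SL2Dickson.natAut p).comp (MonoidHom.id _))) (v : Multiplicative (Fin 2 → ZMod p)) :
    affPerm p x v = x.left * Cfsg.Agent.SL2Dickson.natAut p x.right v := rfl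

theorem affPerm_injective : Function.Injective (affPerm p) := by
  rw [injective_iff_map_eq_one]
  intro x hx
  have h : ∀ v, x.left * Cfsg.Agent.SL2Dickson.natAut p x.right v = v := fun v => by
    rw [← affPerm_apply, hx]
    rfl
  have hl : x.left = 1 := by
    have := h 1
    rwa [map_one, mul_one] at this
  refine SemidirectProduct.ext (by simpa using hl) ?_
  show x.right = 1
  ext i j
  have h1 := h (Multiplicative.ofAdd (Pi.single j 1))
  rw [hl, one_mul, Cfsg.Agent.SL2Dickson.natAut_apply] at h1
  have h2 := congrFun (Multiplicative.ofAdd.injective h1) i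
  simp [Matrix.mulVec_single] at h2
  rw [h2]
  simp [Matrix.one_apply, Pi.single_apply]

/-- Upper transvection. -/
def upper (p : ℕ) : Multiplicative (ZMod p) →* SL(2, ZMod p) where
  toFun t := ⟨!![1, Multiplicative.toAdd t; 0, 1], by simp⟩
  map_one' := by
    ext i j
    fin_cases i <;> fin_cases j <;> simp
  map_mul' s t := by
    apply Subtype.ext
    show (!![1, Multiplicative.toAdd (s * t); 0, 1] : Matrix (Fin 2) (Fin 2) (ZMod p)) =
      !![1, Multiplicative.toAdd s; 0, 1] * !![1, Multiplicative.toAdd t; 0, 1]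
    ext i j
    fin_cases i <;> fin_cases j <;> simp [Matrix.mul_apply, Fin.sum_univ_two, add_comm]

/-- Lower transvection. -/
def lower (p : ℕ) : Multiplicative (ZMod p) →* SL(2, ZMod p) where
  toFun t := ⟨!![1, 0; Multiplicative.toAdd t, 1], by simp⟩
  map_one' := by
    ext i j
    fin_cases i <;> fin_cases j <;> simp
  map_mul' s t := by
    apply Subtype.ext
    show (!![1, 0; Multiplicative.toAdd (s * t), 1] : Matrix (Fin 2) (Fin 2) (ZMod p)) =
      !![1, 0; Multiplicative.toAdd s, 1] * !![1, 0; Multiplicative.toAdd t, 1]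
    ext i j
    fin_cases i <;> fin_cases j <;> simp [Matrix.mul_apply, Fin.sum_univ_two, add_comm]

theorem upper_coe (t : Multiplicative (ZMod p)) :
    (upper p t).1 = !![1, Multiplicative.toAdd t; 0, 1] := rfl

theorem lower_coe (t : Multiplicative (ZMod p)) :
    (lower p t).1 = !![1, 0; Multiplicative.toAdd t, 1] := rfl

theorem pow_p_eq_one [Fact p.Prime] (v : Multiplicative (ZMod p)) : v ^ p = 1 := by
  apply Multiplicative.toAdd.injective
  simp

theorem units_eq_one (hodd : Odd p) {u : ℤˣ} (h : u ^ p = 1) : u = 1 := by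
  rcases Int.units_eq_one_or u with rfl | rfl
  · rfl
  · rw [hodd.neg_one_pow] at h
    exact h

theorem sl2_hom_trivial [hp : Fact p.Prime] (hodd : Odd p) (f : SL(2, ZMod p) →* ℤˣ) (q) :
    f q = 1 := by
  have hU : ∀ t, f (upper p t) = 1 := fun t => units_eq_one hodd (by
    rw [← map_pow, ← map_pow, pow_p_eq_one, map_one, map_one])
  have hL : ∀ t, f (lower p t) = 1 := fun t => units_eq_one hodd (by
    rw [← map_pow, ← map_pow, pow_p_eq_one, map_one, map_one])
  have key : ∀ q : SL(2, ZMod p), q.1 1 0 ≠ 0 → f q = 1 := by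
    intro q hc
    have hdet : q.1 0 0 * q.1 1 1 - q.1 0 1 * q.1 1 0 = 1 := by
      rw [← Matrix.det_fin_two]
      exact q.2
    have e : q = upper p (Multiplicative.ofAdd ((q.1 0 0 - 1) / q.1 1 0)) *
        lower p (Multiplicative.ofAdd (q.1 1 0)) *
        upper p (Multiplicative.ofAdd ((q.1 1 1 - 1) / q.1 1 0)) := by
      ext i j
      fin_cases i <;> fin_cases j <;>
        simp [upper_coe, lower_coe, Matrix.SpecialLinearGroup.coe_mul, Matrix.mul_apply, Fin.sum_univ_two] <;> field_simp <;>
        first | linear_combination hdet | linear_combination (-1 : ZMod p) * hdet | ring1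
    rw [e, map_mul, map_mul, hU, hL, hU, one_mul, one_mul]
  by_cases hc : q.1 1 0 = 0
  · have ha : q.1 0 0 ≠ 0 := by
      intro ha
      have hdet := q.2
      rw [Matrix.det_fin_two, ha, hc] at hdet
      simp at hdet
    have h := key (lower p (Multiplicative.ofAdd 1) * q) (by
      simp [lower_coe, Matrix.SpecialLinearGroup.coe_mul, Matrix.mul_apply, Fin.sum_univ_two, hc, ha])
    rwa [map_mul, hL, one_mul] at h
  · exact key q hc

theorem sign_affPerm [Fact p.Prime] [NeZero p] (hodd : Odd p) (x) :
    Equiv.Perm.sign (affPerm p x) = 1 := by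
  rw [← SemidirectProduct.inl_left_mul_inr_right x, map_mul, map_mul]
  have h1 : Equiv.Perm.sign (affPerm p (SemidirectProduct.inl x.left)) = 1 := by
    refine units_eq_one hodd ?_
    rw [← map_pow, ← map_pow, ← map_pow]
    have : x.left ^ p = 1 := by
      apply Multiplicative.toAdd.injective
      ext i
      simp
    rw [this, map_one, map_one, map_one]
  have h2 := sl2_hom_trivial hodd
    ((Equiv.Perm.sign.comp (affPerm p)).comp SemidirectProduct.inr) x.right
  rw [h1, show Equiv.Perm.sign (affPerm p (SemidirectProduct.inr x.right)) = 1 from h2, one_mul]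

theorem pgroup_perm_comm {α : Type*} [Finite α] [hp : Fact p.Prime] (hn : Nat.card α < p ^ 2)
    {P : Subgroup (Equiv.Perm α)} (hP : IsPGroup p P) {x y : Equiv.Perm α} (hx : x ∈ P)
    (hy : y ∈ P) : x * y = y * x := by
  refine Equiv.ext fun a => ?_
  set O := MulAction.orbit P a
  obtain ⟨k, hk⟩ := hP.card_orbit a
  have hk1 : k ≤ 1 := by
    by_contra hk1
    have h1 : p ^ k ≤ Nat.card α := hk ▸ Finite.card_subtype_le _
    have h2 : p ^ 2 ≤ p ^ k := Nat.pow_le_pow_right hp.out.pos (by omega)
    omega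
  let f := MulAction.toPermHom P O
  have hR : IsPGroup p f.range := hP.of_surjective f.rangeRestrict f.rangeRestrict_surjective
  obtain ⟨m, hm⟩ := IsPGroup.iff_card.mp hR
  have hm1 : m ≤ 1 := by
    by_contra hm1
    have h1 := Subgroup.card_subgroup_dvd_card f.range
    rw [Nat.card_perm, hm, hk] at h1
    have h2 : p ^ 2 ∣ p.factorial :=
      ((pow_dvd_pow p (by omega : 2 ≤ m)).trans h1).trans
        (Nat.factorial_dvd_factorial (by
          calc p ^ k ≤ p ^ 1 := Nat.pow_le_pow_right hp.out.pos hk1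
            _ = p := pow_one p))
    obtain ⟨q, rfl⟩ := Nat.exists_eq_succ_of_ne_zero hp.out.ne_zero
    rw [Nat.factorial_succ, sq] at h2
    have h3 := (hp.out.dvd_factorial).mp (Nat.dvd_of_mul_dvd_mul_left (Nat.succ_pos q) h2)
    omega
  haveI : IsCyclic f.range := by
    rcases Nat.le_one_iff_eq_zero_or_eq_one.mp hm1 with rfl | rfl
    · haveI : Subsingleton f.range := (Nat.card_eq_one_iff_unique.mp (by rw [hm, pow_zero])).1
      infer_instance
    · exact isCyclic_of_prime_card (by rw [hm, pow_one])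
  have hc : f.rangeRestrict (⟨x, hx⟩ * ⟨y, hy⟩) = f.rangeRestrict (⟨y, hy⟩ * ⟨x, hx⟩) := by
    rw [map_mul, map_mul]
    obtain ⟨g, hg⟩ := IsCyclic.exists_generator (α := f.range)
    obtain ⟨r, hr⟩ := hg (f.rangeRestrict ⟨x, hx⟩)
    obtain ⟨s, hs⟩ := hg (f.rangeRestrict ⟨y, hy⟩)
    rw [← hr, ← hs]
    exact Commute.zpow_zpow_self g r s
  have h := congrArg (fun e : f.range => ((e.1 ⟨a, MulAction.mem_orbit_self a⟩ : O) : α)) hc
  exact h

/-- Let p be an odd prime and n a natural number. The alternating group of degree n has a subgroup isomorphic to Qd(p) (the natural semidirect product of an elementary abelian group of order p² by SL₂(p)) if and only if n ≥ p²; and if n < p² then Qd(p) is not even involved in it. -/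
theorem result {p : ℕ} [Fact p.Prime] (hp : p ≠ 2) (n : ℕ) : ((∃ H : Subgroup (alternatingGroup (Fin n)), Nonempty (↥H ≃* ↥(Cfsg.qd p))) ↔ p ^ 2 ≤ n) ∧ (n < p ^ 2 → ¬ Cfsg.Involves ↥(Cfsg.qd p) ↥(alternatingGroup (Fin n))) := by
  classical
  have hp' : p.Prime := Fact.out
  haveI : NeZero p := ⟨hp'.ne_zero⟩
  have hodd : Odd p := hp'.odd_of_ne_two hp
  have hnot : n < p ^ 2 → ¬ Cfsg.Involves ↥(Cfsg.qd p) ↥(alternatingGroup (Fin n)) := by
    rintro hn ⟨K, R, hR, ⟨e⟩⟩
    let f : K →* ↥(Cfsg.qd p) := e.toMonoidHom.comp (QuotientGroup.mk' _)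
    have hf : Function.Surjective f := e.surjective.comp (QuotientGroup.mk'_surjective _)
    let π : Multiplicative (ZMod p) →* Matrix.SpecialLinearGroup (Fin 2) (ZMod p) := upper p
    let g := Cfsg.Agent.SL2Dickson.toQd p π
    have hE : IsPGroup p g.range := by
      refine IsPGroup.of_surjective ?_ g.rangeRestrict g.rangeRestrict_surjective
      refine IsPGroup.of_card (n := 3) ?_
      rw [SemidirectProduct.card, Nat.card_congr Multiplicative.toAdd,
        Nat.card_congr Multiplicative.toAdd, Nat.card_fun, Nat.card_fin, Nat.card_zmod]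
      ring
    obtain ⟨T, hT⟩ := hE.exists_le_sylow
    obtain ⟨S, hS⟩ := Sylow.mapSurjective_surjective hf p T
    have hcomm : ∀ a ∈ (T : Subgroup ↥(Cfsg.qd p)), ∀ b ∈ (T : Subgroup ↥(Cfsg.qd p)),
        a * b = b * a := by
      rw [show (T : Subgroup ↥(Cfsg.qd p)) = (S : Subgroup K).map f by rw [← hS]; rfl]
      rintro _ ⟨a, ha, rfl⟩ _ ⟨b, hb, rfl⟩
      let ι : K →* Equiv.Perm (Fin n) := (alternatingGroup (Fin n)).subtype.comp K.subtype
      have h := pgroup_perm_comm (p := p) (by rwa [Nat.card_fin]) (S.isPGroup'.map ι)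
        (Subgroup.mem_map_of_mem ι ha) (Subgroup.mem_map_of_mem ι hb)
      rw [← map_mul, ← map_mul] at h ⊢
      exact congrArg f
        ((alternatingGroup (Fin n)).subtype_injective.comp K.subtype_injective h)
    have h := hcomm _ (hT ⟨SemidirectProduct.inl (Multiplicative.ofAdd ![0, 1]), rfl⟩)
      _ (hT ⟨SemidirectProduct.inr (Multiplicative.ofAdd 1), rfl⟩)
    have hg : ∀ x, (g x).1.1 =
        (Cfsg.Agent.SL2Dickson.affine (Multiplicative.toAdd x.left) (upper p x.right)).1 := fun _ => rfl
    have h1 := congrArg (fun M => M.1.1 0 2) h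
    simp [hg, upper_coe, Matrix.SpecialLinearGroup.coe_mul, Matrix.mul_apply, Fin.sum_univ_three] at h1
  refine ⟨⟨fun ⟨H, ⟨e⟩⟩ => ?_, fun hn => ?_⟩, hnot⟩
  · by_contra hlt
    exact hnot (not_le.mp hlt) (Cfsg.Agent.SL2Dickson.involves_of_hom H.subtype H.subtype_injective
      e.toMonoidHom e.surjective)
  · let V := Multiplicative (Fin 2 → ZMod p)
    obtain ⟨ι⟩ : Nonempty (V ↪ Fin n) := by
      refine Function.Embedding.nonempty_of_card_le ?_
      rw [Fintype.card_fin, ← Nat.card_eq_fintype_card, Nat.card_congr Multiplicative.toAdd,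
        Nat.card_fun, Nat.card_fin, Nat.card_zmod]
      exact hn
    let e := (MulEquiv.ofBijective _ ⟨semidirect_injective (p := p),
      Cfsg.Agent.SL2Dickson.toQd_surjective p (MonoidHom.id _) Function.surjective_id⟩).symm
    let φ : ↥(Cfsg.qd p) →* Equiv.Perm (Fin n) :=
      (Equiv.Perm.viaEmbeddingHom ι).comp ((affPerm p).comp e.toMonoidHom)
    have hφ : Function.Injective φ :=
      (Equiv.Perm.viaEmbeddingHom_injective ι).comp (affPerm_injective.comp e.injective)
    have hmem : ∀ M, φ M ∈ alternatingGroup (Fin n) := by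
      intro M
      rw [Equiv.Perm.mem_alternatingGroup]
      convert (Equiv.Perm.sign_extendDomain (affPerm p (e M)) (Equiv.ofInjective ι ι.injective)).trans
        (sign_affPerm hodd (e M)) using 1
      congr 1
      rw [show φ M = Equiv.Perm.viaEmbedding (affPerm p (e M)) ι from rfl, Equiv.Perm.viaEmbedding]
      congr 1
    let φ' := φ.codRestrict (alternatingGroup (Fin n)) hmem
    have hφ' : Function.Injective φ' := fun a b h => hφ (congrArg Subtype.val h)
    exact ⟨φ'.range, ⟨(MonoidHom.ofInjective hφ').symm⟩⟩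

end Cfsg.Agent.S3835
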