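import Cfsg.Statements.S3836
import Cfsg.Agent.Lib.Basics.Cores

set_option autoImplicit false
open Cfsg
open scoped commutatorElement

namespace Cfsg.Agent.S3836

/-- Let G be a finite group that is p-stable in the normalizer form: for every p-subgroup Q and every x ∈ N_G(Q) with [Q, x, x] = 1, the image of x in N_G(Q)/C_G(Q) lies in O_p(N_G(Q)/C_G(Q)). Then every subgroup of G is p-stable in the same sense. -/
theorem result {G : Type*} [Group G] [Finite G] {p : ℕ} [Fact p.Prime] (hst : Cfsg.IsNormalizerPStable p G) (H : Subgroup G) : Cfsg.IsNormalizerPStable p ↥H := by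
  intro P hP g hg hcom
  set P' := P.map H.subtype with hP'
  have hP'p : IsPGroup p P' := hP.map _
  have hnorm : ∀ h : H, h ∈ Subgroup.normalizer (P : Set H) →
      (h : G) ∈ Subgroup.normalizer (P' : Set G) := fun h hh => by
    rw [Subgroup.mem_normalizer_iff]
    intro y
    constructor
    · rintro ⟨z, hz, rfl⟩
      exact ⟨h * z * h⁻¹, (Subgroup.mem_normalizer_iff.mp hh z).mp hz, rfl⟩
    · rintro ⟨z, hz, hze⟩
      refine ⟨h⁻¹ * z * h, (Subgroup.mem_normalizer_iff''.mp hh z).mp hz, ?_⟩
      show (h : G)⁻¹ * (z : G) * h = y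
      rw [show ((z : H) : G) = (h : G) * y * (h : G)⁻¹ from hze]
      group
  have hcom' : ⁅⁅P', Subgroup.zpowers (g : G)⁆, Subgroup.zpowers (g : G)⁆ = ⊥ := by
    rw [hP', show Subgroup.zpowers (g : G) = (Subgroup.zpowers g).map H.subtype from
      (MonoidHom.map_zpowers H.subtype g).symm, ← Subgroup.map_commutator,
      ← Subgroup.map_commutator, hcom, Subgroup.map_bot]
  have hG := hst P' hP'p (g : G) (hnorm g hg) hcom'
  set NH := Subgroup.normalizer (P : Set H)
  set NG := Subgroup.normalizer (P' : Set G)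
  set CH := (Subgroup.centralizer (P : Set H)).subgroupOf NH
  set CG := (Subgroup.centralizer (P' : Set G)).subgroupOf NG
  let ι : NH →* NG := (H.subtype.comp NH.subtype).codRestrict NG fun h => hnorm h h.2
  have hC : CG.comap ι = CH := by
    ext h
    rw [Subgroup.mem_comap]
    show ((h : H) : G) ∈ Subgroup.centralizer (P' : Set G) ↔ (h : H) ∈ Subgroup.centralizer (P : Set H)
    rw [Subgroup.mem_centralizer_iff, Subgroup.mem_centralizer_iff]
    constructor
    · intro h1 z hz
      exact Subtype.ext (h1 z ⟨z, hz, rfl⟩)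
    · rintro h1 _ ⟨z, hz, rfl⟩
      exact congrArg Subtype.val (h1 z hz)
  let f : NH ⧸ CH →* NG ⧸ CG := QuotientGroup.map CH CG ι hC.ge
  have hinj : Function.Injective f := by
    rw [← MonoidHom.ker_eq_bot_iff, eq_bot_iff]
    intro z hz
    obtain ⟨h, rfl⟩ := QuotientGroup.mk_surjective z
    rw [MonoidHom.mem_ker] at hz
    rw [Subgroup.mem_bot, QuotientGroup.eq_one_iff, ← hC, Subgroup.mem_comap,
      ← QuotientGroup.eq_one_iff]
    exact hz
  have hp' : IsPGroup p ((Cfsg.pCore p (NG ⧸ CG)).comap f) :=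
    (Basics.pCore_isPGroup p).comap_of_injective f hinj
  exact Basics.le_pCore hp' hG

end Cfsg.Agent.S3836
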