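import Cfsg.Statements.S3838
import Cfsg.Agent.Lib.Transfer.Tate
import Cfsg.Agent.Lib.Transfer.Abelian
import Cfsg.Agent.Lib.Transfer.Residual
import Cfsg.Agent.Lib.Basics.Frattini
import Cfsg.Agent.Lib.Transfer.Fusion

set_option autoImplicit false
open Cfsg
open scoped commutatorElement

namespace Cfsg.Agent.S3838

open Subgroup in
theorem frattini_comap {A B : Type*} [Group A] [Group B] (e : A ≃* B) :
    frattini A = (frattini B).comap e.toMonoidHom := by
  refine le_antisymm (frattini_le_comap_frattini_of_surjective (φ := e.toMonoidHom) e.surjective) fun x hx => ?_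
  have h := frattini_le_comap_frattini_of_surjective (φ := e.symm.toMonoidHom) e.symm.surjective hx
  simpa using h

/-- A normal `p`-nilpotent subgroup of `p`-power index. -/
theorem hnc_of_normal_pow {X : Type*} [Group X] [Finite X] {p : ℕ} [Fact p.Prime] (N : Subgroup X) [N.Normal]
    (h : Cfsg.HasNormalPComplement p ↥N) {k : ℕ} (hk : N.index = p ^ k) : Cfsg.HasNormalPComplement p X := by
  rw [Transfer.hasNormalPComplement_iff] at h ⊢
  intro hd
  apply h
  refine hd.trans ?_
  rw [← Subgroup.card_map_of_injective N.subtype_injective (K := Cfsg.pResidual p ↥N)]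
  refine Subgroup.card_dvd_of_le ?_
  haveI : ((Cfsg.pResidual p ↥N).map N.subtype).Normal := by
    haveI := Transfer.pResidual_characteristic ↥N p
    exact ConjAct.normal_of_characteristic_of_normal
  obtain ⟨j, hj⟩ := Transfer.exists_index_pResidual_eq_pow (p := p) (G := ↥N)
  refine Transfer.pResidual_le_of_index_eq_pow _ (k := j + k) ?_
  rw [Subgroup.index_map_subtype, hj, hk, pow_add]

/-- Let G be a finite group with Sylow p-subgroup P such that N_G(P) has a normal p-complement. Then N_G(Q) has a normal p-complement for every subgroup Q with [P, P] ≤ Q ≤ Φ(P). -/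
theorem result {G : Type*} [Group G] [Finite G] {p : ℕ} [Fact p.Prime] (P : Sylow p G) (hN : Cfsg.HasNormalPComplement p ↥(Subgroup.normalizer ((P : Subgroup G) : Set G))) (Q : Subgroup G) (h1 : (commutator ↥(P : Subgroup G)).map (P : Subgroup G).subtype ≤ Q) (h2 : Q ≤ (frattini ↥(P : Subgroup G)).map (P : Subgroup G).subtype) : Cfsg.HasNormalPComplement p ↥(Subgroup.normalizer (Q : Set G)) := by
  classical
  set PG := (P : Subgroup G) with hPG
  have hQP : Q ≤ PG := h2.trans (Subgroup.map_subtype_le _)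
  have hPN : PG ≤ Subgroup.normalizer (Q : Set G) := by
    intro x hx
    have key : ∀ c ∈ PG, ∀ y ∈ Q, c * y * c⁻¹ ∈ Q := fun c hc y hy => by
      have hcomm : c * y * c⁻¹ * y⁻¹ ∈ Q := h1 (by
        rw [Subgroup.map_subtype_commutator]
        exact Subgroup.commutator_mem_commutator hc (hQP hy))
      simpa using mul_mem hcomm hy
    refine Subgroup.mem_normalizer_iff.mpr fun y => ⟨fun hy => key x hx y hy, fun hy => ?_⟩
    simpa [mul_assoc] using key x⁻¹ (inv_mem hx) _ hy
  set H := Subgroup.normalizer (Q : Set G) with hH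
  set P' : Sylow p ↥H := P.subtype hPN with hP'
  set Q' := Q.subgroupOf H with hQ'
  haveI : Q'.Normal := Subgroup.normal_subgroupOf_iff_le_normalizer Subgroup.le_normalizer |>.mpr le_rfl
  have hQfr : Q' ≤ (frattini ↥(P' : Subgroup ↥H)).map (P' : Subgroup ↥H).subtype := by
    intro x hx
    have hxP : x ∈ (P' : Subgroup ↥H) := hQP hx
    refine ⟨⟨x, hxP⟩, ?_, rfl⟩
    let e : ↥(P' : Subgroup ↥H) ≃* ↥PG := Subgroup.subgroupOfEquivOfLe hPN
    have hfr : frattini ↥(P' : Subgroup ↥H) = (frattini ↥PG).comap e.toMonoidHom :=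
      frattini_comap e
    rw [hfr]
    obtain ⟨y, hy, hye⟩ := h2 (show (x : G) ∈ Q from hx)
    have : e ⟨x, hxP⟩ = y := Subtype.ext hye.symm
    show e ⟨x, hxP⟩ ∈ frattini ↥PG
    rw [this]; exact hy
  let π := QuotientGroup.mk' Q'
  set Pb : Sylow p (↥H ⧸ Q') := P'.mapSurjective (QuotientGroup.mk'_surjective Q') with hPb
  have hPbeq : (Pb : Subgroup (↥H ⧸ Q')) = (P' : Subgroup ↥H).map π := Sylow.coe_mapSurjective _ _
  have hcomm : ∀ u ∈ (Pb : Subgroup (↥H ⧸ Q')), ∀ v ∈ (Pb : Subgroup (↥H ⧸ Q')), u * v = v * u := by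
    rw [hPbeq]
    rintro _ ⟨a, ha, rfl⟩ _ ⟨b, hb, rfl⟩
    rw [← commutatorElement_eq_one_iff_mul_comm, ← map_commutatorElement]
    refine (QuotientGroup.eq_one_iff _).mpr (Subgroup.mem_subgroupOf.mpr (h1 ?_))
    rw [Subgroup.map_subtype_commutator]
    exact Subgroup.commutator_mem_commutator (H₁ := PG) (H₂ := PG) ha hb
  haveI : IsMulCommutative ↥(Pb : Subgroup (↥H ⧸ Q')) :=
    IsMulCommutative.of_comm fun u v => Subtype.ext (hcomm u u.2 v v.2)
  have hquot : Cfsg.HasNormalPComplement p (↥H ⧸ Q') := by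
    refine Transfer.hasNormalPComplement_of_normalizer_le Pb ?_
    intro nb hnb
    obtain ⟨n, rfl⟩ := QuotientGroup.mk'_surjective Q' nb
    have hnP : n ∈ Subgroup.normalizer ((P' : Subgroup ↥H) : Set ↥H) := by
      have hker : π.ker ≤ (P' : Subgroup ↥H) := by
        rw [QuotientGroup.ker_mk']; exact fun y hy => hQP hy
      rw [← Subgroup.comap_map_eq_self hker]
      have hnb' : π n ∈ Subgroup.normalizer (((Pb : Subgroup (↥H ⧸ Q'))) : Set (↥H ⧸ Q')) := hnb
      rw [hPbeq] at hnb'
      exact Subgroup.le_normalizer_comap π hnb'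
    have hnG : (n : G) ∈ Subgroup.normalizer (PG : Set G) := by
      refine Subgroup.mem_normalizer_iff.mpr fun y => ⟨fun hy => ?_, fun hy => ?_⟩
      · exact (Subgroup.mem_normalizer_iff.mp hnP ⟨y, hPN hy⟩).mp hy
      · have hy' : (n : G) * y * (n : G)⁻¹ ∈ H := hPN hy
        have : y ∈ H := by simpa [mul_assoc] using mul_mem (mul_mem (inv_mem n.2) hy') n.2
        exact (Subgroup.mem_normalizer_iff.mp hnP ⟨y, this⟩).mpr hy
    obtain ⟨a, b, ha, hb, hab, hak, hbc⟩ := Transfer.exists_pPart_mul (p := p) (⟨(n : G), hnG⟩ : ↥(Subgroup.normalizer (PG : Set G)))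
    have haP : (a : G) ∈ PG := Transfer.mem_sylow_of_mem_normalizer P a.2 (by
      obtain ⟨k, hk⟩ := hak
      exact ⟨k, by rwa [Subgroup.orderOf_coe]⟩)
    have hbC : b ∈ Subgroup.centralizer ((PG.subgroupOf (Subgroup.normalizer (PG : Set G)) : Subgroup _) : Set _) := by
      refine Transfer.centralizes_of_hasNormalPComplement hN _ (P.2.comap_subtype) b ?_ hbc
      haveI : (PG.subgroupOf (Subgroup.normalizer (PG : Set G))).Normal := Subgroup.normal_in_normalizer
      rw [Subgroup.mem_normalizer_iff]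
      exact fun y => ⟨fun hy => Subgroup.Normal.conj_mem this y hy b, fun hy => by simpa [mul_assoc] using Subgroup.Normal.conj_mem this _ hy b⁻¹⟩
    rw [Subgroup.mem_centralizer_iff]
    intro u hu
    have hu' : u ∈ (Pb : Subgroup (↥H ⧸ Q')) := hu
    rw [hPbeq] at hu'
    obtain ⟨v, hv, rfl⟩ := hu'
    have hbN : (b : G) ∈ H := by
      have e : (b : G) = (a : G)⁻¹ * n := by
        have := congrArg Subtype.val hab
        simp only [Subgroup.coe_mul] at this
        rw [← this, inv_mul_cancel_left]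
      rw [e]; exact mul_mem (inv_mem (hPN haP)) n.2
    have hn' : n = (⟨(a : G), hPN haP⟩ : ↥H) * ⟨(b : G), hbN⟩ := Subtype.ext (congrArg Subtype.val hab).symm
    have h3 : v * ⟨(b : G), hbN⟩ = ⟨(b : G), hbN⟩ * v := Subtype.ext
      (congrArg Subtype.val (Subgroup.mem_centralizer_iff.mp hbC ⟨(v : G), Subgroup.le_normalizer hv⟩ hv) :)
    have h4 : π v * π ⟨(a : G), hPN haP⟩ = π ⟨(a : G), hPN haP⟩ * π v :=
      hcomm _ hu _ (hPbeq ▸ Subgroup.mem_map_of_mem π haP)
    show π v * π n = π n * π v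
    rw [hn', map_mul, ← mul_assoc, h4, mul_assoc, ← map_mul, h3, map_mul, ← mul_assoc]
  rw [Transfer.hasNormalPComplement_iff] at hquot ⊢
  set R := Cfsg.pResidual p (↥H ⧸ Q') with hR
  haveI : R.Normal := by
    haveI := Transfer.pResidual_characteristic (↥H ⧸ Q') p
    infer_instance
  set N := R.comap π with hNdef
  have hNQ : N ⊓ (P' : Subgroup ↥H) ≤ Q' := by
    rintro x ⟨hx1, hx2⟩
    refine (QuotientGroup.eq_one_iff x).mp (Subgroup.mem_bot.mp ?_)
    rw [← (Transfer.sylow_disjoint_of_coprime Pb R hquot)]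
    first
      | exact ⟨hPbeq ▸ Subgroup.mem_map_of_mem π hx2, hx1⟩
      | exact ⟨hx1, hPbeq ▸ Subgroup.mem_map_of_mem π hx2⟩
  have hNc := Transfer.hasNormalPComplement_of_le_frattini P' N (hNQ.trans hQfr)
  rw [← Transfer.hasNormalPComplement_iff]
  obtain ⟨k, hk⟩ := Transfer.exists_index_pResidual_eq_pow (p := p) (G := ↥H ⧸ Q')
  have hidx : N.index = p ^ k := by
    rw [hNdef, Subgroup.index_comap_of_surjective R (QuotientGroup.mk'_surjective Q'), hk]
  exact hnc_of_normal_pow N hNc hidx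

end Cfsg.Agent.S3838
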