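import Cfsg.Statements.S3839
import Cfsg.Agent.Lib.Transfer.Fusion
import Cfsg.Agent.Lib.Transfer.Residual

set_option autoImplicit false
open Cfsg
open scoped Pointwise commutatorElement

namespace Cfsg.Agent.S3839

open Subgroup

variable {G : Type*} [Group G] [Finite G] {p : ℕ} [Fact p.Prime]

/-- The elements conjugate into `D`. -/
def dset (D : Subgroup G) : Set G := {x | ∃ a : G, a * x * a⁻¹ ∈ D}

theorem exists_conj_le (S : Sylow p G) {W : Subgroup G} (hW : IsPGroup p W) :
    ∃ a : G, ∀ w ∈ W, a * w * a⁻¹ ∈ (S : Subgroup G) := by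
  obtain ⟨R, hR⟩ := hW.exists_le_sylow
  obtain ⟨a, ha⟩ := MulAction.exists_smul_eq G R S
  refine ⟨a, fun w hw => ?_⟩
  rw [← ha, Sylow.coe_subgroup_smul]
  exact Subgroup.smul_mem_pointwise_smul _ (MulAut.conj a) _ (hR hw)

theorem dset_conj {D : Subgroup G} (c x : G) (hx : x ∈ dset D) : c * x * c⁻¹ ∈ dset D := by
  obtain ⟨a, ha⟩ := hx
  exact ⟨a * c⁻¹, by simpa [mul_assoc] using ha⟩

theorem mem_dset_iff {S : Sylow p G} {D : Subgroup G} (hD : Cfsg.IsStronglyClosed D (S : Subgroup G))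
    {a x : G} (hx : a * x * a⁻¹ ∈ (S : Subgroup G)) : x ∈ dset D ↔ a * x * a⁻¹ ∈ D := by
  refine ⟨?_, fun h => ⟨a, h⟩⟩
  rintro ⟨b, hb⟩
  have e : (a * b⁻¹) * (b * x * b⁻¹) * (a * b⁻¹)⁻¹ = a * x * a⁻¹ := by group
  have := hD.2 _ hb (a * b⁻¹) (by rw [e]; exact hx)
  rwa [e] at this

theorem exists_delta {S : Sylow p G} {D : Subgroup G} (hD : Cfsg.IsStronglyClosed D (S : Subgroup G))
    {W : Subgroup G} (hW : IsPGroup p W) : ∃ U : Subgroup G, ∀ x, x ∈ U ↔ x ∈ W ∧ x ∈ dset D := by
  obtain ⟨a, ha⟩ := exists_conj_le S hW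
  refine ⟨W ⊓ D.comap (MulAut.conj a).toMonoidHom, fun x => ?_⟩
  rw [mem_inf, mem_comap]
  exact and_congr_right fun hx => (mem_dset_iff hD (ha x hx)).symm

theorem map_conj_conj (K : Subgroup G) (a b : G) :
    (K.map (MulAut.conj b).toMonoidHom).map (MulAut.conj a).toMonoidHom = K.map (MulAut.conj (a * b)).toMonoidHom := by
  rw [map_map]; congr 1; ext x; simp [mul_assoc]

theorem map_conj_one (K : Subgroup G) : K.map (MulAut.conj (1 : G)).toMonoidHom = K := by
  rw [map_one]; exact map_id K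

theorem le_normalizer_commutator' {W X : Subgroup G} (h : ∀ w ∈ W, w ∈ normalizer (X : Set G)) :
    W ≤ normalizer ((⁅W, X⁆ : Subgroup G) : Set G) := by
  have fwd : ∀ c ∈ W, ∀ z ∈ ⁅W, X⁆, (MulAut.conj c).toMonoidHom z ∈ ⁅W, X⁆ := by
    intro c hc
    have : ⁅W, X⁆ ≤ (⁅W, X⁆ : Subgroup G).comap (MulAut.conj c).toMonoidHom := commutator_le.mpr fun a ha b hb => by
      rw [mem_comap, map_commutatorElement]
      exact commutator_mem_commutator (mul_mem (mul_mem hc ha) (inv_mem hc)) ((mem_normalizer_iff.mp (h c hc) b).mp hb)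
    exact fun z hz => this hz
  intro w hw
  refine mem_normalizer_iff.mpr fun z => ⟨fun hz => fwd w hw z hz, fun hz => ?_⟩
  simpa [mul_assoc] using fwd w⁻¹ (inv_mem hw) _ hz

theorem normalizer_inf_le_normalizer_sup (A B : Subgroup G) :
    normalizer (A : Set G) ⊓ normalizer (B : Set G) ≤ normalizer ((A ⊔ B : Subgroup G) : Set G) := by
  have fwd : ∀ c ∈ normalizer (A : Set G) ⊓ normalizer (B : Set G), ∀ z ∈ A ⊔ B, c * z * c⁻¹ ∈ A ⊔ B := by
    intro c hc
    have : A ⊔ B ≤ (A ⊔ B).comap (MulAut.conj c).toMonoidHom :=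
      sup_le (fun x hx => mem_sup_left ((mem_normalizer_iff.mp (mem_inf.mp hc).1 x).mp hx))
        (fun x hx => mem_sup_right ((mem_normalizer_iff.mp (mem_inf.mp hc).2 x).mp hx))
    exact fun z hz => this hz
  intro w hw
  refine mem_normalizer_iff.mpr fun z => ⟨fun hz => fwd w hw z hz, fun hz => ?_⟩
  simpa [mul_assoc] using fwd w⁻¹ (inv_mem hw) _ hz

theorem commutator_sup_le {T W U : Subgroup G} (hUT : U ≤ T) (hWU : ∀ w ∈ W, w ∈ normalizer (U : Set G)) (hWT : W ≤ T)
    (i : ℕ) : ⁅W, U ⊔ T.lowerCentralSeries i⁆ ≤ U ⊔ T.lowerCentralSeries (i + 1) := by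
  have hnU : ∀ w ∈ W, ∀ u ∈ U, w * u * w⁻¹ * u⁻¹ ∈ U := fun w hw u hu =>
    mul_mem ((mem_normalizer_iff.mp (hWU w hw) u).mp hu) (inv_mem hu)
  set L := T.lowerCentralSeries (i + 1)
  refine commutator_le.mpr fun w hw y hy => ?_
  have hUn : U ≤ normalizer ((T.lowerCentralSeries i : Subgroup G) : Set G) :=
    hUT.trans (T.self_le_normalizer_lowerCentralSeries i)
  rw [← SetLike.mem_coe, coe_mul_of_left_le_normalizer_right U _ hUn] at hy
  obtain ⟨u, hu, l, hl, rfl⟩ := hy
  have h1 : l * w * l⁻¹ * w⁻¹ ∈ L := commutator_mem_commutator hl (hWT hw)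
  have h2 : u * (l * w * l⁻¹ * w⁻¹)⁻¹ * u⁻¹ ∈ L :=
    (mem_normalizer_iff.mp (T.self_le_normalizer_lowerCentralSeries (i + 1) (hUT hu)) _).mp (inv_mem h1)
  have e : ⁅w, u * l⁆ = (w * u * w⁻¹ * u⁻¹) * (u * (l * w * l⁻¹ * w⁻¹)⁻¹ * u⁻¹) := by
    rw [commutatorElement_def]; group
  rw [e]
  exact mul_mem_sup (hnU w hw u hu) h2

theorem exists_fixed {T W V U : Subgroup G} (hT : IsPGroup p ↥T) (hWT : W ≤ T) (hVT : V ≤ T) (hUV : U ≤ V)
    (hne : ¬ V = U) (hWV : ∀ w ∈ W, w ∈ normalizer (V : Set G)) (hWU : ∀ w ∈ W, w ∈ normalizer (U : Set G)) :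
    ∃ x ∈ V, x ∉ U ∧ ∀ w ∈ W, w * x * w⁻¹ * x⁻¹ ∈ U := by
  obtain ⟨X, ⟨hUX, hXV, hXW⟩, hmin⟩ : ∃ X : Subgroup G, (U < X ∧ X ≤ V ∧ ∀ w ∈ W, w ∈ normalizer (X : Set G)) ∧
      ∀ Y : Subgroup G, U < Y → Y ≤ V → (∀ w ∈ W, w ∈ normalizer (Y : Set G)) → Y ≤ X → X ≤ Y := by
    obtain ⟨X, hX, hmin⟩ := Set.Finite.exists_minimal
      (Set.toFinite {X : Subgroup G | U < X ∧ X ≤ V ∧ ∀ w ∈ W, w ∈ normalizer (X : Set G)})
      ⟨V, lt_of_le_of_ne hUV (fun e => hne e.symm), le_rfl, hWV⟩
    exact ⟨X, hX, fun Y h1 h2 h3 h4 => hmin ⟨h1, h2, h3⟩ h4⟩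
  -- `[W, X] U < X`
  set Y := U ⊔ ⁅W, X⁆ with hY
  by_cases hYX : ⁅W, X⁆ ≤ U
  · obtain ⟨x, hx, hxU⟩ := SetLike.exists_of_lt hUX
    refine ⟨x, hXV hx, hxU, fun w hw => hYX ?_⟩
    exact commutator_mem_commutator hw hx
  exfalso
  have hcX : ⁅W, X⁆ ≤ X := commutator_le.mpr fun w hw x hx =>
    mul_mem ((mem_normalizer_iff.mp (hXW w hw) x).mp hx) (inv_mem hx)
  have hYle : Y ≤ X := sup_le hUX.le hcX
  have hYn : ∀ w ∈ W, w ∈ normalizer (Y : Set G) := by
    have hWc : W ≤ normalizer ((⁅W, X⁆ : Subgroup G) : Set G) := le_normalizer_commutator' fun w hw => hXW w hw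
    intro w hw
    have h1 : W ≤ normalizer (U : Set G) ⊓ normalizer ((⁅W, X⁆ : Subgroup G) : Set G) :=
      le_inf (fun w hw => hWU w hw) hWc
    exact normalizer_inf_le_normalizer_sup U ⁅W, X⁆ (h1 hw)
  have hXY : X ≤ Y := hmin Y (lt_of_le_of_ne le_sup_left fun e => hYX (e ▸ le_sup_right)) (hYle.trans hXV) hYn hYle
  -- nilpotency of the `p`-group `T`
  haveI := hT.isNilpotent
  obtain ⟨n, hn⟩ := (isNilpotent_iff_lowerCentralSeries (S := T)).mp inferInstance
  have hind : ∀ i, X ≤ U ⊔ T.lowerCentralSeries i := by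
    intro i
    induction i with
    | zero => exact ((hXV.trans hVT).trans (le_of_eq rfl)).trans le_sup_right
    | succ i ihi =>
      refine hXY.trans (sup_le le_sup_left ?_)
      refine (commutator_mono le_rfl ihi).trans ?_
      exact commutator_sup_le (hUV.trans hVT) hWU hWT i
  have := hind n
  rw [hn, sup_bot_eq] at this
  exact hUX.not_ge this

theorem key (S : Sylow p G) (D : Subgroup G) (hD : Cfsg.IsStronglyClosed D (S : Subgroup G))
    (h : ∀ U : Subgroup G, U ≤ D → D ⊓ centralizer (U : Set G) ≤ U → Cfsg.HasNormalPComplement p ↥(normalizer (U : Set G))) :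
    ∀ m : ℕ, ∀ W : Subgroup G, IsPGroup p W → Nat.card G - Nat.card {x : G // x ∈ W ∧ x ∈ dset D} ≤ m →
      ∀ g ∈ normalizer (W : Set G), (orderOf g).Coprime p → g ∈ centralizer (W : Set G) := by
  intro m
  induction m using Nat.strong_induction_on with
  | _ m ih =>
    intro W hW hm g hg ho
    obtain ⟨a, ha⟩ := exists_conj_le S hW
    obtain ⟨U, hU⟩ := exists_delta hD hW
    have hUW : U ≤ W := fun x hx => ((hU x).mp hx).1
    -- normalizer of `W` normalizes `U`
    have hNU : normalizer (W : Set G) ≤ normalizer (U : Set G) := by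
      intro c hc
      refine mem_normalizer_iff.mpr fun y => ?_
      rw [hU, hU, mem_normalizer_iff.mp hc y]
      refine and_congr_right fun _ => ⟨dset_conj c y, fun hy => ?_⟩
      simpa [mul_assoc] using dset_conj c⁻¹ _ hy
    set f := (MulAut.conj a).toMonoidHom with hf
    set U0 := U.map f with hU0
    have hU0D : U0 ≤ D := by
      rintro _ ⟨x, hx, rfl⟩
      exact (mem_dset_iff hD (ha x ((hU x).mp hx).1)).mp ((hU x).mp hx).2
    by_cases hcen : D ⊓ centralizer (U0 : Set G) ≤ U0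
    · -- centric case
      have hg' : f g ∈ normalizer (U0 : Set G) :=
        le_normalizer_map f ⟨g, hNU hg, rfl⟩
      have hW' : W.map f ≤ normalizer (U0 : Set G) :=
        (map_mono (le_normalizer.trans hNU)).trans (le_normalizer_map f)
      have hfin := Transfer.centralizes_of_hasNormalPComplement (h U0 hU0D hcen)
        ((W.map f).subgroupOf (normalizer (U0 : Set G))) ((hW.map f).comap_subtype) ⟨f g, hg'⟩ ?_ ?_
      · refine mem_centralizer_iff.mpr fun w hw => (MulAut.conj a).injective ?_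
        have := congrArg Subtype.val (mem_centralizer_iff.mp hfin ⟨f w, hW' ⟨w, hw, rfl⟩⟩ ⟨w, hw, rfl⟩)
        simpa [hf, map_mul] using this
      · refine mem_normalizer_iff.mpr fun y => ?_
        exact mem_normalizer_iff.mp (le_normalizer_map f ⟨g, hg, rfl⟩) (y : G)
      · rw [← Subgroup.orderOf_coe]
        show (orderOf (f g)).Coprime p
        rwa [orderOf_injective f (MulAut.conj a).injective g]
    -- an element of the layer above `U`
    set C := (D ⊓ centralizer (U0 : Set G)).comap f with hC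
    have hCnot : ¬ C ≤ U := fun hle => hcen fun x hx => by
      have : (MulAut.conj a).symm x ∈ C := by
        rw [hC, mem_comap, hf, MulEquiv.coe_toMonoidHom, MulEquiv.apply_symm_apply]; exact hx
      exact ⟨_, hle this, by rw [hf, MulEquiv.coe_toMonoidHom, MulEquiv.apply_symm_apply]⟩
    have hCd : ∀ x ∈ C, x ∈ dset D := fun x hx => ⟨a, (mem_inf.mp (mem_comap.mp hx)).1⟩
    have hCU : ∀ x ∈ C, ∀ u ∈ U, x * u = u * x := fun x hx u hu => (MulAut.conj a).injective (by
      rw [map_mul, map_mul]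
      exact (mem_centralizer_iff.mp (mem_inf.mp (mem_comap.mp hx)).2 _ ⟨u, hu, rfl⟩).symm)
    set T := ((S : Subgroup G)).comap f with hT
    have hWT : W ≤ T := fun w hw => ha w hw
    have hCT : C ≤ T := fun x hx => hD.1 (mem_inf.mp (mem_comap.mp hx)).1
    have hTp : IsPGroup p ↥T := S.2.comap_of_injective f (MulAut.conj a).injective
    set V := C ⊔ U with hV
    have hWV : ∀ w ∈ W, w ∈ normalizer (V : Set G) := by
      intro w hw
      have kk : ∀ c ∈ W, ∀ y ∈ V, c * y * c⁻¹ ∈ V := by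
        intro c hc y hy
        have hcomap : V ≤ V.comap (MulAut.conj c).toMonoidHom := by
          refine sup_le (fun x hx => ?_) (fun x hx => ?_)
          · refine mem_sup_left ?_
            rw [hC, mem_comap, mem_inf]
            have e : f ((MulAut.conj c).toMonoidHom x) = f c * f x * (f c)⁻¹ := by simp [hf, mul_assoc]
            have hfc : f c ∈ (S : Subgroup G) := ha c hc
            have hfx := mem_inf.mp (mem_comap.mp hx)
            rw [e]
            refine ⟨hD.2 _ hfx.1 _ (mul_mem (mul_mem hfc (hD.1 hfx.1)) (inv_mem hfc)),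
              mem_centralizer_iff.mpr fun u hu => ?_⟩
            have hn : f c ∈ normalizer (U0 : Set G) := le_normalizer_map f ⟨c, hNU (le_normalizer hc), rfl⟩
            have hu' : (f c)⁻¹ * u * f c ∈ U0 := by
              have := (mem_normalizer_iff.mp (inv_mem hn) u).mp hu
              simpa using this
            have h1 := mem_centralizer_iff.mp hfx.2 _ hu'
            calc u * (f c * f x * (f c)⁻¹) = f c * ((f c)⁻¹ * u * f c * f x) * (f c)⁻¹ := by group
              _ = f c * (f x * ((f c)⁻¹ * u * f c)) * (f c)⁻¹ := by rw [h1]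
              _ = f c * f x * (f c)⁻¹ * u := by group
          · exact mem_sup_right ((mem_normalizer_iff.mp (hNU (le_normalizer hc)) x).mp hx)
        exact hcomap hy
      refine mem_normalizer_iff.mpr fun y => ⟨fun hy => kk w hw y hy, fun hy => ?_⟩
      simpa [mul_assoc] using kk w⁻¹ (inv_mem hw) _ hy
    have hVT : V ≤ T := sup_le hCT (hUW.trans hWT)
    obtain ⟨x, hxV, hxU, hxc⟩ := exists_fixed hTp hWT hVT le_sup_right
      (fun e => hCnot (le_sup_left.trans e.le)) (fun w hw => hWV w hw) (fun w hw => hNU (le_normalizer hw))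
    -- write `x` as an element centralizing `U` times an element of `U`
    have hVdecomp : ∀ y ∈ V, ∃ c ∈ C, ∃ u ∈ U, y = c * u := by
      intro y hy
      have hUn : C ≤ centralizer (U : Set G) := fun c hc =>
        mem_centralizer_iff.mpr fun u hu => (hCU c hc u hu).symm
      rw [hV, ← SetLike.mem_coe, coe_mul_of_left_le_normalizer_right C U (hUn.trans (centralizer_le_normalizer _))] at hy
      obtain ⟨c, hc, u, hu, rfl⟩ := hy
      exact ⟨c, hc, u, hu, rfl⟩
    obtain ⟨c, hc, u, hu, rfl⟩ := hVdecomp x hxV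
    have hcU : c ∉ U := fun h' => hxU (mul_mem h' hu)
    have hcw : ∀ w ∈ W, c * w * c⁻¹ * w⁻¹ ∈ U := by
      intro w hw
      have hn : w ∈ normalizer (U : Set G) := hNU (le_normalizer hw)
      have h1 : w * (c * u) * w⁻¹ * (c * u)⁻¹ ∈ U := hxc w hw
      have hcn : c ∈ normalizer (U : Set G) := centralizer_le_normalizer _
        (mem_centralizer_iff.mpr fun u hu => (hCU c hc u hu).symm)
      have h2 : c * (w * u * w⁻¹) * u⁻¹ * c⁻¹ ∈ U := by
        have := (mem_normalizer_iff.mp hcn _).mp (mul_mem ((mem_normalizer_iff.mp hn u).mp hu) (inv_mem hu))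
        simpa [mul_assoc] using this
      have h3 := mul_mem h2 (inv_mem h1)
      simpa [mul_assoc] using h3
    -- the elements stabilizing `W ≥ U ≥ 1`
    set N := normalizer (W : Set G) with hN
    let St : Subgroup G :=
      { carrier := {s | s ∈ N ∧ (∀ u ∈ U, s * u = u * s) ∧ ∀ w ∈ W, s * w * s⁻¹ * w⁻¹ ∈ U}
        one_mem' := ⟨one_mem _, fun u _ => by simp, fun w _ => by simp⟩
        mul_mem' := fun {s t} hs ht => ⟨mul_mem hs.1 ht.1, fun u hu => by
            rw [mul_assoc, ht.2.1 u hu, ← mul_assoc, hs.2.1 u hu, mul_assoc], fun w hw => by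
            have h1 : s * (t * w * t⁻¹ * w⁻¹) * s⁻¹ ∈ U := by
              rw [hs.2.1 _ (ht.2.2 w hw), mul_inv_cancel_right]; exact ht.2.2 w hw
            have := mul_mem h1 (hs.2.2 w hw)
            simpa [mul_assoc] using this⟩
        inv_mem' := fun {s} hs => ⟨inv_mem hs.1, fun u hu => by
            have := hs.2.1 u hu
            calc s⁻¹ * u = s⁻¹ * (u * s) * s⁻¹ := by group
              _ = s⁻¹ * (s * u) * s⁻¹ := by rw [this]
              _ = u * s⁻¹ := by group, fun w hw => by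
            have h1 := inv_mem (hs.2.2 w hw)
            have h2 := hs.2.1 _ h1
            have e : s⁻¹ * w * s⁻¹⁻¹ * w⁻¹ = s⁻¹ * (s * w * s⁻¹ * w⁻¹)⁻¹ * s := by group
            rw [e]
            rwa [mul_assoc, ← h2, inv_mul_cancel_left]⟩ }
    have hcSt : c ∈ St := ⟨mem_normalizer_iff.mpr fun w => by
        constructor
        · intro hw
          have := mul_mem (hUW (hcw w hw)) hw
          simpa using this
        · intro hw
          obtain ⟨k, hk⟩ := (isOfFinOrder_of_finite c).mem_powers_iff_mem_zpowers.mpr (inv_mem (mem_zpowers c))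
          have hk' : c ^ k = c⁻¹ := hk
          have key : ∀ (j : ℕ) (y : G), y ∈ W → c ^ j * y * (c ^ j)⁻¹ ∈ W := by
            intro j
            induction j with
            | zero => intro y hy; simpa using hy
            | succ j ihj =>
              intro y hy
              have := mul_mem (hUW (hcw _ (ihj y hy))) (ihj y hy)
              simpa [pow_succ', mul_assoc] using this
          have := key k _ hw
          rw [hk'] at this
          simpa [mul_assoc] using this, hCU c hc, hcw⟩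
    set SW := St ⊔ W with hSW
    have hStN : St ≤ N := fun s hs => hs.1
    have hWN : W ≤ N := le_normalizer
    have hWnSt : ∀ n ∈ N, ∀ s ∈ St, n * s * n⁻¹ ∈ St := by
      intro n hn s hs
      have hnU := hNU hn
      refine ⟨mul_mem (mul_mem hn hs.1) (inv_mem hn), fun u hu => ?_, fun w hw => ?_⟩
      · have hu' : n⁻¹ * u * n ∈ U := by simpa using (mem_normalizer_iff.mp (inv_mem hnU) u).mp hu
        calc n * s * n⁻¹ * u = n * (s * (n⁻¹ * u * n)) * n⁻¹ := by group
          _ = n * ((n⁻¹ * u * n) * s) * n⁻¹ := by rw [hs.2.1 _ hu']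
          _ = u * (n * s * n⁻¹) := by group
      · have hw' : n⁻¹ * w * n ∈ W := by simpa using (mem_normalizer_iff.mp (inv_mem hn) w).mp hw
        have := (mem_normalizer_iff.mp hnU _).mp (hs.2.2 _ hw')
        simpa [mul_assoc] using this
    -- every element of `SW` acts on `W` as a `p`-element
    have hSWact : ∀ y ∈ SW, ∃ k : ℕ, ∀ w ∈ W, y ^ p ^ k * w = w * y ^ p ^ k := by
      intro y hy
      have hWnorm : W ≤ normalizer (St : Set G) := fun w hw => mem_normalizer_iff.mpr fun s => ⟨fun hs => hWnSt w (hWN hw) s hs,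
        fun hs => by simpa [mul_assoc] using hWnSt w⁻¹ (inv_mem (hWN hw)) _ hs⟩
      rw [hSW, sup_comm, ← SetLike.mem_coe, coe_mul_of_left_le_normalizer_right W St hWnorm] at hy
      obtain ⟨w0, hw0, s, hs, rfl⟩ := hy
      obtain ⟨j, hj⟩ := hW ⟨w0, hw0⟩
      have hj' : w0 ^ p ^ j = 1 := by simpa [Subtype.ext_iff] using hj
      have hpow : ∀ i : ℕ, ∃ t ∈ St, (w0 * s) ^ i = w0 ^ i * t := by
        intro i
        induction i with
        | zero => exact ⟨1, one_mem _, by simp⟩
        | succ i ihi =>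
          obtain ⟨t, ht, e⟩ := ihi
          refine ⟨w0⁻¹ * t * w0 * s, mul_mem ?_ hs, ?_⟩
          · simpa using hWnSt w0⁻¹ (inv_mem (hWN hw0)) t ht
          · rw [pow_succ, e, pow_succ]; group
      obtain ⟨t, ht, e⟩ := hpow (p ^ j)
      rw [hj', one_mul] at e
      obtain ⟨k, hk⟩ := IsPGroup.iff_card.mp (hW.to_le hUW)
      refine ⟨j + k, fun w hw => ?_⟩
      rw [pow_add, pow_mul, e]
      set u0 := t * w * t⁻¹ * w⁻¹ with hu0
      have hu0U : u0 ∈ U := ht.2.2 w hw
      have hstep : ∀ i : ℕ, t ^ i * w = u0 ^ i * w * t ^ i := by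
        intro i
        induction i with
        | zero => simp
        | succ i ihi =>
          have hc' : Commute t (u0 ^ i) := Commute.pow_right (ht.2.1 u0 hu0U) i
          rw [pow_succ', mul_assoc, ihi, ← mul_assoc, ← mul_assoc, hc'.eq, mul_assoc (u0 ^ i) t w,
            show t * w = u0 * w * t by rw [hu0]; group, pow_succ u0]
          group
      have hu1 : u0 ^ p ^ k = 1 := orderOf_dvd_iff_pow_eq_one.mp (hk ▸ U.orderOf_dvd_natCard hu0U)
      rw [hstep, hu1, one_mul]
    -- a Sylow subgroup of `SW` on `W` and `c`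
    have hWc : IsPGroup p ↥(W ⊔ zpowers c) := hTp.to_le (sup_le hWT (zpowers_le.mpr (hCT hc)))
    have hle : W ⊔ zpowers c ≤ SW := sup_le le_sup_right ((zpowers_le.mpr hcSt).trans le_sup_left)
    obtain ⟨R, hR⟩ := (hWc.comap_subtype (K := SW)).exists_le_sylow
    set RG := (R : Subgroup ↥SW).map SW.subtype with hRG
    have hWR : W ⊔ zpowers c ≤ RG := fun y hy => ⟨⟨y, hle hy⟩, hR (mem_comap.mpr hy), rfl⟩
    have hRp : IsPGroup p ↥RG := R.2.map _
    have hlt : Nat.card G - Nat.card {y : G // y ∈ RG ∧ y ∈ dset D} < m := by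
      have h1 : Nat.card {y : G // y ∈ W ∧ y ∈ dset D} < Nat.card {y : G // y ∈ RG ∧ y ∈ dset D} := by
        rw [← Set.coe_setOf, ← Set.coe_setOf, Nat.card_coe_set_eq, Nat.card_coe_set_eq]
        refine Set.ncard_lt_ncard ⟨fun y hy => ⟨hWR (mem_sup_left hy.1), hy.2⟩, fun hsub => ?_⟩ (Set.toFinite _)
        exact hcU ((hU c).mpr (hsub ⟨hWR (mem_sup_right (mem_zpowers c)), hCd c hc⟩))
      have h2 : Nat.card {y : G // y ∈ RG ∧ y ∈ dset D} ≤ Nat.card G := Finite.card_subtype_le _
      omega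
    have hcen' := ih _ hlt RG hRp le_rfl
    -- Frattini argument
    have hSWn : ∀ n ∈ N, ∀ y ∈ SW, n * y * n⁻¹ ∈ SW := by
      intro n hn
      have : SW ≤ SW.comap (MulAut.conj n).toMonoidHom := sup_le (fun s hs => mem_sup_left (hWnSt n hn s hs))
        (fun w hw => mem_sup_right ((mem_normalizer_iff.mp hn w).mp hw))
      exact fun y hy => this hy
    haveI : (SW.subgroupOf N).Normal := ⟨fun y hy n => hSWn n n.2 y hy⟩
    have hgR : ∃ s ∈ SW, s⁻¹ * g ∈ normalizer (RG : Set G) := by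
      have hinj : Function.Injective SW.subtype := SW.subtype_injective
      let φ : ↥SW ≃* ↥SW :=
        { toFun := fun y => ⟨g * y * g⁻¹, hSWn g hg y y.2⟩
          invFun := fun y => ⟨g⁻¹ * y * g, by simpa using hSWn g⁻¹ (inv_mem hg) y y.2⟩
          left_inv := fun y => Subtype.ext (by simp [mul_assoc])
          right_inv := fun y => Subtype.ext (by simp [mul_assoc])
          map_mul' := fun y z => Subtype.ext (by simp [mul_assoc]) }
      obtain ⟨s, hs⟩ := MulAction.exists_smul_eq ↥SW R (R.mapSurjective (f := φ.toMonoidHom) φ.surjective)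
      have hs' := congrArg (fun P : Sylow p ↥SW => (P : Subgroup ↥SW)) hs
      simp only [Sylow.coe_subgroup_smul, Sylow.coe_mapSurjective] at hs'
      have h1 : RG.map (MulAut.conj (s : G)).toMonoidHom = RG.map (MulAut.conj g).toMonoidHom := by
        have hs2 : (R : Subgroup ↥SW).map (MulAut.conj s).toMonoidHom = (R : Subgroup ↥SW).map φ.toMonoidHom := hs'
        have h2 := congrArg (Subgroup.map SW.subtype) hs2
        rw [map_map, map_map] at h2
        rw [hRG, map_map, map_map]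
        exact h2
      have h3 : RG.map (MulAut.conj ((s : G)⁻¹ * g)).toMonoidHom = RG := by
        have h4 := congrArg (Subgroup.map (MulAut.conj (s : G)⁻¹).toMonoidHom) h1
        calc RG.map (MulAut.conj ((s : G)⁻¹ * g)).toMonoidHom
            = (RG.map (MulAut.conj g).toMonoidHom).map (MulAut.conj (s : G)⁻¹).toMonoidHom := by
              exact (map_conj_conj RG _ _).symm
          _ = (RG.map (MulAut.conj (s : G)).toMonoidHom).map (MulAut.conj (s : G)⁻¹).toMonoidHom := h4.symm
          _ = RG := by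
              rw [map_conj_conj, inv_mul_cancel, map_conj_one]
      refine ⟨s, s.2, mem_normalizer_iff.mpr fun y => ?_⟩
      conv_rhs => rw [← h3]
      exact ⟨fun hy => ⟨y, hy, rfl⟩, fun ⟨z, hz, e⟩ => (MulAut.conj ((s : G)⁻¹ * g)).injective e ▸ hz⟩
    obtain ⟨s, hs, hn⟩ := hgR
    set n := s⁻¹ * g with hn'
    obtain ⟨a', b', ha', hb', hab, hak, hbc⟩ := Transfer.exists_pPart_mul (p := p) n
    have hbn : b' ∈ normalizer (RG : Set G) := zpowers_le.mpr hn hb'
    have hb_cen : b' ∈ centralizer (W : Set G) :=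
      centralizer_le (fun w hw => hWR (mem_sup_left hw)) (hcen' b' hbn hbc)
    -- `g` lies in `SW` times elements acting trivially
    let φW : ↥N →* MulAut ↥W := W.normalizerMonoidHom
    have hnN : n ∈ N := mul_mem (inv_mem (sup_le hStN hWN hs)) hg
    have hbN : b' ∈ N := zpowers_le.mpr hnN hb'
    have haN : a' ∈ N := zpowers_le.mpr hnN ha'
    have hb1 : φW ⟨b', hbN⟩ = 1 := MulEquiv.ext fun w => Subtype.ext
      (show b' * (w : G) * b'⁻¹ = w by
        rw [← mem_centralizer_iff.mp hb_cen w w.2, mul_inv_cancel_right])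
    set Z := SW.subgroupOf N ⊔ φW.ker with hZ
    let π := QuotientGroup.mk' Z
    have hπ : π ⟨g, hg⟩ = π ⟨a', haN⟩ := by
      have e : (⟨g, hg⟩ : ↥N) = ⟨s, sup_le hStN hWN hs⟩ * (⟨a', haN⟩ * ⟨b', hbN⟩) := Subtype.ext (by
        show g = s * (a' * b')
        rw [hab, hn', mul_inv_cancel_left])
      rw [e, map_mul, map_mul]
      rw [show π ⟨s, sup_le hStN hWN hs⟩ = 1 from (QuotientGroup.eq_one_iff _).mpr
          (mem_sup_left (mem_subgroupOf.mpr hs)),
        show π ⟨b', hbN⟩ = 1 from (QuotientGroup.eq_one_iff _).mpr (mem_sup_right (MonoidHom.mem_ker.mpr hb1)),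
        one_mul, mul_one]
    have hgZ : (⟨g, hg⟩ : ↥N) ∈ Z := by
      refine (QuotientGroup.eq_one_iff _).mp (Transfer.eq_one_of_pow_of_coprime (p := p) ?_ ?_)
      · obtain ⟨k, hk⟩ := hak
        refine ⟨k, (orderOf_dvd_of_pow_eq_one ?_)⟩
        have : (⟨a', haN⟩ : ↥N) ^ p ^ k = 1 := Subtype.ext (orderOf_dvd_iff_pow_eq_one.mp hk)
        show (π ⟨g, hg⟩) ^ p ^ k = 1
        rw [hπ, ← map_pow, this, map_one]
      · exact Nat.Coprime.coprime_dvd_left ((orderOf_map_dvd π _).trans (Subgroup.orderOf_mk g hg).dvd) ho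
    rw [hZ, ← SetLike.mem_coe, mul_normal] at hgZ
    obtain ⟨y, hy, z, hz, hyz⟩ := hgZ
    have hφ : φW ⟨g, hg⟩ = φW y := by
      rw [← hyz]
      show φW (y * z) = φW y
      rw [map_mul, MonoidHom.mem_ker.mp hz, mul_one]
    obtain ⟨k, hk⟩ := hSWact y (mem_subgroupOf.mp hy)
    have h1 : φW ⟨g, hg⟩ = 1 := by
      refine Transfer.eq_one_of_pow_of_coprime (p := p) ⟨k, orderOf_dvd_of_pow_eq_one ?_⟩
        (Nat.Coprime.coprime_dvd_left ((orderOf_map_dvd φW _).trans (Subgroup.orderOf_mk g hg).dvd) ho)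
      rw [hφ, ← map_pow]
      refine MulEquiv.ext fun w => Subtype.ext ?_
      show ((y ^ p ^ k : ↥N) : G) * w * ((y ^ p ^ k : ↥N) : G)⁻¹ = w
      rw [SubmonoidClass.coe_pow, hk w w.2, mul_inv_cancel_right]
    refine mem_centralizer_iff.mpr fun w hw => ?_
    have h2' := congrArg (fun z : ↥W => (z : G)) (DFunLike.congr_fun h1 (⟨w, hw⟩ : ↥W))
    have h2 : g * w * g⁻¹ = w := h2'
    exact (mul_inv_eq_iff_eq_mul.mp h2).symm

/-- A Frobenius normal p-complement criterion relative to a strongly closed subgroup. Let G be a finite group, S a Sylow p-subgroup and D a subgroup of S strongly closed in S with respect to G. Then G has a normal p-complement if and only if N_G(U) has a normal p-complement for every subgroup U of D with C_D(U) ≤ U. -/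
theorem result {G : Type*} [Group G] [Finite G] {p : ℕ} [Fact p.Prime] (S : Sylow p G) (D : Subgroup G) (hD : Cfsg.IsStronglyClosed D (S : Subgroup G)) : Cfsg.HasNormalPComplement p G ↔ ∀ U : Subgroup G, U ≤ D → D ⊓ Subgroup.centralizer (U : Set G) ≤ U → Cfsg.HasNormalPComplement p ↥(Subgroup.normalizer (U : Set G)) := by
  classical
  constructor
  · intro h U _ _
    exact Transfer.hasNormalPComplement_subgroup _ h
  intro h
  refine Transfer.hasNormalPComplement_of_frobenius fun W hW g hg ho => ?_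
  exact key S D hD h (Nat.card G) W hW (Nat.sub_le _ _) g hg ho

end Cfsg.Agent.S3839
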