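import Cfsg.Statements.S3857
import Cfsg.Agent.Lib.Basics.ThompsonFpf
import Cfsg.Agent.Lib.Basics.Cores
import Cfsg.Agent.Lib.OddLocal.CNFpf
import Cfsg.Agent.Lib.Transfer.Hall

set_option autoImplicit false
open Cfsg
open scoped Pointwise
open scoped commutatorElement

namespace Cfsg.Agent.S3857

theorem dvd_of_orderOf {G : Type*} [Group G] {g : G} {n m : ℕ} (hg : orderOf g = n) (hm : m ∣ n) :
    m ∣ Nat.card G :=
  hm.trans (hg ▸ orderOf_dvd_natCard g)

theorem fitting_one_sided {G : Type*} [Group G] [Finite G] {A : Set ℕ}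
    (hA : ∀ a ∈ A, ∀ b ∉ A, a.Prime → b.Prime → a ∣ Nat.card G → b ∣ Nat.card G →
      ¬ ∃ g : G, orderOf g = a * b) {a b : ℕ} (ha : a.Prime) (hb : b.Prime) (haA : a ∈ A) (hbA : b ∉ A)
    (had : a ∣ Nat.card (Cfsg.fittingSubgroup G)) (hbd : b ∣ Nat.card (Cfsg.fittingSubgroup G)) :
    False := by
  haveI := Fact.mk ha
  haveI := Fact.mk hb
  obtain ⟨x, hx⟩ := exists_prime_orderOf_dvd_card' a had
  obtain ⟨y, hy⟩ := exists_prime_orderOf_dvd_card' b hbd
  have hne : a ≠ b := fun h => hbA (h ▸ haA)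
  have hcop : (orderOf x).Coprime (orderOf y) := by
    rw [hx, hy]
    exact (Nat.coprime_primes ha hb).mpr hne
  have hc : Commute x y := Cfsg.Agent.Transfer.commute_of_coprime_of_nilpotent hcop
  refine hA a haA b hbA ha hb (had.trans (Subgroup.card_subgroup_dvd_card _))
    (hbd.trans (Subgroup.card_subgroup_dvd_card _)) ⟨((x * y : Cfsg.fittingSubgroup G) : G), ?_⟩
  rw [Subgroup.orderOf_coe, hc.orderOf_mul_eq_mul_orderOf_of_coprime hcop, hx, hy]

/-- No element has order a product of two primes on different sides. -/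
def Sep (s : ℕ → Prop) (G : Type*) [Group G] : Prop :=
  ∀ r r' : ℕ, r.Prime → r'.Prime → s r → ¬ s r' → ∀ g : G, orderOf g ≠ r * r'

theorem Sep.quotient {s : ℕ → Prop} {G : Type*} [Group G] [Finite G] (h : Sep s G)
    (N : Subgroup G) [N.Normal] : Sep s (G ⧸ N) := by
  intro r r' hr hr' hs hs' g hg
  obtain ⟨g, rfl⟩ := QuotientGroup.mk_surjective g
  have hd : r * r' ∣ orderOf g := hg ▸ orderOf_map_dvd (QuotientGroup.mk' N) g
  exact h r r' hr hr' hs hs' (g ^ (orderOf g / (r * r')))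
    (orderOf_pow_orderOf_div (orderOf_pos g).ne' hd)

theorem Sep.not_commute {s : ℕ → Prop} {G : Type*} [Group G] [Finite G] (h : Sep s G) {x y : G}
    (hx : x ≠ 1) (hy : y ≠ 1) (hsx : ∀ r : ℕ, r.Prime → r ∣ orderOf x → s r)
    (hsy : ∀ r : ℕ, r.Prime → r ∣ orderOf y → ¬ s r) : ¬ Commute x y := by
  intro hc
  have hx' : orderOf x ≠ 1 := fun e => hx (orderOf_eq_one_iff.mp e)
  have hy' : orderOf y ≠ 1 := fun e => hy (orderOf_eq_one_iff.mp e)
  set r := (orderOf x).minFac
  set r' := (orderOf y).minFac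
  have hr : r.Prime := Nat.minFac_prime hx'
  have hr' : r'.Prime := Nat.minFac_prime hy'
  have hs := hsx r hr (Nat.minFac_dvd _)
  have hs' := hsy r' hr' (Nat.minFac_dvd _)
  have h1 : orderOf (x ^ (orderOf x / r)) = r :=
    orderOf_pow_orderOf_div (orderOf_pos x).ne' (Nat.minFac_dvd _)
  have h2 : orderOf (y ^ (orderOf y / r')) = r' :=
    orderOf_pow_orderOf_div (orderOf_pos y).ne' (Nat.minFac_dvd _)
  refine h r r' hr hr' hs hs' (x ^ (orderOf x / r) * y ^ (orderOf y / r')) ?_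
  rw [(hc.pow_pow _ _).orderOf_mul_eq_mul_orderOf_of_coprime, h1, h2]
  rw [h1, h2]
  exact (Nat.coprime_primes hr hr').mpr fun e => hs' (e ▸ hs)

/-- A complement acting without fixed points is a Frobenius complement. -/
theorem frob {M : Type*} [Group M] [Finite M] (N C : Subgroup M) [N.Normal]
    (hcompl : Subgroup.IsComplement' N C) (hN : N ≠ ⊥) (hC : C ≠ ⊥)
    (hfree : ∀ c ∈ C, c ≠ 1 → ∀ n ∈ N, c * n = n * c → n = 1) :
    Cfsg.IsFrobeniusComplement C ∧ Cfsg.frobeniusKernel C = (N : Set M) := by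
  have hdisj : ∀ z, z ∈ N → z ∈ C → z = 1 := fun z h1 h2 =>
    Subgroup.mem_bot.mp (hcompl.disjoint.eq_bot ▸ Subgroup.mem_inf.mpr ⟨h1, h2⟩)
  have hdec : ∀ g : M, ∃ n ∈ N, ∃ c ∈ C, g = n * c := fun g => by
    obtain ⟨⟨n, c⟩, h⟩ := hcompl.surjective g
    exact ⟨n, n.2, c, c.2, h.symm⟩
  refine ⟨⟨hC, fun h => hN ?_, fun g hg => ?_⟩, Set.ext fun y => ⟨fun hy => ?_, fun hy => ?_⟩⟩
  · rw [eq_bot_iff]
    intro z hz
    exact hdisj z hz (h ▸ Subgroup.mem_top z)
  · obtain ⟨n, hn, c, hc, rfl⟩ := hdec g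
    rw [eq_bot_iff]
    intro y hy
    obtain ⟨hy1, hy2⟩ := Subgroup.mem_inf.mp hy
    rw [Cfsg.Agent.Basics.mem_conj_smul] at hy2
    set d := c * ((n * c)⁻¹ * y * (n * c)) * c⁻¹ with hd
    have hdC : d ∈ C := mul_mem (mul_mem hc hy2) (inv_mem hc)
    have hyd : y = n * d * n⁻¹ := by
      rw [hd]
      group
    have h1 : y * d⁻¹ ∈ N := by
      rw [hyd, show n * d * n⁻¹ * d⁻¹ = n * (d * n⁻¹ * d⁻¹) by group]
      exact mul_mem hn (‹N.Normal›.conj_mem _ (inv_mem hn) d)
    have h2 : y = d := mul_inv_eq_one.mp (hdisj _ h1 (mul_mem hy1 (inv_mem hdC)))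
    rw [Subgroup.mem_bot]
    by_contra hne
    apply hg
    have h3 : n = 1 := by
      refine hfree d hdC (fun h => hne (h2.trans h)) n hn ?_
      have h4 := hyd
      rw [h2] at h4
      calc d * n = (n * d * n⁻¹) * n := by rw [← h4]
        _ = n * d := by group
    rw [h3, one_mul]
    exact hc
  · by_contra hyN
    rcases hy with rfl | hy
    · exact hyN (one_mem N)
    obtain ⟨n, hn, c, hc, rfl⟩ := hdec y
    have hc1 : c ≠ 1 := by
      rintro rfl
      rw [mul_one] at hyN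
      exact hyN hn
    let f : N → N := fun m =>
      ⟨(m : M)⁻¹ * (c * m * c⁻¹), mul_mem (inv_mem m.2) (‹N.Normal›.conj_mem _ m.2 c)⟩
    have hinj : Function.Injective f := by
      intro m m' e
      have e' : (m : M)⁻¹ * (c * m * c⁻¹) = (m' : M)⁻¹ * (c * m' * c⁻¹) := congrArg Subtype.val e
      have h1 : (m' : M) * (m : M)⁻¹ = 1 := by
        refine hfree c hc hc1 _ (mul_mem m'.2 (inv_mem m.2)) ?_
        calc c * ((m' : M) * (m : M)⁻¹)
            = (m' : M) * ((m' : M)⁻¹ * (c * m' * c⁻¹)) * c * (m : M)⁻¹ := by group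
          _ = (m' : M) * ((m : M)⁻¹ * (c * m * c⁻¹)) * c * (m : M)⁻¹ := by rw [e']
          _ = (m' : M) * (m : M)⁻¹ * c := by group
      exact Subtype.ext (mul_inv_eq_one.mp h1).symm
    obtain ⟨m, hm⟩ := Finite.injective_iff_surjective.mp hinj ⟨n, hn⟩
    refine hy (m : M)⁻¹ ?_
    rw [Cfsg.Agent.Basics.mem_conj_smul, show n = (m : M)⁻¹ * (c * m * c⁻¹) from
      (congrArg Subtype.val hm).symm]
    simpa [mul_assoc] using hc
  · by_cases hy1 : y = 1
    · exact Or.inl hy1
    refine Or.inr fun g hg => hy1 ?_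
    rw [Cfsg.Agent.Basics.mem_conj_smul] at hg
    have := hdisj _ (by simpa using ‹N.Normal›.conj_mem y hy g⁻¹) hg
    have h2 : y = g * (g⁻¹ * y * g) * g⁻¹ := by group
    rw [h2, this]
    group

theorem core {G : Type*} [Group G] [Finite G] [Group.IsSolvable G] {s : ℕ → Prop} (hsep : Sep s G)
    (hb : ∃ b : ℕ, b.Prime ∧ ¬ s b ∧ b ∣ Nat.card G)
    (hF : ∀ r : ℕ, r.Prime → r ∣ Nat.card (Cfsg.fittingSubgroup G) → s r) :
    (∃ C : Subgroup G, Cfsg.IsFrobeniusComplement C) ∨
    (∃ (H K : Subgroup G) (_ : H.Normal), K.Normal ∧ H < K ∧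
      (∃ C : Subgroup ↥K, Cfsg.IsFrobeniusComplement C ∧ Cfsg.frobeniusKernel C = (H.subgroupOf K : Set ↥K)) ∧
      (∃ C : Subgroup (G ⧸ H), Cfsg.IsFrobeniusComplement C ∧ Cfsg.frobeniusKernel C = (K.map (QuotientGroup.mk' H) : Set (G ⧸ H)))) := by
  classical
  obtain ⟨b, hbp, hbs, hbd⟩ := hb
  set F := Cfsg.fittingSubgroup G with hFdef
  haveI : Nontrivial G := Finite.one_lt_card_iff_nontrivial.mp
    (lt_of_lt_of_le hbp.one_lt (Nat.le_of_dvd Nat.card_pos hbd))
  have hF0 : F ≠ ⊥ := Cfsg.Agent.Basics.fittingSubgroup_ne_bot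
  have hquo : Sep s (G ⧸ F) := hsep.quotient F
  have hbq : b ∣ Nat.card (G ⧸ F) := by
    rw [F.card_eq_card_quotient_mul_card_subgroup] at hbd
    exact (hbp.dvd_mul.mp hbd).resolve_right fun h => hbs (hF b hbp h)
  haveI : Nontrivial (G ⧸ F) := Finite.one_lt_card_iff_nontrivial.mp
    (lt_of_lt_of_le hbp.one_lt (Nat.le_of_dvd Nat.card_pos hbq))
  set E := Cfsg.fittingSubgroup (G ⧸ F) with hE
  have hE0 : E ≠ ⊥ := Cfsg.Agent.Basics.fittingSubgroup_ne_bot
  set K := E.comap (QuotientGroup.mk' F) with hK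
  have hFK : F ≤ K := fun x hx => by
    show QuotientGroup.mk' F x ∈ E
    rw [QuotientGroup.mk'_apply, (QuotientGroup.eq_one_iff x).mpr hx]
    exact one_mem _
  have hcardK : Nat.card K = Nat.card F * Nat.card E := Cfsg.Agent.Basics.card_comap_mk' E
  -- the second Fitting layer avoids the side of `F`
  have hnilK : ¬ Group.IsNilpotent K := fun h => hE0 (by
    have hKF := Cfsg.Agent.Basics.le_fittingSubgroup (N := K) h
    rw [← Subgroup.map_comap_eq_self_of_surjective (QuotientGroup.mk'_surjective F) E, ← hK,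
      Subgroup.map_eq_bot_iff, QuotientGroup.ker_mk']
    exact hKF)
  have hEs : ∀ r : ℕ, r.Prime → r ∣ Nat.card E → ¬ s r := by
    intro r hr hrd hrs
    by_cases hall : ∀ r' : ℕ, r'.Prime → r' ∣ Nat.card E → s r'
    · apply hnilK
      haveI := Fact.mk hbp
      obtain ⟨y, hy⟩ := exists_prime_orderOf_dvd_card' b hbd
      refine Cfsg.Agent.Basics.isNilpotent_of_conj_fpf K hy fun n hn hc => ?_
      by_contra hn1
      refine hsep.not_commute hn1 (fun h => hbp.ne_one (by rw [← hy, h, orderOf_one]))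
        (fun r' hr' hd => ?_) (fun r' hr' hd => ?_) hc.symm
      · have h := hd.trans (Subgroup.orderOf_dvd_natCard K hn)
        rw [hcardK] at h
        exact (hr'.dvd_mul.mp h).elim (hF r' hr') (hall r' hr')
      · rw [hy] at hd
        rw [(Nat.prime_dvd_prime_iff_eq hr' hbp).mp hd]
        exact hbs
    · push_neg at hall
      obtain ⟨r', hr', hr'd, hr's⟩ := hall
      haveI := Fact.mk hr
      haveI := Fact.mk hr'
      obtain ⟨x, hx⟩ := exists_prime_orderOf_dvd_card' r hrd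
      obtain ⟨y, hy⟩ := exists_prime_orderOf_dvd_card' r' hr'd
      have hne : r ≠ r' := fun h => hr's (h ▸ hrs)
      have hc : Commute x y := Cfsg.Agent.Transfer.commute_of_coprime_of_nilpotent
        (by rw [hx, hy]; exact (Nat.coprime_primes hr hr').mpr hne)
      refine hquo r r' hr hr' hrs hr's ((x * y : E) : G ⧸ F) ?_
      rw [Subgroup.orderOf_coe, hc.orderOf_mul_eq_mul_orderOf_of_coprime, hx, hy]
      rw [hx, hy]
      exact (Nat.coprime_primes hr hr').mpr hne
  -- a complement of `F` inside `K`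
  set F' : Subgroup K := F.subgroupOf K with hF'
  have hcF' : Nat.card F' = Nat.card F := Cfsg.Agent.Basics.card_subgroupOf hFK
  have hiF' : F'.index = Nat.card E := by
    refine Nat.eq_of_mul_eq_mul_left (Nat.card_pos (α := F')) ?_
    rw [Subgroup.card_mul_index, hcF', hcardK]
  obtain ⟨K₀, hK₀⟩ := Subgroup.exists_right_complement'_of_coprime (N := F') (by
    rw [hcF', hiF']
    exact Nat.coprime_of_dvd fun r hr h1 h2 => hEs r hr h2 (hF r hr h1))
  have hcK₀ : Nat.card K₀ = Nat.card E := by rw [← hiF', hK₀.symm.index_eq_card]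
  have hK₀0 : K₀ ≠ ⊥ := by
    rw [Ne, ← Subgroup.card_eq_one, hcK₀, Subgroup.card_eq_one]
    exact hE0
  have hF'0 : F' ≠ ⊥ := by
    rw [Ne, ← Subgroup.card_eq_one, hcF', Subgroup.card_eq_one]
    exact hF0
  have hfree : ∀ c ∈ K₀, c ≠ 1 → ∀ n ∈ F', c * n = n * c → n = 1 := by
    intro c hc hc1 n hn hcn
    by_contra hn1
    refine hsep.not_commute (x := (n : G)) (y := (c : G)) (fun h => hn1 (Subtype.ext h))
      (fun h => hc1 (Subtype.ext h)) (fun r hr hd => ?_) (fun r hr hd => ?_)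
      (congrArg Subtype.val hcn).symm
    · exact hF r hr (hd.trans (Subgroup.orderOf_dvd_natCard F hn))
    · rw [Subgroup.orderOf_coe] at hd
      exact hEs r hr (hcK₀ ▸ hd.trans (Subgroup.orderOf_dvd_natCard K₀ hc))
  obtain ⟨hfrobK, hkerK⟩ := frob F' K₀ hK₀ hF'0 hK₀0 hfree
  by_cases hs : ∃ a : ℕ, a.Prime ∧ s a ∧ a ∣ Nat.card (G ⧸ F)
  swap
  · left
    push_neg at hs
    have hcop : (Nat.card F).Coprime F.index := by
      rw [Subgroup.index_eq_card]
      exact Nat.coprime_of_dvd fun r hr h1 h2 => hs r hr (hF r hr h1) h2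
    obtain ⟨C, hC⟩ := Subgroup.exists_right_complement'_of_coprime hcop
    have hcC : Nat.card C = Nat.card (G ⧸ F) := by
      rw [← hC.symm.index_eq_card, Subgroup.index_eq_card]
    refine ⟨C, (frob F C hC hF0 ?_ ?_).1⟩
    · rw [Ne, ← Subgroup.card_eq_one, hcC]
      exact (Finite.one_lt_card (α := G ⧸ F)).ne'
    · intro c hc hc1 n hn hcn
      by_contra hn1
      exact hsep.not_commute hn1 hc1 (fun r hr hd => hF r hr (hd.trans (Subgroup.orderOf_dvd_natCard F hn)))
        (fun r hr hd hs' => hs r hr hs' (hcC ▸ hd.trans (Subgroup.orderOf_dvd_natCard C hc))) hcn.symm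
  obtain ⟨a, hap, has, had⟩ := hs
  right
  haveI := Fact.mk hap
  obtain ⟨x, hx⟩ := exists_prime_orderOf_dvd_card' a had
  have hx1 : x ≠ 1 := fun h => hap.ne_one (by rw [← hx, h, orderOf_one])
  have hxs : ∀ r : ℕ, r.Prime → r ∣ orderOf x → s r := fun r hr hd => by
    rw [(Nat.prime_dvd_prime_iff_eq hr hap).mp (hx ▸ hd)]
    exact has
  -- `K₀` is isomorphic to `E`
  let e : K₀ →* E :=
    { toFun := fun c => ⟨QuotientGroup.mk' F ((c : K) : G), (c : K).2⟩
      map_one' := Subtype.ext (map_one (QuotientGroup.mk' F))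
      map_mul' := fun c d => Subtype.ext (map_mul (QuotientGroup.mk' F) _ _) }
  have heinj : Function.Injective e := by
    rw [injective_iff_map_eq_one]
    intro c hc
    have h1 : ((c : K) : G) ∈ F := (QuotientGroup.eq_one_iff _).mp (congrArg Subtype.val hc)
    have h2 : (c : K) ∈ F' ⊓ K₀ := Subgroup.mem_inf.mpr ⟨h1, c.2⟩
    rw [hK₀.disjoint.eq_bot, Subgroup.mem_bot] at h2
    exact Subtype.ext h2
  have hesurj : Function.Surjective e :=
    (Function.Injective.bijective_of_nat_card_le heinj (by rw [hcK₀])).2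
  have hfpfK : ∀ c ∈ K₀, c ≠ 1 → F' ⊓ Subgroup.centralizer ({c} : Set K) = ⊥ := by
    intro c hc hc1
    rw [eq_bot_iff]
    intro n hn
    obtain ⟨hn1, hn2⟩ := Subgroup.mem_inf.mp hn
    exact hfree c hc hc1 n hn1 (Subgroup.mem_centralizer_singleton_iff.mp hn2).symm
  have hodd : Odd (Nat.card K₀) := by
    rw [← Nat.not_even_iff_odd, even_iff_two_dvd]
    intro h2
    haveI : Fact (Nat.Prime 2) := ⟨Nat.prime_two⟩
    obtain ⟨t, ht⟩ := exists_prime_orderOf_dvd_card' 2 h2
    have ht1 : t ≠ 1 := fun h => by rw [h, orderOf_one] at ht; omega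
    have htt : t * t = 1 := by rw [← pow_two, ← ht, pow_orderOf_eq_one]
    have hxe : x * (e t : G ⧸ F) * x⁻¹ ∈ E :=
      (inferInstance : E.Normal).conj_mem _ (e t).2 x
    obtain ⟨u, hu⟩ := hesurj ⟨_, hxe⟩
    have hu' : (e u : G ⧸ F) = x * (e t : G ⧸ F) * x⁻¹ := congrArg Subtype.val hu
    have hte : (e t : G ⧸ F) * (e t : G ⧸ F) = 1 := by
      rw [← Subgroup.coe_mul, ← map_mul, htt, map_one, OneMemClass.coe_one]
    have huu : u * u = 1 := heinj (Subtype.ext (by
      rw [map_mul, Subgroup.coe_mul, hu', map_one, OneMemClass.coe_one,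
        show x * (e t : G ⧸ F) * x⁻¹ * (x * (e t : G ⧸ F) * x⁻¹) =
          x * ((e t : G ⧸ F) * (e t : G ⧸ F)) * x⁻¹ by group, hte]
      group))
    have het1 : (e t : G ⧸ F) ≠ 1 := fun h => ht1 (heinj (Subtype.ext (by simpa using h)))
    have hu1 : u ≠ 1 := fun h => het1 (by
      have h3 : x * (e t : G ⧸ F) * x⁻¹ = 1 := by rw [← hu', h, map_one]; rfl
      calc (e t : G ⧸ F) = x⁻¹ * (x * (e t : G ⧸ F) * x⁻¹) * x := by group
        _ = 1 := by rw [h3]; group)
    have hut : (u : K) = (t : K) := Cfsg.Agent.OddLocal.eq_of_fpf_involutions hF'0 hfpfK u.2 t.2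
      (congrArg Subtype.val huu) (congrArg Subtype.val htt) (fun h => hu1 (Subtype.ext h))
      (fun h => ht1 (Subtype.ext h))
    have hut' : u = t := Subtype.ext hut
    rw [hut'] at hu'
    refine hquo.not_commute hx1 het1 hxs (fun r hr hd => ?_) ?_
    · exact hEs r hr (hd.trans (Subgroup.orderOf_dvd_natCard E (e t).2))
    · show x * (e t : G ⧸ F) = (e t : G ⧸ F) * x
      calc x * (e t : G ⧸ F) = (x * (e t : G ⧸ F) * x⁻¹) * x := by group
        _ = (e t : G ⧸ F) * x := by rw [← hu']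
  haveI : IsZGroup E := by
    haveI : IsZGroup K₀ := ⟨fun p hp S => by
      haveI := Fact.mk hp
      haveI := Cfsg.Agent.OddLocal.isCyclic_of_fpf_odd hF'0 hfpfK hodd
        (Subgroup.map_subtype_le (S : Subgroup K₀)) (S.isPGroup'.map K₀.subtype)
      exact isCyclic_of_injective
        ((S : Subgroup K₀).equivMapOfInjective K₀.subtype K₀.subtype_injective).toMonoidHom
        (MulEquiv.injective _)⟩
    exact IsZGroup.of_surjective (f := e) hesurj
  have hEcyc : IsCyclic E := inferInstance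
  -- the automorphisms of `E` commute
  have hcomm : ∀ g h : G ⧸ F, ⁅g, h⁆ ∈ E := by
    intro g h
    refine Cfsg.Agent.Basics.centralizer_fittingSubgroup_le (G := G ⧸ F) ?_
    rw [Subgroup.mem_centralizer_iff]
    intro y hy
    have hfix : ∀ z : G ⧸ F, z ∈ E → (g * h) * z * (g * h)⁻¹ = (h * g) * z * (h * g)⁻¹ := fun z hz => by
      obtain ⟨i, hi⟩ := MonoidHom.map_cyclic (G := E) (MulAut.conjNormal g).toMonoidHom
      obtain ⟨j, hj⟩ := MonoidHom.map_cyclic (G := E) (MulAut.conjNormal h).toMonoidHom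
      have hgh : MulAut.conjNormal (g * h) ⟨z, hz⟩ = MulAut.conjNormal (h * g) (⟨z, hz⟩ : E) := by
        rw [map_mul, map_mul, MulAut.mul_apply, MulAut.mul_apply]
        have hi' : ∀ w : E, MulAut.conjNormal g w = w ^ i := hi
        have hj' : ∀ w : E, MulAut.conjNormal h w = w ^ j := hj
        rw [hj', hi', hi', hj', ← zpow_mul, ← zpow_mul, mul_comm]
      have hgh' := congrArg Subtype.val hgh
      rwa [MulAut.conjNormal_apply, MulAut.conjNormal_apply] at hgh'
    have hy' : (h * g)⁻¹ * y * (h * g) ∈ E := by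
      have h1 := (inferInstance : E.Normal).conj_mem y hy (h * g)⁻¹
      rwa [inv_inv] at h1
    have := hfix _ hy'
    calc y * ⁅g, h⁆ = (h * g) * ((h * g)⁻¹ * y * (h * g)) * (h * g)⁻¹ * ((g * h) * (h * g)⁻¹) := by
          rw [commutatorElement_def]; group
      _ = (g * h) * ((h * g)⁻¹ * y * (h * g)) * (g * h)⁻¹ * ((g * h) * (h * g)⁻¹) := by rw [this]
      _ = ⁅g, h⁆ * y := by rw [commutatorElement_def]; group
  have hQs : ∀ r : ℕ, r.Prime → r ∣ E.index → s r := by
    intro r hr hrd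
    by_contra hrs
    haveI := Fact.mk hr
    rw [Subgroup.index_eq_card] at hrd
    obtain ⟨y, hy⟩ := exists_prime_orderOf_dvd_card' r hrd
    have hx' : orderOf (QuotientGroup.mk' E x) = a := by
      refine orderOf_eq_prime (by rw [← map_pow, ← hx, pow_orderOf_eq_one, map_one]) fun h => ?_
      exact hEs a hap (hx ▸ Subgroup.orderOf_dvd_natCard E ((QuotientGroup.eq_one_iff _).mp h)) has
    refine (hquo.quotient E).not_commute (x := QuotientGroup.mk' E x) (y := y)
      (fun h => hap.ne_one (by rw [← hx', h, orderOf_one]))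
      (fun h => hr.ne_one (by rw [← hy, h, orderOf_one])) (fun r' hr' hd => ?_)
      (fun r' hr' hd => ?_) ?_
    · rw [hx'] at hd
      rw [(Nat.prime_dvd_prime_iff_eq hr' hap).mp hd]
      exact has
    · rw [hy] at hd
      rw [(Nat.prime_dvd_prime_iff_eq hr' hr).mp hd]
      exact hrs
    · obtain ⟨y, rfl⟩ := QuotientGroup.mk_surjective y
      show QuotientGroup.mk' E x * QuotientGroup.mk' E y = QuotientGroup.mk' E y * QuotientGroup.mk' E x
      rw [← commutatorElement_eq_one_iff_mul_comm, ← map_commutatorElement,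
        QuotientGroup.mk'_apply, QuotientGroup.eq_one_iff]
      exact hcomm x y
  have hcop : (Nat.card E).Coprime E.index :=
    Nat.coprime_of_dvd fun r hr h1 h2 => hEs r hr h1 (hQs r hr h2)
  obtain ⟨C, hC⟩ := Subgroup.exists_right_complement'_of_coprime hcop
  have hcC : Nat.card C = E.index := hC.symm.index_eq_card.symm
  have hC0 : C ≠ ⊥ := by
    intro h
    rw [h, Subgroup.card_bot, eq_comm, Subgroup.index_eq_one] at hcC
    exact hEs a hap (by rw [hcC, Subgroup.card_top]; exact had) has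
  have hfreeC : ∀ c ∈ C, c ≠ 1 → ∀ n ∈ E, c * n = n * c → n = 1 := by
    intro c hc hc1 n hn hcn
    by_contra hn1
    exact hquo.not_commute hc1 hn1
      (fun r hr hd => hQs r hr (hcC ▸ hd.trans (Subgroup.orderOf_dvd_natCard C hc)))
      (fun r hr hd => hEs r hr (hd.trans (Subgroup.orderOf_dvd_natCard E hn))) hcn
  obtain ⟨hfrobC, hkerC⟩ := frob E C hC hE0 hC0 hfreeC
  refine ⟨F, K, inferInstance, inferInstance, lt_of_le_of_ne hFK fun h => hnilK ?_,
    ⟨K₀, hfrobK, hkerK⟩, C, hfrobC, ?_⟩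
  · rw [← h]
    infer_instance
  · rw [hkerC, hK, Subgroup.map_comap_eq_self_of_surjective (QuotientGroup.mk'_surjective F) E]

/-- A finite solvable group whose prime graph (prime divisors of the order, two distinct primes joined when there is an element of order their product) is disconnected is a Frobenius group or a 2-Frobenius group (it has normal subgroups H < K with K a Frobenius group with kernel H and G/H a Frobenius group with kernel K/H). -/
theorem result {G : Type*} [Group G] [Finite G] (hsol : Group.IsSolvable G)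
    (hdisc : (∃ A : Set ℕ, (∃ a ∈ A, a.Prime ∧ a ∣ Nat.card G) ∧ (∃ b ∉ A, b.Prime ∧ b ∣ Nat.card G) ∧
      ∀ a ∈ A, ∀ b ∉ A, a.Prime → b.Prime → a ∣ Nat.card G → b ∣ Nat.card G → ¬ ∃ g : G, orderOf g = a * b)) :
    (∃ C : Subgroup G, Cfsg.IsFrobeniusComplement C) ∨
    (∃ (H K : Subgroup G) (_ : H.Normal), K.Normal ∧ H < K ∧
      (∃ C : Subgroup ↥K, Cfsg.IsFrobeniusComplement C ∧ Cfsg.frobeniusKernel C = (H.subgroupOf K : Set ↥K)) ∧
      (∃ C : Subgroup (G ⧸ H), Cfsg.IsFrobeniusComplement C ∧ Cfsg.frobeniusKernel C = (K.map (QuotientGroup.mk' H) : Set (G ⧸ H)))) := by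
  obtain ⟨A, ⟨a, haA, hap, had⟩, ⟨b, hbA, hbp, hbd⟩, hA⟩ := hdisc
  haveI := hsol
  by_cases hF : ∃ r : ℕ, r.Prime ∧ r ∉ A ∧ r ∣ Nat.card (Cfsg.fittingSubgroup G)
  · refine core (s := fun r => r ∉ A) ?_ ⟨a, hap, not_not.mpr haA, had⟩ ?_
    · intro r r' hr hr' hs hs' g hg
      exact hA r' (not_not.mp hs') r hs hr' hr (dvd_of_orderOf hg (dvd_mul_left _ _))
        (dvd_of_orderOf hg (dvd_mul_right _ _)) ⟨g, by rw [hg, mul_comm]⟩
    · intro r hr hd hrA
      obtain ⟨r', hr', hr'A, hd'⟩ := hF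
      exact fitting_one_sided hA hr hr' hrA hr'A hd hd'
  · push_neg at hF
    refine core (s := fun r => r ∈ A) ?_ ⟨b, hbp, hbA, hbd⟩ ?_
    · intro r r' hr hr' hs hs' g hg
      exact hA r hs r' hs' hr hr' (dvd_of_orderOf hg (dvd_mul_right _ _))
        (dvd_of_orderOf hg (dvd_mul_left _ _)) ⟨g, hg⟩
    · intro r hr hd
      by_contra hrA
      exact hF r hr hrA hd

end Cfsg.Agent.S3857
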