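import Cfsg.Statements.S3861
import Cfsg.Agent.Lib.Invol.BaerSuzuki
import Cfsg.Agent.Lib.Basics.Cores
import Cfsg.Agent.Lib.Basics.CoprimeAction

set_option autoImplicit false
open Cfsg

namespace Cfsg.Agent.S3861

/-- A finite group G has no non-identity element of odd order that is conjugate to its inverse if and only if the Sylow 2-subgroups of G are normal. -/
theorem result {G : Type*} [Group G] [Finite G] (P : Sylow 2 G) : (∀ x : G, x ≠ 1 → Odd (orderOf x) → ¬ IsConj x x⁻¹) ↔ (P : Subgroup G).Normal := by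
  constructor
  · intro h
    set Q := Cfsg.pCore 2 G with hQdef
    haveI : Q.Normal := Basics.pCore_normal 2
    by_cases hodd : 2 ∣ Nat.card (G ⧸ Q)
    swap
    · obtain ⟨k, hk⟩ := IsPGroup.iff_card.mp (Basics.pCore_isPGroup (G := G) 2)
      have hle := Basics.pCore_le_sylow 2 P
      have hPQ : (P : Subgroup G) = Q := by
        refine (Subgroup.eq_of_le_of_card_ge hle (Nat.le_of_dvd Nat.card_pos ?_)).symm
        obtain ⟨j, hj⟩ := IsPGroup.iff_card.mp P.isPGroup'
        have hd : Nat.card (P : Subgroup G) ∣ Nat.card G := Subgroup.card_subgroup_dvd_card _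
        rw [Q.card_eq_card_quotient_mul_card_subgroup] at hd
        refine (Nat.Coprime.dvd_mul_left ?_).mp hd
        rw [hj]
        exact (Nat.prime_two.coprime_iff_not_dvd.mpr hodd).pow_left j
      rw [hPQ]
      infer_instance
    exfalso
    obtain ⟨t, ht⟩ := exists_prime_orderOf_dvd_card' 2 hodd
    obtain ⟨s, hsc, hs⟩ : ∃ s, IsConj t s ∧ ¬ IsPGroup 2 ↥(Subgroup.closure ({t, s} : Set (G ⧸ Q))) := by
      by_contra hcon
      simp only [not_exists, not_and, not_not] at hcon
      obtain ⟨N, hN, hN2, htN⟩ := Invol.baerSuzuki_element (p := 2) (x := t)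
        fun g => hcon _ (isConj_iff.mpr ⟨g, rfl⟩)
      haveI := hN
      have hmem := Basics.le_pCore hN2 htN
      rw [show Cfsg.pCore 2 (G ⧸ Q) = ⊥ from Basics.pCore_quotient_eq_bot 2, Subgroup.mem_bot] at hmem
      rw [hmem, orderOf_one] at ht
      exact absurd ht (by norm_num)
    have ht2 : t * t = 1 := by rw [← pow_two, ← ht]; exact pow_orderOf_eq_one t
    have hs2 : s * s = 1 := by
      obtain ⟨c, rfl⟩ := isConj_iff.mp hsc
      calc c * t * c⁻¹ * (c * t * c⁻¹) = c * (t * t) * c⁻¹ := by group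
        _ = 1 := by rw [ht2]; group
    set y := t * s with hy
    have hty : t * y * t⁻¹ = y⁻¹ := by
      rw [hy, mul_inv_rev, inv_eq_of_mul_eq_one_right ht2, inv_eq_of_mul_eq_one_right hs2,
        ← mul_assoc t t s, ht2, one_mul]
    obtain ⟨q, hq, hqy, hq2⟩ : ∃ q, q.Prime ∧ q ∣ orderOf y ∧ q ≠ 2 := by
      by_contra hcon
      apply hs
      have hy2 : IsPGroup 2 (Subgroup.zpowers y) :=
        IsPGroup.of_card (n := (orderOf y).primeFactorsList.length) (by
          rw [Nat.card_zpowers]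
          exact Nat.eq_prime_pow_of_unique_prime_dvd (orderOf_pos y).ne' fun {q} hqp hqd =>
            by_contra fun hne => hcon ⟨q, hqp, hqd, hne⟩)
      have htp : IsPGroup 2 (Subgroup.zpowers t) :=
        IsPGroup.of_card (n := 1) (by rw [Nat.card_zpowers, ht, pow_one])
      have hn : Subgroup.zpowers t ≤ Subgroup.normalizer (Subgroup.zpowers y : Set (G ⧸ Q)) := by
        refine Subgroup.zpowers_le.mpr ?_
        rw [Subgroup.mem_normalizer_iff]
        intro z
        have hmap : ∀ z ∈ Subgroup.zpowers y, t * z * t⁻¹ ∈ Subgroup.zpowers y := by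
          intro z hz
          obtain ⟨i, rfl⟩ := Subgroup.mem_zpowers_iff.mp hz
          rw [← conj_zpow, hty]
          exact zpow_mem (inv_mem (Subgroup.mem_zpowers y)) i
        refine ⟨hmap z, fun hz => ?_⟩
        have h2 := hmap _ hz
        rwa [show t * (t * z * t⁻¹) * t⁻¹ = (t * t) * z * (t * t)⁻¹ by group, ht2, one_mul, inv_one,
          mul_one] at h2
      refine (hy2.to_sup_of_normal_left' htp hn).to_le ?_
      rw [Subgroup.closure_le]
      rintro u (rfl | rfl)
      · exact Subgroup.mem_sup_right (Subgroup.mem_zpowers _)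
      · have h2 : u = t * y := by rw [hy, ← mul_assoc, ht2, one_mul]
        rw [h2]
        exact Subgroup.mul_mem _ (Subgroup.mem_sup_right (Subgroup.mem_zpowers _))
          (Subgroup.mem_sup_left (Subgroup.mem_zpowers _))
    haveI := Fact.mk hq
    set z := y ^ (orderOf y / q) with hz
    have hzo : orderOf z = q := orderOf_pow_orderOf_div (orderOf_pos y).ne' hqy
    have htz : t * z * t⁻¹ = z⁻¹ := by rw [hz, ← conj_pow, hty, inv_pow]
    -- lift to an element of order `q` inverted in `G`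
    set Y := (Subgroup.zpowers z).comap (QuotientGroup.mk' Q) with hYdef
    have hYcard : Nat.card Y = Nat.card Q * q := by
      rw [hYdef, Basics.card_comap_mk', Nat.card_zpowers, hzo]
    obtain ⟨x, hx⟩ := exists_prime_orderOf_dvd_card' (G := Y) q (hYcard ▸ dvd_mul_left q _)
    have hQq : ¬ q ∣ Nat.card Q := by
      intro hd
      obtain ⟨k, hk⟩ := IsPGroup.iff_card.mp (Basics.pCore_isPGroup (G := G) 2)
      exact hq2 ((Nat.prime_dvd_prime_iff_eq hq Nat.prime_two).mp (hq.dvd_of_dvd_pow (hk ▸ hd)))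
    have hfac : (Nat.card Y).factorization q = 1 := by
      rw [hYcard, Nat.factorization_mul Nat.card_pos.ne' hq.ne_zero, Finsupp.add_apply,
        Nat.factorization_eq_zero_of_not_dvd hQq, hq.factorization_self]
    obtain ⟨t0, ht0⟩ := QuotientGroup.mk_surjective t
    have hconjY : t0 * (x : G) * t0⁻¹ ∈ Y := by
      obtain ⟨i, hi⟩ := Subgroup.mem_zpowers_iff.mp x.2
      refine ⟨-i, ?_⟩
      show z ^ (-i) = QuotientGroup.mk' Q (t0 * (x : G) * t0⁻¹)
      rw [map_mul, map_mul, map_inv, QuotientGroup.mk'_apply _ t0, ht0, zpow_neg, ← inv_zpow, ← htz,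
        conj_zpow, hi]
    have hS : Basics.IsSylowIn q Y (Subgroup.zpowers (x : G)) :=
      ⟨Subgroup.zpowers_le.mpr x.2, by rw [Nat.card_zpowers, Subgroup.orderOf_coe, hx, hfac, pow_one]⟩
    have hT : Basics.IsSylowIn q Y (Subgroup.zpowers (t0 * (x : G) * t0⁻¹)) :=
      ⟨Subgroup.zpowers_le.mpr hconjY, by
        rw [Nat.card_zpowers, ← MulAut.conj_apply, MulEquiv.orderOf_eq, Subgroup.orderOf_coe, hx, hfac,
          pow_one]⟩
    obtain ⟨k, hk, hkT⟩ := hS.exists_conj hT
    have hmem : k⁻¹ * (t0 * (x : G) * t0⁻¹) * k ∈ Subgroup.zpowers (x : G) := by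
      rw [← Basics.mem_conj_smul, hkT]
      exact Subgroup.mem_zpowers _
    set u := k⁻¹ * t0 with hu
    have hux : u * (x : G) * u⁻¹ * x ∈ Subgroup.zpowers (x : G) := by
      rw [hu, show k⁻¹ * t0 * (x : G) * (k⁻¹ * t0)⁻¹ = k⁻¹ * (t0 * (x : G) * t0⁻¹) * k by group]
      exact mul_mem hmem (Subgroup.mem_zpowers _)
    have huQ : u * (x : G) * u⁻¹ * x ∈ Q := by
      obtain ⟨i, hi⟩ := Subgroup.mem_zpowers_iff.mp x.2
      obtain ⟨l, hl⟩ := Subgroup.mem_zpowers_iff.mp hk
      rw [← QuotientGroup.eq_one_iff]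
      show QuotientGroup.mk' Q _ = 1
      rw [map_mul, map_mul, map_mul, map_inv, hu, map_mul, map_inv, QuotientGroup.mk'_apply _ t0,
        ht0, ← hi, ← hl, mul_inv_rev, inv_inv,
        show (z ^ l)⁻¹ * t * z ^ i * (t⁻¹ * z ^ l) * z ^ i =
          (z ^ l)⁻¹ * (t * z ^ i * t⁻¹) * z ^ l * z ^ i by group, ← conj_zpow, htz]
      group
    set e := u * (x : G) * u⁻¹ * x with he
    have he1 : e = 1 := by
      rw [← orderOf_eq_one_iff]
      refine Nat.eq_one_of_dvd_coprimes (hq.coprime_iff_not_dvd.mpr hQq) ?_ ?_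
      · have h1 := _root_.orderOf_dvd_natCard (⟨e, hux⟩ : Subgroup.zpowers (x : G))
        rwa [Nat.card_zpowers, Subgroup.orderOf_coe, hx, ← Subgroup.orderOf_coe] at h1
      · have h1 := _root_.orderOf_dvd_natCard (⟨e, huQ⟩ : Q)
        rwa [← Subgroup.orderOf_coe] at h1
    have hxo : orderOf (x : G) = q := by rw [Subgroup.orderOf_coe, hx]
    exact h (x : G) (fun hx1 => hq.ne_one (by rw [← hxo, hx1, orderOf_one]))
      (by rw [hxo]; exact hq.odd_of_ne_two hq2) (isConj_iff.mpr ⟨u, mul_eq_one_iff_eq_inv.mp he1⟩)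
  · intro hn x hx1 hxo hconj
    obtain ⟨c, hc⟩ := isConj_iff.mp hconj
    haveI := hn
    have h1 : ∀ g : G ⧸ (P : Subgroup G), g ^ 2 = 1 → g = 1 := fun g hg => by
      rw [← orderOf_eq_one_iff]
      refine Nat.eq_one_of_dvd_coprimes (a := 2) ?_ (orderOf_dvd_of_pow_eq_one hg)
        (_root_.orderOf_dvd_natCard g)
      rw [← Subgroup.index_eq_card]
      exact Nat.prime_two.coprime_iff_not_dvd.mpr P.not_dvd_index
    obtain ⟨j, m, hm, hord⟩ := Nat.exists_eq_two_pow_mul_odd (orderOf_pos c).ne'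
    have h2 : c * x⁻¹ * c⁻¹ = x := by
      have := congrArg (·⁻¹) hc
      simpa [mul_assoc] using this
    have hodd : ∀ i : ℕ, c ^ (2 * i + 1) * x * (c ^ (2 * i + 1))⁻¹ = x⁻¹ := by
      intro i
      induction i with
      | zero => simpa using hc
      | succ i ih =>
        calc c ^ (2 * (i + 1) + 1) * x * (c ^ (2 * (i + 1) + 1))⁻¹
            = c * (c * (c ^ (2 * i + 1) * x * (c ^ (2 * i + 1))⁻¹) * c⁻¹) * c⁻¹ := by group
          _ = x⁻¹ := by rw [ih, h2, hc]
    obtain ⟨i, rfl⟩ := hm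
    have hcm : ((c ^ (2 * i + 1) : G) : G ⧸ (P : Subgroup G)) = 1 := by
      rw [← orderOf_eq_one_iff]
      refine Nat.eq_one_of_dvd_coprimes (a := 2 ^ j) (Nat.Coprime.pow_left j ?_) ?_
        (_root_.orderOf_dvd_natCard _)
      · rw [← Subgroup.index_eq_card]
        exact Nat.prime_two.coprime_iff_not_dvd.mpr P.not_dvd_index
      · refine orderOf_dvd_of_pow_eq_one ?_
        rw [← QuotientGroup.mk_pow, ← pow_mul, mul_comm, ← hord, pow_orderOf_eq_one, QuotientGroup.mk_one]
    have hxP : x ∈ (P : Subgroup G) := by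
      rw [← QuotientGroup.eq_one_iff]
      refine h1 _ ?_
      have h3 := congrArg (QuotientGroup.mk' (P : Subgroup G)) (hodd i)
      rw [map_mul, map_mul, map_inv, map_inv, QuotientGroup.mk'_apply _ (c ^ (2 * i + 1)), hcm] at h3
      simp only [one_mul, inv_one, mul_one, QuotientGroup.mk'_apply] at h3
      rw [pow_two]
      exact mul_eq_one_iff_eq_inv.mpr h3
    obtain ⟨k, hk⟩ := P.isPGroup' ⟨x, hxP⟩
    exact hx1 (orderOf_eq_one_iff.mp (Nat.eq_one_of_dvd_coprimes
      (hxo.coprime_two_left.pow_left k) (orderOf_dvd_of_pow_eq_one (congrArg Subtype.val hk)) dvd_rfl))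

end Cfsg.Agent.S3861
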