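import Cfsg.Statements.S3862
import Cfsg.Agent.Lib.Transfer.Fusion

set_option autoImplicit false
open Cfsg

namespace Cfsg.Agent.S3862

/-- If every 2-element of the finite group G that is conjugate to its inverse lies in the centre of G, then G has a normal 2-complement. -/
theorem result {G : Type*} [Group G] [Finite G] (h : ∀ x : G, (∃ j : ℕ, orderOf x = 2 ^ j) → IsConj x x⁻¹ → x ∈ Subgroup.center G) : Cfsg.HasNormalPComplement 2 G := by
  refine Transfer.hasNormalPComplement_of_frobenius fun D hD g hg hgo => ?_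
  rw [Subgroup.mem_centralizer_iff]
  intro y hy
  -- `g` fixes every element of `D`, by induction on the exponent
  suffices key : ∀ k : ℕ, ∀ y ∈ D, y ^ 2 ^ k = 1 → g * y * g⁻¹ = y by
    obtain ⟨k, hk⟩ := hD ⟨y, hy⟩
    exact (mul_inv_eq_iff_eq_mul.mp (key k y hy (congrArg Subtype.val hk))).symm
  intro k
  induction k with
  | zero =>
    intro y _ hk
    rw [pow_zero, pow_one] at hk
    rw [hk, mul_one, mul_inv_cancel]
  | succ k ih =>
    intro y hy hk
    have hsq := ih (y * y) (D.mul_mem hy hy) (by rw [← pow_two, ← pow_mul, ← pow_succ', hk])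
    set y' := g * y * g⁻¹ with hy'
    have hy'D : y' ∈ D := (Subgroup.mem_normalizer_iff.mp hg y).mp hy
    have hsq' : y' * y' = y * y :=
      (show y' * y' = g * (y * y) * g⁻¹ by rw [hy']; group).trans hsq
    set w := y⁻¹ * y' with hw
    have hinv : y * w * y⁻¹ = w⁻¹ := by
      rw [hw, mul_inv_rev, inv_inv, mul_inv_cancel_left]
      calc y' * y⁻¹ = y'⁻¹ * (y' * y') * y⁻¹ := by group
        _ = y'⁻¹ * (y * y) * y⁻¹ := by rw [hsq']
        _ = y'⁻¹ * y := by group
    have hwD : w ∈ D := D.mul_mem (D.inv_mem hy) hy'D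
    obtain ⟨j, hj⟩ := IsPGroup.iff_orderOf.mp hD ⟨w, hwD⟩
    rw [← Subgroup.orderOf_coe] at hj
    have hwc : w ∈ Subgroup.center G := h w ⟨j, hj⟩ (isConj_iff.mpr ⟨y, hinv⟩)
    have hpow : ∀ m : ℕ, g ^ m * y * (g ^ m)⁻¹ = y * w ^ m := by
      intro m
      induction m with
      | zero => simp
      | succ m ihm =>
        calc g ^ (m + 1) * y * (g ^ (m + 1))⁻¹ = g * (g ^ m * y * (g ^ m)⁻¹) * g⁻¹ := by group
          _ = (g * y * g⁻¹) * (g * w ^ m * g⁻¹) := by rw [ihm]; group
          _ = y' * w ^ m := by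
            rw [Subgroup.mem_center_iff.mp (pow_mem hwc m) g, mul_inv_cancel_right]
          _ = y * w ^ (m + 1) := by
            rw [pow_succ', ← mul_assoc, hw, mul_inv_cancel_left]
    have h1 := hpow (orderOf g)
    rw [pow_orderOf_eq_one, one_mul, inv_one, mul_one, eq_comm, mul_eq_left] at h1
    have hd := orderOf_dvd_of_pow_eq_one h1
    rw [hj] at hd
    have hw1 : w = 1 := orderOf_eq_one_iff.mp
      (hj.trans (Nat.eq_one_of_dvd_coprimes (hgo.symm.pow_left j) dvd_rfl hd))
    exact (inv_mul_eq_one.mp (hw ▸ hw1 : y⁻¹ * y' = 1)).symm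

end Cfsg.Agent.S3862
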