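import Cfsg.Statements.S3863
import Cfsg.Agent.Lib.FGB.PRegularClasses

set_option autoImplicit false
open Cfsg

namespace Cfsg.Agent.S3863

/-- Let x be an element of the finite group G that is conjugate to its inverse. Then some 2-element conjugates x to its inverse; if the conjugacy class of x has odd size then x ^ 2 = 1; and x lies in, and is conjugate to its inverse inside, every normal subgroup of odd index. -/
theorem result {G : Type*} [Group G] [Finite G] (x : G) (hx : IsConj x x⁻¹) : (∃ t : G, (∃ j : ℕ, orderOf t = 2 ^ j) ∧ t * x * t⁻¹ = x⁻¹) ∧ (Odd (Subgroup.centralizer ({x} : Set G)).index → x ^ 2 = 1) ∧ ∀ (N : Subgroup G) [N.Normal], Odd N.index → ∃ hxN : x ∈ N, IsConj (⟨x, hxN⟩ : N) (⟨x, hxN⟩ : N)⁻¹ := by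
  classical
  obtain ⟨c, hc⟩ := isConj_iff.mp hx
  have hodd : ∀ m : ℕ, Odd m → c ^ m * x * (c ^ m)⁻¹ = x⁻¹ := by
    have h2 : c * x⁻¹ * c⁻¹ = x := by
      have := congrArg (·⁻¹) hc
      simpa [mul_assoc] using this
    rintro m ⟨k, rfl⟩
    induction k with
    | zero => simpa using hc
    | succ k ih =>
      calc c ^ (2 * (k + 1) + 1) * x * (c ^ (2 * (k + 1) + 1))⁻¹
          = c * (c * (c ^ (2 * k + 1) * x * (c ^ (2 * k + 1))⁻¹) * c⁻¹) * c⁻¹ := by group
        _ = x⁻¹ := by rw [ih, h2, hc]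
  obtain ⟨j, m, hm, hord⟩ := Nat.exists_eq_two_pow_mul_odd (orderOf_pos c).ne'
  have ht2 : orderOf (c ^ m) = 2 ^ j := by
    have hm0 : 0 < m := hm.pos
    rw [orderOf_pow_of_dvd hm0.ne' (hord ▸ dvd_mul_left m _), hord, Nat.mul_div_cancel _ hm0]
  refine ⟨⟨c ^ m, ⟨j, ht2⟩, hodd m hm⟩, ?_, ?_⟩
  · intro hcl
    by_contra hne
    rw [← FGB.ncard_carrier_eq_index_centralizer] at hcl
    have hfin : (ConjClasses.mk x).carrier.Finite := Set.toFinite _
    set s := hfin.toFinset with hs
    have hmem : ∀ y, y ∈ s ↔ IsConj x y := fun y => by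
      rw [hs, Set.Finite.mem_toFinset, ConjClasses.mem_carrier_iff_mk_eq, ConjClasses.mk_eq_mk_iff_isConj]
      exact ⟨IsConj.symm, IsConj.symm⟩
    have hsum : ∑ _y ∈ s, (1 : ZMod 2) = 0 := by
      refine Finset.sum_involution (fun y _ => y⁻¹) (fun _ _ => by decide) (fun y hy _ he => ?_)
        (fun y hy => ?_) (fun y _ => inv_inv y)
      · obtain ⟨g, hg⟩ := isConj_iff.mp ((hmem y).mp hy)
        apply hne
        have : y ^ 2 = 1 := by rw [pow_two]; exact mul_eq_one_iff_eq_inv.mpr he.symm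
        rw [← hg, conj_pow, mul_inv_eq_one, mul_eq_left] at this
        exact this
      · obtain ⟨g, hg⟩ := isConj_iff.mp ((hmem y).mp hy)
        rw [hmem]
        refine hx.trans (isConj_iff.mpr ⟨g, ?_⟩)
        rw [← hg]
        group
    rw [Finset.sum_const, nsmul_eq_mul, mul_one, ZMod.natCast_eq_zero_iff_even,
      hs, ← Set.ncard_eq_toFinset_card _ hfin] at hsum
    exact Nat.not_even_iff_odd.mpr hcl hsum
  · intro N _ hN
    have htN : c ^ m ∈ N := by
      rw [← QuotientGroup.eq_one_iff, ← orderOf_eq_one_iff]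
      refine Nat.eq_one_of_dvd_coprimes (a := 2 ^ j) (b := Nat.card (G ⧸ N))
        (Nat.Coprime.pow_left j ?_) (ht2 ▸ orderOf_map_dvd (QuotientGroup.mk' N) _)
        (_root_.orderOf_dvd_natCard _)
      rw [← Subgroup.index_eq_card]
      exact hN.coprime_two_left
    have hxN : x ∈ N := by
      have h1 : (x : G ⧸ N) = (x : G ⧸ N)⁻¹ := by
        have h2 := congrArg (QuotientGroup.mk' N) (hodd m hm)
        rw [map_mul, map_mul, map_inv, map_inv, (QuotientGroup.eq_one_iff _).mpr htN |>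
          (fun h : QuotientGroup.mk' N (c ^ m) = 1 => h)] at h2
        simpa using h2
      rw [← QuotientGroup.eq_one_iff, ← orderOf_eq_one_iff]
      refine Nat.eq_one_of_dvd_coprimes (a := 2) (b := Nat.card (G ⧸ N))
        (by rw [← Subgroup.index_eq_card]; exact hN.coprime_two_left)
        (orderOf_dvd_of_pow_eq_one (by rw [pow_two]; exact mul_eq_one_iff_eq_inv.mpr h1))
        (_root_.orderOf_dvd_natCard _)
    exact ⟨hxN, isConj_iff.mpr ⟨⟨c ^ m, htN⟩, Subtype.ext (hodd m hm)⟩⟩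

end Cfsg.Agent.S3863
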