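import Cfsg.Statements.S3864
import Cfsg.Agent.Lib.Invol.DihStatements
-- import your own Cfsg.Agent.* helpers here

set_option autoImplicit false
open Cfsg

namespace Cfsg.Agent.S3864

/-- Let G be a finite group whose Sylow 2-subgroups are dihedral of order 2 ^ n with n ≥ 3, and count the conjugacy classes of involutions of G. Then exactly one of the following holds: there is one class of involutions and no normal subgroup of index 2; there are two classes of involutions, a normal subgroup of index 2 and none of index 4; there are three classes of involutions and G has a normal 2-complement. -/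
theorem result {G : Type*} [Group G] [Finite G] (P : Sylow 2 G) (n : ℕ) (hn : 3 ≤ n) (hdih : Nonempty (↥(P : Subgroup G) ≃* DihedralGroup (2 ^ (n - 1)))) : (Nat.card {C : ConjClasses G // ∃ g : G, ConjClasses.mk g = C ∧ orderOf g = 2} = 1 ∧ ∀ N : Subgroup G, N.Normal → N.index ≠ 2) ∨ (Nat.card {C : ConjClasses G // ∃ g : G, ConjClasses.mk g = C ∧ orderOf g = 2} = 2 ∧ (∃ N : Subgroup G, N.Normal ∧ N.index = 2) ∧ ∀ N : Subgroup G, N.Normal → N.index ≠ 4) ∨ (Nat.card {C : ConjClasses G // ∃ g : G, ConjClasses.mk g = C ∧ orderOf g = 2} = 3 ∧ Cfsg.HasNormalPComplement 2 G) := by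
  haveI : Fact (Nat.Prime 2) := ⟨Nat.prime_two⟩
  obtain ⟨eS⟩ := hdih
  have h2 : 2 ^ 2 ≤ 2 ^ (n - 1) := Nat.pow_le_pow_right (by norm_num) (by omega)
  obtain ⟨D⟩ := Invol.dih_exists (m := 2 ^ (n - 1)) (by omega) eS (fun h4 => by
    have h := Nat.card_congr eS.toEquiv
    rw [h4, DihedralGroup.nat_card] at h
    omega)
  have hswap : Nat.card {C : ConjClasses G // ∃ g : G, ConjClasses.mk g = C ∧ orderOf g = 2} =
      Nat.card {C : ConjClasses G // ∃ t : G, orderOf t = 2 ∧ ConjClasses.mk t = C} :=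
    Nat.card_congr (Equiv.subtypeEquivRight fun C => exists_congr fun g => and_comm)
  rw [hswap]
  by_cases h0 : IsConj D.gz (D.gs 0) <;> by_cases h1 : IsConj D.gz (D.gs 1)
  · exact Or.inl ⟨D.classes_one h0 h1, fun N _ => D.no_index_two h0 h1 N⟩
  · refine Or.inr (Or.inl ⟨D.classes_two (i := 0) (j := 1) (by omega) h0 h1, ?_, fun N hN => ?_⟩)
    · obtain ⟨K, hKn, hK, -⟩ := D.exists_index_two_gs h1
      exact ⟨K, hKn, hK⟩
    · haveI := hN
      exact D.index_ne_four h0 N
  · refine Or.inr (Or.inl ⟨D.classes_two (i := 1) (j := 0) (by omega) h1 h0, ?_, fun N hN => ?_⟩)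
    · obtain ⟨K, hKn, hK, -⟩ := D.exists_index_two_gs h0
      exact ⟨K, hKn, hK⟩
    · haveI := hN
      exact D.index_ne_four h1 N
  · exact Or.inr (Or.inr ⟨D.classes_three h0 h1, D.case_complement h0 h1⟩)

end Cfsg.Agent.S3864
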