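import Cfsg.Statements.S3866
import Mathlib

set_option autoImplicit false
open Cfsg
open scoped commutatorElement

namespace Cfsg.Agent.S3866

/-- Let A be a commutative normal subgroup of the finite group G with G generated by A and an element x. Then a ↦ x a x⁻¹ a⁻¹ is a surjective homomorphism from A onto the commutator subgroup of G whose kernel is the centralizer of x in A; in particular the commutator subgroup has order equal to the index in A of that centralizer. -/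
theorem result {G : Type*} [Group G] [Finite G] (A : Subgroup G) [A.Normal] (hA : IsMulCommutative A) (x : G) (hgen : A ⊔ Subgroup.zpowers x = ⊤) : (∀ a ∈ A, x * a * x⁻¹ * a⁻¹ ∈ commutator G) ∧ (∀ c ∈ commutator G, ∃ a ∈ A, x * a * x⁻¹ * a⁻¹ = c) ∧ (∀ a ∈ A, ∀ b ∈ A, x * (a * b) * x⁻¹ * (a * b)⁻¹ = (x * a * x⁻¹ * a⁻¹) * (x * b * x⁻¹ * b⁻¹)) ∧ Nat.card (commutator G) * Nat.card ↥(A ⊓ Subgroup.centralizer ({x} : Set G)) = Nat.card A := by
  have hab : ∀ a ∈ A, ∀ b ∈ A, a * b = b * a := fun a ha b hb =>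
    congrArg Subtype.val (hA.is_comm.comm (⟨a, ha⟩ : A) ⟨b, hb⟩)
  have hn : ∀ a ∈ A, ∀ g : G, g * a * g⁻¹ ∈ A := fun a ha g =>
    (inferInstance : A.Normal).conj_mem a ha g
  have hfA : ∀ a ∈ A, x * a * x⁻¹ * a⁻¹ ∈ A := fun a ha => mul_mem (hn a ha x) (inv_mem ha)
  have hmul : ∀ a ∈ A, ∀ b ∈ A, x * (a * b) * x⁻¹ * (a * b)⁻¹ =
      (x * a * x⁻¹ * a⁻¹) * (x * b * x⁻¹ * b⁻¹) := by
    intro a ha b hb
    calc x * (a * b) * x⁻¹ * (a * b)⁻¹ = x * a * x⁻¹ * ((x * b * x⁻¹ * b⁻¹) * a⁻¹) := by group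
      _ = x * a * x⁻¹ * (a⁻¹ * (x * b * x⁻¹ * b⁻¹)) := by
        rw [hab _ (hfA b hb) _ (inv_mem ha)]
      _ = _ := by group
  let f : A →* G := MonoidHom.mk' (fun a => x * (a : G) * x⁻¹ * (a : G)⁻¹)
    fun a b => hmul a a.2 b b.2
  have hker : Nat.card f.ker = Nat.card ↥(A ⊓ Subgroup.centralizer ({x} : Set G)) := by
    refine Nat.card_congr
      { toFun := fun a => ⟨((a : A) : G), (a : A).2, ?_⟩
        invFun := fun a => ⟨⟨(a : G), a.2.1⟩, ?_⟩
        left_inv := fun a => rfl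
        right_inv := fun a => rfl }
    · have h : x * ((a : A) : G) * x⁻¹ * ((a : A) : G)⁻¹ = 1 := a.2
      rw [mul_inv_eq_one, mul_inv_eq_iff_eq_mul] at h
      exact Subgroup.mem_centralizer_singleton_iff.mpr h.symm
    · show x * (a : G) * x⁻¹ * (a : G)⁻¹ = 1
      rw [mul_inv_eq_one, mul_inv_eq_iff_eq_mul]
      exact (Subgroup.mem_centralizer_singleton_iff.mp a.2.2).symm
  have hle : f.range ≤ commutator G := by
    rintro _ ⟨a, rfl⟩
    exact Subgroup.commutator_mem_commutator (Subgroup.mem_top x) (Subgroup.mem_top (a : G))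
  have hge : commutator G ≤ f.range := by
    have hdec : ∀ g : G, ∃ a ∈ A, ∃ k : ℤ, g = a * x ^ k := by
      intro g
      have hg : g ∈ ((A ⊔ Subgroup.zpowers x : Subgroup G) : Set G) := by
        rw [hgen]; exact Subgroup.mem_top g
      rw [Subgroup.normal_mul] at hg
      obtain ⟨a, ha, _, ⟨k, rfl⟩, rfl⟩ := hg
      exact ⟨a, ha, k, rfl⟩
    haveI : f.range.Normal := by
      constructor
      rintro _ ⟨a, rfl⟩ g
      obtain ⟨b, hb, k, rfl⟩ := hdec g
      refine ⟨⟨x ^ k * (a : G) * (x ^ k)⁻¹, hn a a.2 _⟩, ?_⟩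
      have h1 : x * (x ^ k * (a : G) * (x ^ k)⁻¹) * x⁻¹ * (x ^ k * (a : G) * (x ^ k)⁻¹)⁻¹ =
          x ^ k * (x * (a : G) * x⁻¹ * (a : G)⁻¹) * (x ^ k)⁻¹ := by
        group
      show x * (x ^ k * (a : G) * (x ^ k)⁻¹) * x⁻¹ * (x ^ k * (a : G) * (x ^ k)⁻¹)⁻¹ =
        b * x ^ k * (x * (a : G) * x⁻¹ * (a : G)⁻¹) * (b * x ^ k)⁻¹
      rw [h1, show b * x ^ k * (x * (a : G) * x⁻¹ * (a : G)⁻¹) * (b * x ^ k)⁻¹ =
        b * (x ^ k * (x * (a : G) * x⁻¹ * (a : G)⁻¹) * (x ^ k)⁻¹) * b⁻¹ by group,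
        ← hab _ (hn _ (hfA a a.2) _) b hb, mul_inv_cancel_right]
    rw [commutator_def, Subgroup.commutator_le]
    intro g _ h _
    rw [← QuotientGroup.eq_one_iff]
    show QuotientGroup.mk' f.range _ = 1
    rw [map_commutatorElement, commutatorElement_eq_one_iff_mul_comm]
    have hxa : ∀ a ∈ A, Commute (QuotientGroup.mk' f.range x) (QuotientGroup.mk' f.range a) := by
      intro a ha
      have h2 : QuotientGroup.mk' f.range (x * a * x⁻¹ * a⁻¹) = 1 :=
        (QuotientGroup.eq_one_iff _).mpr ⟨⟨a, ha⟩, rfl⟩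
      rwa [map_mul, map_mul, map_mul, map_inv, map_inv, mul_inv_eq_one, mul_inv_eq_iff_eq_mul] at h2
    obtain ⟨a, ha, i, rfl⟩ := hdec g
    obtain ⟨b, hb, j, rfl⟩ := hdec h
    simp only [map_mul, map_zpow]
    have hAB : Commute (QuotientGroup.mk' f.range a) (QuotientGroup.mk' f.range b) :=
      (show Commute a b from hab a ha b hb).map _
    exact Commute.mul_left
      (Commute.mul_right hAB ((hxa a ha).symm.zpow_right j))
      (Commute.mul_right ((hxa b hb).zpow_left i) (Commute.zpow_zpow_self _ i j))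
  have heq : commutator G = f.range := le_antisymm hge hle
  refine ⟨fun a ha => hle ⟨⟨a, ha⟩, rfl⟩, fun c hc => ?_, hmul, ?_⟩
  · obtain ⟨a, ha⟩ := hge hc
    exact ⟨a, a.2, ha⟩
  · rw [← hker, heq, ← Subgroup.index_ker, mul_comm, Subgroup.card_mul_index]

end Cfsg.Agent.S3866
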