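import Cfsg.Statements.S3872
import Cfsg.Agent.S4209
import Cfsg.Agent.S4225
import Cfsg.Agent.Lib.Basics.Frattini

set_option autoImplicit false
open Cfsg
open scoped commutatorElement

namespace Cfsg.Agent.S3872

/-- Say that a finite group is p-exponent closed when its elements of order dividing p form a subgroup. Let G be a finite p-group that is not p-exponent closed, but all of whose proper subgroups and proper quotients are. Then G is generated by two elements, has nilpotency class at least p, has exponent p², has cyclic center, and has order at least p^(p+1). -/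
theorem result {G : Type*} [Group G] [Finite G] {p : ℕ} [Fact p.Prime] (hG : IsPGroup p G)
    (hnc : ¬ (∃ H : Subgroup G, (H : Set G) = {g : G | g ^ p = 1})) (hsub : ∀ K : Subgroup G, K ≠ ⊤ → (∃ H : Subgroup ↥K, (H : Set ↥K) = {g : ↥K | g ^ p = 1}))
    (hquo : ∀ (N : Subgroup G) [N.Normal], N ≠ ⊥ → (∃ H : Subgroup (G ⧸ N), (H : Set (G ⧸ N)) = {g : (G ⧸ N) | g ^ p = 1})) :
    (∃ x y : G, Subgroup.closure ({x, y} : Set G) = ⊤) ∧ (⊤ : Subgroup G).lowerCentralSeries (p - 1) ≠ ⊥ ∧
      Monoid.exponent G = p ^ 2 ∧ IsCyclic ↥(Subgroup.center G) ∧ p ^ (p + 1) ≤ Nat.card G := by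
  classical
  have hp : p.Prime := Fact.out
  obtain ⟨x, y, hx, hy, hxy⟩ : ∃ x y : G, x ^ p = 1 ∧ y ^ p = 1 ∧ (x * y) ^ p ≠ 1 := by
    by_contra hcon
    refine hnc ⟨{ carrier := {g : G | g ^ p = 1}, one_mem' := one_pow p,
                  mul_mem' := fun {a b} ha hb => by
                    by_contra h
                    exact hcon ⟨a, b, ha, hb, h⟩
                  inv_mem' := fun {a} ha => by
                    show a⁻¹ ^ p = 1
                    rw [inv_pow, show a ^ p = 1 from ha, inv_one] }, rfl⟩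
  have hgen : Subgroup.closure ({x, y} : Set G) = ⊤ := by
    by_contra hne
    obtain ⟨H, hH⟩ := hsub _ hne
    have hmem : ∀ a : Subgroup.closure ({x, y} : Set G), a ∈ H ↔ a ^ p = 1 := fun a => by
      rw [← SetLike.mem_coe, hH]; rfl
    have h := (hmem _).mp (H.mul_mem
      ((hmem ⟨x, Subgroup.subset_closure (Set.mem_insert _ _)⟩).mpr (Subtype.ext hx))
      ((hmem ⟨y, Subgroup.subset_closure (Set.mem_insert_of_mem _ rfl)⟩).mpr (Subtype.ext hy)))
    exact hxy (congrArg Subtype.val h)
  have hlcs : (⊤ : Subgroup G).lowerCentralSeries (p - 1) ≠ ⊥ := by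
    intro h
    obtain ⟨H, -, hH⟩ := Cfsg.Agent.S4225.result (Cfsg.Agent.S4209.result hG h) 1
    exact hnc ⟨H, by simpa using hH⟩
  have hq : ∀ z ∈ Subgroup.center G, z ≠ 1 → ∀ g : G, g ^ p ∈ Subgroup.zpowers z := by
    intro z hz hz1 g
    haveI : (Subgroup.zpowers z).Normal := ⟨fun n hn a => by
      rw [Subgroup.mem_center_iff.mp ((Subgroup.zpowers_le.mpr hz) hn) a, mul_inv_cancel_right]
      exact hn⟩
    obtain ⟨H, hH⟩ := hquo (Subgroup.zpowers z) (by rwa [Ne, Subgroup.zpowers_eq_bot])
    have hmem : ∀ a : G ⧸ Subgroup.zpowers z, a ∈ H ↔ a ^ p = 1 := fun a => by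
      rw [← SetLike.mem_coe, hH]; rfl
    have htop : H.comap (QuotientGroup.mk' (Subgroup.zpowers z)) = ⊤ := by
      rw [eq_top_iff, ← hgen, Subgroup.closure_le]
      rintro a (rfl | rfl) <;> rw [SetLike.mem_coe, Subgroup.mem_comap, hmem, ← map_pow]
      · rw [hx, map_one]
      · rw [hy, map_one]
    have h := (hmem _).mp (htop ▸ Subgroup.mem_top g : g ∈ H.comap (QuotientGroup.mk' _))
    rw [← map_pow] at h
    exact (QuotientGroup.eq_one_iff _).mp h
  haveI : Nontrivial G := ⟨⟨x * y, 1, fun h => hxy (by rw [h, one_pow])⟩⟩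
  haveI := hG.center_nontrivial
  obtain ⟨⟨z, hz⟩, hz1⟩ := exists_ne (1 : Subgroup.center G)
  obtain ⟨m, hm⟩ := hG.exists_orderOf_eq_pow z
  have hm0 : m ≠ 0 := fun h => hz1 (Subtype.ext (orderOf_eq_one_iff.mp (by rw [hm, h, pow_zero])))
  set w := z ^ p ^ (m - 1) with hw
  have hwo : orderOf w = p := by
    rw [hw, orderOf_pow' _ (pow_ne_zero _ hp.ne_zero), hm,
      Nat.gcd_eq_right (pow_dvd_pow p (by omega)), Nat.pow_div (by omega) hp.pos,
      show m - (m - 1) = 1 by omega, pow_one]
  have hwc : w ∈ Subgroup.center G := Subgroup.pow_mem _ hz _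
  have hw1 : w ≠ 1 := fun h => hp.ne_one (by rw [← hwo, h, orderOf_one])
  have hp2 : ∀ g : G, g ^ p ^ 2 = 1 := fun g => by
    obtain ⟨i, hi⟩ := Subgroup.mem_zpowers_iff.mp (hq w hwc hw1 g)
    rw [sq, pow_mul, ← hi, ← zpow_natCast, ← zpow_mul, mul_comm, zpow_mul, zpow_natCast,
      ← hwo, pow_orderOf_eq_one, one_zpow]
  have hexp : Monoid.exponent G = p ^ 2 := by
    obtain ⟨k, hk, hk'⟩ := (Nat.dvd_prime_pow hp).mp (Monoid.exponent_dvd_of_forall_pow_eq_one hp2)
    have h2 : k = 2 := by
      by_contra hne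
      refine hxy (Monoid.exponent_dvd_iff_forall_pow_eq_one.mp ?_ (x * y))
      rw [hk']
      calc p ^ k ∣ p ^ 1 := pow_dvd_pow p (by omega)
        _ = p := pow_one p
    rw [hk', h2]
  have homega : ∀ c ∈ Subgroup.center G, c ^ p = 1 → c ∈ Subgroup.zpowers w := by
    intro c hc hcp
    by_cases hc1 : c = 1
    · rw [hc1]; exact one_mem _
    have key : ∀ u ∈ Subgroup.center G, u ≠ 1 → u ^ p = 1 →
        Subgroup.zpowers ((x * y) ^ p) = Subgroup.zpowers u := by
      intro u hu hu1 hup
      refine Subgroup.eq_of_le_of_card_ge (Subgroup.zpowers_le.mpr (hq u hu hu1 _)) ?_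
      rw [Nat.card_zpowers, Nat.card_zpowers, orderOf_eq_prime hup hu1,
        orderOf_eq_prime (by rw [← pow_mul, ← sq]; exact hp2 _) hxy]
    rw [← key w hwc hw1 (orderOf_dvd_iff_pow_eq_one.mp (dvd_of_eq hwo)), key c hc hc1 hcp]
    exact Subgroup.mem_zpowers c
  refine ⟨⟨x, y, hgen⟩, hlcs, hexp, ?_, ?_⟩
  · by_cases hall : ∀ c ∈ Subgroup.center G, c ^ p = 1
    · have he : Subgroup.center G = Subgroup.zpowers w :=
        le_antisymm (fun c hc => homega c hc (hall c hc)) (Subgroup.zpowers_le.mpr hwc)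
      rw [he]
      infer_instance
    · obtain ⟨c, hc, hcp⟩ : ∃ c ∈ Subgroup.center G, c ^ p ≠ 1 := by
        by_contra h
        exact hall fun c hc => by
          by_contra h'
          exact h ⟨c, hc, h'⟩
      have hcw : Subgroup.zpowers (c ^ p) = Subgroup.zpowers w := by
        refine Subgroup.eq_of_le_of_card_ge (Subgroup.zpowers_le.mpr (hq w hwc hw1 c)) ?_
        rw [Nat.card_zpowers, Nat.card_zpowers, hwo,
          orderOf_eq_prime (by rw [← pow_mul, ← sq]; exact hp2 _) hcp]
      have he : Subgroup.center G = Subgroup.zpowers c := by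
        refine le_antisymm (fun d hd => ?_) (Subgroup.zpowers_le.mpr hc)
        have hd' : d ^ p ∈ Subgroup.zpowers (c ^ p) := by rw [hcw]; exact hq w hwc hw1 d
        obtain ⟨i, hi⟩ := Subgroup.mem_zpowers_iff.mp hd'
        have h1 : (d * (c ^ i)⁻¹) ^ p = 1 := by
          have hcomm : Commute d (c ^ i)⁻¹ :=
            (Subgroup.mem_center_iff.mp (inv_mem (Subgroup.zpow_mem _ hc i)) d : _)
          rw [hcomm.mul_pow, inv_pow, ← hi, ← zpow_natCast c p, ← zpow_mul, ← zpow_natCast (c ^ i) p,
            ← zpow_mul, mul_comm i, mul_inv_cancel]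
        have h2 := homega _ (mul_mem hd (inv_mem (Subgroup.zpow_mem _ hc i))) h1
        rw [← hcw] at h2
        have h3 := mul_mem ((Subgroup.zpowers_le.mpr
          (Subgroup.pow_mem _ (Subgroup.mem_zpowers c) p)) h2) (Subgroup.zpow_mem _ (Subgroup.mem_zpowers c) i)
        rwa [inv_mul_cancel_right] at h3
      rw [he]
      infer_instance
  · haveI : Group.IsNilpotent G := hG.isNilpotent
    obtain ⟨n, hn⟩ := IsPGroup.iff_card.mp hG
    obtain ⟨N, hN⟩ := (Subgroup.nilpotent_iff_lowerCentralSeries (G := G)).mp inferInstance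
    set L := fun i => (⊤ : Subgroup G).lowerCentralSeries i with hL
    have hsucc : ∀ i, L (i + 1) = ⁅L i, (⊤ : Subgroup G)⁆ := fun i =>
      Subgroup.lowerCentralSeries_succ ⊤ i
    have hant : ∀ i, L (i + 1) ≤ L i := fun i => by
      rw [hsucc]
      haveI : (L i).Normal := by rw [hL]; infer_instance
      exact Subgroup.commutator_le_left _ _
    have hstrict : ∀ i, L i ≠ ⊥ → L (i + 1) ≠ L i := by
      intro i hi he
      have : ∀ j, L (i + j) = L i := by
        intro j
        induction j with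
        | zero => rfl
        | succ j ih => rw [← Nat.add_assoc, hsucc, ih, ← hsucc, he]
      apply hi
      rw [← this N, eq_bot_iff]
      refine le_trans ?_ hN.le
      induction i with
      | zero => rw [Nat.zero_add]
      | succ k _ =>
        exact (antitone_nat_of_succ_le hant) (by omega)
    have hidx : p ^ 2 ≤ (L 1).index := by
      by_contra hlt
      have hfr : L 1 ≤ frattini G := by
        rw [hsucc, show L 0 = ⊤ from Subgroup.lowerCentralSeries_zero ⊤]
        exact Cfsg.Agent.Basics.commutator_le_frattini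
      obtain ⟨k, hk⟩ := hG.index (L 1)
      have hk1 : k ≤ 1 := by
        by_contra hk1
        exact hlt (hk ▸ Nat.pow_le_pow_right hp.pos (by omega))
      obtain ⟨g, hg⟩ : ∃ g : G, Subgroup.zpowers g ⊔ L 1 = ⊤ := by
        rcases Nat.le_one_iff_eq_zero_or_eq_one.mp hk1 with rfl | rfl
        · exact ⟨1, by rw [show L 1 = ⊤ from Subgroup.index_eq_one.mp (by rw [hk, pow_zero]), sup_top_eq]⟩
        · obtain ⟨g, hg⟩ : ∃ g : G, g ∉ L 1 := by
            by_contra h
            have : (L 1).index = 1 :=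
              Subgroup.index_eq_one.mpr (eq_top_iff.mpr fun g _ => not_not.mp (fun h' => h ⟨g, h'⟩))
            rw [hk, pow_one] at this
            exact hp.ne_one this
          refine ⟨g, Subgroup.index_eq_one.mp ?_⟩
          have hd : (Subgroup.zpowers g ⊔ L 1).index ∣ p := by
            calc _ ∣ (L 1).index := Subgroup.index_dvd_of_le le_sup_right
              _ = p := by rw [hk, pow_one]
          rcases hp.eq_one_or_self_of_dvd _ hd with h | h
          · exact h
          · exfalso
            have h1 : (L 1).relIndex (Subgroup.zpowers g ⊔ L 1) = 1 := by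
              have h2 := Subgroup.relIndex_mul_index (le_sup_right : L 1 ≤ Subgroup.zpowers g ⊔ L 1)
              rw [h, hk, pow_one] at h2
              exact Nat.eq_of_mul_eq_mul_right hp.pos (h2.trans (one_mul p).symm)
            exact hg ((Subgroup.relIndex_eq_one.mp h1)
              (Subgroup.mem_sup_left (Subgroup.mem_zpowers g)))
      have hg' : Subgroup.zpowers g = ⊤ :=
        frattini_nongenerating (eq_top_iff.mpr (hg ▸ sup_le_sup_left hfr _))
      have hab : L 1 = ⊥ := by
        rw [hsucc, show L 0 = ⊤ from Subgroup.lowerCentralSeries_zero ⊤, eq_bot_iff, ← hg',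
          Subgroup.commutator_le]
        rintro _ ⟨i, rfl⟩ _ ⟨j, rfl⟩
        rw [Subgroup.mem_bot, commutatorElement_eq_one_iff_commute]
        exact Commute.zpow_zpow_self g i j
      exact hlcs (le_bot_iff.mp (le_trans
        ((antitone_nat_of_succ_le hant) (by have := hp.two_le; omega : 1 ≤ p - 1)) hab.le))
    have hcard : ∀ i, L (i + 1) ≠ ⊥ → Nat.card (L (i + 1)) * p ^ (i + 2) ≤ p ^ n := by
      intro i hi
      induction i with
      | zero =>
        rw [← hn, ← Subgroup.card_mul_index (L 1)]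
        exact Nat.mul_le_mul_left _ hidx
      | succ i ih =>
        have hne : L (i + 1) ≠ ⊥ := fun h => hi (le_bot_iff.mp ((hant (i + 1)).trans h.le))
        have h1 := ih hne
        obtain ⟨a, ha⟩ := IsPGroup.iff_card.mp (hG.to_subgroup (L (i + 1)))
        obtain ⟨b, hb⟩ := IsPGroup.iff_card.mp (hG.to_subgroup (L (i + 1 + 1)))
        have hlt : b < a := by
          by_contra hge
          exact hstrict (i + 1) hne (Subgroup.eq_of_le_of_card_ge (hant (i + 1))
            (by rw [ha, hb]; exact Nat.pow_le_pow_right hp.pos (by omega)))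
        rw [hb]
        rw [ha] at h1
        calc p ^ b * p ^ (i + 1 + 2) = p ^ (b + 1) * p ^ (i + 2) := by ring
          _ ≤ p ^ a * p ^ (i + 2) := Nat.mul_le_mul_right _ (Nat.pow_le_pow_right hp.pos hlt)
          _ ≤ p ^ n := h1
    have h2le := hp.two_le
    have hne : L (p - 2 + 1) ≠ ⊥ := by rw [show p - 2 + 1 = p - 1 by omega]; exact hlcs
    have h := hcard (p - 2) hne
    obtain ⟨a, ha⟩ := IsPGroup.iff_card.mp (hG.to_subgroup (L (p - 2 + 1)))
    have ha0 : a ≠ 0 := fun h0 => hne (Subgroup.card_eq_one.mp (by rw [ha, h0, pow_zero]))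
    rw [hn]
    calc p ^ (p + 1) ≤ p ^ (a + (p - 2 + 2)) := Nat.pow_le_pow_right hp.pos (by omega)
      _ = Nat.card (L (p - 2 + 1)) * p ^ (p - 2 + 2) := by rw [ha, pow_add]
      _ ≤ p ^ n := h

end Cfsg.Agent.S3872
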