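import Cfsg.Statements.S3873
import Cfsg.Agent.Lib.Coprime23.MinPClosed

set_option autoImplicit false
open Cfsg

namespace Cfsg.Agent.S3873

/-- Say that a finite group is p-exponent closed when its elements of order dividing p form a subgroup. Let G be a finite group that is not p-exponent closed, but all of whose proper subgroups and proper quotients are, and suppose G is neither simple nor a p-group. Then there is a prime q ≠ p such that G has order p · q^e, where e is the multiplicative order of q modulo p, and G has a normal elementary abelian subgroup of order q^e that is a minimal normal subgroup of G. -/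
theorem result {G : Type*} [Group G] [Finite G] {p : ℕ} [Fact p.Prime]
    (hnc : ¬ (∃ H : Subgroup G, (H : Set G) = {g : G | g ^ p = 1})) (hsub : ∀ K : Subgroup G, K ≠ ⊤ → (∃ H : Subgroup ↥K, (H : Set ↥K) = {g : ↥K | g ^ p = 1}))
    (hquo : ∀ (N : Subgroup G) [N.Normal], N ≠ ⊥ → (∃ H : Subgroup (G ⧸ N), (H : Set (G ⧸ N)) = {g : (G ⧸ N) | g ^ p = 1}))
    (hns : ¬ IsSimpleGroup G) (hnp : ¬ IsPGroup p G) :
    ∃ q : ℕ, q.Prime ∧ q ≠ p ∧ Nat.card G = p * q ^ orderOf (q : ZMod p) ∧
      ∃ A : Subgroup G, A.Normal ∧ Nat.card ↥A = q ^ orderOf (q : ZMod p) ∧ Cfsg.IsElementaryAbelian q A ∧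
        ∀ B : Subgroup G, B.Normal → B ≤ A → B = ⊥ ∨ B = A := by
  have hp : p.Prime := Fact.out
  -- `G` is generated by elements of order `p`
  set T : Subgroup G := Subgroup.closure {g : G | g ^ p = 1} with hT
  have hTtop : T = ⊤ := by
    by_contra hne
    apply hnc
    obtain ⟨H, hH⟩ := hsub T hne
    refine ⟨H.map T.subtype, Set.ext fun g => ?_⟩
    constructor
    · rintro ⟨y, hy, rfl⟩
      have : y ∈ (H : Set T) := hy
      rw [hH] at this
      exact congrArg Subtype.val this
    · intro hg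
      refine ⟨⟨g, Subgroup.subset_closure hg⟩, ?_, rfl⟩
      show (⟨g, _⟩ : T) ∈ (H : Set T)
      rw [hH]
      exact Subtype.ext hg
  haveI hnt : Nontrivial G := by
    by_contra h
    rw [not_nontrivial_iff_subsingleton] at h
    exact hnp (fun g => ⟨0, Subsingleton.elim _ _⟩)
  obtain ⟨H, hHn, hH0, hH1⟩ : ∃ H : Subgroup G, H.Normal ∧ H ≠ ⊥ ∧ H ≠ ⊤ := by
    by_contra hc
    push_neg at hc
    apply hns
    exact { eq_bot_or_eq_top_of_normal := fun H hH => or_iff_not_imp_left.mpr (hc H hH) }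
  haveI := hHn
  obtain ⟨N, hNn, hNH, hN0, hNmin⟩ := Basics.exists_minimal_normal hH0
  haveI := hNn
  have hN1 : N ≠ ⊤ := fun h => hH1 (top_le_iff.mp (h ▸ hNH))
  -- every quotient has exponent `p`
  have hexp : ∀ (K : Subgroup G) [K.Normal], K ≠ ⊥ → ∀ g : G, g ^ p ∈ K := by
    intro K _ hK g
    obtain ⟨S, hS⟩ := hquo K hK
    have hle : T ≤ S.comap (QuotientGroup.mk' K) := (Subgroup.closure_le _).mpr fun y hy => by
      show (QuotientGroup.mk' K y : G ⧸ K) ∈ (S : Set (G ⧸ K))
      rw [hS]
      show (QuotientGroup.mk' K y) ^ p = 1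
      rw [← map_pow, show y ^ p = 1 from hy, map_one]
    have : (QuotientGroup.mk' K g : G ⧸ K) ∈ (S : Set (G ⧸ K)) :=
      hle (hTtop ▸ Subgroup.mem_top g)
    rw [hS] at this
    rw [← QuotientGroup.eq_one_iff, QuotientGroup.mk_pow]
    exact this
  have hNp : (Nat.card N).Coprime p := by
    rw [Nat.coprime_comm, hp.coprime_iff_not_dvd]
    intro hd
    obtain ⟨S, hS⟩ := hsub N hN1
    haveI : S.Characteristic := Subgroup.characteristic_iff_comap_eq.mpr fun φ => by
      ext y
      show φ y ∈ (S : Set N) ↔ y ∈ (S : Set N)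
      rw [hS]
      show φ y ^ p = 1 ↔ y ^ p = 1
      rw [← map_pow, EmbeddingLike.map_eq_one_iff]
    rcases hNmin (S.map N.subtype) inferInstance (Subgroup.map_subtype_le _) with h | h
    · obtain ⟨y, hy⟩ := exists_prime_orderOf_dvd_card' p hd
      have : y ∈ (S : Set N) := by
        rw [hS]
        exact hy ▸ pow_orderOf_eq_one y
      have h2 : y ∈ S := this
      rw [(Subgroup.map_eq_bot_iff_of_injective _ N.subtype_injective).mp h,
        Subgroup.mem_bot] at h2
      exact hp.ne_one (by rw [← hy, h2, orderOf_one])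
    · apply hnp
      intro g
      refine ⟨2, ?_⟩
      have hg := hexp N hN0 g
      rw [← h] at hg
      obtain ⟨y, hy, hyg⟩ := hg
      have hy' : y ∈ (S : Set N) := hy
      rw [hS] at hy'
      rw [pow_two, pow_mul, ← hyg, ← map_pow, show y ^ p = 1 from hy', map_one]
  -- hence every `p`-element has order dividing `p`
  have hel : ∀ (g : G) (n : ℕ), g ^ p ^ n = 1 → g ^ p = 1 := by
    intro g n hg
    have h1 : orderOf (g ^ p) ∣ p ^ n := orderOf_dvd_of_pow_eq_one
      (by rw [← pow_mul, mul_comm, pow_mul, hg, one_pow])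
    have h2 : orderOf (g ^ p) ∣ Nat.card N := by
      have := orderOf_dvd_natCard (⟨g ^ p, hexp N hN0 g⟩ : N)
      rwa [Subgroup.orderOf_mk] at this
    have := Nat.dvd_gcd h1 h2
    rw [(hNp.symm.pow_left n).gcd_eq_one, Nat.dvd_one, orderOf_eq_one_iff] at this
    exact this
  have key : ∀ (M : Type _) [Group M] [Finite M],
      (∀ (y : M) (n : ℕ), y ^ p ^ n = 1 → y ^ p = 1) →
      (∃ S : Subgroup M, (S : Set M) = {y : M | y ^ p = 1}) → IsPClosed p M := by
    intro M _ _ hM hSex Q
    obtain ⟨S, hS⟩ := hSex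
    have hSp : IsPGroup p S := fun y => ⟨1, Subtype.ext (by
      have : (y : M) ∈ (S : Set M) := y.2
      rw [hS] at this
      rw [pow_one]
      exact this)⟩
    have hQS : (Q : Subgroup M) ≤ S := fun y hy => by
      obtain ⟨k, hk⟩ := Q.isPGroup' ⟨y, hy⟩
      show y ∈ (S : Set M)
      rw [hS]
      exact hM y k (congrArg Subtype.val hk)
    have hQeq : S = Q := Q.is_maximal' hSp hQS
    refine ⟨fun y hy g => ?_⟩
    rw [← hQeq] at hy ⊢
    have hy' : y ∈ (S : Set M) := hy
    rw [hS] at hy'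
    show g * y * g⁻¹ ∈ (S : Set M)
    rw [hS]
    show (g * y * g⁻¹) ^ p = 1
    rw [conj_pow, show y ^ p = 1 from hy', mul_one, mul_inv_cancel]
  refine Cfsg.Agent.MinPClosed.not_simple_structure ?_ ?_ ?_ hns
  · intro hcl
    apply hnc
    obtain ⟨P⟩ : Nonempty (Sylow p G) := Sylow.nonempty
    haveI := Sylow.unique_of_normal P (hcl P)
    refine ⟨P, Set.ext fun g => ⟨fun hg => ?_, fun hg => ?_⟩⟩
    · obtain ⟨k, hk⟩ := P.isPGroup' ⟨g, hg⟩
      exact hel g k (congrArg Subtype.val hk)
    · have hzp : IsPGroup p (Subgroup.zpowers g) := by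
        obtain ⟨j, -, hj⟩ := (Nat.dvd_prime_pow hp).mp
          ((orderOf_dvd_of_pow_eq_one hg).trans (dvd_of_eq (pow_one p).symm))
        exact IsPGroup.of_card (n := j) (by rw [Nat.card_zpowers, hj])
      obtain ⟨Q, hQ⟩ := hzp.exists_le_sylow
      rw [Subsingleton.elim Q P] at hQ
      exact hQ (Subgroup.mem_zpowers g)
  · intro K hK
    refine key K (fun y n hy => Subtype.ext ?_) (hsub K hK)
    exact hel (y : G) n (congrArg Subtype.val hy)
  · intro K _ hK
    refine key (G ⧸ K) (fun y n _ => ?_) (hquo K hK)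
    obtain ⟨g, rfl⟩ := QuotientGroup.mk_surjective y
    rw [← QuotientGroup.mk_pow, QuotientGroup.eq_one_iff]
    exact hexp K hK g

end Cfsg.Agent.S3873
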