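import Cfsg.Statements.S3875
import Cfsg.Agent.Lib.Recog.LeastNonClosed
import Cfsg.Agent.Lib.SmallSimple.RecognizePrime
import Mathlib.GroupTheory.SemidirectProduct
import Mathlib.FieldTheory.Finite.GaloisField

set_option autoImplicit false
open Cfsg

namespace Cfsg.Agent.S3875

/-- Let p be an odd prime and let m be the least prime power congruent to 1 modulo p. Then the least order of a finite group whose Sylow p-subgroups are not normal is the smaller of p · m and p(p² − 1)/2: every finite group whose Sylow p-subgroups are not normal has at least that order, and some group of exactly that order has non-normal Sylow p-subgroups. -/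
theorem result (p : ℕ) [Fact p.Prime] (hp : p ≠ 2) (m : ℕ) (hm : IsPrimePow m) (hm1 : m % p = 1)
    (hleast : ∀ k : ℕ, IsPrimePow k → k % p = 1 → m ≤ k) :
    (∀ (H : Type) [Group H] [Finite H], ¬ Cfsg.IsPClosed p H → min (p * m) (p * (p ^ 2 - 1) / 2) ≤ Nat.card H) ∧
      ∃ (H : Type) (_ : Group H) (_ : Finite H), Nat.card H = min (p * m) (p * (p ^ 2 - 1) / 2) ∧ ¬ Cfsg.IsPClosed p H := by
  classical
  have hp' := (Fact.out : p.Prime)
  refine ⟨fun H _ _ hH => LeastNonClosed.lower_bound p hp m hleast (Nat.card H) H le_rfl hH, ?_⟩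
  by_cases hle : p * m ≤ p * (p ^ 2 - 1) / 2
  · obtain ⟨q, i, hq, hi, rfl⟩ := hm
    haveI := Fact.mk hq.nat_prime
    let F := GaloisField q i
    haveI : Finite F := inferInstance
    haveI := Fintype.ofFinite F
    have hF : Nat.card F = q ^ i := GaloisField.card q i (by omega)
    have hpd : p ∣ Nat.card Fˣ := by
      rw [Nat.card_units, hF]
      exact Nat.dvd_of_mod_eq_zero (Nat.sub_mod_eq_zero_of_mod_eq
        (by rw [hm1, Nat.mod_eq_of_lt hp'.one_lt]))
    obtain ⟨u, hu⟩ := exists_prime_orderOf_dvd_card' p hpd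
    let φ : ↥(Subgroup.zpowers u) →* MulAut (Multiplicative F) :=
      { toFun := fun z => AddEquiv.toMultiplicative (AddAut.mulLeft (z : Fˣ))
        map_one' := by
          ext x
          exact congrArg Multiplicative.ofAdd (one_smul Fˣ (Multiplicative.toAdd x))
        map_mul' := fun a b => by
          ext x
          exact congrArg Multiplicative.ofAdd
            (mul_smul (a : Fˣ) (b : Fˣ) (Multiplicative.toAdd x)) }
    let H := Multiplicative F ⋊[φ] ↥(Subgroup.zpowers u)
    haveI : Finite H := Finite.of_equiv _ SemidirectProduct.equivProd.symm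
    have hcard : Nat.card H = q ^ i * p := by
      show Nat.card (Multiplicative F ⋊[φ] ↥(Subgroup.zpowers u)) = q ^ i * p
      rw [SemidirectProduct.card, Nat.card_congr Multiplicative.toAdd, hF, Nat.card_zpowers, hu]
    refine ⟨H, inferInstance, inferInstance, by rw [hcard, min_eq_left hle, mul_comm], fun hcl => ?_⟩
    let R : Subgroup H :=
      (SemidirectProduct.inr : ↥(Subgroup.zpowers u) →* Multiplicative F ⋊[φ] ↥(Subgroup.zpowers u)).range
    have hR : Nat.card ↥R = p := by
      rw [← hu, ← Nat.card_zpowers]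
      exact (Nat.card_congr (MonoidHom.ofInjective SemidirectProduct.inr_injective).toEquiv).symm
    have hfac : (Nat.card H).factorization p = 1 := by
      rw [hcard, Nat.factorization_mul (pow_ne_zero _ hq.nat_prime.ne_zero) hp'.ne_zero,
        Finsupp.add_apply, hp'.factorization_self, Nat.factorization_eq_zero_of_not_dvd fun hd => ?_]
      rw [Nat.dvd_iff_mod_eq_zero, hm1] at hd
      exact one_ne_zero hd
    let P : Sylow p H := Sylow.ofCard R (by rw [hR, hfac, pow_one])
    have hn : (R : Subgroup H).Normal := by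
      have := hcl P
      rwa [show (P : Subgroup H) = R from Sylow.coe_ofCard _ _] at this
    have hmem := hn.conj_mem _ ⟨⟨u, Subgroup.mem_zpowers u⟩, rfl⟩
      (SemidirectProduct.inl (Multiplicative.ofAdd (1 : F)))
    obtain ⟨z, hz⟩ := hmem
    have hzu : z = ⟨u, Subgroup.mem_zpowers u⟩ := by
      have := congrArg (SemidirectProduct.rightHom (φ := φ)) hz
      erw [map_mul, map_mul, map_inv] at this
      simpa using this
    subst hzu
    have h3 : φ ⟨u, Subgroup.mem_zpowers u⟩ (Multiplicative.ofAdd (1 : F)) =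
        Multiplicative.ofAdd (1 : F) := by
      apply SemidirectProduct.inl_injective (φ := φ)
      rw [SemidirectProduct.inl_aut]
      have h4 := eq_mul_inv_iff_mul_eq.mp hz
      rw [h4, map_inv, mul_inv_cancel_right]
    have hu1 : (u : F) = 1 := by
      have h5 : (u : F) * 1 = 1 := congrArg Multiplicative.toAdd h3
      simpa using h5
    rw [show u = 1 from Units.ext (by simpa using hu1), orderOf_one] at hu
    exact hp'.ne_one hu.symm
  · have hodd : p % 2 = 1 := hp'.eq_two_or_odd.resolve_left hp
    let G := Matrix.ProjectiveSpecialLinearGroup (Fin 2) (ZMod p)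
    have hGc : Nat.card G * 2 = p * (p - 1) * (p + 1) := by
      have := RecognizePSL.natCard_PSL2 (F := ZMod p) (by rw [ZMod.card]; exact hodd)
      rwa [ZMod.card] at this
    have hval : p * (p ^ 2 - 1) / 2 = Nat.card G := by
      have : p ^ 2 - 1 = (p - 1) * (p + 1) := by
        rw [mul_comm (p - 1), ← Nat.sq_sub_sq, one_pow]
      rw [this, ← mul_assoc, ← hGc, Nat.mul_div_cancel _ two_pos]
    refine ⟨G, inferInstance, inferInstance, by rw [min_eq_right (le_of_not_ge hle), hval],
      fun hcl => ?_⟩
    let u : Matrix.SpecialLinearGroup (Fin 2) (ZMod p) :=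
      ⟨!![1, 1; 0, 1], by rw [Matrix.det_fin_two_of]; ring⟩
    let v : Matrix.SpecialLinearGroup (Fin 2) (ZMod p) :=
      ⟨!![1, 0; 1, 1], by rw [Matrix.det_fin_two_of]; ring⟩
    have hpow : ∀ k : ℕ, ((u ^ k : Matrix.SpecialLinearGroup (Fin 2) (ZMod p)) :
        Matrix (Fin 2) (Fin 2) (ZMod p)) = !![1, (k : ZMod p); 0, 1] ∧
        ((v ^ k : Matrix.SpecialLinearGroup (Fin 2) (ZMod p)) :
        Matrix (Fin 2) (Fin 2) (ZMod p)) = !![1, 0; (k : ZMod p), 1] := by
      intro k
      induction k with
      | zero => constructor <;> simp [Matrix.one_fin_two]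
      | succ k ih =>
        constructor
        · rw [pow_succ, Matrix.SpecialLinearGroup.coe_mul, ih.1]
          simp [u, Matrix.mul_fin_two, add_comm]
        · rw [pow_succ, Matrix.SpecialLinearGroup.coe_mul, ih.2]
          simp [v, Matrix.mul_fin_two, add_comm]
    let π : Matrix.SpecialLinearGroup (Fin 2) (ZMod p) →* G := QuotientGroup.mk' _
    have hfac : (Nat.card G).factorization p = 1 := by
      have h2 : (Nat.card G * 2).factorization p = (p * (p - 1) * (p + 1)).factorization p := by
        rw [hGc]
      have hp2 := hp'.two_le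
      rw [Nat.factorization_mul Nat.card_pos.ne' two_ne_zero,
        Nat.factorization_mul (Nat.mul_ne_zero hp'.ne_zero (by omega)) (by omega),
        Nat.factorization_mul hp'.ne_zero (by omega)] at h2
      simp only [Finsupp.add_apply, hp'.factorization_self] at h2
      rw [Nat.factorization_eq_zero_of_not_dvd (n := 2) fun hd => hp
          ((Nat.prime_dvd_prime_iff_eq hp' Nat.prime_two).mp hd),
        Nat.factorization_eq_zero_of_not_dvd (n := p - 1) fun hd => by
          have := Nat.le_of_dvd (by omega) hd; omega,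
        Nat.factorization_eq_zero_of_not_dvd (n := p + 1) fun hd => by
          have := (Nat.dvd_add_right (dvd_refl p)).mp hd
          exact hp'.not_dvd_one this] at h2
      omega
    obtain ⟨P⟩ := (inferInstance : Nonempty (Sylow p G))
    haveI := hcl P
    haveI := Sylow.unique_of_normal P inferInstance
    have hin : ∀ x : G, x ^ p = 1 → x ∈ (P : Subgroup G) := fun x hx => by
      have hz : IsPGroup p ↥(Subgroup.zpowers x) := by
        intro y
        obtain ⟨j, hj⟩ := Subgroup.mem_zpowers_iff.mp y.2
        refine ⟨1, Subtype.ext ?_⟩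
        push_cast
        rw [← hj, pow_one, ← zpow_natCast, ← zpow_mul, mul_comm, zpow_mul, zpow_natCast, hx,
          one_zpow]
      obtain ⟨Q, hQ⟩ := hz.exists_le_sylow
      rw [Subsingleton.elim Q P] at hQ
      exact hQ (Subgroup.mem_zpowers x)
    have hu : π u ∈ (P : Subgroup G) := hin _ (by
      rw [← map_pow, show u ^ p = 1 from Subtype.ext (by rw [(hpow p).1]; simp [Matrix.one_fin_two]),
        map_one])
    have hv : π v ∈ (P : Subgroup G) := hin _ (by
      rw [← map_pow, show v ^ p = 1 from Subtype.ext (by rw [(hpow p).2]; simp [Matrix.one_fin_two]),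
        map_one])
    have hu1 : π u ≠ 1 := fun h => by
      have hc := Subgroup.mem_center_iff.mp ((QuotientGroup.eq_one_iff _).mp h) v
      have := congrArg (fun x : Matrix.SpecialLinearGroup (Fin 2) (ZMod p) =>
        (x : Matrix (Fin 2) (Fin 2) (ZMod p)) 0 0) hc
      change ((!![1, 0; 1, 1] * !![1, 1; 0, 1] : Matrix (Fin 2) (Fin 2) (ZMod p))) 0 0 =
        ((!![1, 1; 0, 1] * !![1, 0; 1, 1] : Matrix (Fin 2) (Fin 2) (ZMod p))) 0 0 at this
      simp [Matrix.mul_apply, Fin.sum_univ_two] at this
    have hPcard : Nat.card ↥(P : Subgroup G) = p := by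
      rw [P.card_eq_multiplicity, hfac, pow_one]
    have hz : Subgroup.zpowers (π u) = (P : Subgroup G) := by
      refine Subgroup.eq_of_le_of_card_ge (Subgroup.zpowers_le.mpr hu) ?_
      rw [hPcard, Nat.card_zpowers]
      have hd : orderOf (π u) ∣ p := (Subgroup.orderOf_dvd_natCard _ hu).trans hPcard.dvd
      rcases (Nat.dvd_prime hp').mp hd with h1 | h1
      · exact absurd (orderOf_eq_one_iff.mp h1) hu1
      · rw [h1]
    rw [← hz, mem_zpowers_iff_mem_range_orderOf, Finset.mem_image] at hv
    obtain ⟨k, -, hk⟩ := hv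
    rw [← map_pow] at hk
    obtain ⟨z, hz', hzv⟩ : ∃ z ∈ Subgroup.center (Matrix.SpecialLinearGroup (Fin 2) (ZMod p)),
        u ^ k * z = v := ⟨(u ^ k)⁻¹ * v, QuotientGroup.eq.mp hk, by group⟩
    have hc := congrArg (fun x : Matrix.SpecialLinearGroup (Fin 2) (ZMod p) =>
      (x : Matrix (Fin 2) (Fin 2) (ZMod p)) 1 0) hzv
    obtain ⟨r, -, hr⟩ := Matrix.SpecialLinearGroup.mem_center_iff.mp hz'
    simp only [Matrix.SpecialLinearGroup.coe_mul] at hc
    rw [(hpow k).1, ← hr] at hc
    simp [v, Matrix.mul_apply, Fin.sum_univ_two, Matrix.scalar_apply] at hc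

end Cfsg.Agent.S3875
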