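import Cfsg.Statements.S3878
import Cfsg.Agent.Lib.PermGp.Burnside
import Cfsg.Agent.Lib.PermGp.AltIndex
import Cfsg.Agent.Lib.Basics.Tools

set_option autoImplicit false
open Cfsg

namespace Cfsg.Agent.S3878

section counterexamples

variable {π : Set ℕ}

theorem card_perm (n : ℕ) : Nat.card (Equiv.Perm (Fin n)) = n.factorial := by
  rw [Nat.card_perm, Nat.card_eq_fintype_card, Fintype.card_fin]

theorem prime_dvd_hall {n : ℕ} {H : Subgroup (Equiv.Perm (Fin n))} (hH : Cfsg.IsPiHall π H)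
    {s : ℕ} (hs : s.Prime) (hsπ : s ∈ π) (hle : s ≤ n) : s ∣ Nat.card H := by
  have h := H.card_mul_index
  rw [card_perm] at h
  rcases hs.dvd_mul.mp (h ▸ hs.dvd_factorial.mpr hle) with h1 | h1
  · exact h1
  · exact absurd h1 (hH.2 s hs hsπ)

theorem exists_cycle_mem {q : ℕ} (hq : q.Prime) {H : Subgroup (Equiv.Perm (Fin q))}
    (hd : q ∣ Nat.card H) : ∃ σ ∈ H, orderOf σ = q ∧ σ.IsCycle ∧ σ.support = Finset.univ := by
  haveI := Fact.mk hq
  obtain ⟨σ, hσ⟩ := exists_prime_orderOf_dvd_card' q hd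
  have hσ' : orderOf (σ : Equiv.Perm (Fin q)) = q := by rw [Subgroup.orderOf_coe, hσ]
  have hc := Equiv.Perm.isCycle_of_prime_order'' (σ := (σ : Equiv.Perm (Fin q)))
    (by rw [Fintype.card_fin]; exact hq) (by rw [Fintype.card_fin]; exact hσ')
  exact ⟨σ, σ.2, hσ', hc, Finset.eq_univ_of_card _ (by rw [← hc.orderOf, hσ', Fintype.card_fin])⟩

/-- A Hall subgroup contains a conjugate of every element of prime order in `π`. -/
theorem exists_conj_mem {n : ℕ} {H : Subgroup (Equiv.Perm (Fin n))} (hH : Cfsg.IsPiHall π H)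
    {s : ℕ} (hs : s.Prime) (hsπ : s ∈ π) (c : Equiv.Perm (Fin n)) (hc : orderOf c = s) :
    ∃ g : Equiv.Perm (Fin n), g * c * g⁻¹ ∈ H := by
  haveI := Fact.mk hs
  obtain ⟨P⟩ : Nonempty (Sylow s H) := Sylow.nonempty
  have hPp : IsPGroup s ((P : Subgroup H).map H.subtype) := P.isPGroup'.map _
  have hidx : ¬ s ∣ ((P : Subgroup H).map H.subtype).index := by
    rw [Subgroup.index_map_subtype, hs.dvd_mul]
    exact not_or.mpr ⟨P.not_dvd_index, hH.2 s hs hsπ⟩
  have hzp : IsPGroup s (Subgroup.zpowers c) :=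
    IsPGroup.of_card (n := 1) (by rw [Nat.card_zpowers, hc, pow_one])
  obtain ⟨Q, hQ⟩ := hzp.exists_le_sylow
  obtain ⟨g, hg⟩ := MulAction.exists_smul_eq (Equiv.Perm (Fin n)) Q (hPp.toSylow hidx)
  refine ⟨g, ?_⟩
  have h1 : g * c * g⁻¹ ∈ ((g • Q : Sylow s (Equiv.Perm (Fin n))) : Subgroup (Equiv.Perm (Fin n))) :=
    Cfsg.Agent.Basics.conj_mem_conj_smul (hQ (Subgroup.mem_zpowers c))
  rw [hg] at h1
  exact Subgroup.map_subtype_le _ h1

theorem not_hall_two {q r : ℕ} (hq : q.Prime) (hqπ : q ∈ π) (h2 : 2 ∈ π) (hr : r.Prime)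
    (hrπ : r ∉ π) (hle : r ≤ q) : ¬ Cfsg.IsEPiGroup π (Equiv.Perm (Fin q)) := by
  rintro ⟨H, hH⟩
  obtain ⟨σ, hσH, -, hσc, hσs⟩ := exists_cycle_mem hq (prime_dvd_hall hH hq hqπ le_rfl)
  let a : Fin q := ⟨0, hq.pos⟩
  let b : Fin q := ⟨1, hq.one_lt⟩
  have hab : a ≠ b := fun h => Nat.zero_ne_one (Fin.mk.injEq .. ▸ h)
  obtain ⟨g, hg⟩ := exists_conj_mem hH Nat.prime_two h2 (Equiv.swap a b)
    (Equiv.Perm.IsSwap.orderOf ⟨a, b, hab, rfl⟩)
  have hsw : (g * Equiv.swap a b * g⁻¹).IsSwap := ⟨g a, g b, fun h => hab (g.injective h), by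
    rw [← Equiv.swap_apply_apply]⟩
  have htop := Equiv.Perm.closure_prime_cycle_swap (by rw [Fintype.card_fin]; exact hq) hσc hσs hsw
  have hle' : Subgroup.closure ({σ, g * Equiv.swap a b * g⁻¹} : Set (Equiv.Perm (Fin q))) ≤ H :=
    (Subgroup.closure_le _).mpr (by
      rintro x (rfl | rfl)
      · exact hσH
      · exact hg)
  rw [htop, top_le_iff] at hle'
  apply hrπ
  refine hH.1 r hr ?_
  rw [hle', Subgroup.card_top, card_perm]
  exact hr.dvd_factorial.mpr hle

theorem not_hall_low {r : ℕ} (hr : r.Prime) (hrπ : r ∉ π) (hr5 : 5 ≤ r)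
    (hlow : ∀ s : ℕ, s.Prime → s < r → s ∈ π) : ¬ Cfsg.IsEPiGroup π (Equiv.Perm (Fin (r + 1))) := by
  rintro ⟨H, hH⟩
  have hidx_dvd : H.index ∣ (r + 1).factorial := card_perm (r + 1) ▸ H.index_dvd_card
  have huniq : ∀ s : ℕ, s.Prime → s ∣ H.index → s = r := by
    intro s hs hd
    rcases (Nat.le_succ_iff.mp (hs.dvd_factorial.mp (hd.trans hidx_dvd))) with h | h
    · rcases h.lt_or_eq with h | h
      · exact absurd hd (hH.2 s hs (hlow s hs h))
      · exact h
    · exfalso
      have h2 : 2 ∣ s := by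
        rcases hr.eq_two_or_odd with h2 | h2 <;> omega
      have := (Nat.prime_dvd_prime_iff_eq Nat.prime_two hs).mp h2
      omega
  have hle : H.index ≤ r := by
    by_contra hgt
    push_neg at hgt
    have hd : r * r ∣ H.index := by
      set k := H.index.primeFactorsList.length
      have hk : H.index = r ^ k := Nat.eq_prime_pow_of_unique_prime_dvd
        Subgroup.index_ne_zero_of_finite fun {d} hd hdd => huniq d hd hdd
      have : 2 ≤ k := by
        by_contra hk2
        push_neg at hk2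
        have := Nat.pow_le_pow_right hr.pos (show k ≤ 1 by omega)
        rw [← hk, pow_one] at this
        omega
      rw [hk, ← sq]
      exact pow_dvd_pow r this
    have h1 : r * r ∣ r * ((r + 1) * (r - 1).factorial) := by
      refine hd.trans (hidx_dvd.trans (dvd_of_eq ?_))
      rw [Nat.factorial_succ, ← Nat.mul_factorial_pred hr.ne_zero]
      ring
    rcases hr.dvd_mul.mp (Nat.dvd_of_mul_dvd_mul_left hr.pos h1) with h | h
    · have := (Nat.dvd_add_right (dvd_refl r)).mp h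
      exact hr.not_dvd_one this
    · have := hr.dvd_factorial.mp h
      omega
  set A := alternatingGroup (Fin (r + 1))
  by_cases hA : H.subgroupOf A = ⊤
  · apply hrπ
    refine hH.1 r hr (dvd_trans ?_ (Subgroup.card_dvd_of_le (Subgroup.subgroupOf_eq_top.mp hA)))
    have hd : r ∣ 2 * Nat.card A := by
      haveI : Nontrivial (Fin (r + 1)) := Fin.nontrivial_iff_two_le.mpr (by omega)
      rw [two_mul_nat_card_alternatingGroup, card_perm]
      exact hr.dvd_factorial.mpr (Nat.le_succ r)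
    refine (hr.dvd_mul.mp hd).resolve_left fun h => ?_
    have := Nat.le_of_dvd two_pos h
    omega
  · have h1 := Cfsg.Agent.PermGp.alternating_index_ge (α := Fin (r + 1))
      (by rw [Fintype.card_fin]; omega) hA
    have h2 : H.relIndex A ≤ H.index := Subgroup.relIndex_top_right H ▸
      Subgroup.relIndex_le_of_le_right (K := A) (L := (⊤ : Subgroup _)) le_top
        (by rw [Subgroup.relIndex_top_right]; exact Subgroup.index_ne_zero_of_finite)
    rw [Fintype.card_fin] at h1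
    change r + 1 ≤ H.relIndex A at h1
    omega

theorem not_hall_odd {p q : ℕ} (hp : p.Prime) (hq : q.Prime) (hpπ : p ∈ π) (hqπ : q ∈ π)
    (hlt : p < q) (h2 : 2 ∉ π) : ¬ Cfsg.IsEPiGroup π (Equiv.Perm (Fin q)) := by
  classical
  rintro ⟨H, hH⟩
  haveI := Fact.mk hq
  haveI := Fact.mk hp
  obtain ⟨σ, hσH, hσo, hσc, hσs⟩ := exists_cycle_mem hq (prime_dvd_hall hH hq hqπ le_rfl)
  have hmove : ∀ x : Fin q, σ x ≠ x := fun x =>
    Equiv.Perm.mem_support.mp (hσs ▸ Finset.mem_univ x)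
  haveI : MulAction.IsPretransitive H (Fin q) := ⟨fun x y => by
    obtain ⟨i, hi⟩ := hσc.exists_zpow_eq (hmove x) (hmove y)
    exact ⟨⟨σ ^ i, H.zpow_mem hσH i⟩, hi⟩⟩
  have hodd : ∀ g : H, Odd (orderOf g) := by
    intro g
    rw [Nat.odd_iff, ← Nat.two_dvd_ne_zero]
    intro hd
    exact h2 (hH.1 2 Nat.prime_two (hd.trans (orderOf_dvd_natCard g)))
  have hsol : Group.IsSolvable H := by
    by_contra hns
    haveI := Cfsg.Agent.PermGp.two_transitive_of_not_solvable (p := q) (Fintype.card_fin q) H hns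
    let a : Fin q := ⟨0, hq.pos⟩
    let b : Fin q := ⟨1, hq.one_lt⟩
    have hab : a ≠ b := fun h => Nat.zero_ne_one (Fin.mk.injEq .. ▸ h)
    obtain ⟨g, hga, hgb⟩ := MulAction.is_two_pretransitive_iff.mp
      (inferInstance : MulAction.IsMultiplyPretransitive H (Fin q) 2) hab hab.symm
    obtain ⟨m, hm⟩ := hodd g
    have hn : ∀ n : ℕ, g ^ (2 * n) • a = a := by
      intro n
      induction n with
      | zero => rw [mul_zero, pow_zero, one_smul]
      | succ n ih => rw [mul_add, mul_one, pow_add, mul_smul, pow_two, mul_smul, hga, hgb, ih]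
    have := pow_orderOf_eq_one g
    rw [hm, pow_succ'] at this
    apply hab
    calc a = (g * g ^ (2 * m)) • a := by rw [this, one_smul]
      _ = b := by rw [mul_smul, hn, hga]
  haveI := hsol
  haveI : Nontrivial H := ⟨⟨σ, hσH⟩, 1, fun h => by
    have h' : σ = 1 := congrArg Subtype.val h
    rw [h', orderOf_one] at hσo
    exact hq.ne_one hσo.symm⟩
  haveI : MulAction.IsPreprimitive H (Fin q) :=
    MulAction.IsPreprimitive.of_prime_card (by rw [Nat.card_fin]; exact hq)
  obtain ⟨s, E, hs, hEn, hE0, hEs⟩ := Cfsg.Agent.Basics.exists_normal_pGroup (G := H)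
  haveI := hEn
  haveI : MulAction.IsPretransitive E (Fin q) :=
    MulAction.IsQuasiPreprimitive.isPretransitive_of_normal (by
      intro hfix
      obtain ⟨e, he, he1⟩ := E.bot_or_exists_ne_one.resolve_left hE0
      apply he1
      apply Subtype.ext
      apply Equiv.ext
      intro x
      exact (hfix.symm ▸ Set.mem_univ x : x ∈ MulAction.fixedPoints E (Fin q)) ⟨e, he⟩)
  haveI := Fact.mk hs
  have hqE : q ∣ Nat.card E := by
    have h := (MulAction.stabilizer E (⟨0, hq.pos⟩ : Fin q)).index_dvd_card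
    rwa [MulAction.index_stabilizer_of_transitive, Nat.card_fin] at h
  obtain ⟨j, hj⟩ := IsPGroup.iff_card.mp hEs
  have hsq : s = q :=
    ((Nat.prime_dvd_prime_iff_eq hq hs).mp (hq.dvd_of_dvd_pow (hj ▸ hqE))).symm
  subst hsq
  have hj1 : j ≤ 1 := by
    by_contra hj2
    push_neg at hj2
    have : s * s ∣ s.factorial := by
      rw [← card_perm s, ← sq]
      exact (pow_dvd_pow s hj2).trans (hj ▸ (E.card_subgroup_dvd_card.trans H.card_subgroup_dvd_card))
    rw [← Nat.mul_factorial_pred hq.ne_zero] at this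
    have := hq.dvd_factorial.mp (Nat.dvd_of_mul_dvd_mul_left hq.pos this)
    omega
  set E' : Subgroup (Equiv.Perm (Fin s)) := E.map H.subtype with hE'
  have hE'card : Nat.card E' ∣ s := by
    rw [hE', Subgroup.card_map_of_injective H.subtype_injective, hj]
    exact (pow_dvd_pow s hj1).trans (dvd_of_eq (pow_one s))
  obtain ⟨e, he⟩ := exists_prime_orderOf_dvd_card' s hqE
  set τ : Equiv.Perm (Fin s) := ((e : H) : Equiv.Perm (Fin s)) with hτ
  have hτo : orderOf τ = s := by rw [hτ, Subgroup.orderOf_coe, Subgroup.orderOf_coe, he]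
  have hτc := Equiv.Perm.isCycle_of_prime_order'' (σ := τ)
    (by rw [Fintype.card_fin]; exact hq) (by rw [Fintype.card_fin]; exact hτo)
  have hτs : τ.support = Finset.univ :=
    Finset.eq_univ_of_card _ (by rw [← hτc.orderOf, hτo, Fintype.card_fin])
  have hgen : E' = Subgroup.zpowers τ := by
    refine (Subgroup.eq_of_le_of_card_ge (Subgroup.zpowers_le.mpr (show τ ∈ E' from ⟨(e : H), e.2, rfl⟩)) ?_).symm
    rw [Nat.card_zpowers, hτo]
    exact Nat.le_of_dvd hq.pos hE'card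
  -- a `p`-cycle in `H`
  have hs2 : s ≠ 2 := by have := hp.two_le; omega
  have hp2 : p ≠ 2 := fun h => h2 (h ▸ hpπ)
  let i : Fin p ↪ Fin s := Fin.castLEEmb hlt.le
  let c₀ : Equiv.Perm (Fin s) := Equiv.Perm.viaEmbedding (finRotate p) i
  have hc₀o : orderOf c₀ = p := by
    rw [show c₀ = Equiv.Perm.viaEmbeddingHom i (finRotate p) from rfl,
      orderOf_injective _ (Equiv.Perm.viaEmbeddingHom_injective i),
      (isCycle_finRotate_of_le hp.two_le).orderOf, support_finRotate_of_le hp.two_le,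
      Finset.card_univ, Fintype.card_fin]
  obtain ⟨g, hg⟩ := exists_conj_mem hH hp hpπ c₀ hc₀o
  set c := g * c₀ * g⁻¹ with hc
  have hplus : p + 2 ≤ s := by
    rcases hp.eq_two_or_odd with h | h
    · exact absurd h hp2
    rcases hq.eq_two_or_odd with h' | h'
    · exact absurd h' hs2
    omega
  let u : Fin s := ⟨p, by omega⟩
  let v : Fin s := ⟨p + 1, by omega⟩
  have hfix : ∀ w : Fin s, p ≤ w.val → c₀ w = w := by
    intro w hw
    refine Equiv.Perm.viaEmbedding_apply_of_notMem _ _ _ ?_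
    rintro ⟨k, hk⟩
    have := congrArg Fin.val hk
    simp [i] at this
    have := k.2
    omega
  have hcu : c (g u) = g u := by
    simp only [hc, Equiv.Perm.coe_mul, Function.comp_apply]
    rw [← Equiv.Perm.mul_apply g⁻¹ g, inv_mul_cancel, Equiv.Perm.one_apply, hfix u le_rfl]
  have hcv : c (g v) = g v := by
    simp only [hc, Equiv.Perm.coe_mul, Function.comp_apply]
    rw [← Equiv.Perm.mul_apply g⁻¹ g, inv_mul_cancel, Equiv.Perm.one_apply,
      hfix v (Nat.le_succ p)]
  have hcn : c * τ * c⁻¹ ∈ E' :=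
    ⟨⟨c, hg⟩ * (e : H) * ⟨c, hg⟩⁻¹, hEn.conj_mem _ e.2 _, rfl⟩
  rw [hgen] at hcn
  obtain ⟨k, hk⟩ := Subgroup.mem_zpowers_iff.mp hcn
  have hmv : ∀ x : Fin s, τ x ≠ x := fun x => Equiv.Perm.mem_support.mp (hτs ▸ Finset.mem_univ x)
  obtain ⟨m, hm⟩ := hτc.exists_zpow_eq (hmv (g u)) (hmv (g v))
  have hconj : ∀ l : ℤ, c * τ ^ l * c⁻¹ = τ ^ (k * l) := fun l => by
    rw [zpow_mul, hk, conj_zpow]
  have hdiv : ∀ l : ℤ, (τ ^ l) (g u) = g u → (s : ℤ) ∣ l := by
    intro l hl
    by_contra hnd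
    have h1 : τ ^ l = 1 := by
      apply Equiv.ext
      intro x
      obtain ⟨i, hi⟩ := hτc.exists_zpow_eq (hmv (g u)) (hmv x)
      rw [← hi, ← Equiv.Perm.mul_apply, ← zpow_add, add_comm, zpow_add, Equiv.Perm.mul_apply, hl]
      rfl
    apply hnd
    have := orderOf_dvd_iff_zpow_eq_one.mpr h1
    rwa [hτo] at this
  have h1 : (τ ^ (k * m)) (g u) = (τ ^ m) (g u) := by
    rw [← hconj m, Equiv.Perm.mul_apply, Equiv.Perm.mul_apply]
    have : c⁻¹ (g u) = g u := by
      rw [Equiv.Perm.inv_eq_iff_eq, hcu]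
    rw [this, hm, hcv]
  have h3 : (s : ℤ) ∣ k * m - m := by
    refine hdiv _ ?_
    rw [sub_eq_neg_add, zpow_add, Equiv.Perm.mul_apply, h1, ← Equiv.Perm.mul_apply, ← zpow_add,
      neg_add_cancel, zpow_zero]
    rfl
  have hτs1 : τ ^ s = 1 := by
    have h := pow_orderOf_eq_one τ
    rwa [hτo] at h
  have hmnd : ¬ (s : ℤ) ∣ m := by
    rintro ⟨t, rfl⟩
    have : τ ^ ((s : ℤ) * t) = 1 := by
      rw [zpow_mul, zpow_natCast, hτs1, one_zpow]
    rw [this] at hm
    have := congrArg Fin.val (g.injective hm)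
    simp [u, v] at this
  have hcomm : c * τ * c⁻¹ = τ := by
    rw [← hk]
    have h4 : (s : ℤ) ∣ k - 1 := by
      refine ((Nat.prime_iff_prime_int.mp hq).dvd_mul.mp ?_).resolve_right hmnd
      rwa [sub_mul, one_mul]
    obtain ⟨t, ht⟩ := h4
    rw [show k = (s : ℤ) * t + 1 by omega, zpow_add, zpow_mul, zpow_natCast, zpow_one, hτs1,
      one_zpow, one_mul]
  have hc1 : c = 1 := by
    apply Equiv.ext
    intro x
    obtain ⟨l, hl⟩ := hτc.exists_zpow_eq (hmv (g u)) (hmv x)
    have hcl : c * τ ^ l = τ ^ l * c := by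
      rw [← mul_inv_eq_iff_eq_mul]
      rw [← conj_zpow, hcomm]
    rw [← hl, ← Equiv.Perm.mul_apply, hcl, Equiv.Perm.mul_apply, hcu]
    rfl
  have : c₀ = 1 := by
    have h := hc.symm.trans hc1
    rwa [mul_inv_eq_one, mul_eq_left] at h
  rw [this, orderOf_one] at hc₀o
  exact hp.ne_one hc₀o.symm

end counterexamples

/-- For a set of primes π the following are equivalent: every finite group has a Hall π-subgroup; in every finite group the maximal π-subgroups are pairwise conjugate; π contains at most one prime or contains every prime. -/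
theorem result (π : Set ℕ) :
    ((∀ (G : Type) [Group G] [Finite G], Cfsg.IsEPiGroup π G) ↔
      ((∀ p q : ℕ, p.Prime → q.Prime → p ∈ π → q ∈ π → p = q) ∨ ∀ p : ℕ, p.Prime → p ∈ π)) ∧
    ((∀ (G : Type) [Group G] [Finite G], Cfsg.IsDPiGroup π G) ↔
      ((∀ p q : ℕ, p.Prime → q.Prime → p ∈ π → q ∈ π → p = q) ∨ ∀ p : ℕ, p.Prime → p ∈ π)) := by
  have hbad : ∀ p q : ℕ, p.Prime → q.Prime → p ∈ π → q ∈ π → p ≠ q →
      (∃ r : ℕ, r.Prime ∧ r ∉ π) → ∃ n : ℕ, ¬ Cfsg.IsEPiGroup π (Equiv.Perm (Fin n)) := by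
    intro p q hp hq hpπ hqπ hne hex
    by_cases h2 : 2 ∈ π
    · by_cases ha : ∃ q' r : ℕ, q'.Prime ∧ q' ∈ π ∧ r.Prime ∧ r ∉ π ∧ r < q' ∧ 2 < q'
      · obtain ⟨q', r, hq', hq'π, hr, hrπ, hlt, -⟩ := ha
        exact ⟨q', not_hall_two hq' hq'π h2 hr hrπ hlt.le⟩
      · push_neg at ha
        classical
        obtain ⟨r₀, hr₀⟩ := hex
        have hex' : ∃ r : ℕ, r.Prime ∧ r ∉ π := ⟨r₀, hr₀⟩
        obtain ⟨hr, hrπ⟩ := Nat.find_spec hex'
        set r := Nat.find hex' with hrdef
        have hlow : ∀ s : ℕ, s.Prime → s < r → s ∈ π := fun s hs hlt => by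
          by_contra hc
          exact Nat.find_min hex' hlt ⟨hs, hc⟩
        obtain ⟨q', hq', hq'π, hq'2⟩ : ∃ q' : ℕ, q'.Prime ∧ q' ∈ π ∧ 2 < q' := by
          rcases hp.two_le.lt_or_eq with h | h
          · exact ⟨p, hp, hpπ, h⟩
          · exact ⟨q, hq, hqπ, lt_of_le_of_ne hq.two_le fun h' => hne (h.symm.trans h')⟩
        have hqr : q' < r := by
          by_contra hc
          push_neg at hc
          rcases hc.lt_or_eq with hlt | heq
          · have := ha q' r hq' hq'π hr hrπ hlt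
            omega
          · exact hrπ (heq ▸ hq'π)
        have hr5 : 5 ≤ r := by
          by_contra hc
          push_neg at hc
          have hq3 : q' = 3 := by omega
          subst hq3
          have : r = 4 := by omega
          rw [this] at hr
          exact absurd hr (by decide)
        exact ⟨r + 1, not_hall_low hr hrπ hr5 hlow⟩
    · rcases Nat.lt_or_gt_of_ne hne with h | h
      · exact ⟨q, not_hall_odd hp hq hpπ hqπ h h2⟩
      · exact ⟨p, not_hall_odd hq hp hqπ hpπ h h2⟩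
  have hDE : ∀ (G : Type) [Group G] [Finite G], Cfsg.IsDPiGroup π G → Cfsg.IsEPiGroup π G := by
    intro G _ _ hD
    obtain ⟨H, -, hH⟩ := Finite.exists_le_maximal (p := Cfsg.IsPiSubgroup π) (a := (⊥ : Subgroup G))
      (fun s hs hd => absurd (Subgroup.card_bot (G := G) ▸ hd) hs.not_dvd_one)
    refine ⟨H, hH.1, fun s hs hsπ hd => ?_⟩
    haveI := Fact.mk hs
    obtain ⟨P⟩ : Nonempty (Sylow s G) := Sylow.nonempty
    obtain ⟨K, hPK, hK⟩ := Finite.exists_le_maximal (p := Cfsg.IsPiSubgroup π)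
      (a := (P : Subgroup G)) (fun t ht htd => by
        obtain ⟨j, hj⟩ := IsPGroup.iff_card.mp P.isPGroup'
        rw [hj] at htd
        rwa [(Nat.prime_dvd_prime_iff_eq ht hs).mp (ht.dvd_of_dvd_pow htd)])
    obtain ⟨g, hg⟩ := hD H K hH hK
    have hcard : Nat.card (P : Subgroup G) ∣ Nat.card H := by
      have := Subgroup.card_dvd_of_le hPK
      rwa [hg, Subgroup.card_map_of_injective (MulAut.conj g).injective] at this
    have h1 : H.index ∣ (P : Subgroup G).index := by
      obtain ⟨c, hc⟩ := hcard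
      refine Dvd.intro_left c ?_
      apply Nat.eq_of_mul_eq_mul_left (Nat.card_pos (α := (P : Subgroup G)))
      rw [← mul_assoc, ← hc, Subgroup.card_mul_index, Subgroup.card_mul_index]
    exact P.not_dvd_index (hd.trans h1)
  have hfwd : (∀ (G : Type) [Group G] [Finite G], Cfsg.IsEPiGroup π G) →
      ((∀ p q : ℕ, p.Prime → q.Prime → p ∈ π → q ∈ π → p = q) ∨ ∀ p : ℕ, p.Prime → p ∈ π) := by
    intro hE
    by_contra hc
    push_neg at hc
    obtain ⟨⟨p, q, hp, hq, hpπ, hqπ, hne⟩, hr⟩ := hc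
    obtain ⟨n, hn⟩ := hbad p q hp hq hpπ hqπ hne hr
    exact hn (hE _)
  have hback : ((∀ p q : ℕ, p.Prime → q.Prime → p ∈ π → q ∈ π → p = q) ∨
      ∀ p : ℕ, p.Prime → p ∈ π) → ∀ (G : Type) [Group G] [Finite G], Cfsg.IsDPiGroup π G := by
    intro hc G _ _ H K hH hK
    rcases hc with h1 | hall
    · by_cases hp : ∃ p : ℕ, p.Prime ∧ p ∈ π
      · obtain ⟨p, hp, hpπ⟩ := hp
        haveI := Fact.mk hp
        have hsyl : ∀ L : Subgroup G, Maximal (Cfsg.IsPiSubgroup π) L →
            ∃ P : Sylow p G, (P : Subgroup G) = L := by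
          intro L hL
          have hLp : IsPGroup p L := IsPGroup.of_card (n := (Nat.card L).primeFactorsList.length)
            (Nat.eq_prime_pow_of_unique_prime_dvd Nat.card_pos.ne'
              fun {d} hd hdd => h1 d p hd hp (hL.1 d hd hdd) hpπ)
          obtain ⟨P, hP⟩ := hLp.exists_le_sylow
          refine ⟨P, le_antisymm (hL.2 (fun t ht htd => ?_) hP) hP⟩
          obtain ⟨j, hj⟩ := IsPGroup.iff_card.mp P.isPGroup'
          rw [hj] at htd
          rwa [(Nat.prime_dvd_prime_iff_eq ht hp).mp (ht.dvd_of_dvd_pow htd)]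
        obtain ⟨P, rfl⟩ := hsyl H hH
        obtain ⟨Q, rfl⟩ := hsyl K hK
        obtain ⟨g, rfl⟩ := MulAction.exists_smul_eq G P Q
        exact ⟨g, by rw [Sylow.coe_subgroup_smul]; rfl⟩
      · push_neg at hp
        have hb : ∀ L : Subgroup G, Maximal (Cfsg.IsPiSubgroup π) L → L = ⊥ := fun L hL => by
          rw [← Subgroup.card_eq_one]
          by_contra hne
          exact hp _ (Nat.minFac_prime hne) (hL.1 _ (Nat.minFac_prime hne) (Nat.minFac_dvd _))
        exact ⟨1, by rw [hb H hH, hb K hK, Subgroup.map_bot]⟩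
    · have ht : ∀ L : Subgroup G, Maximal (Cfsg.IsPiSubgroup π) L → L = ⊤ := fun L hL =>
        top_le_iff.mp (hL.2 (fun t ht _ => hall t ht) le_top)
      exact ⟨1, by rw [ht H hH, ht K hK, Subgroup.map_top_of_surjective _ (MulAut.conj 1).surjective]⟩
  refine ⟨⟨hfwd, fun hc G _ _ => hDE G (hback hc G)⟩,
    ⟨fun hD => hfwd fun G _ _ => hDE G (hD G), hback⟩⟩

end Cfsg.Agent.S3878
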