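import Cfsg.Statements.S3880
import Cfsg.Agent.Lib.Metacyclic.Theory

set_option autoImplicit false
open Cfsg
open scoped commutatorElement

namespace Cfsg.Agent.S3880

/-- Let p be an odd prime and G a finite metacyclic p-group (G has a cyclic normal subgroup with cyclic quotient). Then a subgroup L of G is abelian if and only if |L| ≤ |G : G'|, and L is a maximal abelian subgroup of G if and only if |L| = |G : G'|. -/
theorem result {G : Type*} [Group G] [Finite G] {p : ℕ} [Fact p.Prime] (hp : p ≠ 2) (hG : IsPGroup p G) (hmc : Cfsg.IsMetacyclic G) (L : Subgroup G) :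
    (IsMulCommutative ↥L ↔ Nat.card ↥L ≤ (commutator G).index) ∧
      (Maximal (fun K : Subgroup G => IsMulCommutative ↥K) L ↔ Nat.card ↥L = (commutator G).index) := by
  have hidx : (commutator G).index * Nat.card (commutator G) = Nat.card G :=
    Subgroup.index_mul_card _
  have hbd : ∀ K : Subgroup G, IsMulCommutative K → Nat.card K ≤ (commutator G).index := fun K hK =>
    Nat.le_of_mul_le_mul_right ((Agent.Metacyclic.card_le_of_comm hp hG hmc K hK).trans hidx.ge) Nat.card_pos
  have hiff : ∀ K : Subgroup G, Nat.card K ≤ (commutator G).index → IsMulCommutative K := by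
    intro K hK
    by_contra hna
    have h1 := Agent.Metacyclic.card_mul_card_commutator hp hG hmc K hna
    have h2 : 1 < Nat.card ↥(⁅K, K⁆ : Subgroup G) := by
      rw [Subgroup.one_lt_card_iff_ne_bot, Ne, Subgroup.commutator_eq_bot_iff_le_centralizer]
      exact fun h => hna ((Agent.Metacyclic.isMulCommutative_iff_le K).mpr h)
    have h3 := Nat.mul_le_mul_right (Nat.card (commutator G)) hK
    rw [h1, hidx] at h3
    have := Nat.card_pos (α := G)
    nlinarith
  refine ⟨⟨hbd L, hiff L⟩, ⟨fun hmax => le_antisymm (hbd L hmax.1) ?_, fun h => ⟨hiff L h.le, ?_⟩⟩⟩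
  · have hL := (Agent.Metacyclic.isMulCommutative_iff_le L).mp hmax.1
    have hadd : ∀ c ∈ Subgroup.centralizer (L : Set G), c ∈ L := by
      intro c hc
      refine hmax.2 (y := L ⊔ Subgroup.zpowers c) ((Agent.Metacyclic.isMulCommutative_iff_le _).mpr ?_)
        le_sup_left (Subgroup.mem_sup_right (Subgroup.mem_zpowers c))
      exact sup_le (Subgroup.le_centralizer_iff.mp (sup_le hL (Subgroup.zpowers_le.mpr hc)))
        (Subgroup.le_centralizer_iff.mp (sup_le
          (Subgroup.le_centralizer_iff.mp (Subgroup.zpowers_le.mpr hc)) (Subgroup.le_centralizer _)))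
    have hZ : Subgroup.center G ≤ L := fun z hz => hadd z (Subgroup.center_le_centralizer _ hz)
    have h1 := Agent.Metacyclic.card_mul_card_centralizer hp hG hmc L hZ
    rw [le_antisymm hadd hL] at h1
    refine Nat.le_of_mul_le_mul_right ?_ (Nat.card_pos (α := commutator G))
    rw [hidx]
    refine le_of_eq (Nat.pow_left_injective two_ne_zero ?_).symm
    show (Nat.card L * Nat.card (commutator G)) ^ 2 = Nat.card G ^ 2
    rw [mul_pow, pow_two, h1, mul_assoc, Agent.Metacyclic.card_center_mul hp hG hmc, pow_two]
  · intro K hK hLK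
    rw [Subgroup.eq_of_le_of_card_ge hLK ((hbd K hK).trans h.ge)]

end Cfsg.Agent.S3880
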