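import Cfsg.Statements.S3881
import Cfsg.Agent.Lib.Metacyclic.Theory

set_option autoImplicit false
open Cfsg

namespace Cfsg.Agent.S3881

/-- Let p be an odd prime and G a finite metacyclic p-group (G has a cyclic normal subgroup with cyclic quotient). Suppose G is non-abelian with |G'| = p^n. Then for 1 ≤ i ≤ n the number of elements of G whose conjugacy class has exactly p^i elements is |Z(G)| · (p^(2i) − p^(2i−2)). -/
theorem result {G : Type*} [Group G] [Finite G] {p : ℕ} [Fact p.Prime] (hp : p ≠ 2) (hG : IsPGroup p G) (hmc : Cfsg.IsMetacyclic G) (n : ℕ) (hn : n ≠ 0) (hGn : Nat.card ↥(commutator G) = p ^ n) (i : ℕ) (hi : 1 ≤ i) (hin : i ≤ n) :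
    Nat.card {g : G // (Subgroup.centralizer ({g} : Set G)).index = p ^ i} =
      Nat.card ↥(Subgroup.center G) * (p ^ (2 * i) - p ^ (2 * i - 2)) := by
  classical
  obtain ⟨D⟩ := Agent.Metacyclic.nonempty_data hG hmc
  have hpp := Fact.out (p := p.Prime)
  obtain rfl : n = D.n := Nat.pow_right_injective hpp.two_le (hGn.symm.trans D.card_commutator)
  have hcard : ∀ t, t ≤ D.n → Nat.card (D.layer t) = Nat.card (Subgroup.center G) * p ^ (2 * (D.n - t)) := by
    intro t ht
    refine Nat.eq_of_mul_eq_mul_right (pow_pos hpp.pos (2 * t)) ?_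
    nth_rw 1 [← D.index_layer hp ht]
    rw [Subgroup.card_mul_index, mul_assoc, ← pow_add, show 2 * (D.n - t) + 2 * t = 2 * D.n by omega,
      ← D.index_center hp, Subgroup.card_mul_index]
  have hset : {g : G | (Subgroup.centralizer ({g} : Set G)).index = p ^ i} =
      (D.layer (D.n - i) : Set G) \ (D.layer (D.n - i + 1) : Set G) := by
    ext g
    simp only [Set.mem_setOf_eq, Set.mem_diff, SetLike.mem_coe]
    have h1 := D.index_centralizer_le_iff hp (t := D.n - i) (Nat.sub_le _ _) g
    have h2 := D.index_centralizer_le_iff hp (t := D.n - i + 1) (by omega) g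
    rw [show D.n - (D.n - i) = i by omega] at h1
    rw [show D.n - (D.n - i + 1) = i - 1 by omega] at h2
    rw [← h1, ← h2]
    obtain ⟨e, he⟩ := hG.index (Subgroup.centralizer ({g} : Set G))
    rw [he, Nat.pow_le_pow_iff_right hpp.one_lt, Nat.pow_le_pow_iff_right hpp.one_lt,
      (Nat.pow_right_injective hpp.two_le).eq_iff]
    omega
  show Nat.card ↥{g : G | (Subgroup.centralizer ({g} : Set G)).index = p ^ i} = _
  rw [hset, Nat.card_coe_set_eq, Set.ncard_diff (D.layer_anti (Nat.le_succ _)),
    ← Nat.card_coe_set_eq, ← Nat.card_coe_set_eq, SetLike.coe_sort_coe, SetLike.coe_sort_coe,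
    hcard _ (Nat.sub_le _ _), hcard _ (by omega), ← Nat.mul_sub]
  congr 3 <;> omega

end Cfsg.Agent.S3881
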