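import Cfsg.Statements.S3883
import Cfsg.Agent.Lib.Metacyclic.Theory
import Cfsg.Agent.Lib.LocalEvenA.FrattiniP
import Cfsg.Agent.Lib.Basics.Frattini

set_option autoImplicit false
open Cfsg
open scoped commutatorElement

namespace Cfsg.Agent.S3883

/-- Let p be an odd prime and G a finite metacyclic p-group (G has a cyclic normal subgroup with cyclic quotient). Suppose G is non-abelian. Then an element g of G lies outside the Frattini subgroup if and only if its centralizer C_G(g) is abelian. -/
theorem result {G : Type*} [Group G] [Finite G] {p : ℕ} [Fact p.Prime] (hp : p ≠ 2) (hG : IsPGroup p G) (hmc : Cfsg.IsMetacyclic G) (hna : ¬ IsMulCommutative G) (g : G) :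
    g ∉ frattini G ↔ IsMulCommutative ↥(Subgroup.centralizer ({g} : Set G)) := by
  obtain ⟨D⟩ := Agent.Metacyclic.nonempty_data hG hmc
  have hn : D.n ≠ 0 := by
    intro hn
    apply hna
    have hc := D.card_commutator
    rw [hn, pow_zero, Subgroup.card_eq_one, commutator_def,
      Subgroup.commutator_eq_bot_iff_le_centralizer] at hc
    exact ⟨⟨fun x y => Subgroup.mem_centralizer_iff.mp (hc (Subgroup.mem_top y)) x (Subgroup.mem_top x)⟩⟩
  have hΦ : frattini G = D.layer 1 := by
    refine le_antisymm ((Agent.LocalEvenA.frattini_le_commutator_sup_pow (p := p)).trans (sup_le ?_ ?_)) ?_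
    · rw [D.commutator_eq, Subgroup.zpowers_le, ← mul_one (D.a ^ (D.r - 1)), ← pow_zero D.b]
      exact (D.mem_layer 1).mpr ⟨_, _, rfl, by rw [pow_one]; exact D.dvd_r, dvd_zero _⟩
    · rw [Subgroup.closure_le]
      rintro _ ⟨x, rfl⟩
      simpa using D.pow_prime_pow_mem_layer hp x 1
    · rw [D.layer_eq_closure_pow hp, Subgroup.closure_le]
      rintro _ ⟨y, rfl⟩
      rw [pow_one]
      exact Agent.Basics.pow_mem_frattini hG y
  have hpp := Fact.out (p := p.Prime)
  rw [hΦ]
  set C := Subgroup.centralizer ({g} : Set G) with hC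
  constructor
  · intro hg
    refine Classical.byContradiction fun hCa => ?_
    have h1 := Agent.Metacyclic.card_mul_card_commutator hp hG hmc C hCa
    have h2 : 1 < Nat.card ↥(⁅C, C⁆ : Subgroup G) := by
      rw [Subgroup.one_lt_card_iff_ne_bot, Ne, Subgroup.commutator_eq_bot_iff_le_centralizer]
      exact fun h => hCa ((Agent.Metacyclic.isMulCommutative_iff_le C).mpr h)
    have h3 := D.le_index_centralizer (e := 0) (Nat.pos_of_ne_zero hn) hp hg
    rw [Nat.sub_zero, ← D.card_commutator] at h3
    have h4 := Subgroup.card_mul_index C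
    have := Nat.card_pos (α := G)
    nlinarith
  · intro hCa hg
    have h1 := Agent.Metacyclic.card_le_of_comm hp hG hmc C hCa
    have h3 := D.index_centralizer_le (e := 1) (Nat.one_le_iff_ne_zero.mpr hn) hp hg
    have h4 := Subgroup.card_mul_index C
    have h5 : C.index < Nat.card (commutator G) := by
      rw [D.card_commutator]
      exact h3.trans_lt (Nat.pow_lt_pow_right hpp.one_lt (by omega))
    have := Nat.card_pos (α := C)
    nlinarith

end Cfsg.Agent.S3883
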