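import Cfsg.Statements.S3884
import Cfsg.Agent.Lib.Metacyclic.Theory

set_option autoImplicit false
open Cfsg

namespace Cfsg.Agent.S3884

/-- Let p be an odd prime and G a finite metacyclic p-group (G has a cyclic normal subgroup with cyclic quotient). Then G is the product of two cyclic subgroups with trivial intersection: there are cyclic subgroups A and B with A ∩ B = 1 and |A| · |B| = |G|. -/
theorem result {G : Type*} [Group G] [Finite G] {p : ℕ} [Fact p.Prime] (hp : p ≠ 2) (hG : IsPGroup p G) (hmc : Cfsg.IsMetacyclic G) : ∃ A B : Subgroup G, IsCyclic ↥A ∧ IsCyclic ↥B ∧ A ⊓ B = ⊥ ∧ Nat.card ↥A * Nat.card ↥B = Nat.card G := by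
  obtain ⟨D⟩ := Agent.Metacyclic.nonempty_data hG hmc
  have hpp := Fact.out (p := p.Prime)
  have hP : Prime (p : ℤ) := Nat.prime_iff_prime_int.mp hpp
  -- roots of `a ^ (x Φ + c)`
  have hsolve : ∀ (q : ℤ), (p : ℤ) ∣ q - 1 → ∀ (d : ℕ) (c' : ℤ), ∃ x : ℤ,
      (p : ℤ) ^ D.m ∣ x * Agent.Metacyclic.geom q (p ^ d) + (p : ℤ) ^ d * c' ∧
        (¬ (p : ℤ) ∣ c' → 0 < D.m → ¬ (p : ℤ) ∣ x) := by
    intro q hq d c'
    obtain ⟨w, hw⟩ := (Agent.Metacyclic.dvd_geom_iff hp hq d (p ^ d)).mpr dvd_rfl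
    have hpw : ¬ (p : ℤ) ∣ w := fun ⟨x, hx⟩ => by
      have := (Agent.Metacyclic.dvd_geom_iff hp hq (d + 1) (p ^ d)).mp ⟨x, by rw [hw, hx, pow_succ]; ring⟩
      rw [Nat.pow_dvd_pow_iff_le_right hpp.one_lt] at this
      omega
    obtain ⟨u, v, huv⟩ : IsCoprime w ((p : ℤ) ^ D.m) :=
      (hP.coprime_iff_not_dvd.mpr hpw).symm.pow_right
    refine ⟨-(c' * u), ⟨(p : ℤ) ^ d * c' * v, by rw [hw]; linear_combination (-((p : ℤ) ^ d * c')) * huv⟩,
      fun hc hm h => ?_⟩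
    rw [dvd_neg] at h
    rcases hP.dvd_or_dvd h with h | h
    · exact hc h
    · refine hP.not_isUnit (isUnit_of_dvd_one ?_)
      rw [← huv]
      exact dvd_add (dvd_mul_of_dvd_left h _) (dvd_mul_of_dvd_right (dvd_pow_self _ hm.ne') _)
  obtain ⟨c₀, hc₀⟩ := Subgroup.mem_zpowers_iff.mp ((D.pow_b_mem _).mpr (dvd_refl (p ^ D.k)))
  by_cases hsplit : ∃ c : ℤ, D.b ^ p ^ D.k = D.a ^ c ∧ (p : ℤ) ^ D.k ∣ c
  · -- a split extension
    obtain ⟨c, hc, c', rfl⟩ := hsplit
    obtain ⟨x, hx, -⟩ := hsolve D.r D.dvd_r D.k c'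
    set y := D.a ^ x * D.b ^ 1 with hy
    have hyp : y ^ p ^ D.k = 1 := by
      rw [hy, D.pow_form, one_mul, hc, pow_one, ← zpow_add, D.zpow_eq_one_iff]
      exact hx
    have hyN : ∀ t : ℕ, y ^ t ∈ Subgroup.zpowers D.a → p ^ D.k ∣ t := fun t ht => by
      rw [hy, D.pow_form, one_mul, Subgroup.mul_mem_cancel_left _ (Subgroup.zpow_mem_zpowers _ _),
        D.pow_b_mem] at ht
      exact ht
    refine ⟨Subgroup.zpowers D.a, Subgroup.zpowers y, inferInstance, inferInstance, ?_, ?_⟩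
    · rw [Subgroup.eq_bot_iff_forall]
      rintro _ ⟨hA, hB⟩
      obtain ⟨t, rfl⟩ := mem_powers_iff_mem_zpowers.mpr hB
      obtain ⟨e, rfl⟩ := hyN t hA
      show y ^ (p ^ D.k * e) = 1
      rw [pow_mul, hyp, one_pow]
    · rw [Nat.card_zpowers, Nat.card_zpowers, D.order_a, D.card_G]
      congr 1
      exact Nat.dvd_antisymm (orderOf_dvd_of_pow_eq_one hyp)
        (hyN _ (by rw [pow_orderOf_eq_one]; exact one_mem _))
  · -- `b` has larger order than `a`
    push_neg at hsplit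
    have hc1 := hsplit c₀ hc₀.symm
    obtain ⟨d, hd, c', rfl, hc'⟩ : ∃ d < D.k, ∃ c' : ℤ, c₀ = (p : ℤ) ^ d * c' ∧ ¬ (p : ℤ) ∣ c' := by
      have hne : c₀ ≠ 0 := by rintro rfl; exact hc1 (dvd_zero _)
      obtain ⟨c', hc', hnd⟩ := (FiniteMultiplicity.of_prime_left hP hne).exists_eq_pow_mul_and_not_dvd
      refine ⟨multiplicity (p : ℤ) c₀, ?_, c', hc', hnd⟩
      by_contra hle
      exact hc1 ((pow_dvd_pow _ (Nat.not_lt.mp hle)).trans ⟨c', hc'⟩)
    have hdm : d < D.m := by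
      by_contra hle
      refine hsplit 0 ?_ (dvd_zero _)
      rw [zpow_zero, ← hc₀, D.zpow_eq_one_iff]
      exact dvd_mul_of_dvd_left (pow_dvd_pow _ (Nat.not_lt.mp hle)) _
    set l := p ^ (D.k - d) with hl
    have hq : (p : ℤ) ∣ D.r ^ l - 1 := by
      rw [← Agent.Metacyclic.sub_one_mul_geom]
      exact dvd_mul_of_dvd_left D.dvd_r _
    obtain ⟨x, hx, hx'⟩ := hsolve (D.r ^ l) hq d c'
    set y := D.a ^ x * D.b ^ l with hy
    have hlk : l * p ^ d = p ^ D.k := by rw [hl, ← pow_add]; congr 1; omega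
    have hyp : y ^ p ^ d = 1 := by
      rw [hy, D.pow_form, hlk, ← hc₀, ← zpow_add, D.zpow_eq_one_iff]
      exact hx
    have hyB : ∀ t : ℕ, y ^ t ∈ Subgroup.zpowers D.b → p ^ d ∣ t := by
      intro t ht
      rw [hy, D.pow_form, Subgroup.mul_mem_cancel_right _ (pow_mem (Subgroup.mem_zpowers _) _)] at ht
      obtain ⟨q, hq'⟩ := mem_powers_iff_mem_zpowers.mpr ht
      have hq'' : D.b ^ q = D.a ^ (x * Agent.Metacyclic.geom (D.r ^ l) t) := hq'
      obtain ⟨e, rfl⟩ := (D.pow_b_mem q).mp (hq'' ▸ Subgroup.zpow_mem_zpowers _ _)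
      rw [pow_mul, ← hc₀, ← zpow_natCast, ← zpow_mul, D.zpow_eq_zpow_iff] at hq''
      have h1 : (p : ℤ) ^ d ∣ x * Agent.Metacyclic.geom (D.r ^ l) t := by
        refine (dvd_sub_right ?_).mp ((pow_dvd_pow _ hdm.le).trans hq'')
        exact dvd_mul_of_dvd_left (dvd_mul_right _ _) _
      exact (Agent.Metacyclic.dvd_geom_iff hp hq d t).mp
        (hP.pow_dvd_of_dvd_mul_left _ (hx' hc' (by omega)) h1)
    refine ⟨Subgroup.zpowers D.b, Subgroup.zpowers y, inferInstance, inferInstance, ?_, ?_⟩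
    · rw [Subgroup.eq_bot_iff_forall]
      rintro _ ⟨hA, hB⟩
      obtain ⟨t, rfl⟩ := mem_powers_iff_mem_zpowers.mpr hB
      obtain ⟨e, rfl⟩ := hyB t hA
      show y ^ (p ^ d * e) = 1
      rw [pow_mul, hyp, one_pow]
    · have hy' : orderOf y = p ^ d := Nat.dvd_antisymm (orderOf_dvd_of_pow_eq_one hyp)
        (hyB _ (by rw [pow_orderOf_eq_one]; exact one_mem _))
      have hbo : orderOf D.b = p ^ D.k * p ^ (D.m - d) := by
        have ho : orderOf (D.b ^ p ^ D.k) = p ^ (D.m - d) := by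
          rw [← hc₀]
          obtain ⟨e, he⟩ := IsPGroup.iff_orderOf.mp hG (D.a ^ ((p : ℤ) ^ d * c'))
          rw [he]
          congr 1
          have h1 : ∀ u, e ≤ u ↔ D.m - d ≤ u := fun u => by
            rw [← Nat.pow_dvd_pow_iff_le_right (x := p) hpp.one_lt, ← he, orderOf_dvd_iff_pow_eq_one,
              ← zpow_natCast, ← zpow_mul, D.zpow_eq_one_iff, Nat.cast_pow]
            constructor
            · intro h
              rw [mul_comm ((p : ℤ) ^ d) c', mul_assoc, ← pow_add] at h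
              have := (pow_dvd_pow_iff hP.ne_zero hP.not_isUnit).mp
                (hP.pow_dvd_of_dvd_mul_left _ hc' h)
              omega
            · intro h
              rw [mul_comm ((p : ℤ) ^ d) c', mul_assoc, ← pow_add]
              exact dvd_mul_of_dvd_right (pow_dvd_pow _ (by omega)) _
          exact le_antisymm ((h1 _).mpr le_rfl) ((h1 _).mp le_rfl)
        have hdvd : p ^ D.k ∣ orderOf D.b :=
          (D.pow_b_mem _).mp (by rw [pow_orderOf_eq_one]; exact one_mem _)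
        rw [orderOf_pow' _ (pow_ne_zero _ hpp.ne_zero), Nat.gcd_eq_right hdvd] at ho
        rw [← ho, Nat.mul_div_cancel' hdvd]
      rw [Nat.card_zpowers, Nat.card_zpowers, hbo, hy', D.card_G, mul_assoc, ← pow_add,
        Nat.sub_add_cancel hdm.le, mul_comm]

end Cfsg.Agent.S3884
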