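import Cfsg.Statements.S3886
import Cfsg.Agent.Lib.Metacyclic.Theory

set_option autoImplicit false
open Cfsg

namespace Cfsg.Agent.S3886

/-- Let p be an odd prime and G a finite metacyclic p-group (G has a cyclic normal subgroup with cyclic quotient). Then the largest value of |R| · |Z(R)| over subgroups R of G is |G : G'|², and the subgroups attaining it (the centrally large subgroups) are exactly the non-abelian subgroups together with the maximal abelian subgroups of G. -/
theorem result {G : Type*} [Group G] [Finite G] {p : ℕ} [Fact p.Prime] (hp : p ≠ 2) (hG : IsPGroup p G) (hmc : Cfsg.IsMetacyclic G) : Cfsg.maxCentralProduct G = (commutator G).index ^ 2 ∧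
    ∀ R : Subgroup G, Cfsg.IsCentrallyLarge R ↔ (¬ IsMulCommutative ↥R ∨ Maximal (fun K : Subgroup G => IsMulCommutative ↥K) R) := by
  have hidx : (commutator G).index * Nat.card (commutator G) = Nat.card G :=
    Subgroup.index_mul_card _
  have hpos : 0 < Nat.card (commutator G) ^ 2 := pow_pos Nat.card_pos 2
  have hna : ∀ R : Subgroup G, ¬ IsMulCommutative R →
      Nat.card R * Nat.card (Subgroup.center R) = (commutator G).index ^ 2 := by
    intro R hR
    refine Nat.eq_of_mul_eq_mul_right hpos ?_
    rw [Agent.Metacyclic.card_mul_card_center_subgroup hp hG hmc R hR, mul_assoc,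
      Agent.Metacyclic.card_center_mul hp hG hmc, ← mul_pow, hidx, pow_two]
  have hbd : ∀ K : Subgroup G, IsMulCommutative K → Nat.card K ≤ (commutator G).index := fun K hK =>
    Nat.le_of_mul_le_mul_right ((Agent.Metacyclic.card_le_of_comm hp hG hmc K hK).trans hidx.ge) Nat.card_pos
  have hab : ∀ R : Subgroup G, IsMulCommutative R →
      Nat.card R * Nat.card (Subgroup.center R) = Nat.card R ^ 2 := fun R hR => by
    rw [Subgroup.center_eq_top_iff.mpr hR, Subgroup.card_top, pow_two]
  have hle : ∀ R : Subgroup G, Nat.card R * Nat.card (Subgroup.center R) ≤ (commutator G).index ^ 2 := by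
    intro R
    by_cases hR : IsMulCommutative R
    · rw [hab R hR]; exact Nat.pow_le_pow_left (hbd R hR) 2
    · exact (hna R hR).le
  obtain ⟨R₀, hR₀⟩ : ∃ R : Subgroup G, Nat.card R * Nat.card (Subgroup.center R) = (commutator G).index ^ 2 := by
    by_cases hG' : IsMulCommutative (⊤ : Subgroup G)
    · refine ⟨⊤, ?_⟩
      have hc : commutator G = ⊥ := by
        rw [commutator_def, Subgroup.commutator_eq_bot_iff_le_centralizer]
        exact (Agent.Metacyclic.isMulCommutative_iff_le _).mp hG'
      rw [hab _ hG', hc, Subgroup.index_bot, Subgroup.card_top]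
    · exact ⟨⊤, hna _ hG'⟩
  have hmax : Cfsg.maxCentralProduct G = (commutator G).index ^ 2 :=
    le_antisymm (csSup_le ⟨_, R₀, rfl⟩ (by rintro _ ⟨R, rfl⟩; exact hle R))
      (le_csSup ⟨(commutator G).index ^ 2, by rintro _ ⟨R, rfl⟩; exact hle R⟩ ⟨R₀, hR₀⟩)
  refine ⟨hmax, fun R => ?_⟩
  rw [Cfsg.IsCentrallyLarge, hmax]
  by_cases hR : IsMulCommutative R
  · rw [hab R hR, (Nat.pow_left_injective two_ne_zero).eq_iff, or_iff_right (not_not.mpr hR)]
    constructor
    · intro h
      refine ⟨hR, fun K hK hRK => ?_⟩
      rw [Subgroup.eq_of_le_of_card_ge hRK ((hbd K hK).trans h.ge)]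
    · intro hmax'
      have hL := (Agent.Metacyclic.isMulCommutative_iff_le R).mp hR
      have hadd : ∀ c ∈ Subgroup.centralizer (R : Set G), c ∈ R := by
        intro c hc
        refine hmax'.2 (y := R ⊔ Subgroup.zpowers c) ((Agent.Metacyclic.isMulCommutative_iff_le _).mpr ?_)
          le_sup_left (Subgroup.mem_sup_right (Subgroup.mem_zpowers c))
        exact sup_le (Subgroup.le_centralizer_iff.mp (sup_le hL (Subgroup.zpowers_le.mpr hc)))
          (Subgroup.le_centralizer_iff.mp (sup_le
            (Subgroup.le_centralizer_iff.mp (Subgroup.zpowers_le.mpr hc)) (Subgroup.le_centralizer _)))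
      have h1 := Agent.Metacyclic.card_mul_card_centralizer hp hG hmc R
        (fun z hz => hadd z (Subgroup.center_le_centralizer _ hz))
      rw [le_antisymm hadd hL] at h1
      refine Nat.eq_of_mul_eq_mul_right (Nat.card_pos (α := commutator G)) (Nat.pow_left_injective two_ne_zero ?_)
      show (Nat.card R * Nat.card (commutator G)) ^ 2 = ((commutator G).index * Nat.card (commutator G)) ^ 2
      rw [hidx, mul_pow, pow_two (Nat.card R), h1, mul_assoc, Agent.Metacyclic.card_center_mul hp hG hmc,
        pow_two]
  · exact iff_of_true (hna R hR) (Or.inl hR)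

end Cfsg.Agent.S3886
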