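import Cfsg.Statements.S3887
import Cfsg.Agent.Lib.Metacyclic.Theory

set_option autoImplicit false
open Cfsg

namespace Cfsg.Agent.S3887

/-- Let p be an odd prime and G a finite metacyclic p-group (G has a cyclic normal subgroup with cyclic quotient). Then a subgroup R of G maximizes |R| · |C_G(R)| over all subgroups of G if and only if R contains the center of G. -/
theorem result {G : Type*} [Group G] [Finite G] {p : ℕ} [Fact p.Prime] (hp : p ≠ 2) (hG : IsPGroup p G) (hmc : Cfsg.IsMetacyclic G) (R : Subgroup G) : Cfsg.IsCentralizerLarge R ↔ Subgroup.center G ≤ R := by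
  have hkey : ∀ K : Subgroup G,
      Nat.card K * Nat.card (Subgroup.centralizer (K : Set G)) ≤ Nat.card G * Nat.card (Subgroup.center G) ∧
        (Nat.card K * Nat.card (Subgroup.centralizer (K : Set G)) = Nat.card G * Nat.card (Subgroup.center G) →
          Subgroup.center G ≤ K) := by
    intro K
    have h := Agent.Metacyclic.card_mul_card_centralizer hp hG hmc (K ⊔ Subgroup.center G) le_sup_right
    have hC : Subgroup.centralizer ((K ⊔ Subgroup.center G : Subgroup G) : Set G) =
        Subgroup.centralizer (K : Set G) := by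
      refine le_antisymm (Subgroup.centralizer_le (SetLike.coe_subset_coe.mpr le_sup_left)) ?_
      refine Subgroup.le_centralizer_iff.mp (sup_le (Subgroup.le_centralizer_iff.mp le_rfl)
        (Subgroup.center_le_centralizer _))
    rw [hC] at h
    rw [← h]
    refine ⟨Nat.mul_le_mul_right _ (Subgroup.card_le_of_le le_sup_left), fun he => ?_⟩
    rw [Subgroup.eq_of_le_of_card_ge (le_sup_left : K ≤ K ⊔ Subgroup.center G)
      (Nat.eq_of_mul_eq_mul_right Nat.card_pos he).ge]
    exact le_sup_right
  have hmax : Cfsg.maxCentralizerProduct G = Nat.card G * Nat.card (Subgroup.center G) := by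
    refine le_antisymm (csSup_le ⟨_, ⊥, rfl⟩ (by rintro _ ⟨K, rfl⟩; exact (hkey K).1)) ?_
    exact le_csSup ⟨Nat.card G * Nat.card (Subgroup.center G), by rintro _ ⟨K, rfl⟩; exact (hkey K).1⟩
      ⟨Subgroup.center G, Agent.Metacyclic.card_mul_card_centralizer hp hG hmc _ le_rfl⟩
  rw [Cfsg.IsCentralizerLarge, hmax]
  exact ⟨(hkey R).2, Agent.Metacyclic.card_mul_card_centralizer hp hG hmc R⟩

end Cfsg.Agent.S3887
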