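import Cfsg.Statements.S3888
import Cfsg.Agent.Lib.Blackburn23.Three

set_option autoImplicit false
open Cfsg

namespace Cfsg.Agent.S3888

/-- The classification of the p-groups of rank at most two for odd p. Let p be an odd prime and G a group of order p^n with no elementary abelian subgroup of order p³. Then one of the following holds: G is metacyclic; n ≥ 3 and G is generated by elements x, y, z with x^p = y^p = z^(p^(n−2)) = 1, z commuting with x and y, and x⁻¹yx = y z^(p^(n−3)); n ≥ 4 and G is generated by elements x, y, z with x^p = y^p = z^(p^(n−2)) = 1, yz = zy, x⁻¹yx = y z^(s p^(n−3)) and x⁻¹zx = yz, where s = 1 or s is a quadratic non-residue modulo p; or p = 3 and G has maximal class (nilpotency class n − 1). -/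
theorem result {G : Type*} [Group G] [Finite G] {p : ℕ} [Fact p.Prime] (hp : p ≠ 2) (n : ℕ) (hG : Nat.card G = p ^ n)
    (hrk : Cfsg.PRankLE p 2 G) :
    Cfsg.IsMetacyclic G ∨
    (3 ≤ n ∧ ∃ x y z : G, Subgroup.closure ({x, y, z} : Set G) = ⊤ ∧ x ^ p = 1 ∧ y ^ p = 1 ∧ z ^ p ^ (n - 2) = 1 ∧
        x * z = z * x ∧ y * z = z * y ∧ x⁻¹ * y * x = y * z ^ p ^ (n - 3)) ∨
    (4 ≤ n ∧ ∃ (s : ℕ) (x y z : G), (s = 1 ∨ ¬ IsSquare (s : ZMod p)) ∧ Subgroup.closure ({x, y, z} : Set G) = ⊤ ∧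
        x ^ p = 1 ∧ y ^ p = 1 ∧ z ^ p ^ (n - 2) = 1 ∧ y * z = z * y ∧ x⁻¹ * y * x = y * z ^ (s * p ^ (n - 3)) ∧
        x⁻¹ * z * x = y * z) ∨
    (p = 3 ∧ 2 ≤ n ∧ (⊤ : Subgroup G).lowerCentralSeries (n - 2) ≠ ⊥) := by
  classical
  have hpG : IsPGroup p G := IsPGroup.of_card hG
  by_cases hp3 : p = 3
  · subst hp3
    rcases Cfsg.Agent.Blackburn23.three hpG hG hrk with h | ⟨H, hHn, hH, hexp⟩ | ⟨h2, h⟩
    · exact Or.inl h
    · haveI := hHn
      rcases Cfsg.Agent.Blackburn23.families hp hpG hG hrk H hH hexp with h | h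
      · exact Or.inr (Or.inl h)
      · exact Or.inr (Or.inr (Or.inl h))
    · exact Or.inr (Or.inr (Or.inr ⟨rfl, h2, h⟩))
  have hp' : 3 < p := by
    have h2 := (Fact.out : p.Prime).two_le
    omega
  by_cases hs : Cfsg.Agent.OddLocal.SmallExponent p G
  · exact Or.inl (Cfsg.Agent.S0639.metacyclic_of_smallExponent hp' _ G rfl hpG hs)
  unfold Cfsg.Agent.OddLocal.SmallExponent at hs
  push_neg at hs
  obtain ⟨Q, hQ, hQc⟩ := hs
  have hrk' : ∀ A : Subgroup G, Cfsg.IsElementaryAbelian p A → Nat.card A ≤ p ^ 2 := fun A hA => hrk A hA.1 hA.2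
  set H : Subgroup G := Subgroup.closure {x : G | x ^ p = 1} with hH
  haveI hHn : H.Normal := by
    refine ⟨fun x hx g => ?_⟩
    have h : H ≤ H.comap (MulAut.conj g).toMonoidHom := (Subgroup.closure_le _).mpr (by
      intro a ha
      show g * a * g⁻¹ ∈ H
      refine Subgroup.subset_closure ?_
      show (g * a * g⁻¹) ^ p = 1
      rw [conj_pow, show a ^ p = 1 from ha, mul_one, mul_inv_cancel])
    exact h hx
  have hexp : ∀ x ∈ H, x ^ p = 1 := Cfsg.Agent.OddLocal.omega_exponent hp' _ G rfl hpG hrk'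
  have hle : Nat.card H ≤ p ^ 3 := Cfsg.Agent.OddLocal.card_le_cube_of_exponent hp
    (fun x => Subtype.ext (by rw [SubmonoidClass.coe_pow]; exact hexp x x.2))
    (fun A hA => Cfsg.Agent.OddLocal.rank_map H.subtype H.subtype_injective hrk' A hA)
  have hQH : Q ≤ H := fun x hx => Subgroup.subset_closure (hQ x hx)
  have hlt : p ^ 2 < Nat.card H := lt_of_lt_of_le hQc (Subgroup.card_le_of_le hQH)
  obtain ⟨k, hk⟩ := IsPGroup.iff_card.mp (hpG.to_subgroup H)
  rw [hk, Nat.pow_le_pow_iff_right (Fact.out : p.Prime).one_lt] at hle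
  rw [hk, Nat.pow_lt_pow_iff_right (Fact.out : p.Prime).one_lt] at hlt
  rw [show k = 3 by omega] at hk
  rcases Cfsg.Agent.Blackburn23.families hp hpG hG hrk H hk hexp with h | h
  · exact Or.inr (Or.inl h)
  · exact Or.inr (Or.inr (Or.inl h))

end Cfsg.Agent.S3888
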