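import Cfsg.Statements.S3889
import Mathlib

set_option autoImplicit false
open Cfsg

namespace Cfsg.Agent.S3889

/-- A finite abelian group that is the union of a family of proper subgroups any two of which intersect trivially is elementary abelian: its exponent is a prime. -/
theorem result {G : Type*} [CommGroup G] [Finite G] (𝓑 : Set (Subgroup G)) (hprop : ∀ B ∈ 𝓑, B ≠ ⊤)
    (hcov : ∀ g : G, ∃ B ∈ 𝓑, g ∈ B) (hdisj : ∀ B ∈ 𝓑, ∀ C ∈ 𝓑, B ≠ C → B ⊓ C = ⊥) :
    (Monoid.exponent G).Prime := by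
  classical
  have h0 : ∃ B ∈ 𝓑, (1 : G) ∈ B := hcov 1
  have hnt : ∃ g : G, g ≠ 1 := by
    by_contra hcon
    simp only [not_exists, not_not] at hcon
    obtain ⟨B, hB, -⟩ := h0
    exact hprop B hB (eq_top_iff.mpr fun g _ => by rw [hcon g]; exact B.one_mem)
  -- elements in different members have equal orders
  have key : ∀ B ∈ 𝓑, ∀ C ∈ 𝓑, B ≠ C → ∀ g ∈ B, g ≠ 1 → ∀ h ∈ C, h ≠ 1 →
      h ^ orderOf g = 1 := by
    intro B hB C hC hne g hg hg1 h hh hh1
    by_contra hpow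
    obtain ⟨D, hD, hgh⟩ := hcov (g * h)
    have h1 : h ^ orderOf g ∈ D := by
      have := D.pow_mem hgh (orderOf g)
      rwa [mul_pow, pow_orderOf_eq_one, one_mul] at this
    have hDC : D = C := by
      by_contra hDC
      have h2 : h ^ orderOf g ∈ D ⊓ C := ⟨h1, C.pow_mem hh _⟩
      rw [hdisj D hD C hC hDC, Subgroup.mem_bot] at h2
      exact hpow h2
    subst hDC
    have h3 : g ∈ B ⊓ D := ⟨hg, by simpa using D.mul_mem hgh (D.inv_mem hh)⟩
    rw [hdisj B hB D hD hne, Subgroup.mem_bot] at h3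
    exact hg1 h3
  have keq : ∀ B ∈ 𝓑, ∀ C ∈ 𝓑, B ≠ C → ∀ g ∈ B, g ≠ 1 → ∀ h ∈ C, h ≠ 1 →
      orderOf g = orderOf h := fun B hB C hC hne g hg hg1 h hh hh1 => Nat.dvd_antisymm
    (orderOf_dvd_of_pow_eq_one (key C hC B hB hne.symm h hh hh1 g hg hg1))
    (orderOf_dvd_of_pow_eq_one (key B hB C hC hne g hg hg1 h hh hh1))
  have hall : ∀ g h : G, g ≠ 1 → h ≠ 1 → orderOf g = orderOf h := by
    intro g h hg hh
    obtain ⟨B, hB, hgB⟩ := hcov g
    obtain ⟨C, hC, hhC⟩ := hcov h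
    by_cases hne : B = C
    · subst hne
      obtain ⟨k, hk⟩ : ∃ k, k ∉ B := by
        by_contra hcon
        simp only [not_exists, not_not] at hcon
        exact hprop B hB (eq_top_iff.mpr fun k _ => hcon k)
      obtain ⟨D, hD, hkD⟩ := hcov k
      have hBD : B ≠ D := fun e => hk (e ▸ hkD)
      have hk1 : k ≠ 1 := fun e => hk (e ▸ B.one_mem)
      exact (keq B hB D hD hBD g hgB hg k hkD hk1).trans (keq B hB D hD hBD h hhC hh k hkD hk1).symm
    · exact keq B hB C hC hne g hgB hg h hhC hh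
  haveI : Nontrivial G := ⟨⟨_, 1, hnt.choose_spec⟩⟩
  obtain ⟨p, hp, hpd⟩ := Nat.exists_prime_and_dvd (Finite.one_lt_card (α := G)).ne'
  haveI := Fact.mk hp
  obtain ⟨g, hg⟩ := exists_prime_orderOf_dvd_card' (G := G) p hpd
  have hg1 : g ≠ 1 := fun e => hp.ne_one (by rw [← hg, e, orderOf_one])
  have hexp : Monoid.exponent G = p := by
    refine Nat.dvd_antisymm (Monoid.exponent_dvd_of_forall_pow_eq_one fun h => ?_)
      (hg ▸ Monoid.order_dvd_exponent g)
    rcases eq_or_ne h 1 with rfl | hh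
    · exact one_pow p
    · rw [← hg, hall g h hg1 hh, pow_orderOf_eq_one]
  rwa [hexp]

end Cfsg.Agent.S3889
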