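import Cfsg.Statements.S3890
import Cfsg.Agent.Lib.Cover23.Nilpotent

set_option autoImplicit false
open Cfsg

namespace Cfsg.Agent.S3890

/-- A cover of a group is a finite set of proper subgroups whose union is the whole group; it is minimal when no cover has fewer members, and nilpotent when all its members are nilpotent. Let G be a finite group with trivial center admitting a nilpotent minimal cover 𝓐, and let P be an abelian Sylow p-subgroup of G that is not normal. Then either P is elementary abelian of order greater than p, or P is a Sylow p-subgroup of some member A of 𝓐, the normalizer N of P is a maximal subgroup of G, N meets each of its conjugates by elements outside N in a subgroup of order prime to p, and the centralizer of P equals A. -/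
theorem result {G : Type*} [Group G] [Finite G] (hZ : Subgroup.center G = ⊥) (𝓐 : Finset (Subgroup G))
    (h𝓐 : ((∀ A ∈ 𝓐, A ≠ ⊤) ∧ (∀ g : G, ∃ A ∈ 𝓐, g ∈ A)) ∧ (∀ 𝓑 : Finset (Subgroup G), (∀ A ∈ 𝓑, A ≠ ⊤) ∧ (∀ g : G, ∃ A ∈ 𝓑, g ∈ A) → 𝓐.card ≤ 𝓑.card) ∧ (∀ A ∈ 𝓐, Group.IsNilpotent ↥A)) {p : ℕ} [Fact p.Prime] (P : Sylow p G) (hab : IsMulCommutative ↥(P : Subgroup G))
    (hnn : ¬ (P : Subgroup G).Normal) :
    (Cfsg.IsElementaryAbelian p (P : Subgroup G) ∧ p < Nat.card ↥(P : Subgroup G)) ∨
    (∃ A ∈ 𝓐, (P : Subgroup G) ≤ A ∧ ¬ p ∣ ((P : Subgroup G).subgroupOf A).index ∧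
      IsCoatom (Subgroup.normalizer ((P : Subgroup G) : Set G)) ∧
      (∀ g : G, g ∉ Subgroup.normalizer ((P : Subgroup G) : Set G) →
        ¬ p ∣ Nat.card ↥(Subgroup.normalizer ((P : Subgroup G) : Set G) ⊓
          (Subgroup.normalizer ((P : Subgroup G) : Set G)).map (MulAut.conj g).toMonoidHom)) ∧
      Subgroup.centralizer ((P : Subgroup G) : Set G) = A) := by
  by_cases hE : Cfsg.IsElementaryAbelian p (P : Subgroup G) ∧ p < Nat.card ↥(P : Subgroup G)
  · exact Or.inl hE
  right
  have hP : IsCyclic ↥(P : Subgroup G) ∨ ¬ Cfsg.IsElementaryAbelian p (P : Subgroup G) := by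
    by_cases he : Cfsg.IsElementaryAbelian p (P : Subgroup G)
    · left
      have hle : Nat.card ↥(P : Subgroup G) ≤ p := by
        by_contra h; exact hE ⟨he, not_le.mp h⟩
      obtain ⟨k, hk⟩ := IsPGroup.iff_card.mp P.isPGroup'
      rw [hk] at hle
      match k, hk, hle with
      | 0, hk, _ =>
        haveI := (Nat.card_eq_one_iff_unique.mp (hk.trans (pow_zero p))).1
        infer_instance
      | 1, hk, _ => exact isCyclic_of_prime_card (p := p) (by simpa using hk)
      | k + 2, _, hle =>
        exfalso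
        have := Nat.pow_lt_pow_right (Fact.out : p.Prime).one_lt (show 1 < k + 2 by omega)
        rw [pow_one] at this
        omega
    · exact Or.inr he
  obtain ⟨A, hA, hPA, hC, h1, -, h3⟩ := Cover23.conclusions hZ h𝓐 P hab hnn hP
  refine ⟨A, hA, hPA, fun hd => P.not_dvd_index ?_, h1, h3, hC⟩
  rw [← Subgroup.relIndex_mul_index hPA]
  exact dvd_mul_of_dvd_left hd _

end Cfsg.Agent.S3890
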