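import Cfsg.Statements.S3892
import Cfsg.Agent.Lib.Cover23.Nilpotent
-- import your own Cfsg.Agent.* helpers here

set_option autoImplicit false
open Cfsg

namespace Cfsg.Agent.S3892

open Equiv Cfsg.Agent.Cover23

set_option linter.unusedSectionVars false
set_option linter.style.haveILetI false

theorem factorization_small {n r : ℕ} (hr : r.Prime) (h1 : r ≤ n) (h2 : n < 2 * r) : ¬ r ^ 2 ∣ n.factorial := by
  haveI := Fact.mk hr
  intro hd
  have h3 := padicValNat_dvd_iff_le (p := r) (Nat.factorial_ne_zero n) |>.mp hd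
  obtain ⟨k, rfl⟩ : ∃ k, n = r * 1 + k := ⟨n - r, by omega⟩
  rw [padicValNat_factorial_mul_add 1 (by omega), padicValNat_factorial_mul] at h3
  simp at h3

/-- Two non-commuting elements of order `r` whose centralizers lie in a common proper subgroup rule
out a minimal cover by nilpotent subgroups, when `r ^ 2` does not divide the order. -/
theorem no_cover {G : Type*} [Group G] [Finite G] {r : ℕ} (hr : r.Prime) (hsq : ¬ r ^ 2 ∣ Nat.card G)
    {x y : G} (hx : x ^ r = 1) (hy : y ^ r = 1) (hxy : x * y ≠ y * x) {M : Subgroup G} (hM : M ≠ ⊤)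
    (hxM : ∀ z, z * x = x * z → z ∈ M) (hyM : ∀ z, z * y = y * z → z ∈ M)
    {𝓐 : Finset (Subgroup G)} (h : IsNilMinCover 𝓐) : False := by
  haveI := Fact.mk hr
  obtain ⟨P⟩ : Nonempty (Sylow r G) := inferInstance
  obtain ⟨k, hk⟩ := P.isPGroup'.exists_card_eq
  have hk2 : k < 2 := by
    by_contra hlt
    exact hsq ((pow_dvd_pow r (not_lt.mp hlt)).trans (hk ▸ Subgroup.card_subgroup_dvd_card _))
  have hab : IsMulCommutative ↥(P : Subgroup G) := by
    haveI : IsCyclic ↥(P : Subgroup G) := by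
      interval_cases k
      · haveI := (Nat.card_eq_one_iff_unique.mp (show Nat.card ↥(P : Subgroup G) = 1 by simpa using hk)).1
        infer_instance
      · exact isCyclic_of_prime_card (p := r) (by simpa using hk)
    infer_instance
  obtain ⟨A, hA, hxA⟩ := h.1.2 x
  obtain ⟨B, hB, hyB⟩ := h.1.2 y
  have hcx := le_centralizer_of_mem (h.2.2 A hA) P hab hxA ⟨1, by rw [pow_one]; exact hx⟩
  have hcy := le_centralizer_of_mem (h.2.2 B hB) P hab hyB ⟨1, by rw [pow_one]; exact hy⟩
  have hAB : A = B := eq_of_le_proper h hM hA hB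
    (fun z hz => hxM z (Subgroup.mem_centralizer_singleton_iff.mp (hcx hz)))
    (fun z hz => hyM z (Subgroup.mem_centralizer_singleton_iff.mp (hcy hz)))
  exact hxy (Subgroup.mem_centralizer_singleton_iff.mp (hcx (hAB ▸ hyB))).symm

/-- The permutations preserving the initial segment of length `r`. -/
def segStab (n r : ℕ) : Subgroup (Perm (Fin n)) where
  carrier := {z | ∀ i, (z i : ℕ) < r ↔ (i : ℕ) < r}
  one_mem' := fun _ => Iff.rfl
  mul_mem' := fun {a b} ha hb i => (ha (b i)).trans (hb i)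
  inv_mem' := fun {a} ha i => by
    have := ha (a⁻¹ i)
    rw [Perm.coe_inv, Equiv.apply_symm_apply] at this
    exact this.symm

/-- The general degree. -/
theorem no_cover_large {n : ℕ} (hn : 6 ≤ n) (H : Subgroup (Perm (Fin n)))
    (hH : alternatingGroup (Fin n) ≤ H) {𝓐 : Finset (Subgroup H)} (h : IsNilMinCover 𝓐) : False := by
  obtain ⟨r, hr, hlo, hhi⟩ := Nat.exists_prime_lt_and_le_two_mul (n / 2) (by omega)
  haveI : NeZero n := ⟨by omega⟩
  have hrn : r < n := by
    rcases Nat.lt_or_ge r n with h1 | h1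
    · exact h1
    · rcases hr.eq_one_or_self_of_dvd 2 ⟨n / 2, by omega⟩ with h2 | h2 <;> omega
  have hr5 : 5 ≤ r := by
    by_contra h5
    have h4 : r = 4 := by omega
    rw [h4] at hr
    exact absurd hr (by norm_num)
  have hodd : Even (r - 1) := by
    rcases hr.eq_two_or_odd' with h2 | h2
    · omega
    · obtain ⟨k, hk⟩ := h2
      exact ⟨k, by omega⟩
  let i₀ : Fin n := ⟨r - 1, by omega⟩
  let x : Perm (Fin n) := Fin.cycleRange i₀
  let a : Fin n := ⟨0, by omega⟩
  let b : Fin n := ⟨1, by omega⟩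
  let σ : Perm (Fin n) := swap a b
  let y : Perm (Fin n) := σ * x * σ
  have hi0 : i₀ ≠ 0 := fun e => by
    have : r - 1 = 0 := congrArg Fin.val e
    omega
  have hxval : ∀ i : Fin n, (i : ℕ) < r - 1 → (x i : ℕ) = i + 1 := fun i hi => Fin.coe_cycleRange_of_lt hi
  have hxfix : ∀ i : Fin n, r ≤ (i : ℕ) → x i = i := fun i hi =>
    Fin.cycleRange_of_gt (show (r - 1 : ℕ) < i by omega)
  have hxmove : ∀ i : Fin n, (i : ℕ) < r → x i ≠ i := fun i hi e => by
    rcases Nat.lt_or_ge (i : ℕ) (r - 1) with h1 | h1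
    · have := hxval i h1
      rw [e] at this; omega
    · have hi' : i = i₀ := Fin.ext (show (i : ℕ) = r - 1 by omega)
      rw [hi', show x i₀ = 0 from Fin.cycleRange_self i₀] at e
      exact hi0 e.symm
  have hσ : σ * σ = 1 := swap_mul_self a b
  have hσval : ∀ i : Fin n, (σ i : ℕ) < r ↔ (i : ℕ) < r := fun i => by
    by_cases h1 : i = a
    · rw [h1, show σ a = b from swap_apply_left a b]
      show 1 < r ↔ 0 < r
      omega
    by_cases h2 : i = b
    · rw [h2, show σ b = a from swap_apply_right a b]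
      show 0 < r ↔ 1 < r
      omega
    rw [show σ i = i from swap_apply_of_ne_of_ne h1 h2]
  have hxr : x ^ r = 1 := by
    refine orderOf_dvd_iff_pow_eq_one.mp ?_
    rw [← Perm.lcm_cycleType, Fin.cycleType_cycleRange hi0, Multiset.lcm_singleton, normalize_eq]
    show r - 1 + 1 ∣ r
    rw [Nat.sub_add_cancel hr.one_le]
  have hyr : y ^ r = 1 := by
    rw [show y = σ * x * σ⁻¹ by rw [inv_eq_of_mul_eq_one_right hσ], conj_pow, hxr, mul_one, mul_inv_cancel]
  have hxA : x ∈ alternatingGroup (Fin n) := by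
    rw [Perm.mem_alternatingGroup, show Perm.sign x = (-1) ^ (r - 1) from Fin.sign_cycleRange i₀]
    exact hodd.neg_one_pow
  have hyA : y ∈ alternatingGroup (Fin n) := by
    have h1 := Perm.mem_alternatingGroup.mp hxA
    show σ * x * σ ∈ _
    rw [Perm.mem_alternatingGroup, map_mul, map_mul, h1, mul_one, ← map_mul, hσ, map_one]
  have hxstab : ∀ z, z * x = x * z → z ∈ segStab n r := by
    intro z hz i
    have e : x (z i) = z (x i) := (congrArg (fun f : Perm (Fin n) => f i) hz).symm
    constructor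
    · intro hzi
      by_contra hir
      exact hxmove _ hzi (by rw [e, hxfix i (not_lt.mp hir)])
    · intro hir
      by_contra hzi
      rw [hxfix _ (not_lt.mp hzi)] at e
      exact hxmove i hir (z.injective e.symm)
  have hystab : ∀ z, z * y = y * z → z ∈ segStab n r := by
    intro z hz
    have h1 : σ * z * σ ∈ segStab n r := by
      refine hxstab _ ?_
      have hz' : z * (σ * x * σ) = σ * x * σ * z := hz
      calc σ * z * σ * x = σ * (z * (σ * x * σ)) * σ := by simp [mul_assoc, hσ]
        _ = σ * (σ * x * σ * z) * σ := by rw [hz']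
        _ = x * (σ * z * σ) := by simp [← mul_assoc, hσ]
    intro i
    have h2 := h1 (σ i)
    rw [Perm.mul_apply, Perm.mul_apply, show σ (σ i) = i from swap_apply_self a b i, hσval, hσval] at h2
    exact h2
  refine no_cover (M := (segStab n r).subgroupOf H) hr ?_ (x := ⟨x, hH hxA⟩) (y := ⟨y, hH hyA⟩)
    (Subtype.ext hxr) (Subtype.ext hyr) ?_ ?_ (fun z hz => hxstab _ (congrArg Subtype.val hz))
    (fun z hz => hystab _ (congrArg Subtype.val hz)) h
  · intro hd
    have h1 : Nat.card H ∣ n.factorial := by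
      have := Subgroup.card_subgroup_dvd_card H
      rwa [Nat.card_perm, Nat.card_fin] at this
    exact factorization_small hr hrn.le (by omega) (hd.trans h1)
  · intro e
    have e' : x (y a) = y (x a) := congrArg (fun f : Perm (Fin n) => f a) (congrArg Subtype.val e)
    have hxa : x a = b := Fin.ext (hxval a (show 0 < r - 1 by omega))
    have hxb : (x b : ℕ) = 2 := hxval b (show 1 < r - 1 by omega)
    have h1 : (y a : ℕ) = 2 := by
      show (σ (x (σ a)) : ℕ) = 2
      rw [show σ a = b from swap_apply_left a b,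
        show σ (x b) = x b from swap_apply_of_ne_of_ne
          (fun h => by have h' : (x b : ℕ) = 0 := congrArg Fin.val h; omega)
          (fun h => by have h' : (x b : ℕ) = 1 := congrArg Fin.val h; omega), hxb]
    have h3 : (y (x a) : ℕ) = 0 := by
      rw [hxa]
      show (σ (x (σ b)) : ℕ) = 0
      rw [show σ b = a from swap_apply_right a b, hxa, show σ b = a from swap_apply_right a b]
    have h4 : (x (y a) : ℕ) = 3 := by rw [hxval _ (by omega), h1]
    rw [e', h3] at h4
    omega
  · intro e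
    let c : Fin n := ⟨r, hrn⟩
    let d : Fin n := ⟨2, by omega⟩
    have hac : a ≠ c := fun h => by have h' : 0 = r := congrArg Fin.val h; omega
    have hbd : b ≠ d := fun h => by have h' : 1 = 2 := congrArg Fin.val h; omega
    have hab : a ≠ b := fun h => by have h' : 0 = 1 := congrArg Fin.val h; omega
    have had : a ≠ d := fun h => by have h' : 0 = 2 := congrArg Fin.val h; omega
    have ht : swap a c * swap b d ∈ alternatingGroup (Fin n) := by
      rw [Perm.mem_alternatingGroup, map_mul, Perm.sign_swap hac, Perm.sign_swap hbd]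
      decide
    have h1 : ((swap a c * swap b d) a : ℕ) < r ↔ (a : ℕ) < r := (e.ge (Subgroup.mem_top (⟨_, hH ht⟩ : H))) a
    rw [Perm.mul_apply, swap_apply_of_ne_of_ne hab had, swap_apply_left] at h1
    exact lt_irrefl r (h1.mpr (show 0 < r by omega))

theorem perm_four {𝓐 : Finset (Subgroup (Perm (Fin 4)))} (h : IsNilMinCover 𝓐) : False := by
  refine no_cover (M := alternatingGroup (Fin 4)) (r := 3) Nat.prime_three ?_
    (x := swap 0 1 * swap 1 2) (y := swap 0 1 * swap 1 3) (by decide) (by decide) (by decide) ?_ ?_ ?_ h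
  · rw [Nat.card_perm, Nat.card_fin]; decide
  · intro e
    have := Perm.mem_alternatingGroup.mp (e.ge (Subgroup.mem_top (swap (0 : Fin 4) 1)))
    exact absurd this (by decide)
  · simp only [Perm.mem_alternatingGroup]; decide
  · simp only [Perm.mem_alternatingGroup]; decide

theorem perm_five {𝓐 : Finset (Subgroup (Perm (Fin 5)))} (h : IsNilMinCover 𝓐) : False := by
  refine no_cover (M := alternatingGroup (Fin 5)) (r := 5) Nat.prime_five ?_
    (x := finRotate 5) (y := swap 0 1 * finRotate 5 * swap 0 1) (by decide) (by decide) (by decide) ?_ ?_ ?_ h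
  · rw [Nat.card_perm, Nat.card_fin]; decide
  · intro e
    have := Perm.mem_alternatingGroup.mp (e.ge (Subgroup.mem_top (swap (0 : Fin 5) 1)))
    exact absurd this (by decide)
  · simp only [Perm.mem_alternatingGroup]; decide +kernel
  · simp only [Perm.mem_alternatingGroup]; decide +kernel

theorem alt_five {𝓐 : Finset (Subgroup (alternatingGroup (Fin 5)))} (h : IsNilMinCover 𝓐) : False := by
  refine no_cover (M := (MulAction.stabilizer (Perm (Fin 5)) (4 : Fin 5)).subgroupOf (alternatingGroup (Fin 5)))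
    (r := 3) Nat.prime_three ?_
    (x := (⟨swap 0 1 * swap 1 2, Perm.mem_alternatingGroup.mpr (by decide)⟩ : alternatingGroup (Fin 5)))
    (y := (⟨swap 0 1 * swap 1 3, Perm.mem_alternatingGroup.mpr (by decide)⟩ : alternatingGroup (Fin 5)))
    (Subtype.ext (by decide)) (Subtype.ext (by decide)) (fun e => absurd (congrArg Subtype.val e) (by decide))
    ?_ ?_ ?_ h
  · rw [nat_card_alternatingGroup, Nat.card_fin]; decide
  · intro e
    have := e.ge (Subgroup.mem_top (⟨swap 0 4 * swap 1 2, Perm.mem_alternatingGroup.mpr (by decide)⟩ :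
      alternatingGroup (Fin 5)))
    exact absurd (MulAction.mem_stabilizer_iff.mp (Subgroup.mem_subgroupOf.mp this)) (by decide)
  · have key : ∀ z : Perm (Fin 5), Perm.sign z = 1 → z * (swap 0 1 * swap 1 2) = swap 0 1 * swap 1 2 * z →
        z 4 = 4 := by decide +kernel
    exact fun z hz => key z (Perm.mem_alternatingGroup.mp z.2) (congrArg Subtype.val hz)
  · have key : ∀ z : Perm (Fin 5), Perm.sign z = 1 → z * (swap 0 1 * swap 1 3) = swap 0 1 * swap 1 3 * z →
        z 4 = 4 := by decide +kernel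
    exact fun z hz => key z (Perm.mem_alternatingGroup.mp z.2) (congrArg Subtype.val hz)

theorem cover_map {G G' : Type*} [Group G] [Group G'] [Finite G] [Finite G'] (e : G ≃* G')
    {𝓐 : Finset (Subgroup G)} (h : IsNilMinCover 𝓐) :
    IsNilMinCover (𝓐.map ⟨fun A => A.map e.toMonoidHom, Subgroup.map_injective e.injective⟩) := by
  refine ⟨⟨fun A hA => ?_, fun g => ?_⟩, fun 𝓑 hB => ?_, fun A hA => ?_⟩
  · obtain ⟨X, hX, rfl⟩ := Finset.mem_map.mp hA
    intro e'
    exact h.1.1 X hX (Subgroup.map_injective e.injective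
      (e'.trans (Subgroup.map_top_of_surjective _ e.surjective).symm))
  · obtain ⟨X, hX, hg⟩ := h.1.2 (e.symm g)
    exact ⟨_, Finset.mem_map.mpr ⟨X, hX, rfl⟩, ⟨_, hg, by simp⟩⟩
  · rw [Finset.card_map]
    refine (h.2.1 (𝓑.map ⟨fun A => A.comap e.toMonoidHom, Subgroup.comap_injective e.surjective⟩)
      ⟨fun A hA => ?_, fun g => ?_⟩).trans_eq (Finset.card_map _)
    · obtain ⟨X, hX, rfl⟩ := Finset.mem_map.mp hA
      intro e'
      exact hB.1 X hX (Subgroup.comap_injective e.surjective (e'.trans (Subgroup.comap_top _).symm))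
    · obtain ⟨X, hX, hg⟩ := hB.2 (e g)
      exact ⟨_, Finset.mem_map.mpr ⟨X, hX, rfl⟩, hg⟩
  · obtain ⟨X, hX, rfl⟩ := Finset.mem_map.mp hA
    haveI := h.2.2 X hX
    exact Group.nilpotent_of_surjective (e.toMonoidHom.subgroupMap X) (e.toMonoidHom.subgroupMap_surjective X)

/-- A cover of a group is a finite set of proper subgroups whose union is the whole group; it is minimal when no cover has fewer members, and nilpotent when all its members are nilpotent. The alternating groups of degree at least 5 and the symmetric groups of degree at least 4 have no nilpotent minimal cover. -/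
theorem result (n : ℕ) :
    (5 ≤ n → ¬ ∃ 𝓐 : Finset (Subgroup ↥(alternatingGroup (Fin n))), ((∀ A ∈ 𝓐, A ≠ ⊤) ∧ (∀ g : ↥(alternatingGroup (Fin n)), ∃ A ∈ 𝓐, g ∈ A)) ∧ (∀ 𝓑 : Finset (Subgroup ↥(alternatingGroup (Fin n))), (∀ A ∈ 𝓑, A ≠ ⊤) ∧ (∀ g : ↥(alternatingGroup (Fin n)), ∃ A ∈ 𝓑, g ∈ A) → 𝓐.card ≤ 𝓑.card) ∧ (∀ A ∈ 𝓐, Group.IsNilpotent ↥A)) ∧
    (4 ≤ n → ¬ ∃ 𝓐 : Finset (Subgroup (Equiv.Perm (Fin n))), ((∀ A ∈ 𝓐, A ≠ ⊤) ∧ (∀ g : (Equiv.Perm (Fin n)), ∃ A ∈ 𝓐, g ∈ A)) ∧ (∀ 𝓑 : Finset (Subgroup (Equiv.Perm (Fin n))), (∀ A ∈ 𝓑, A ≠ ⊤) ∧ (∀ g : (Equiv.Perm (Fin n)), ∃ A ∈ 𝓑, g ∈ A) → 𝓐.card ≤ 𝓑.card) ∧ (∀ A ∈ 𝓐, Group.IsNilpotent ↥A)) := by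
  refine ⟨fun hn => ?_, fun hn => ?_⟩ <;> rintro ⟨𝓐, h⟩
  · rcases eq_or_lt_of_le hn with rfl | hn6
    · exact alt_five h
    · exact no_cover_large hn6 (alternatingGroup (Fin n)) le_rfl h
  · by_cases h4 : n = 4
    · subst h4; exact perm_four h
    by_cases h5 : n = 5
    · subst h5; exact perm_five h
    exact no_cover_large (by omega) ⊤ le_top (cover_map Subgroup.topEquiv.symm h)

end Cfsg.Agent.S3892
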