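import Cfsg.Statements.S3893
import Cfsg.Agent.Lib.Suzuki.Partition
import Cfsg.Agent.Lib.Suzuki.LieIso
import Cfsg.Agent.S2238

set_option autoImplicit false
open Cfsg

namespace Cfsg.Agent.S3893

/-- A cover of a group is a finite set of proper subgroups whose union is the whole group; it is minimal when no cover has fewer members, and nilpotent when all its members are nilpotent. The Suzuki groups Sz(q), q = 2^(2m+1) with m ≥ 1, have no nilpotent minimal cover. -/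
theorem result {F : Type*} [Field F] [Fintype F] (m : ℕ) (hm : 1 ≤ m) (hF : Fintype.card F = 2 ^ (2 * m + 1)) :
    ¬ ∃ 𝓐 : Finset (Subgroup ↥(Cfsg.Lie.Sz F (2 ^ (m + 1)))), ((∀ A ∈ 𝓐, A ≠ ⊤) ∧ (∀ g : ↥(Cfsg.Lie.Sz F (2 ^ (m + 1))), ∃ A ∈ 𝓐, g ∈ A)) ∧ (∀ 𝓑 : Finset (Subgroup ↥(Cfsg.Lie.Sz F (2 ^ (m + 1)))), (∀ A ∈ 𝓑, A ≠ ⊤) ∧ (∀ g : ↥(Cfsg.Lie.Sz F (2 ^ (m + 1))), ∃ A ∈ 𝓑, g ∈ A) → 𝓐.card ≤ 𝓑.card) ∧ (∀ A ∈ 𝓐, Group.IsNilpotent ↥A) := by
  classical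
  rintro ⟨𝓐₀, ⟨hprop₀, hcov₀⟩, hmin₀, hnil₀⟩
  obtain ⟨D⟩ := Cfsg.Agent.Suzuki.exists_dat hm hF
  let e := Cfsg.Agent.Suzuki.lieEquiv D hF
  have hnil' : ∀ A ∈ 𝓐₀, Group.IsNilpotent (A.comap e.toMonoidHom : Subgroup (Cfsg.Sz F m)) := by
    intro A hA
    haveI := hnil₀ A hA
    exact Group.nilpotent_of_mulEquiv
      (((Subgroup.equivMapOfInjective (A.comap e.toMonoidHom) e.toMonoidHom e.injective)).trans
        (MulEquiv.subgroupCongr (Subgroup.map_comap_eq_self_of_surjective (f := e.toMonoidHom) e.surjective A))).symm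
  let S : Subgroup (Cfsg.Sz F m) → Prop := fun U =>
    (∃ P : Sylow 2 (Cfsg.Sz F m), U = (P : Subgroup (Cfsg.Sz F m))) ∨
      (IsCyclic U ∧ Nat.card U ∈ ({2 ^ (2 * m + 1) - 1, 2 ^ (2 * m + 1) + 2 ^ (m + 1) + 1, 2 ^ (2 * m + 1) - 2 ^ (m + 1) + 1} : Set ℕ))
  have huniq : ∀ g : Cfsg.Sz F m, g ≠ 1 → ∀ U V, S U → g ∈ U → S V → g ∈ V → U = V := fun g hg U V hU hgU hV hgV =>
    (S2238.result hm hF g hg).unique ⟨hU, hgU⟩ ⟨hV, hgV⟩
  have hk : ∀ U, Cfsg.Agent.Suzuki.IsTorus U → S U := fun U hU => Or.inr ⟨hU.isCyclic D hF, by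
    rcases Cfsg.Agent.Suzuki.torus_card D hF hU with h | h <;> rw [h, hF] <;> simp⟩
  -- a nilpotent subgroup lies in a member
  have hmem : ∀ A : Subgroup (Cfsg.Sz F m), Group.IsNilpotent A → ∀ g ∈ A, g ≠ 1 → ∀ U, S U → g ∈ U → A ≤ U := by
    intro A hA g hgA hg U hU hgU
    haveI := hA
    haveI : Nontrivial A := ⟨⟨⟨g, hgA⟩, 1, fun h => hg (congrArg Subtype.val h)⟩⟩
    haveI : Nontrivial (Subgroup.center A) :=
      (Subgroup.nontrivial_iff_ne_bot _).2 (Group.IsNilpotent.center_ne_bot A)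
    obtain ⟨⟨z, hz⟩, hz1⟩ := exists_ne (1 : Subgroup.center A)
    have hz1' : (z : Cfsg.Sz F m) ≠ 1 := fun h => hz1 (Subtype.ext (Subtype.ext h))
    have hcom : ∀ c ∈ A, Commute c (z : Cfsg.Sz F m) := fun c hc =>
      congrArg Subtype.val (Subgroup.mem_center_iff.1 hz ⟨c, hc⟩)
    obtain ⟨V, hV, hle⟩ : ∃ V, S V ∧ A ≤ V := by
      rcases Cfsg.Agent.Suzuki.fix_trichotomy (z : Cfsg.Sz F m) with h0 | h1 | ⟨a, b, hab, ha, hb⟩
      · obtain ⟨V, hV, hzV⟩ := Cfsg.Agent.Suzuki.exists_torus_mem D hF hz1' h0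
        refine ⟨V, hk V hV, fun c hc => ?_⟩
        rw [← hV.centralizer_eq D hF hzV hz1']
        exact Cfsg.Agent.Suzuki.mem_cent.2 (hcom c hc)
      · obtain ⟨a, ha, hu⟩ := h1
        obtain ⟨P, hP⟩ := Cfsg.Agent.Suzuki.exists_sylow_point D hF a
        refine ⟨P, Or.inl ⟨P, rfl⟩, fun c hc => (hP c).2 (or_iff_not_imp_left.2 fun hc1 => ?_)⟩
        obtain ⟨a', ha', hu'⟩ := Cfsg.Agent.Suzuki.oneFix_of_commute D hF ⟨a, ha, hu⟩ (hcom c hc) hc1
        have hca : c • a = a := hu _ (Cfsg.Agent.Suzuki.smul_fix_of_commute (hcom c hc) ha)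
        obtain rfl := hu' a hca
        exact ⟨ha', hu'⟩
      · exact ⟨_, Or.inr ⟨Cfsg.Agent.Suzuki.pair_cyclic D hF hab _ (fun c hc => hc), by
          rw [Cfsg.Agent.Suzuki.card_pairStab D hF hab, hF]; simp⟩, fun c hc =>
            Cfsg.Agent.Suzuki.fix_of_commute_twoFix D hF hz1' hab ha hb (hcom c hc)⟩
    rw [huniq g hg U V hU hgU hV (hle hgA)]
    exact hle
  haveI : Finite (Subgroup (Cfsg.Sz F m)) := inferInstance
  haveI : Fintype (Cfsg.suzukiOvoid F m) := Fintype.ofFinite _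
  haveI : Fintype {U : Subgroup (Cfsg.Sz F m) // Cfsg.Agent.Suzuki.IsTorus U} := Fintype.ofFinite _
  let X := (Cfsg.suzukiOvoid F m ⊕ {U : Subgroup (Cfsg.Sz F m) // Cfsg.Agent.Suzuki.IsTorus U}) ⊕ Unit
  -- witnesses in pairwise distinct members
  choose P hP using Cfsg.Agent.Suzuki.exists_sylow_point D hF
  let U₀ := Cfsg.Agent.Suzuki.pairStab (Cfsg.Agent.Suzuki.oI D) (Cfsg.Agent.Suzuki.oP D 0 0)
  let M : X → Subgroup (Cfsg.Sz F m) := Sum.elim (Sum.elim (fun a => (P a : Subgroup (Cfsg.Sz F m))) Subtype.val) fun _ => U₀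
  have hU₀ : S U₀ := Or.inr ⟨Cfsg.Agent.Suzuki.pair_cyclic D hF (Cfsg.Agent.Suzuki.oI_ne_oP D 0 0) _ (fun c hc => hc), by
    rw [Cfsg.Agent.Suzuki.card_pairStab D hF (Cfsg.Agent.Suzuki.oI_ne_oP D 0 0), hF]; simp⟩
  have hS : ∀ x, S (M x) := by
    rintro ((a | U) | u)
    exacts [Or.inl ⟨P a, rfl⟩, hk U.1 U.2, hU₀]
  have hPne : ∀ a, ∃ g ∈ (P a : Subgroup (Cfsg.Sz F m)), g ≠ 1 ∧ g • a = a ∧ ∀ p, g • p = p → p = a := by
    intro a
    obtain ⟨k, hk'⟩ := Cfsg.Agent.Suzuki.transitive D a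
    set t := k * Cfsg.Agent.Suzuki.gT D 1 0 * k⁻¹ with ht
    have h := ((Cfsg.Agent.Suzuki.mem_Q_iff D hF).1 (⟨1, 0, rfl⟩ : Cfsg.Agent.Suzuki.gT D 1 0 ∈ Cfsg.Agent.Suzuki.Q D)).resolve_left
      fun h => one_ne_zero (Cfsg.Agent.Suzuki.gT_inj D (h.trans (Cfsg.Agent.Suzuki.gT_zero D).symm)).1
    have ht1 : t ≠ 1 := fun h' => one_ne_zero (Cfsg.Agent.Suzuki.gT_inj D
      ((conj_eq_one_iff.1 h').trans (Cfsg.Agent.Suzuki.gT_zero D).symm)).1
    have hta : t • a = a := by rw [← hk']; exact (Cfsg.Agent.Suzuki.conj_fix k _).2 h.1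
    have htu : ∀ p, t • p = p → p = a := fun p hp => by
      rw [← smul_inv_smul k p, Cfsg.Agent.Suzuki.conj_fix] at hp
      rw [← smul_inv_smul k p, h.2 _ hp, hk']
    exact ⟨t, (hP a t).2 (Or.inr ⟨hta, htu⟩), ht1, hta, htu⟩
  have hMne : ∀ x, ∃ g ∈ M x, g ≠ 1 := by
    rintro ((a | U) | u)
    · obtain ⟨g, hg, hg1, -⟩ := hPne a
      exact ⟨g, hg, hg1⟩
    · haveI : Nontrivial U.1 := Finite.one_lt_card_iff_nontrivial.1 U.2.one_lt
      obtain ⟨g, hg⟩ := exists_ne (1 : U.1)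
      exact ⟨g, g.2, fun h => hg (Subtype.ext h)⟩
    · obtain ⟨g, hg, h1, h2⟩ := Cfsg.Agent.Suzuki.ne_bot D hF
      exact ⟨g, ⟨h1, h2⟩, hg⟩
  have hMinj : Function.Injective M := by
    have h1 : ∀ a b, M (.inl (.inl a)) = M (.inl (.inl b)) → a = b := by
      intro a b h
      obtain ⟨g, hg, hg1, -, hgu⟩ := hPne a
      have h' : g ∈ (P b : Subgroup (Cfsg.Sz F m)) := (show (P a : Subgroup (Cfsg.Sz F m)) = P b from h) ▸ hg
      exact (hgu b ((((hP b g).1 h').resolve_left hg1)).1).symm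
    have h2 : ∀ a (U : {U : Subgroup (Cfsg.Sz F m) // Cfsg.Agent.Suzuki.IsTorus U}), M (.inl (.inl a)) ≠ M (.inl (.inr U)) := by
      intro a U h
      obtain ⟨g, hg, hg1, hga, -⟩ := hPne a
      exact U.2.fpf D hF ((show (P a : Subgroup (Cfsg.Sz F m)) = U.1 from h) ▸ hg) hg1 a hga
    have h3 : ∀ a u, M (.inl (.inl a)) ≠ M (.inr u) := by
      intro a u h
      obtain ⟨g, hg, hg1, -, hgu⟩ := hPne a
      have h' : g ∈ U₀ := (show (P a : Subgroup (Cfsg.Sz F m)) = U₀ from h) ▸ hg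
      exact Cfsg.Agent.Suzuki.oI_ne_oP D 0 0 ((hgu _ h'.1).trans (hgu _ h'.2).symm)
    have h4 : ∀ (U : {U : Subgroup (Cfsg.Sz F m) // Cfsg.Agent.Suzuki.IsTorus U}) u, M (.inl (.inr U)) ≠ M (.inr u) := by
      intro U u h
      obtain ⟨g, hg, hg1⟩ := hMne (.inr u)
      exact U.2.fpf D hF ((show U.1 = U₀ from h) ▸ hg) hg1 _ hg.1
    rintro ((a | U) | u) ((b | V) | v) h
    · rw [h1 a b h]
    · exact absurd h (h2 a V)
    · exact absurd h (h3 a v)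
    · exact absurd h.symm (h2 b U)
    · rw [Subtype.ext (show U.1 = V.1 from h)]
    · exact absurd h (h4 U v)
    · exact absurd h.symm (h3 b u)
    · exact absurd h.symm (h4 V u)
    · rfl
  choose g hgM hg1 using hMne
  choose A hA hgA using fun x => hcov₀ (e (g x))
  have hAinj : Function.Injective (fun x => (⟨A x, hA x⟩ : {A // A ∈ 𝓐₀})) := by
    intro x y h
    have h' : A x = A y := congrArg Subtype.val h
    have hle := hmem _ (hnil' _ (hA x)) (g x) (hgA x) (hg1 x) _ (hS x) (hgM x)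
    have hgy : g y ∈ (A x).comap e.toMonoidHom := by rw [h']; exact hgA y
    exact hMinj (huniq (g y) (hg1 y) _ _ (hS x) (hle hgy) (hS y) (hgM y))
  have hXle : Fintype.card X ≤ 𝓐₀.card := by
    have := Fintype.card_le_of_injective _ hAinj
    simpa using this
  -- a smaller cover
  let 𝓑 : Finset (Subgroup (Cfsg.Lie.Sz F (2 ^ (m + 1)))) :=
    (Finset.univ : Finset (Cfsg.suzukiOvoid F m ⊕ {U : Subgroup (Cfsg.Sz F m) // Cfsg.Agent.Suzuki.IsTorus U})).image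
      (fun x => (Sum.elim (fun a => MulAction.stabilizer (Cfsg.Sz F m) a) Subtype.val x).map e.toMonoidHom)
  have hB := hmin₀ 𝓑 ⟨fun B hB => ?_, fun y => ?_⟩
  · have h1 : 𝓑.card ≤ Fintype.card (Cfsg.suzukiOvoid F m ⊕ {U : Subgroup (Cfsg.Sz F m) // Cfsg.Agent.Suzuki.IsTorus U}) :=
      Finset.card_image_le
    have h2 : Fintype.card X = Fintype.card (Cfsg.suzukiOvoid F m ⊕ {U : Subgroup (Cfsg.Sz F m) // Cfsg.Agent.Suzuki.IsTorus U}) + 1 := by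
      rw [Fintype.card_sum, Fintype.card_unit]
    omega
  · obtain ⟨x, -, rfl⟩ := Finset.mem_image.1 hB
    intro htop
    rw [← Subgroup.map_top_of_surjective e.toMonoidHom e.surjective] at htop
    have htop' := Subgroup.map_injective (f := e.toMonoidHom) e.injective htop
    rcases x with a | U
    · obtain ⟨b, hb⟩ : ∃ b, b ≠ a := by
        haveI : Nontrivial (Cfsg.suzukiOvoid F m) := ⟨⟨_, _, Cfsg.Agent.Suzuki.oI_ne_oP D 0 0⟩⟩
        exact exists_ne a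
      obtain ⟨k, hk'⟩ := Cfsg.Agent.Suzuki.transitive D a
      obtain ⟨l, hl⟩ := Cfsg.Agent.Suzuki.transitive D b
      have : l * k⁻¹ ∈ MulAction.stabilizer (Cfsg.Sz F m) a := by
        rw [show MulAction.stabilizer (Cfsg.Sz F m) a = ⊤ from htop']; exact Subgroup.mem_top _
      rw [MulAction.mem_stabilizer_iff, ← hk', mul_smul, inv_smul_smul, hl, hk'] at this
      exact hb this
    · obtain ⟨g', hg', h1', -⟩ := Cfsg.Agent.Suzuki.ne_bot D hF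
      exact U.2.fpf D hF (show g' ∈ U.1 from (show U.1 = ⊤ from htop') ▸ Subgroup.mem_top g') hg' _ h1'
  · obtain ⟨x, rfl⟩ := e.surjective y
    by_cases hx : ∃ a : Cfsg.suzukiOvoid F m, x • a = a
    · obtain ⟨a, ha⟩ := hx
      exact ⟨_, Finset.mem_image.2 ⟨.inl a, Finset.mem_univ _, rfl⟩, x, ha, rfl⟩
    · push_neg at hx
      by_cases hx1 : x = 1
      · exact absurd (by rw [hx1, one_smul]) (hx (Cfsg.Agent.Suzuki.oI D))
      · obtain ⟨U, hU, hxU⟩ := Cfsg.Agent.Suzuki.exists_torus_mem D hF hx1 hx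
        exact ⟨_, Finset.mem_image.2 ⟨.inr ⟨U, hU⟩, Finset.mem_univ _, rfl⟩, x, hxU, rfl⟩

end Cfsg.Agent.S3893
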