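import Cfsg.Statements.S3898
import Cfsg.Agent.Lib.Classes23.PiClasses

set_option autoImplicit false
open Cfsg

namespace Cfsg.Agent.S3898

open Subgroup Cfsg.Agent.Transfer Cfsg.Agent.Classes23
open scoped commutatorElement

universe u in
/-- Normal `p`-complements of a normal odd-order subgroup of index a power of two. -/
theorem local_complement {G : Type u} [Group G] [Finite G] {p : ℕ} [Fact p.Prime] (hp2 : p ≠ 2)
    (hk : ∀ P : Sylow p G, Nat.card (P : Subgroup G) < 2 * kP p G)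
    (N : Subgroup G) [N.Normal] (hodd : Odd (Nat.card N)) (hidx : ¬ p ∣ N.index) :
    ∃ (R : Sylow p N) (M : Subgroup N), M.Normal ∧ M.IsComplement' (R : Subgroup N) ∧
      ∀ x ∈ (R : Subgroup N), ∀ y ∈ (R : Subgroup N), Commute x y := by
  obtain ⟨R⟩ : Nonempty (Sylow p N) := inferInstance
  have hcardR : Nat.card ((R : Subgroup N).map N.subtype) = p ^ (Nat.card G).factorization p := by
    rw [Nat.card_congr (equivMapOfInjective (R : Subgroup N) _ N.subtype_injective).toEquiv.symm,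
      R.card_eq_multiplicity, ← card_mul_index N,
      Nat.factorization_mul Nat.card_pos.ne' index_ne_zero_of_finite, Finsupp.add_apply,
      Nat.factorization_eq_zero_of_not_dvd hidx, add_zero]
  let P : Sylow p G := Sylow.ofCard ((R : Subgroup N).map N.subtype) hcardR
  have hab : ∀ x ∈ (R : Subgroup N), ∀ y ∈ (R : Subgroup N), Commute x y := fun x hx y hy =>
    Subtype.ext (commute_of_half hp2 P (hk P) (x : G) ⟨x, hx, rfl⟩ (y : G) ⟨y, hy, rfl⟩).eq
  have hn : normalizer ((R : Subgroup N) : Set N) ≤ centralizer ((R : Subgroup N) : Set N) := by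
    intro g hg
    obtain ⟨u, v, huv, -, ⟨k, hk'⟩, hvd, hvp, hu, hv⟩ :=
      exists_pPart_split (p := p) (orderOf_pos g).ne'
    have hu' : u ∈ (R : Subgroup N) :=
      mem_sylow_of_mem_normalizer R (zpowers_le.mpr hg hu) ⟨k, hk'.dvd⟩
    have hvn : v ∈ normalizer ((R : Subgroup N) : Set N) := zpowers_le.mpr hg hv
    have hvodd : Odd (orderOf (v : G)) := by
      rw [orderOf_coe]
      exact hodd.of_dvd_nat (orderOf_dvd_natCard v)
    have hvc : (orderOf (v : G)).Coprime p := by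
      rw [orderOf_coe]
      exact ((Fact.out : p.Prime).coprime_iff_not_dvd.mpr hvp).symm
    have hvn' : (v : G) ∈ normalizer ((P : Subgroup G) : Set G) :=
      le_normalizer_map N.subtype ⟨v, hvn, rfl⟩
    have hvC := centralizes_of_half hp2 P (hk P) hvn' hvodd hvc
    intro x hx
    have h1 : x * u = u * x := hab x hx u hu'
    have h2 : x * v = v * x := Subtype.ext (hvC (x : G) ⟨x, hx, rfl⟩)
    rw [← huv, ← mul_assoc, h1, mul_assoc, h2, mul_assoc]
  obtain ⟨M, hM, hMc⟩ := (hasNormalPComplement_of_sylow R).mp (hasNormalPComplement_of_normalizer_le R hn)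
  exact ⟨R, M, hM, hMc, hab⟩

/-- Let π be a finite set of primes containing 2 and G a finite group. Write k_π(G) for the number of conjugacy classes of G consisting of π-elements (elements all of whose order's prime divisors lie in π) and |G|_π for the π-part of the order of G. If k_π(G) > |G|_π/2, then G has a normal π-complement (a normal subgroup of order prime to π whose index is a π-number) and an abelian Hall subgroup for the set of odd primes in π. -/
theorem result {G : Type*} [Group G] [Finite G] (π : Finset ℕ) (hπ : ∀ r ∈ π, r.Prime) (h2 : 2 ∈ π)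
    (hk : π.prod (fun r => r ^ (Nat.card G).factorization r) < 2 * Nat.card {c : ConjClasses G // ∀ x ∈ c.carrier, ∀ r : ℕ, r.Prime → r ∣ orderOf x → r ∈ π}) :
    (∃ N : Subgroup G, N.Normal ∧ (∀ r : ℕ, r.Prime → r ∣ Nat.card ↥N → r ∉ π) ∧ ∀ r : ℕ, r.Prime → r ∣ N.index → r ∈ π) ∧ ∃ H : Subgroup G, Cfsg.IsPiHall ((↑π : Set ℕ) \ {2}) H ∧ IsMulCommutative ↥H := by
  change π.prod (fun r => r ^ (Nat.card G).factorization r) < 2 * kPi π G at hk
  haveI : Fact (Nat.Prime 2) := ⟨Nat.prime_two⟩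
  obtain ⟨P⟩ : Nonempty (Sylow 2 G) := inferInstance
  obtain ⟨N, hNn, hNc⟩ := (hasNormalPComplement_of_sylow P).mp
    (hasNormalPComplement_two P (half_of_half hπ h2 hk P))
  haveI := hNn
  have hidx : N.index = Nat.card (P : Subgroup G) := hNc.symm.card_left ▸ rfl
  obtain ⟨e, he⟩ := IsPGroup.iff_card.mp P.2
  have hidx2 : ∀ r : ℕ, r.Prime → r ∣ N.index → r = 2 := fun r hr h => by
    rw [hidx, he] at h
    exact (Nat.prime_dvd_prime_iff_eq hr Nat.prime_two).mp (hr.dvd_of_dvd_pow h)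
  have hodd : Odd (Nat.card N) := by
    rw [Nat.odd_iff, ← Nat.two_dvd_ne_zero]
    intro h
    have h1 := P.not_dvd_index
    rw [hNc.index_eq_card] at h1
    exact h1 h
  have hloc : ∀ q ∈ π, q ≠ 2 → ∃ M : Subgroup N, M.Normal ∧
      (∀ x : N, x ∈ M ↔ ¬ q ∣ orderOf x) ∧ ¬ q ∣ Nat.card M ∧ ∀ x y : N, ⁅x, y⁆ ∈ M := by
    intro q hq hq2
    haveI : Fact q.Prime := ⟨hπ q hq⟩
    obtain ⟨R, M, hM, hMc, hab⟩ := local_complement hq2 (fun Q => half_of_half hπ hq hk Q) N hodd
      (fun h => hq2 (hidx2 q (hπ q hq) h))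
    haveI := hM
    have hnd : ¬ q ∣ Nat.card M := by
      have h1 := R.not_dvd_index
      rwa [hMc.index_eq_card] at h1
    refine ⟨M, hM, fun x => ⟨fun hx h => hnd (h.trans ?_), fun h => ?_⟩, hnd, fun x y => ?_⟩
    · exact Subgroup.orderOf_dvd_natCard M hx
    · rw [← QuotientGroup.eq_one_iff x]
      refine orderOf_eq_one_iff.mp ?_
      have h1 : orderOf (QuotientGroup.mk x : N ⧸ M) ∣ Nat.card (R : Subgroup N) := by
        rw [← hMc.symm.index_eq_card]
        exact orderOf_dvd_natCard _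
      obtain ⟨i, hi⟩ := IsPGroup.iff_card.mp R.2
      rw [hi] at h1
      exact Nat.eq_one_of_dvd_coprimes (Nat.Coprime.pow_right i
        (((hπ q hq).coprime_iff_not_dvd).mpr h).symm) (orderOf_map_dvd (QuotientGroup.mk' M) x) h1
    · have hs : ∀ z : N, ∃ r ∈ (R : Subgroup N),
          QuotientGroup.mk' M z = QuotientGroup.mk' M r := by
        intro z
        obtain ⟨m, hm, r, hr, rfl⟩ := (mem_sup_of_normal_left (s := M)
          (t := (R : Subgroup N))).mp (hMc.sup_eq_top ▸ mem_top z)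
        exact ⟨r, hr, by rw [map_mul, (QuotientGroup.eq_one_iff m).mpr hm |> fun e => (e :
          QuotientGroup.mk' M m = 1), one_mul]⟩
      obtain ⟨a, ha, hxa⟩ := hs x
      obtain ⟨b, hb, hyb⟩ := hs y
      rw [← QuotientGroup.eq_one_iff, ← QuotientGroup.mk'_apply, map_commutatorElement, hxa, hyb,
        commutatorElement_eq_one_iff_commute]
      exact (hab a ha b hb).map _
  choose M hMn hMmem hMcard hMcomm using hloc
  -- the π-complement
  let K₁ : Subgroup N := ⨅ q ∈ π, if h : q ∈ π ∧ q ≠ 2 then M q h.1 h.2 else ⊤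
  have hK₁ : ∀ x : N, x ∈ K₁ ↔ ∀ q ∈ π, q ≠ 2 → ¬ q ∣ orderOf x := by
    intro x
    simp only [K₁, mem_iInf]
    constructor
    · intro h q hq hq2
      have := h q hq
      rw [dif_pos ⟨hq, hq2⟩] at this
      exact (hMmem q hq hq2 x).mp this
    · intro h q hq
      split
      · next h' => exact (hMmem q h'.1 h'.2 x).mpr (h q h'.1 h'.2)
      · trivial
  set K := K₁.map N.subtype with hK
  have hKmem : ∀ x : G, x ∈ K ↔ x ∈ N ∧ ∀ q ∈ π, q ≠ 2 → ¬ q ∣ orderOf x := by
    intro x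
    constructor
    · rintro ⟨y, hy, rfl⟩
      exact ⟨y.2, fun q hq hq2 => by
        rw [Subgroup.coe_subtype, orderOf_coe]; exact (hK₁ y).mp hy q hq hq2⟩
    · rintro ⟨hx, h⟩
      exact ⟨⟨x, hx⟩, (hK₁ _).mpr (fun q hq hq2 => by rw [orderOf_mk]; exact h q hq hq2), rfl⟩
  haveI hKn : K.Normal := ⟨fun x hx g => by
    rw [hKmem] at hx ⊢
    refine ⟨hNn.conj_mem x hx.1 g, ?_⟩
    rw [← MulAut.conj_apply, MulEquiv.orderOf_eq]
    exact hx.2⟩
  have hKfree : ∀ r : ℕ, r.Prime → r ∣ Nat.card K → r ∉ π := by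
    intro r hr hrd hrπ
    haveI : Fact r.Prime := ⟨hr⟩
    obtain ⟨x, hx⟩ := exists_prime_orderOf_dvd_card' r hrd
    have hxm := (hKmem x).mp x.2
    rw [← orderOf_coe] at hx
    by_cases hr2 : r = 2
    · subst hr2
      have : 2 ∣ Nat.card N := by
        rw [← hx]; exact Subgroup.orderOf_dvd_natCard N hxm.1
      exact hodd.not_two_dvd_nat this
    · exact hxm.2 r hrπ hr2 (hx ▸ dvd_rfl)
  have hKidx : ∀ r : ℕ, r.Prime → r ∣ K.index → r ∈ π := by
    intro r hr hrd
    by_contra hrπ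
    haveI : Fact r.Prime := ⟨hr⟩
    have hr2 : r ≠ 2 := fun h => hrπ (h ▸ h2)
    obtain ⟨R⟩ : Nonempty (Sylow r G) := inferInstance
    have hRK : (R : Subgroup G) ≤ K := by
      intro x hx
      obtain ⟨k, hk'⟩ := IsPGroup.iff_orderOf.mp R.2 ⟨x, hx⟩
      rw [orderOf_mk] at hk'
      refine (hKmem x).mpr ⟨?_, fun q hq _ hd => ?_⟩
      · rw [← QuotientGroup.eq_one_iff]
        refine orderOf_eq_one_iff.mp (Nat.eq_one_of_dvd_coprimes
          (Nat.Coprime.pow k e ((Nat.coprime_primes hr Nat.prime_two).mpr hr2))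
          (hk' ▸ orderOf_map_dvd (QuotientGroup.mk' N) x) ?_)
        rw [← he, ← hidx]
        exact orderOf_dvd_natCard _
      · rw [hk'] at hd
        exact hrπ ((Nat.prime_dvd_prime_iff_eq (hπ q hq) hr).mp ((hπ q hq).dvd_of_dvd_pow hd) ▸ hq)
    exact R.not_dvd_index (hrd.trans (index_dvd_of_le hRK))
  refine ⟨⟨K, hKn, hKfree, hKidx⟩, ?_⟩
  obtain ⟨W, hW⟩ := exists_right_complement'_of_coprime (N := K)
    (Nat.coprime_of_dvd fun r hr h1 h3 => hKfree r hr h1 (hKidx r hr h3))
  refine ⟨W ⊓ N, ⟨fun r hr hrd => ?_, fun r hr hrm hrd => ?_⟩, ?_⟩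
  · refine ⟨hKidx r hr ?_, fun hr2 => ?_⟩
    · rw [hW.symm.index_eq_card]
      exact hrd.trans (card_dvd_of_le inf_le_left)
    · rw [Set.mem_singleton_iff] at hr2
      subst hr2
      exact hodd.not_two_dvd_nat (hrd.trans (card_dvd_of_le inf_le_right))
  · rw [← relIndex_mul_index (inf_le_left : W ⊓ N ≤ W), inf_relIndex_left] at hrd
    rcases hr.dvd_mul.mp hrd with h | h
    · exact hrm.2 (hidx2 r hr (h.trans (relIndex_dvd_index_of_normal N W)))
    · rw [hW.index_eq_card] at h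
      exact hKfree r hr h hrm.1
  · refine ⟨⟨fun a b => Subtype.ext ?_⟩⟩
    have h1 : ⁅(a : G), (b : G)⁆ ∈ K ⊓ W := by
      refine ⟨?_, ?_⟩
      · refine ⟨⁅(⟨a, a.2.2⟩ : N), ⟨b, b.2.2⟩⁆, ?_, rfl⟩
        show _ ∈ K₁
        simp only [K₁, mem_iInf]
        intro q hq
        split
        · next h' => exact hMcomm q h'.1 h'.2 _ _
        · trivial
      · rw [commutatorElement_def]
        exact W.mul_mem (W.mul_mem (W.mul_mem a.2.1 b.2.1) (W.inv_mem a.2.1)) (W.inv_mem b.2.1)
    rw [hW.disjoint.eq_bot, mem_bot] at h1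
    exact (commutatorElement_eq_one_iff_mul_comm.mp h1)

end Cfsg.Agent.S3898
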