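import Cfsg.Statements.S3899
import Cfsg.Agent.Lib.PiClasses.PiBound

set_option autoImplicit false
open Cfsg
open scoped commutatorElement

namespace Cfsg.Agent.S3899

/-- Let π be a finite non-empty set of odd primes with smallest member p and G a finite group. Write k_π(G) for the number of conjugacy classes of G consisting of π-elements (elements all of whose order's prime divisors lie in π) and |G|_π for the π-part of the order of G. If k_π(G) > (p + 1)|G|_π/(2p), then G has a normal π-complement (a normal subgroup of order prime to π whose index is a π-number) and an abelian Hall π-subgroup. -/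
theorem result {G : Type*} [Group G] [Finite G] (π : Finset ℕ) (hπ : ∀ r ∈ π, r.Prime) (h2 : 2 ∉ π) (p : ℕ) (hp : p ∈ π)
    (hmin : ∀ r ∈ π, p ≤ r) (hk : (p + 1) * π.prod (fun r => r ^ (Nat.card G).factorization r) < 2 * p * Nat.card {c : ConjClasses G // ∀ x ∈ c.carrier, ∀ r : ℕ, r.Prime → r ∣ orderOf x → r ∈ π}) :
    (∃ N : Subgroup G, N.Normal ∧ (∀ r : ℕ, r.Prime → r ∣ Nat.card ↥N → r ∉ π) ∧ ∀ r : ℕ, r.Prime → r ∣ N.index → r ∈ π) ∧ ∃ H : Subgroup G, Cfsg.IsPiHall (↑π : Set ℕ) H ∧ IsMulCommutative ↥H := by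
  classical
  have hP : ∀ (q : ℕ) (hq : q ∈ π), ∃ N : Subgroup G, N.Normal ∧ ¬ q ∣ Nat.card N ∧
      (∃ k, N.index = q ^ k) ∧ commutator G ≤ N := by
    intro q hq
    haveI : Fact q.Prime := ⟨hπ q hq⟩
    obtain ⟨P⟩ : Nonempty (Sylow q G) := Sylow.nonempty
    have hlt : (q + 1) * Nat.card (P : Subgroup G) < 2 * q * Nat.card (PiClasses.pClasses q G) := by
      by_contra hcon
      rw [not_lt] at hcon
      set R := PiClasses.part (π.erase q) (Nat.card G)
      have hb := PiClasses.card_piClasses_insert_le (q := q) (π.erase q)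
        (fun r hr => hπ r (Finset.mem_of_mem_erase hr))
        (fun (H : Subgroup G) => PiClasses.card_piClasses_le_part (π.erase q)
          (fun r hr => hπ r (Finset.mem_of_mem_erase hr)) H)
      rw [Finset.insert_erase hq] at hb
      have hprod : π.prod (fun r => r ^ (Nat.card G).factorization r) =
          Nat.card (P : Subgroup G) * R := by
        rw [P.card_eq_multiplicity]
        exact (Finset.mul_prod_erase π _ hq).symm
      rw [hprod] at hk
      set K := Nat.card {c : ConjClasses G //
        ∀ x ∈ c.carrier, ∀ r : ℕ, r.Prime → r ∣ orderOf x → r ∈ π}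
      set k := Nat.card (PiClasses.pClasses q G)
      set A := Nat.card (P : Subgroup G)
      have hb' : K ≤ k * R := hb
      have hpq : p ≤ q := hmin q hq
      have hq0 : 0 < q := (hπ q hq).pos
      have e1 : 2 * q * K ≤ (q + 1) * (A * R) := by
        calc 2 * q * K ≤ 2 * q * (k * R) := Nat.mul_le_mul_left _ hb'
          _ = 2 * q * k * R := by ring
          _ ≤ (q + 1) * A * R := Nat.mul_le_mul_right _ hcon
          _ = _ := by ring
      have e2 : q * ((p + 1) * (A * R)) < q * (2 * p * K) := Nat.mul_lt_mul_of_pos_left hk hq0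
      have e3 : p * (2 * q * K) ≤ p * ((q + 1) * (A * R)) := Nat.mul_le_mul_left _ e1
      have e4 : p * ((q + 1) * (A * R)) ≤ q * ((p + 1) * (A * R)) := by
        rw [← mul_assoc, ← mul_assoc q]
        exact Nat.mul_le_mul_right _ (by nlinarith)
      have e5 : q * (2 * p * K) = p * (2 * q * K) := by ring
      omega
    have hN := PiClasses.normalizer_le_centralizer_of_lt P hlt
    have hc := MonoidHom.ker_transferSylow_isComplement' P hN
    refine ⟨_, MonoidHom.normal_ker _, MonoidHom.not_dvd_card_ker_transferSylow P hN, ?_, ?_⟩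
    · obtain ⟨k, hk'⟩ := IsPGroup.iff_card.mp P.isPGroup'
      exact ⟨k, (hc.symm.index_eq_card).trans hk'⟩
    · haveI := PiClasses.isMulCommutative_of_normalizer_le_centralizer _ hN
      rw [commutator_def, Subgroup.commutator_le]
      intro a _ b _
      rw [MonoidHom.mem_ker, map_commutatorElement, commutatorElement_eq_one_iff_mul_comm]
      exact mul_comm' _ _
  choose N hNn hNq hNi hNc using hP
  have key : ∀ S : Finset ℕ, S ⊆ π → ∃ M : Subgroup G, M.Normal ∧ commutator G ≤ M ∧
      (∀ r ∈ S, ¬ r ∣ Nat.card M) ∧ ∀ r : ℕ, r.Prime → r ∣ M.index → r ∈ π := by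
    intro S
    induction S using Finset.induction with
    | empty =>
      intro _
      exact ⟨⊤, inferInstance, le_top, by simp, fun r hr h => absurd
        (Nat.dvd_one.mp (by simpa using h)) hr.ne_one⟩
    | @insert q S hqS ih =>
      intro hsub
      have hq : q ∈ π := hsub (Finset.mem_insert_self q S)
      obtain ⟨M, hMn, hMc, hMS, hMi⟩ := ih ((Finset.subset_insert q S).trans hsub)
      haveI := hNn q hq
      refine ⟨N q hq ⊓ M, inferInstance, le_inf (hNc q hq) hMc, ?_, ?_⟩
      · intro r hr hd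
        rcases Finset.mem_insert.mp hr with rfl | hr
        · exact hNq r hq (hd.trans (Subgroup.card_dvd_of_le inf_le_left))
        · exact hMS r hr (hd.trans (Subgroup.card_dvd_of_le inf_le_right))
      · intro r hr hd
        rw [← Subgroup.relIndex_mul_index (inf_le_right : N q hq ⊓ M ≤ M),
          Subgroup.inf_relIndex_right] at hd
        rcases (hr.dvd_mul).mp hd with h | h
        · obtain ⟨k, hk'⟩ := hNi q hq
          have h' := h.trans (Subgroup.relIndex_dvd_index_of_normal _ _)
          rw [hk'] at h'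
          exact ((Nat.prime_dvd_prime_iff_eq hr (hπ q hq)).mp (hr.dvd_of_dvd_pow h')) ▸ hq
        · exact hMi r hr h
  obtain ⟨M, hMn, hMc, hMS, hMi⟩ := key π (Finset.Subset.refl _)
  refine ⟨⟨M, hMn, fun r _ hd hrπ => hMS r hrπ hd, hMi⟩, ?_⟩
  have hcop : (Nat.card M).Coprime M.index :=
    Nat.coprime_of_dvd fun r hr h1 h2 => hMS r (hMi r hr h2) h1
  obtain ⟨H, hH⟩ := Subgroup.exists_right_complement'_of_coprime hcop
  refine ⟨H, ⟨fun r hr hd => ?_, fun r hr hrπ hd => ?_⟩, ⟨⟨fun a b => ?_⟩⟩⟩
  · exact Finset.mem_coe.mpr (hMi r hr (hd.trans (hH.symm.index_eq_card ▸ dvd_rfl)))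
  · exact hMS r (Finset.mem_coe.mp hrπ) (hH.index_eq_card ▸ hd)
  · have h1 : ⁅(a : G), (b : G)⁆ ∈ M :=
      hMc (Subgroup.commutator_mem_commutator (Subgroup.mem_top _) (Subgroup.mem_top _))
    have h2 : ⁅(a : G), (b : G)⁆ ∈ H := (⁅a, b⁆ : ↥H).2
    have h3 : ⁅(a : G), (b : G)⁆ = 1 := Subgroup.mem_bot.mp (hH.disjoint.le_bot ⟨h1, h2⟩)
    exact Subtype.ext (commutatorElement_eq_one_iff_mul_comm.mp h3)

end Cfsg.Agent.S3899
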