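import Cfsg.Statements.S3900
import Cfsg.Agent.Lib.ValueSimple23.Simple
-- import your own Cfsg.Agent.* helpers here

set_option autoImplicit false
open Cfsg

namespace Cfsg.Agent.S3900


open Subgroup Cfsg.Agent.ValueSimple
open scoped commutatorElement Pointwise

universe u

set_option maxHeartbeats 1000000

/-- The commutator word of the statement. -/
def word {G : Type*} [Group G] (a : G) (l : List G) : G :=
  l.foldl (fun a b => a * b * a⁻¹ * b⁻¹) a

theorem val_word {G : Type*} [Group G] (a : G) (l : List G) : Val l.length (word a l) := by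
  induction l using List.reverseRecOn with
  | nil => trivial
  | append_singleton l b ih =>
    rw [List.length_append, List.length_singleton, word, List.foldl_append]
    exact ⟨_, b, ih, rfl⟩

theorem exists_word {G : Type*} [Group G] : ∀ (k : ℕ) (x : G), Val k x →
    ∃ (a : G) (l : List G), l.length = k ∧ word a l = x
  | 0, x, _ => ⟨x, [], rfl, rfl⟩
  | k + 1, x, ⟨a, b, ha, hab⟩ => by
    obtain ⟨a₀, l, hl, rfl⟩ := exists_word k a ha
    refine ⟨a₀, l ++ [b], by simp [hl], ?_⟩
    rw [word, List.foldl_append]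
    exact hab

theorem val_iff {G : Type*} [Group G] (k : ℕ) (x : G) :
    Val k x ↔ ∃ f : Fin (k + 1) → G, x = ((List.ofFn f).tail).foldl (fun a b => a * b * a⁻¹ * b⁻¹) (f 0) := by
  constructor
  · intro hx
    obtain ⟨a, l, rfl, hw⟩ := exists_word k x hx
    refine ⟨(a :: l).get, ?_⟩
    rw [List.ofFn_get]
    exact hw.symm
  · rintro ⟨f, rfl⟩
    have h := val_word (f 0) (List.ofFn f).tail
    rwa [List.length_tail, List.length_ofFn, Nat.add_sub_cancel] at h

/-- The condition of the statement. -/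
def Hyp (G : Type*) [Group G] (k : ℕ) : Prop :=
  ∀ x y : G, Val k x → Val k y → (orderOf x).Coprime (orderOf y) →
    (∀ r : ℕ, r.Prime → r ∣ orderOf x * orderOf y → r ∣ orderOf (x * y)) ∨
      orderOf x * orderOf y ≤ orderOf (x * y)

theorem hyp_sub {G : Type*} [Group G] {k : ℕ} (h : Hyp G k) (H : Subgroup G) : Hyp H k := by
  intro x y hx hy hxy
  simpa [← Subgroup.orderOf_coe] using
    h x y (val_map H.subtype k x hx) (val_map H.subtype k y hy) (by simpa [← Subgroup.orderOf_coe] using hxy)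

/-- A value of prime power order centralises every subgroup of coprime order it normalises. -/
theorem star {G : Type*} [Group G] [Finite G] {k : ℕ} (h : Hyp G k) {p : ℕ} (hp : p.Prime) {x : G}
    (hx : Val k x) {j : ℕ} (hxo : orderOf x = p ^ j) (E : Subgroup G) (hE : (Nat.card E).Coprime p)
    (hxE : x ∈ normalizer (E : Set G)) : ∀ v ∈ E, Commute v x := by
  by_contra hne
  obtain ⟨w, hw, hy1⟩ := exists_it_ne_one hxE (hxo ▸ (hE.symm.pow_left j)) hne (k + 1)
  set a := it x k w with hadef
  have hy : it x (k + 1) w = ⁅a, x⁆ := rfl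
  rw [hy] at hy1
  have hco : (orderOf ⁅a, x⁆).Coprime (orderOf x) :=
    coprime_orderOf_of_mem (hxo ▸ (hE.symm.pow_left j)) (it_mem hxE hw (k + 1))
  have hval : Val k ⁅a, x⁆ := val_antitone k _ (val_it x (k + 1) w)
  have hprod : orderOf (⁅a, x⁆ * x) = orderOf x := by
    rw [show ⁅a, x⁆ * x = MulAut.conj a x by simp [commutatorElement_def], MulEquiv.orderOf_eq]
  rcases h _ _ hval hx hco with h1 | h1
  · obtain ⟨r, hr, hrd⟩ := Nat.exists_prime_and_dvd (mt orderOf_eq_one_iff.mp hy1)
    have h2 := h1 r hr (hrd.mul_right _)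
    rw [hprod] at h2
    exact hr.ne_one (Nat.eq_one_of_dvd_coprimes hco hrd h2)
  · rw [hprod] at h1
    have h2 : orderOf ⁅a, x⁆ * orderOf x ≤ 1 * orderOf x := by rwa [one_mul]
    have h3 := Nat.le_of_mul_le_mul_right h2 (orderOf_pos x)
    exact hy1 (orderOf_eq_one_iff.mp (le_antisymm h3 (orderOf_pos _)))

/-- A `p`-element centralising all normal `p'`-subgroups lies in the `p`-core. -/
theorem mem_pCore_of {G : Type u} [Group G] [Finite G] {k : ℕ}
    (hk : Group.IsNilpotent ↥((⊤ : Subgroup G).lowerCentralSeries k)) {p : ℕ} (hp : p.Prime) {v : G}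
    {j : ℕ} (hv : orderOf v = p ^ j)
    (hc : ∀ E : Subgroup G, E.Normal → (Nat.card E).Coprime p → ∀ e ∈ E, Commute e v) :
    v ∈ pCore p G := by
  haveI := Fact.mk hp
  set F := fittingSubgroup G with hFdef
  set W := pPrimeCore p G with hWdef
  have hγF : (⊤ : Subgroup G).lowerCentralSeries k ≤ F := Basics.le_fittingSubgroup hk
  haveI : Group.IsNilpotent (G ⧸ F) := by
    rw [Subgroup.nilpotent_iff_lowerCentralSeries]
    refine ⟨k, ?_⟩
    rw [← map_top_of_surjective (QuotientGroup.mk' F) (QuotientGroup.mk'_surjective F),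
      ← Subgroup.map_lowerCentralSeries, Subgroup.map_eq_bot_iff, QuotientGroup.ker_mk']
    exact hγF
  obtain ⟨P, hP⟩ := (IsPGroup.of_card (n := j) (by rw [Nat.card_zpowers, hv]) :
    IsPGroup p (zpowers v)).exists_le_sylow
  set Pb := P.mapSurjective (QuotientGroup.mk'_surjective F)
  haveI : (Pb : Subgroup (G ⧸ F)).Normal := inferInstance
  set X := (Pb : Subgroup (G ⧸ F)).comap (QuotientGroup.mk' F)
  have hXeq : X = (P : Subgroup G) ⊔ F := by
    show ((P : Subgroup G).map (QuotientGroup.mk' F)).comap (QuotientGroup.mk' F) = _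
    rw [comap_map_eq, QuotientGroup.ker_mk']
  set C := centralizer (W : Set G)
  haveI : C.Normal := normal_centralizer
  have hFle2 : F ≤ pCore p G ⊔ W := by
    rw [hFdef, Basics.fittingSubgroup_eq_iSup_pCore]
    refine iSup_le fun q => ?_
    haveI := Fact.mk q.2
    by_cases hqp : (q : ℕ) = p
    · rw [hqp]; exact le_sup_left
    · refine le_trans (Basics.le_pPrimeCore ?_) le_sup_right
      obtain ⟨i, hi⟩ := (Basics.pCore_isPGroup (G := G) (q : ℕ)).exists_card_eq
      rw [hi]
      exact ((Nat.coprime_primes q.2 hp).mpr hqp).pow_left i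
  have hFle : F ≤ (P : Subgroup G) ⊔ W :=
    hFle2.trans (sup_le_sup_right (Basics.pCore_le_sylow p P) W)
  set Y := C ⊓ X
  have hYle : Y ≤ (P : Subgroup G) ⊔ W :=
    inf_le_right.trans (hXeq ▸ sup_le le_sup_left hFle)
  have hvY : v ∈ Y := by
    refine ⟨mem_centralizer_iff.mpr fun e he => ?_, hXeq ▸ mem_sup_left (hP (mem_zpowers v))⟩
    exact (hc W inferInstance (Basics.pPrimeCore_coprime p) e he).eq
  let f := (QuotientGroup.mk' W).comp Y.subtype
  have hf : f.ker ≤ center Y := by
    intro y hy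
    have hyW : (y : G) ∈ W := (QuotientGroup.eq_one_iff _).mp hy
    exact mem_center_iff.mpr fun z => Subtype.ext ((mem_centralizer_iff.mp z.2.1 y hyW).symm)
  have hrange : IsPGroup p f.range := by
    refine (P.2.map (QuotientGroup.mk' W)).to_le ?_
    rintro _ ⟨y, rfl⟩
    obtain ⟨a, ha, b, hb, hab⟩ := mem_sup_of_normal_right.mp (hYle y.2)
    refine ⟨a, ha, ?_⟩
    show QuotientGroup.mk' W a = QuotientGroup.mk' W y
    rw [← hab, map_mul, show QuotientGroup.mk' W b = 1 from (QuotientGroup.eq_one_iff b).mpr hb, mul_one]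
  haveI : Group.IsNilpotent f.range := hrange.isNilpotent
  haveI : Group.IsNilpotent Y := Subgroup.isNilpotent_of_ker_le_center f.rangeRestrict
    (by rw [MonoidHom.ker_rangeRestrict]; exact hf)
  haveI : Y.Normal := inferInstance
  have hvF : v ∈ F := Basics.le_fittingSubgroup ‹_› hvY
  obtain ⟨a, ha, b, hb, hab⟩ := mem_sup_of_normal_right.mp (hFle2 hvF)
  have hba : Commute b v := hc W inferInstance (Basics.pPrimeCore_coprime p) b hb
  have hac : Commute a b := by
    have : a = v * b⁻¹ := by rw [← hab, mul_inv_cancel_right]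
    rw [this]
    exact (hba.symm.mul_left (Commute.refl b).inv_left)
  obtain ⟨i, hi⟩ := (IsPGroup.iff_orderOf.mp (Basics.pCore_isPGroup (G := G) p)) ⟨a, ha⟩
  rw [← Subgroup.orderOf_coe] at hi
  have hb1 : b = 1 := by
    have h1 : b = a⁻¹ * v := by rw [← hab, inv_mul_cancel_left]
    have h2 : orderOf b ∣ p ^ (i + j) := by
      refine orderOf_dvd_of_pow_eq_one ?_
      have hav : Commute a v := by rw [← hab]; exact (Commute.refl a).mul_right hac
      have ha0 : a ^ p ^ (i + j) = 1 := by
        rw [pow_add, pow_mul, ← hi, pow_orderOf_eq_one, one_pow]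
      have hv0 : v ^ p ^ (i + j) = 1 := by
        rw [pow_add, mul_comm, pow_mul, ← hv, pow_orderOf_eq_one, one_pow]
      rw [h1, hav.inv_left.mul_pow, inv_pow, ha0, hv0, inv_one, one_mul]
    exact orderOf_eq_one_iff.mp (Nat.eq_one_of_dvd_coprimes
      ((Basics.pPrimeCore_coprime (G := G) p).symm.pow_left (i + j)) h2 (orderOf_dvd_natCard W hb))
  rw [hb1, mul_one] at hab
  exact hab ▸ ha

/-- A value of `p`-power order lies in the `p`-core of every overgroup with nilpotent `γ`. -/
theorem val_mem_pCore {G : Type u} [Group G] [Finite G] {k : ℕ} (h : Hyp G k) (H : Subgroup G)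
    (hH : Group.IsNilpotent ↥((⊤ : Subgroup H).lowerCentralSeries k)) {p : ℕ} (hp : p.Prime) {v : G}
    (hval : Val k v) {j : ℕ} (hv : orderOf v = p ^ j) (hvH : v ∈ H) :
    (⟨v, hvH⟩ : H) ∈ pCore p H := by
  refine mem_pCore_of hH hp (j := j) (by rw [Subgroup.orderOf_mk, hv]) fun E hE hEc e he => ?_
  refine Subtype.ext (star h hp hval hv (E.map H.subtype)
    (by rwa [card_map_of_injective H.subtype_injective]) ?_ (e : G) ⟨e, he, rfl⟩).eq
  exact le_normalizer_map H.subtype ⟨⟨v, hvH⟩, by rw [normalizer_eq_top_iff.mpr hE]; exact mem_top _, rfl⟩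

/-- Lifting a `p`-subgroup of a quotient together with its normaliser. -/
theorem exists_lift {G Q : Type*} [Group G] [Group Q] [Finite G] (f : G →* Q)
    (hf : Function.Surjective f) {p : ℕ} [Fact p.Prime] {D : Subgroup Q} (hD : IsPGroup p D)
    {Q₀ : Subgroup G} (hQ₀ : IsPGroup p Q₀) (hQD : Q₀.map f ≤ D) :
    ∃ P₀ : Subgroup G, Q₀ ≤ P₀ ∧ IsPGroup p P₀ ∧ P₀.map f = D ∧
      ∀ q ∈ normalizer (D : Set Q), ∃ g ∈ normalizer (P₀ : Set G), f g = q := by
  set X := D.comap f with hX
  have hQX : Q₀ ≤ X := map_le_iff_le_comap.mp hQD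
  obtain ⟨P, hP⟩ := (hQ₀.comap_subtype (K := X)).exists_le_sylow
  set fX : X →* D := (f.comp X.subtype).codRestrict D fun x => x.2
  have hfX : Function.Surjective fX := fun d => by
    obtain ⟨g, hg⟩ := hf d
    exact ⟨⟨g, show f g ∈ D from hg ▸ d.2⟩, Subtype.ext hg⟩
  have hPtop : (P : Subgroup X).map fX = ⊤ := by
    have h1 := (P.mapSurjective hfX).3 (Q := ⊤) (hD.of_equiv topEquiv.symm) le_top
    exact h1.symm
  have hmap : ((P : Subgroup X).map X.subtype).map f = D := by
    rw [map_map]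
    have h2 : f.comp X.subtype = D.subtype.comp fX := rfl
    rw [h2, ← map_map, hPtop, ← MonoidHom.range_eq_map, range_subtype]
  refine ⟨(P : Subgroup X).map X.subtype, fun x hx => ⟨⟨x, hQX hx⟩, hP hx, rfl⟩, P.2.map _, hmap,
    fun q hq => ?_⟩
  obtain ⟨g₀, rfl⟩ := hf q
  have hinv : ∀ x : G, x ∈ X ↔ g₀ * x * g₀⁻¹ ∈ X := fun x => by
    simp only [hX, mem_comap, map_mul, map_inv]
    exact mem_normalizer_iff.mp hq (f x)
  let σ : X ≃* X :=
    { toFun := fun x => ⟨g₀ * x * g₀⁻¹, (hinv x).mp x.2⟩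
      invFun := fun x => ⟨g₀⁻¹ * x * g₀, (hinv _).mpr (by simp [mul_assoc])⟩
      left_inv := fun x => Subtype.ext (by simp [mul_assoc])
      right_inv := fun x => Subtype.ext (by simp [mul_assoc])
      map_mul' := fun x y => Subtype.ext (by simp [mul_assoc]) }
  obtain ⟨x, hx⟩ := MulAction.exists_smul_eq X (P.mapSurjective (f := σ.toMonoidHom) σ.surjective) P
  have hn : (x : G) * g₀ ∈ normalizer (((P : Subgroup X).map X.subtype : Subgroup G) : Set G) := by
    refine FGS.Subn.mem_normalizer_of_smul_le ?_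
    rintro _ ⟨_, ⟨y, hy, rfl⟩, rfl⟩
    refine ⟨x * σ y * x⁻¹, ?_, ?_⟩
    · have h3 : x * σ y * x⁻¹ ∈ (x • P.mapSurjective (f := σ.toMonoidHom) σ.surjective : Sylow p X) := by
        show x * σ y * x⁻¹ ∈ ((x • P.mapSurjective (f := σ.toMonoidHom) σ.surjective : Sylow p X) : Subgroup X)
        rw [Sylow.coe_subgroup_smul]
        exact Basics.conj_mem_conj_smul (show σ y ∈ (P : Subgroup X).map σ.toMonoidHom from ⟨y, hy, rfl⟩)
      rw [hx] at h3
      exact h3
    · show (x : G) * (g₀ * y * g₀⁻¹) * (x : G)⁻¹ = (x : G) * g₀ * y * ((x : G) * g₀)⁻¹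
      simp [mul_assoc]
  obtain ⟨u, hu, hue⟩ := hmap.ge x.2
  refine ⟨u⁻¹ * ((x : G) * g₀), mul_mem (inv_mem (le_normalizer hu)) hn, ?_⟩
  rw [map_mul, map_mul, map_inv, hue, inv_mul_cancel_left]

theorem it_map {G Q : Type*} [Group G] [Group Q] (f : G →* Q) (g v : G) :
    ∀ k, f (it g k v) = it (f g) k (f v)
  | 0 => rfl
  | k + 1 => by rw [it, it, map_commutatorElement, it_map f g v k]

theorem nilpotent_of_hyp_zero {G : Type u} [Group G] [Finite G] (h : Hyp G 0) :
    Group.IsNilpotent ↥((⊤ : Subgroup G).lowerCentralSeries 0) := by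
  have hF : Frob G := by
    intro p hp D hD g hg hgp v hv
    haveI := Fact.mk hp
    have hle : zpowers g ≤ centralizer (D : Set G) := by
      rw [← subgroupOf_eq_top]
      refine Basics.eq_top_of_sylow_le _ fun q hq hd => ⟨default, fun a ha => ?_⟩
      obtain ⟨i, hi⟩ := (IsPGroup.iff_orderOf.mp (default : Sylow q (zpowers g)).2) ⟨a, ha⟩
      rw [← Subgroup.orderOf_coe, ← Subgroup.orderOf_coe] at hi
      rw [Nat.card_zpowers] at hd
      have hqp : p ≠ q := fun he => hq.out.ne_one (Nat.eq_one_of_dvd_coprimes hgp hd (he ▸ dvd_rfl))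
      obtain ⟨m, hm⟩ := hD.exists_card_eq
      refine mem_centralizer_iff.mpr fun e he => ?_
      exact (star h hq.out (x := (a : G)) trivial hi D
        (hm ▸ ((Nat.coprime_primes hp hq.out).mpr hqp).pow_left m)
        (zpowers_le.mpr hg a.2) e he).eq
    exact (mem_centralizer_iff.mp (hle (mem_zpowers g)) v hv)
  haveI := hF.isNilpotent
  infer_instance

theorem nilpotent_of_hyp : ∀ (n : ℕ) (G : Type u) [Group G] [Finite G] (k : ℕ), Nat.card G = n →
    Hyp G k → Group.IsNilpotent ↥((⊤ : Subgroup G).lowerCentralSeries k) := by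
  intro n
  induction n using Nat.strong_induction_on with
  | _ n IH =>
  intro G _ _ k hn h
  rcases k with _ | k
  · exact nilpotent_of_hyp_zero h
  have hsub : ∀ H : Subgroup G, H ≠ ⊤ →
      Group.IsNilpotent ↥((⊤ : Subgroup H).lowerCentralSeries (k + 1)) := fun H hH =>
    IH _ (hn ▸ Basics.card_lt_card_of_ne_top hH) H (k + 1) rfl (hyp_sub h H)
  by_cases hperf : _root_.commutator G = ⊤
  · -- perfect groups: pass to a simple quotient
    rcases subsingleton_or_nontrivial G with hs | hnt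
    · haveI := hs
      infer_instance
    exfalso
    obtain ⟨R, -, ⟨hRn, hRt⟩, hmax⟩ := Finite.exists_le_maximal
      (p := fun N : Subgroup G => N.Normal ∧ N ≠ ⊤) (a := ⊥) ⟨inferInstance, bot_ne_top⟩
    haveI := hRn
    set π := QuotientGroup.mk' R
    have hπ : Function.Surjective π := QuotientGroup.mk'_surjective R
    haveI : Nontrivial (G ⧸ R) := QuotientGroup.nontrivial_iff.mpr hRt
    have hsimple : IsSimpleGroup (G ⧸ R) := ⟨fun H hH => by
      by_cases hHt : H.comap π = ⊤
      · exact Or.inr (comap_injective hπ (hHt.trans (comap_top π).symm))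
      · left
        refine (eq_bot_iff_forall _).mpr fun q hq => ?_
        obtain ⟨g, rfl⟩ := hπ q
        refine (QuotientGroup.eq_one_iff g).mpr (hmax (y := H.comap π) ⟨inferInstance, hHt⟩ ?_ hq)
        intro r hr
        show π r ∈ H
        rw [show π r = 1 from (QuotientGroup.eq_one_iff r).mpr hr]
        exact H.one_mem⟩
    let Good : ℕ → G ⧸ R → Prop := fun p x =>
      x ≠ 1 ∧ ∃ v, Val (k + 1) v ∧ (∃ j, orderOf v = p ^ j) ∧ π v = x
    have hval_of : ∀ {p : ℕ}, p.Prime → ∀ {P₀ : Subgroup G}, IsPGroup p P₀ → ∀ {v}, v ∈ P₀ →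
        ∃ j, orderOf v = p ^ j := fun {p} hp {P₀} hP₀ {v} hv => by
      haveI := Fact.mk hp
      obtain ⟨i, hi⟩ := (IsPGroup.iff_orderOf.mp hP₀) ⟨v, hv⟩
      exact ⟨i, by rwa [← Subgroup.orderOf_coe] at hi⟩
    have hset : Setup (G ⧸ R) (k + 1) Good := by
      refine ⟨hsimple, ?_, fun hx => hx.1, ?_, ?_, ?_, ?_, ?_, ?_⟩
      · intro hc
        refine hRt (top_le_iff.mp (hperf ▸ ?_))
        rw [_root_.commutator_def]
        refine commutator_le.mpr fun a _ b _ => (QuotientGroup.eq_one_iff _).mp ?_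
        show π ⁅a, b⁆ = 1
        rw [map_commutatorElement]
        exact commutatorElement_eq_one_iff_mul_comm.mpr (hc _ _)
      · rintro p x ⟨-, v, -, ⟨j, hj⟩, rfl⟩ ⟨y, hy⟩
        obtain ⟨i, rfl⟩ := mem_zpowers_iff.mp hy
        refine ⟨j, Subtype.ext ?_⟩
        show (π v ^ i) ^ p ^ j = 1
        rw [← zpow_natCast, ← zpow_mul, mul_comm, zpow_mul, zpow_natCast, ← map_pow, ← hj,
          pow_orderOf_eq_one, map_one, one_zpow]
      · rintro p x ⟨hx1, v, hv, ⟨j, hj⟩, rfl⟩ q
        obtain ⟨g, rfl⟩ := hπ q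
        refine ⟨?_, g * v * g⁻¹, val_conj g hv, ⟨j, ?_⟩, by simp⟩
        · intro he
          refine hx1 ?_
          calc π v = (π g)⁻¹ * (π g * π v * (π g)⁻¹) * π g := by simp [mul_assoc]
            _ = 1 := by rw [he]; simp
        · rw [show g * v * g⁻¹ = MulAut.conj g v from rfl, MulEquiv.orderOf_eq, hj]
      · rintro p hp P hP x a ⟨-, v, hv, ⟨j, hj⟩, rfl⟩ hxP haP hne
        haveI := Fact.mk hp
        obtain ⟨P₀, hvP₀, hP₀, hmap, -⟩ := exists_lift π hπ hP (Q₀ := zpowers v)
          (IsPGroup.of_card (n := j) (by rw [Nat.card_zpowers, hj]))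
          (by rw [MonoidHom.map_zpowers, zpowers_le]; exact hxP)
        obtain ⟨a₀, ha₀, rfl⟩ := hmap.ge haP
        refine ⟨hne, ⁅v, a₀⁆, val_comm hv a₀, hval_of hp hP₀ ?_, map_commutatorElement π v a₀⟩
        rw [commutatorElement_def]
        exact mul_mem (mul_mem (mul_mem (hvP₀ (mem_zpowers v)) ha₀)
          (inv_mem (hvP₀ (mem_zpowers v)))) (inv_mem ha₀)
      · rintro p hp P hP g v hg hv hne
        haveI := Fact.mk hp
        obtain ⟨P₀, -, hP₀, hmap, hlift⟩ := exists_lift π hπ hP (Q₀ := ⊥) IsPGroup.of_bot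
          (by rw [Subgroup.map_bot]; exact bot_le)
        obtain ⟨g₀, hg₀, rfl⟩ := hlift g hg
        obtain ⟨v₀, hv₀, rfl⟩ := hmap.ge hv
        exact ⟨hne, _, val_it g₀ (k + 1) v₀, hval_of hp hP₀ (it_mem hg₀ hv₀ (k + 1)), it_map π g₀ v₀ _⟩
      · rintro p x hp ⟨-, v, hv, ⟨j, hj⟩, rfl⟩ H hH hxH
        haveI := Fact.mk hp
        set H' := H.comap π with hH'
        have hH't : H' ≠ ⊤ := fun he => hH (comap_injective hπ (he.trans (comap_top π).symm))
        have hmem := val_mem_pCore h H' (hsub H' hH't) hp hv hj (show v ∈ H' from hxH)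
        set φ : H' →* H := (π.comp H'.subtype).codRestrict H fun y => y.2
        have hφ : Function.Surjective φ := fun d => by
          obtain ⟨g, hg⟩ := hπ d
          exact ⟨⟨g, show π g ∈ H from hg ▸ d.2⟩, Subtype.ext hg⟩
        haveI : ((pCore p H').map φ).Normal := Normal.map inferInstance φ hφ
        exact ⟨⟨π v, hxH⟩, Basics.le_pCore ((Basics.pCore_isPGroup p).map φ) ⟨_, hmem, rfl⟩, rfl⟩
      · intro H hH
        set H' := H.comap π with hH'
        have hH't : H' ≠ ⊤ := fun he => hH (comap_injective hπ (he.trans (comap_top π).symm))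
        haveI := hsub H' hH't
        have hmap : ((⊤ : Subgroup H').lowerCentralSeries (k + 1)).map (π.comp H'.subtype) =
            H.lowerCentralSeries (k + 1) := by
          rw [Subgroup.map_lowerCentralSeries, ← MonoidHom.range_eq_map, MonoidHom.range_comp,
            range_subtype, hH', map_comap_eq_self_of_surjective hπ]
        rw [← hmap]
        exact Group.nilpotent_of_surjective _ (MonoidHom.subgroupMap_surjective _ _)
    exact hset.contradiction
  · -- groups with a proper derived subgroup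
    set M := _root_.commutator G
    have hvM : ∀ v, Val (k + 1) v → v ∈ M := fun v hv => by
      have h1 := Subgroup.lowerCentralSeries_antitone (S := (⊤ : Subgroup G))
        (show 1 ≤ k + 1 by omega) (val_mem_lcs _ v hv)
      rwa [Subgroup.top_lowerCentralSeries_one] at h1
    have hF : ∀ {p : ℕ}, p.Prime → ∀ {v : G}, Val (k + 1) v → ∀ {j}, orderOf v = p ^ j →
        v ∈ fittingSubgroup G := fun {p} hp {v} hv {j} hj => by
      haveI := Fact.mk hp
      have hmem := val_mem_pCore h M (hsub M hperf) hp hv hj (hvM v hv)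
      haveI : ((pCore p M).map M.subtype).Normal :=
        ConjAct.normal_of_characteristic_of_normal
      have h2 : v ∈ pCore p G :=
        Basics.le_pCore ((Basics.pCore_isPGroup p).map M.subtype) ⟨_, hmem, rfl⟩
      exact Basics.pCore_le_fittingSubgroup p h2
    set F := fittingSubgroup G
    set π := QuotientGroup.mk' F
    have hπ : Function.Surjective π := QuotientGroup.mk'_surjective F
    have hFrob : Frob (G ⧸ F) := by
      intro p hp D hD q hq hqp v hv
      haveI := Fact.mk hp
      by_contra hne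
      obtain ⟨m, hm⟩ := hD.exists_card_eq
      obtain ⟨w, hw, hw1⟩ := exists_it_ne_one hq (hm ▸ hqp.pow_right m) (fun hall => hne (hall v hv)) (k + 1)
      obtain ⟨P₀, -, hP₀, hmap, hlift⟩ := exists_lift π hπ hD (Q₀ := ⊥) IsPGroup.of_bot
        (by rw [Subgroup.map_bot]; exact bot_le)
      obtain ⟨g, hg, rfl⟩ := hlift q hq
      obtain ⟨w₀, hw₀, rfl⟩ := hmap.ge hw
      obtain ⟨i, hi⟩ := (IsPGroup.iff_orderOf.mp hP₀) ⟨_, it_mem hg hw₀ (k + 1)⟩
      rw [← Subgroup.orderOf_coe] at hi
      refine hw1 ?_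
      rw [← it_map]
      exact (QuotientGroup.eq_one_iff _).mpr (hF hp (val_it g (k + 1) w₀) hi)
    have hbot := hFrob.lcs_eq_bot (k + 1) fun p hp P hP y hy => by
      haveI := Fact.mk hp
      obtain ⟨P₀, -, hP₀, hmap, -⟩ := exists_lift π hπ hP (Q₀ := ⊥) IsPGroup.of_bot
        (by rw [Subgroup.map_bot]; exact bot_le)
      let f : P₀ →* P := (π.comp P₀.subtype).codRestrict P fun a => hmap ▸ ⟨(a : G), a.2, rfl⟩
      have hf : Function.Surjective f := fun d => by
        obtain ⟨a, ha, hae⟩ := hmap.ge d.2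
        exact ⟨⟨a, ha⟩, Subtype.ext hae⟩
      obtain ⟨y₀, hy₀, rfl⟩ := val_lift f hf _ y hy
      obtain ⟨i, hi⟩ := (IsPGroup.iff_orderOf.mp hP₀) y₀
      rw [← Subgroup.orderOf_coe] at hi
      exact (QuotientGroup.eq_one_iff _).mpr (hF hp (val_map P₀.subtype _ y₀ hy₀) hi)
    rw [← map_top_of_surjective π hπ, ← Subgroup.map_lowerCentralSeries, Subgroup.map_eq_bot_iff,
      QuotientGroup.ker_mk'] at hbot
    exact Group.nilpotent_of_mulEquiv (Subgroup.subgroupOfEquivOfLe hbot)


/-- A criterion of Baumslag–Wiegold type for a term of the lower central series. Let G be a finite group and k ≥ 0; call an element a left-normed commutator value of length k + 1 when it has the form [[…[x₀, x₁], …], x_k] with k + 1 entries (for k = 0, any element), where [a, b] = aba⁻¹b⁻¹. Then the (k+1)-st term γ_{k+1}(G) of the lower central series (γ₁(G) = G) is nilpotent if and only if for every two such values x, y of coprime orders, either every prime dividing o(x)·o(y) divides o(xy), or o(x)·o(y) ≤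 o(xy). -/
theorem result {G : Type*} [Group G] [Finite G] (k : ℕ) :
    Group.IsNilpotent ↥((⊤ : Subgroup G).lowerCentralSeries k) ↔
      ∀ x y : G, (∃ f : Fin (k + 1) → G, x = ((List.ofFn f).tail).foldl (fun a b => a * b * a⁻¹ * b⁻¹) (f 0)) → (∃ f : Fin (k + 1) → G, y = ((List.ofFn f).tail).foldl (fun a b => a * b * a⁻¹ * b⁻¹) (f 0)) → (orderOf x).Coprime (orderOf y) →
        (∀ r : ℕ, r.Prime → r ∣ orderOf x * orderOf y → r ∣ orderOf (x * y)) ∨ orderOf x * orderOf y ≤ orderOf (x * y) := by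
  simp only [← val_iff]
  constructor
  · intro hnil x y hx hy hco
    have hc : Commute x y :=
      Basics.commute_of_coprime_le hnil (val_mem_lcs k x hx) (val_mem_lcs k y hy) hco
    exact Or.inr (hc.orderOf_mul_eq_mul_orderOf_of_coprime hco).ge
  · exact fun h => nilpotent_of_hyp _ G k rfl h

end Cfsg.Agent.S3900
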