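import Cfsg.Statements.S3901
import Cfsg.Agent.Lib.OddLocal.UniqueF
import Cfsg.Agent.Lib.InvChar.OneSubgroup
import Cfsg.Agent.Lib.Transfer.Abelian
import Cfsg.Agent.Lib.CT.Integral
import Cfsg.Agent.Lib.Basics.Cores
import Cfsg.Agent.S0215

set_option autoImplicit false
open Cfsg

namespace Cfsg.Agent.S3901

open Subgroup Cfsg Cfsg.Agent
open scoped commutatorElement

set_option linter.style.haveILetI false
set_option linter.unusedSectionVars false
set_option linter.unusedVariables false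

section Act

variable {K V : Type*} [Group K] [Finite K] [CommGroup V] [Finite V] (φ : K →* MulAut V)

/-- The product over the first `n` powers of `z`. -/
def nrm (z : K) (n : ℕ) (v : V) : V := ∏ i ∈ Finset.range n, φ (z ^ i) v

theorem nrm_fixed {z : K} {n : ℕ} (hz : φ (z ^ n) = 1) (v : V) : φ z (nrm φ z n v) = nrm φ z n v := by
  rw [nrm, map_prod]
  have h1 : ∏ i ∈ Finset.range n, φ z (φ (z ^ i) v) = ∏ i ∈ Finset.range n, φ (z ^ (i + 1)) v :=
    Finset.prod_congr rfl fun i _ => by rw [pow_succ', map_mul, MulAut.mul_apply]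
  rw [h1]
  have h2 := (Finset.prod_range_succ' (fun i => φ (z ^ i) v) n).symm.trans
    (Finset.prod_range_succ (fun i => φ (z ^ i) v) n)
  simp only [pow_zero, map_one, MulAut.one_apply, hz] at h2
  exact mul_right_cancel h2

variable (L : Subgroup K) [L.Normal] (hL : L ≤ φ.ker)
include hL

/-- Two commuting subgroups of order `p` modulo the kernel cannot all act without fixed points. -/
theorem exists_mul_pow_mem {p : ℕ} (hp : p.Prime) [Nontrivial V] (hco : (Nat.card V).Coprime p) {x y : K}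
    (hy : y ∉ L) (hxp : x ^ p ∈ L) (hyp : y ^ p ∈ L) (hxy : ⁅x, y⁆ ∈ L)
    (hfree : ∀ z ∈ closure ({x, y} : Set K), z ∉ L → ∀ v, φ z v = v → v = 1) : ∃ j : ℕ, x * y ^ j ∈ L := by
  by_contra! hcon
  obtain ⟨v, hv⟩ := exists_ne (1 : V)
  have hc : Commute (φ x) (φ y) := commutatorElement_eq_one_iff_mul_comm.mp (by
    rw [← map_commutatorElement]; exact hL hxy)
  have hxc : x ∈ closure ({x, y} : Set K) := subset_closure (Set.mem_insert _ _)
  have hyc : y ∈ closure ({x, y} : Set K) := subset_closure (Set.mem_insert_of_mem _ rfl)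
  have h1 : ∀ j, nrm φ (x * y ^ j) p v = 1 := fun j => by
    refine hfree _ (mul_mem hxc (pow_mem hyc j)) (hcon j) _ (nrm_fixed φ ?_ v)
    rw [map_pow, map_mul, map_pow, (hc.pow_right j).mul_pow, ← map_pow, show φ (x ^ p) = 1 from hL hxp,
      ← pow_mul, mul_comm j, pow_mul, ← map_pow, show φ (y ^ p) = 1 from hL hyp, one_pow, one_mul]
  have h2 : ∀ i, ¬ p ∣ i → nrm φ (y ^ i) p v = 1 := fun i hi => by
    refine hfree _ (pow_mem hyc i) (fun h => hy ?_) _ (nrm_fixed φ ?_ v)
    · have hcop : Nat.gcd i p = 1 := ((hp.coprime_iff_not_dvd.mpr hi).symm : Nat.Coprime i p)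
      have h := (pow_gcd_eq_one (a := ((y : K) : K ⧸ L))).mpr ⟨(QuotientGroup.eq_one_iff (y ^ i)).mpr h,
        (QuotientGroup.eq_one_iff (y ^ p)).mpr hyp⟩
      rw [hcop, pow_one] at h
      exact (QuotientGroup.eq_one_iff y).mp h
    · rw [← pow_mul, mul_comm, pow_mul, map_pow, show φ (y ^ p) = 1 from hL hyp, one_pow]
  have h3 : ∀ i j, φ ((x * y ^ j) ^ i) v = φ (x ^ i) (φ ((y ^ i) ^ j) v) := fun i j => by
    rw [map_pow, map_mul, map_pow, (hc.pow_right j).mul_pow, MulAut.mul_apply, ← map_pow, ← map_pow, ← map_pow,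
      ← pow_mul, ← pow_mul, mul_comm j]
  have h4 : ∏ j ∈ Finset.range p, nrm φ (x * y ^ j) p v = 1 := Finset.prod_eq_one fun j _ => h1 j
  simp only [nrm, h3] at h4
  rw [Finset.prod_comm] at h4
  simp only [← map_prod] at h4
  rw [Finset.prod_eq_single_of_mem 0 (Finset.mem_range.mpr hp.pos) (fun i hi hi0 => by
    have := h2 i (Nat.not_dvd_of_pos_of_lt (Nat.pos_of_ne_zero hi0) (Finset.mem_range.mp hi))
    rw [nrm] at this
    rw [this, map_one])] at h4
  simp only [pow_zero, one_pow, map_one, MulAut.one_apply, Finset.prod_const, Finset.card_range] at h4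
  exact hv ((powCoprime hco).injective (show v ^ p = 1 ^ p by rw [one_pow, h4]))

end Act

/-- A fixed-point-free element forces the group it moves freely to act trivially. -/
theorem trivial_of_frobenius {K V : Type*} [Group K] [Finite K] [CommGroup V] [Finite V] (φ : K →* MulAut V)
    (D : Subgroup K) [D.Normal] {g : K} {q : ℕ} (hgq : g ^ q = 1) (hq : 0 < q)
    (hco : (Nat.card V).Coprime (Nat.card D))
    (hfree : ∀ i < q, i ≠ 0 → ∀ d ∈ D, d * g ^ i = g ^ i * d → d = 1)
    (hfpf : ∀ c ∈ D, ∀ v, φ (c * g * c⁻¹) v = v → v = 1) : D ≤ φ.ker := by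
  classical
  haveI := Fintype.ofFinite D
  intro d hd
  refine MonoidHom.mem_ker.mpr (MulEquiv.ext fun v => ?_)
  let T : V → V := fun w => ∏ c : D, φ (c : K) w
  have hTfix : ∀ w, φ d (T w) = T w := fun w => by
    simp only [T, map_prod]
    refine Fintype.prod_equiv (Equiv.mulLeft (⟨d, hd⟩ : D)) _ _ fun c => ?_
    simp [MulAut.mul_apply]
  have hbij : ∀ i < q, i ≠ 0 →
      Function.Bijective fun c : D => (⟨c * g ^ i * (c : K)⁻¹ * (g ^ i)⁻¹, by
        rw [mul_assoc (c : K), mul_assoc (c : K)]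
        exact D.mul_mem c.2 ((inferInstance : D.Normal).conj_mem _ (D.inv_mem c.2) _)⟩ : D) := by
    intro i hi hi0
    refine Finite.injective_iff_bijective.mp fun a b hab => ?_
    have h := congrArg Subtype.val hab
    simp only [mul_left_inj] at h
    have h1 : ((b : K)⁻¹ * a) * g ^ i = g ^ i * ((b : K)⁻¹ * a) := by
      calc ((b : K)⁻¹ * a) * g ^ i = (b : K)⁻¹ * (a * g ^ i * (a : K)⁻¹) * a := by simp [mul_assoc]
        _ = g ^ i * ((b : K)⁻¹ * a) := by rw [h]; simp [mul_assoc]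
    have h2 := hfree i hi hi0 _ (D.mul_mem (D.inv_mem b.2) a.2) h1
    exact (Subtype.ext (inv_mul_eq_one.mp h2)).symm
  have hn : ∀ c : D, nrm φ ((c : K) * g * (c : K)⁻¹) q v = 1 := fun c =>
    hfpf c c.2 _ (nrm_fixed φ (by rw [conj_pow, hgq, mul_one, mul_inv_cancel, map_one]) v)
  have h4 : ∏ c : D, nrm φ ((c : K) * g * (c : K)⁻¹) q v = 1 := Finset.prod_eq_one fun c _ => hn c
  simp only [nrm] at h4
  rw [Finset.prod_comm, ← Finset.mul_prod_erase _ _ (Finset.mem_range.mpr hq)] at h4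
  simp only [pow_zero, map_one, MulAut.one_apply, Finset.prod_const, Finset.card_univ] at h4
  have h5 : ∀ i ∈ (Finset.range q).erase 0, ∏ c : D, φ (((c : K) * g * (c : K)⁻¹) ^ i) v = T (φ (g ^ i) v) := by
    intro i hi
    obtain ⟨hi0, hiq⟩ := Finset.mem_erase.mp hi
    refine Fintype.prod_bijective _ (hbij i (Finset.mem_range.mp hiq) hi0) _ _ fun c => ?_
    rw [← MulAut.mul_apply, ← map_mul, conj_pow]
    simp
  rw [Finset.prod_congr rfl h5] at h4
  have h6 : φ d (v ^ Fintype.card D) = v ^ Fintype.card D := by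
    rw [eq_inv_of_mul_eq_one_left h4, map_inv, map_prod]
    congr 1
    exact Finset.prod_congr rfl fun i _ => hTfix _
  rw [map_pow, ← Nat.card_eq_fintype_card] at h6
  exact (powCoprime hco).injective h6

/-- Commuting elements of coprime order outside a subgroup. -/
theorem no_mixed {G : Type*} [Group G] [Finite G] {N : Subgroup G} (h : ∀ x : G, x ∉ N → IsPrimePow (orderOf x))
    {x v : G} (hxv : Commute x v) (hco : (orderOf x).Coprime (orderOf v)) (hx1 : x ≠ 1) (hv1 : v ≠ 1) :
    x * v ∈ N := by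
  by_contra hN
  obtain ⟨l, i, hl, -, hi⟩ := h _ hN
  rw [hxv.orderOf_mul_eq_mul_orderOf_of_coprime hco] at hi
  have hl' : l.Prime := hl.nat_prime
  obtain ⟨a, -, ha⟩ := (Nat.dvd_prime_pow hl').mp (hi ▸ dvd_mul_right (orderOf x) (orderOf v))
  obtain ⟨b, -, hb⟩ := (Nat.dvd_prime_pow hl').mp (hi ▸ dvd_mul_left (orderOf v) (orderOf x))
  rcases a with _ | a
  · exact hx1 (orderOf_eq_one_iff.mp (by simpa using ha))
  rcases b with _ | b
  · exact hv1 (orderOf_eq_one_iff.mp (by simpa using hb))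
  rw [ha, hb] at hco
  exact hl'.ne_one (Nat.eq_one_of_dvd_coprimes hco (dvd_pow_self l a.succ_ne_zero) (dvd_pow_self l b.succ_ne_zero))

/-- A nonabelian simple group has two subgroups of order `p` in a Sylow subgroup for its least prime. -/
theorem sylow_contra {X : Type*} [Group X] [Finite X] [IsSimpleGroup X] (hns : ¬ Group.IsSolvable X) {p : ℕ}
    [hp : Fact p.Prime] (hmin : (Nat.card X).minFac = p) (S : Sylow p X)
    (hline : ∀ x ∈ (S : Subgroup X), ∀ y ∈ (S : Subgroup X), x ^ p = 1 → y ^ p = 1 → Commute x y → y ≠ 1 →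
      ∃ j : ℕ, x * y ^ j = 1) : False := by
  haveI := Fintype.ofFinite X
  have hX1 : Nat.card X ≠ 1 := fun e => by
    haveI := (Nat.card_eq_one_iff_unique.mp e).1
    exact hns inferInstance
  have hpd : p ∣ Nat.card X := hmin ▸ Nat.minFac_dvd _
  have hSne : (S : Subgroup X) ≠ ⊥ := fun e => by
    have := S.dvd_card_of_dvd_card hpd
    rw [e, card_bot] at this
    exact hp.out.ne_one (Nat.dvd_one.mp this)
  haveI : Nontrivial ↥(S : Subgroup X) := (S : Subgroup X).nontrivial_iff_ne_bot.mpr hSne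
  haveI := S.2.center_nontrivial
  obtain ⟨a, ha⟩ := exists_prime_orderOf_dvd_card' (G := center ↥(S : Subgroup X)) p (by
    obtain ⟨n, hn⟩ := (S.2.to_subgroup (center ↥(S : Subgroup X))).exists_card_eq
    rcases n with _ | n
    · haveI := (Nat.card_eq_one_iff_unique.mp (show Nat.card (center ↥(S : Subgroup X)) = 1 by simpa using hn)).1
      exact absurd (exists_ne (1 : center ↥(S : Subgroup X))) (by rintro ⟨b, hb⟩; exact hb (Subsingleton.elim _ _))
    · exact hn ▸ dvd_pow_self p n.succ_ne_zero)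
  rw [← Subgroup.orderOf_coe] at ha
  set a₀ : ↥(S : Subgroup X) := (a : ↥(S : Subgroup X)) with ha₀
  have ha1 : (a₀ : X) ≠ 1 := fun e => hp.out.ne_one (by rw [← ha, ← Subgroup.orderOf_coe, e, orderOf_one])
  have hap : (a₀ : X) ^ p = 1 := orderOf_dvd_iff_pow_eq_one.mp (by rw [Subgroup.orderOf_coe, ha])
  have huniq : ∀ b : ↥(S : Subgroup X), (b : X) ^ p = 1 → b ∈ zpowers a₀ := by
    intro b hb
    obtain ⟨j, hj⟩ := hline b b.2 a₀ a₀.2 hb hap
      (congrArg Subtype.val (mem_center_iff.mp a.2 b) : _) ha1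
    refine mem_zpowers_iff.mpr ⟨-(j : ℤ), Subtype.ext ?_⟩
    rw [SubgroupClass.coe_zpow, zpow_neg, zpow_natCast]
    exact (eq_inv_of_mul_eq_one_left hj).symm
  have huniqH : ∀ H : Subgroup ↥(S : Subgroup X), Nat.card H = p → H = zpowers a₀ := by
    intro H hH
    refine eq_of_le_of_card_ge (fun b hb => huniq b ?_) (by rw [Nat.card_zpowers, ha, hH])
    have hdvd : orderOf b ∣ p := (Subgroup.orderOf_dvd_natCard H hb).trans (dvd_of_eq hH)
    have hb' : b ^ p = 1 := orderOf_dvd_iff_pow_eq_one.mp hdvd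
    exact congrArg Subtype.val hb'
  rcases InvChar.cyclic_or_quaternion S.2 (fun H K hH hK => by rw [huniqH H hH, huniqH K hK]) with hc | ⟨rfl, -⟩
  · obtain ⟨P, N', hN', hcompl⟩ := Transfer.hasNormalPComplement_of_normalizer_le S (hc.normalizer_le_centralizer hmin)
    rcases IsSimpleGroup.eq_bot_or_eq_top_of_normal N' hN' with e | e
    · refine hns ?_
      have hPtop : (P : Subgroup X) = ⊤ := by have := hcompl.sup_eq_top; rwa [e, bot_sup_eq] at this
      haveI : Group.IsNilpotent X := IsPGroup.isNilpotent (p := p) fun g => by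
        obtain ⟨k, hk⟩ := P.2 ⟨g, hPtop ▸ mem_top g⟩
        exact ⟨k, congrArg Subtype.val hk⟩
      infer_instance
    · have hPbot : (P : Subgroup X) = ⊥ := by
        have := disjoint_iff.mp hcompl.disjoint
        rwa [e, top_inf_eq] at this
      have := P.dvd_card_of_dvd_card hpd
      rw [hPbot, card_bot] at this
      exact hp.out.ne_one (Nat.dvd_one.mp this)
  · obtain ⟨N', hN', hodd, hcen⟩ := S0215.result S (a₀ : X) (by rw [Subgroup.orderOf_coe, ha]) a₀.2 fun g hg => by
      have h1 : (⟨_, hg⟩ : ↥(S : Subgroup X)) ∈ zpowers a₀ :=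
        huniq _ (show (g * (a₀ : X) * g⁻¹) ^ 2 = 1 by rw [conj_pow, hap, mul_one, mul_inv_cancel])
      obtain ⟨i, hi⟩ := mem_zpowers_iff.mp h1
      have hi' : (a₀ : X) ^ i = g * (a₀ : X) * g⁻¹ := congrArg Subtype.val hi
      rcases Int.even_or_odd' i with ⟨m, rfl | rfl⟩
      · exfalso
        rw [zpow_mul, zpow_ofNat, hap, one_zpow] at hi'
        exact ha1 (by
          calc (a₀ : X) = g⁻¹ * (g * a₀ * g⁻¹) * g := by simp [mul_assoc]
            _ = 1 := by rw [← hi']; simp)
      · rw [← hi', zpow_add, zpow_mul, zpow_ofNat, hap, one_zpow, one_mul, zpow_one]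
    rcases IsSimpleGroup.eq_bot_or_eq_top_of_normal N' hN' with e | e
    · refine hns ?_
      have hc : (a₀ : X) ∈ center X := mem_center_iff.mpr fun g => by
        have := hcen g
        rw [e, mem_bot, mul_inv_eq_one, mul_inv_eq_iff_eq_mul] at this
        exact this.symm
      rcases IsSimpleGroup.eq_bot_or_eq_top_of_normal (center X) inferInstance with e' | e'
      · rw [e', mem_bot] at hc; exact absurd hc ha1
      · letI : CommGroup X := { (inferInstance : Group X) with
          mul_comm := fun u v => (mem_center_iff.mp (e' ▸ mem_top v) u) }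
        infer_instance
    · rw [e, card_top] at hodd
      exact absurd hpd (fun h2 => (Nat.not_even_iff_odd.mpr hodd) (even_iff_two_dvd.mpr h2))

/-- Conjugation of an abelian subgroup by a group normalizing it. -/
def conjHom {G : Type*} [Group G] {K : Type*} [Group K] (ι : K →* G) (V : Subgroup G)
    (hn : ∀ k, ι k ∈ normalizer (V : Set G)) : K →* MulAut V where
  toFun k :=
    { toFun := fun v => ⟨ι k * v * (ι k)⁻¹, (mem_normalizer_iff.mp (hn k) v).mp v.2⟩
      invFun := fun v => ⟨(ι k)⁻¹ * v * ι k, (mem_normalizer_iff.mp (hn k) _).mpr (by simp [mul_assoc])⟩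
      left_inv := fun v => Subtype.ext (by simp [mul_assoc])
      right_inv := fun v => Subtype.ext (by simp [mul_assoc])
      map_mul' := fun a b => Subtype.ext (by simp [mul_assoc]) }
  map_one' := MulEquiv.ext fun v => Subtype.ext (by simp)
  map_mul' a b := MulEquiv.ext fun v => Subtype.ext (by simp [mul_assoc])

theorem conjHom_fix {G : Type*} [Group G] {K : Type*} [Group K] {ι : K →* G} {V : Subgroup G}
    {hn : ∀ k, ι k ∈ normalizer (V : Set G)} {k : K} {v : V} :
    conjHom ι V hn k v = v ↔ ι k * v = v * ι k :=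
  ⟨fun h => mul_inv_eq_iff_eq_mul.mp (congrArg Subtype.val h),
    fun h => Subtype.ext (mul_inv_eq_iff_eq_mul.mpr h)⟩

/-- The normalizer of a subgroup normalizes its centre. -/
theorem nrm_inf_cent {G : Type*} [Group G] (R : Subgroup G) :
    normalizer (R : Set G) ≤ normalizer ((R ⊓ centralizer (R : Set G) : Subgroup G) : Set G) := by
  intro g hg
  refine mem_normalizer_iff.mpr fun x => ?_
  rw [mem_inf, mem_inf]
  refine and_congr (mem_normalizer_iff.mp hg x)
    ⟨fun hx => mem_centralizer_iff.mpr fun r hr => ?_, fun hx => mem_centralizer_iff.mpr fun r hr => ?_⟩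
  · have := mem_centralizer_iff.mp hx (g⁻¹ * r * g)
      ((mem_normalizer_iff.mp hg _).mpr (by simpa [mul_assoc] using hr))
    calc r * (g * x * g⁻¹) = g * ((g⁻¹ * r * g) * x) * g⁻¹ := by group
      _ = g * (x * (g⁻¹ * r * g)) * g⁻¹ := by rw [this]
      _ = g * x * g⁻¹ * r := by group
  · have := mem_centralizer_iff.mp hx (g * r * g⁻¹) ((mem_normalizer_iff.mp hg r).mp hr)
    calc r * x = g⁻¹ * ((g * r * g⁻¹) * (g * x * g⁻¹)) * g := by group
      _ = g⁻¹ * ((g * x * g⁻¹) * (g * r * g⁻¹)) * g := by rw [this]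
      _ = x * r := by group

theorem cent_abelian {G : Type*} [Group G] (R : Subgroup G) :
    ∀ a ∈ R ⊓ centralizer (R : Set G), ∀ b ∈ R ⊓ centralizer (R : Set G), a * b = b * a :=
  fun a ha b hb => mem_centralizer_iff.mp hb.2 a ha.1

theorem cent_ne_bot {G : Type*} [Group G] [Finite G] {r : ℕ} [Fact r.Prime] {R : Subgroup G} (hR : IsPGroup r R)
    (hR1 : R ≠ ⊥) : R ⊓ centralizer (R : Set G) ≠ ⊥ := by
  haveI : Nontrivial ↥R := R.nontrivial_iff_ne_bot.mpr hR1
  haveI := hR.center_nontrivial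
  obtain ⟨z, hz⟩ := exists_ne (1 : center ↥R)
  intro e
  have : ((z : ↥R) : G) ∈ R ⊓ centralizer (R : Set G) :=
    ⟨(z : ↥R).2, mem_centralizer_iff.mpr fun a ha => congrArg Subtype.val (mem_center_iff.mp z.2 ⟨a, ha⟩)⟩
  rw [e, mem_bot] at this
  exact hz (Subtype.ext (Subtype.ext this))

/-- A nontrivial abelian `s`-group centralised by `L` on which `K` acts freely outside `L` is impossible. -/
theorem finish {G : Type*} [Group G] [Finite G] {N K : Subgroup G} (h : ∀ x : G, x ∉ N → IsPrimePow (orderOf x))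
    (L : Subgroup ↥K) [L.Normal] [IsSimpleGroup (↥K ⧸ L)] (hns : ¬ Group.IsSolvable (↥K ⧸ L)) {p s : ℕ}
    [hp : Fact p.Prime] (hs : s.Prime) (hsp : s ≠ p) (hmin : (Nat.card (↥K ⧸ L)).minFac = p)
    (V : Subgroup G) (hV : IsPGroup s V) (hV1 : V ≠ ⊥) (hab : ∀ a ∈ V, ∀ b ∈ V, a * b = b * a)
    (hKV : ∀ k : ↥K, (k : G) ∈ normalizer (V : Set G)) (hLV : ∀ l ∈ L, ∀ v ∈ V, (l : G) * v = v * l)
    (hout : ∀ z : ↥K, z ∉ L → ∀ v ∈ V, (z : G) * v ∉ N) : False := by
  haveI : Fact s.Prime := ⟨hs⟩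
  letI : CommGroup ↥V := { (inferInstance : Group ↥V) with mul_comm := fun a b => Subtype.ext (hab a a.2 b b.2) }
  haveI : Nontrivial ↥V := V.nontrivial_iff_ne_bot.mpr hV1
  let φ := conjHom K.subtype V hKV
  have hL : L ≤ φ.ker := fun l hl =>
    MonoidHom.mem_ker.mpr (MulEquiv.ext fun v => conjHom_fix.mpr (hLV l hl v v.2))
  have hco : (Nat.card ↥V).Coprime p := by
    obtain ⟨k, hk⟩ := hV.exists_card_eq
    rw [hk]
    exact Nat.Coprime.pow_left _ ((Nat.coprime_primes hs hp.out).mpr hsp)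
  obtain ⟨P⟩ : Nonempty (Sylow p ↥K) := inferInstance
  refine sylow_contra hns hmin (P.mapSurjective (QuotientGroup.mk'_surjective L)) fun x hx y hy hxp hyp hxy hy1 => ?_
  rw [Sylow.coe_mapSurjective] at hx hy
  obtain ⟨x', hx', rfl⟩ := hx
  obtain ⟨y', hy', rfl⟩ := hy
  have mem : ∀ z, QuotientGroup.mk' L z = 1 → z ∈ L := fun z => (QuotientGroup.eq_one_iff z).mp
  obtain ⟨j, hj⟩ := exists_mul_pow_mem φ L hL hp.out hco (x := x') (y := y')
    (fun hy => hy1 ((QuotientGroup.eq_one_iff y').mpr hy)) (mem _ (by rw [map_pow, hxp]))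
    (mem _ (by rw [map_pow, hyp]))
    (mem _ (by rw [map_commutatorElement]; exact commutatorElement_eq_one_iff_mul_comm.mpr hxy)) (fun z hz hzL v hv => by
      by_contra hv1
      have hzP : z ∈ (P : Subgroup ↥K) :=
        (closure_le _).mpr (Set.insert_subset hx' (Set.singleton_subset_iff.mpr hy')) hz
      refine hout z hzL v v.2 (no_mixed h (conjHom_fix.mp hv : _) ?_ (fun e => hzL ?_) (fun e => hv1 (Subtype.ext e)))
      · obtain ⟨a, ha⟩ := P.2 ⟨z, hzP⟩
        obtain ⟨b, hb⟩ := hV v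
        have ha' : orderOf (z : G) ∣ p ^ a := by
          rw [Subgroup.orderOf_coe]; exact orderOf_dvd_of_pow_eq_one (congrArg Subtype.val ha)
        have hb' : orderOf (v : G) ∣ s ^ b := by
          rw [Subgroup.orderOf_coe]; exact orderOf_dvd_of_pow_eq_one hb
        exact ((((Nat.coprime_primes hp.out hs).mpr hsp.symm).pow a b).coprime_dvd_left ha').coprime_dvd_right hb'
      · have : z = 1 := Subtype.ext e
        rw [this]; exact L.one_mem)
  exact ⟨j, by rw [← map_pow, ← map_mul]; exact (QuotientGroup.eq_one_iff _).mpr hj⟩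

/-- In a finite nilpotent group the centre of a Sylow subgroup is central. -/
theorem central_of_sylow {L : Type*} [Group L] [Finite L] [Group.IsNilpotent L] {s : ℕ} [Fact s.Prime]
    (Q : Sylow s L) {w : L} (hwQ : w ∈ Q) (hw : ∀ a ∈ Q, a * w = w * a) (l : L) : l * w = w * l := by
  suffices e : centralizer ({w} : Set L) = ⊤ by
    exact (mem_centralizer_singleton_iff.mp (e ▸ mem_top l))
  refine (card_eq_iff_eq_top _).mp (Nat.dvd_antisymm (card_subgroup_dvd_card _) ?_)
  refine Nat.dvd_iff_prime_pow_dvd_dvd _ _ |>.mpr fun t k ht hk => ?_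
  haveI : Fact t.Prime := ⟨ht⟩
  obtain ⟨T⟩ : Nonempty (Sylow t L) := inferInstance
  have h03 : Group.IsNilpotent L ↔ ∀ (t : ℕ) (_ : Fact t.Prime) (T : Sylow t L), (T : Subgroup L).Normal :=
    (Group.isNilpotent_of_finite_tfae (G := L)).out 0 3
  have hn : ∀ (t : ℕ) [Fact t.Prime] (T : Sylow t L), (T : Subgroup L).Normal := fun t hft T =>
    h03.mp inferInstance t hft T
  refine (T.pow_dvd_card_of_pow_dvd_card hk).trans (card_dvd_of_le fun a ha => mem_centralizer_singleton_iff.mpr ?_)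
  by_cases hts : t = s
  · subst hts
    haveI := hn t T
    haveI := T.unique_of_normal inferInstance
    exact hw a (Subsingleton.elim T Q ▸ ha)
  · have hdis : Disjoint (T : Subgroup L) (Q : Subgroup L) :=
      IsPGroup.disjoint_of_ne t s hts _ _ T.2 Q.2
    exact commute_of_normal_of_disjoint _ _ (hn t T) (hn s Q) hdis a w ha hwQ

theorem main {G : Type*} [Group G] [Finite G] (N : Subgroup G) [hNn : N.Normal] (hns : ¬ Group.IsSolvable ↥N)
    (h : ∀ x : G, x ∉ N → IsPrimePow (orderOf x)) (hq : ¬ Group.IsSolvable (G ⧸ N)) : False := by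
  classical
  set π := QuotientGroup.mk' N
  haveI : Nonempty {Y : Subgroup (G ⧸ N) // ¬ Group.IsSolvable Y} := ⟨⟨⊤, fun hs => hq (by
    haveI := hs
    exact solvable_of_surjective (f := (Subgroup.topEquiv (G := G ⧸ N)).toMonoidHom) Subgroup.topEquiv.surjective)⟩⟩
  obtain ⟨⟨Y, hY⟩, hYmin⟩ := Finite.exists_min
    (fun Y : {Y : Subgroup (G ⧸ N) // ¬ Group.IsSolvable Y} => Nat.card (Y : Subgroup (G ⧸ N)))
  have hprop : ∀ B : Subgroup ↥Y, B ≠ ⊤ → Group.IsSolvable B := fun B hB => by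
    by_contra hBns
    have hBns' : ¬ Group.IsSolvable (B.map Y.subtype) := fun hs => hBns (by
      haveI := hs
      exact solvable_of_solvable_injective (f := (B.equivMapOfInjective _ Y.subtype_injective).toMonoidHom)
        (B.equivMapOfInjective _ Y.subtype_injective).injective)
    have h1 := hYmin ⟨_, hBns'⟩
    rw [card_map_of_injective Y.subtype_injective] at h1
    exact hB (eq_top_of_le_card B h1)
  haveI : Nontrivial ↥Y := by
    by_contra hn
    haveI : Subsingleton ↥Y := not_nontrivial_iff_subsingleton.mp hn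
    exact hY inferInstance
  haveI : Nonempty {M : Subgroup ↥Y // M.Normal ∧ M ≠ ⊤} := ⟨⟨⊥, inferInstance, bot_ne_top⟩⟩
  obtain ⟨⟨M₀, hMn, hMt⟩, hMmax⟩ := Finite.exists_max
    (fun M : {M : Subgroup ↥Y // M.Normal ∧ M ≠ ⊤} => Nat.card (M : Subgroup ↥Y))
  haveI := hMn
  haveI hM0s := hprop M₀ hMt
  haveI : Nontrivial (↥Y ⧸ M₀) := QuotientGroup.nontrivial_iff.mpr hMt
  haveI hXs : IsSimpleGroup (↥Y ⧸ M₀) := ⟨fun M hM => by
    haveI := hM
    by_cases hMT : M = ⊤
    · exact Or.inr hMT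
    refine Or.inl ?_
    have hle : M₀ ≤ M.comap (QuotientGroup.mk' M₀) := fun l hl => by
      show QuotientGroup.mk' M₀ l ∈ M
      rw [show QuotientGroup.mk' M₀ l = 1 from (QuotientGroup.eq_one_iff l).mpr hl]
      exact M.one_mem
    have hc : M.comap (QuotientGroup.mk' M₀) ≠ ⊤ := fun e => hMT (by
      rw [← map_comap_eq_self_of_surjective (QuotientGroup.mk'_surjective M₀) M, e,
        Subgroup.map_top_of_surjective _ (QuotientGroup.mk'_surjective M₀)])
    have h1 := eq_of_le_of_card_ge hle (hMmax ⟨_, inferInstance, hc⟩)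
    refine (eq_bot_iff_forall _).mpr fun z hz => ?_
    obtain ⟨k, rfl⟩ := QuotientGroup.mk'_surjective M₀ z
    exact (QuotientGroup.eq_one_iff k).mpr (h1.ge hz)⟩
  have hXns : ¬ Group.IsSolvable (↥Y ⧸ M₀) := fun hs => hY (by
    haveI := hs
    exact solvable_of_ker_le_range M₀.subtype (QuotientGroup.mk' M₀)
      (by rw [QuotientGroup.ker_mk', range_subtype]))
  obtain ⟨p, hpdef⟩ : ∃ p, (Nat.card (↥Y ⧸ M₀)).minFac = p := ⟨_, rfl⟩
  haveI hp : Fact p.Prime := ⟨hpdef ▸ Nat.minFac_prime Finite.one_lt_card.ne'⟩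
  obtain ⟨r, hr, hrN, hrp⟩ : ∃ r : ℕ, r.Prime ∧ r ∣ Nat.card N ∧ r ≠ p := by
    by_contra! hall
    refine hns ?_
    haveI : Group.IsNilpotent ↥N := (IsPGroup.of_card (p := p)
      (Nat.eq_prime_pow_of_unique_prime_dvd Nat.card_pos.ne' fun {d} hd hdn => hall d hd hdn)).isNilpotent
    infer_instance
  haveI : Fact r.Prime := ⟨hr⟩
  obtain ⟨R₀⟩ : Nonempty (Sylow r ↥N) := inferInstance
  set R : Subgroup G := (R₀ : Subgroup ↥N).map N.subtype with hRdef
  have hR : IsPGroup r R := R₀.2.map _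
  have hRN : R ≤ N := map_subtype_le _
  have hR1 : R ≠ ⊥ := fun e => by
    have h1 := R₀.dvd_card_of_dvd_card hrN
    rw [← card_map_of_injective (K := (R₀ : Subgroup ↥N)) N.subtype_injective, ← hRdef, e, card_bot] at h1
    exact hr.ne_one (Nat.dvd_one.mp h1)
  set H := normalizer (R : Set G) with hH
  have hsup : H ⊔ N = ⊤ := Sylow.normalizer_sup_eq_top R₀
  have hHY : (H ⊓ Y.comap π).map π = Y := le_antisymm
    ((map_mono inf_le_right).trans (map_comap_le _ _)) fun y hy => by
      obtain ⟨g, rfl⟩ := QuotientGroup.mk'_surjective N y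
      obtain ⟨a, ha, n, hn, rfl⟩ := mem_sup_of_normal_right.mp (hsup ▸ mem_top g : g ∈ H ⊔ N)
      have e : π (a * n) = π a := by
        rw [map_mul, show π n = 1 from (QuotientGroup.eq_one_iff n).mpr hn, mul_one]
      rw [e] at hy
      exact ⟨a, ⟨ha, hy⟩, e.symm⟩
  haveI : Nonempty {K : Subgroup G // K ≤ H ∧ K.map π = Y} := ⟨⟨_, inf_le_left, hHY⟩⟩
  obtain ⟨⟨K, hKH, hKY⟩, hKmin⟩ := Finite.exists_min
    (fun K : {K : Subgroup G // K ≤ H ∧ K.map π = Y} => Nat.card (K : Subgroup G))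
  let ψ : ↥K →* ↥Y := (π.comp K.subtype).codRestrict Y fun k => hKY ▸ mem_map_of_mem π k.2
  have hψ : Function.Surjective ψ := fun y => by
    obtain ⟨k, hk, e⟩ : (y : G ⧸ N) ∈ K.map π := hKY.symm ▸ y.2
    exact ⟨⟨k, hk⟩, Subtype.ext e⟩
  let f : ↥K →* ↥Y ⧸ M₀ := (QuotientGroup.mk' M₀).comp ψ
  have hf : Function.Surjective f := (QuotientGroup.mk'_surjective M₀).comp hψ
  set L : Subgroup ↥K := M₀.comap ψ with hLdef
  have hLout : ∀ x : ↥K, x ∉ L → (x : G) ∉ N := fun x hx hxN => hx (by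
    rw [hLdef, mem_comap, show ψ x = 1 from Subtype.ext ((QuotientGroup.eq_one_iff (x : G)).mpr hxN)]
    exact M₀.one_mem)
  have hkf : L = f.ker := by
    rw [hLdef, ← MonoidHom.comap_ker (QuotientGroup.mk' M₀) ψ, QuotientGroup.ker_mk']
  haveI hLn : L.Normal := inferInstance
  let e : ↥K ⧸ L ≃* ↥Y ⧸ M₀ :=
    (QuotientGroup.quotientMulEquivOfEq hkf).trans (QuotientGroup.quotientKerEquivOfSurjective f hf)
  haveI : IsSimpleGroup (↥K ⧸ L) := e.isSimpleGroup
  have hns' : ¬ Group.IsSolvable (↥K ⧸ L) := fun hs => hXns (by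
    haveI := hs
    exact solvable_of_surjective (f := e.toMonoidHom) e.surjective)
  have hmin : (Nat.card (↥K ⧸ L)).minFac = p := by rw [Nat.card_congr e.toEquiv, hpdef]
  have hle : L ≤ frattini ↥K := le_iInf₂ fun M hM => by
    by_contra hLM
    have htop : M ⊔ L = ⊤ := hM.2 _ (lt_of_le_of_ne le_sup_left fun e => hLM (e ▸ le_sup_right))
    have hne : M.map ψ ≠ ⊤ := fun e => by
      have h2 : (M.map K.subtype).map π = Y := by
        rw [map_map, show π.comp K.subtype = Y.subtype.comp ψ from rfl, ← map_map, e, ← MonoidHom.range_eq_map,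
          range_subtype]
      have h1 := hKmin ⟨_, (map_subtype_le M).trans hKH, h2⟩
      rw [card_map_of_injective K.subtype_injective] at h1
      exact hM.1 (eq_top_of_le_card M h1)
    haveI := hprop _ hne
    refine hXns (solvable_of_surjective (f := (QuotientGroup.mk' M₀).comp (M.map ψ).subtype) fun z => ?_)
    obtain ⟨k, rfl⟩ := hf z
    obtain ⟨m, hm, l, hl, rfl⟩ := mem_sup_of_normal_right.mp (htop ▸ mem_top k : k ∈ M ⊔ L)
    refine ⟨⟨ψ m, mem_map_of_mem ψ hm⟩, ?_⟩
    show f m = f (m * l)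
    rw [map_mul, show f l = 1 from MonoidHom.mem_ker.mp (hkf ▸ hl), mul_one]
  haveI : Group.IsNilpotent (frattini ↥K) := frattini_nilpotent
  haveI hLnil : Group.IsNilpotent L := Group.isNilpotent_congr (subgroupOfEquivOfLe hle) |>.mp inferInstance
  have hnorm : ∀ k : ↥K, (k : G) ∈ H := fun k => hKH k.2
  have hLp : IsPGroup p L := by
    by_contra hnp
    obtain ⟨s, hs, hsd, hsp⟩ : ∃ s : ℕ, s.Prime ∧ s ∣ Nat.card L ∧ s ≠ p := by
      by_contra! hall
      exact hnp (IsPGroup.of_card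
        (Nat.eq_prime_pow_of_unique_prime_dvd Nat.card_pos.ne' fun {d} hd hdn => hall d hd hdn))
    haveI : Fact s.Prime := ⟨hs⟩
    obtain ⟨Q⟩ : Nonempty (Sylow s ↥L) := inferInstance
    have h03 : Group.IsNilpotent ↥L ↔ ∀ (t : ℕ) (_ : Fact t.Prime) (T : Sylow t ↥L), (T : Subgroup ↥L).Normal :=
      (Group.isNilpotent_of_finite_tfae (G := ↥L)).out 0 3
    haveI hQn : (Q : Subgroup ↥L).Normal := h03.mp hLnil s ⟨hs⟩ Q
    haveI := Q.characteristic_of_normal hQn
    haveI hQkn : ((Q : Subgroup ↥L).map L.subtype).Normal := inferInstance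
    set QG : Subgroup G := ((Q : Subgroup ↥L).map L.subtype).map K.subtype with hQG
    have hQp : IsPGroup s QG := (Q.2.map _).map _
    have hQ1 : QG ≠ ⊥ := fun e => by
      have h1 := Q.dvd_card_of_dvd_card hsd
      rw [← card_map_of_injective (K := (Q : Subgroup ↥L)) L.subtype_injective,
        ← card_map_of_injective (K := (Q : Subgroup ↥L).map L.subtype) K.subtype_injective, ← hQG, e, card_bot] at h1
      exact hs.ne_one (Nat.dvd_one.mp h1)
    have hKQ : ∀ k : ↥K, (k : G) ∈ normalizer (QG : Set G) := fun k => by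
      have h1 := le_normalizer_map K.subtype (mem_map_of_mem K.subtype
        (show k ∈ normalizer (((Q : Subgroup ↥L).map L.subtype : Subgroup ↥K) : Set ↥K) by
          rw [normalizer_eq_top]; exact mem_top k))
      exact h1
    refine finish h L hns' hs hsp hmin _ (hQp.to_le inf_le_left) (cent_ne_bot hQp hQ1) (cent_abelian QG)
      (fun k => nrm_inf_cent QG (hKQ k)) ?_ ?_
    · intro l hl v hv
      obtain ⟨⟨q, ⟨q', hq', rfl⟩, rfl⟩, hvc⟩ := hv
      have h1 := central_of_sylow Q hq' (fun a ha => Subtype.ext (Subtype.ext (mem_centralizer_iff.mp hvc _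
        (mem_map_of_mem K.subtype (mem_map_of_mem L.subtype ha))))) ⟨l, hl⟩
      exact congrArg (fun t : ↥L => ((t : ↥K) : G)) h1
    · intro z hz v hv
      obtain ⟨⟨q, ⟨q', hq', rfl⟩, rfl⟩, -⟩ := hv
      exact hLout (z * (q' : ↥K)) fun hzq => hz ((Subgroup.mul_mem_cancel_right L q'.2).mp hzq)
  set V := R ⊓ centralizer (R : Set G) with hVdef
  have hVp : IsPGroup r V := hR.to_le inf_le_left
  have hVout : ∀ z : ↥K, z ∉ L → ∀ v ∈ V, (z : G) * v ∉ N := fun z hz v hv hzv =>
    hLout z hz ((Subgroup.mul_mem_cancel_right N (hRN hv.1)).mp hzv)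
  letI : CommGroup ↥V :=
    { (inferInstance : Group ↥V) with mul_comm := fun a b => Subtype.ext (cent_abelian R a a.2 b b.2) }
  obtain ⟨q, hqp, hqd, hqp', hqr⟩ : ∃ q : ℕ, q.Prime ∧ q ∣ Nat.card (↥K ⧸ L) ∧ q ≠ p ∧ q ≠ r := by
    by_contra! hall
    obtain ⟨a, m, hm, he⟩ := Nat.exists_eq_pow_mul_and_not_dvd
      (Nat.card_pos (α := ↥K ⧸ L)).ne' p hp.out.ne_one
    have hm0 : m ≠ 0 := fun e => hm (e ▸ dvd_zero p)
    have hmr : m = r ^ m.primeFactorsList.length := Nat.eq_prime_pow_of_unique_prime_dvd hm0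
      fun {d} hd hdm => hall d hd (he ▸ hdm.trans (dvd_mul_left m _)) fun e => hm (e ▸ hdm)
    exact hns' (CT.isSolvable_of_card_two_primes hp.out hr _ _ a m.primeFactorsList.length rfl (by rw [he, ← hmr]))
  haveI : Fact q.Prime := ⟨hqp⟩
  obtain ⟨g, hg⟩ := exists_prime_orderOf_dvd_card' (G := ↥K) q (hqd.trans (card_quotient_dvd_card L))
  obtain ⟨la, hla⟩ := hLp.exists_card_eq
  obtain ⟨va, hva⟩ := hVp.exists_card_eq
  have hordL : ∀ z : ↥K, orderOf z = q → z ∉ L := fun z hz hzL => by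
    have h1 : q ∣ p ^ la := by
      rw [← hla, ← hz]; exact orderOf_dvd_natCard L hzL
    exact hqp' ((Nat.prime_dvd_prime_iff_eq hqp hp.out).mp (hqp.dvd_of_dvd_pow h1))
  have key := trivial_of_frobenius (conjHom K.subtype V fun k => nrm_inf_cent R (hnorm k)) L (g := g) (q := q)
    (by rw [← hg, pow_orderOf_eq_one]) hqp.pos
    (by rw [hva, hla]; exact ((Nat.coprime_primes hr hp.out).mpr hrp).pow va la)
    (fun i hi hi0 d hd hdg => by
      by_contra hd1
      have hoi : orderOf (g ^ i) = q := by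
        rw [orderOf_pow' g hi0, hg, (hqp.coprime_iff_not_dvd.mpr fun hd => absurd hi (Nat.not_lt.mpr (Nat.le_of_dvd (Nat.pos_of_ne_zero hi0) hd))), Nat.div_one]
      have hgi := hordL _ hoi
      refine hLout (g ^ i * d) (fun hgd => hgi ((Subgroup.mul_mem_cancel_right L hd).mp hgd)) ?_
      refine no_mixed h (congrArg Subtype.val hdg.symm : _) ?_ (fun e => hgi ?_) (fun e => hd1 (Subtype.ext e))
      · rw [Subgroup.orderOf_coe, Subgroup.orderOf_coe, hoi]
        exact ((Nat.coprime_primes hqp hp.out).mpr hqp').pow_right la |>.coprime_dvd_right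
          (hla ▸ orderOf_dvd_natCard L hd)
      · have : g ^ i = 1 := Subtype.ext e
        rw [this]; exact L.one_mem)
    (fun c hc v hv => by
      by_contra hv1
      have hz : orderOf (c * g * c⁻¹) = q := hg ▸ MulEquiv.orderOf_eq (MulAut.conj c) g
      refine hVout _ (hordL _ hz) v v.2 (no_mixed h (conjHom_fix.mp hv : _) ?_ (fun e => ?_) (fun e => hv1 (Subtype.ext e)))
      · rw [show orderOf ((c * g * c⁻¹ : ↥K) : G) = q by rw [Subgroup.orderOf_coe, hz]]
        exact ((Nat.coprime_primes hqp hr).mpr hqr).pow_right va |>.coprime_dvd_right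
          (by rw [Subgroup.orderOf_coe, ← hva]; exact _root_.orderOf_dvd_natCard v)
      · exact hqp.ne_one (hz.symm.trans (orderOf_eq_one_iff.mpr (Subtype.ext e))))
  exact finish h L hns' hr hrp hmin V hVp (cent_ne_bot hR hR1) (cent_abelian R) (fun k => nrm_inf_cent R (hnorm k))
    (fun l hl v hv => conjHom_fix.mp (show conjHom K.subtype V (fun k => nrm_inf_cent R (hnorm k)) l ⟨v, hv⟩ = ⟨v, hv⟩ by
      rw [MonoidHom.mem_ker.mp (key hl)]; rfl)) hVout

/-- Let N be a non-trivial normal subgroup of the finite group G such that every element of G outside N has prime power order. If N is not solvable, then G/N is solvable. -/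
theorem result {G : Type*} [Group G] [Finite G] (N : Subgroup G) [N.Normal] (hN : N ≠ ⊥) (hns : ¬ Group.IsSolvable ↥N)
    (h : ∀ x : G, x ∉ N → IsPrimePow (orderOf x)) : Group.IsSolvable (G ⧸ N) := by
  by_contra hq
  exact main N hns h hq

end Cfsg.Agent.S3901
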