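import Cfsg.Statements.S3903
-- import your own Cfsg.Agent.* helpers here

set_option autoImplicit false
open Cfsg

namespace Cfsg.Agent.S3903


open Subgroup

lemma solvable_of_maximal_pGroup_normal {G : Type*} [Group G] [Finite G] {p : ℕ} [Fact p.Prime]
    {M : Subgroup G} (hM : IsCoatom M) (hMp : IsPGroup p M) (hn : M.Normal) : Group.IsSolvable G := by
  haveI := hn
  haveI := hMp.isNilpotent
  obtain ⟨y, -, hy⟩ := SetLike.exists_of_lt hM.lt_top
  have htop : M ⊔ zpowers y = ⊤ := hM.2 _ (lt_of_le_of_ne le_sup_left fun h =>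
    hy (h ▸ mem_sup_right (mem_zpowers y)))
  have hz : zpowers (QuotientGroup.mk' M y) = ⊤ := by
    rw [← MonoidHom.map_zpowers, ← map_top_of_surjective _ (QuotientGroup.mk'_surjective M), ← htop,
      Subgroup.map_sup, QuotientGroup.map_mk'_self, bot_sup_eq]
  haveI : Group.IsSolvable (G ⧸ M) := by
    refine Group.isSolvable_of_comm fun a b => ?_
    obtain ⟨i, rfl⟩ := mem_zpowers_iff.mp (hz ▸ mem_top a)
    obtain ⟨j, rfl⟩ := mem_zpowers_iff.mp (hz ▸ mem_top b)
    rw [← zpow_add, ← zpow_add, add_comm]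
  exact (Group.isSolvable_iff_subgroup_quotient M).mpr ⟨inferInstance, inferInstance⟩

lemma exists_normalizer_gt {G : Type*} [Group G] [Finite G] {p : ℕ} [Fact p.Prime]
    {D P : Subgroup G} (hP : IsPGroup p P) (h : D < P) :
    ∃ y ∈ P, y ∉ D ∧ y ∈ normalizer (D : Set G) := by
  haveI := hP.isNilpotent
  have hlt : D.subgroupOf P < ⊤ := lt_top_iff_ne_top.mpr fun he => not_le_of_gt h (subgroupOf_eq_top.mp he)
  obtain ⟨y, hy1, hy2⟩ := SetLike.exists_of_lt (Group.normalizerCondition_of_isNilpotent _ hlt)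
  refine ⟨y, y.2, hy2, mem_normalizer_iff.mpr fun z => ⟨fun hz => ?_, fun hz => ?_⟩⟩
  · exact (mem_normalizer_iff.mp hy1 ⟨z, h.le hz⟩).mp hz
  · have hzP : z ∈ P := by
      have := P.mul_mem (P.mul_mem (P.inv_mem y.2) (h.le hz)) y.2
      simpa [mul_assoc] using this
    exact (mem_normalizer_iff.mp hy1 ⟨z, hzP⟩).mpr hz

lemma isPGroup_centralizer {G : Type*} [Group G] [Finite G] (N : Subgroup G)
    (h : ∀ x : G, x ∉ N → IsPrimePow (orderOf x)) {x : G} (hx : x ∉ N) {p : ℕ}
    [Fact p.Prime] (hp : p ∣ orderOf x) : IsPGroup p (centralizer ({x} : Set G)) := by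
  have hp' : p.Prime := Fact.out
  rw [IsPGroup.iff_orderOf]
  intro y
  refine ⟨_, Nat.eq_prime_pow_of_unique_prime_dvd (orderOf_pos y).ne' (fun {q} hq hqy => ?_)⟩
  by_contra hne
  rw [← Subgroup.orderOf_coe] at hqy
  set z : G := (y : G) ^ (orderOf (y : G) / q)
  have hz : orderOf z = q := orderOf_pow_orderOf_div (orderOf_pos _).ne' hqy
  have hc : Commute x z :=
    (Commute.pow_right (show Commute x (y : G) from (mem_centralizer_singleton_iff.mp y.2).symm) _)
  obtain ⟨r, a, hr, -, hra⟩ := h x hx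
  have hpr : p = r :=
    (Nat.prime_dvd_prime_iff_eq hp' (Nat.prime_iff.mpr hr)).mp (hp'.dvd_of_dvd_pow (hra ▸ hp))
  subst hpr
  have hcop : (orderOf x).Coprime q := by
    rw [← hra]
    exact ((Nat.coprime_primes hp' hq).mpr (Ne.symm hne)).pow_left a
  have ho : orderOf (x * z) = orderOf x * q := by
    rw [hc.orderOf_mul_eq_mul_orderOf_of_coprime (hz ▸ hcop), hz]
  have hmem : x * z ∉ N := by
    intro hN
    apply hx
    obtain ⟨e, he⟩ := exists_pow_eq_self_of_coprime (x := x) hcop.symm
    rw [← he]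
    refine N.pow_mem ?_ e
    have := N.pow_mem hN q
    rwa [hc.mul_pow, ← hz, pow_orderOf_eq_one, mul_one, hz] at this
  obtain ⟨s, c, hs, -, hsc⟩ := h _ hmem
  have hs' := Nat.prime_iff.mpr hs
  rw [ho] at hsc
  have e1 := (Nat.prime_dvd_prime_iff_eq hp' hs').mp
    (hp'.dvd_of_dvd_pow (hsc ▸ hp.trans (dvd_mul_right _ _)))
  have e2 := (Nat.prime_dvd_prime_iff_eq hq hs').mp
    (hq.dvd_of_dvd_pow (hsc ▸ dvd_mul_left _ _))
  exact hne (e2.trans e1.symm)

lemma isSolvable_main {G : Type*} [Group G] [Finite G] (N : Subgroup G) [N.Normal] {p : ℕ}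
    [Fact p.Prime] (P₀ : Sylow p G) (hP₀N : ¬ (P₀ : Subgroup G) ≤ N)
    (hN : ∀ x : G, x ∉ N → IsPGroup p (centralizer ({x} : Set G)) ∧
      IsCoatom (centralizer ({x} : Set G)))
    (hidx : ∃ k, N.index = p ^ k) : Group.IsSolvable G := by
  classical
  have hp : p.Prime := Fact.out
  by_contra hns
  have hnn : ∀ M : Subgroup G, IsCoatom M → IsPGroup p M → normalizer (M : Set G) = M := by
    intro M hM hMp
    rcases (le_normalizer (H := M)).lt_or_eq with hlt | heq
    · exact absurd (normalizer_eq_top_iff.mp (hM.2 _ hlt))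
        (fun hn => hns (solvable_of_maximal_pGroup_normal hM hMp hn))
    · exact heq.symm
  -- centralizers are Sylow subgroups
  have hsyl : ∀ x : G, x ∉ N → ∃ S : Sylow p G, (S : Subgroup G) = centralizer ({x} : Set G) := by
    intro x hx
    obtain ⟨S, hS⟩ := (hN x hx).1.exists_le_sylow
    refine ⟨S, ?_⟩
    rcases hS.lt_or_eq with hlt | heq
    · obtain ⟨y, -, hy, hy'⟩ := exists_normalizer_gt S.isPGroup' hlt
      rw [hnn _ (hN x hx).2 (hN x hx).1] at hy'
      exact absurd hy' hy
    · exact heq.symm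
  -- intersections of distinct Sylow subgroups lie in `N`
  have hTI : ∀ D : Subgroup G, ∀ P Q : Sylow p G, P ≠ Q →
      D = (P : Subgroup G) ⊓ (Q : Subgroup G) → D ≤ N := by
    intro D
    induction D using WellFoundedGT.induction with
    | _ D ih =>
      intro P Q hPQ hD
      by_contra hDN
      obtain ⟨d, hdD, hdN⟩ := SetLike.not_le_iff_exists.mp hDN
      have hne : ∀ S T : Sylow p G, S ≠ T → (S : Subgroup G) ⊓ (T : Subgroup G) < S := fun S T hST =>
        lt_of_le_of_ne inf_le_left fun he =>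
          hST (Sylow.ext (S.is_maximal' T.isPGroup' (inf_eq_left.mp he)).symm)
      by_cases hpN : IsPGroup p (normalizer (D : Set G))
      · obtain ⟨R, hR⟩ := hpN.exists_le_sylow
        have key : ∀ S : Sylow p G, D < (S : Subgroup G) → R ≠ S → False := by
          intro S hS hne'
          obtain ⟨y, hyS, hyD, hyN⟩ := exists_normalizer_gt S.isPGroup' hS
          have hlt : D < (R : Subgroup G) ⊓ (S : Subgroup G) :=
            lt_of_le_of_ne (le_inf (le_trans le_normalizer hR) hS.le)
              fun he => hyD (he ▸ ⟨hR hyN, hyS⟩)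
          exact hDN (hlt.le.trans (ih _ hlt R S hne' rfl))
        by_cases hRP : R = P
        · exact key Q (by rw [hD, inf_comm]; exact hne Q P hPQ.symm) (hRP ▸ hPQ)
        · exact key P (hD ▸ hne P Q hPQ) hRP
      · obtain ⟨w, q, hq, hqp, hwo⟩ :
            ∃ (w : normalizer (D : Set G)) (q : ℕ), q.Prime ∧ q ≠ p ∧ orderOf w = q := by
          by_contra hcon
          apply hpN
          rw [IsPGroup.iff_orderOf]
          intro g
          refine ⟨_, Nat.eq_prime_pow_of_unique_prime_dvd (orderOf_pos g).ne' (fun {q} hq hqg => ?_)⟩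
          by_contra hne'
          exact hcon ⟨g ^ (orderOf g / q), q, hq, hne',
            orderOf_pow_orderOf_div (orderOf_pos g).ne' hqg⟩
        rw [← Subgroup.orderOf_coe] at hwo
        haveI := Fact.mk hq
        obtain ⟨k, hk⟩ := hidx
        have hwN : (w : G) ∈ N := by
          rw [← QuotientGroup.eq_one_iff, ← orderOf_eq_one_iff]
          refine Nat.eq_one_of_dvd_coprimes (((Nat.coprime_primes hp hq).mpr (Ne.symm hqp)).pow_left k)
            (hk ▸ ?_) (hwo ▸ orderOf_map_dvd (QuotientGroup.mk' N) (w : G))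
          exact _root_.orderOf_dvd_natCard _
        set S := {y : G // y ∈ D ∧ d⁻¹ * y ∈ N}
        have hinv : ∀ y : G, y ∈ D ∧ d⁻¹ * y ∈ N →
            (w : G) * y * (w : G)⁻¹ ∈ D ∧ d⁻¹ * ((w : G) * y * (w : G)⁻¹) ∈ N := by
          rintro y ⟨h1, h2⟩
          refine ⟨(mem_normalizer_iff.mp w.2 y).mp h1, ?_⟩
          have e : d⁻¹ * ((w : G) * y * (w : G)⁻¹) = (d⁻¹ * y) * (y⁻¹ * (w : G) * y) * (w : G)⁻¹ := by
            group
          rw [e]
          refine N.mul_mem (N.mul_mem h2 ?_) (N.inv_mem hwN)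
          simpa using (inferInstance : N.Normal).conj_mem _ hwN y⁻¹
        let σ : Equiv.Perm S := Equiv.ofBijective (fun y => ⟨_, hinv y.1 y.2⟩)
          (Finite.injective_iff_bijective.mp fun a b hab => Subtype.ext
            (mul_left_cancel (mul_right_cancel (congrArg Subtype.val hab))))
        have hσ : ∀ (n : ℕ) (y : S), ((σ ^ n) y : G) = (w : G) ^ n * y * ((w : G) ^ n)⁻¹ := by
          intro n
          induction n with
          | zero => intro y; simp
          | succ n ih' =>
            intro y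
            rw [pow_succ', Equiv.Perm.mul_apply]
            show (w : G) * ((σ ^ n) y : G) * (w : G)⁻¹ = _
            rw [ih', pow_succ']
            group
        have hσq : σ ^ q ^ 1 = 1 := by
          ext y
          rw [hσ, pow_one, ← hwo, pow_orderOf_eq_one]
          simp
        have hcardS : Nat.card S = Nat.card (N.subgroupOf D) :=
          Nat.card_congr
            { toFun := fun y => ⟨⟨d⁻¹ * y.1, D.mul_mem (D.inv_mem hdD) y.2.1⟩, y.2.2⟩
              invFun := fun y => ⟨d * ((y : D) : G), D.mul_mem hdD (y : D).2, by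
                rw [inv_mul_cancel_left]; exact y.2⟩
              left_inv := fun y => by simp
              right_inv := fun y => by simp }
        have hDp : IsPGroup p D := P.isPGroup'.to_le (hD ▸ inf_le_left)
        obtain ⟨m, hm⟩ := IsPGroup.iff_card.mp (hDp.to_subgroup (N.subgroupOf D))
        haveI : Fintype S := Fintype.ofFinite S
        obtain ⟨⟨y, hyD, hyN⟩, hy⟩ := Equiv.Perm.exists_fixed_point_of_prime (n := 1) (p := q)
          (by
            rw [← Nat.card_eq_fintype_card, hcardS, hm]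
            exact fun hd => hqp ((Nat.prime_dvd_prime_iff_eq hq hp).mp (hq.dvd_of_dvd_pow hd))) hσq
        have hy' : (w : G) * y * (w : G)⁻¹ = y := congrArg Subtype.val hy
        have hyN' : y ∉ N := fun h' => hdN (by
          have := N.mul_mem h' (N.inv_mem hyN)
          simpa using this)
        obtain ⟨j, hj⟩ := IsPGroup.iff_orderOf.mp (hN y hyN').1
          ⟨w, mem_centralizer_singleton_iff.mpr (mul_inv_eq_iff_eq_mul.mp hy')⟩
        rw [← Subgroup.orderOf_coe, hwo] at hj
        exact hqp ((Nat.prime_dvd_prime_iff_eq hq hp).mp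
          (hq.dvd_of_dvd_pow (hj ▸ dvd_rfl : q ∣ p ^ j)))
  have huniq : ∀ (S : Sylow p G) (x : G), x ∈ (S : Subgroup G) → x ∉ N →
      (S : Subgroup G) = centralizer ({x} : Set G) := by
    intro S x hxS hxN
    obtain ⟨T, hT⟩ := hsyl x hxN
    by_cases hST : S = T
    · rw [hST, hT]
    · exact absurd (hTI _ S T hST rfl ⟨hxS, hT ▸ mem_centralizer_singleton_iff.mpr rfl⟩) hxN
  obtain ⟨x₀, hx₀, hx₀N⟩ := SetLike.not_le_iff_exists.mp hP₀N
  have hP₀M := huniq P₀ x₀ hx₀ hx₀N
  have hPco : IsCoatom (P₀ : Subgroup G) := hP₀M ▸ (hN x₀ hx₀N).2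
  have hcent : (P₀ : Subgroup G) ≤ centralizer ((P₀ : Subgroup G) : Set G) := by
    intro a ha
    rw [mem_centralizer_iff]
    intro b hb
    have hcomm : ∀ x ∈ (P₀ : Subgroup G), x ∉ N → ∀ z ∈ (P₀ : Subgroup G), Commute z x :=
      fun x hx hxN z hz => mem_centralizer_singleton_iff.mp (huniq P₀ x hx hxN ▸ hz)
    by_cases haN : a ∈ N
    · have h1 : x₀ * a ∉ N := fun h' => hx₀N (by
        have := N.mul_mem h' (N.inv_mem haN); simpa using this)
      have h2 := hcomm _ ((P₀ : Subgroup G).mul_mem hx₀ ha) h1 b hb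
      have h3 := hcomm x₀ hx₀ hx₀N b hb
      have h4 := h3.inv_right.mul_right h2
      rw [inv_mul_cancel_left] at h4
      exact h4
    · exact hcomm a ha haN b hb
  have hPN : normalizer ((P₀ : Subgroup G) : Set G) ≤ centralizer ((P₀ : Subgroup G) : Set G) :=
    (hnn _ hPco P₀.isPGroup').le.trans hcent
  set K := (MonoidHom.transferSylow P₀ hPN).ker
  have hK : ¬ p ∣ Nat.card K := MonoidHom.not_dvd_card_ker_transferSylow P₀ hPN
  apply hns
  haveI : Group.IsNilpotent K := by
    have hiff : Group.IsNilpotent K ↔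
        ∀ (r : ℕ) (_ : Fact r.Prime) (P : Sylow r K), (P : Subgroup K).Normal :=
      (Group.isNilpotent_of_finite_tfae (G := K)).out 0 3
    refine hiff.mpr fun r hr Q => ?_
    haveI := hr
    set Qi := (Q : Subgroup K).map K.subtype with hQi
    have hF : normalizer (Qi : Set G) ⊔ K = ⊤ := Sylow.normalizer_sup_eq_top Q
    set H := normalizer (Qi : Set G)
    have hidxH : H.index ∣ Nat.card K := by
      have e1 := relIndex_sup_right (H := H) (K := K)
      have e2 := K.card_mul_index
      have e3 := H.card_mul_index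
      have e5 : Nat.card H = K.relIndex H * Nat.card (H ⊓ K : Subgroup G) := by
        rw [← Subgroup.card_mul_index (K.subgroupOf H), mul_comm]
        congr 1
        rw [← inf_subgroupOf_left]
        exact Nat.card_congr (subgroupOfEquivOfLe inf_le_left).toEquiv
      rw [hF, relIndex_top_right] at e1
      rw [← e1] at e5
      rw [e5, ← e2, mul_comm K.index, mul_right_comm] at e3
      have e6 : 0 < K.index := Nat.pos_of_ne_zero index_ne_zero_of_finite
      exact ⟨_, (Nat.eq_of_mul_eq_mul_right e6 (by rw [← e3]; ring))⟩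
    obtain ⟨T⟩ : Nonempty (Sylow p H) := Sylow.nonempty
    obtain ⟨S, hS⟩ := (T.isPGroup'.map H.subtype).exists_le_sylow
    have hST : (S : Subgroup G) ≤ H := by
      have h1 : Nat.card S ∣ Nat.card H := by
        have h2 : (Nat.card S).Coprime H.index := by
          obtain ⟨j, hj⟩ := IsPGroup.iff_card.mp S.isPGroup'
          rw [hj]
          exact ((hp.coprime_iff_not_dvd).mpr fun h => hK (h.trans hidxH)).pow_left j
        exact h2.dvd_of_dvd_mul_right (H.card_mul_index ▸ (S : Subgroup G).card_subgroup_dvd_card)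
      have h2 : Nat.card S ≤ Nat.card ((T : Subgroup H).map H.subtype) := by
        obtain ⟨j, hj⟩ := IsPGroup.iff_card.mp S.isPGroup'
        rw [card_map_of_injective H.subtype_injective]
        exact Nat.le_of_dvd Nat.card_pos (hj ▸ T.pow_dvd_card_of_pow_dvd_card (hj ▸ h1))
      exact (Subgroup.eq_of_le_of_card_ge hS h2).symm.le.trans (map_subtype_le _)
    obtain ⟨g, hg⟩ := MulAction.exists_smul_eq G P₀ S
    have hSy : g * x₀ * g⁻¹ ∈ (S : Subgroup G) := by
      rw [← hg]
      exact Subgroup.smul_mem_pointwise_smul (a := MulAut.conj g) x₀ _ hx₀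
    have hyN : g * x₀ * g⁻¹ ∉ N := fun h' => hx₀N (by
      have := (inferInstance : N.Normal).conj_mem _ h' g⁻¹
      simpa [mul_assoc] using this)
    have hSco : IsCoatom (S : Subgroup G) := (huniq S _ hSy hyN) ▸ (hN _ hyN).2
    rcases hST.lt_or_eq with hlt | heq
    · haveI := normalizer_eq_top_iff.mp (hSco.2 _ hlt)
      have : (Q : Subgroup K) = Qi.subgroupOf K := by
        rw [hQi, subgroupOf, comap_map_eq_self_of_injective K.subtype_injective]
      rw [this]
      infer_instance
    · have hbot : Qi = ⊥ := by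
        have h1 : Qi ≤ (S : Subgroup G) := heq ▸ le_normalizer
        obtain ⟨j, hj⟩ := IsPGroup.iff_card.mp (S.isPGroup'.to_le h1)
        rw [← Subgroup.card_eq_one, hj]
        rcases j with _ | j
        · rfl
        · refine absurd ?_ hK
          refine (dvd_pow_self p j.succ_ne_zero).trans (hj ▸ ?_)
          exact (card_map_of_injective K.subtype_injective (K := (Q : Subgroup K))) ▸
            (Q : Subgroup K).card_subgroup_dvd_card
      rw [hQi, map_eq_bot_iff_of_injective _ K.subtype_injective] at hbot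
      rw [hbot]
      infer_instance
  haveI : Group.IsSolvable (G ⧸ K) := by
    haveI : IsMulCommutative (P₀ : Subgroup G) :=
      ⟨⟨fun a b => Subtype.ext (mem_centralizer_iff.mp (hcent b.2) a a.2)⟩⟩
    refine Group.isSolvable_of_comm fun a b => ?_
    apply QuotientGroup.kerLift_injective (MonoidHom.transferSylow P₀ hPN)
    rw [map_mul, map_mul]
    exact mul_comm' _ _
  exact (Group.isSolvable_iff_subgroup_quotient K).mpr ⟨inferInstance, inferInstance⟩

/-- Let N be a proper normal subgroup of the finite group G such that every element x of G outside N has prime power order and has centralizer C_G(x) a maximal subgroup of G. Then N is solvable. -/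
theorem result {G : Type*} [Group G] [Finite G] (N : Subgroup G) [N.Normal] (hN : N ≠ ⊤)
    (h : ∀ x : G, x ∉ N → IsPrimePow (orderOf x) ∧ IsCoatom (Subgroup.centralizer ({x} : Set G))) : Group.IsSolvable ↥N := by
  classical
  obtain ⟨x, -, hx⟩ := SetLike.exists_of_lt (lt_top_iff_ne_top.mpr hN)
  obtain ⟨p, a, hp, ha, hpa⟩ := (h x hx).1
  haveI := Fact.mk (Nat.prime_iff.mpr hp)
  have hpx : p ∣ orderOf x := hpa ▸ dvd_pow_self p ha.ne'
  set M := centralizer ({x} : Set G)
  have hMp : IsPGroup p M := isPGroup_centralizer N (fun y hy => (h y hy).1) hx hpx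
  by_cases hNM : N ≤ M
  · haveI := (hMp.to_le hNM).isNilpotent
    infer_instance
  have htop : M ⊔ N = ⊤ := (h x hx).2.2 _ (left_lt_sup.mpr hNM)
  have hidx : ∃ k, N.index = p ^ k := by
    obtain ⟨k, hk⟩ := IsPGroup.iff_card.mp hMp
    have h1 : N.index ∣ Nat.card M := by
      rw [← relIndex_top_right, ← htop, relIndex_sup_right]
      exact Subgroup.relIndex_dvd_card _ _
    obtain ⟨j, -, hj⟩ := (Nat.dvd_prime_pow (Fact.out : p.Prime)).mp (hk ▸ h1)
    exact ⟨j, hj⟩
  obtain ⟨P, hP⟩ := hMp.exists_le_sylow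
  suffices Group.IsSolvable G by infer_instance
  refine isSolvable_main N P (fun hle => hx (hle (hP (mem_centralizer_singleton_iff.mpr rfl))))
    (fun y hy => ⟨?_, (h y hy).2⟩) hidx
  refine isPGroup_centralizer N (fun z hz => (h z hz).1) hy ?_
  obtain ⟨k, hk⟩ := hidx
  have h2 : orderOf (QuotientGroup.mk' N y) ∣ p ^ k := hk ▸ _root_.orderOf_dvd_natCard _
  obtain ⟨j, -, hj⟩ := (Nat.dvd_prime_pow (Fact.out : p.Prime)).mp h2
  rcases j with _ | j
  · rw [pow_zero, orderOf_eq_one_iff, QuotientGroup.mk'_apply, QuotientGroup.eq_one_iff] at hj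
    exact absurd hj hy
  · exact ((dvd_pow_self p j.succ_ne_zero).trans (hj.symm.dvd)).trans (orderOf_map_dvd _ y)

end Cfsg.Agent.S3903
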