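import Cfsg.Statements.S3904
import Cfsg.Agent.Lib.Classes23.CentStructure

set_option autoImplicit false
open Cfsg

namespace Cfsg.Agent.S3904

open Subgroup Cfsg.Agent.Classes23

universe u in
/-- Maximal centralizers give a centralizer system on the central quotient. -/
theorem exists_centSys {G : Type u} [Group G] [Finite G]
    (h : ∀ x : G, x ∉ Subgroup.center G → IsCoatom (Subgroup.centralizer ({x} : Set G))) :
    Nonempty (CentSys (G ⧸ Subgroup.center G)) := by
  let f := QuotientGroup.mk' (center G)
  have hfs : Function.Surjective f := QuotientGroup.mk'_surjective _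
  have hker : ∀ g : G, f.ker ≤ centralizer ({g} : Set G) := fun g => by
    rw [QuotientGroup.ker_mk']; exact center_le_centralizer _
  let M : G ⧸ center G → Subgroup (G ⧸ center G) := fun q =>
    (centralizer ({q.out} : Set G)).map f
  have hwell : ∀ g : G, M (f g) = (centralizer ({g} : Set G)).map f := by
    intro g
    have h1 : (f g).out⁻¹ * g ∈ center G := QuotientGroup.eq.mp (QuotientGroup.out_eq' _)
    show (centralizer ({(f g).out} : Set G)).map f = _
    congr 1
    set o := (f g).out with ho
    set z := o⁻¹ * g with hz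
    have hg : g = o * z := by simp [hz]
    ext c
    rw [mem_centralizer_singleton_iff, mem_centralizer_singleton_iff, hg, ← mul_assoc c o z,
      mul_assoc o z c, ← mem_center_iff.mp h1 c, ← mul_assoc o c z]
    exact ⟨fun e => by rw [e], fun e => mul_right_cancel e⟩
  have hmem : ∀ g c : G, f c ∈ M (f g) ↔ c ∈ centralizer ({g} : Set G) := by
    intro g c
    rw [hwell, ← mem_comap, comap_map_eq_self (hker g)]
  have hnc : ∀ g : G, f g ≠ 1 → g ∉ center G := fun g hg hc => hg ((QuotientGroup.eq_one_iff g).mpr hc)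
  refine ⟨⟨M, ?_, ?_, ?_, ?_, ?_, ?_⟩⟩
  · intro q hq
    obtain ⟨g, rfl⟩ := hfs q
    rw [hwell]
    have hco := h g (hnc g hq)
    refine ⟨fun htop => hco.1 ?_, fun L hL => ?_⟩
    · rw [← comap_map_eq_self (hker g), htop, comap_top]
    · have h2 : centralizer ({g} : Set G) < L.comap f := by
        rw [← comap_map_eq_self (hker g)]
        exact comap_lt_comap_of_surjective hfs |>.mpr hL
      rw [← map_comap_eq_self_of_surjective hfs L, hco.2 _ h2, map_top_of_surjective f hfs]
  · intro a b _ _ hb
    obtain ⟨g, rfl⟩ := hfs a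
    obtain ⟨c, rfl⟩ := hfs b
    rw [hmem, mem_centralizer_singleton_iff] at hb ⊢
    exact hb.symm
  · intro a b _ hb
    obtain ⟨g, rfl⟩ := hfs a
    obtain ⟨c, rfl⟩ := hfs b
    rw [hmem, mem_centralizer_singleton_iff] at hb
    exact (show Commute g c from hb.symm).map f
  · intro a
    obtain ⟨g, rfl⟩ := hfs a
    rw [hmem, mem_centralizer_singleton_iff]
  · intro a b _ _ _ q hq
    obtain ⟨g, rfl⟩ := hfs a
    obtain ⟨c, rfl⟩ := hfs b
    obtain ⟨d, rfl⟩ := hfs q
    rw [mem_inf, hmem, hmem, mem_centralizer_singleton_iff, mem_centralizer_singleton_iff] at hq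
    rw [← map_mul, hmem, mem_centralizer_singleton_iff, ← mul_assoc, hq.1, mul_assoc, hq.2,
      mul_assoc]
  · intro a b _
    obtain ⟨g, rfl⟩ := hfs b
    obtain ⟨c, rfl⟩ := hfs a
    ext q
    obtain ⟨d, rfl⟩ := hfs q
    rw [← map_inv, ← map_mul, ← map_mul, hmem, mem_map_equiv, MulAut.conj_symm_apply, ← map_inv,
      ← map_mul, ← map_mul, hmem, mem_centralizer_singleton_iff, mem_centralizer_singleton_iff]
    constructor
    · intro e
      calc c⁻¹ * d * c * g = c⁻¹ * (d * (c * g * c⁻¹)) * c := by simp [mul_assoc]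
        _ = c⁻¹ * (c * g * c⁻¹ * d) * c := by rw [e]
        _ = g * (c⁻¹ * d * c) := by simp [mul_assoc]
    · intro e
      calc d * (c * g * c⁻¹) = c * (c⁻¹ * d * c * g) * c⁻¹ := by simp [mul_assoc]
        _ = c * (g * (c⁻¹ * d * c)) * c⁻¹ := by rw [e]
        _ = c * g * c⁻¹ * d := by simp [mul_assoc]

/-- Let G be a non-abelian finite group in which the centralizer of every non-central element is a maximal subgroup. Then G/Z(G) is either an elementary abelian p-group for some prime p, or a minimal non-abelian group (non-abelian with all proper subgroups abelian) of order p^a · q for distinct primes p, q with a normal Sylow p-subgroup. -/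
theorem result {G : Type*} [Group G] [Finite G] (hna : ¬ IsMulCommutative G)
    (h : ∀ x : G, x ∉ Subgroup.center G → IsCoatom (Subgroup.centralizer ({x} : Set G))) :
    (∃ p : ℕ, p.Prime ∧ Cfsg.IsElementaryAbelian p (⊤ : Subgroup (G ⧸ Subgroup.center G))) ∨
    (¬ IsMulCommutative (G ⧸ Subgroup.center G) ∧ (∀ H : Subgroup (G ⧸ Subgroup.center G), H ≠ ⊤ → IsMulCommutative ↥H) ∧
      ∃ p q a : ℕ, p.Prime ∧ q.Prime ∧ p ≠ q ∧ Nat.card (G ⧸ Subgroup.center G) = p ^ a * q ∧
        ∀ P : Subgroup (G ⧸ Subgroup.center G), Nat.card ↥P = p ^ a → P.Normal) := by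
  obtain ⟨S⟩ := exists_centSys h
  haveI : Nontrivial (G ⧸ Subgroup.center G) := by
    rw [QuotientGroup.nontrivial_iff]
    intro htop
    exact hna ⟨⟨fun a b => (Subgroup.mem_center_iff.mp (htop ▸ Subgroup.mem_top a) b).symm⟩⟩
  exact S.structure_of_centSys

end Cfsg.Agent.S3904
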