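import Cfsg.Statements.S3905
import Cfsg.Agent.Lib.OddLocal.UniqueF
import Cfsg.Agent.Lib.Cover23.Nilpotent
import Cfsg.Agent.Lib.ConjFunctor.Basic
import Cfsg.Agent.Lib.Basics.Cores
import Cfsg.Agent.S0042

set_option autoImplicit false
open Cfsg

namespace Cfsg.Agent.S3905

open Subgroup Cfsg Cfsg.Agent
open scoped Pointwise commutatorElement
open Cfsg.Agent.ConjFunctor (cj mem_cj cj_mul cj_one cj_eq_iff conj_mem_cj)

set_option linter.style.haveILetI false
set_option linter.unusedSectionVars false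
set_option linter.unusedVariables false

variable {G : Type*} [Group G] [Finite G]

/-- The part of `N` central in `N`. -/
abbrev ZN (N : Subgroup G) : Subgroup G := N ⊓ centralizer (N : Set G)

/-- The centralizer of `x` in `N`. -/
abbrev Cn (N : Subgroup G) (x : G) : Subgroup G := N ⊓ centralizer ({x} : Set G)

/-- Every element has a `p`-power in the centre of `N`. -/
def PType (N : Subgroup G) (p : ℕ) (S : Subgroup G) : Prop := ∀ y ∈ S, ∃ k, y ^ p ^ k ∈ ZN N

/-- Noncentral elements have maximal centralizers. -/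
def MaxCent (N : Subgroup G) : Prop :=
  ∀ x : G, x ∈ N → x ∉ centralizer (N : Set G) → IsCoatom (centralizer ({x} : Set G))

theorem sup_le_normalizer {A B X : Subgroup G} (hA : X ≤ normalizer (A : Set G)) (hB : X ≤ normalizer (B : Set G)) :
    X ≤ normalizer ((A ⊔ B : Subgroup G) : Set G) := fun g hg => cj_eq_iff.mp (by
  show (A ⊔ B).map _ = A ⊔ B
  rw [Subgroup.map_sup]
  congr 1
  · exact cj_eq_iff.mpr (hA hg)
  · exact cj_eq_iff.mpr (hB hg))

variable {N : Subgroup G}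

theorem ZN_comm {z y : G} (hz : z ∈ ZN N) (hy : y ∈ N) : Commute z y :=
  (mem_centralizer_iff.mp hz.2 y hy).symm

theorem ZN_le_Cn {x : G} (hx : x ∈ N) : ZN N ≤ Cn N x := fun z hz =>
  ⟨hz.1, mem_centralizer_singleton_iff.mpr (ZN_comm hz hx).eq⟩

theorem mem_Cn {x y : G} : y ∈ Cn N x ↔ y ∈ N ∧ Commute y x :=
  ⟨fun h => ⟨h.1, mem_centralizer_singleton_iff.mp h.2⟩, fun h => ⟨h.1, mem_centralizer_singleton_iff.mpr h.2.eq⟩⟩

theorem self_mem_Cn {x : G} (hx : x ∈ N) : x ∈ Cn N x := mem_Cn.mpr ⟨hx, Commute.refl x⟩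

theorem Cn_ne {x : G} (hx : x ∈ N) (hxz : x ∉ ZN N) : Cn N x ≠ N := fun e =>
  hxz ⟨hx, mem_centralizer_iff.mpr fun y hy => (mem_Cn.mp (e.ge hy)).2.eq⟩

theorem mem_ZN_of_forall {c : G} (hc : c ∈ N) (h : ∀ x ∈ N, x ∉ ZN N → c ∈ Cn N x) : c ∈ ZN N := by
  refine ⟨hc, mem_centralizer_iff.mpr fun y hy => ?_⟩
  by_cases hyz : y ∈ ZN N
  · exact (ZN_comm hyz hc).eq
  · exact (mem_Cn.mp (h y hy hyz)).2.symm.eq

theorem exists_prime_part {x : G} {H : Subgroup G} (hxH : x ∉ H) :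
    ∃ q : ℕ, q.Prime ∧ ∃ k j : ℕ, x ^ k ∉ H ∧ (x ^ k) ^ q ^ j = 1 := by
  by_contra! hcon
  refine hxH (OddLocal.le_of_pElements_mem (X := zpowers x) (fun s hs b hb ⟨j, hj⟩ => ?_) (mem_zpowers x))
  obtain ⟨k, rfl⟩ := (isOfFinOrder_of_finite x).mem_powers_iff_mem_zpowers.mpr hb
  exact by_contra fun hbH => hcon s hs k j hbH hj

theorem coprime_of_pow {a b : G} {p q i j : ℕ} (hp : p.Prime) (hq : q.Prime) (hne : p ≠ q)
    (ha : a ^ p ^ i = 1) (hb : b ^ q ^ j = 1) : (orderOf a).Coprime (orderOf b) :=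
  ((Nat.coprime_pow_primes i j hp hq hne).coprime_dvd_left (orderOf_dvd_of_pow_eq_one ha)).coprime_dvd_right
    (orderOf_dvd_of_pow_eq_one hb)

theorem PType.eq_one_or_mem {p q : ℕ} {S : Subgroup G} (hS : PType N p S) (hp : p.Prime) (hq : q.Prime)
    (hne : q ≠ p) {y : G} (hy : y ∈ S) {j : ℕ} (hyq : y ^ q ^ j = 1) : y ∈ ZN N := by
  obtain ⟨k, hk⟩ := hS y hy
  obtain ⟨m, hm⟩ := exists_pow_eq_self_of_coprime (x := y) (n := p ^ k)
    ((Nat.coprime_pow_primes k j hp hq (Ne.symm hne)).coprime_dvd_right (orderOf_dvd_of_pow_eq_one hyq))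
  exact hm ▸ pow_mem hk m

theorem ptype_nilpotent {p : ℕ} [Fact p.Prime] {S : Subgroup G} (hSN : S ≤ N) (hS : PType N p S) :
    Group.IsNilpotent S := by
  set Z' := (ZN N).subgroupOf S
  have hc : Z' ≤ center S := fun z hz => mem_center_iff.mpr fun s => Subtype.ext (ZN_comm hz (hSN s.2)).eq.symm
  haveI : Z'.Normal := ⟨fun z hz g => by rwa [mem_center_iff.mp (hc hz) g, mul_inv_cancel_right]⟩
  haveI : Group.IsNilpotent (S ⧸ Z') := by
    refine IsPGroup.isNilpotent (p := p) fun q => ?_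
    obtain ⟨s, rfl⟩ := QuotientGroup.mk'_surjective Z' q
    obtain ⟨k, hk⟩ := hS s s.2
    exact ⟨k, by rw [← map_pow]; exact (QuotientGroup.eq_one_iff _).mpr hk⟩
  exact Subgroup.isNilpotent_of_ker_le_center (QuotientGroup.mk' Z') (by rwa [QuotientGroup.ker_mk'])

/-- A maximal subgroup of a nilpotent group contains commutators and, in the `p`-type case, `p`-th powers. -/
theorem exists_over {S B : Subgroup G} (hS : Group.IsNilpotent S) (hBS : B ≤ S) (hne : B ≠ S) :
    ∃ B' : Subgroup G, B ≤ B' ∧ B' ≤ S ∧ B' ≠ S ∧ (∀ a ∈ S, ∀ b ∈ S, ⁅a, b⁆ ∈ B') ∧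
      ∀ a ∈ S, ∀ p k : ℕ, p.Prime → a ^ p ^ k ∈ B → a ^ p ∈ B' := by
  haveI := hS
  obtain ⟨M, hM, hle⟩ := (eq_top_or_exists_le_coatom (B.subgroupOf S)).resolve_left
    (fun e => hne (le_antisymm hBS (subgroupOf_eq_top.mp e)))
  haveI : M.Normal := NormalizerCondition.normal_of_coatom M Group.normalizerCondition_of_isNilpotent hM
  obtain ⟨s, hs⟩ : ∃ s : S, s ∉ M := by
    by_contra! hall
    exact hM.1 (eq_top_iff.mpr fun x _ => hall x)
  have hgen : ∀ t : S, t ∉ M → ∀ x : S, ∃ i : ℤ, ((x : S) : S ⧸ M) = (t : S ⧸ M) ^ i := by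
    intro t ht x
    have h : x ∈ M ⊔ zpowers t := by
      rw [hM.2 (M ⊔ zpowers t) (lt_of_le_of_ne le_sup_left fun e => ht (e ▸ mem_sup_right (mem_zpowers t)))]
      exact mem_top x
    obtain ⟨m, hm, u, ⟨i, rfl⟩, rfl⟩ := mem_sup_of_normal_left.mp h
    refine ⟨i, ?_⟩
    rw [QuotientGroup.mk_mul, (QuotientGroup.eq_one_iff m).mpr hm, one_mul]
    exact QuotientGroup.mk_zpow M t i
  refine ⟨M.map S.subtype, fun b hb => ⟨⟨b, hBS hb⟩, hle hb, rfl⟩, map_subtype_le _, fun e => hM.1 ?_,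
    fun a ha b hb => ⟨⁅(⟨a, ha⟩ : S), ⟨b, hb⟩⁆, (QuotientGroup.eq_one_iff _).mp ?_, rfl⟩, fun a ha p k hp hk => ?_⟩
  · apply map_injective S.subtype_injective
    rw [e, ← MonoidHom.range_eq_map, range_subtype]
  · show QuotientGroup.mk' M ⁅(⟨a, ha⟩ : S), ⟨b, hb⟩⁆ = 1
    obtain ⟨i, hi⟩ := hgen s hs ⟨a, ha⟩
    obtain ⟨j, hj⟩ := hgen s hs ⟨b, hb⟩
    rw [map_commutatorElement, commutatorElement_eq_one_iff_mul_comm, QuotientGroup.mk'_apply,
      QuotientGroup.mk'_apply, hi, hj]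
    exact ((Commute.refl _).zpow_zpow i j).eq
  · refine ⟨⟨a, ha⟩ ^ p, (QuotientGroup.eq_one_iff _).mp ?_, rfl⟩
    set u : S ⧸ M := ((⟨a, ha⟩ : S) : S ⧸ M) with hu
    show u ^ p = 1
    have huk : u ^ p ^ k = 1 := (QuotientGroup.eq_one_iff ((⟨a, ha⟩ : S) ^ p ^ k)).mpr (hle hk)
    by_contra hne1
    have hw : (⟨a, ha⟩ : S) ^ p ∉ M := fun h => hne1 ((QuotientGroup.eq_one_iff _).mpr h)
    obtain ⟨i, hi⟩ := hgen _ hw ⟨a, ha⟩
    have h1 : u ^ ((p : ℤ) * i - 1) = 1 := by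
      rw [zpow_sub_one, zpow_mul, zpow_natCast, show (u ^ p) ^ i = u from hi.symm, mul_inv_cancel]
    have h2 : (orderOf u : ℤ) ∣ (p : ℤ) * i - 1 := orderOf_dvd_iff_zpow_eq_one.mpr h1
    obtain ⟨m, -, hm⟩ := (Nat.dvd_prime_pow hp).mp (orderOf_dvd_of_pow_eq_one huk)
    rcases m with _ | m
    · exact hne1 (by rw [show u = 1 from orderOf_eq_one_iff.mp (by simpa using hm), one_pow])
    · have h3 : (p : ℤ) ∣ (p : ℤ) * i - 1 :=
        (Int.natCast_dvd_natCast.mpr (hm ▸ dvd_pow_self p m.succ_ne_zero)).trans h2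
      have h4 : (p : ℤ) ∣ 1 := (dvd_sub_right (dvd_mul_right _ _)).mp h3
      exact hp.ne_one (Nat.dvd_one.mp (Int.natCast_dvd_natCast.mp (by exact_mod_cast h4)))

section
variable [hN : N.Normal] (hmax : MaxCent N)
include hN hmax

theorem coatom {x : G} (hx : x ∈ N) (hxz : x ∉ ZN N) : IsCoatom (centralizer ({x} : Set G)) :=
  hmax x hx fun h => hxz ⟨hx, h⟩

theorem C_eq_of_le {a b : G} (ha : a ∈ N) (haz : a ∉ ZN N) (hb : b ∈ N) (hbz : b ∉ ZN N)
    (h : centralizer ({a} : Set G) ≤ centralizer ({b} : Set G)) :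
    centralizer ({a} : Set G) = centralizer ({b} : Set G) := by
  rcases eq_or_lt_of_le h with e | e
  · exact e
  · exact absurd ((coatom hmax ha haz).2 _ e) (coatom hmax hb hbz).1

theorem C_pow {a : G} (ha : a ∈ N) (k : ℕ) (hk : a ^ k ∉ ZN N) :
    centralizer ({a} : Set G) = centralizer ({a ^ k} : Set G) :=
  C_eq_of_le hmax ha (fun h => hk (pow_mem h k)) (pow_mem ha k) hk fun g hg =>
    mem_centralizer_singleton_iff.mpr ((show Commute g a from mem_centralizer_singleton_iff.mp hg).pow_right k).eq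

theorem Cn_pow {a : G} (ha : a ∈ N) (k : ℕ) (hk : a ^ k ∉ ZN N) : Cn N a = Cn N (a ^ k) :=
  congrArg (N ⊓ ·) (C_pow hmax ha k hk)

theorem C_eq_of_commute {a b : G} {p q i j : ℕ} (hp : p.Prime) (hq : q.Prime) (hne : p ≠ q)
    (ha : a ∈ N) (haz : a ∉ ZN N) (hb : b ∈ N) (hbz : b ∉ ZN N) (hap : a ^ p ^ i = 1) (hbq : b ^ q ^ j = 1)
    (hab : Commute a b) : centralizer ({a} : Set G) = centralizer ({b} : Set G) := by
  have hco := coprime_of_pow hp hq hne hap hbq
  have habz : a * b ∉ ZN N := fun h => haz (Cover23.mem_of_mul_mem hab hco h).1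
  have hgen : ∀ g ∈ centralizer ({a * b} : Set G), Commute g a ∧ Commute g b := fun g hg => by
    have := Cover23.mem_of_mul_mem (A := centralizer ({g} : Set G)) hab hco
      (mem_centralizer_singleton_iff.mpr (mem_centralizer_singleton_iff.mp hg).symm)
    exact ⟨(mem_centralizer_singleton_iff.mp this.1).symm, (mem_centralizer_singleton_iff.mp this.2).symm⟩
  rw [← C_eq_of_le hmax (N.mul_mem ha hb) habz ha haz fun g hg => mem_centralizer_singleton_iff.mpr (hgen g hg).1.eq,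
    C_eq_of_le hmax (N.mul_mem ha hb) habz hb hbz fun g hg => mem_centralizer_singleton_iff.mpr (hgen g hg).2.eq]

theorem top_of_normalized {x : G} (hx : x ∈ N) (hxz : x ∉ ZN N) {H : Subgroup G}
    (hM : centralizer ({x} : Set G) ≤ normalizer (H : Set G)) (hNH : N ≤ normalizer (H : Set G)) : H.Normal := by
  refine normalizer_eq_top_iff.mp ((coatom hmax hx hxz).2 _ (lt_of_le_of_ne hM fun e => hxz ⟨hx, ?_⟩))
  exact mem_centralizer_iff.mpr fun y hy => mem_centralizer_singleton_iff.mp (e.ge (hNH hy))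

theorem dich_max {x : G} (hx : x ∈ N) (hxz : x ∉ ZN N) {H : Subgroup G} (hHN : H ≤ N) (hle : Cn N x ≤ H)
    (hM : centralizer ({x} : Set G) ≤ normalizer (H : Set G)) : H = Cn N x ∨ H = N := by
  set M := centralizer ({x} : Set G)
  rcases eq_or_lt_of_le (le_sup_right : M ≤ H ⊔ M) with e | e
  · exact Or.inl (le_antisymm (le_inf hHN (sup_eq_right.mp e.symm)) hle)
  · refine Or.inr (le_antisymm hHN fun n hn => ?_)
    have h1 : n ∈ H ⊔ M := by rw [(coatom hmax hx hxz).2 _ e]; exact mem_top n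
    obtain ⟨a, ha, m, hm, rfl⟩ := (Basics.mem_sup_of_le_normalizer hM).mp h1
    exact H.mul_mem ha (hle ⟨(N.mul_mem_cancel_left (hHN ha)).mp hn, hm⟩)

theorem Cn_normalized {x : G} : centralizer ({x} : Set G) ≤ normalizer (Cn N x : Set G) :=
  (le_inf (by rw [normalizer_eq_top_iff.mpr hN]; exact le_top) le_normalizer).trans OddLocal.le_normalizer_inf'

theorem dich_normal {x : G} (hx : x ∈ N) (hxz : x ∉ ZN N) {L : Subgroup G} [L.Normal] (hLN : L ≤ N) :
    L ≤ Cn N x ∨ Cn N x ⊔ L = N := by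
  rcases dich_max hmax hx hxz (sup_le inf_le_left hLN) le_sup_left
    (sup_le_normalizer (Cn_normalized hmax) (by rw [normalizer_eq_top_iff.mpr inferInstance]; exact le_top)) with h | h
  · exact Or.inl (le_sup_right.trans h.le)
  · exact Or.inr h

/-- In a nilpotent normal subgroup the commutators and `p`-th powers are central in `N`. -/
theorem small {S : Subgroup G} [hSn : S.Normal] (hSN : S ≤ N) (hS : Group.IsNilpotent S) :
    (∀ a ∈ S, ∀ b ∈ S, ⁅a, b⁆ ∈ ZN N) ∧
      ∀ p : ℕ, p.Prime → PType N p S → ∀ a ∈ S, a ^ p ∈ ZN N := by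
  have key : ∀ gens : Set G, gens ⊆ S → (∀ g : G, ∀ v ∈ gens, g * v * g⁻¹ ∈ gens) →
      (∀ x ∈ N, x ∉ ZN N → S ⊓ Cn N x ≠ S → ∃ B : Subgroup G, S ⊓ Cn N x ≤ B ∧ B ≤ S ∧ B ≠ S ∧ gens ⊆ B) →
      gens ⊆ ZN N := by
    intro gens hgS hconj hB c hc
    haveI : (closure gens).Normal := ⟨fun v hv g => by
      have : closure gens ≤ (closure gens).comap (MulAut.conj g).toMonoidHom :=
        (closure_le _).mpr fun w hw => subset_closure (hconj g w hw)
      exact this hv⟩
    have hLS : closure gens ≤ S := (closure_le _).mpr hgS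
    refine mem_ZN_of_forall (hSN (hgS hc)) fun x hx hxz => ?_
    rcases dich_normal hmax hx hxz (hLS.trans hSN) with h | h
    · exact h (subset_closure hc)
    by_cases he : S ⊓ Cn N x = S
    · exact inf_eq_left.mp he (hgS hc)
    obtain ⟨B, hle, hBS, hne, hgB⟩ := hB x hx hxz he
    refine absurd (le_antisymm hBS fun s hs => ?_) hne
    obtain ⟨d, hd, l, hl, rfl⟩ := mem_sup_of_normal_right.mp (h.ge (hSN hs))
    exact B.mul_mem (hle ⟨(S.mul_mem_cancel_right (hLS hl)).mp hs, hd⟩) ((closure_le _).mpr hgB hl)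
  refine ⟨fun a ha b hb => key {v | ∃ a ∈ S, ∃ b ∈ S, v = ⁅a, b⁆} ?_ ?_ ?_ ⟨a, ha, b, hb, rfl⟩,
    fun p hp hpt a ha => key {v | ∃ a ∈ S, v = a ^ p} ?_ ?_ ?_ ⟨a, ha, rfl⟩⟩
  · rintro _ ⟨a, ha, b, hb, rfl⟩
    rw [commutatorElement_def]
    exact mul_mem (mul_mem (mul_mem ha hb) (inv_mem ha)) (inv_mem hb)
  · rintro g _ ⟨a, ha, b, hb, rfl⟩
    exact ⟨_, hSn.conj_mem a ha g, _, hSn.conj_mem b hb g, by simp [commutatorElement_def, mul_assoc]⟩
  · intro x hx hxz hne
    obtain ⟨B, h1, h2, h3, h4, -⟩ := exists_over hS inf_le_left hne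
    exact ⟨B, h1, h2, h3, by rintro _ ⟨a, ha, b, hb, rfl⟩; exact h4 a ha b hb⟩
  · rintro _ ⟨a, ha, rfl⟩
    exact pow_mem ha p
  · rintro g _ ⟨a, ha, rfl⟩
    exact ⟨_, hSn.conj_mem a ha g, conj_pow.symm⟩
  · intro x hx hxz hne
    obtain ⟨B, h1, h2, h3, -, h5⟩ := exists_over hS inf_le_left hne
    refine ⟨B, h1, h2, h3, ?_⟩
    rintro _ ⟨a, ha, rfl⟩
    obtain ⟨k, hk⟩ := hpt a ha
    exact h5 a ha p k hp ⟨pow_mem ha _, ZN_le_Cn hx hk⟩

/-- Centralizers in `N` are abelian or of `p`-type. -/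
theorem structure_Cn {x : G} (hx : x ∈ N) (hxz : x ∉ ZN N) :
    (∀ a ∈ Cn N x, ∀ b ∈ Cn N x, a * b = b * a) ∨ ∃ p : ℕ, p.Prime ∧ PType N p (Cn N x) := by
  obtain ⟨p, hp, k, i, hk, hki⟩ := exists_prime_part hxz
  rw [Cn_pow hmax hx k hk]
  set a := x ^ k
  have haN : a ∈ N := pow_mem hx k
  set D := Cn N a with hD
  by_cases hmix : ∃ b ∈ D, ∃ q j : ℕ, q.Prime ∧ q ≠ p ∧ b ^ q ^ j = 1 ∧ b ∉ ZN N
  · left
    obtain ⟨b, hb, q, j, hq, hqp, hbq, hbz⟩ := hmix
    have hab : centralizer ({b} : Set G) = centralizer ({a} : Set G) :=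
      C_eq_of_commute hmax hq hp hqp hb.1 hbz haN hk hbq hki (mem_Cn.mp hb).2
    have hcen : D ≤ centralizer (D : Set G) := by
      refine OddLocal.le_of_pElements_mem fun r hr c hc ⟨l, hl⟩ => mem_centralizer_iff.mpr fun d hd => ?_
      by_cases hcz : c ∈ ZN N
      · exact (ZN_comm hcz hd.1).eq.symm
      have hca : centralizer ({c} : Set G) = centralizer ({a} : Set G) := by
        by_cases hrp : r = p
        · subst hrp
          rw [← hab]
          refine C_eq_of_commute hmax hr hq (Ne.symm hqp) hc.1 hcz hb.1 hbz hl hbq ?_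
          have h1 : c ∈ centralizer ({b} : Set G) := hab ▸ hc.2
          exact mem_centralizer_singleton_iff.mp h1
        · exact C_eq_of_commute hmax hr hp hrp hc.1 hcz haN hk hl hki (mem_Cn.mp hc).2
      have h1 : d ∈ centralizer ({c} : Set G) := hca ▸ hd.2
      exact mem_centralizer_singleton_iff.mp h1
    exact fun c hc d hd => (mem_centralizer_iff.mp (hcen hc) d hd).symm
  · right
    push Not at hmix
    refine ⟨p, hp, fun y hy => ⟨(orderOf y).factorization p, ?_⟩⟩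
    set w := y ^ p ^ (orderOf y).factorization p
    have hw : ¬ p ∣ orderOf w := by
      rw [orderOf_pow_of_dvd (pow_ne_zero _ hp.ne_zero) (Nat.ordProj_dvd _ _)]
      exact Nat.not_dvd_ordCompl hp (orderOf_pos y).ne'
    refine OddLocal.le_of_pElements_mem (X := zpowers w) (fun s hs c hc ⟨l, hl⟩ => ?_) (mem_zpowers w)
    by_cases hsp : s = p
    · subst hsp
      have : orderOf c = 1 := Nat.eq_one_of_dvd_coprimes
        ((hp.coprime_iff_not_dvd.mpr hw).pow_left l) (orderOf_dvd_of_pow_eq_one hl)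
        ((orderOf_dvd_natCard _ hc).trans (Nat.card_zpowers w).dvd)
      rw [orderOf_eq_one_iff.mp this]
      exact one_mem _
    · by_contra hcz
      exact hcz (hmix c (zpowers_le.mpr (pow_mem hy _) hc) s l hs hsp hl)

theorem nilpotent_Cn {x : G} (hx : x ∈ N) (hxz : x ∉ ZN N) : Group.IsNilpotent ↥(Cn N x) := by
  rcases structure_Cn hmax hx hxz with h | ⟨p, hp, h⟩
  · haveI : IsMulCommutative ↥(Cn N x) := ⟨⟨fun a b => Subtype.ext (h a a.2 b b.2)⟩⟩
    letI : CommGroup ↥(Cn N x) := { (inferInstance : Group ↥(Cn N x)) with mul_comm := fun a b => Subtype.ext (h a a.2 b b.2) }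
    infer_instance
  · haveI := Fact.mk hp
    exact ptype_nilpotent inf_le_left h

/-- `N` nilpotent. -/
theorem nilpotent_case (hnil : Group.IsNilpotent N) :
    ∃ p : ℕ, p.Prime ∧ (∀ a ∈ N, ∀ b ∈ N, ⁅a, b⁆ ∈ ZN N) ∧ ∀ a ∈ N, a ^ p ∈ ZN N := by
  by_cases hall : N ≤ ZN N
  · exact ⟨2, Nat.prime_two, fun a ha b hb => hall (by
      rw [commutatorElement_def]; exact mul_mem (mul_mem (mul_mem ha hb) (inv_mem ha)) (inv_mem hb)),
      fun a ha => hall (pow_mem ha 2)⟩
  obtain ⟨x, hx, hxz⟩ := SetLike.not_le_iff_exists.mp hall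
  obtain ⟨p, hp, k, i, hk, hki⟩ := exists_prime_part hxz
  set a := x ^ k
  have haN : a ∈ N := pow_mem hx k
  have hpt : PType N p N := by
    intro y hy
    refine ⟨(orderOf y).factorization p, ?_⟩
    refine OddLocal.le_of_pElements_mem (X := zpowers (y ^ p ^ (orderOf y).factorization p))
      (fun s hs c hc ⟨l, hl⟩ => ?_) (mem_zpowers _)
    by_cases hsp : s = p
    · subst hsp
      have hw : ¬ s ∣ orderOf (y ^ s ^ (orderOf y).factorization s) := by
        rw [orderOf_pow_of_dvd (pow_ne_zero _ hp.ne_zero) (Nat.ordProj_dvd _ _)]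
        exact Nat.not_dvd_ordCompl hp (orderOf_pos y).ne'
      rw [orderOf_eq_one_iff.mp (Nat.eq_one_of_dvd_coprimes
        ((hp.coprime_iff_not_dvd.mpr hw).pow_left l) (orderOf_dvd_of_pow_eq_one hl)
        ((orderOf_dvd_natCard _ hc).trans (Nat.card_zpowers _).dvd))]
      exact one_mem _
    by_contra hcz
    have hcN : c ∈ N := zpowers_le.mpr (pow_mem hy _) hc
    have hcomm : ∀ {u v : G} {r t e f : ℕ}, r.Prime → t.Prime → r ≠ t → u ∈ N → v ∈ N → u ^ r ^ e = 1 →
        v ^ t ^ f = 1 → Commute u v := fun hr ht hne hu hv h1 h2 =>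
      Basics.commute_of_coprime_le hnil hu hv (coprime_of_pow hr ht hne h1 h2)
    have hac : centralizer ({c} : Set G) = centralizer ({a} : Set G) :=
      C_eq_of_commute hmax hs hp hsp hcN hcz haN hk hl hki (hcomm hs hp hsp hcN haN hl hki)
    refine hk ⟨haN, (show N ≤ centralizer ({a} : Set G) from OddLocal.le_of_pElements_mem fun r hr d hd ⟨e, he⟩ => ?_)
      |> fun h => mem_centralizer_iff.mpr fun d hd => mem_centralizer_singleton_iff.mp (h hd)⟩
    refine mem_centralizer_singleton_iff.mpr ?_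
    by_cases hrp : r = p
    · subst hrp
      exact mem_centralizer_singleton_iff.mp
        (show d ∈ centralizer ({a} : Set G) from hac ▸ mem_centralizer_singleton_iff.mpr
          (hcomm hr hs (Ne.symm hsp) hd hcN he hl).eq)
    · exact (hcomm hr hp hrp hd haN he hki).eq
  exact ⟨p, hp, (small hmax le_rfl hnil).1, (small hmax le_rfl hnil).2 p hp hpt⟩

end

-- PART2
theorem mem_pCore_map {F : Subgroup G} (hF : Group.IsNilpotent F) {p : ℕ} [Fact p.Prime] {a : G} (ha : a ∈ F)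
    {i : ℕ} (hi : a ^ p ^ i = 1) : a ∈ (pCore p ↥F).map F.subtype := by
  haveI := hF
  obtain ⟨j, -, hj⟩ := (Nat.dvd_prime_pow (Fact.out : p.Prime)).mp
    (orderOf_dvd_of_pow_eq_one (x := (⟨a, ha⟩ : F)) (n := p ^ i) (Subtype.ext hi))
  obtain ⟨P, hP⟩ := (IsPGroup.of_card (n := j) (by rw [Nat.card_zpowers, hj]) :
    IsPGroup p (zpowers (⟨a, ha⟩ : F))).exists_le_sylow
  haveI : (P : Subgroup F).Normal := inferInstance
  exact ⟨⟨a, ha⟩, Basics.le_pCore P.2 (hP (mem_zpowers _)), rfl⟩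

theorem commute_of_comm_mem {u f : G} {p n : ℕ} (hu : u ∈ N) (hf : f ∈ N) (hz : ⁅u, f⁆ ∈ ZN N)
    (hfp : f ^ p ∈ ZN N) (hun : u ^ n = 1) (hco : n.Coprime p) : Commute u f := by
  set c := ⁅u, f⁆ with hc
  have e1 : u * f * u⁻¹ = c * f := by rw [hc, commutatorElement_def, inv_mul_cancel_right]
  have e2 : u * f ^ p * u⁻¹ = c ^ p * f ^ p := by rw [← conj_pow, e1, (ZN_comm hz hf).mul_pow]
  rw [(ZN_comm hfp hu).symm.eq, mul_inv_cancel_right] at e2
  have h1 : c ^ p = 1 := mul_eq_right.mp e2.symm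
  have e3 : f * u * f⁻¹ = c⁻¹ * u := by
    rw [hc, commutatorElement_inv, commutatorElement_def, inv_mul_cancel_right]
  have e4 : f * u ^ n * f⁻¹ = c⁻¹ ^ n * u ^ n := by rw [← conj_pow, e3, (ZN_comm hz hu).inv_left.mul_pow]
  rw [hun, mul_one, mul_inv_cancel, mul_one] at e4
  have h2 : c ^ n = 1 := by rw [eq_comm, inv_pow, inv_eq_one] at e4; exact e4
  have h3 : c = 1 := orderOf_eq_one_iff.mp
    (Nat.eq_one_of_dvd_coprimes hco (orderOf_dvd_of_pow_eq_one h2) (orderOf_dvd_of_pow_eq_one h1))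
  exact commutatorElement_eq_one_iff_mul_comm.mp h3

theorem eq_of_le_nilpotent {D S : Subgroup G} (hS : Group.IsNilpotent S) (hSN : S ≤ N) (hDS : D ≤ S)
    (hsn : N ⊓ normalizer (D : Set G) ≤ D) : D = S := by
  haveI := hS
  by_contra hne
  have hlt : D.subgroupOf S < ⊤ := lt_top_iff_ne_top.mpr fun e => hne (le_antisymm hDS (subgroupOf_eq_top.mp e))
  obtain ⟨s, hs, hsD⟩ := SetLike.exists_of_lt (Group.normalizerCondition_of_isNilpotent _ hlt)
  refine hsD (hsn ⟨hSN s.2, mem_normalizer_iff.mpr fun d => ⟨fun hd => ?_, fun hd => ?_⟩⟩)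
  · exact (mem_normalizer_iff.mp hs ⟨d, hDS hd⟩).mp hd
  · have hdS : d ∈ S := by simpa [mul_assoc] using S.mul_mem (S.mul_mem (S.inv_mem s.2) (hDS hd)) s.2
    exact (mem_normalizer_iff.mp hs ⟨d, hdS⟩).mpr hd

theorem cj_Cn [hN : N.Normal] (g x : G) : cj g (Cn N x) = Cn N (g * x * g⁻¹) := by
  ext v
  rw [mem_cj, mem_Cn, mem_Cn]
  refine and_congr ⟨fun h => by simpa [mul_assoc] using hN.conj_mem _ h g,
    fun h => by simpa [mul_assoc] using hN.conj_mem v h g⁻¹⟩ ⟨fun h => ?_, fun h => ?_⟩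
  · have := h.map (MulAut.conj g).toMonoidHom
    simpa [mul_assoc] using this
  · have := h.map (MulAut.conj g⁻¹).toMonoidHom
    simpa [mul_assoc] using this

section
variable [hN : N.Normal] (hmax : MaxCent N)
include hN hmax

/-- Some centralizer in `N` is normal in `G`. -/
theorem normal_case (hnn : ¬ Group.IsNilpotent N) {x : G} (hx : x ∈ N) (hxz : x ∉ ZN N) (hxn : (Cn N x).Normal) :
    ∃ (p q : ℕ) (F : Subgroup G) (c : G), p.Prime ∧ q.Prime ∧ F.Normal ∧ ZN N ≤ F ∧ F ≤ N ∧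
      (∃ f ∈ F, f ∉ ZN N) ∧ c ∈ N ∧ c ∉ F ∧ c ^ q ∈ ZN N ∧ (∀ f ∈ F, ⁅c, f⁆ ∈ ZN N → f ∈ ZN N) ∧
      (∀ a ∈ F, ∀ b ∈ F, ⁅a, b⁆ ∈ ZN N) ∧ (∀ a ∈ F, a ^ p ∈ ZN N) ∧ F ⊔ zpowers c = N := by
  haveI := hxn
  set F := Cn N x with hF
  have hFN : F ≤ N := inf_le_left
  have hZF : ZN N ≤ F := ZN_le_Cn hx
  have hxF : x ∈ F := self_mem_Cn hx
  have hFnil := nilpotent_Cn hmax hx hxz
  obtain ⟨hcomm, hpow⟩ := small hmax hFN hFnil
  have hFmax : ∀ L : Subgroup G, L.Normal → L ≤ N → F ≤ L → L = F ∨ L = N := fun L hL hLN hle => by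
    haveI := hL
    exact dich_max hmax hx hxz hLN hle (by rw [normalizer_eq_top_iff.mpr hL]; exact le_top)
  have hnotle : ∀ y ∈ N, y ∉ F → ¬ F ≤ Cn N y := fun y hy hyF hle =>
    hyF (mem_Cn.mpr ⟨hy, (mem_Cn.mp (hle hxF)).2.symm⟩)
  have hsplit : ∀ y ∈ N, y ∉ F → ∀ n ∈ N, ∃ v ∈ Cn N y, ∃ f ∈ F, v * f = n := fun y hy hyF n hn => by
    rcases dich_normal hmax hy (fun h => hyF (hZF h)) hFN with h | h
    · exact absurd h (hnotle y hy hyF)
    · exact mem_sup_of_normal_right.mp (h.ge hn)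
  -- fixed points in `F` of elements outside are central
  have hfree : ∀ (q j : ℕ) (y : G), q.Prime → y ∈ N → y ∉ F → y ^ q ^ j = 1 →
      ((∀ a ∈ F, ∀ b ∈ F, a * b = b * a) ∨ ∃ p : ℕ, p.Prime ∧ p ≠ q ∧ PType N p F) →
      ∀ f ∈ F, Commute f y → f ∈ ZN N := by
    intro q j y hq hy hyF hyq hor
    have hyz : y ∉ ZN N := fun h => hyF (hZF h)
    have hcen : ∀ f ∈ F, Commute f y → f ∉ ZN N → ∃ f' ∈ F, f' ∉ ZN N ∧ Commute f' y ∧ ∀ g ∈ F, Commute f' g := by
      intro f hf hfy hfz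
      rcases hor with hab | ⟨p, hp, hpq, hpt⟩
      · exact ⟨f, hf, hfz, hfy, fun g hg => hab f hf g hg⟩
      obtain ⟨r, hr, k, l, hk, hkl⟩ := exists_prime_part hfz
      have hrp : r = p := by_contra fun hne => hk (hpt.eq_one_or_mem hp hr hne (pow_mem hf k) hkl)
      subst hrp
      haveI := Fact.mk hp
      set f' := f ^ k
      have hf' : f' ∈ F := pow_mem hf k
      have hf'y : Commute f' y := hfy.pow_left k
      have hCf : centralizer ({f'} : Set G) = centralizer ({y} : Set G) :=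
        C_eq_of_commute hmax hp hq hpq (hFN hf') hk hy hyz hkl hyq hf'y
      refine ⟨f', hf', hk, hf'y, fun g hg => (show Commute g f' from ?_).symm⟩
      refine mem_centralizer_singleton_iff.mp ((OddLocal.le_of_pElements_mem
        (X := F) (H := centralizer ({f'} : Set G)) fun t ht d hd ⟨e, he⟩ => ?_) hg)
      refine mem_centralizer_singleton_iff.mpr ?_
      by_cases htr : t = r
      swap
      · exact (ZN_comm (hpt.eq_one_or_mem hp ht htr hd he) (hFN hf')).eq
      subst htr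
      set P := (pCore t ↥F).map F.subtype
      haveI : P.Normal := ConjAct.normal_of_characteristic_of_normal
      have hPp : IsPGroup t P := (Basics.pCore_isPGroup t).map _
      obtain ⟨n, hn, c, hc, rfl⟩ := Basics.exists_mem_commutator_mul (zpowers y) P
        (by rw [normalizer_eq_top_iff.mpr inferInstance]; exact le_top)
        (by
          obtain ⟨i, hi⟩ := hPp.exists_card_eq
          rw [Nat.card_zpowers, hi]
          exact (Nat.coprime_pow_primes j i hq hp (Ne.symm hpq)).coprime_dvd_left (orderOf_dvd_of_pow_eq_one hyq))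
        (Or.inl inferInstance) (mem_pCore_map hFnil hd he)
      have hcf : Commute c f' := by
        refine mem_centralizer_singleton_iff.mp ?_
        rw [hCf]
        exact mem_centralizer_singleton_iff.mpr (mem_centralizer_iff.mp hc.2 y (mem_zpowers y)).symm
      have hnf : n ∈ centralizer ({f'} : Set G) := by
        refine (commutator_le.mpr fun g₀ hg₀ s hs => mem_centralizer_singleton_iff.mpr ?_) hn
        have hg₀F : g₀ ∈ F := map_subtype_le _ hg₀
        have hz : ⁅f', g₀⁆ ∈ ZN N := hcomm f' hf' g₀ hg₀F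
        obtain ⟨i, rfl⟩ := mem_zpowers_iff.mp hs
        have hfs : Commute f' (y ^ i) := hf'y.zpow_right i
        have hsN : y ^ i ∈ N := zpow_mem hy i
        have e1 : f' * g₀ * f'⁻¹ = ⁅f', g₀⁆ * g₀ := by rw [commutatorElement_def, inv_mul_cancel_right]
        have e2 : f' * ⁅g₀, y ^ i⁆ * f'⁻¹ = ⁅f' * g₀ * f'⁻¹, f' * y ^ i * f'⁻¹⁆ := by
          simp [commutatorElement_def, mul_assoc]
        rw [hfs.eq, mul_inv_cancel_right, e1] at e2
        have e3 : ⁅⁅f', g₀⁆ * g₀, y ^ i⁆ = ⁅g₀, y ^ i⁆ := by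
          set z := ⁅f', g₀⁆
          have hzs : Commute z (y ^ i) := ZN_comm hz hsN
          have hzg : Commute z g₀ := ZN_comm hz (hFN hg₀F)
          calc ⁅z * g₀, y ^ i⁆ = z * (g₀ * y ^ i * g₀⁻¹) * z⁻¹ * (y ^ i)⁻¹ := by simp [commutatorElement_def, mul_assoc]
            _ = (g₀ * y ^ i * g₀⁻¹) * (y ^ i)⁻¹ := by
              rw [((hzg.mul_right hzs).mul_right hzg.inv_right).eq, mul_inv_cancel_right]
            _ = ⁅g₀, y ^ i⁆ := rfl
        rw [e3] at e2
        exact (mul_inv_eq_iff_eq_mul.mp e2).symm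
      exact ((show Commute n f' from mem_centralizer_singleton_iff.mp hnf).mul_left hcf).eq
    intro f hf hfy
    by_contra hfz
    obtain ⟨f', hf', hf'z, hf'y, hf'F⟩ := hcen f hf hfy hfz
    set U := F ⊓ centralizer ({y} : Set G) ⊓ centralizer (F : Set G) with hU
    haveI : (centralizer (F : Set G)).Normal := normal_centralizer
    have hUn : ∀ X : Subgroup G, X ≤ normalizer ((centralizer ({y} : Set G) : Subgroup G) : Set G) →
        X ≤ normalizer (U : Set G) := fun X hX =>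
      (le_inf ((le_inf (by rw [normalizer_eq_top_iff.mpr hxn]; exact le_top) hX).trans OddLocal.le_normalizer_inf')
        (by rw [normalizer_eq_top_iff.mpr inferInstance]; exact le_top)).trans OddLocal.le_normalizer_inf'
    have hFU : F ≤ normalizer (U : Set G) := fun g hg => centralizer_le_normalizer _
      (mem_centralizer_iff.mpr fun u hu => (mem_centralizer_iff.mp hu.2 g hg).symm)
    haveI : U.Normal := top_of_normalized hmax hy hyz (hUn _ le_normalizer) fun n hn => by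
      obtain ⟨v, hv, g, hg, rfl⟩ := hsplit y hy hyF n hn
      exact mul_mem (hUn _ le_normalizer hv.2) (hFU hg)
    haveI : (centralizer (U : Set G)).Normal := normal_centralizer
    rcases hFmax (N ⊓ centralizer (U : Set G)) inferInstance inf_le_left (le_inf hFN fun g hg =>
      mem_centralizer_iff.mpr fun u hu => (mem_centralizer_iff.mp hu.2 g hg).symm) with h | h
    · exact hyF (h ▸ ⟨hy, mem_centralizer_iff.mpr fun u hu => mem_centralizer_singleton_iff.mp hu.1.2⟩)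
    · refine hf'z ⟨hFN hf', mem_centralizer_iff.mpr fun n hn => ?_⟩
      exact (mem_centralizer_iff.mp (h.ge hn).2 f' ⟨⟨hf', mem_centralizer_singleton_iff.mpr hf'y.eq⟩,
        mem_centralizer_iff.mpr fun g hg => (hf'F g hg).eq.symm⟩).symm
  have hgoodp : ∀ p : ℕ, p.Prime → PType N p F →
      ∃ q j y, q.Prime ∧ q ≠ p ∧ y ∈ N ∧ y ∉ F ∧ y ^ q ^ j = 1 := by
    intro p hp hpt
    by_contra! hcon
    haveI := Fact.mk hp
    refine hnn (ptype_nilpotent (p := p) le_rfl fun n hn => ⟨(orderOf n).factorization p, ?_⟩)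
    refine OddLocal.le_of_pElements_mem (X := zpowers (n ^ p ^ (orderOf n).factorization p))
      (fun s hs c hc ⟨l, hl⟩ => ?_) (mem_zpowers _)
    by_cases hsp : s = p
    · subst hsp
      have hw : ¬ s ∣ orderOf (n ^ s ^ (orderOf n).factorization s) := by
        rw [orderOf_pow_of_dvd (pow_ne_zero _ hp.ne_zero) (Nat.ordProj_dvd _ _)]
        exact Nat.not_dvd_ordCompl hp (orderOf_pos n).ne'
      rw [orderOf_eq_one_iff.mp (Nat.eq_one_of_dvd_coprimes
        ((hp.coprime_iff_not_dvd.mpr hw).pow_left l) (orderOf_dvd_of_pow_eq_one hl)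
        ((orderOf_dvd_natCard _ hc).trans (Nat.card_zpowers _).dvd))]
      exact one_mem _
    · by_cases hcF : c ∈ F
      · exact hpt.eq_one_or_mem hp hs hsp hcF hl
      · exact absurd hl (hcon s l c hs hsp (zpowers_le.mpr (pow_mem hn _) hc) hcF)
  -- `F` is of `p`-type for a single prime
  obtain ⟨p, hp, k, i, hk, hki⟩ := exists_prime_part hxz
  haveI := Fact.mk hp
  have hFp : PType N p F := by
    obtain ⟨q, j, y, hq, hy, hyF, hyq, hor⟩ : ∃ q j y, q.Prime ∧ y ∈ N ∧ y ∉ F ∧ y ^ q ^ j = 1 ∧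
        ((∀ a ∈ F, ∀ b ∈ F, a * b = b * a) ∨ ∃ p : ℕ, p.Prime ∧ p ≠ q ∧ PType N p F) := by
      rcases structure_Cn hmax hx hxz with hab | ⟨r, hr, hrt⟩
      · obtain ⟨n, hn, hnF⟩ := SetLike.not_le_iff_exists.mp fun h => Cn_ne hx hxz (le_antisymm hFN h)
        obtain ⟨q, hq, k', j, hk', hkj⟩ := exists_prime_part hnF
        exact ⟨q, j, n ^ k', hq, pow_mem hn k', hk', hkj, Or.inl hab⟩
      · obtain ⟨q, j, y, hq, hqr, hy, hyF, hyq⟩ := hgoodp r hr hrt
        exact ⟨q, j, y, hq, hy, hyF, hyq, Or.inr ⟨r, hr, Ne.symm hqr, hrt⟩⟩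
    set P := (pCore p ↥F).map F.subtype
    haveI : P.Normal := ConjAct.normal_of_characteristic_of_normal
    have haP : x ^ k ∈ P := mem_pCore_map hFnil (pow_mem hxF k) hki
    rcases dich_normal hmax hy (fun h => hyF (hZF h)) ((map_subtype_le _).trans hFN : P ≤ N) with h | h
    · exact absurd (hfree q j y hq hy hyF hyq hor _ (pow_mem hxF k) (mem_Cn.mp (h haP)).2) hk
    intro g hg
    obtain ⟨v, hv, l, hl, rfl⟩ := mem_sup_of_normal_right.mp (h.ge (hFN hg))
    have hvZ : v ∈ ZN N := hfree q j y hq hy hyF hyq hor v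
      ((F.mul_mem_cancel_right (map_subtype_le _ hl)).mp hg) (mem_Cn.mp hv).2
    obtain ⟨m, hm⟩ := ((Basics.pCore_isPGroup p).map F.subtype : IsPGroup p P) ⟨l, hl⟩
    refine ⟨m, ?_⟩
    rw [(ZN_comm hvZ (hFN (map_subtype_le _ hl))).mul_pow,
      show l ^ p ^ m = 1 by simpa [Subtype.ext_iff] using hm, mul_one]
    exact pow_mem hvZ _
  obtain ⟨q, j, y, hq, hqp, hy, hyF, hyq⟩ := hgoodp p hp hFp
  have hfree' : ∀ (s l : ℕ) (u : G), s.Prime → s ≠ p → u ∈ N → u ∉ F → u ^ s ^ l = 1 →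
      ∀ f ∈ F, Commute f u → f ∈ ZN N := fun s l u hs hsp hu huF hul =>
    hfree s l u hs hu huF hul (Or.inr ⟨p, hp, Ne.symm hsp, hFp⟩)
  have hyz : y ∉ ZN N := fun h => hyF (hZF h)
  set C := Cn N y
  have hFC : ∀ f ∈ F, f ∈ C → f ∈ ZN N := fun f hf hfC =>
    hfree' q j y hq hqp hy hyF hyq f hf (mem_Cn.mp hfC).2
  have hcentral : ∀ (s l : ℕ) (u : G), s.Prime → s ≠ p → u ∈ C → u ^ s ^ l = 1 → ∀ v ∈ C, Commute v u := by
    intro s l u hs hsp huC hul v hv
    by_cases huz : u ∈ ZN N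
    · exact (ZN_comm huz hv.1).symm
    have huF : u ∉ F := fun h => huz (hFC u h huC)
    obtain ⟨v', hv', f, hf, rfl⟩ := hsplit u huC.1 huF v hv.1
    have hv'u : Commute v' u := (mem_Cn.mp hv').2
    have e : ⁅u, v' * f⁆ = v' * ⁅u, f⁆ * v'⁻¹ := by
      calc ⁅u, v' * f⁆ = (u * v') * f * u⁻¹ * f⁻¹ * v'⁻¹ := by simp [commutatorElement_def, mul_assoc]
        _ = v' * ⁅u, f⁆ * v'⁻¹ := by rw [hv'u.symm.eq]; simp [commutatorElement_def, mul_assoc]
    have h1 : ⁅u, v' * f⁆ ∈ ZN N := by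
      refine hFC _ ?_ ?_
      · rw [e]
        refine hxn.conj_mem _ ?_ v'
        rw [commutatorElement_def]
        exact mul_mem (hxn.conj_mem f hf u) (inv_mem hf)
      · rw [commutatorElement_def]
        exact mul_mem (mul_mem (mul_mem huC hv) (inv_mem huC)) (inv_mem hv)
    have h2 : ⁅u, f⁆ ∈ ZN N := by
      haveI : (centralizer (N : Set G)).Normal := normal_centralizer
      have h3 := (inferInstance : (ZN N).Normal).conj_mem _ h1 v'⁻¹
      rw [e] at h3
      simpa [mul_assoc] using h3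
    have hfu : Commute f u := (commute_of_comm_mem huC.1 (hFN hf) h2 (hpow p hp hFp f hf) hul
      ((Nat.coprime_primes hs hp).mpr hsp |>.pow_left l)).symm
    exact hv'u.mul_left hfu
  have hCab : ∀ a ∈ C, ∀ b ∈ C, a * b = b * a := by
    rcases structure_Cn hmax hy hyz with h | ⟨r, hr, hrt⟩
    · exact h
    have hrq : r = q := by_contra fun hne => hyz (hrt.eq_one_or_mem hr hq (Ne.symm hne) (self_mem_Cn hy) hyq)
    have hle : C ≤ centralizer (C : Set G) :=
      OddLocal.le_of_pElements_mem fun s hs a ha ⟨l, hl⟩ => mem_centralizer_iff.mpr fun b hb => by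
        by_cases hsr : s = r
        · exact (hcentral s l a hs (hsr.trans hrq ▸ hqp) ha hl b hb).eq
        · exact (ZN_comm (hrt.eq_one_or_mem hr hs hsr ha hl) hb.1).eq.symm
    exact fun a ha b hb => (mem_centralizer_iff.mp (hle ha) b hb).symm
  obtain ⟨m, hm1, hm2⟩ : ∃ m, y ^ q ^ m ∉ ZN N ∧ y ^ q ^ (m + 1) ∈ ZN N := by
    by_contra! hcon
    have : ∀ m, y ^ q ^ m ∉ ZN N := fun m => by
      induction m with
      | zero => simpa using hyz
      | succ m ih => exact hcon m ih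
    exact this j (by rw [hyq]; exact one_mem _)
  set c := y ^ q ^ m
  have hcC : c ∈ C := pow_mem (self_mem_Cn hy) _
  have hcF : c ∉ F := fun h => hm1 (hFC c h hcC)
  have hCc : centralizer ({y} : Set G) = centralizer ({c} : Set G) := C_pow hmax hy _ hm1
  set E := F ⊔ zpowers c
  have hEN : E ≤ N := sup_le hFN (zpowers_le.mpr hcC.1)
  haveI : E.Normal := by
    refine top_of_normalized hmax hcC.1 hm1 (sup_le_normalizer (by rw [normalizer_eq_top_iff.mpr hxn]; exact le_top) ?_) ?_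
    · intro g hg
      refine centralizer_le_normalizer _ (mem_centralizer_iff.mpr ?_)
      rintro _ ⟨i, rfl⟩
      exact ((show Commute g c from mem_centralizer_singleton_iff.mp hg).zpow_right i).eq.symm
    · intro n hn
      obtain ⟨v, hv, f, hf, rfl⟩ := hsplit y hy hyF n hn
      refine mul_mem ?_ (le_normalizer (mem_sup_left hf))
      refine sup_le_normalizer (X := C) (by rw [normalizer_eq_top_iff.mpr hxn]; exact le_top) (fun a ha => ?_) hv
      refine centralizer_le_normalizer _ (mem_centralizer_iff.mpr fun b hb => hCab b ?_ a ha)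
      exact zpowers_le.mpr hcC hb
  have hE : E = N := by
    rcases hFmax E inferInstance hEN le_sup_left with h | h
    · exact absurd (h ▸ mem_sup_right (mem_zpowers c)) hcF
    · exact h
  refine ⟨p, q, F, c, hp, hq, hxn, hZF, hFN, ⟨x, hxF, hxz⟩, hcC.1, hcF, ?_, fun f hf hcf => ?_, hcomm,
    hpow p hp hFp, hE⟩
  · show (y ^ q ^ m) ^ q ∈ ZN N
    rwa [← pow_mul, ← pow_succ]
  · refine hFC f hf (mem_Cn.mpr ⟨hFN hf, mem_centralizer_singleton_iff.mp ?_⟩)
    rw [hCc]
    refine mem_centralizer_singleton_iff.mpr (commute_of_comm_mem hcC.1 (hFN hf) hcf (hpow p hp hFp f hf)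
      (show c ^ q ^ j = 1 from ?_) ((Nat.coprime_primes hq hp).mpr hqp |>.pow_left j)).symm.eq
    show (y ^ q ^ m) ^ q ^ j = 1
    rw [← pow_mul, mul_comm, pow_mul, hyq, one_pow]

theorem self_normalizing (hno : ∀ x ∈ N, x ∉ ZN N → ¬ (Cn N x).Normal) {x : G} (hx : x ∈ N) (hxz : x ∉ ZN N) :
    N ⊓ normalizer (Cn N x : Set G) ≤ Cn N x := by
  rcases dich_max hmax hx hxz (H := N ⊓ normalizer (Cn N x : Set G)) inf_le_left (le_inf inf_le_left le_normalizer)
    ((le_inf (by rw [normalizer_eq_top_iff.mpr hN]; exact le_top)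
      ((Cn_normalized hmax).trans le_normalizer)).trans OddLocal.le_normalizer_inf') with h | h
  · exact h.le
  · exact absurd (top_of_normalized hmax hx hxz (Cn_normalized hmax) (inf_eq_left.mp h)) (hno x hx hxz)

/-- No abelian self-normalizing centralizer. -/
theorem no_abelian (hno : ∀ x ∈ N, x ∉ ZN N → ¬ (Cn N x).Normal) {x : G} (hx : x ∈ N) (hxz : x ∉ ZN N) :
    ¬ ∀ a ∈ Cn N x, ∀ b ∈ Cn N x, a * b = b * a := by
  intro hab
  set D := Cn N x
  set Zc := center ↥N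
  have hmk : ∀ n : N, QuotientGroup.mk' Zc n = 1 ↔ (n : G) ∈ ZN N := fun n => by
    refine (QuotientGroup.eq_one_iff n).trans ⟨fun h => ⟨n.2, mem_centralizer_iff.mpr fun y hy =>
      congrArg Subtype.val (mem_center_iff.mp h ⟨y, hy⟩)⟩, fun h => mem_center_iff.mpr fun y =>
      Subtype.ext (mem_centralizer_iff.mp h.2 y y.2)⟩
  set μ := QuotientGroup.mk' Zc
  set Db := (D.subgroupOf N).map μ
  have hDb : ∀ n : N, μ n ∈ Db ↔ (n : G) ∈ D := fun n => by
    refine ⟨?_, fun h => mem_map_of_mem μ h⟩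
    rintro ⟨d, hd, hde⟩
    have h1 : ((d⁻¹ * n : N) : G) ∈ ZN N := (hmk _).mp (by rw [map_mul, map_inv, hde, inv_mul_cancel])
    have h2 := D.mul_mem hd (ZN_le_Cn hx h1)
    simpa using h2
  have huniq : ∀ (x' : G), x' ∈ N → x' ∉ ZN N → (∀ a ∈ Cn N x', ∀ b ∈ Cn N x', a * b = b * a) →
      ∀ w ∈ Cn N x', w ∉ ZN N → Cn N x' = Cn N w := fun x' hx' hxz' hab' w hw hwz =>
    eq_of_le_nilpotent (nilpotent_Cn hmax hw.1 hwz) inf_le_left
      (fun d hd => mem_Cn.mpr ⟨hd.1, hab' d hd w hw⟩) (self_normalizing hmax hno hx' hxz')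
  have hconjab : ∀ g : G, ∀ a ∈ cj g D, ∀ b ∈ cj g D, a * b = b * a := by
    rintro g _ ⟨a, ha, rfl⟩ _ ⟨b, hb, rfl⟩
    rw [← map_mul, ← map_mul, hab a ha b hb]
  have hconj : ∀ (g : N) (w : N), μ w ∈ MulAut.conj (μ g) • Db ↔ (w : G) ∈ cj (g : G) D := fun g w => by
    rw [mem_pointwise_smul_iff_inv_smul_mem, ← map_inv, MulAut.smul_def, MulAut.conj_apply, inv_inv,
      ← map_inv, ← map_mul, ← map_mul, hDb, mem_cj]
    simp
  have hfrob : IsFrobeniusComplement Db := by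
    refine ⟨fun e => hxz ?_, fun e => Cn_ne hx hxz ?_, fun g hg => ?_⟩
    · have h1 : μ ⟨x, hx⟩ ∈ Db := (hDb _).mpr (self_mem_Cn hx)
      rw [e, mem_bot] at h1
      exact (hmk _).mp h1
    · exact le_antisymm inf_le_left fun n hn => (hDb ⟨n, hn⟩).mp (e ▸ mem_top _)
    · obtain ⟨g, rfl⟩ := QuotientGroup.mk'_surjective Zc g
      refine (eq_bot_iff_forall _).mpr fun w hw => ?_
      obtain ⟨w, rfl⟩ := QuotientGroup.mk'_surjective Zc w
      refine (hmk w).mpr (by_contra fun hwz => hg ((hDb g).mpr ?_))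
      have h1 : (w : G) ∈ D := (hDb w).mp hw.1
      have h2 : (w : G) ∈ cj (g : G) D := (hconj g w).mp hw.2
      have e1 := huniq x hx hxz hab w h1 hwz
      have hab2 := hconjab (g : G)
      rw [cj_Cn] at h2 hab2
      have e2 := huniq _ (hN.conj_mem x hx g) (fun h => hxz (by
        haveI : (centralizer (N : Set G)).Normal := normal_centralizer
        simpa [mul_assoc] using (inferInstance : (ZN N).Normal).conj_mem _ h (g : G)⁻¹)) hab2 w h2 hwz
      refine self_normalizing hmax hno hx hxz ⟨g.2, cj_eq_iff.mp ?_⟩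
      rw [cj_Cn, e2]
      exact e1.symm
  obtain ⟨K, hKset, hKn, hKnil⟩ := S0042.result Db hfrob
  obtain ⟨K', hKset', -, hcompl, -⟩ := Basics.frobenius_kernel_exists hfrob
  have hKK : K' = K := SetLike.ext' (hKset'.trans hKset.symm)
  subst hKK
  haveI := hKn
  haveI := hKnil
  obtain ⟨kb, hkb, hkb1⟩ : ∃ kb ∈ K', kb ≠ 1 := by
    by_contra! hall
    have hKbot : K' = ⊥ := (eq_bot_iff_forall _).mpr hall
    exact hfrob.2.1 (by have := hcompl.sup_eq_top; rwa [hKbot, bot_sup_eq] at this)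
  set Kp := (K'.comap μ).map N.subtype
  have hKp : Group.IsNilpotent Kp := by
    haveI : Group.IsNilpotent ↥(K'.comap μ) :=
      Subgroup.isNilpotent_of_ker_le_center (μ.subgroupComap K') fun a ha => mem_center_iff.mpr fun b => by
        have h1 : μ (a : N) = 1 := congrArg Subtype.val ha
        exact Subtype.ext (mem_center_iff.mp ((QuotientGroup.eq_one_iff _).mp h1) b)
    exact Group.nilpotent_of_surjective (N.subtype.subgroupMap (K'.comap μ))
      (N.subtype.subgroupMap_surjective _)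
  have hKpN : Kp ≤ N := map_subtype_le _
  obtain ⟨k, rfl⟩ := QuotientGroup.mk'_surjective Zc kb
  have hkz : (k : G) ∉ ZN N := fun h => hkb1 ((hmk k).mpr h)
  have hnotconj : ∀ g : N, (k : G) ∉ cj (g : G) D := fun g h => by
    have h1 := hkb
    rw [← SetLike.mem_coe, hKset'] at h1
    exact (h1.resolve_left hkb1) _ ((hconj g k).mpr h)
  have hle : Cn N (k : G) ≤ Kp := by
    intro w hw
    by_contra hwK
    have hw' : μ ⟨w, hw.1⟩ ∉ K' := fun h => hwK ⟨⟨w, hw.1⟩, h, rfl⟩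
    rw [← SetLike.mem_coe, hKset'] at hw'
    simp only [frobeniusKernel, Set.mem_setOf_eq] at hw'
    push Not at hw'
    obtain ⟨hw1, gb, hgb⟩ := hw'
    obtain ⟨g, rfl⟩ := QuotientGroup.mk'_surjective Zc gb
    have h2 : w ∈ cj (g : G) D := (hconj g ⟨w, hw.1⟩).mp hgb
    refine hnotconj g ?_
    have hab2 := hconjab (g : G)
    rw [cj_Cn] at h2 hab2 ⊢
    rw [huniq _ (hN.conj_mem x hx g) (fun h => hxz (by
        haveI : (centralizer (N : Set G)).Normal := normal_centralizer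
        simpa [mul_assoc] using (inferInstance : (ZN N).Normal).conj_mem _ h (g : G)⁻¹)) hab2 w h2
      (fun h => hw1 ((hmk ⟨w, hw.1⟩).mpr h))]
    exact mem_Cn.mpr ⟨k.2, (mem_Cn.mp hw).2.symm⟩
  have heq := eq_of_le_nilpotent hKp hKpN hle (self_normalizing hmax hno k.2 hkz)
  refine Cn_ne k.2 hkz (le_antisymm inf_le_left fun n hn => self_normalizing hmax hno k.2 hkz ⟨hn, ?_⟩)
  rw [heq]
  refine mem_normalizer_iff.mpr fun a => ⟨?_, ?_⟩
  · rintro ⟨b, hb, rfl⟩
    exact ⟨⟨n, hn⟩ * b * ⟨n, hn⟩⁻¹, (inferInstance : (K'.comap μ).Normal).conj_mem b hb _, rfl⟩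
  · rintro ⟨b, hb, hbe⟩
    refine ⟨⟨n, hn⟩⁻¹ * b * ⟨n, hn⟩, by simpa using (inferInstance : (K'.comap μ).Normal).conj_mem b hb ⟨n, hn⟩⁻¹, ?_⟩
    show n⁻¹ * (b : G) * n = a
    rw [show (b : G) = n * a * n⁻¹ from hbe]
    simp [mul_assoc]

omit hN hmax in
theorem prime_square_sum (j : ℕ) :
    ∑ p ∈ (Finset.range (2 * j + 3)).filter Nat.Prime, (1 : ℚ) / ((p : ℚ) ^ 2) ≤ 1 / 2 - 1 / (4 * ((j : ℚ) + 1)) := by
  induction j with
  | zero =>
    rw [show (Finset.range (2 * 0 + 3)).filter Nat.Prime = {2} by decide]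
    norm_num
  | succ j ih =>
    rw [show 2 * (j + 1) + 3 = (2 * j + 3) + 1 + 1 by ring, Finset.range_add_one, Finset.range_add_one,
      Finset.filter_insert, if_neg (fun h : Nat.Prime (2 * j + 3 + 1) => by
        rcases h.eq_two_or_odd with h2 | h2 <;> omega), Finset.filter_insert]
    have hb : (1 : ℚ) / ((2 * j + 3 : ℕ) : ℚ) ^ 2 ≤ 1 / (4 * ((j : ℚ) + 1)) - 1 / (4 * (((j + 1 : ℕ) : ℚ) + 1)) := by
      push_cast
      rw [div_sub_div _ _ (by positivity) (by positivity), div_le_div_iff₀ (by positivity) (by positivity)]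
      nlinarith
    have hj : (0 : ℚ) ≤ 1 / ((2 * j + 3 : ℕ) : ℚ) ^ 2 := by positivity
    split
    · rw [Finset.sum_insert (by simp)]
      linarith
    · linarith

/-- The class equation excludes nonabelian self-normalizing centralizers. -/
theorem exists_normal_Cn {x₀ : G} (hx₀ : x₀ ∈ N) (hx₀z : x₀ ∉ ZN N) :
    ∃ x ∈ N, x ∉ ZN N ∧ (Cn N x).Normal := by
  classical
  by_contra! hno
  haveI := Fintype.ofFinite G
  haveI := Fintype.ofFinite (Subgroup G)
  haveI : (centralizer (N : Set G)).Normal := normal_centralizer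
  set 𝒞 := (Finset.univ : Finset (Subgroup G)).filter fun C => ∃ x ∈ N, x ∉ ZN N ∧ Cn N x = C with h𝒞
  have hC : ∀ C ∈ 𝒞, ∃ p : ℕ, p.Prime ∧ PType N p C ∧ p ^ 2 * Nat.card ↥(C ⊓ centralizer (C : Set G)) ≤ Nat.card C := by
    intro C hC
    obtain ⟨x, hx, hxz, rfl⟩ := (Finset.mem_filter.mp hC).2
    obtain ⟨p, hp, hpt⟩ := (structure_Cn hmax hx hxz).resolve_left (no_abelian hmax hno hx hxz)
    haveI := Fact.mk hp
    refine ⟨p, hp, hpt, ?_⟩
    set C := Cn N x
    have hzc : Nat.card ↥(C ⊓ centralizer (C : Set G)) = Nat.card (center C) := by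
      refine Nat.card_congr
        { toFun := fun z => ⟨⟨z, z.2.1⟩, mem_center_iff.mpr fun c => Subtype.ext (mem_centralizer_iff.mp z.2.2 c c.2)⟩
          invFun := fun z => ⟨z.1, z.1.2, mem_centralizer_iff.mpr fun c hc =>
            congrArg Subtype.val (mem_center_iff.mp z.2 ⟨c, hc⟩)⟩
          left_inv := fun z => rfl
          right_inv := fun z => rfl }
    have hq : IsPGroup p (C ⧸ center C) := fun qq => by
      obtain ⟨c, rfl⟩ := QuotientGroup.mk'_surjective (center C) qq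
      obtain ⟨k, hk⟩ := hpt c c.2
      exact ⟨k, by
        rw [← map_pow]
        exact (QuotientGroup.eq_one_iff _).mpr (mem_center_iff.mpr fun d =>
          Subtype.ext (ZN_comm hk d.2.1).symm.eq)⟩
    obtain ⟨i, hi⟩ := hq.exists_card_eq
    have hi2 : 2 ≤ i := by
      by_contra hlt
      refine no_abelian hmax hno hx hxz ?_
      haveI : IsCyclic (C ⧸ center C) := by
        interval_cases i
        · haveI := (Nat.card_eq_one_iff_unique.mp (show Nat.card (C ⧸ center C) = 1 by simpa using hi)).1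
          infer_instance
        · exact isCyclic_of_prime_card (p := p) (by simpa using hi)
      intro a ha b hb
      exact congrArg Subtype.val (commutative_of_cyclic_center_quotient (QuotientGroup.mk' (center C))
        (by rw [QuotientGroup.ker_mk']) ⟨a, ha⟩ ⟨b, hb⟩)
    rw [hzc]
    calc p ^ 2 * Nat.card (center C) ≤ p ^ i * Nat.card (center C) :=
          Nat.mul_le_mul_right _ (Nat.pow_le_pow_right hp.pos hi2)
      _ = Nat.card C := by rw [← hi, mul_comm, ← index_eq_card, card_mul_index]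
  choose! P hP hPt hPb using hC
  -- centralizers with the same prime are conjugate
  set T : ℕ → Subgroup G := fun p =>
    if h : p.Prime then (haveI := Fact.mk h; ((default : Sylow p N) : Subgroup N).map N.subtype ⊔ ZN N) else ⊥
  have hT : ∀ C ∈ 𝒞, ∃ n : N, C = cj (n : G) (T (P C)) := by
    intro C hC'
    obtain ⟨x, hx, hxz, he⟩ := (Finset.mem_filter.mp hC').2
    haveI := Fact.mk (hP C hC')
    have hCN : C ≤ N := he ▸ inf_le_left
    set p := P C
    set S := (default : Sylow p N)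
    have hCnil : Group.IsNilpotent C := ptype_nilpotent hCN (hPt C hC')
    obtain ⟨S', hS'⟩ := (((Basics.pCore_isPGroup p).map C.subtype : IsPGroup p ((pCore p ↥C).map C.subtype)).comap_subtype
      (K := N)).exists_le_sylow
    obtain ⟨n, hn⟩ := MulAction.exists_smul_eq N S S'
    refine ⟨n, ?_⟩
    rw [show T (P C) = (S : Subgroup N).map N.subtype ⊔ ZN N from dif_pos (hP C hC')]
    have hle : C ≤ cj (n : G) ((S : Subgroup N).map N.subtype ⊔ ZN N) := by
      refine OddLocal.le_of_pElements_mem fun s hs c hc ⟨l, hl⟩ => ?_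
      rw [show cj (n : G) ((S : Subgroup N).map N.subtype ⊔ ZN N) =
        cj (n : G) ((S : Subgroup N).map N.subtype) ⊔ cj (n : G) (ZN N) from Subgroup.map_sup _ _ _]
      by_cases hsp : s = p
      · subst hsp
        refine mem_sup_left ?_
        have h1 : (⟨c, hCN hc⟩ : N) ∈ (S' : Subgroup N) := hS' (mem_pCore_map hCnil hc hl)
        rw [← hn, Sylow.coe_subgroup_smul, mem_pointwise_smul_iff_inv_smul_mem] at h1
        rw [← map_inv, MulAut.smul_def, MulAut.conj_apply, inv_inv] at h1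
        exact mem_cj.mpr ⟨_, h1, by simp⟩
      · refine mem_sup_right ?_
        rw [show cj (n : G) (ZN N) = ZN N from cj_eq_iff.mpr (by rw [normalizer_eq_top_iff.mpr inferInstance]; exact mem_top _)]
        exact (hPt C hC').eq_one_or_mem (hP C hC') hs hsp hc hl
    have hTN : cj (n : G) ((S : Subgroup N).map N.subtype ⊔ ZN N) ≤ N := by
      refine (map_mono (sup_le (map_subtype_le _) inf_le_left)).trans (cj_eq_iff.mpr ?_).le
      rw [normalizer_eq_top_iff.mpr hN]; exact mem_top _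
    have hTt : PType N p (cj (n : G) ((S : Subgroup N).map N.subtype ⊔ ZN N)) := by
      rintro _ ⟨v, hv, rfl⟩
      obtain ⟨_, ⟨s, hs, rfl⟩, z, hz, rfl⟩ := mem_sup_of_normal_right.mp hv
      obtain ⟨k, hk⟩ := S.2 ⟨s, hs⟩
      refine ⟨k, ?_⟩
      have hk' : (s : G) ^ p ^ k = 1 := congrArg (fun t : (S : Subgroup N) => ((t : N) : G)) hk
      show ((MulAut.conj (n : G)).toMonoidHom ((s : G) * z)) ^ p ^ k ∈ ZN N
      rw [← map_pow, (ZN_comm hz s.2).symm.mul_pow, hk', one_mul]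
      exact (inferInstance : (ZN N).Normal).conj_mem _ (pow_mem hz _) _
    exact eq_of_le_nilpotent (ptype_nilpotent hTN hTt) hTN hle (he ▸ self_normalizing hmax hno hx hxz)
  set n₀ := Nat.card N with hn₀
  set z₀ := Nat.card ↥(ZN N)
  set zc : Subgroup G → ℕ := fun C => Nat.card ↥(C ⊓ centralizer (C : Set G))
  have hz2 : 2 * z₀ ≤ n₀ := by
    have hlt : ZN N < N := lt_of_le_of_ne inf_le_left fun e => hx₀z (e.ge hx₀)
    obtain ⟨d, hd⟩ := card_dvd_of_le hlt.le
    have h1 := Basics.card_lt_of_lt hlt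
    have hd2 : 2 ≤ d := by
      by_contra hd2
      interval_cases d <;> omega
    calc 2 * z₀ ≤ d * z₀ := Nat.mul_le_mul_right _ hd2
      _ = n₀ := by rw [hn₀, hd, mul_comm]
  have hcover : n₀ ≤ z₀ + ∑ C ∈ 𝒞, zc C := by
    set A := (Finset.univ : Finset G).filter (· ∈ N)
    set B := (Finset.univ : Finset G).filter (· ∈ ZN N)
    have hsub : A ⊆ B ∪ 𝒞.biUnion fun C => (Finset.univ : Finset G).filter (· ∈ C ⊓ centralizer (C : Set G)) := by
      intro g hg
      have hgN : g ∈ N := (Finset.mem_filter.mp hg).2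
      by_cases hgz : g ∈ ZN N
      · exact Finset.mem_union_left _ (Finset.mem_filter.mpr ⟨Finset.mem_univ _, hgz⟩)
      · refine Finset.mem_union_right _ (Finset.mem_biUnion.mpr ⟨Cn N g,
          Finset.mem_filter.mpr ⟨Finset.mem_univ _, g, hgN, hgz, rfl⟩,
          Finset.mem_filter.mpr ⟨Finset.mem_univ _, self_mem_Cn hgN, ?_⟩⟩)
        exact mem_centralizer_iff.mpr fun c hc => (mem_Cn.mp hc).2.eq
    have hcard : ∀ H : Subgroup G, ((Finset.univ : Finset G).filter (· ∈ H)).card = Nat.card H := fun H => by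
      rw [Nat.card_eq_fintype_card, Fintype.card_subtype]
    calc n₀ = A.card := (hcard N).symm
      _ ≤ _ := Finset.card_le_card hsub
      _ ≤ B.card + _ := Finset.card_union_le _ _
      _ ≤ z₀ + ∑ C ∈ 𝒞, zc C := add_le_add (hcard _).le
          (Finset.card_biUnion_le.trans (Finset.sum_le_sum fun C _ => (hcard _).le))
  set π := (Finset.range (2 * n₀ + 3)).filter Nat.Prime
  have hmem : ∀ C ∈ 𝒞, P C ∈ π := by
    intro C hC'
    refine Finset.mem_filter.mpr ⟨Finset.mem_range.mpr ?_, hP C hC'⟩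
    obtain ⟨x, hx, hxz, he⟩ := (Finset.mem_filter.mp hC').2
    have h1 : Nat.card C ≤ n₀ := Nat.le_of_dvd Nat.card_pos (card_dvd_of_le (he ▸ inf_le_left))
    have h2 := hPb C hC'
    have h3 : 0 < Nat.card ↥(C ⊓ centralizer (C : Set G)) := Nat.card_pos
    have h4 : P C ≤ P C ^ 2 := Nat.le_self_pow two_ne_zero _
    nlinarith
  have hfib : ∀ p ∈ π, (((∑ C ∈ 𝒞 with P C = p, zc C : ℕ) : ℚ)) ≤ (n₀ : ℚ) * (1 / (p : ℚ) ^ 2) := by
    intro p hp
    have hp' : p.Prime := (Finset.mem_filter.mp hp).2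
    rw [mul_one_div, le_div_iff₀ (by have := hp'.pos; positivity)]
    suffices h : (∑ C ∈ 𝒞 with P C = p, zc C) * p ^ 2 ≤ n₀ by exact_mod_cast h
    set 𝒟 := 𝒞.filter fun C => P C = p with h𝒟
    rcases 𝒟.eq_empty_or_nonempty with he | ⟨C₀, hC₀⟩
    · rw [he]; simp
    set E := T p
    have hcd : ∀ C ∈ 𝒟, Nat.card C = Nat.card E := fun C hC' => by
      obtain ⟨hC1, hC2⟩ := Finset.mem_filter.mp hC'
      obtain ⟨n, hn⟩ := hT C hC1
      rw [hn, hC2, ConjFunctor.cj_card]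
    haveI := Fintype.ofFinite N
    set Im := (Finset.univ : Finset N).image fun n : N => cj (n : G) E
    have h1 : 𝒟.card * Nat.card E ≤ n₀ := by
      have hle : 𝒟.card ≤ Im.card := Finset.card_le_card fun C hC' => by
        obtain ⟨hC1, hC2⟩ := Finset.mem_filter.mp hC'
        obtain ⟨n, hn⟩ := hT C hC1
        exact Finset.mem_image.mpr ⟨n, Finset.mem_univ _, by rw [hn, hC2]⟩
      have hEN : E ≤ N := by
        show T p ≤ N
        simp only [T, dif_pos hp']
        exact sup_le (map_subtype_le _) inf_le_left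
      have hfibre : ∀ b ∈ Im, Nat.card E ≤ ((Finset.univ : Finset ↥N).filter fun n : ↥N => cj (n : G) E = b).card := by
        intro b hb
        obtain ⟨n, -, rfl⟩ := Finset.mem_image.mp hb
        haveI := Fintype.ofFinite E
        rw [Nat.card_eq_fintype_card, ← Finset.card_univ]
        refine Finset.card_le_card_of_injOn (fun e : E => n * ⟨e, hEN e.2⟩) (fun e _ => ?_) fun a _ b _ hab => ?_
        · refine Finset.mem_coe.mpr (Finset.mem_filter.mpr ⟨Finset.mem_univ _, ?_⟩)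
          show cj ((n : G) * e) E = _
          rw [cj_mul, ConjFunctor.cj_eq_of_mem e.2]
        · exact Subtype.ext (congrArg Subtype.val (mul_left_cancel hab) :)
      calc 𝒟.card * Nat.card E ≤ Im.card * Nat.card E := Nat.mul_le_mul_right _ hle
        _ = ∑ _b ∈ Im, Nat.card E := by rw [Finset.sum_const, smul_eq_mul]
        _ ≤ ∑ b ∈ Im, ((Finset.univ : Finset ↥N).filter fun n : ↥N => cj (n : G) E = b).card := Finset.sum_le_sum hfibre
        _ = n₀ := by
          rw [← Finset.card_eq_sum_card_image, Finset.card_univ, hn₀, Nat.card_eq_fintype_card]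
    calc (∑ C ∈ 𝒟, zc C) * p ^ 2 = ∑ C ∈ 𝒟, p ^ 2 * zc C := by
          rw [Finset.sum_mul]; exact Finset.sum_congr rfl fun C _ => mul_comm _ _
      _ ≤ ∑ C ∈ 𝒟, Nat.card E := Finset.sum_le_sum fun C hC' => by
          obtain ⟨hC1, hC2⟩ := Finset.mem_filter.mp hC'
          rw [← hcd C hC', ← hC2]
          exact hPb C hC1
      _ = 𝒟.card * Nat.card E := by rw [Finset.sum_const, smul_eq_mul]
      _ ≤ n₀ := h1
  have hsum : ((∑ C ∈ 𝒞, zc C : ℕ) : ℚ) ≤ (n₀ : ℚ) * (1 / 2 - 1 / (4 * ((n₀ : ℚ) + 1))) := by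
    rw [← Finset.sum_fiberwise_of_maps_to hmem zc, Nat.cast_sum]
    calc ∑ p ∈ π, ((∑ C ∈ 𝒞 with P C = p, zc C : ℕ) : ℚ) ≤ ∑ p ∈ π, (n₀ : ℚ) * (1 / (p : ℚ) ^ 2) :=
          Finset.sum_le_sum hfib
      _ = (n₀ : ℚ) * ∑ p ∈ π, (1 : ℚ) / (p : ℚ) ^ 2 := by rw [Finset.mul_sum]
      _ ≤ _ := mul_le_mul_of_nonneg_left (prime_square_sum n₀) (Nat.cast_nonneg _)
  have hz2' : 2 * (z₀ : ℚ) ≤ n₀ := by exact_mod_cast hz2
  have hcover' : (n₀ : ℚ) ≤ z₀ + ((∑ C ∈ 𝒞, zc C : ℕ) : ℚ) := by exact_mod_cast hcover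
  have hpos : (0 : ℚ) < (n₀ : ℚ) * (1 / (4 * ((n₀ : ℚ) + 1))) := by
    have : (0 : ℚ) < n₀ := by exact_mod_cast (Nat.card_pos : 0 < Nat.card N)
    positivity
  nlinarith

end

section Final

/-- Let N be a normal subgroup of the finite group G such that for every element x of N outside the center of N the centralizer C_G(x) is a maximal subgroup of G. Then N/Z(N) is either an elementary abelian p-group for some prime p, or a Frobenius group whose kernel is an elementary abelian normal subgroup and whose complement has prime order. -/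
theorem result {G : Type*} [Group G] [Finite G] (N : Subgroup G) [N.Normal]
    (h : ∀ x : G, x ∈ N → x ∉ Subgroup.centralizer (N : Set G) → IsCoatom (Subgroup.centralizer ({x} : Set G))) :
    (∃ p : ℕ, p.Prime ∧ Cfsg.IsElementaryAbelian p (⊤ : Subgroup (↥N ⧸ Subgroup.center ↥N))) ∨
    (∃ (Q K : Subgroup (↥N ⧸ Subgroup.center ↥N)) (p : ℕ), p.Prime ∧ Cfsg.IsFrobeniusComplement Q ∧ (Nat.card ↥Q).Prime ∧
      K.Normal ∧ (K : Set (↥N ⧸ Subgroup.center ↥N)) = Cfsg.frobeniusKernel Q ∧ Cfsg.IsElementaryAbelian p K) := by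
  have hmax : MaxCent N := h
  set μ := QuotientGroup.mk' (Subgroup.center ↥N)
  have hmk : ∀ n : N, μ n = 1 ↔ (n : G) ∈ ZN N := fun n => by
    refine (QuotientGroup.eq_one_iff n).trans ⟨fun hn => ⟨n.2, mem_centralizer_iff.mpr fun y hy =>
      congrArg Subtype.val (mem_center_iff.mp hn ⟨y, hy⟩)⟩, fun hn => mem_center_iff.mpr fun y =>
      Subtype.ext (mem_centralizer_iff.mp hn.2 y y.2)⟩
  have helem : ∀ (F : Subgroup G) (p : ℕ), (∀ a ∈ F, ∀ b ∈ F, ⁅a, b⁆ ∈ ZN N) → (∀ a ∈ F, a ^ p ∈ ZN N) →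
      IsElementaryAbelian p ((F.subgroupOf N).map μ) := by
    intro F p h1 h2
    refine ⟨⟨⟨fun a b => ?_⟩⟩, ?_⟩
    · obtain ⟨_, a, ha, rfl⟩ := a
      obtain ⟨_, b, hb, rfl⟩ := b
      refine Subtype.ext (commutatorElement_eq_one_iff_mul_comm.mp ?_)
      rw [← map_commutatorElement]
      exact (hmk _).mpr (h1 a ha b hb)
    · rintro _ ⟨a, ha, rfl⟩
      rw [← map_pow]
      exact (hmk _).mpr (h2 a ha)
  by_cases hnil : Group.IsNilpotent N
  · obtain ⟨p, hp, h1, h2⟩ := nilpotent_case hmax hnil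
    refine Or.inl ⟨p, hp, ?_⟩
    have := helem N p h1 h2
    rwa [subgroupOf_self, Subgroup.map_top_of_surjective _ (QuotientGroup.mk'_surjective _)] at this
  right
  obtain ⟨x₀, hx₀, hx₀z⟩ : ∃ x ∈ N, x ∉ ZN N := by
    by_contra! hall
    refine hnil ?_
    letI : CommGroup N := { (inferInstance : Group N) with
      mul_comm := fun a b => Subtype.ext (ZN_comm (hall a a.2) b.2).eq }
    infer_instance
  obtain ⟨x, hx, hxz, hxn⟩ := exists_normal_Cn hmax hx₀ hx₀z
  obtain ⟨p, q, F, c, hp, hq, hFn, hZF, hFN, ⟨f₀, hf₀, hf₀z⟩, hc, hcF, hcq, hfpf, h1, h2, hE⟩ :=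
    normal_case hmax hnil hx hxz hxn
  haveI := hFn
  haveI := Fact.mk hq
  set cb := μ ⟨c, hc⟩ with hcb
  set K := (F.subgroupOf N).map μ
  haveI : K.Normal := Normal.map inferInstance μ (QuotientGroup.mk'_surjective _)
  have hK : ∀ n : N, μ n ∈ K ↔ (n : G) ∈ F := fun n => by
    refine ⟨?_, fun hn => mem_map_of_mem μ hn⟩
    rintro ⟨d, hd, hde⟩
    have h3 : ((d⁻¹ * n : N) : G) ∈ ZN N := (hmk _).mp (by rw [map_mul, map_inv, hde, inv_mul_cancel])
    have h4 := F.mul_mem hd (hZF h3)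
    simpa using h4
  have hcb1 : cb ≠ 1 := fun e => hcF (hZF ((hmk _).mp e))
  have hord : orderOf cb = q := orderOf_eq_prime (by rw [hcb, ← map_pow]; exact (hmk _).mpr hcq) hcb1
  set Q := zpowers cb
  have hQcard : Nat.card Q = q := by rw [Nat.card_zpowers, hord]
  have hKQ : K ⊓ Q = ⊥ := by
    refine (eq_bot_iff_forall _).mpr fun v hv => by_contra fun hv1 => hcF ?_
    have e : zpowers v = Q := eq_of_le_of_card_ge (zpowers_le.mpr hv.2) (by
      rw [hQcard, Nat.card_zpowers, orderOf_eq_prime (orderOf_dvd_iff_pow_eq_one.mp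
        (hQcard ▸ orderOf_dvd_natCard Q hv.2)) hv1])
    exact (hK ⟨c, hc⟩).mp (zpowers_le.mpr hv.1 (e ▸ mem_zpowers cb))
  have hgen : ∀ g : ↥N ⧸ Subgroup.center ↥N, ∃ k ∈ K, ∃ u ∈ Q, g = k * u := by
    intro g
    obtain ⟨⟨n, hn⟩, rfl⟩ := QuotientGroup.mk'_surjective _ g
    obtain ⟨f, hf, u, hu, rfl⟩ := mem_sup_of_normal_left.mp (hE.ge hn)
    obtain ⟨i, rfl⟩ := mem_zpowers_iff.mp hu
    refine ⟨μ ⟨f, hFN hf⟩, (hK _).mpr hf, cb ^ i, zpow_mem (mem_zpowers cb) i, ?_⟩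
    rw [hcb, ← map_zpow, ← map_mul]
    rfl
  have hQF : IsFrobeniusComplement Q := by
    refine ⟨fun e => hcb1 (mem_bot.mp (e ▸ mem_zpowers cb)), fun e => hf₀z ((hmk ⟨f₀, hFN hf₀⟩).mp ?_), fun g hg => ?_⟩
    · exact mem_bot.mp (hKQ ▸ ⟨(hK _).mpr hf₀, e ▸ mem_top _⟩)
    · obtain ⟨k, hk, u, hu, rfl⟩ := hgen g
      refine (eq_bot_iff_forall _).mpr fun v hv => by_contra fun hv1 => hg ?_
      refine Q.mul_mem ?_ hu
      have hv1' : v ∈ Q := hv.1
      have hv2 : v ∈ MulAut.conj (k * u) • Q := hv.2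
      rw [map_mul, mul_smul, show MulAut.conj u • Q = Q from Subgroup.conj_smul_eq_self_of_mem hu,
        mem_pointwise_smul_iff_inv_smul_mem, ← map_inv, MulAut.smul_def, MulAut.conj_apply, inv_inv] at hv2
      have e : zpowers v = Q := eq_of_le_of_card_ge (zpowers_le.mpr hv1') (by
        rw [hQcard, Nat.card_zpowers, orderOf_eq_prime (orderOf_dvd_iff_pow_eq_one.mp
          (hQcard ▸ orderOf_dvd_natCard Q hv1')) hv1])
      obtain ⟨i, hi⟩ := mem_zpowers_iff.mp (e ▸ mem_zpowers cb : cb ∈ zpowers v)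
      have h3 : k⁻¹ * cb * k ∈ Q := by
        rw [← hi, show k⁻¹ * v ^ i * k = (k⁻¹ * v * k) ^ i by
          have := conj_zpow (a := k⁻¹) (b := v) (i := i); rw [inv_inv] at this; exact this.symm]
        exact zpow_mem hv2 i
      have h4 : cb⁻¹ * (k⁻¹ * cb * k) = 1 := mem_bot.mp (hKQ ▸ ⟨by
        have h5 := (inferInstance : K.Normal).conj_mem _ (K.inv_mem hk) cb⁻¹
        rw [inv_inv] at h5
        simpa [mul_assoc] using K.mul_mem h5 hk, Q.mul_mem (Q.inv_mem (mem_zpowers cb)) h3⟩)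
      obtain ⟨⟨kn, hkn⟩, hkF, rfl⟩ := hk
      have h6 : ⁅c, kn⁆ ∈ ZN N := by
        refine (hmk ⁅(⟨c, hc⟩ : N), (⟨kn, hkn⟩ : N)⁆).mp ?_
        rw [map_commutatorElement, commutatorElement_eq_one_iff_mul_comm]
        rw [inv_mul_eq_one, mul_assoc, eq_inv_mul_iff_mul_eq] at h4
        exact h4.symm
      rw [(hmk ⟨kn, hkn⟩).mpr (hfpf kn hkF h6)]
      exact one_mem _
  refine ⟨Q, K, p, hp, hQF, by rw [hQcard]; exact hq, inferInstance, ?_, helem F p h1 h2⟩
  obtain ⟨K', hK', hK'n, hcompl, -⟩ := Basics.frobenius_kernel_exists hQF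
  rw [← hK']
  haveI := hK'n
  have hle : K ≤ K' := fun k hk => by
    rw [← SetLike.mem_coe, hK']
    refine or_iff_not_imp_left.mpr fun hk1 g hg => hk1 ?_
    rw [mem_pointwise_smul_iff_inv_smul_mem, ← map_inv, MulAut.smul_def, MulAut.conj_apply, inv_inv] at hg
    have h5 : g⁻¹ * k * g ∈ K := by simpa using (inferInstance : K.Normal).conj_mem k hk g⁻¹
    have h6 : g⁻¹ * k * g = 1 := mem_bot.mp (hKQ ▸ ⟨h5, hg⟩)
    calc k = g * (g⁻¹ * k * g) * g⁻¹ := by simp [mul_assoc]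
      _ = 1 := by rw [h6]; simp
  refine SetLike.coe_set_eq.mpr (le_antisymm hle fun n hn => ?_)
  obtain ⟨k, hk, u, hu, rfl⟩ := hgen n
  have h7 : u ∈ K' ⊓ Q := ⟨(K'.mul_mem_cancel_left (hle hk)).mp hn, hu⟩
  rw [disjoint_iff.mp hcompl.disjoint, mem_bot] at h7
  rw [h7, mul_one]
  exact hk

end Final


end Cfsg.Agent.S3905
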