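import Cfsg.Statements.S3908
import Cfsg.Agent.Lib.InvChar.OneSubgroup
import Cfsg.Agent.Lib.Basics.Tools

set_option autoImplicit false
open Cfsg

namespace Cfsg.Agent.S3908

/-- Let G be a finite group in which any two abelian subgroups of the same order are conjugate. Then a Sylow 2-subgroup of G is cyclic, elementary abelian or generalized quaternion, and for an odd prime p a Sylow p-subgroup of G is cyclic or has exponent dividing p. -/
theorem result {G : Type*} [Group G] [Finite G] (hB : ∀ A B : Subgroup G, IsMulCommutative ↥A → IsMulCommutative ↥B → Nat.card ↥A = Nat.card ↥B → ∃ g : G, B = A.map (MulAut.conj g).toMonoidHom) :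
    (∀ P : Sylow 2 G, IsCyclic ↥(P : Subgroup G) ∨ Cfsg.IsElementaryAbelian 2 (P : Subgroup G) ∨ ∃ k : ℕ, Nonempty (↥(P : Subgroup G) ≃* QuaternionGroup (2 ^ k))) ∧
    ∀ (p : ℕ) [Fact p.Prime], p ≠ 2 → ∀ P : Sylow p G, IsCyclic ↥(P : Subgroup G) ∨ ∀ x ∈ (P : Subgroup G), x ^ p = 1 := by
  have main : ∀ (p : ℕ) [Fact p.Prime] (P : Sylow p G), (∀ x ∈ (P : Subgroup G), x ^ p = 1) ∨
      (IsCyclic ↥(P : Subgroup G) ∨
        (p = 2 ∧ ∃ n : ℕ, Nonempty (↥(P : Subgroup G) ≃* QuaternionGroup (2 ^ n)))) := by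
    intro p hp P
    refine or_iff_not_imp_left.mpr fun hexp => ?_
    have hp' : p.Prime := hp.out
    obtain ⟨x, hxP, hx⟩ : ∃ x ∈ (P : Subgroup G), x ^ p ≠ 1 := by
      by_contra hcon
      exact hexp fun x hx => by
        by_contra h
        exact hcon ⟨x, hx, h⟩
    obtain ⟨k, hk⟩ := P.isPGroup' ⟨x, hxP⟩
    obtain ⟨j, -, hj⟩ := (Nat.dvd_prime_pow hp').mp
      (orderOf_dvd_of_pow_eq_one (congrArg Subtype.val hk : x ^ p ^ k = 1))
    have hj2 : 2 ≤ j := by
      by_contra hj2
      refine hx (orderOf_dvd_iff_pow_eq_one.mp ?_)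
      rw [hj]
      calc p ^ j ∣ p ^ 1 := pow_dvd_pow p (by omega)
        _ = p := pow_one p
    set y := x ^ p ^ (j - 2) with hy
    have hyord : orderOf y = p ^ 2 := by
      rw [hy, orderOf_pow' _ (pow_ne_zero _ hp'.ne_zero), hj,
        Nat.gcd_eq_right (pow_dvd_pow p (by omega)), Nat.pow_div (by omega) hp'.pos,
        show j - (j - 2) = 2 by omega]
    refine Cfsg.Agent.InvChar.cyclic_or_quaternion P.isPGroup' ?_
    haveI : Nontrivial ↥(P : Subgroup G) :=
      ⟨⟨⟨x, hxP⟩, 1, fun h => hx (by rw [show x = 1 from congrArg Subtype.val h, one_pow])⟩⟩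
    haveI := P.isPGroup'.center_nontrivial
    obtain ⟨⟨w, hw⟩, hw1⟩ := exists_ne (1 : Subgroup.center ↥(P : Subgroup G))
    obtain ⟨i, hi⟩ := (P.isPGroup').exists_orderOf_eq_pow w
    have hi0 : i ≠ 0 := by
      intro h
      rw [h, pow_zero, orderOf_eq_one_iff] at hi
      exact hw1 (Subtype.ext hi)
    set z := w ^ p ^ (i - 1) with hz
    have hzord : orderOf z = p := by
      rw [hz, orderOf_pow' _ (pow_ne_zero _ hp'.ne_zero), hi,
        Nat.gcd_eq_right (pow_dvd_pow p (by omega)), Nat.pow_div (by omega) hp'.pos,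
        show i - (i - 1) = 1 by omega, pow_one]
    have hzc : z ∈ Subgroup.center ↥(P : Subgroup G) := Subgroup.pow_mem _ hw _
    suffices huniq : ∀ H : Subgroup ↥(P : Subgroup G), Nat.card H = p → H = Subgroup.zpowers z by
      intro H K hH hK
      rw [huniq H hH, huniq K hK]
    intro H hH
    by_contra hne
    haveI : IsCyclic H := isCyclic_of_prime_card hH
    have hinf : Subgroup.zpowers z ⊓ H = ⊥ := by
      have hd := Subgroup.card_dvd_of_le (inf_le_right : Subgroup.zpowers z ⊓ H ≤ H)
      rw [hH] at hd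
      rcases hp'.eq_one_or_self_of_dvd _ hd with h | h
      · exact Subgroup.card_eq_one.mp h
      · exfalso
        have h1 := Subgroup.eq_of_le_of_card_ge (inf_le_right : Subgroup.zpowers z ⊓ H ≤ H)
          (le_of_eq (hH.trans h.symm))
        refine hne (Subgroup.eq_of_le_of_card_ge (h1 ▸ inf_le_left) ?_)
        rw [hH, Nat.card_zpowers, hzord]
    set S := Subgroup.zpowers z ⊔ H with hS
    have hScard : Nat.card S = p ^ 2 := by
      have h := Cfsg.Agent.Basics.card_mul_card_eq_card_sup_mul_card_inf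
        (N := Subgroup.zpowers z) (H := H) (by
          haveI : (Subgroup.zpowers z).Normal := ⟨fun n hn g => by
            have hnc : n ∈ Subgroup.center ↥(P : Subgroup G) :=
              (Subgroup.zpowers_le.mpr hzc) hn
            rw [Subgroup.mem_center_iff.mp hnc g, mul_inv_cancel_right]
            exact hn⟩
          exact Subgroup.le_normalizer_of_normal)
      rw [hinf, Subgroup.card_bot, mul_one, Nat.card_zpowers, hzord, hH] at h
      rw [← h, sq]
    have hSc : IsMulCommutative S := by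
      have e : S = Subgroup.closure ({z} ∪ (H : Set ↥(P : Subgroup G))) := by
        rw [Subgroup.closure_union, Subgroup.closure_eq, ← Subgroup.zpowers_eq_closure]
      rw [e]
      refine Subgroup.isMulCommutative_closure ?_
      rintro a (ha | ha) b (hb | hb)
      · rw [Set.mem_singleton_iff.mp ha, Set.mem_singleton_iff.mp hb]
      · rw [Set.mem_singleton_iff.mp ha]
        exact (Subgroup.mem_center_iff.mp hzc b).symm
      · rw [Set.mem_singleton_iff.mp hb]
        exact Subgroup.mem_center_iff.mp hzc a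
      · obtain ⟨g, hg⟩ := IsCyclic.exists_generator (α := H)
        obtain ⟨r, hr⟩ := hg ⟨a, ha⟩
        obtain ⟨s, hs⟩ := hg ⟨b, hb⟩
        have hr' : (g : ↥(P : Subgroup G)) ^ r = a := congrArg Subtype.val hr
        have hs' : (g : ↥(P : Subgroup G)) ^ s = b := congrArg Subtype.val hs
        rw [← hr', ← hs']
        exact Commute.zpow_zpow_self _ _ _
    haveI : IsMulCommutative S := hSc
    have hSpow : ∀ s ∈ S, s ^ p = 1 := by
      intro s hs
      have e : S ≤ { carrier := {s | s ∈ S ∧ s ^ p = 1}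
                     one_mem' := ⟨one_mem S, one_pow p⟩
                     mul_mem' := fun {a b} ha hb => ⟨mul_mem ha.1 hb.1, by
                       rw [(show Commute a b from congrArg Subtype.val
                         (hSc.is_comm.comm ⟨a, ha.1⟩ ⟨b, hb.1⟩)).mul_pow, ha.2, hb.2, one_mul]⟩
                     inv_mem' := fun {a} ha => ⟨inv_mem ha.1, by rw [inv_pow, ha.2, inv_one]⟩ } := by
        refine sup_le (Subgroup.zpowers_le.mpr
          ⟨Subgroup.mem_sup_left (Subgroup.mem_zpowers z), orderOf_dvd_iff_pow_eq_one.mp (dvd_of_eq hzord)⟩) ?_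
        intro h hh
        refine ⟨Subgroup.mem_sup_right hh, ?_⟩
        have h1 : (⟨h, hh⟩ : H) ^ Nat.card H = 1 := pow_card_eq_one'
        rw [hH] at h1
        exact congrArg Subtype.val h1
      exact (e hs).2
    have hA : IsMulCommutative ↥(S.map (P : Subgroup G).subtype) := by
      refine ⟨⟨?_⟩⟩
      rintro ⟨_, a, ha, rfl⟩ ⟨_, b, hb, rfl⟩
      refine Subtype.ext ?_
      show (a : G) * b = b * a
      exact congrArg (fun t : S => ((t : ↥(P : Subgroup G)) : G))
        (hSc.is_comm.comm ⟨a, ha⟩ ⟨b, hb⟩)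
    obtain ⟨g, hg⟩ := hB (S.map (P : Subgroup G).subtype) (Subgroup.zpowers y) hA inferInstance (by
      rw [Nat.card_zpowers, hyord, Subgroup.card_map_of_injective (P : Subgroup G).subtype_injective,
        hScard])
    have hy2 : y ∈ (S.map (P : Subgroup G).subtype).map (MulAut.conj g).toMonoidHom := by
      rw [← hg]
      exact Subgroup.mem_zpowers y
    obtain ⟨_, ⟨s, hs, rfl⟩, hsy⟩ := hy2
    have h1 : y ^ p = 1 := by
      rw [← hsy, ← map_pow, ← map_pow, hSpow s hs, map_one, map_one]
    have h2 := orderOf_dvd_of_pow_eq_one h1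
    rw [hyord] at h2
    have h3 := Nat.le_of_dvd hp'.pos h2
    nlinarith [hp'.two_le]
  constructor
  · intro P
    haveI := Fact.mk Nat.prime_two
    rcases main 2 P with h | h | ⟨-, n, hn⟩
    · refine Or.inr (Or.inl ⟨⟨⟨fun a b => Subtype.ext ?_⟩⟩, h⟩)
      show (a : G) * b = b * a
      have e : ∀ c ∈ (P : Subgroup G), c⁻¹ = c := fun c hc =>
        inv_eq_of_mul_eq_one_right (by rw [← sq]; exact h c hc)
      calc (a : G) * b = ((a : G) * b)⁻¹ := (e _ (mul_mem a.2 b.2)).symm
        _ = b * a := by rw [mul_inv_rev, e _ a.2, e _ b.2]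
    · exact Or.inl h
    · exact Or.inr (Or.inr ⟨n, hn⟩)
  · intro p _ hp P
    rcases main p P with h | h | ⟨h, -⟩
    · exact Or.inr h
    · exact Or.inl h
    · exact absurd h hp

end Cfsg.Agent.S3908
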