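import Cfsg.Statements.S3909
import Mathlib

set_option autoImplicit false
open Cfsg

namespace Cfsg.Agent.S3909

/-- Let G be a finite group in which any two abelian subgroups of the same order are conjugate. Let M be a normal subgroup of G. If M contains an element of the same order as a ∈ G, then a ∈ M; and if M is elementary abelian of order p^t with p prime and t ≥ 2, then M is the unique Sylow p-subgroup of G. -/
theorem result {G : Type*} [Group G] [Finite G] (hB : ∀ A B : Subgroup G, IsMulCommutative ↥A → IsMulCommutative ↥B → Nat.card ↥A = Nat.card ↥B → ∃ g : G, B = A.map (MulAut.conj g).toMonoidHom) (M : Subgroup G) [M.Normal] :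
    (∀ a : G, (∃ m ∈ M, orderOf m = orderOf a) → a ∈ M) ∧
    ∀ (p t : ℕ) [Fact p.Prime], 2 ≤ t → Nat.card ↥M = p ^ t → Cfsg.IsElementaryAbelian p M → ∀ P : Sylow p G, (P : Subgroup G) = M := by
  have hcyc : ∀ a b : G, orderOf a = orderOf b →
      ∃ g : G, Subgroup.zpowers b = (Subgroup.zpowers a).map (MulAut.conj g).toMonoidHom :=
    fun a b hab => hB _ _ inferInstance inferInstance (by rw [Nat.card_zpowers, Nat.card_zpowers, hab])
  have h1 : ∀ a : G, (∃ m ∈ M, orderOf m = orderOf a) → a ∈ M := by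
    rintro a ⟨m, hm, he⟩
    obtain ⟨g, hg⟩ := hcyc m a he
    obtain ⟨y, hy, hya⟩ : a ∈ (Subgroup.zpowers m).map (MulAut.conj g).toMonoidHom :=
      hg ▸ Subgroup.mem_zpowers a
    rw [← hya]
    exact (inferInstance : M.Normal).conj_mem y (Subgroup.zpowers_le.mpr hm hy) g
  refine ⟨h1, fun p t _ ht hcard hel P => ?_⟩
  have hMp : IsPGroup p M := IsPGroup.of_card hcard
  refine le_antisymm ?_ (hMp.le_sylow_of_normal P)
  have hexp : ∀ x ∈ (P : Subgroup G), x ^ p = 1 := by
    intro x hx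
    obtain ⟨k, hk⟩ := IsPGroup.iff_orderOf.mp P.isPGroup' ⟨x, hx⟩
    rw [← Subgroup.orderOf_coe] at hk
    by_contra hne
    have hk2 : 2 ≤ k := by
      by_contra hlt
      exact hne (orderOf_dvd_iff_pow_eq_one.mp (hk ▸ (pow_dvd_pow p (by omega : k ≤ 1)).trans
        (by rw [pow_one])))
    obtain ⟨B, hBc⟩ := Sylow.exists_subgroup_card_pow_prime (G := M) p (n := 2)
      (hcard ▸ pow_dvd_pow p ht)
    have hy : orderOf (x ^ p ^ (k - 2)) = p ^ 2 := by
      rw [orderOf_pow_of_dvd (pow_ne_zero _ (Fact.out : p.Prime).ne_zero)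
        (hk ▸ pow_dvd_pow p (Nat.sub_le k 2)), hk, Nat.pow_div (Nat.sub_le k 2) (Fact.out : p.Prime).pos,
        show k - (k - 2) = 2 by omega]
    have hBab : IsMulCommutative ↥(B.map M.subtype) := ⟨⟨fun a b => Subtype.ext (by
      obtain ⟨u, -, hu⟩ := a.2
      obtain ⟨v, -, hv⟩ := b.2
      show (a : G) * b = b * a
      rw [← hu, ← hv]
      exact congrArg Subtype.val (hel.1.is_comm.comm u v))⟩⟩
    obtain ⟨g, hg⟩ := hB (B.map M.subtype) (Subgroup.zpowers (x ^ p ^ (k - 2))) hBab inferInstance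
      (by rw [Subgroup.card_map_of_injective M.subtype_injective, hBc, Nat.card_zpowers, hy])
    obtain ⟨y, ⟨u, -, hu⟩, hye⟩ : x ^ p ^ (k - 2) ∈
        (B.map M.subtype).map (MulAut.conj g).toMonoidHom := hg ▸ Subgroup.mem_zpowers _
    have h2 : (x ^ p ^ (k - 2)) ^ p = 1 := by
      rw [← hye, ← map_pow, ← hu]
      show (MulAut.conj g).toMonoidHom ((u : G) ^ p) = 1
      rw [hel.2 u u.2, map_one]
    have h3 := orderOf_dvd_of_pow_eq_one h2
    rw [hy] at h3
    have h4 := Nat.le_of_dvd (Fact.out : p.Prime).pos h3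
    nlinarith [(Fact.out : p.Prime).two_le]
  intro x hx
  rcases eq_or_ne x 1 with rfl | hne
  · exact M.one_mem
  obtain ⟨m, hm⟩ := exists_prime_orderOf_dvd_card' (G := M) p (hcard ▸ dvd_pow_self p (by omega))
  exact h1 x ⟨m, m.2, by rw [Subgroup.orderOf_coe, hm, orderOf_eq_prime (hexp x hx) hne]⟩

end Cfsg.Agent.S3909
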