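import Cfsg.Statements.S3910
import Cfsg.Agent.Lib.Fpf.Square
import Cfsg.Agent.Lib.Basics.Frattini

set_option autoImplicit false
open Cfsg
open scoped commutatorElement

namespace Cfsg.Agent.S3910

/-- A finite nilpotent group in which any two abelian subgroups of the same order are conjugate is cyclic. -/
theorem result {G : Type*} [Group G] [Finite G] (hB : ∀ A B : Subgroup G, IsMulCommutative ↥A → IsMulCommutative ↥B → Nat.card ↥A = Nat.card ↥B → ∃ g : G, B = A.map (MulAut.conj g).toMonoidHom) (hnil : Group.IsNilpotent G) : IsCyclic G := by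
  haveI := hnil
  suffices hZ : IsZGroup G by infer_instance
  refine ⟨fun p hp P => ?_⟩
  haveI := Fact.mk hp
  -- conjugation inside the nilpotent group is conjugation inside the Sylow subgroup
  have hdec : ∀ g : G, g ∈ (P : Subgroup G) ⊔ Subgroup.centralizer ((P : Subgroup G) : Set G) := by
    intro g
    refine Fpf.mem_of_prime_power _ fun z _ s k hs hzs => ?_
    haveI := Fact.mk hs
    by_cases hsp : s = p
    · subst hsp
      exact Subgroup.mem_sup_left (Basics.pCore_le_sylow s P (Fpf.mem_pCore_of_nilpotent hzs))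
    · refine Subgroup.mem_sup_right (Subgroup.mem_centralizer_iff.mpr fun y hy => ?_)
      obtain ⟨j, hj⟩ := P.isPGroup' ⟨y, hy⟩
      exact (Fpf.commute_of_nilpotent (Ne.symm hsp) (congrArg Subtype.val hj) hzs).eq
  obtain ⟨x, hx⟩ := Finite.exists_max fun y : (P : Subgroup G) => orderOf y
  have hmem : ∀ y : (P : Subgroup G), y ∈ commutator (P : Subgroup G) ⊔ Subgroup.zpowers x := by
    intro y
    obtain ⟨i, hi⟩ := IsPGroup.iff_orderOf.mp P.isPGroup' y
    obtain ⟨j, hj⟩ := IsPGroup.iff_orderOf.mp P.isPGroup' x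
    have hij : i ≤ j := (Nat.pow_le_pow_iff_right hp.one_lt).mp (hi ▸ hj ▸ hx y)
    have hz : orderOf (x ^ p ^ (j - i)) = orderOf y := by
      rw [orderOf_pow_of_dvd (pow_ne_zero _ hp.ne_zero) (hj ▸ pow_dvd_pow p (Nat.sub_le j i)), hj,
        Nat.pow_div (Nat.sub_le j i) hp.pos, Nat.sub_sub_self hij, hi]
    obtain ⟨g, hg⟩ := hB (Subgroup.zpowers ((x ^ p ^ (j - i) : (P : Subgroup G)) : G))
      (Subgroup.zpowers (y : G)) inferInstance inferInstance
      (by rw [Nat.card_zpowers, Nat.card_zpowers, Subgroup.orderOf_coe, Subgroup.orderOf_coe, hz])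
    obtain ⟨w, hw, hwe⟩ : (y : G) ∈ (Subgroup.zpowers ((x ^ p ^ (j - i) : (P : Subgroup G)) : G)).map
        (MulAut.conj g).toMonoidHom := hg ▸ Subgroup.mem_zpowers _
    obtain ⟨e, rfl⟩ := Subgroup.mem_zpowers_iff.mp hw
    obtain ⟨a, ha, b, hb, rfl⟩ : ∃ a ∈ (P : Subgroup G),
        ∃ b ∈ Subgroup.centralizer ((P : Subgroup G) : Set G), a * b = g := by
      have hle : (P : Subgroup G) ≤ Subgroup.normalizer
          (Subgroup.centralizer ((P : Subgroup G) : Set G) : Set G) := by
        intro a ha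
        rw [Subgroup.mem_normalizer_iff]
        intro c
        constructor
        · intro hc
          rw [Subgroup.mem_centralizer_iff] at hc ⊢
          intro d hd
          have := hc (a⁻¹ * d * a) (mul_mem (mul_mem (inv_mem ha) hd) ha)
          calc d * (a * c * a⁻¹) = a * ((a⁻¹ * d * a) * c) * a⁻¹ := by group
            _ = a * (c * (a⁻¹ * d * a)) * a⁻¹ := by rw [this]
            _ = a * c * a⁻¹ * d := by group
        · intro hc
          rw [Subgroup.mem_centralizer_iff] at hc ⊢
          intro d hd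
          have := hc (a * d * a⁻¹) (mul_mem (mul_mem ha hd) (inv_mem ha))
          calc d * c = a⁻¹ * ((a * d * a⁻¹) * (a * c * a⁻¹)) * a := by group
            _ = a⁻¹ * ((a * c * a⁻¹) * (a * d * a⁻¹)) * a := by rw [this]
            _ = c * d := by group
      obtain ⟨a, ha, b, hb, hab⟩ := (Basics.mem_sup_of_le_normalizer' hle).mp
        (sup_comm (P : Subgroup G) _ ▸ hdec g)
      exact ⟨a, ha, b, hb, hab.symm⟩
    set u : (P : Subgroup G) := (x ^ p ^ (j - i)) ^ e with hu
    have hy : y = (⟨a, ha⟩ : (P : Subgroup G)) * u * (⟨a, ha⟩ : (P : Subgroup G))⁻¹ := by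
      refine Subtype.ext ?_
      rw [← hwe]
      have h1 : (u : G) * b = b * u := Subgroup.mem_centralizer_iff.mp hb u u.2
      show a * b * ((x ^ p ^ (j - i) : (P : Subgroup G)) : G) ^ e * (a * b)⁻¹ = a * (u : G) * a⁻¹
      rw [show ((x ^ p ^ (j - i) : (P : Subgroup G)) : G) ^ e = (u : G) by rw [hu]; rfl,
        mul_assoc a b, ← h1, mul_inv_rev, mul_assoc, ← mul_assoc (u * b : G), mul_inv_cancel_right,
        mul_assoc]
    rw [hy, show (⟨a, ha⟩ : (P : Subgroup G)) * u * (⟨a, ha⟩ : (P : Subgroup G))⁻¹ =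
      ⁅(⟨a, ha⟩ : (P : Subgroup G)), u⁆ * u by rw [commutatorElement_def]; group]
    exact Subgroup.mul_mem_sup
      (Subgroup.commutator_mem_commutator (Subgroup.mem_top _) (Subgroup.mem_top _))
      (zpow_mem (pow_mem (Subgroup.mem_zpowers x) _) e)
  haveI : Group.IsNilpotent (P : Subgroup G) := P.isPGroup'.isNilpotent
  have hgen : Subgroup.zpowers x = ⊤ := by
    by_contra hne
    obtain ⟨W, hW, hle⟩ := (eq_top_or_exists_le_coatom (Subgroup.zpowers x)).resolve_left hne
    obtain ⟨hWn, hq⟩ := Basics.coatom_normal_prime hW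
    haveI := hWn
    haveI := Fact.mk hq
    have hcom : commutator (P : Subgroup G) ≤ W := by
      haveI : IsCyclic ((P : Subgroup G) ⧸ W) := isCyclic_of_prime_card (p := W.index) W.index_eq_card.symm
      rw [commutator_def, Subgroup.commutator_le]
      intro u _ v _
      rw [← QuotientGroup.eq_one_iff]
      show QuotientGroup.mk' W _ = 1
      rw [map_commutatorElement, commutatorElement_eq_one_iff_mul_comm]
      exact IsCyclic.commGroup.mul_comm _ _
    exact hW.1 (eq_top_iff.mpr fun y _ => sup_le hcom hle (hmem y))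
  exact isCyclic_iff_exists_zpowers_eq_top.mpr ⟨x, hgen⟩

end Cfsg.Agent.S3910
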