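import Cfsg.Statements.S3913
import Cfsg.Agent.Lib.BGroup23.Solvable
import Cfsg.Agent.Lib.Coprime23.Conjugacy
import Cfsg.Agent.Lib.ConjFunctor.Basic
import Cfsg.Agent.Lib.Basics.FpfAbelian
import Cfsg.Agent.S3909

set_option autoImplicit false
open Cfsg

namespace Cfsg.Agent.S3913


open Subgroup Cfsg.Agent
open Cfsg.Agent.BGroup23 (HB mem_of_orderOf_eq sylow_unique sylow_two_cases hb_quotient)
open Cfsg.Agent.ConjFunctor (cj mem_cj cj_mul cj_one cj_card cj_inf cj_eq_iff cj_eq_of_mem conj_mem_cj)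
open scoped Pointwise commutatorElement

universe u

set_option maxHeartbeats 1000000
set_option linter.style.haveILetI false
set_option linter.unusedSectionVars false
set_option linter.unusedVariables false

/-- Subgroups of equal order are conjugate. -/
def EqC (G : Type*) [Group G] : Prop :=
  ∀ A B : Subgroup G, Nat.card A = Nat.card B → ∃ g : G, B = cj g A

section
variable {G : Type u} [Group G] [Finite G]

theorem cj_sup (g : G) (H K : Subgroup G) : cj g (H ⊔ K) = cj g H ⊔ cj g K := Subgroup.map_sup H K _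

theorem cj_normal (g : G) (N : Subgroup G) [N.Normal] : cj g N = N :=
  cj_eq_iff.mpr (by rw [normalizer_eq_top_iff.mpr inferInstance]; exact mem_top g)

theorem compl_conj (N : Subgroup G) [N.Normal] [Group.IsSolvable N] {A B : Subgroup G}
    (hA : (Nat.card N).Coprime (Nat.card A)) (hB : (Nat.card N).Coprime (Nat.card B))
    (h : A ⊔ N = B ⊔ N) : ∃ n ∈ N, B = cj n A := by
  set H := A ⊔ N with hH
  have hAH : A ≤ H := le_sup_left
  have hBH : B ≤ H := h ▸ le_sup_left
  have hNH : N ≤ H := le_sup_right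
  haveI : Group.IsSolvable ↥(N.subgroupOf H) := Basics.isSolvable_subgroupOf hNH inferInstance
  have hcard : ∀ C : Subgroup G, (Nat.card N).Coprime (Nat.card C) → C ⊔ N = H →
      (N.subgroupOf H).IsComplement' (C.subgroupOf H) := by
    intro C hC hCH
    have hle : C ≤ H := hCH ▸ le_sup_left
    refine isComplement'_of_coprime ?_ ?_
    · rw [Basics.card_subgroupOf hNH, Basics.card_subgroupOf hle,
        ← Basics.card_sup_of_coprime (by rw [normalizer_eq_top_iff.mpr inferInstance]; exact le_top) hC,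
        sup_comm, hCH]
    · rwa [Basics.card_subgroupOf hNH, Basics.card_subgroupOf hle]
  have hA' := hcard A hA rfl
  have hB' := hcard B hB h.symm
  obtain ⟨n, hn, he⟩ := Coprime23.exists_conj_complement (N.subgroupOf H)
    (by rw [hA'.symm.index_eq_card, Basics.card_subgroupOf hNH, Basics.card_subgroupOf hAH]; exact hA)
    _ _ hA' hB'
  refine ⟨(n : G), hn, ?_⟩
  have h1 := congrArg (Subgroup.map H.subtype) he
  rw [map_subgroupOf_eq_of_le hBH, map_map,
    show H.subtype.comp (MulAut.conj n).toMonoidHom = (MulAut.conj (n : G)).toMonoidHom.comp H.subtype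
      from rfl, ← map_map, map_subgroupOf_eq_of_le hAH] at h1
  exact h1

theorem card_map_mk (N : Subgroup G) [N.Normal] (A : Subgroup G) :
    Nat.card (A.map (QuotientGroup.mk' N)) * Nat.card ↥(A ⊓ N) = Nat.card A := by
  have h1 := relIndex_ker (K := A) (QuotientGroup.mk' N)
  rw [QuotientGroup.ker_mk'] at h1
  rw [← h1, ← inf_relIndex_left A N]
  exact mul_comm _ _ |>.trans (by
    have := card_mul_index ((A ⊓ N).subgroupOf A)
    rwa [Basics.card_subgroupOf inf_le_left] at this)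

theorem cj_sup_eq_of_map (N : Subgroup G) [N.Normal] {A B : Subgroup G} {g : G}
    (h : B.map (QuotientGroup.mk' N) = cj (QuotientGroup.mk' N g) (A.map (QuotientGroup.mk' N))) :
    cj g A ⊔ N = B ⊔ N := by
  have h1 : (cj g A).map (QuotientGroup.mk' N) = B.map (QuotientGroup.mk' N) := by
    rw [h]
    show (A.map (MulAut.conj g).toMonoidHom).map (QuotientGroup.mk' N) =
      (A.map (QuotientGroup.mk' N)).map (MulAut.conj (QuotientGroup.mk' N g)).toMonoidHom
    rw [map_map, map_map]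
    congr 1
  have h2 := congrArg (Subgroup.comap (QuotientGroup.mk' N)) h1
  rwa [comap_map_eq, comap_map_eq, QuotientGroup.ker_mk'] at h2

/-- Lifting through a normal subgroup of prime order. -/
theorem step {p : ℕ} (hp : p.Prime) (N : Subgroup G) [N.Normal] (hN : Nat.card N = p)
    (hsub : ∀ A : Subgroup G, p ∣ Nat.card A → N ≤ A) (hQ : EqC (G ⧸ N)) : EqC G := by
  intro A B hcard
  haveI := Fact.mk hp
  haveI : IsCyclic N := isCyclic_of_prime_card hN
  have hdiv : ∀ C : Subgroup G, (p ∣ Nat.card C ∧ N ≤ C) ∨ (Nat.card N).Coprime (Nat.card C) := fun C => by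
    by_cases h : p ∣ Nat.card C
    · exact Or.inl ⟨h, hsub C h⟩
    · exact Or.inr (hN ▸ hp.coprime_iff_not_dvd.mpr h)
  have hinf : Nat.card ↥(A ⊓ N) = Nat.card ↥(B ⊓ N) := by
    rcases hdiv A with ⟨hd, hle⟩ | hco
    · rw [inf_eq_right.mpr hle, inf_eq_right.mpr (hsub B (hcard ▸ hd))]
    · rw [inf_comm A, inf_comm B, (disjoint_of_coprime_natCard hco).eq_bot,
        (disjoint_of_coprime_natCard (hcard ▸ hco)).eq_bot]
  obtain ⟨q, hq⟩ := hQ (A.map (QuotientGroup.mk' N)) (B.map (QuotientGroup.mk' N)) (by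
    refine Nat.eq_of_mul_eq_mul_right (Nat.card_pos (α := ↥(A ⊓ N))) ?_
    rw [card_map_mk]; rw [hinf, card_map_mk, hcard])
  obtain ⟨g, rfl⟩ := QuotientGroup.mk'_surjective N q
  have h := cj_sup_eq_of_map N hq
  rcases hdiv A with ⟨hd, hle⟩ | hco
  · refine ⟨g, ?_⟩
    have h1 : N ≤ cj g A := (cj_normal g N).ge.trans (map_mono hle)
    rw [sup_eq_left.mpr h1, sup_eq_left.mpr (hsub B (hcard ▸ hd))] at h
    exact h.symm
  · obtain ⟨n, -, hn⟩ := compl_conj N (A := cj g A) (B := B) (by rwa [cj_card]) (hcard ▸ hco) h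
    exact ⟨n * g, by rw [cj_mul]; exact hn⟩

theorem le_of_mem_prime {p : ℕ} (hp : p.Prime) {N : Subgroup G} (hN : Nat.card N = p) {A : Subgroup G}
    {a : G} (haA : a ∈ A) (haN : a ∈ N) (ha : orderOf a = p) : N ≤ A := by
  have : zpowers a = N := eq_of_le_of_card_ge (zpowers_le.mpr haN) (by rw [Nat.card_zpowers, ha, hN])
  exact this ▸ zpowers_le.mpr haA

theorem isPGroup_zpowers {r : ℕ} (hr : r.Prime) {a : G} (ha : orderOf a = r) : IsPGroup r (zpowers a) :=
  haveI := Fact.mk hr
  IsPGroup.of_card (n := 1) (by rw [Nat.card_zpowers, ha, pow_one])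

theorem orderOf_of_mem_pgroup {r : ℕ} {H : Subgroup G} (hH : IsPGroup r H) [Fact r.Prime] {x : G}
    (hx : x ∈ H) : ∃ i, orderOf x = r ^ i := by
  obtain ⟨i, hi⟩ := (IsPGroup.iff_orderOf.mp hH) ⟨x, hx⟩
  exact ⟨i, by rwa [← Subgroup.orderOf_coe] at hi⟩

end

/-- Z-groups. -/
theorem zconj : ∀ (n : ℕ) (X : Type u) [Group X] [Finite X] [IsZGroup X], Nat.card X = n → EqC X := by
  intro n
  induction n using Nat.strong_induction_on with
  | _ n IH =>
  intro X _ _ _ hn
  rcases subsingleton_or_nontrivial X with hs | hnt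
  · exact fun A B _ => ⟨1, by rw [cj_one]; exact Subsingleton.elim _ _⟩
  obtain ⟨p, E, hp, hEn, -, hE1, -, hEp⟩ :=
    Basics.exists_elementary_normal (N := (⊤ : Subgroup X)) top_ne_bot inferInstance
  haveI := hEn
  haveI := Fact.mk hp
  have hEpg : IsPGroup p E := Basics.isPGroup_of_pow_eq_one hEp
  obtain ⟨c, hc⟩ := IsCyclic.exists_ofOrder_eq_natCard (α := E)
    (h := hEpg.isCyclic_of_isZGroup)
  have hE : Nat.card E = p := by
    rcases (Nat.dvd_prime hp).mp (orderOf_dvd_of_pow_eq_one (Subtype.ext (hEp c c.2) : c ^ p = 1)) with h | h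
    · exact absurd (eq_bot_of_card_eq E (hc ▸ h)) hE1
    · rw [← hc, h]
  refine step hp E hE (fun A hA => ?_) (IH _ ?_ (X ⧸ E) rfl)
  · obtain ⟨⟨a, haA⟩, ha⟩ := exists_prime_orderOf_dvd_card' p hA
    rw [Subgroup.orderOf_mk] at ha
    obtain ⟨P, hP⟩ := (isPGroup_zpowers hp ha).exists_le_sylow
    have hEP : E ≤ (P : Subgroup X) := hEpg.le_sylow_of_normal P
    have h1 := Basics.cyclic_subgroup_eq_of_card_eq (A := E.subgroupOf (P : Subgroup X))
      (B := (zpowers a).subgroupOf (P : Subgroup X))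
      (by rw [Basics.card_subgroupOf hEP, Basics.card_subgroupOf hP, Nat.card_zpowers, ha, hE])
    have h2 : E = zpowers a := by
      have := congrArg (Subgroup.map (P : Subgroup X).subtype) h1
      rwa [map_subgroupOf_eq_of_le hEP, map_subgroupOf_eq_of_le hP] at this
    exact h2 ▸ zpowers_le.mpr haA
  · rw [← hn]; exact Basics.card_quotient_lt hE1

section
variable {G : Type u} [Group G] [Finite G]

theorem fitting_pElement {r : ℕ} [hr : Fact r.Prime] {x : G} (hx : x ∈ fittingSubgroup G) {i : ℕ}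
    (hxo : orderOf x = r ^ i) : x ∈ pCore r G := by
  obtain ⟨P, hP⟩ := (IsPGroup.of_card (n := i) (by rw [Nat.card_zpowers, Subgroup.orderOf_mk, hxo]) :
    IsPGroup r (zpowers (⟨x, hx⟩ : fittingSubgroup G))).exists_le_sylow
  haveI : (P : Subgroup (fittingSubgroup G)).Characteristic := P.characteristic_of_normal inferInstance
  haveI : ((P : Subgroup (fittingSubgroup G)).map (fittingSubgroup G).subtype).Normal :=
    ConjAct.normal_of_characteristic_of_normal
  exact Basics.le_pCore (P.2.map (fittingSubgroup G).subtype) ⟨_, hP (mem_zpowers _), rfl⟩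

/-- A nilpotent subgroup with abelian Sylow subgroups is abelian. -/
theorem comm_of_sylow (X : Subgroup G) (hX : Group.IsNilpotent X)
    (h : ∀ r : ℕ, ∀ _ : Fact r.Prime, ∀ P : Subgroup G, IsPGroup r P → P ≤ X → ∀ a ∈ P, ∀ b ∈ P, a * b = b * a) :
    ∀ a ∈ X, ∀ b ∈ X, a * b = b * a := by
  haveI := hX
  have hcent : center X = ⊤ := by
    refine Basics.eq_top_of_sylow_le _ fun p hp _ => ⟨default, fun y hy => mem_center_iff.mpr fun z => ?_⟩
    have : centralizer ({y} : Set X) = ⊤ := by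
      refine Basics.eq_top_of_sylow_le _ fun q hq _ => ⟨default, fun w hw => ?_⟩
      refine mem_centralizer_singleton_iff.mpr ?_
      by_cases hqp : q = p
      · subst hqp
        exact Subtype.ext (h q inferInstance (((default : Sylow q X) : Subgroup X).map X.subtype)
          ((default : Sylow q X).2.map _) (map_subtype_le _) w ⟨w, hw, rfl⟩ y ⟨y, hy, rfl⟩)
      · obtain ⟨i, hi⟩ := orderOf_of_mem_pgroup (default : Sylow q X).2 hw
        obtain ⟨j, hj⟩ := orderOf_of_mem_pgroup (default : Sylow p X).2 hy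
        refine (Cfsg.Agent.Transfer.commute_of_coprime_of_nilpotent ?_).eq
        rw [hi, hj]
        exact Nat.Coprime.pow _ _ ((Nat.coprime_primes hq.out hp.out).mpr hqp)
    exact mem_centralizer_singleton_iff.mp (this ▸ mem_top z)
  intro a ha b hb
  exact congrArg Subtype.val (mem_center_iff.mp (hcent ▸ mem_top (⟨b, hb⟩ : X)) ⟨a, ha⟩)

/-- A subgroup is contained in another one as soon as its elements of prime power order are. -/
theorem le_of_pElements {U V : Subgroup G}
    (h : ∀ r : ℕ, r.Prime → r ∣ Nat.card U → ∀ x ∈ U, ∀ i : ℕ, orderOf x = r ^ i → x ∈ V) : U ≤ V := by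
  rw [← subgroupOf_eq_top]
  refine Basics.eq_top_of_sylow_le _ fun r hr hd => ⟨default, fun x hx => ?_⟩
  obtain ⟨i, hi⟩ := orderOf_of_mem_pgroup (default : Sylow r U).2 hx
  rw [← Subgroup.orderOf_coe] at hi
  exact h r hr.out hd x x.2 i hi

/-- A noncyclic abelian exponent-`r` group of operators, each vector having a nontrivial stabiliser,
has a nontrivial element fixing everything. -/
theorem exists_trivial_action (R P : Subgroup G) (hRab : ∀ a ∈ R, ∀ b ∈ R, a * b = b * a)
    (hRP : R ≤ normalizer (P : Set G)) (hPab : ∀ a ∈ P, ∀ b ∈ P, a * b = b * a)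
    (hco : (Nat.card R).Coprime (Nat.card P))
    (h : ∀ v ∈ P, ∃ x ∈ R, x ≠ 1 ∧ x * v = v * x) : ∃ x ∈ R, x ≠ 1 ∧ ∀ v ∈ P, x * v = v * x := by
  classical
  obtain ⟨⟨v, hv⟩, hmin⟩ := Finite.exists_min fun v : P => Nat.card ↥(R ⊓ centralizer ({(v : G)} : Set G))
  obtain ⟨x, hxR, hx1, hxv⟩ := h v hv
  refine ⟨x, hxR, hx1, fun u hu => ?_⟩
  by_contra hxu
  set X := R ⊓ centralizer ({v} : Set G) with hX
  haveI := Fintype.ofFinite X
  letI : CommGroup P := { (inferInstance : Group P) with mul_comm := fun a b => Subtype.ext (hPab a a.2 b b.2) }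
  let act : G → P → P := fun y w => if hy : y ∈ normalizer (P : Set G) then
    ⟨y * w * y⁻¹, (mem_normalizer_iff.mp hy w).mp w.2⟩ else 1
  have hact : ∀ y ∈ R, ∀ w : P, ((act y w : P) : G) = y * w * y⁻¹ := fun y hy w => by
    simp only [act, dif_pos (hRP hy)]
  let e : P → P := fun w => ∏ y : X, act (y : G) w
  have he_mul : ∀ a b : P, e (a * b) = e a * e b := fun a b => by
    simp only [e, ← Finset.prod_mul_distrib]
    refine Finset.prod_congr rfl fun y _ => Subtype.ext ?_
    rw [Subgroup.coe_mul, hact _ y.2.1, hact _ y.2.1, hact _ y.2.1, Subgroup.coe_mul]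
    simp [mul_assoc]
  let eh : P →* P := MonoidHom.mk' e he_mul
  have he_fix : ∀ (y : X) (w : P), act (y : G) (e w) = e w := by
    intro y w
    have h1 : ∀ a b : P, act (y : G) (a * b) = act y a * act y b := fun a b => Subtype.ext (by
      rw [Subgroup.coe_mul, hact _ y.2.1, hact _ y.2.1, hact _ y.2.1, Subgroup.coe_mul]
      simp [mul_assoc])
    rw [show act (y : G) (e w) = MonoidHom.mk' (act (y : G)) h1 (e w) from rfl, map_prod]
    refine Fintype.prod_equiv (Equiv.mulLeft y) _ _ fun z => Subtype.ext ?_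
    show ((act (y : G) (act (z : G) w) : P) : G) = _
    rw [hact _ y.2.1, hact _ z.2.1, Equiv.coe_mulLeft, hact _ (y * z).2.1, Subgroup.coe_mul]
    simp [mul_assoc]
  have he_comm : ∀ (y : G), y ∈ R → ∀ w : P, e (act y w) = act y (e w) := by
    intro y hy w
    have h1 : ∀ a b : P, act y (a * b) = act y a * act y b := fun a b => Subtype.ext (by
      rw [Subgroup.coe_mul, hact _ hy, hact _ hy, hact _ hy, Subgroup.coe_mul]
      simp [mul_assoc])
    rw [show act y (e w) = MonoidHom.mk' (act y) h1 (e w) from rfl, map_prod]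
    refine Finset.prod_congr rfl fun z _ => Subtype.ext ?_
    show ((act (z : G) (act y w) : P) : G) = ((act y (act (z : G) w) : P) : G)
    rw [hact _ z.2.1, hact _ hy, hact _ hy, hact _ z.2.1]
    calc (z : G) * (y * w * y⁻¹) * (z : G)⁻¹ = ((z : G) * y) * w * ((z : G) * y)⁻¹ := by simp [mul_assoc]
      _ = y * ((z : G) * w * (z : G)⁻¹) * y⁻¹ := by rw [hRab _ z.2.1 _ hy]; simp [mul_assoc]
  have hfixe : ∀ w : P, (∀ y : X, act (y : G) w = w) → e w = w ^ Nat.card X := fun w hw => by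
    simp only [e, hw, Finset.prod_const, Finset.card_univ, Nat.card_eq_fintype_card]
  have hcoX : (Nat.card P).Coprime (Nat.card X) :=
    (hco.coprime_dvd_left (card_dvd_of_le inf_le_left)).symm
  have hinj : ∀ a b : P, a ^ Nat.card X = b ^ Nat.card X → a = b := fun a b hab =>
    (powCoprime hcoX).injective hab
  set n := Nat.card X
  set u' : P := ⟨u, hu⟩
  set v' : P := ⟨v, hv⟩
  set w : P := u' ^ n * (e u')⁻¹ with hw
  have hev : e v' = v' ^ n := hfixe v' fun y => Subtype.ext (by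
    rw [hact _ y.2.1]
    show (y : G) * v * (y : G)⁻¹ = v
    rw [mem_centralizer_singleton_iff.mp y.2.2, mul_inv_cancel_right])
  have hee : e (e u') = (e u') ^ n := hfixe _ fun y => he_fix y u'
  have hew : e w = 1 := by
    show eh w = 1
    rw [hw, map_mul, map_inv, map_pow]
    show e u' ^ n * (e (e u'))⁻¹ = 1
    rw [hee, mul_inv_cancel]
  have hwx : act x w ≠ w := by
    intro hxw
    refine hxu ?_
    have hxX : x ∈ X := ⟨hxR, mem_centralizer_singleton_iff.mpr hxv⟩
    have h1 : act x (u' ^ n) = u' ^ n := by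
      have h2 : u' ^ n = w * e u' := by rw [hw, inv_mul_cancel_right]
      have hm : act x (w * e u') = act x w * act x (e u') := Subtype.ext (by
        rw [Subgroup.coe_mul, hact _ hxR, hact _ hxR, hact _ hxR, Subgroup.coe_mul]; simp [mul_assoc])
      rw [h2, hm, hxw, he_fix ⟨x, hxX⟩]
    have hp2 : (act x u') ^ n = u' ^ n := by
      refine Eq.trans (Subtype.ext ?_) h1
      rw [SubgroupClass.coe_pow, hact _ hxR, hact _ hxR, SubgroupClass.coe_pow, conj_pow]
    have h3 := congrArg (fun t : P => (t : G)) (hinj _ _ hp2)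
    simp only [hact _ hxR] at h3
    exact mul_inv_eq_iff_eq_mul.mp h3
  have hlt : R ⊓ centralizer ({((v' * w : P) : G)} : Set G) < X := by
    have hle : ∀ y ∈ R ⊓ centralizer ({((v' * w : P) : G)} : Set G), y ∈ X ∧ act y w = w := by
      intro y hy
      have hyvw : act y (v' * w) = v' * w := Subtype.ext (by
        rw [hact _ hy.1, mem_centralizer_singleton_iff.mp hy.2, mul_inv_cancel_right])
      have h1 : act y (v' ^ n) = v' ^ n := by
        have := congrArg e hyvw
        rwa [he_comm y hy.1, he_mul, hev, hew, mul_one] at this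
      have hp2 : (act y v') ^ n = v' ^ n := by
        refine Eq.trans (Subtype.ext ?_) h1
        rw [SubgroupClass.coe_pow, hact _ hy.1, hact _ hy.1, SubgroupClass.coe_pow, conj_pow]
      have h3 := congrArg (fun t : P => (t : G)) (hinj _ _ hp2)
      simp only [hact _ hy.1] at h3
      refine ⟨⟨hy.1, mem_centralizer_singleton_iff.mpr (mul_inv_eq_iff_eq_mul.mp h3)⟩, ?_⟩
      have hm : act y (v' * w) = act y v' * act y w := Subtype.ext (by
        rw [Subgroup.coe_mul, hact _ hy.1, hact _ hy.1, hact _ hy.1, Subgroup.coe_mul]; simp [mul_assoc])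
      rw [hm, hinj _ _ hp2] at hyvw
      exact mul_left_cancel hyvw
    refine lt_of_le_of_ne (fun y hy => (hle y hy).1) fun he => hwx ?_
    exact (hle x (he.ge ⟨hxR, mem_centralizer_singleton_iff.mpr hxv⟩)).2
  exact absurd (hmin ⟨_, (v' * w).2⟩) (not_le.mpr (Basics.card_lt_of_lt hlt))

end

/-- Invariant subspaces of all positions force invariant lines. -/
theorem exists_avoiding {G : Type*} [Group G] [Finite G] (P : Subgroup G) {p : ℕ} [hp : Fact p.Prime]
    (hP : ∀ a ∈ P, ∀ b ∈ P, a * b = b * a) (hexp : ∀ a ∈ P, a ^ p = 1) {v w : G} (hv : v ∈ P)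
    (hv1 : v ≠ 1) (hw : w ∈ P) (hwv : w ∉ zpowers v) :
    ∀ k, 1 ≤ k → p ^ k < Nat.card P →
      ∃ X : Subgroup G, X ≤ P ∧ Nat.card X = p ^ k ∧ v ∈ X ∧ w ∉ X := by
  have hcard : ∀ (X : Subgroup G) (u : G), X ≤ P → u ∈ P → u ∉ X →
      Nat.card ↥(X ⊔ zpowers u) = Nat.card X * p := by
    intro X u hX hu huX
    have hou : orderOf u = p := orderOf_eq_prime (hexp u hu) fun h1 => huX (h1 ▸ X.one_mem)
    have hn : zpowers u ≤ normalizer (X : Set G) := by
      refine le_trans ?_ (centralizer_le_normalizer _)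
      rw [zpowers_le, mem_centralizer_iff]
      exact fun y hy => hP y (hX hy) u hu
    have hinf : X ⊓ zpowers u = ⊥ := by
      refine (eq_bot_iff_forall _).mpr fun y hy => by_contra fun hy1 => huX ?_
      have h1 : zpowers y = zpowers u := eq_of_le_of_card_ge (zpowers_le.mpr hy.2) (by
        rw [Nat.card_zpowers, Nat.card_zpowers, hou, orderOf_eq_prime (hexp y (hX hy.1)) hy1])
      exact zpowers_le.mpr hy.1 (h1 ▸ mem_zpowers u)
    have := Basics.card_mul_card_eq_card_sup_mul_card_inf hn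
    rw [hinf, card_bot, mul_one, Nat.card_zpowers, hou] at this
    exact this.symm
  intro k hk
  induction k, hk using Nat.le_induction with
  | base =>
    intro _
    exact ⟨zpowers v, zpowers_le.mpr hv, by rw [Nat.card_zpowers, pow_one, orderOf_eq_prime (hexp v hv) hv1],
      mem_zpowers v, hwv⟩
  | succ k hk ih =>
    intro hlt
    obtain ⟨X, hX, hXc, hvX, hwX⟩ :=
      ih (lt_of_le_of_lt (Nat.pow_le_pow_right hp.out.pos k.le_succ) hlt)
    obtain ⟨u, hu, huX⟩ : ∃ u ∈ P, u ∉ X ⊔ zpowers w := by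
      by_contra! hall
      have h1 := Nat.card_le_card_of_injective (Subgroup.inclusion (show P ≤ X ⊔ zpowers w from hall))
        (inclusion_injective _)
      rw [hcard X w hX hw hwX, hXc, ← pow_succ] at h1
      omega
    have huX' : u ∉ X := fun h => huX (mem_sup_left h)
    refine ⟨X ⊔ zpowers u, sup_le hX (zpowers_le.mpr hu), by rw [hcard X u hX hu huX', hXc, pow_succ],
      mem_sup_left hvX, fun hwm => huX ?_⟩
    have h1 : X ⊔ zpowers w ≤ X ⊔ zpowers u := sup_le le_sup_left (zpowers_le.mpr hwm)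
    have h2 : X ⊔ zpowers w = X ⊔ zpowers u := eq_of_le_of_card_ge h1
      (by rw [hcard X w hX hw hwX, hcard X u hX hu huX'])
    exact h2 ▸ mem_sup_right (mem_zpowers u)

section
variable {G : Type u} [Group G] [Finite G] [Group.IsSolvable G]

/-- The hypotheses of the reduced case. -/
structure Red (G : Type u) [Group G] [Finite G] : Prop where
  hb : HB G
  big : ∀ (p : ℕ) [Fact p.Prime], p ∣ Nat.card (fittingSubgroup G) → ∀ P : Sylow p G,
    (P : Subgroup G) = pCore p G ∧ (∀ a ∈ pCore p G, a ^ p = 1) ∧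
      (∀ a ∈ pCore p G, ∀ b ∈ pCore p G, a * b = b * a)

variable (R : Red G)
include R

theorem Red.coprime : (Nat.card (fittingSubgroup G)).Coprime (fittingSubgroup G).index := by
  refine Nat.coprime_of_dvd fun r hr hd hi => ?_
  haveI := Fact.mk hr
  obtain ⟨P⟩ : Nonempty (Sylow r G) := inferInstance
  have hle : (P : Subgroup G) ≤ fittingSubgroup G := by
    rw [(R.big r hd P).1]; exact Basics.pCore_le_fittingSubgroup r
  exact P.not_dvd_index (hi.trans (index_dvd_of_le hle))

theorem Red.not_dvd_of_quot {r : ℕ} (hr : r.Prime) (h : r ∣ Nat.card (G ⧸ fittingSubgroup G)) :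
    ¬ r ∣ Nat.card (fittingSubgroup G) := fun hd =>
  hr.ne_one (Nat.eq_one_of_dvd_coprimes R.coprime hd (by rwa [index_eq_card]))

theorem Red.fab : ∀ a ∈ fittingSubgroup G, ∀ b ∈ fittingSubgroup G, a * b = b * a :=
  comm_of_sylow _ inferInstance fun r hr P hP hPX a ha b hb => by
    by_cases hd : r ∣ Nat.card (fittingSubgroup G)
    · obtain ⟨S, hS⟩ := hP.exists_le_sylow
      obtain ⟨h1, -, h3⟩ := R.big r hd S
      exact h3 a (h1 ▸ hS ha) b (h1 ▸ hS hb)
    · have hone : ∀ x ∈ P, x = 1 := fun x hx => by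
        obtain ⟨i, hi⟩ := orderOf_of_mem_pgroup hP hx
        exact orderOf_eq_one_iff.mp (Nat.eq_one_of_dvd_coprimes
          ((hr.out.coprime_iff_not_dvd.mpr hd).pow_left i) hi.dvd (orderOf_dvd_natCard _ (hPX hx)))
      simp [hone a ha, hone b hb]

/-- Elements of order prime to the Fitting subgroup meet it trivially. -/
theorem Red.eq_one_of_mk {r : ℕ} [hr : Fact r.Prime] (hrF : ¬ r ∣ Nat.card (fittingSubgroup G)) {S : Subgroup G}
    (hS : IsPGroup r S) {x : G} (hx : x ∈ S) (h : QuotientGroup.mk' (fittingSubgroup G) x = 1) : x = 1 := by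
  obtain ⟨i, hi⟩ := orderOf_of_mem_pgroup hS hx
  exact orderOf_eq_one_iff.mp (Nat.eq_one_of_dvd_coprimes
    ((hr.out.coprime_iff_not_dvd.mpr hrF).pow_left i) hi.dvd
    (orderOf_dvd_natCard _ ((QuotientGroup.eq_one_iff x).mp h)))

theorem Red.image_equiv {r : ℕ} [hr : Fact r.Prime] (hrF : ¬ r ∣ Nat.card (fittingSubgroup G))
    (S : Sylow r G) : Function.Injective ((QuotientGroup.mk' (fittingSubgroup G)).comp (S : Subgroup G).subtype) :=
  (injective_iff_map_eq_one _).mpr fun x hx => Subtype.ext (R.eq_one_of_mk hrF S.2 x.2 hx)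

/-- No non-cyclic elementary Sylow subgroup of the quotient has a nontrivial core. -/
theorem Red.noElem_core {r : ℕ} [hr : Fact r.Prime] (hrF : ¬ r ∣ Nat.card (fittingSubgroup G))
    (hno : ∀ x : G, orderOf x ≠ r ^ 2) (S : Sylow r G) (hS : ¬ IsCyclic ↥(S : Subgroup G))
    (hO : pCore r (G ⧸ fittingSubgroup G) ≠ ⊥) : False := by
  set F := fittingSubgroup G
  set π := QuotientGroup.mk' F
  have hinj := R.image_equiv hrF S
  have hexp : ∀ x ∈ (S : Subgroup G), x ^ r = 1 := by
    intro x hx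
    obtain ⟨i, hi⟩ := orderOf_of_mem_pgroup S.2 hx
    by_contra hne
    have hi2 : 2 ≤ i := by
      by_contra hlt
      exact hne (orderOf_dvd_iff_pow_eq_one.mp (hi ▸ (pow_dvd_pow r (by omega : i ≤ 1)).trans (by rw [pow_one])))
    exact hno (x ^ r ^ (i - 2)) (by
      rw [orderOf_pow_of_dvd (pow_ne_zero _ hr.out.ne_zero) (hi ▸ pow_dvd_pow r (Nat.sub_le i 2)), hi,
        Nat.pow_div (Nat.sub_le i 2) hr.out.pos, show i - (i - 2) = 2 by omega])
  have hBL : HB (G ⧸ F) := hb_quotient _ G F rfl R.hb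
  set Sb := S.mapSurjective (f := π) (QuotientGroup.mk'_surjective F)
  have hSb : ∀ q ∈ (Sb : Subgroup (G ⧸ F)), ∃ x ∈ (S : Subgroup G), π x = q := fun q hq => hq
  have hord : ∀ x ∈ (S : Subgroup G), x ≠ 1 → orderOf (π x) = r := fun x hx hx1 =>
    orderOf_eq_prime (by rw [← map_pow, hexp x hx, map_one]) fun h => hx1 (R.eq_one_of_mk hrF S.2 hx h)
  have hcapture : ∀ N : Subgroup (G ⧸ F), N.Normal → N ≤ (Sb : Subgroup (G ⧸ F)) → N ≠ ⊥ →
      N = (Sb : Subgroup (G ⧸ F)) := by
    intro N hN hNS hN1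
    haveI := hN
    refine le_antisymm hNS fun q hq => ?_
    obtain ⟨x, hx, rfl⟩ := hSb q hq
    by_cases hx1 : x = 1
    · rw [hx1, map_one]; exact one_mem _
    obtain ⟨⟨m, hm⟩, hm1⟩ := Subgroup.ne_bot_iff_exists_ne_one.mp hN1
    obtain ⟨y, hy, hye⟩ := hSb m (hNS hm)
    refine mem_of_orderOf_eq hBL N hm ?_
    rw [hord x hx hx1, ← hye]
    exact hord y hy fun h => hm1 (Subtype.ext (hye.symm.trans (by rw [h, map_one]; rfl)))
  have hOS := hcapture _ inferInstance (Basics.pCore_le_sylow r Sb) hO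
  have hSbab : ∀ a ∈ (Sb : Subgroup (G ⧸ F)), ∀ b ∈ (Sb : Subgroup (G ⧸ F)), a * b = b * a := by
    haveI : (Sb : Subgroup (G ⧸ F)).Normal := hOS ▸ inferInstance
    haveI : ((center ↥(Sb : Subgroup (G ⧸ F))).map (Sb : Subgroup (G ⧸ F)).subtype).Normal :=
      ConjAct.normal_of_characteristic_of_normal
    haveI : Nontrivial ↥(Sb : Subgroup (G ⧸ F)) := (Sb : Subgroup (G ⧸ F)).nontrivial_iff_ne_bot.mpr (hOS ▸ hO)
    have hcn := Sb.2.center_nontrivial
    have h1 := hcapture ((center ↥(Sb : Subgroup (G ⧸ F))).map (Sb : Subgroup (G ⧸ F)).subtype) inferInstance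
      (map_subtype_le _) fun h => by
        rw [Subgroup.map_eq_bot_iff_of_injective _ (Subgroup.subtype_injective _)] at h
        exact (nontrivial_iff_ne_bot _).mp hcn h
    intro a ha b hb
    obtain ⟨c, hc, rfl⟩ := h1.ge ha
    exact congrArg Subtype.val (mem_center_iff.mp hc ⟨b, hb⟩).symm
  have hSab : ∀ a ∈ (S : Subgroup G), ∀ b ∈ (S : Subgroup G), a * b = b * a := fun a ha b hb =>
    congrArg Subtype.val (hinj (a₁ := ⟨a, ha⟩ * ⟨b, hb⟩) (a₂ := ⟨b, hb⟩ * ⟨a, ha⟩) (by
      show π (a * b) = π (b * a)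
      rw [map_mul, map_mul]
      exact hSbab _ (mem_map_of_mem π ha) _ (mem_map_of_mem π hb)))
  haveI : IsMulCommutative ↥(S : Subgroup G) := ⟨⟨fun a b => Subtype.ext (hSab a a.2 b b.2)⟩⟩
  have hSn : (S : Subgroup G) ⊔ F = (pCore r (G ⧸ F)).comap π := by
    rw [hOS]
    show _ = ((S : Subgroup G).map π).comap π
    rw [comap_map_eq, QuotientGroup.ker_mk']
  haveI : ((S : Subgroup G) ⊔ F).Normal := hSn ▸ inferInstance
  -- some element of `S` centralises the Fitting subgroup, hence all do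
  refine hS ?_
  have hall : ∀ x ∈ (S : Subgroup G), ∀ f ∈ F, x * f = f * x := by
    intro x hx
    suffices F ≤ centralizer ({x} : Set G) from fun f hf => (mem_centralizer_singleton_iff.mp (this hf)).symm
    refine le_of_pElements fun p hp hpF f hf i hfo => mem_centralizer_singleton_iff.mpr ?_
    haveI := Fact.mk hp
    set P := pCore p G
    obtain ⟨Ps⟩ : Nonempty (Sylow p G) := inferInstance
    obtain ⟨hPs, hPexp, hPab⟩ := R.big p hpF Ps
    have hfP : f ∈ P := fitting_pElement hf hfo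
    have hco : (Nat.card ↥(S : Subgroup G)).Coprime (Nat.card P) := by
      obtain ⟨a, ha⟩ := S.2.exists_card_eq
      obtain ⟨b, hb⟩ := (Basics.pCore_isPGroup (G := G) p).exists_card_eq
      rw [ha, hb]
      refine Nat.Coprime.pow _ _ ((Nat.coprime_primes hr.out hp).mpr fun h => hrF (h ▸ hpF))
    have hSP : (S : Subgroup G) ≤ normalizer (P : Set G) := by
      rw [normalizer_eq_top_iff.mpr inferInstance]; exact le_top
    have hmove : ∀ (g : G), ∀ y ∈ (S : Subgroup G), y ≠ 1 →
        ∃ y' ∈ (S : Subgroup G), ∃ f' ∈ F, y' ≠ 1 ∧ g * y * g⁻¹ = y' * f' := by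
      intro g y hy hy1
      have h1 : g * y * g⁻¹ ∈ (S : Subgroup G) ⊔ F :=
        (inferInstance : ((S : Subgroup G) ⊔ F).Normal).conj_mem y (mem_sup_left hy) g
      obtain ⟨y', hy', f', hf', he⟩ := mem_sup_of_normal_right.mp h1
      refine ⟨y', hy', f', hf', fun h1 => hy1 (R.eq_one_of_mk hrF S.2 hy ?_), he.symm⟩
      have h2 : π (g * y * g⁻¹) = 1 := (QuotientGroup.eq_one_iff _).mpr (by rw [← he, h1, one_mul]; exact hf')
      rw [map_mul, map_mul, map_inv] at h2
      calc π y = (π g)⁻¹ * (π g * π y * (π g)⁻¹) * π g := by simp [mul_assoc]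
        _ = 1 := by rw [h2]; simp
    have hne : P ≠ ⊥ := fun h => by
      have hPd : p ∣ Nat.card G := hpF.trans (card_subgroup_dvd_card _)
      have := Ps.dvd_card_of_dvd_card hPd
      rw [hPs, show pCore p G = ⊥ from h, card_bot] at this
      exact hp.ne_one (Nat.dvd_one.mp this)
    obtain ⟨v₀, hv₀, hv₀1, x₀, hx₀, hx₀1, hxv₀⟩ :
        ∃ v ∈ P, v ≠ 1 ∧ ∃ x ∈ (S : Subgroup G), x ≠ 1 ∧ x * v = v * x := by
      by_contra! hfpf
      refine hS (Basics.fpf_abelian_isCyclic (S : Subgroup G) P hne hSP fun a ha ha1 => ?_)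
      refine (eq_bot_iff_forall _).mpr fun v hv => by_contra fun hv1 => ?_
      exact hfpf v hv.1 hv1 a ha ha1 (mem_centralizer_singleton_iff.mp hv.2).symm
    have hev : ∀ v ∈ P, ∃ y ∈ (S : Subgroup G), y ≠ 1 ∧ y * v = v * y := by
      intro v hv
      by_cases hv1 : v = 1
      · exact ⟨x₀, hx₀, hx₀1, by rw [hv1]; simp⟩
      obtain ⟨g, hg⟩ := R.hb (zpowers v₀) (zpowers v) inferInstance inferInstance (by
        rw [Nat.card_zpowers, Nat.card_zpowers, orderOf_eq_prime (hPexp v₀ hv₀) hv₀1,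
          orderOf_eq_prime (hPexp v hv) hv1])
      obtain ⟨_, hw, hwv⟩ : v ∈ (zpowers v₀).map (MulAut.conj g).toMonoidHom := hg ▸ mem_zpowers v
      obtain ⟨j, rfl⟩ := mem_zpowers_iff.mp hw
      obtain ⟨y', hy', f', hf', hy'1, he⟩ := hmove g x₀ hx₀ hx₀1
      refine ⟨y', hy', hy'1, ?_⟩
      have h1 : Commute (g * x₀ * g⁻¹) v := by
        rw [← hwv]
        exact ((show Commute x₀ v₀ from hxv₀).zpow_right j).map (MulAut.conj g).toMonoidHom
      have h2 : Commute f' v := R.fab f' hf' v (Basics.pCore_le_fittingSubgroup p hv)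
      have h3 : y' = (g * x₀ * g⁻¹) * f'⁻¹ := by rw [he, mul_inv_cancel_right]
      rw [h3]
      exact (h1.mul_left h2.inv_left).eq
    obtain ⟨z, hz, hz1, hzc⟩ := exists_trivial_action (S : Subgroup G) P hSab hSP hPab hco hev
    by_cases hx1 : x = 1
    · simp [hx1]
    obtain ⟨g, hg⟩ := R.hb (zpowers z) (zpowers x) inferInstance inferInstance (by
      rw [Nat.card_zpowers, Nat.card_zpowers, orderOf_eq_prime (hexp z hz) hz1,
        orderOf_eq_prime (hexp x hx) hx1])
    obtain ⟨_, hw, hwx⟩ : x ∈ (zpowers z).map (MulAut.conj g).toMonoidHom := hg ▸ mem_zpowers x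
    obtain ⟨j, rfl⟩ := mem_zpowers_iff.mp hw
    have hgf : g⁻¹ * f * g ∈ P := by
      simpa using (inferInstance : P.Normal).conj_mem f hfP g⁻¹
    have h1 := ((show Commute z (g⁻¹ * f * g) from hzc _ hgf).zpow_left j).map (MulAut.conj g).toMonoidHom
    rw [hwx, show (MulAut.conj g).toMonoidHom (g⁻¹ * f * g) = f by simp [mul_assoc]] at h1
    exact h1.eq.symm
  haveI : Subsingleton ↥(S : Subgroup G) := ⟨fun a b => by
    have key : ∀ c : ↥(S : Subgroup G), c = 1 := fun c => by
      have h1 : (c : G) ∈ F := Basics.centralizer_fittingSubgroup_le (G := G)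
        (mem_centralizer_iff.mpr fun f hf => (hall c c.2 f hf).symm)
      exact Subtype.ext (R.eq_one_of_mk hrF S.2 c.2 ((QuotientGroup.eq_one_iff (c : G)).mpr h1))
    rw [key a, key b]⟩
  infer_instance

omit R in
theorem mem_centralizer_conj {X : Subgroup G} [X.Normal] {x y : G}
    (h : ∀ v ∈ X, x * v = v * x) {g : G} (hy : y ∈ cj g (zpowers x)) : ∀ v ∈ X, y * v = v * y := by
  intro v hv
  obtain ⟨_, hw, rfl⟩ := hy
  obtain ⟨j, rfl⟩ := mem_zpowers_iff.mp hw
  have hgv : g⁻¹ * v * g ∈ X := by simpa using (inferInstance : X.Normal).conj_mem v hv g⁻¹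
  have h1 := ((show Commute x (g⁻¹ * v * g) from h _ hgv).zpow_left j).map (MulAut.conj g).toMonoidHom
  rw [show (MulAut.conj g).toMonoidHom (g⁻¹ * v * g) = v by simp [mul_assoc]] at h1
  exact h1.eq

omit R in
/-- On a normal cyclic subgroup the elements act through an abelian group. -/
theorem cyclic_normal_comm {X : Subgroup G} [X.Normal] [IsCyclic X] (a b : G) :
    ∀ v ∈ X, ⁅a, b⁆ * v = v * ⁅a, b⁆ := by
  obtain ⟨⟨c, hcX⟩, hc⟩ := IsCyclic.exists_generator (α := X)
  have hgen : ∀ v ∈ X, ∃ i : ℤ, c ^ i = v := fun v hv => by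
    obtain ⟨i, hi⟩ := mem_zpowers_iff.mp (hc ⟨v, hv⟩)
    exact ⟨i, congrArg Subtype.val hi⟩
  have hpow : ∀ d : G, ∃ m : ℤ, ∀ v ∈ X, d * v * d⁻¹ = v ^ m := fun d => by
    obtain ⟨m, hm⟩ := hgen _ ((inferInstance : X.Normal).conj_mem c hcX d)
    refine ⟨m, fun v hv => ?_⟩
    obtain ⟨i, rfl⟩ := hgen v hv
    rw [← conj_zpow, ← hm, ← zpow_mul, ← zpow_mul, mul_comm]
  intro v hv
  obtain ⟨m, hm⟩ := hpow a
  obtain ⟨l, hl⟩ := hpow b
  obtain ⟨m', hm'⟩ := hpow a⁻¹
  obtain ⟨l', hl'⟩ := hpow b⁻¹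
  have e1 : ⁅a, b⁆ * v * ⁅a, b⁆⁻¹ = a * (b * (a⁻¹ * (b⁻¹ * v * b⁻¹⁻¹) * a⁻¹⁻¹) * b⁻¹) * a⁻¹ := by
    simp [commutatorElement_def, mul_assoc]
  have e2 : a * (a⁻¹ * (b * (b⁻¹ * v * b⁻¹⁻¹) * b⁻¹) * a⁻¹⁻¹) * a⁻¹ = v := by simp [mul_assoc]
  rw [hl' v hv, hm' _ (X.zpow_mem hv _), hl _ (X.zpow_mem (X.zpow_mem hv _) _),
    hm _ (X.zpow_mem (X.zpow_mem (X.zpow_mem hv _) _) _)] at e1
  rw [hl' v hv, hl _ (X.zpow_mem hv _), hm' _ (X.zpow_mem (X.zpow_mem hv _) _),
    hm _ (X.zpow_mem (X.zpow_mem (X.zpow_mem hv _) _) _)] at e2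
  rw [← zpow_mul, ← zpow_mul, ← zpow_mul] at e1 e2
  rw [show l' * (m' * (l * m)) = l' * (l * (m' * m)) by ring, e2] at e1
  exact mul_inv_eq_iff_eq_mul.mp e1

/-- An `r`-subgroup of the quotient centralising the Fitting subgroup of the quotient lies in it. -/
theorem Red.le_core {r : ℕ} [hr : Fact r.Prime] {H : Subgroup (G ⧸ fittingSubgroup G)} (hH : IsPGroup r H)
    (hc : ∀ s : ℕ, ∀ _ : Fact s.Prime, s ≠ r → pCore s (G ⧸ fittingSubgroup G) ≠ ⊥ → ∀ x ∈ H,
      ∀ v ∈ pCore s (G ⧸ fittingSubgroup G), x * v = v * x)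
    (hcr : ∀ x ∈ H, ∀ v ∈ pCore r (G ⧸ fittingSubgroup G), x * v = v * x) :
    H ≤ pCore r (G ⧸ fittingSubgroup G) := by
  intro x hx
  obtain ⟨i, hi⟩ := orderOf_of_mem_pgroup hH hx
  refine fitting_pElement (Basics.centralizer_fittingSubgroup_le (G := G ⧸ fittingSubgroup G)
    (mem_centralizer_iff.mpr fun f hf => ?_)) hi
  suffices fittingSubgroup (G ⧸ fittingSubgroup G) ≤ centralizer ({x} : Set (G ⧸ fittingSubgroup G)) from
    mem_centralizer_singleton_iff.mp (this hf)
  refine le_of_pElements fun s hs _ v hv j hvo => mem_centralizer_singleton_iff.mpr ?_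
  haveI := Fact.mk hs
  have hvs := fitting_pElement hv hvo
  by_cases hsr : s = r
  · subst hsr; exact (hcr x hx v hvs).symm
  by_cases hv1 : v = 1
  · simp [hv1]
  exact (hc s inferInstance hsr (fun h => hv1 (mem_bot.mp (h ▸ hvs))) x hx v hvs).symm

theorem Red.core_facts {s : ℕ} [hs : Fact s.Prime] (hne : pCore s (G ⧸ fittingSubgroup G) ≠ ⊥) :
    IsCyclic ↥(pCore s (G ⧸ fittingSubgroup G)) ∨
      (s = 2 ∧ Nat.card ↥(pCore s (G ⧸ fittingSubgroup G)) = 8 ∧
        ∃ x ∈ pCore s (G ⧸ fittingSubgroup G), orderOf x = 4) := by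
  set O := pCore s (G ⧸ fittingSubgroup G)
  obtain ⟨T⟩ : Nonempty (Sylow s G) := inferInstance
  set π := QuotientGroup.mk' (fittingSubgroup G)
  set Tb := T.mapSurjective (f := π) (QuotientGroup.mk'_surjective _)
  have hOT : O ≤ (Tb : Subgroup (G ⧸ fittingSubgroup G)) := Basics.pCore_le_sylow s Tb
  have hsF : ¬ s ∣ Nat.card (fittingSubgroup G) := R.not_dvd_of_quot hs.out (by
    rcases (Basics.pCore_isPGroup (G := G ⧸ fittingSubgroup G) s).card_eq_or_dvd with h | h
    · exact absurd (eq_bot_of_card_eq O h) hne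
    · exact h.trans (card_subgroup_dvd_card _))
  by_cases hTc : IsCyclic ↥(T : Subgroup G)
  · left
    haveI : IsCyclic ↥(Tb : Subgroup (G ⧸ fittingSubgroup G)) :=
      isCyclic_of_surjective (π.subgroupMap (T : Subgroup G)) (π.subgroupMap_surjective _)
    exact isCyclic_of_injective (inclusion hOT) (inclusion_injective _)
  obtain ⟨x, hx⟩ : ∃ x : G, orderOf x = s ^ 2 := by
    by_contra! hno
    exact R.noElem_core hsF hno T hTc hne
  rcases InvChar.cyclic_or_quaternion T.2 (sylow_unique R.hb hx T) with h | ⟨rfl, -⟩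
  · exact absurd h hTc
  have h8 : Nat.card ↥(T : Subgroup G) = 8 := (sylow_two_cases R.hb hx T).resolve_left hTc
  by_cases hO4 : ∃ x ∈ O, orderOf x = 4
  · obtain ⟨x₄, hx₄, hox₄⟩ := hO4
    by_cases hO8 : Nat.card O = 8
    · exact Or.inr ⟨rfl, hO8, x₄, hx₄, hox₄⟩
    left
    have hdvd : Nat.card O ∣ 8 := by
      have h1 := card_dvd_of_le hOT
      have h2 : Nat.card ↥(Tb : Subgroup (G ⧸ fittingSubgroup G)) ∣ 8 := h8 ▸ card_map_dvd _ _
      exact h1.trans h2
    have h4 : 4 ∣ Nat.card O := hox₄ ▸ orderOf_dvd_natCard O hx₄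
    have hO4 : Nat.card O = 4 := by
      have := Nat.le_of_dvd (by norm_num) hdvd
      interval_cases hn : Nat.card O <;> omega
    exact isCyclic_of_orderOf_eq_card ⟨x₄, hx₄⟩ (by rw [Subgroup.orderOf_mk, hox₄, hO4])
  · left
    push Not at hO4
    have hexp : ∀ x ∈ O, x ^ 2 = 1 := by
      intro x hx
      obtain ⟨i, hi⟩ := orderOf_of_mem_pgroup (Basics.pCore_isPGroup 2) hx
      by_contra hne
      have hi2 : 2 ≤ i := by
        by_contra hlt
        refine hne (orderOf_dvd_iff_pow_eq_one.mp ?_)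
        rw [hi]
        exact (pow_dvd_pow 2 (show i ≤ 1 by omega)).trans (by rw [pow_one])
      refine hO4 (x ^ 2 ^ (i - 2)) (pow_mem hx _) ?_
      rw [orderOf_pow_of_dvd (pow_ne_zero _ two_ne_zero) (by rw [hi]; exact pow_dvd_pow 2 (Nat.sub_le i 2)), hi,
        Nat.pow_div (Nat.sub_le i 2) two_pos, show i - (i - 2) = 2 by omega]
      norm_num
    have hinj := R.image_equiv hsF T
    obtain ⟨⟨o, ho⟩, ho1⟩ := Subgroup.ne_bot_iff_exists_ne_one.mp hne
    have ho1' : o ≠ 1 := fun h => ho1 (Subtype.ext h)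
    refine isCyclic_iff_exists_zpowers_eq_top.mpr ⟨⟨o, ho⟩, eq_top_iff.mpr fun y _ => ?_⟩
    by_cases hy1 : y = 1
    · exact hy1 ▸ one_mem _
    obtain ⟨a, ha, hae⟩ : o ∈ (T : Subgroup G).map π := hOT ho
    obtain ⟨b, hb, hbe⟩ : (y : G ⧸ fittingSubgroup G) ∈ (T : Subgroup G).map π := hOT y.2
    have hord : ∀ c, ∀ hc : c ∈ (T : Subgroup G), π c ∈ O → π c ≠ 1 → orderOf (⟨c, hc⟩ : ↥(T : Subgroup G)) = 2 := by
      intro c hc hcO hc1
      refine orderOf_eq_prime (hinj ?_) fun h => hc1 (by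
        rw [show c = 1 from congrArg Subtype.val h, map_one])
      show π (c ^ 2) = π 1
      rw [map_pow, hexp _ hcO, map_one]
    have hab := sylow_unique R.hb hx T (zpowers ⟨a, ha⟩) (zpowers ⟨b, hb⟩)
      (by rw [Nat.card_zpowers, hord a ha (hae ▸ ho) (hae ▸ ho1')])
      (by rw [Nat.card_zpowers, hord b hb (hbe ▸ y.2) (hbe ▸ fun h => hy1 (Subtype.ext h))])
    obtain ⟨j, hj⟩ := mem_zpowers_iff.mp (hab ▸ mem_zpowers _ : (⟨b, hb⟩ : ↥(T : Subgroup G)) ∈ zpowers ⟨a, ha⟩)
    refine mem_zpowers_iff.mpr ⟨j, Subtype.ext ?_⟩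
    show o ^ j = y
    rw [← hae, ← hbe, ← map_zpow]
    exact congrArg π (congrArg Subtype.val hj)

/-- The Sylow subgroups away from the Fitting subgroup. -/
theorem Red.rankOne {r : ℕ} [hr : Fact r.Prime] (hrF : ¬ r ∣ Nat.card (fittingSubgroup G)) (S : Sylow r G) :
    IsCyclic ↥(S : Subgroup G) ∨ (r = 2 ∧ Nat.card ↥(S : Subgroup G) = 8 ∧ ∃ x : G, orderOf x = 4) := by
  by_cases hS : IsCyclic ↥(S : Subgroup G)
  · exact Or.inl hS
  by_cases hex : ∃ x : G, orderOf x = r ^ 2
  · obtain ⟨x, hx⟩ := hex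
    rcases InvChar.cyclic_or_quaternion S.2 (sylow_unique R.hb hx S) with h | ⟨rfl, -⟩
    · exact Or.inl h
    · exact Or.inr ⟨rfl, (sylow_two_cases R.hb hx S).resolve_left hS, x, by simpa using hx⟩
  exfalso
  push Not at hex
  set F := fittingSubgroup G
  set π := QuotientGroup.mk' F
  by_cases hO : pCore r (G ⧸ F) = ⊥
  swap
  · exact R.noElem_core hrF hex S hS hO
  have hinj := R.image_equiv hrF S
  have hBL : HB (G ⧸ F) := hb_quotient _ G F rfl R.hb
  set Sb := (S : Subgroup G).map π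
  have hSbp : IsPGroup r Sb := S.2.map π
  have hexp : ∀ q ∈ Sb, q ^ r = 1 := by
    rintro _ ⟨x, hx, rfl⟩
    obtain ⟨i, hi⟩ := orderOf_of_mem_pgroup S.2 hx
    rw [← map_pow]
    rcases Nat.lt_or_ge i 2 with hlt | hi2
    · rw [show x ^ r = 1 from orderOf_dvd_iff_pow_eq_one.mp (by
        rw [hi]; exact (pow_dvd_pow r (show i ≤ 1 by omega)).trans (by rw [pow_one])), map_one]
    · exact absurd (by
        rw [orderOf_pow_of_dvd (pow_ne_zero _ hr.out.ne_zero) (by rw [hi]; exact pow_dvd_pow r (Nat.sub_le i 2)),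
          hi, Nat.pow_div (Nat.sub_le i 2) hr.out.pos, show i - (i - 2) = 2 by omega]) (hex (x ^ r ^ (i - 2)))
  have hbig : r ^ 2 ≤ Nat.card Sb := by
    obtain ⟨i, hi⟩ := hSbp.exists_card_eq
    rw [hi]
    refine Nat.pow_le_pow_right hr.out.pos ?_
    by_contra hlt
    refine hS ?_
    haveI : IsCyclic Sb := by
      interval_cases i
      · haveI := (Nat.card_eq_one_iff_unique.mp (show Nat.card Sb = 1 by simpa using hi)).1
        infer_instance
      · exact isCyclic_of_prime_card (p := r) (by simpa using hi)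
    exact isCyclic_of_injective (π.subgroupMap (S : Subgroup G)) (fun a b h => hinj (congrArg Subtype.val h))
  have hle : Sb ≤ pCore r (G ⧸ F) := by
    refine R.le_core hSbp (fun s hs hsr hsne => ?_) fun x _ v hv => by
      rw [hO, mem_bot] at hv; rw [hv]; simp
    set X := pCore s (G ⧸ F)
    -- one nontrivial element centralising `X` suffices
    suffices hone : ∃ x ∈ Sb, x ≠ 1 ∧ ∀ v ∈ X, x * v = v * x by
      obtain ⟨x, hx, hx1, hxc⟩ := hone
      intro y hy
      by_cases hy1 : y = 1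
      · simp [hy1]
      obtain ⟨g, hg⟩ := hBL (zpowers x) (zpowers y) inferInstance inferInstance (by
        rw [Nat.card_zpowers, Nat.card_zpowers, orderOf_eq_prime (hexp x hx) hx1,
          orderOf_eq_prime (hexp y hy) hy1])
      exact mem_centralizer_conj hxc (hg ▸ mem_zpowers y)
    rcases R.core_facts hsne with hcyc | ⟨rfl, h8, x₄, hx₄, hox₄⟩
    · haveI := hcyc
      set C := centralizer (X : Set (G ⧸ F))
      haveI : C.Normal := normal_centralizer
      by_contra! hnone
      have hker : ∀ y ∈ Sb, QuotientGroup.mk' C y = 1 → y = 1 := by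
        intro y hy hyC
        by_contra hy1
        obtain ⟨v, hv, hne⟩ := hnone y hy hy1
        exact hne ((mem_centralizer_iff.mp ((QuotientGroup.eq_one_iff y).mp hyC) v hv).symm)
      have hab : ∀ a b : G ⧸ F, QuotientGroup.mk' C a * QuotientGroup.mk' C b =
          QuotientGroup.mk' C b * QuotientGroup.mk' C a := fun a b =>
        commutatorElement_eq_one_iff_mul_comm.mp (by
          rw [← map_commutatorElement]
          exact (QuotientGroup.eq_one_iff _).mpr (mem_centralizer_iff.mpr fun v hv =>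
            (cyclic_normal_comm a b v hv).symm))
      obtain ⟨⟨x, hx⟩, hxo⟩ := exists_prime_orderOf_dvd_card' (G := Sb) r (by
        obtain ⟨i, hi⟩ := hSbp.exists_card_eq
        rw [hi] at hbig ⊢
        exact dvd_pow_self r (by have := (Nat.pow_le_pow_iff_right hr.out.one_lt).mp hbig; omega))
      rw [Subgroup.orderOf_mk] at hxo
      let g' : Sb →* (G ⧸ F) ⧸ C := (QuotientGroup.mk' C).comp Sb.subtype
      have hinj' : Function.Injective g' := (injective_iff_map_eq_one g').mpr fun y hy =>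
        Subtype.ext (hker y y.2 hy)
      have himg : g'.range ≤ zpowers (QuotientGroup.mk' C x) := by
        rintro _ ⟨⟨y, hy⟩, rfl⟩
        show QuotientGroup.mk' C y ∈ _
        by_cases hy1 : y = 1
        · simp [hy1, one_mem]
        obtain ⟨g, hg⟩ := hBL (zpowers x) (zpowers y) inferInstance inferInstance (by
          rw [Nat.card_zpowers, Nat.card_zpowers, hxo, orderOf_eq_prime (hexp y hy) hy1])
        obtain ⟨_, hw, hwy⟩ : y ∈ (zpowers x).map (MulAut.conj g).toMonoidHom := hg ▸ mem_zpowers y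
        obtain ⟨j, rfl⟩ := mem_zpowers_iff.mp hw
        refine mem_zpowers_iff.mpr ⟨j, ?_⟩
        rw [← hwy, show (MulAut.conj g).toMonoidHom (x ^ j) = g * x ^ j * g⁻¹ from rfl, map_mul, map_mul,
          map_inv, hab g (x ^ j), mul_inv_cancel_right, map_zpow]
      have h1 : Nat.card Sb ≤ r := by
        rw [Nat.card_congr (MonoidHom.ofInjective hinj').toEquiv]
        refine (card_le_of_le himg).trans ?_
        rw [Nat.card_zpowers]
        exact Nat.le_of_dvd hr.out.pos (orderOf_dvd_of_pow_eq_one (by rw [← map_pow, hexp x hx, map_one]))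
      have h3 : r < r ^ 2 := by nlinarith [hr.out.two_le]
      omega
    · have hr2 : r ≠ 2 := fun h => hsr h.symm
      let X' := X
      letI : MulAction Sb X :=
        { smul := fun y v => ⟨(y : G ⧸ F) * v * (y : G ⧸ F)⁻¹, (inferInstance : X.Normal).conj_mem v v.2 y⟩
          one_smul := fun v => Subtype.ext (by show (1 : G ⧸ F) * v * (1 : G ⧸ F)⁻¹ = v; simp)
          mul_smul := fun a b v => Subtype.ext (by
            show (a : G ⧸ F) * b * v * ((a : G ⧸ F) * b)⁻¹ = a * (b * v * (b : G ⧸ F)⁻¹) * (a : G ⧸ F)⁻¹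
            simp [mul_assoc]) }
      have hst : Nat.card (MulAction.orbit Sb (⟨x₄, hx₄⟩ : X)) * Nat.card (MulAction.stabilizer Sb (⟨x₄, hx₄⟩ : X)) =
          Nat.card Sb := by
        rw [← Nat.card_prod]; exact Nat.card_congr (MulAction.orbitProdStabilizerEquivGroup Sb _)
      rcases subsingleton_or_nontrivial (MulAction.stabilizer Sb (⟨x₄, hx₄⟩ : X)) with hs | hs
      · exfalso
        rw [Nat.card_of_subsingleton (1 : MulAction.stabilizer Sb (⟨x₄, hx₄⟩ : X)), mul_one] at hst
        have h1 : Nat.card (MulAction.orbit Sb (⟨x₄, hx₄⟩ : X)) ≤ 8 :=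
          (Nat.card_le_card_of_injective _ Subtype.val_injective).trans_eq h8
        have h3 : 3 ≤ r := by
          have := hr.out.two_le
          omega
        have h9 : 9 ≤ r ^ 2 := by nlinarith
        omega
      obtain ⟨⟨⟨y, hy⟩, hys⟩, hy1⟩ := exists_ne (1 : MulAction.stabilizer Sb (⟨x₄, hx₄⟩ : X))
      have hy1' : y ≠ 1 := fun h => hy1 (Subtype.ext (Subtype.ext h))
      refine ⟨y, hy, hy1', fun v hv => ?_⟩
      set Y : Subgroup (G ⧸ F) := X ⊓ centralizer ({y} : Set (G ⧸ F))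
      have hx₄Y : x₄ ∈ Y := ⟨hx₄, mem_centralizer_singleton_iff.mpr
        (mul_inv_eq_iff_eq_mul.mp (show y * x₄ * y⁻¹ = x₄ from
          congrArg Subtype.val (MulAction.mem_stabilizer_iff.mp hys))).symm⟩
      have hmod : Nat.card X ≡ Nat.card Y [MOD r] := by
        have hp : IsPGroup r (zpowers (⟨y, hy⟩ : Sb)) := hSbp.to_subgroup _
        have h1 := hp.card_modEq_card_fixedPoints X
        have h2 : Nat.card (MulAction.fixedPoints (zpowers (⟨y, hy⟩ : Sb)) X) = Nat.card Y := Nat.card_congr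
          { toFun := fun v => ⟨(v.1 : G ⧸ F), v.1.2, mem_centralizer_singleton_iff.mpr
              (mul_inv_eq_iff_eq_mul.mp (congrArg Subtype.val (v.2 ⟨⟨y, hy⟩, mem_zpowers _⟩))).symm⟩
            invFun := fun v => ⟨⟨v.1, v.2.1⟩, fun z => Subtype.ext (by
              obtain ⟨_, hz⟩ := z
              obtain ⟨j, rfl⟩ := mem_zpowers_iff.mp hz
              show ((((⟨y, hy⟩ : Sb) ^ j : Sb)) : G ⧸ F) * v * ((((⟨y, hy⟩ : Sb) ^ j : Sb)) : G ⧸ F)⁻¹ = v
              rw [SubgroupClass.coe_zpow]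
              have hc : Commute y (v : G ⧸ F) := (mem_centralizer_singleton_iff.mp v.2.2).symm
              rw [(hc.zpow_left j).eq, mul_inv_cancel_right])⟩
            left_inv := fun _ => rfl
            right_inv := fun _ => rfl }
        rwa [h2] at h1
      have h4 : 4 ∣ Nat.card Y := hox₄ ▸ orderOf_dvd_natCard Y hx₄Y
      have h8' : Nat.card Y ∣ 8 := h8 ▸ card_dvd_of_le inf_le_left
      have hY : Nat.card Y = 8 := by
        have := Nat.le_of_dvd (by norm_num) h8'
        interval_cases hn : Nat.card Y <;> try omega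
        rw [h8] at hmod
        have h5 : (8 - 4) % r = 0 := Nat.sub_mod_eq_zero_of_mod_eq hmod
        have h6 : r ∣ 2 ^ 2 := Nat.dvd_of_mod_eq_zero h5
        exact absurd ((Nat.prime_dvd_prime_iff_eq hr.out Nat.prime_two).mp (hr.out.dvd_of_dvd_pow h6)) hr2
      have hYX : Y = X := eq_of_le_of_card_ge inf_le_left (by rw [hY, h8])
      exact (mem_centralizer_singleton_iff.mp (hYX.ge hv).2).symm
  rw [hO, le_bot_iff] at hle
  rw [hle, card_bot] at hbig
  nlinarith [hr.out.two_le]

/-- Facts about a Sylow `2`-subgroup of order `8`. -/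
theorem Red.quat (h2F : ¬ 2 ∣ Nat.card (fittingSubgroup G)) (T : Sylow 2 G)
    (hT : ¬ IsCyclic ↥(T : Subgroup G)) :
    Nat.card ↥(T : Subgroup G) = 8 ∧ ((T : Subgroup G) ⊔ fittingSubgroup G).Normal ∧
    (∀ x ∈ (T : Subgroup G), ∀ y ∈ (T : Subgroup G), orderOf x = 2 → orderOf y = 2 → x = y) ∧
    ∀ (p : ℕ) [Fact p.Prime], p ∣ Nat.card (fittingSubgroup G) → ∀ X : Subgroup G, X ≤ pCore p G →
      X ≠ ⊥ → X ≠ pCore p G → (T : Subgroup G) ≤ normalizer (X : Set G) →
        ∀ x ∈ (T : Subgroup G), ∀ v ∈ pCore p G, x * v = v * x := by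
  set F := fittingSubgroup G
  obtain ⟨-, h8, x₀, hx₀⟩ := (R.rankOne h2F T).resolve_left hT
  have hx₀' : orderOf x₀ = 2 ^ 2 := by rw [hx₀]; norm_num
  have hone : ∀ x ∈ (T : Subgroup G), ∀ y ∈ (T : Subgroup G), orderOf x = 2 → orderOf y = 2 → x = y := by
    intro x hx y hy hx2 hy2
    have hu := sylow_unique R.hb hx₀' T (zpowers ⟨x, hx⟩) (zpowers ⟨y, hy⟩)
      (by rw [Nat.card_zpowers, Subgroup.orderOf_mk, hx2]) (by rw [Nat.card_zpowers, Subgroup.orderOf_mk, hy2])
    obtain ⟨j, hj⟩ := mem_zpowers_iff.mp (hu ▸ mem_zpowers _ : (⟨x, hx⟩ : ↥(T : Subgroup G)) ∈ zpowers ⟨y, hy⟩)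
    have hj' : y ^ j = x := congrArg Subtype.val hj
    rcases Int.even_or_odd' j with ⟨k, rfl | rfl⟩
    · exfalso
      rw [zpow_mul, zpow_ofNat, show y ^ 2 = 1 from hy2 ▸ pow_orderOf_eq_one y, one_zpow] at hj'
      rw [← hj', orderOf_one] at hx2
      omega
    · rw [← hj', zpow_add, zpow_mul, zpow_ofNat, show y ^ 2 = 1 from hy2 ▸ pow_orderOf_eq_one y,
        one_zpow, one_mul, zpow_one]
  have hord : ∀ x ∈ (T : Subgroup G), x ^ 2 ≠ 1 → orderOf x = 4 := by
    intro x hx hx2
    obtain ⟨i, hi⟩ := orderOf_of_mem_pgroup T.2 hx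
    have hd : 2 ^ i ∣ 2 ^ 3 := by rw [← hi, show (2 : ℕ) ^ 3 = 8 from rfl, ← h8]; exact orderOf_dvd_natCard _ hx
    have hi3 := Nat.pow_dvd_pow_iff_le_right (by norm_num : 1 < 2) |>.mp hd
    interval_cases i
    · exact absurd (by rw [show x = 1 from orderOf_eq_one_iff.mp (by simpa using hi), one_pow]) hx2
    · exact absurd (orderOf_dvd_iff_pow_eq_one.mp (by rw [hi]; exact dvd_refl _)) hx2
    · rw [hi]; norm_num
    · exfalso
      refine hT (isCyclic_of_orderOf_eq_card ⟨x, hx⟩ ?_)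
      rw [Subgroup.orderOf_mk, hi, h8]; norm_num
  have hsq : ∀ x ∈ (T : Subgroup G), x ^ 2 ≠ 1 → orderOf (x ^ 2) = 2 := fun x hx hx2 => by
    rw [orderOf_pow_of_dvd two_ne_zero (by rw [hord x hx hx2]; norm_num), hord x hx hx2]
  obtain ⟨a, haT, b, hbT, hab⟩ : ∃ a ∈ (T : Subgroup G), ∃ b ∈ (T : Subgroup G), a * b ≠ b * a := by
    by_contra! hcom
    -- an abelian group of order `8` with one involution is cyclic
    refine hT ?_
    obtain ⟨x, hx⟩ : ∃ x ∈ (T : Subgroup G), x ^ 2 ≠ 1 := by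
      by_contra! hall
      obtain ⟨⟨z, hz⟩, hzo⟩ := exists_prime_orderOf_dvd_card' (G := (T : Subgroup G)) 2 (by rw [h8]; norm_num)
      rw [Subgroup.orderOf_mk] at hzo
      have hle : (T : Subgroup G) ≤ zpowers z := fun x hx => by
        by_cases hx1 : x = 1
        · exact hx1 ▸ one_mem _
        · exact hone z hz x hx hzo (orderOf_eq_prime (hall x hx) hx1) ▸ mem_zpowers _
      have := card_le_of_le hle
      rw [h8, Nat.card_zpowers, hzo] at this
      omega
    obtain ⟨y, hy, hyx⟩ : ∃ y ∈ (T : Subgroup G), y ∉ zpowers x := by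
      by_contra! hall
      have := card_le_of_le hall
      rw [h8, Nat.card_zpowers, hord x hx.1 hx.2] at this
      omega
    exfalso
    have hz : ∀ w ∈ (T : Subgroup G), w ^ 2 = 1 → w ∈ zpowers x := fun w hw hw2 => by
      by_cases hw1 : w = 1
      · exact hw1 ▸ one_mem _
      exact hone (x ^ 2) (pow_mem hx.1 2) w hw (hsq x hx.1 hx.2) (orderOf_eq_prime hw2 hw1) ▸ npow_mem_zpowers x 2
    have hy2 : y ^ 2 ≠ 1 := fun h => hyx (hz y hy h)
    have he : x ^ 2 = y ^ 2 := hone _ (pow_mem hx.1 2) _ (pow_mem hy 2) (hsq x hx.1 hx.2) (hsq y hy hy2)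
    have h1 : (x⁻¹ * y) ^ 2 = 1 := by
      rw [(show Commute x y from hcom x hx.1 y hy).inv_left.mul_pow, inv_pow, he, inv_mul_cancel]
    have h3 := hz _ (mul_mem (inv_mem hx.1) hy) h1
    exact hyx (by simpa using (zpowers x).mul_mem (mem_zpowers x) h3)
  have hab4 : a ^ 2 ≠ 1 ∧ b ^ 2 ≠ 1 ∧ (a * b) ^ 2 ≠ 1 := by
    have key : ∀ c ∈ (T : Subgroup G), ∀ d ∈ (T : Subgroup G), c ^ 2 = 1 → c * d = d * c := by
      intro c hc d hd hc2
      by_cases hc1 : c = 1
      · simp [hc1]
      have ho : orderOf c = 2 := orderOf_eq_prime hc2 hc1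
      have ho' : orderOf (d * c * d⁻¹) = 2 := by
        rw [show d * c * d⁻¹ = MulAut.conj d c from rfl, MulEquiv.orderOf_eq, ho]
      have := hone c hc _ (mul_mem (mul_mem hd hc) (inv_mem hd)) ho ho'
      exact (mul_inv_eq_iff_eq_mul.mp this.symm).symm
    refine ⟨fun h => hab (key a haT b hbT h), fun h => hab (key b hbT a haT h).symm, fun h => hab ?_⟩
    have := key (a * b) (mul_mem haT hbT) a haT h
    rw [mul_assoc] at this
    exact (mul_left_cancel this).symm
  set π := QuotientGroup.mk' F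
  have hBL : HB (G ⧸ F) := hb_quotient _ G F rfl R.hb
  set O := pCore 2 (G ⧸ F)
  set Tb := T.mapSurjective (f := π) (QuotientGroup.mk'_surjective F)
  have hordb : ∀ x ∈ (T : Subgroup G), orderOf (π x) = orderOf x := fun x hx => by
    have := orderOf_injective _ (R.image_equiv h2F T) ⟨x, hx⟩
    rw [Subgroup.orderOf_mk] at this
    exact this
  have hTO : ∀ q ∈ O, orderOf q = 4 → (Tb : Subgroup (G ⧸ F)) ≤ O := by
    intro q hq hq4 _ hy
    obtain ⟨x, hx, rfl⟩ := hy
    have h4 : ∀ c ∈ (T : Subgroup G), c ^ 2 ≠ 1 → π c ∈ O := fun c hc hc2 =>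
      mem_of_orderOf_eq hBL O hq (by rw [hordb c hc, hord c hc hc2, hq4])
    by_cases hx2 : x ^ 2 = 1
    · by_cases hx1 : x = 1
      · rw [hx1, map_one]; exact one_mem _
      rw [hone x hx (a ^ 2) (pow_mem haT 2) (orderOf_eq_prime hx2 hx1) (hsq a haT hab4.1), map_pow]
      exact pow_mem (h4 a haT hab4.1) 2
    · exact h4 x hx hx2
  have hTbO : (Tb : Subgroup (G ⧸ F)) = O := by
    refine le_antisymm ?_ (Basics.pCore_le_sylow 2 Tb)
    by_cases hex : ∃ q ∈ O, orderOf q = 4
    · obtain ⟨q, hq, hq4⟩ := hex; exact hTO q hq hq4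
    push Not at hex
    refine R.le_core Tb.2 (fun s hs hs2 hsne => ?_) ?_
    · haveI : IsCyclic ↥(pCore s (G ⧸ F)) := by
        rcases R.core_facts hsne with h | ⟨h, -⟩
        · exact h
        · exact absurd h hs2
      set X := pCore s (G ⧸ F)
      set C := centralizer (X : Set (G ⧸ F))
      haveI : C.Normal := normal_centralizer
      set φ := (QuotientGroup.mk' C).comp π
      have habl : ∀ c d : G, φ c * φ d = φ d * φ c := fun c d =>
        commutatorElement_eq_one_iff_mul_comm.mp (by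
          rw [← map_commutatorElement]
          show QuotientGroup.mk' C (π ⁅c, d⁆) = 1
          rw [map_commutatorElement]
          exact (QuotientGroup.eq_one_iff _).mpr (mem_centralizer_iff.mpr fun v hv =>
            (cyclic_normal_comm (π c) (π d) v hv).symm))
      have hz1 : φ (a ^ 2) = 1 := by
        have hne : ⁅a, b⁆ ≠ 1 := fun h => hab (commutatorElement_eq_one_iff_mul_comm.mp h)
        have h1 : φ ⁅a, b⁆ = 1 := by
          rw [map_commutatorElement]; exact commutatorElement_eq_one_iff_mul_comm.mpr (habl a b)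
        have hcT : ⁅a, b⁆ ∈ (T : Subgroup G) :=
          mul_mem (mul_mem (mul_mem haT hbT) (inv_mem haT)) (inv_mem hbT)
        by_cases hc2 : ⁅a, b⁆ ^ 2 = 1
        · rw [hone (a ^ 2) (pow_mem haT 2) _ hcT (hsq a haT hab4.1) (orderOf_eq_prime hc2 hne), h1]
        · rw [hone (a ^ 2) (pow_mem haT 2) _ (pow_mem hcT 2) (hsq a haT hab4.1) (hsq _ hcT hc2), map_pow, h1,
            one_pow]
      have hsame : ∀ c ∈ (T : Subgroup G), c ^ 2 ≠ 1 → φ c ∈ zpowers (φ a) := by
        intro c hc hc2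
        obtain ⟨g, hg⟩ := R.hb (zpowers a) (zpowers c) inferInstance inferInstance (by
          rw [Nat.card_zpowers, Nat.card_zpowers, hord a haT hab4.1, hord c hc hc2])
        obtain ⟨_, hw, hwc⟩ : c ∈ (zpowers a).map (MulAut.conj g).toMonoidHom := hg ▸ mem_zpowers c
        obtain ⟨j, rfl⟩ := mem_zpowers_iff.mp hw
        refine mem_zpowers_iff.mpr ⟨j, ?_⟩
        rw [← hwc, show (MulAut.conj g).toMonoidHom (a ^ j) = g * a ^ j * g⁻¹ from rfl, map_mul, map_mul, map_inv,
          habl g (a ^ j), mul_inv_cancel_right, map_zpow]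
      have hpm : ∀ c ∈ (T : Subgroup G), c ^ 2 ≠ 1 → φ c = φ a := by
        intro c hc hc2
        obtain ⟨j, hj⟩ := mem_zpowers_iff.mp (hsame c hc hc2)
        have hz' : φ a ^ (2 : ℤ) = 1 := by rw [zpow_ofNat, ← map_pow, hz1]
        rcases Int.even_or_odd' j with ⟨k, rfl | rfl⟩
        · rw [zpow_mul, hz', one_zpow] at hj
          obtain ⟨g, hg⟩ := R.hb (zpowers c) (zpowers a) inferInstance inferInstance (by
            rw [Nat.card_zpowers, Nat.card_zpowers, hord a haT hab4.1, hord c hc hc2])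
          obtain ⟨_, hw, hwa⟩ : a ∈ (zpowers c).map (MulAut.conj g).toMonoidHom := hg ▸ mem_zpowers a
          obtain ⟨i, rfl⟩ := mem_zpowers_iff.mp hw
          rw [← hj, ← hwa, show (MulAut.conj g).toMonoidHom (c ^ i) = g * c ^ i * g⁻¹ from rfl, map_mul, map_mul,
            map_inv, habl g (c ^ i), mul_inv_cancel_right, map_zpow, ← hj, one_zpow]
        · rw [zpow_add, zpow_mul, hz', one_zpow, one_mul, zpow_one] at hj
          exact hj.symm
      have ha1 : φ a = 1 := by
        have h1 := hpm (a * b) (mul_mem haT hbT) hab4.2.2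
        rw [map_mul, hpm b hbT hab4.2.1] at h1
        exact mul_eq_left.mp h1
      intro x hx v hv
      obtain ⟨y, hy, rfl⟩ := hx
      have hy1 : φ y = 1 := by
        by_cases hy2 : y ^ 2 = 1
        · by_cases hy1 : y = 1
          · rw [hy1, map_one]
          · rw [hone y hy (a ^ 2) (pow_mem haT 2) (orderOf_eq_prime hy2 hy1) (hsq a haT hab4.1), hz1]
        · rw [hpm y hy hy2, ha1]
      exact (mem_centralizer_iff.mp ((QuotientGroup.eq_one_iff (π y)).mp hy1) v hv).symm
    · intro x hx v hv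
      obtain ⟨y, hy, rfl⟩ := hx
      obtain ⟨w, hw, rfl⟩ : v ∈ (T : Subgroup G).map π := Basics.pCore_le_sylow 2 Tb hv
      by_cases hw1 : w = 1
      · simp [hw1]
      have hw2 : w ^ 2 = 1 := by
        by_contra h
        exact hex _ hv (by rw [hordb w hw, hord w hw h])
      have ho : orderOf w = 2 := orderOf_eq_prime hw2 hw1
      have ho' : orderOf (y * w * y⁻¹) = 2 := by
        rw [show y * w * y⁻¹ = MulAut.conj y w from rfl, MulEquiv.orderOf_eq, ho]
      have h1 := hone w hw _ (mul_mem (mul_mem hy hw) (inv_mem hy)) ho ho'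
      rw [← map_mul, ← map_mul, (mul_inv_eq_iff_eq_mul.mp h1.symm)]
  have hTn : ((T : Subgroup G) ⊔ F).Normal := by
    have h : (T : Subgroup G) ⊔ F = O.comap π := by
      rw [← hTbO]
      show _ = ((T : Subgroup G).map π).comap π
      rw [comap_map_eq, QuotientGroup.ker_mk']
    rw [h]; infer_instance
  refine ⟨h8, hTn, hone, ?_⟩
  intro p hp hpF X hX hX1 hXP hTX
  haveI := hTn
  set P := pCore p G
  obtain ⟨Ps⟩ : Nonempty (Sylow p G) := inferInstance
  obtain ⟨hPs, hPexp, hPab⟩ := R.big p hpF Ps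
  have hPF : P ≤ F := Basics.pCore_le_fittingSubgroup p
  have hp2 : p ≠ 2 := fun h => h2F (h ▸ hpF)
  have hactF : ∀ v ∈ P, ∀ f ∈ F, f * v = v * f := fun v hv f hf => R.fab f hf v (hPF hv)
  -- all subgroups of the order of `X` are invariant
  have hinv : ∀ Y : Subgroup G, Y ≤ P → Nat.card Y = Nat.card X → ∀ q ∈ (T : Subgroup G),
      ∀ y ∈ Y, q * y * q⁻¹ ∈ Y := by
    intro Y hY hYc q hq y hy
    obtain ⟨g, rfl⟩ := R.hb X Y ⟨⟨fun a b => Subtype.ext (hPab a (hX a.2) b (hX b.2))⟩⟩
      ⟨⟨fun a b => Subtype.ext (hPab a (hY a.2) b (hY b.2))⟩⟩ hYc.symm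
    have h1 : g⁻¹ * q * g ∈ (T : Subgroup G) ⊔ F := by
      simpa using (inferInstance : ((T : Subgroup G) ⊔ F).Normal).conj_mem q (mem_sup_left hq) g⁻¹
    obtain ⟨t, ht, f, hf, htf⟩ := mem_sup_of_normal_right.mp h1
    obtain ⟨x, hx, rfl⟩ := hy
    refine ⟨t * x * t⁻¹, (mem_normalizer_iff.mp (hTX ht) x).mp hx, ?_⟩
    show g * (t * x * t⁻¹) * g⁻¹ = q * (g * x * g⁻¹) * q⁻¹
    have h2 : q = g * (t * f) * g⁻¹ := by rw [htf]; simp [mul_assoc]
    have h3 : f * x * f⁻¹ = x := by rw [hactF x (hX hx) f hf, mul_inv_cancel_right]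
    calc g * (t * x * t⁻¹) * g⁻¹ = g * (t * (f * x * f⁻¹) * t⁻¹) * g⁻¹ := by rw [h3]
      _ = q * (g * x * g⁻¹) * q⁻¹ := by rw [h2]; simp [mul_assoc]
  have hline : ∀ v ∈ P, ∀ q ∈ (T : Subgroup G), q * v * q⁻¹ ∈ zpowers v := by
    intro v hv q hq
    by_cases hv1 : v = 1
    · simp [hv1, one_mem]
    by_contra hw
    obtain ⟨k, hk⟩ := ((Basics.pCore_isPGroup (G := G) p).to_le hX).exists_card_eq
    have hk1 : 1 ≤ k := by
      by_contra h
      obtain rfl : k = 0 := by omega
      exact hX1 (eq_bot_of_card_eq X (by simpa using hk))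
    have hlt : p ^ k < Nat.card P := by
      rw [← hk]; exact Basics.card_lt_of_lt (lt_of_le_of_ne hX hXP)
    obtain ⟨Y, hY, hYc, hvY, hwY⟩ := exists_avoiding P hPab hPexp hv hv1
      ((inferInstance : P.Normal).conj_mem v hv q) hw k hk1 hlt
    exact hwY (hinv Y hY (hYc.trans hk.symm) q hq v hvY)
  -- squares act trivially
  have hcom : ∀ v ∈ P, ⁅a, b⁆ * v = v * ⁅a, b⁆ := by
    intro v hv
    obtain ⟨i, hi⟩ := mem_zpowers_iff.mp (hline v hv a haT)
    obtain ⟨j, hj⟩ := mem_zpowers_iff.mp (hline v hv b hbT)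
    have h1 : a * (b * v * b⁻¹) * a⁻¹ = b * (a * v * a⁻¹) * b⁻¹ := by
      rw [← hj, ← hi, ← conj_zpow, ← conj_zpow, ← hi, ← hj, ← zpow_mul, ← zpow_mul, mul_comm]
    have h2 : ∀ w ∈ P, a * (b * w * b⁻¹) * a⁻¹ = b * (a * w * a⁻¹) * b⁻¹ := by
      intro w hw
      obtain ⟨i, hi⟩ := mem_zpowers_iff.mp (hline w hw a haT)
      obtain ⟨j, hj⟩ := mem_zpowers_iff.mp (hline w hw b hbT)
      rw [← hj, ← hi, ← conj_zpow, ← conj_zpow, ← hi, ← hj, ← zpow_mul, ← zpow_mul, mul_comm]
    have hu : (b * a)⁻¹ * v * (b * a) ∈ P := by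
      simpa using (inferInstance : P.Normal).conj_mem v hv (b * a)⁻¹
    have h3 := h2 _ hu
    have h4 : ⁅a, b⁆ * v * ⁅a, b⁆⁻¹ = v := by
      calc ⁅a, b⁆ * v * ⁅a, b⁆⁻¹ = a * (b * ((b * a)⁻¹ * v * (b * a)) * b⁻¹) * a⁻¹ := by
            simp [commutatorElement_def, mul_assoc]
        _ = _ := by rw [h3]; simp [mul_assoc]
    exact mul_inv_eq_iff_eq_mul.mp h4
  have hsqc : ∀ q ∈ (T : Subgroup G), ∀ v ∈ P, q ^ 2 * v = v * q ^ 2 := by
    intro q hq v hv
    by_cases hq2 : q ^ 2 = 1
    · simp [hq2]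
    have hne : ⁅a, b⁆ ≠ 1 := fun h => hab (commutatorElement_eq_one_iff_mul_comm.mp h)
    have hcT : ⁅a, b⁆ ∈ (T : Subgroup G) :=
      mul_mem (mul_mem (mul_mem haT hbT) (inv_mem haT)) (inv_mem hbT)
    by_cases hc2 : ⁅a, b⁆ ^ 2 = 1
    · rw [hone _ (pow_mem hq 2) _ hcT (hsq q hq hq2) (orderOf_eq_prime hc2 hne)]
      exact hcom v hv
    · rw [hone _ (pow_mem hq 2) _ (pow_mem hcT 2) (hsq q hq hq2) (hsq _ hcT hc2)]
      exact ((show Commute ⁅a, b⁆ v from hcom v hv).pow_left 2).eq
  have hsign : ∀ q ∈ (T : Subgroup G), ∀ v ∈ P, q * v * q⁻¹ = v ∨ q * v * q⁻¹ = v⁻¹ := by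
    intro q hq v hv
    by_cases hv1 : v = 1
    · simp [hv1]
    obtain ⟨m, hm⟩ := mem_zpowers_iff.mp (hline v hv q hq)
    have h1 : v ^ (m * m) = v := by
      calc v ^ (m * m) = q * (q * v * q⁻¹) * q⁻¹ := by rw [zpow_mul, hm, conj_zpow, hm]
        _ = q ^ 2 * v * (q ^ 2)⁻¹ := by simp [sq, mul_assoc]
        _ = v := by rw [hsqc q hq v hv, mul_inv_cancel_right]
    have h2 : v ^ (m * m - 1) = 1 := by rw [zpow_sub_one, h1, mul_inv_cancel]
    rw [← orderOf_dvd_iff_zpow_eq_one, orderOf_eq_prime (hPexp v hv) hv1,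
      show m * m - 1 = (m - 1) * (m + 1) by ring] at h2
    rcases (Nat.prime_iff_prime_int.mp hp.out).dvd_or_dvd h2 with h3 | h3 <;>
      rw [← orderOf_eq_prime (hPexp v hv) hv1, orderOf_dvd_iff_zpow_eq_one] at h3
    · left; rw [← hm, ← mul_inv_eq_one, ← zpow_sub_one, h3]
    · right; rw [← hm, eq_inv_iff_mul_eq_one, ← zpow_add_one, h3]
  have hall : ∀ q ∈ (T : Subgroup G), (∀ v ∈ P, q * v * q⁻¹ = v) ∨ ∀ v ∈ P, q * v * q⁻¹ = v⁻¹ := by
    intro q hq
    by_contra! hmix
    obtain ⟨⟨v, hv, hv'⟩, w, hw, hw'⟩ := hmix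
    have hv2 := (hsign q hq v hv).resolve_left hv'
    have hw2 := (hsign q hq w hw).resolve_right hw'
    have hc : q * (v * w) * q⁻¹ = (q * v * q⁻¹) * (q * w * q⁻¹) := by simp [mul_assoc]
    rw [hv2, hw2] at hc
    rcases hsign q hq (v * w) (mul_mem hv hw) with h | h <;> rw [hc] at h
    · exact hv' (by rw [hv2]; exact mul_right_cancel h)
    · rw [mul_inv_rev, hPab w⁻¹ (inv_mem hw) v⁻¹ (inv_mem hv)] at h
      exact hw' (by rw [hw2]; exact mul_left_cancel h)
  -- conjugate elements have equal signs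
  have hne1 : ∃ v ∈ P, v ≠ v⁻¹ := by
    obtain ⟨⟨v, hv⟩, hv1⟩ := Subgroup.ne_bot_iff_exists_ne_one.mp hX1
    refine ⟨v, hX hv, fun h => hv1 (Subtype.ext ?_)⟩
    have h2 : v ^ 2 = 1 := by rw [sq]; exact mul_eq_one_iff_eq_inv.mpr h
    by_contra hv1'
    have h3 := orderOf_dvd_of_pow_eq_one h2
    rw [orderOf_eq_prime (hPexp v (hX hv)) hv1'] at h3
    exact hp2 ((Nat.prime_dvd_prime_iff_eq hp.out Nat.prime_two).mp h3)
  have htrans : ∀ c ∈ (T : Subgroup G), ∀ d ∈ (T : Subgroup G), c ^ 2 ≠ 1 → d ^ 2 ≠ 1 →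
      (∀ v ∈ P, c * v = v * c) → ∀ v ∈ P, d * v = v * d := by
    intro c hc d hd hc2 hd2 hcc
    obtain ⟨g, hg⟩ := R.hb (zpowers c) (zpowers d) inferInstance inferInstance (by
      rw [Nat.card_zpowers, Nat.card_zpowers, hord c hc hc2, hord d hd hd2])
    exact mem_centralizer_conj hcc (hg ▸ mem_zpowers d)
  have hc0 : ∃ c ∈ (T : Subgroup G), c ^ 2 ≠ 1 ∧ ∀ v ∈ P, c * v = v * c := by
    rcases hall a haT with h | h
    · exact ⟨a, haT, hab4.1, fun v hv => mul_inv_eq_iff_eq_mul.mp (h v hv)⟩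
    rcases hall b hbT with h' | h'
    · exact ⟨b, hbT, hab4.2.1, fun v hv => mul_inv_eq_iff_eq_mul.mp (h' v hv)⟩
    refine ⟨a * b, mul_mem haT hbT, hab4.2.2, fun v hv => mul_inv_eq_iff_eq_mul.mp ?_⟩
    calc a * b * v * (a * b)⁻¹ = a * (b * v * b⁻¹) * a⁻¹ := by simp [mul_assoc]
      _ = v := by rw [h' v hv, h _ (inv_mem hv), inv_inv]
  obtain ⟨c, hc, hc2, hcc⟩ := hc0
  intro x hx v hv
  by_cases hx2 : x ^ 2 = 1
  · by_cases hx1 : x = 1
    · simp [hx1]
    rw [hone x hx (c ^ 2) (pow_mem hc 2) (orderOf_eq_prime hx2 hx1) (hsq c hc hc2)]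
    exact ((show Commute c v from hcc v hv).pow_left 2).eq
  · exact htrans c hc x hx hc2 hx2 hcc v hv

end

/-- The reduced case. -/
theorem reduced {G : Type u} [Group G] [Finite G] [Group.IsSolvable G] [Nontrivial G] (R : Red G)
    (hQ : EqC (G ⧸ fittingSubgroup G)) : EqC G := by
  set F := fittingSubgroup G
  set π := QuotientGroup.mk' F
  haveI : Group.IsSolvable F := inferInstance
  intro A₀ B₀ hcard
  have hgcd : ∀ C : Subgroup G, Nat.card ↥(C ⊓ F) = (Nat.card C).gcd (Nat.card F) := by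
    intro C
    refine Nat.dvd_antisymm (Nat.dvd_gcd (card_dvd_of_le inf_le_left) (card_dvd_of_le inf_le_right)) ?_
    have h1 := card_map_mk F C
    have h2 : ((Nat.card C).gcd (Nat.card F)).Coprime (Nat.card (C.map π)) := by
      refine (Nat.Coprime.coprime_dvd_left (Nat.gcd_dvd_right _ _) ?_)
      refine R.coprime.coprime_dvd_right ?_
      rw [index_eq_card]; exact card_subgroup_dvd_card _
    exact h2.dvd_of_dvd_mul_left (h1.symm ▸ Nat.gcd_dvd_left _ _)
  obtain ⟨q, hq⟩ := hQ (A₀.map π) (B₀.map π) (by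
    refine Nat.eq_of_mul_eq_mul_right (Nat.card_pos (α := ↥(A₀ ⊓ F))) ?_
    rw [card_map_mk]
    rw [hgcd, hcard, ← hgcd, card_map_mk])
  obtain ⟨g₁, rfl⟩ := QuotientGroup.mk'_surjective F q
  set A₁ := cj g₁ A₀
  have hAB : A₁ ⊔ F = B₀ ⊔ F := cj_sup_eq_of_map F hq
  have hcompl : ∀ C : Subgroup G, ∃ K ≤ C, (C ⊓ F) ⊔ K = C ∧ (Nat.card F).Coprime (Nat.card K) ∧
      Nat.card ↥(C ⊓ F) * Nat.card K = Nat.card C := by
    intro C
    have hidx : (F.subgroupOf C).index * Nat.card ↥(C ⊓ F) = Nat.card C := by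
      have := card_mul_index (F.subgroupOf C)
      rw [← inf_subgroupOf_left F C, Basics.card_subgroupOf inf_le_left] at this
      rw [← inf_subgroupOf_left F C, mul_comm]; exact this
    have hco : (Nat.card F).Coprime (F.subgroupOf C).index :=
      R.coprime.coprime_dvd_right (F.relIndex_dvd_index_of_normal C)
    obtain ⟨K₀, hK₀⟩ := exists_right_complement'_of_coprime (N := F.subgroupOf C)
      (hco.coprime_dvd_left (by
        rw [← inf_subgroupOf_left F C, Basics.card_subgroupOf inf_le_left]; exact card_dvd_of_le inf_le_right))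
    refine ⟨K₀.map C.subtype, map_subtype_le _, ?_, ?_, ?_⟩
    · rw [inf_comm C F, ← subgroupOf_map_subtype F C, ← Subgroup.map_sup, hK₀.sup_eq_top, ← MonoidHom.range_eq_map,
        range_subtype]
    · rw [card_map_of_injective C.subtype_injective, ← hK₀.symm.index_eq_card]
      exact hco
    · rw [card_map_of_injective C.subtype_injective, ← hK₀.symm.index_eq_card, mul_comm]
      exact hidx
  obtain ⟨KA, hKA, hsupA, hcoA, hmulA⟩ := hcompl A₁
  obtain ⟨K, hK, hsupB, hcoB, hmulB⟩ := hcompl B₀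
  set U := A₁ ⊓ F
  set W := B₀ ⊓ F
  have hUF : U ≤ F := inf_le_right
  have hWF : W ≤ F := inf_le_right
  have hUW : Nat.card U = Nat.card W := by rw [hgcd, hgcd, cj_card, hcard]
  have hKF : KA ⊔ F = K ⊔ F := by
    have h1 : A₁ ⊔ F = KA ⊔ F := by
      conv_lhs => rw [← hsupA, sup_comm U KA, sup_assoc, sup_eq_right.mpr hUF]
    have h2 : B₀ ⊔ F = K ⊔ F := by
      conv_lhs => rw [← hsupB, sup_comm W K, sup_assoc, sup_eq_right.mpr hWF]
    rw [← h1, ← h2, hAB]
  obtain ⟨n₁, hn₁, hKe⟩ := compl_conj F hcoA hcoB hKF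
  have hfixF : ∀ (f : G) (X : Subgroup G), f ∈ F → X ≤ F → cj f X = X := fun f X hf hX => by
    refine cj_eq_iff.mpr (centralizer_le_normalizer _ (mem_centralizer_iff.mpr fun y hy => ?_))
    exact R.fab y (hX hy) f hf
  have hA₂ : cj n₁ A₁ = U ⊔ K := by rw [← hsupA, cj_sup, hfixF n₁ U hn₁ hUF, hKe]
  -- it suffices to move `U` to `W` keeping `K` modulo `F`
  suffices hmain : ∃ g : G, cj g U = W ∧ cj g K ⊔ F = K ⊔ F by
    obtain ⟨g, hgU, hgK⟩ := hmain
    obtain ⟨n, hn, hne⟩ := compl_conj F (A := cj g K) (B := K) (by rwa [cj_card]) hcoB hgK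
    refine ⟨n * g * (n₁ * g₁), ?_⟩
    rw [cj_mul, cj_mul, cj_mul]
    show B₀ = cj n (cj g (cj n₁ A₁))
    rw [hA₂, cj_sup, cj_sup, hgU, hfixF n W hn hWF, ← hne]
    exact hsupB.symm
  have hWn : ∀ x ∈ B₀, x ∈ normalizer (W : Set G) := fun x hx => by
    rw [← cj_eq_iff, cj_inf, cj_eq_of_mem hx, cj_normal]
  have hUn : ∀ x ∈ K, x ∈ normalizer (U : Set G) := fun x hx => by
    obtain ⟨y, hy, rfl⟩ : x ∈ cj n₁ KA := hKe ▸ hx
    rw [← cj_eq_iff, ← hfixF n₁ U hn₁ hUF, ← cj_mul,
      show (MulAut.conj n₁).toMonoidHom y * n₁ = n₁ * y by simp, cj_mul]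
    have : cj y U = U := by
      show cj y (A₁ ⊓ F) = A₁ ⊓ F
      rw [cj_inf, cj_eq_of_mem (hKA hy), cj_normal]
    rw [this]
  have hUab : IsMulCommutative U := ⟨⟨fun a b => Subtype.ext (R.fab a (hUF a.2) b (hUF b.2))⟩⟩
  have hWab : IsMulCommutative W := ⟨⟨fun a b => Subtype.ext (R.fab a (hWF a.2) b (hWF b.2))⟩⟩
  set T₁ := normalizer (W : Set G)
  have hFT : F ≤ T₁ := fun f hf => cj_eq_iff.mp (hfixF f W hf hWF)
  -- a quotient of a subgroup with cyclic Sylow subgroups
  have hzq : ∀ (T N : Subgroup G) [N.Normal],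
      (∀ r : ℕ, ∀ _ : Fact r.Prime, r ∣ Nat.card ↥(T.map (QuotientGroup.mk' N)) →
        ∀ S : Subgroup G, S ≤ T → IsPGroup r S → IsCyclic ↥(S.map (QuotientGroup.mk' N))) →
      ∀ X Y : Subgroup G, X ≤ T → Y ≤ T → Nat.card (X.map (QuotientGroup.mk' N)) = Nat.card (Y.map (QuotientGroup.mk' N)) →
        ∃ t ∈ T, cj t X ⊔ N = Y ⊔ N := by
    intro T N _ hcyc X Y hX hY hc
    set π' := QuotientGroup.mk' N
    haveI : IsZGroup ↥(T.map π') := ⟨fun r hr S => by
      haveI := Fact.mk hr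
      by_cases hd : r ∣ Nat.card ↥(T.map π')
      · obtain ⟨S₀⟩ : Nonempty (Sylow r T) := inferInstance
        set S₁ := S₀.mapSurjective (π'.subgroupMap_surjective T)
        haveI : IsCyclic ↥(S₁ : Subgroup (T.map π')) := by
          have := hcyc r inferInstance hd ((S₀ : Subgroup T).map T.subtype) (map_subtype_le _) (S₀.2.map _)
          have he : ((S₁ : Subgroup (T.map π'))).map (T.map π').subtype =
              ((S₀ : Subgroup T).map T.subtype).map π' := by
            show ((S₀ : Subgroup T).map (π'.subgroupMap T)).map (T.map π').subtype = _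
            rw [map_map, map_map]
            rfl
          rw [← he] at this
          exact isCyclic_of_injective ((T.map π').subtype.subgroupMap (S₁ : Subgroup (T.map π')))
            fun a b hab => Subtype.ext (Subtype.ext (Subtype.ext_iff.mp hab :))
        exact isCyclic_of_surjective (S₁.equiv S).toMonoidHom (S₁.equiv S).surjective
      · haveI : Subsingleton ↥(S : Subgroup (T.map π')) := by
          obtain ⟨i, hi⟩ := S.2.exists_card_eq
          rcases i with _ | i
          · exact (Nat.card_eq_one_iff_unique.mp (show Nat.card ↥(S : Subgroup (T.map π')) = 1 by simpa using hi)).1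
          · exact absurd ((hi ▸ dvd_pow_self r i.succ_ne_zero).trans (card_subgroup_dvd_card _)) hd
        infer_instance⟩
    obtain ⟨⟨_, t, ht, rfl⟩, hte⟩ := zconj _ (T.map π') rfl ((X.map π').subgroupOf (T.map π'))
      ((Y.map π').subgroupOf (T.map π'))
      (by rw [Basics.card_subgroupOf (map_mono hX), Basics.card_subgroupOf (map_mono hY), hc])
    refine ⟨t, ht, cj_sup_eq_of_map N ?_⟩
    have h1 := congrArg (Subgroup.map (T.map π').subtype) hte
    rw [map_subgroupOf_eq_of_le (map_mono hY), map_map,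
      show (T.map π').subtype.comp (MulAut.conj (⟨π' t, t, ht, rfl⟩ : T.map π')).toMonoidHom =
        (MulAut.conj (π' t)).toMonoidHom.comp (T.map π').subtype from rfl,
      ← map_map, map_subgroupOf_eq_of_le (map_mono hX)] at h1
    exact h1
  have hmapcard : ∀ X : Subgroup G, (Nat.card F).Coprime (Nat.card X) →
      Nat.card (X.map π) = Nat.card X := fun X hX => by
    have := card_map_mk F X
    rwa [show X ⊓ F = ⊥ by rw [inf_comm]; exact (disjoint_of_coprime_natCard hX).eq_bot, card_bot,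
      mul_one] at this
  have hKn : ∀ g : G, cj g U = W → cj g K ≤ T₁ := by
    rintro g hgU _ ⟨x, hx, rfl⟩
    refine cj_eq_iff.mp ?_
    rw [← hgU, ← cj_mul, show (MulAut.conj g).toMonoidHom x * g = g * x by simp, cj_mul,
      cj_eq_iff.mpr (hUn x hx)]
  by_cases hQ8 : ∃ T : Sylow 2 G, (T : Subgroup G) ≤ T₁ ∧ ¬ IsCyclic ↥(T : Subgroup G) ∧ ¬ 2 ∣ Nat.card F
  swap
  · -- cyclic Sylow subgroups
    obtain ⟨g, hg⟩ := R.hb U W hUab hWab hUW
    have hg' : cj g U = W := hg.symm
    obtain ⟨t, ht, hte⟩ := hzq T₁ F (fun r hr hd S hS hSp => by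
      have hrF : ¬ r ∣ Nat.card F := R.not_dvd_of_quot hr.out (hd.trans (card_subgroup_dvd_card _))
      obtain ⟨P, hP⟩ := hSp.exists_le_sylow
      haveI : IsCyclic S := by
        rcases R.rankOne hrF P with hc | ⟨rfl, h8, x, hx⟩
        · exact isCyclic_of_injective (inclusion hP) (inclusion_injective _)
        · by_cases hPc : IsCyclic ↥(P : Subgroup G)
          · exact isCyclic_of_injective (inclusion hP) (inclusion_injective _)
          have hx' : orderOf x = 2 ^ 2 := by rw [hx]; norm_num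
          have hSne : Nat.card S ≠ 8 := fun h => hQ8 ⟨P, by
            rw [← eq_of_le_of_card_ge hP (by rw [h, h8])]; exact hS, hPc, hrF⟩
          have huS : ∀ H K : Subgroup S, Nat.card H = 2 → Nat.card K = 2 → H = K := by
            intro H K hH hK
            apply map_injective (inclusion_injective hP)
            exact sylow_unique R.hb hx' P _ _ (by rw [card_map_of_injective (inclusion_injective hP), hH])
              (by rw [card_map_of_injective (inclusion_injective hP), hK])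
          rcases InvChar.cyclic_or_quaternion hSp huS with hc | ⟨-, m, ⟨e⟩⟩
          · exact hc
          · rcases m with _ | m
            · haveI : IsCyclic (QuaternionGroup (2 ^ 0)) := by
                rw [pow_zero]; exact QuaternionGroup.quaternionGroup_one_isCyclic
              exact isCyclic_of_injective e.toMonoidHom e.injective
            · exfalso
              have h1 : Nat.card S = 4 * 2 ^ (m + 1) := by
                rw [Nat.card_congr e.toEquiv, Nat.card_eq_fintype_card, QuaternionGroup.card]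
              have h2 : Nat.card S ∣ 8 := h8 ▸ card_dvd_of_le hP
              have h3 := Nat.le_of_dvd (by norm_num) h2
              have h4 : 1 ≤ 2 ^ m := Nat.one_le_two_pow
              rw [pow_succ] at h1
              omega
      exact isCyclic_of_surjective (π.subgroupMap S) (π.subgroupMap_surjective S))
      (cj g K) K (hKn g hg') (fun x hx => hWn x (hK hx))
      (by rw [hmapcard _ (by rwa [cj_card]), hmapcard _ hcoB, cj_card])
    exact ⟨t * g, by rw [cj_mul, hg', cj_eq_iff.mpr ht], by rw [cj_mul]; exact hte⟩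
  -- the quaternion case
  obtain ⟨T, hTT₁, hTc, h2F⟩ := hQ8
  obtain ⟨h8, hTn, hone, htriv⟩ := R.quat h2F T hTc
  haveI := hTn
  set N := (T : Subgroup G) ⊔ F with hN
  have hcoT : (Nat.card F).Coprime (Nat.card ↥(T : Subgroup G)) := by
    rw [h8, show (8 : ℕ) = 2 ^ 3 from rfl]
    exact (Nat.prime_two.coprime_iff_not_dvd.mpr h2F).symm.pow_right 3
  have hNcard : Nat.card N = 8 * Nat.card F := by
    rw [hN, sup_comm, Basics.card_sup_of_coprime (by
      rw [normalizer_eq_top_iff.mpr inferInstance]; exact le_top) hcoT, h8, mul_comm]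
  set I := K ⊓ N with hI
  have hI8 : Nat.card I ∣ 8 :=
    Nat.Coprime.dvd_of_dvd_mul_right (hcoB.symm.coprime_dvd_left (card_dvd_of_le inf_le_left))
      (hNcard ▸ card_dvd_of_le inf_le_right)
  have hIp : IsPGroup 2 I := by
    obtain ⟨i, -, hi⟩ := (Nat.dvd_prime_pow Nat.prime_two).mp (show Nat.card I ∣ 2 ^ 3 from hI8)
    exact IsPGroup.of_card hi
  have hIN : I ≤ N := inf_le_right
  have hsylN : ∀ (g : G), cj g (T : Subgroup G) ≤ N := fun g => by
    rw [← cj_normal g N]; exact map_mono le_sup_left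
  have hKT : K ≤ T₁ := fun x hx => hWn x (hK hx)
  have hNT : N ≤ T₁ := sup_le hTT₁ hFT
  -- choice of `g`
  obtain ⟨g, hgU, hgI⟩ : ∃ g : G, cj g U = W ∧ cj g I ⊔ F = I ⊔ F := by
    have hItriv : ∀ g : G, Nat.card I ≠ 4 → cj g I ⊔ F = I ⊔ F := by
      intro g hne4
      have hT2 : ∀ J : Subgroup G, J ≤ N → Nat.card J = Nat.card I → ∃ t ∈ N, cj t J ≤ (T : Subgroup G) := by
        intro J hJ hJc
        have hsyl : ConjFunctor.IsSylIn 2 (T : Subgroup G) N := ⟨le_sup_left, T.2,
          fun hd => T.not_dvd_index (hd.trans (relIndex_dvd_index_of_le le_sup_left))⟩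
        obtain ⟨i, hi⟩ := hIp.exists_card_eq
        exact ConjFunctor.exists_conj_le_of_isSylIn hsyl hJ (IsPGroup.of_card (hJc.trans hi))
      have hgIN : cj g I ≤ N := by rw [← cj_normal g N]; exact map_mono hIN
      rcases Nat.eq_zero_or_pos (Nat.card I) with h0 | _
      · exact absurd h0 Nat.card_pos.ne'
      obtain ⟨t₁, ht₁, hle₁⟩ := hT2 _ hIN rfl
      obtain ⟨t₂, ht₂, hle₂⟩ := hT2 _ hgIN (cj_card g I)
      have heq : cj t₁ I = cj t₂ (cj g I) := by
        have hle8 := Nat.le_of_dvd (by norm_num) hI8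
        interval_cases hn : Nat.card I <;> try omega
        · rw [eq_bot_of_card_eq (cj t₁ I) (by rw [cj_card, hn]),
            eq_bot_of_card_eq (cj t₂ (cj g I)) (by rw [cj_card, cj_card, hn])]
        · obtain ⟨⟨x, hx⟩, hxo⟩ := exists_prime_orderOf_dvd_card' (G := cj t₁ I) 2 (by rw [cj_card, hn])
          obtain ⟨⟨y, hy⟩, hyo⟩ := exists_prime_orderOf_dvd_card' (G := cj t₂ (cj g I)) 2
            (by rw [cj_card, cj_card, hn])
          rw [Subgroup.orderOf_mk] at hxo hyo
          have hxy := hone x (hle₁ hx) y (hle₂ hy) hxo hyo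
          subst hxy
          rw [← eq_of_le_of_card_ge (zpowers_le.mpr hx) (by rw [Nat.card_zpowers, hxo, cj_card, hn]),
            ← eq_of_le_of_card_ge (zpowers_le.mpr hy) (by rw [Nat.card_zpowers, hxo, cj_card, cj_card, hn])]
        · rw [eq_of_le_of_card_ge hle₁ (by rw [cj_card, hn, h8]),
            eq_of_le_of_card_ge hle₂ (by rw [cj_card, cj_card, hn, h8])]
      -- conjugation inside `N` does not change a subgroup of `T` modulo `F`
      have hstab : ∀ J : Subgroup G, J ≤ (T : Subgroup G) → Nat.card J = Nat.card I → ∀ t ∈ N,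
          cj t J ⊔ F = J ⊔ F := by
        intro J hJ hJc t ht
        obtain ⟨y, hy, f, hf, rfl⟩ := mem_sup_of_normal_right.mp ht
        have hfJ : cj f J ⊔ F = J ⊔ F := by
          rw [← cj_normal f F, ← cj_sup, cj_normal f F]
          exact cj_eq_of_mem (mem_sup_right hf)
        have hyJ : cj y J = J := by
          have hle8 := Nat.le_of_dvd (by norm_num) hI8
          interval_cases hn : Nat.card I <;> try omega
          · rw [eq_bot_of_card_eq J (by omega)]; exact Subgroup.map_bot _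
          · obtain ⟨⟨x, hx⟩, hxo⟩ := exists_prime_orderOf_dvd_card' (G := J) 2 (by rw [show Nat.card J = 2 by omega])
            rw [Subgroup.orderOf_mk] at hxo
            have hxy : y * x * y⁻¹ = x := hone _ (mul_mem (mul_mem hy (hJ hx)) (inv_mem hy)) x (hJ hx)
              (by rw [show y * x * y⁻¹ = MulAut.conj y x from rfl, MulEquiv.orderOf_eq, hxo]) hxo
            rw [← eq_of_le_of_card_ge (zpowers_le.mpr hx) (by rw [Nat.card_zpowers, hxo]; omega)]
            show Subgroup.map _ (zpowers x) = _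
            rw [MonoidHom.map_zpowers]
            exact congrArg zpowers hxy
          · rw [eq_of_le_of_card_ge hJ (by omega)]
            exact cj_eq_of_mem hy
        rw [cj_mul]
        conv_lhs => rw [← cj_normal y F, ← cj_sup, hfJ, cj_sup, hyJ, cj_normal _ F]
      have e1 := hstab (cj t₁ I) hle₁ (cj_card _ _) t₁⁻¹ (inv_mem ht₁)
      have e2 := hstab (cj t₁ I) hle₁ (cj_card _ _) t₂⁻¹ (inv_mem ht₂)
      rw [ConjFunctor.cj_inv_cj] at e1
      rw [heq, ConjFunctor.cj_inv_cj, ← heq] at e2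
      rw [e2, ← e1]
    by_cases h4 : Nat.card I = 4
    swap
    · obtain ⟨g, hg⟩ := R.hb U W hUab hWab hUW
      exact ⟨g, hg.symm, hItriv g h4⟩
    set C := F ⊓ centralizer (N : Set G) with hC
    haveI : (centralizer (N : Set G)).Normal := normal_centralizer
    haveI : C.Normal := inferInstance
    have hIc : ∀ x ∈ I, ∀ y ∈ I, x * y = y * x := by
      intro x hx y hy
      letI := IsPGroup.commGroupOfCardEqPrimeSq (p := 2) (G := I) (by rw [h4]; norm_num)
      exact congrArg Subtype.val (mul_comm (⟨x, hx⟩ : I) ⟨y, hy⟩)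
    have habX : ∀ V : Subgroup G, V ≤ C → IsMulCommutative ↥(V ⊔ I) := by
      intro V hV
      have hn : I ≤ normalizer (V : Set G) := fun x hx => centralizer_le_normalizer _
        (mem_centralizer_iff.mpr fun y hy => ((mem_centralizer_iff.mp (hV hy).2 x (hIN hx))).symm)
      refine ⟨⟨fun a b => Subtype.ext ?_⟩⟩
      obtain ⟨v₁, hv₁, i₁, hi₁, he₁⟩ := (Basics.mem_sup_of_le_normalizer hn).mp a.2
      obtain ⟨v₂, hv₂, i₂, hi₂, he₂⟩ := (Basics.mem_sup_of_le_normalizer hn).mp b.2
      show (a : G) * b = b * a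
      have c1 : Commute (v₁ * i₁) (v₂ * i₂) :=
        ((show Commute v₁ v₂ from R.fab v₁ (hV hv₁).1 v₂ (hV hv₂).1).mul_right
          (show Commute v₁ i₂ from ((mem_centralizer_iff.mp (hV hv₁).2 i₂ (hIN hi₂))).symm)).mul_left
          ((show Commute i₁ v₂ from mem_centralizer_iff.mp (hV hv₂).2 i₁ (hIN hi₁)).mul_right
            (hIc i₁ hi₁ i₂ hi₂))
      rw [← he₁, ← he₂] at *
      exact c1.eq
    have hPC : ∀ (p : ℕ) [Fact p.Prime], p ∣ Nat.card F → ∀ X : Subgroup G, X ≤ pCore p G →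
        X ≠ ⊥ → X ≠ pCore p G → N ≤ normalizer (X : Set G) → pCore p G ≤ C := by
      intro p _ hpF X hX h1 h2 hn v hv
      refine ⟨Basics.pCore_le_fittingSubgroup p hv, mem_centralizer_iff.mpr fun x hx => ?_⟩
      obtain ⟨y, hy, f, hf, rfl⟩ := mem_sup_of_normal_right.mp hx
      exact ((show Commute y v from htriv p hpF X hX h1 h2 (le_sup_left.trans hn) y hy v hv).mul_left
        (R.fab f hf v (Basics.pCore_le_fittingSubgroup p hv))).eq
    -- orders of the components
    have hcomp : ∀ (p : ℕ) [Fact p.Prime], p ∣ Nat.card F → ∀ V : Subgroup G, V ≤ F →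
        Nat.card ↥(V ⊓ pCore p G) = p ^ (Nat.card V).factorization p := by
      intro p hp hpF V hV
      obtain ⟨S⟩ : Nonempty (Sylow p V) := inferInstance
      rw [← S.card_eq_multiplicity, ← card_map_of_injective V.subtype_injective]
      congr 2
      refine le_antisymm ?_ (le_inf (map_subtype_le _) ?_)
      · intro x hx
        have h1 : IsPGroup p ↥((V ⊓ pCore p G).subgroupOf V) :=
          ((Basics.pCore_isPGroup p).to_le inf_le_right).comap_subtype
        have h2 : ((V ⊓ pCore p G).subgroupOf V).Normal := by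
          refine ⟨fun a ha g => ?_⟩
          have : g * a * g⁻¹ = a := by
            refine Subtype.ext ?_
            show (g : G) * a * (g : G)⁻¹ = a
            rw [R.fab g (hV g.2) a (hV a.2), mul_inv_cancel_right]
          rwa [this]
        exact ⟨⟨x, hx.1⟩, h1.le_sylow_of_normal S hx, rfl⟩
      · rintro _ ⟨x, hx, rfl⟩
        obtain ⟨i, hi⟩ := orderOf_of_mem_pgroup S.2 hx
        rw [← Subgroup.orderOf_coe] at hi
        exact fitting_pElement (hV x.2) hi
    have hsplit : ∀ (p : ℕ) [Fact p.Prime], pCore p G ≤ C ∨ C ⊓ pCore p G = ⊥ := by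
      intro p _
      refine or_iff_not_imp_right.mpr fun hne v hv => ?_
      obtain ⟨⟨w, hw⟩, hw1⟩ := Subgroup.ne_bot_iff_exists_ne_one.mp hne
      by_cases hv1 : v = 1
      · exact hv1 ▸ C.one_mem
      have hpF : p ∣ Nat.card F := by
        obtain ⟨i, hi⟩ := orderOf_of_mem_pgroup (Basics.pCore_isPGroup p) hw.2
        rcases i with _ | i
        · exact absurd (Subtype.ext (orderOf_eq_one_iff.mp (by simpa using hi))) hw1
        · exact (hi ▸ dvd_pow_self p i.succ_ne_zero).trans (orderOf_dvd_natCard F hw.1.1)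
      obtain ⟨S⟩ : Nonempty (Sylow p G) := inferInstance
      obtain ⟨-, hexp, -⟩ := R.big p hpF S
      exact mem_of_orderOf_eq R.hb C hw.1 (by
        rw [orderOf_eq_prime (hexp w hw.2) fun h => hw1 (Subtype.ext h), orderOf_eq_prime (hexp v hv) hv1])
    have hXc : Nat.card ↥(U ⊓ C ⊔ I) = Nat.card ↥(W ⊓ C ⊔ I) := by
      have hval : ∀ V : Subgroup G, V ≤ F → Nat.card ↥((V ⊓ C) ⊔ I) = Nat.card ↥(V ⊓ C) * Nat.card I := by
        intro V hV
        refine Basics.card_sup_of_coprime (fun x hx => centralizer_le_normalizer _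
          (mem_centralizer_iff.mpr fun y hy => ((mem_centralizer_iff.mp hy.2.2 x (hIN hx))).symm))
          ((hcoB.coprime_dvd_left (card_dvd_of_le (inf_le_left.trans hV))).coprime_dvd_right
            (card_dvd_of_le inf_le_left))
      rw [hval U hUF, hval W hWF]
      congr 1
      refine Nat.eq_of_factorization_eq Nat.card_pos.ne' Nat.card_pos.ne' fun p => ?_
      by_cases hp : p.Prime
      swap
      · rw [Nat.factorization_eq_zero_of_not_prime _ hp, Nat.factorization_eq_zero_of_not_prime _ hp]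
      haveI := Fact.mk hp
      by_cases hpF : p ∣ Nat.card F
      swap
      · rw [Nat.factorization_eq_zero_of_not_dvd fun hd => hpF (hd.trans (card_dvd_of_le (inf_le_left.trans hUF))),
          Nat.factorization_eq_zero_of_not_dvd fun hd => hpF (hd.trans (card_dvd_of_le (inf_le_left.trans hWF)))]
      apply Nat.pow_right_injective hp.two_le
      show p ^ _ = p ^ _
      rw [← hcomp p hpF _ (inf_le_left.trans hUF), ← hcomp p hpF _ (inf_le_left.trans hWF), inf_assoc U C, inf_assoc W C]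
      rcases hsplit p with h | h
      · rw [inf_eq_right.mpr h, hcomp p hpF U hUF, hcomp p hpF W hWF, hUW]
      · rw [h, inf_bot_eq, inf_bot_eq]
    obtain ⟨g, hg⟩ := R.hb _ _ (habX _ inf_le_right) (habX _ inf_le_right) hXc
    have hg' : cj g (U ⊓ C) ⊔ cj g I = (W ⊓ C) ⊔ I := by rw [← cj_sup]; exact hg.symm
    have hparts : ∀ V : Subgroup G, V ≤ F → ∀ x ∈ (V ⊓ C) ⊔ I,
        (x ∈ F → x ∈ V ⊓ C) ∧ (∀ i : ℕ, orderOf x = 2 ^ i → x ∈ I) := by
      intro V hV x hx
      have hn : I ≤ normalizer ((V ⊓ C : Subgroup G) : Set G) := fun z hz => centralizer_le_normalizer _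
        (mem_centralizer_iff.mpr fun y hy => ((mem_centralizer_iff.mp hy.2.2 z (hIN hz))).symm)
      obtain ⟨v, hv, i, hi, rfl⟩ := (Basics.mem_sup_of_le_normalizer hn).mp hx
      refine ⟨fun hF => ?_, fun j hj => ?_⟩
      · have : i ∈ K ⊓ F := ⟨hi.1, (F.mul_mem_cancel_left (hV hv.1)).mp hF⟩
        rw [inf_comm, (disjoint_of_coprime_natCard hcoB).eq_bot, mem_bot] at this
        rw [this, mul_one]; exact hv
      · have hc : Commute v i := ((mem_centralizer_iff.mp hv.2.2 i (hIN hi))).symm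
        obtain ⟨k, hk⟩ := orderOf_of_mem_pgroup hIp hi
        have h1 : v ^ 2 ^ (j + k) = 1 := by
          have h2 : (v * i) ^ 2 ^ (j + k) = 1 := by rw [pow_add, pow_mul, ← hj, pow_orderOf_eq_one, one_pow]
          have h3 : i ^ 2 ^ (j + k) = 1 := by rw [pow_add, mul_comm, pow_mul, ← hk, pow_orderOf_eq_one, one_pow]
          rwa [hc.mul_pow, h3, mul_one] at h2
        have : v = 1 := orderOf_eq_one_iff.mp (Nat.eq_one_of_dvd_coprimes
          ((Nat.prime_two.coprime_iff_not_dvd.mpr h2F).pow_left (j + k)) (orderOf_dvd_of_pow_eq_one h1)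
          (orderOf_dvd_natCard F (hV hv.1)))
        rw [this, one_mul]; exact hi
    have hIg : cj g I = I := by
      refine eq_of_le_of_card_ge (fun x hx => ?_) (by rw [cj_card])
      obtain ⟨i, hi⟩ := orderOf_of_mem_pgroup (hIp.map _) hx
      exact (hparts W hWF x (hg'.le (mem_sup_right hx))).2 i hi
    have hCg : cj g (U ⊓ C) = W ⊓ C := by
      refine le_antisymm (fun x hx => ?_) fun x hx => ?_
      · refine (hparts W hWF x (hg'.le (mem_sup_left hx))).1 ?_
        exact (cj_normal g F).le (map_mono (inf_le_left.trans hUF) hx)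
      · obtain ⟨y, hy, rfl⟩ := hg.le (mem_sup_left hx)
        refine ⟨y, (hparts U hUF y hy).1 ?_, rfl⟩
        have := (inferInstance : F.Normal).conj_mem _ (hWF hx.1) g⁻¹
        simpa [mul_assoc] using this
    refine ⟨g, ?_, by rw [hIg]⟩
    refine eq_of_le_of_card_ge ?_ (by rw [cj_card, hUW])
    refine le_of_pElements fun p hp hd x hx i hxo => ?_
    haveI := Fact.mk hp
    obtain ⟨y, hy, rfl⟩ := hx
    have hpF : p ∣ Nat.card F := by
      rw [cj_card] at hd
      exact hd.trans (card_dvd_of_le hUF)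
    have hyo : orderOf y = p ^ i := by
      rwa [MulEquiv.coe_toMonoidHom, MulEquiv.orderOf_eq] at hxo
    have hyP : y ∈ pCore p G := fitting_pElement (hUF hy) hyo
    rcases hsplit p with h | h
    · exact (hCg.le ⟨y, ⟨hy, h hyP⟩, rfl⟩).1
    · -- a component untouched by `C` is trivial or full
      have hUP : U ⊓ pCore p G = ⊥ ∨ U ⊓ pCore p G = pCore p G := by
        by_contra! hne
        have hWc : Nat.card ↥(W ⊓ pCore p G) = Nat.card ↥(U ⊓ pCore p G) := by
          rw [hcomp p hpF W hWF, hcomp p hpF U hUF, hUW]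
        have h1 : W ⊓ pCore p G ≠ ⊥ := fun he => hne.1 (eq_bot_of_card_eq _ (by rw [← hWc, he, card_bot]))
        have h2 : W ⊓ pCore p G ≠ pCore p G := fun he => hne.2 (eq_of_le_of_card_ge inf_le_right (by
          rw [← hWc, he]))
        have h3 := hPC p hpF _ inf_le_right h1 h2 (fun z hz => by
          rw [← cj_eq_iff, cj_inf, cj_eq_iff.mpr (hNT hz), cj_normal])
        rw [inf_eq_right.mpr h3] at h
        exact hne.1 (le_bot_iff.mp (inf_le_right.trans h.le))
      rcases hUP with hb | hfull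
      · have : y ∈ U ⊓ pCore p G := ⟨hy, hyP⟩
        rw [hb, mem_bot] at this
        rw [this, map_one]; exact one_mem _
      · have hWfull : W ⊓ pCore p G = pCore p G := eq_of_le_of_card_ge inf_le_right (by
          rw [hcomp p hpF W hWF, ← hUW, ← hcomp p hpF U hUF, hfull])
        exact (hWfull.ge ((inferInstance : (pCore p G).Normal).conj_mem y hyP g)).1
  set T₂ := T₁ ⊓ normalizer ((I ⊔ F : Subgroup G) : Set G)
  have hNT₂ : N ≤ T₂ := by
    refine le_inf hNT ?_
    rintro x hx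
    obtain ⟨y, hy, f, hf, rfl⟩ := mem_sup_of_normal_right.mp hx
    refine mul_mem ?_ (le_normalizer (mem_sup_right hf))
    -- every subgroup of `T` is normal in it
    rw [← cj_eq_iff, cj_sup, cj_normal _ F]
    obtain ⟨t, ht, hle⟩ := ConjFunctor.exists_conj_le_of_isSylIn (p := 2)
      (⟨le_sup_left, T.2, fun hd => T.not_dvd_index (hd.trans (relIndex_dvd_index_of_le le_sup_left))⟩ :
        ConjFunctor.IsSylIn 2 (T : Subgroup G) N) hIN hIp
    obtain ⟨y₁, hy₁, f₁, hf₁, rfl⟩ := mem_sup_of_normal_right.mp ht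
    have hJ : cj f₁ I ≤ (T : Subgroup G) := by
      rw [cj_mul] at hle
      have := map_mono (f := (MulAut.conj y₁⁻¹).toMonoidHom) hle
      rw [show Subgroup.map (MulAut.conj y₁⁻¹).toMonoidHom (cj y₁ (cj f₁ I)) = cj f₁ I from
        ConjFunctor.cj_inv_cj y₁ _, show Subgroup.map (MulAut.conj y₁⁻¹).toMonoidHom (T : Subgroup G) = T from
          cj_eq_of_mem (inv_mem hy₁)] at this
      exact this
    have hIJ : I ⊔ F = cj f₁ I ⊔ F := by
      conv_lhs => rw [← cj_eq_of_mem (show f₁ ∈ I ⊔ F from mem_sup_right hf₁)]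
      rw [cj_sup, cj_normal _ F]
    have hnorm : cj y (cj f₁ I) = cj f₁ I := by
      set J := cj f₁ I
      refine eq_of_le_of_card_ge ?_ (le_of_eq (cj_card y J).symm)
      rintro _ ⟨x, hx, rfl⟩
      show y * x * y⁻¹ ∈ J
      by_cases hxy : y * x * y⁻¹ * x⁻¹ = 1
      · rw [mul_inv_eq_one.mp hxy]; exact hx
      -- the commutator is the involution, a square of `x`
      have hcT : y * x * y⁻¹ * x⁻¹ ∈ (T : Subgroup G) :=
        mul_mem (mul_mem (mul_mem hy (hJ hx)) (inv_mem hy)) (inv_mem (hJ hx))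
      suffices y * x * y⁻¹ * x⁻¹ ∈ J by
        have := J.mul_mem this hx
        rwa [inv_mul_cancel_right] at this
      haveI : Group.IsNilpotent ↥(T : Subgroup G) := T.2.isNilpotent
      have hcomm : (⟨_, hcT⟩ : ↥(T : Subgroup G)) ∈ _root_.commutator ↥(T : Subgroup G) := by
        rw [_root_.commutator_def]
        exact commutator_mem_commutator (mem_top (⟨y, hy⟩ : ↥(T : Subgroup G))) (mem_top (⟨x, hJ hx⟩ : ↥(T : Subgroup G)))
      have hx2 : x ^ 2 ≠ 1 := fun h => hxy (by
        have hx1 : x ≠ 1 := fun h1 => hxy (by rw [h1]; simp)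
        have := hone _ (mul_mem (mul_mem hy (hJ hx)) (inv_mem hy)) x (hJ hx) (by
          rw [show y * x * y⁻¹ = MulAut.conj y x from rfl, MulEquiv.orderOf_eq, orderOf_eq_prime h hx1])
          (orderOf_eq_prime h hx1)
        rw [this, mul_inv_cancel])
      -- `zpowers x` has index `2` in `T`
      have hox : orderOf x = 4 := by
        obtain ⟨i, hi⟩ := orderOf_of_mem_pgroup T.2 (hJ hx)
        have hd : 2 ^ i ∣ 2 ^ 3 := by
          rw [← hi, show (2 : ℕ) ^ 3 = 8 from rfl, ← h8]; exact orderOf_dvd_natCard _ (hJ hx)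
        have hi3 := Nat.pow_dvd_pow_iff_le_right (by norm_num : 1 < 2) |>.mp hd
        interval_cases i
        · exact absurd (by rw [show x = 1 from orderOf_eq_one_iff.mp (by simpa using hi), one_pow]) hx2
        · exact absurd (orderOf_dvd_iff_pow_eq_one.mp (by rw [hi]; exact dvd_refl _)) hx2
        · rw [hi]; norm_num
        · exfalso
          refine hTc (isCyclic_of_orderOf_eq_card ⟨x, hJ hx⟩ ?_)
          rw [Subgroup.orderOf_mk, hi, h8]; norm_num
      set Z := zpowers (⟨x, hJ hx⟩ : ↥(T : Subgroup G))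
      have hZi : Z.index = 2 := by
        have h1 := card_mul_index Z
        rw [Nat.card_zpowers, Subgroup.orderOf_mk, hox, h8] at h1
        omega
      haveI := normal_of_index_eq_two hZi
      haveI : IsCyclic (↥(T : Subgroup G) ⧸ Z) := isCyclic_of_prime_card (p := 2) (by rw [← index_eq_card, hZi])
      have hle' : _root_.commutator ↥(T : Subgroup G) ≤ Z := by
        rw [_root_.commutator_def, commutator_le]
        intro u _ v _
        rw [← QuotientGroup.eq_one_iff]
        show QuotientGroup.mk' Z _ = 1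
        rw [map_commutatorElement, commutatorElement_eq_one_iff_mul_comm]
        exact IsCyclic.commGroup.mul_comm _ _
      obtain ⟨j, hj⟩ := mem_zpowers_iff.mp (hle' hcomm)
      have hj' : x ^ j = y * x * y⁻¹ * x⁻¹ := congrArg Subtype.val hj
      exact hj' ▸ J.zpow_mem hx j
    conv_lhs => rw [← cj_normal y F, ← cj_sup, hIJ, cj_sup, hnorm, cj_normal _ F]
    exact hIJ.symm
  have hKT₂ : K ≤ T₂ := le_inf hKT fun x hx => by
    rw [← cj_eq_iff, cj_sup, cj_normal _ F, hI, cj_inf, cj_eq_of_mem hx, cj_normal _ N]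
  have hgKT₂ : cj g K ≤ T₂ := by
    refine le_inf (hKn g hgU) ?_
    rintro _ ⟨x, hx, rfl⟩
    have h1 : cj x I = I := by rw [hI, cj_inf, cj_eq_of_mem hx, cj_normal]
    rw [← cj_eq_iff, ← hgI, cj_sup, cj_normal _ F, ← cj_mul,
      show (MulAut.conj g).toMonoidHom x * g = g * x by simp, cj_mul, h1]
  have hoddKg : ∀ X : Subgroup G, ∀ h : G, X = cj h K → Nat.card ↥(X.map (QuotientGroup.mk' N)) =
      Nat.card (K.map (QuotientGroup.mk' N)) := by
    rintro _ h rfl
    refine Nat.eq_of_mul_eq_mul_right (Nat.card_pos (α := ↥(cj h K ⊓ N))) ?_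
    rw [card_map_mk]
    have e : Nat.card ↥(cj h K ⊓ N) = Nat.card ↥(K ⊓ N) := by
      rw [← cj_card h (K ⊓ N), cj_inf, cj_normal h N]
    conv_rhs => rw [e, card_map_mk]
    rw [cj_card]
  obtain ⟨t, ht, hte⟩ := hzq T₂ N (fun r hr hd S hS hSp => by
    have hd' : r ∣ Nat.card (G ⧸ N) := hd.trans (card_subgroup_dvd_card _)
    have hrF : ¬ r ∣ Nat.card F := by
      refine R.not_dvd_of_quot hr.out (hd'.trans ?_)
      rw [← index_eq_card, ← index_eq_card]
      exact index_dvd_of_le le_sup_right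
    have hr2 : r ≠ 2 := by
      rintro rfl
      rw [← index_eq_card] at hd'
      exact T.not_dvd_index (hd'.trans (index_dvd_of_le le_sup_left))
    obtain ⟨P, hP⟩ := hSp.exists_le_sylow
    rcases R.rankOne hrF P with hc | ⟨h, -⟩
    · haveI : IsCyclic S := isCyclic_of_injective (inclusion hP) (inclusion_injective _)
      exact isCyclic_of_surjective ((QuotientGroup.mk' N).subgroupMap S) ((QuotientGroup.mk' N).subgroupMap_surjective S)
    · exact absurd h hr2) (cj g K) K hgKT₂ hKT₂ (hoddKg _ g rfl)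
  -- odd parts
  haveI hIn : (I.subgroupOf K).Normal := by
    rw [hI, inf_subgroupOf_left]
    exact Normal.subgroupOf inferInstance K
  have hIcop : (Nat.card ↥(I.subgroupOf K)).Coprime (I.subgroupOf K).index := by
    obtain ⟨i, hi⟩ := hIp.exists_card_eq
    rw [Basics.card_subgroupOf inf_le_left, hi]
    refine Nat.Coprime.pow_left i (Nat.prime_two.coprime_iff_not_dvd.mpr fun hd => ?_)
    have h1 : (I.subgroupOf K).index = N.relIndex K := by rw [hI, inf_subgroupOf_left]; rfl
    rw [h1] at hd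
    exact T.not_dvd_index ((hd.trans (N.relIndex_dvd_index_of_normal K)).trans (index_dvd_of_le le_sup_left))
  obtain ⟨Ko₀, hKo₀⟩ := exists_right_complement'_of_coprime hIcop
  set Ko := Ko₀.map K.subtype
  have hKoK : Ko ≤ K := map_subtype_le _
  have hKeq : I ⊔ Ko = K := by
    have h1 := congrArg (Subgroup.map K.subtype) hKo₀.sup_eq_top
    rwa [Subgroup.map_sup, map_subgroupOf_eq_of_le (show I ≤ K from inf_le_left), ← MonoidHom.range_eq_map,
      range_subtype] at h1
  have hKoodd : (Nat.card N).Coprime (Nat.card Ko) := by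
    rw [hNcard]
    refine Nat.Coprime.mul_left ?_ (hcoB.coprime_dvd_right (card_dvd_of_le hKoK))
    rw [show (8 : ℕ) = 2 ^ 3 from rfl]
    refine Nat.Coprime.pow_left 3 (Nat.prime_two.coprime_iff_not_dvd.mpr fun hd => ?_)
    rw [card_map_of_injective K.subtype_injective, ← hKo₀.symm.index_eq_card] at hd
    have h1 : (I.subgroupOf K).index = N.relIndex K := by rw [hI, inf_subgroupOf_left]; rfl
    rw [h1] at hd
    exact T.not_dvd_index ((hd.trans (N.relIndex_dvd_index_of_normal K)).trans (index_dvd_of_le le_sup_left))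
  set h := t * g
  have hhI : cj h I ⊔ F = I ⊔ F := by
    rw [cj_mul]
    conv_lhs => rw [← cj_normal t F, ← cj_sup, hgI, cj_eq_iff.mpr ht.2]
  have hKoN : ∀ x : G, cj x K ⊔ N = cj x Ko ⊔ N := fun x => by
    conv_lhs => rw [← hKeq, cj_sup]
    rw [sup_comm (cj x I), sup_assoc,
      sup_eq_right.mpr (show cj x I ≤ N by rw [← cj_normal x N]; exact map_mono hIN)]
  haveI : Group.IsSolvable N := inferInstance
  obtain ⟨y, hy, hye⟩ := compl_conj N (A := cj h Ko) (B := Ko) (by rwa [cj_card]) hKoodd (by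
    rw [← hKoN h, cj_mul, hte, ← cj_one K, hKoN, cj_one])
  refine ⟨y * h, ?_, ?_⟩
  · rw [cj_mul, cj_mul, hgU, cj_eq_iff.mpr ht.1, cj_eq_iff.mpr (hNT hy)]
  · rw [cj_mul]
    conv_lhs => rw [← hKeq, cj_sup, cj_sup, ← hye, sup_comm, ← sup_assoc]
    have h2 : F ⊔ cj y (cj h I) = I ⊔ F := by
      rw [sup_comm]
      conv_lhs => rw [← cj_normal y F, ← cj_sup, hhI, cj_eq_iff.mpr (hNT₂ hy).2]
    rw [h2]
    conv_rhs => rw [← hKeq]
    ac_rfl

/-- The theorem. -/
theorem eqC_of_hb : ∀ (n : ℕ) (G : Type u) [Group G] [Finite G] [Group.IsSolvable G],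
    Nat.card G = n → HB G → EqC G := by
  intro n
  induction n using Nat.strong_induction_on with
  | _ n IH =>
  intro G _ _ _ hn hB
  rcases subsingleton_or_nontrivial G with hs | hnt
  · exact fun A B _ => ⟨1, by rw [cj_one]; exact Subsingleton.elim _ _⟩
  have hquot : ∀ (N : Subgroup G) [N.Normal], N ≠ ⊥ → EqC (G ⧸ N) := fun N _ hN =>
    IH _ (hn ▸ Basics.card_quotient_lt hN) (G ⧸ N) rfl (hb_quotient _ G N rfl hB)
  by_cases hsmall : ∃ (p : ℕ) (E : Subgroup G), p.Prime ∧ E.Normal ∧ Nat.card E = p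
  · obtain ⟨p, E, hp, hEn, hE⟩ := hsmall
    haveI := hEn
    haveI := Fact.mk hp
    have hE1 : E ≠ ⊥ := fun h => hp.ne_one (by rw [← hE, h, card_bot])
    refine step hp E hE (fun A hA => ?_) (hquot E hE1)
    obtain ⟨⟨a, haA⟩, ha⟩ := exists_prime_orderOf_dvd_card' p hA
    obtain ⟨⟨e, heE⟩, he⟩ := exists_prime_orderOf_dvd_card' (G := E) p (by rw [hE])
    rw [Subgroup.orderOf_mk] at ha he
    exact le_of_mem_prime hp hE haA (mem_of_orderOf_eq hB E heE (by rw [he, ha])) ha
  push Not at hsmall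
  have hR : Red G := by
    refine ⟨hB, ?_⟩
    intro p hp hpF P
    have hne : pCore p G ≠ ⊥ := by
      obtain ⟨⟨x, hx⟩, hxo⟩ := exists_prime_orderOf_dvd_card' p hpF
      rw [Subgroup.orderOf_mk] at hxo
      intro h
      have h1 := fitting_pElement (r := p) hx (i := 1) (by rw [hxo, pow_one])
      rw [h, mem_bot] at h1
      exact hp.out.ne_one (by rw [← hxo, h1, orderOf_one])
    obtain ⟨r, E, hr, hEn, hEle, hE1, hEab, hEp⟩ := Basics.exists_elementary_normal hne inferInstance
    haveI := hEn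
    haveI := Fact.mk hr
    obtain ⟨⟨e, heE⟩, he1⟩ := Subgroup.ne_bot_iff_exists_ne_one.mp hE1
    obtain ⟨i, hi⟩ := orderOf_of_mem_pgroup (Basics.pCore_isPGroup p) (hEle heE)
    have heo : orderOf e = r := orderOf_eq_prime (hEp e heE) fun h => he1 (Subtype.ext h)
    have hrp : r = p := (Nat.prime_dvd_prime_iff_eq hr hp.out).mp
      (hr.dvd_of_dvd_pow (show r ∣ p ^ i by rw [← hi, heo]))
    subst hrp
    obtain ⟨t, ht⟩ := (Basics.isPGroup_of_pow_eq_one hEp).exists_card_eq
    have ht2 : 2 ≤ t := by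
      by_contra hlt
      interval_cases t
      · exact hE1 (eq_bot_of_card_eq E (by simpa using ht))
      · exact hsmall r E hr hEn (by simpa using ht)
    have hPE : ∀ Q : Sylow r G, (Q : Subgroup G) = E :=
      (Cfsg.Agent.S3909.result hB E).2 r t ht2 ht ⟨hEab, hEp⟩
    have hcore : pCore r G = E := le_antisymm ((Basics.pCore_le_sylow r P).trans (hPE P).le) hEle
    refine ⟨(hPE P).trans hcore.symm, fun a ha => hEp a (hcore ▸ ha), fun a ha b hb => ?_⟩
    exact congrArg Subtype.val (hEab.is_comm.comm ⟨a, hcore ▸ ha⟩ ⟨b, hcore ▸ hb⟩)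
  exact reduced hR (hquot _ (Basics.fittingSubgroup_ne_bot))

/-- If G is a finite solvable group in which any two abelian subgroups of the same order are conjugate, then any two subgroups of G of the same order are conjugate. -/
theorem result {G : Type*} [Group G] [Finite G] (hB : ∀ A B : Subgroup G, IsMulCommutative ↥A → IsMulCommutative ↥B → Nat.card ↥A = Nat.card ↥B → ∃ g : G, B = A.map (MulAut.conj g).toMonoidHom) (hsol : Group.IsSolvable G) (A B : Subgroup G)
    (h : Nat.card ↥A = Nat.card ↥B) : ∃ g : G, B = A.map (MulAut.conj g).toMonoidHom := by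
  haveI := hsol
  exact eqC_of_hb _ G rfl hB A B h

end Cfsg.Agent.S3913
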