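import Cfsg.Statements.S3917
import Mathlib

set_option autoImplicit false
open Cfsg

namespace Cfsg.Agent.S3917

/-- Say that a group has self-centralizing non-cyclic subgroups when every non-cyclic subgroup H satisfies C_G(H) ≤ H. A finite abelian group with self-centralizing non-cyclic subgroups is cyclic or elementary abelian of order p² for a prime p. -/
theorem result {G : Type*} [CommGroup G] [Finite G] (hX : (∀ H : Subgroup G, ¬ IsCyclic ↥H → Subgroup.centralizer (H : Set G) ≤ H)) :
    IsCyclic G ∨ ∃ p : ℕ, p.Prime ∧ Nat.card G = p ^ 2 ∧ Monoid.exponent G = p := by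
  have htop : ∀ H : Subgroup G, ¬ IsCyclic ↥H → H = ⊤ := fun H hH =>
    eq_top_iff.mpr fun g _ => hX H hH (Subgroup.mem_centralizer_iff.mpr fun h _ => mul_comm h g)
  by_cases hG : IsCyclic G
  · exact Or.inl hG
  right
  obtain ⟨p, hp, P, hP⟩ : ∃ p, ∃ _ : Fact p.Prime, ∃ P : Sylow p G, ¬ IsCyclic ↥(P : Subgroup G) := by
    by_contra hcon
    simp only [not_exists, not_not] at hcon
    haveI : IsZGroup G := ⟨fun q hq P => hcon q ⟨hq⟩ P⟩
    haveI : Group.IsNilpotent G := inferInstance
    exact hG inferInstance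
  haveI := hp
  have hPG : IsPGroup p G := fun g => by
    obtain ⟨k, hk⟩ := P.isPGroup' ⟨g, (htop _ hP).symm ▸ Subgroup.mem_top g⟩
    exact ⟨k, congrArg Subtype.val hk⟩
  set Ω : Subgroup G := (powMonoidHom p : G →* G).ker with hΩ
  have hΩmem : ∀ g : G, g ∈ Ω ↔ g ^ p = 1 := fun g => Iff.rfl
  have hΩc : ¬ IsCyclic ↥Ω := by
    intro hc
    apply hG
    haveI := Fintype.ofFinite G
    classical
    refine isCyclic_of_card_pow_eq_one_le fun n hn => ?_
    -- solutions of `g ^ n = 1`
    obtain ⟨e, he⟩ := IsPGroup.iff_card.mp hPG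
    have hker : ∀ i : ℕ, Nat.card (powMonoidHom (p ^ i) : G →* G).ker ≤ p ^ i := by
      intro i
      induction i with
      | zero =>
        rw [pow_zero, Finite.card_le_one_iff_subsingleton]
        refine ⟨fun a b => Subtype.ext ?_⟩
        have ha : (a : G) ^ p ^ 0 = 1 := a.2
        have hb : (b : G) ^ p ^ 0 = 1 := b.2
        rw [pow_zero, pow_one] at ha hb
        rw [ha, hb]
      | succ i ih =>
        let g : (powMonoidHom (p ^ (i + 1)) : G →* G).ker →* G :=
          (powMonoidHom p).comp (Subgroup.subtype _)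
        rw [g.ker.card_eq_card_quotient_mul_card_subgroup,
          Nat.card_congr (QuotientGroup.quotientKerEquivRange g).toEquiv]
        refine le_of_le_of_eq ?_ (pow_succ p i).symm
        refine Nat.mul_le_mul ?_ ?_
        · refine le_trans (Subgroup.card_le_of_le ?_) ih
          rintro _ ⟨x, rfl⟩
          have h1 : (x : G) ^ p ^ (i + 1) = 1 := x.2
          show ((x : G) ^ p) ^ p ^ i = 1
          rw [← pow_mul, ← pow_succ', h1]
        · have h2 : g.ker.map (Subgroup.subtype _) ≤ Ω := by
            rintro _ ⟨x, hx, rfl⟩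
            exact hx
          have h3 := Subgroup.card_le_of_le h2
          rw [Subgroup.card_map_of_injective (Subgroup.subtype_injective _)] at h3
          refine h3.trans ?_
          haveI := hc
          rw [← IsCyclic.exponent_eq_card]
          exact Nat.le_of_dvd (Fact.out : p.Prime).pos
            (Monoid.exponent_dvd_of_forall_pow_eq_one fun x => Subtype.ext x.2)
    obtain ⟨i, -, hi⟩ := (Nat.dvd_prime_pow (Fact.out : p.Prime)).mp (he ▸ Nat.gcd_dvd_right n (Nat.card G))
    refine le_trans ?_ ((hker i).trans (hi.symm.le.trans (Nat.gcd_le_left _ hn)))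
    rw [Nat.card_eq_fintype_card, Fintype.card_subtype]
    refine Finset.card_le_card fun x hx => ?_
    simp only [Finset.mem_filter, Finset.mem_univ, true_and] at hx ⊢
    show x ∈ (powMonoidHom (p ^ i) : G →* G).ker
    rw [MonoidHom.mem_ker, powMonoidHom_apply, ← hi]
    exact pow_gcd_eq_one.mpr ⟨hx, by rw [← he]; exact pow_card_eq_one'⟩
  have hexp : ∀ g : G, g ^ p = 1 := fun g => (hΩmem g).mp ((htop Ω hΩc).symm ▸ Subgroup.mem_top g)
  obtain ⟨e, he⟩ := IsPGroup.iff_card.mp hPG
  have he2 : 2 ≤ e := by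
    by_contra hlt
    apply hG
    rcases (show e = 0 ∨ e = 1 by omega) with rfl | rfl
    · haveI := (Nat.card_eq_one_iff_unique.mp (by simpa using he)).1
      exact isCyclic_of_subsingleton
    · exact isCyclic_of_prime_card (p := p) (by simpa using he)
  obtain ⟨H, hH⟩ := Sylow.exists_subgroup_card_pow_prime (G := G) p (n := 2) (he ▸ pow_dvd_pow p he2)
  have hHc : ¬ IsCyclic ↥H := by
    intro hc
    have h2 : Nat.card H ∣ p := IsCyclic.exponent_eq_card (α := H) ▸
      Monoid.exponent_dvd_of_forall_pow_eq_one fun x => Subtype.ext (hexp x)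
    rw [hH] at h2
    have := Nat.le_of_dvd (Fact.out : p.Prime).pos h2
    nlinarith [(Fact.out : p.Prime).two_le]
  have hcard : Nat.card G = p ^ 2 := by rw [← Subgroup.card_top, ← htop H hHc, hH]
  haveI : Nontrivial G := Finite.one_lt_card_iff_nontrivial.mp
    (hcard ▸ Nat.one_lt_pow two_ne_zero (Fact.out : p.Prime).one_lt)
  exact ⟨p, Fact.out, hcard, ((Nat.dvd_prime Fact.out).mp
    (Monoid.exponent_dvd_of_forall_pow_eq_one hexp)).resolve_left Monoid.one_lt_exponent.ne'⟩

end Cfsg.Agent.S3917
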