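import Cfsg.Statements.S3918
import Cfsg.Agent.Lib.PGroup23.NormalSq

set_option autoImplicit false
open Cfsg

namespace Cfsg.Agent.S3918

/-- Say that a group has self-centralizing non-cyclic subgroups when every non-cyclic subgroup H satisfies C_G(H) ≤ H. For an odd prime p, a finite non-abelian p-group has self-centralizing non-cyclic subgroups if and only if it has order p³. -/
theorem result {G : Type*} [Group G] [Finite G] {p : ℕ} [Fact p.Prime] (hp : p ≠ 2) (hG : IsPGroup p G) (hna : ¬ IsMulCommutative G) :
    (∀ H : Subgroup G, ¬ IsCyclic ↥H → Subgroup.centralizer (H : Set G) ≤ H) ↔ Nat.card G = p ^ 3 := by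
  rename_i _ hp'
  have hpp := hp'.out
  obtain ⟨n, hn⟩ := IsPGroup.iff_card.mp hG
  have h3 : 3 ≤ n := by
    by_contra hlt
    apply hna
    interval_cases n
    · haveI := (Nat.card_eq_one_iff_unique.mp (by simpa using hn)).1
      exact ⟨⟨fun a b => Subsingleton.elim _ _⟩⟩
    · haveI := isCyclic_of_prime_card (α := G) (by simpa using hn)
      exact IsCyclic.isMulCommutative
    · exact ⟨⟨IsPGroup.commutative_of_card_eq_prime_sq hn⟩⟩
  constructor
  · intro h
    have hnc : ¬ IsCyclic G := fun hc => hna (hc.isMulCommutative)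
    obtain ⟨E, hEn, hEc, hEab, hEp⟩ := PGroup23.exists_normal_elementary_sq hp hG hnc
    have hEnc : ¬ IsCyclic E := by
      intro hc
      obtain ⟨g, hg⟩ := hc.exists_generator
      have h1 := orderOf_eq_card_of_forall_mem_zpowers hg
      have h2 : orderOf g ∣ p := orderOf_dvd_of_pow_eq_one (Subtype.ext (hEp g g.2))
      rw [h1, hEc] at h2
      have := Nat.le_of_dvd hpp.pos h2
      nlinarith [hpp.two_le]
    have hle := PGroup23.card_le_cube hG E hEc hEab hEp fun c hc => h E hEnc hc
    rw [hn] at hle ⊢
    have := (Nat.pow_le_pow_iff_right hpp.one_lt).mp hle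
    rw [show n = 3 by omega]
  · intro hcard H hH c hc
    obtain ⟨k, hk⟩ := IsPGroup.iff_card.mp (hG.to_subgroup H)
    have hk3 : k ≤ 3 := (Nat.pow_le_pow_iff_right hpp.one_lt).mp
      (hk ▸ hcard ▸ Subgroup.card_le_card_group H)
    interval_cases k
    · exact (hH (by haveI := (Nat.card_eq_one_iff_unique.mp (show Nat.card H = 1 by rw [hk, pow_zero])).1; infer_instance)).elim
    · exact (hH (isCyclic_of_prime_card (by simpa using hk))).elim
    · by_contra hcH
      have hHab : ∀ a b : H, a * b = b * a := IsPGroup.commutative_of_card_eq_prime_sq hk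
      set K := H ⊔ Subgroup.zpowers c with hK
      have hlt : H < K := lt_of_le_of_ne le_sup_left fun he =>
        hcH (he ▸ Subgroup.mem_sup_right (Subgroup.mem_zpowers c))
      have htop : K = ⊤ := by
        obtain ⟨j, hj⟩ := IsPGroup.iff_card.mp (hG.to_subgroup K)
        have hlt' : Nat.card H < Nat.card K := Set.Finite.card_lt_card (Set.toFinite _) hlt
        rw [hk, hj, Nat.pow_lt_pow_iff_right hpp.one_lt] at hlt'
        refine Subgroup.eq_top_of_le_card K ?_
        rw [hj, hcard]
        exact Nat.pow_le_pow_right hpp.pos hlt'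
      apply hna
      have h1 : H ≤ Subgroup.centralizer (H : Set G) := fun a ha =>
        Subgroup.mem_centralizer_iff.mpr fun b hb => congrArg Subtype.val (hHab ⟨b, hb⟩ ⟨a, ha⟩)
      have h2 : K ≤ Subgroup.centralizer (K : Set G) := by
        refine sup_le (Subgroup.le_centralizer_iff.mp (sup_le h1 (Subgroup.zpowers_le.mpr hc))) ?_
        refine Subgroup.le_centralizer_iff.mp (sup_le
          (Subgroup.le_centralizer_iff.mp (Subgroup.zpowers_le.mpr hc)) (Subgroup.le_centralizer _))
      rw [htop] at h2
      exact ⟨⟨fun a b => Subgroup.mem_centralizer_iff.mp (h2 (Subgroup.mem_top b)) a (Subgroup.mem_top a)⟩⟩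
    · rw [Subgroup.eq_top_of_card_eq H (hk.trans hcard.symm)]
      exact Subgroup.mem_top _

end Cfsg.Agent.S3918
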