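import Cfsg.Statements.S3920
import Mathlib

set_option autoImplicit false
open Cfsg

namespace Cfsg.Agent.S3920

/-- Say that a group has self-centralizing non-cyclic subgroups when every non-cyclic subgroup H satisfies C_G(H) ≤ H. For n ≥ 3, the dihedral group of order 2n has self-centralizing non-cyclic subgroups if and only if n is odd or a power of 2. -/
theorem result (n : ℕ) (hn : 3 ≤ n) : (∀ H : Subgroup (DihedralGroup n), ¬ IsCyclic ↥H → Subgroup.centralizer (H : Set (DihedralGroup n)) ≤ H) ↔ (Odd n ∨ ∃ k : ℕ, n = 2 ^ k) := by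
  haveI : NeZero n := ⟨by omega⟩
  constructor
  · intro h
    by_contra hcon
    rw [not_or, Nat.not_odd_iff_even] at hcon
    obtain ⟨⟨m, hm⟩, hpow⟩ := hcon
    obtain ⟨q, hq, hqn, hq2⟩ : ∃ q, q.Prime ∧ q ∣ n ∧ q ≠ 2 := by
      by_contra hq
      exact hpow ⟨n.primeFactorsList.length, Nat.eq_prime_pow_of_unique_prime_dvd (by omega)
        fun {q} hqp hqd => by_contra fun hne => hq ⟨q, hqp, hqd, hne⟩⟩
    obtain ⟨t, ht⟩ := hqn
    set a : ZMod n := (t : ZMod n) with ha
    -- dihedral subgroup of order `2q`
    let H : Subgroup (DihedralGroup n) :=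
      { carrier := {x | match x with
          | DihedralGroup.r i => q • i = 0
          | DihedralGroup.sr i => q • i = 0}
        one_mem' := by
          show q • (0 : ZMod n) = 0
          exact smul_zero q
        mul_mem' := by
          rintro (i | i) (j | j) hi hj <;> simp only [Set.mem_setOf_eq] at hi hj <;>
            simp only [DihedralGroup.r_mul_r, DihedralGroup.r_mul_sr, DihedralGroup.sr_mul_r,
              DihedralGroup.sr_mul_sr, Set.mem_setOf_eq, smul_add, smul_sub, hi, hj, add_zero,
              sub_zero]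
        inv_mem' := by
          rintro (i | i) hi <;> simp only [Set.mem_setOf_eq] at hi <;>
            simp only [DihedralGroup.inv_r, DihedralGroup.inv_sr, Set.mem_setOf_eq, smul_neg, hi,
              neg_zero] }
    have hqa : q • a = 0 := by
      rw [ha, nsmul_eq_mul, ← Nat.cast_mul, ← ht, ZMod.natCast_self]
    have hm0 : (2 : ℕ) • (m : ZMod n) = 0 := by
      rw [nsmul_eq_mul, ← Nat.cast_mul, show 2 * m = n by omega, ZMod.natCast_self]
    have hnc : ¬ IsCyclic ↥H := by
      intro hc
      have h1 : (⟨DihedralGroup.r a, hqa⟩ : H) * ⟨DihedralGroup.sr 0, smul_zero q⟩ =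
          ⟨DihedralGroup.sr 0, smul_zero q⟩ * ⟨DihedralGroup.r a, hqa⟩ := IsCyclic.commGroup.mul_comm _ _
      have h2 := congrArg Subtype.val h1
      simp only [Subgroup.coe_mul, DihedralGroup.r_mul_sr, DihedralGroup.sr_mul_r, zero_sub, zero_add,
        DihedralGroup.sr.injEq] at h2
      have h3 : ((2 * t : ℕ) : ZMod n) = 0 := by
        rw [Nat.cast_mul, Nat.cast_two, two_mul, ← ha]
        conv_lhs => arg 1; rw [← h2]
        exact neg_add_cancel a
      rw [ZMod.natCast_eq_zero_iff, ht] at h3
      have ht0 : 0 < t := Nat.pos_of_ne_zero fun h0 => by rw [h0, mul_zero] at ht; omega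
      exact hq2 ((Nat.prime_dvd_prime_iff_eq hq Nat.prime_two).mp (Nat.dvd_of_mul_dvd_mul_right ht0 h3))
    have hc : DihedralGroup.r (m : ZMod n) ∈ Subgroup.centralizer (H : Set (DihedralGroup n)) := by
      have hmm : (m : ZMod n) + m = 0 := by rw [← two_nsmul]; exact hm0
      rw [Subgroup.mem_centralizer_iff]
      rintro (i | i) _
      · rw [DihedralGroup.r_mul_r, DihedralGroup.r_mul_r, add_comm]
      · rw [DihedralGroup.sr_mul_r, DihedralGroup.r_mul_sr, sub_eq_add_neg,
          neg_eq_of_add_eq_zero_right hmm]
    have hmem : q • (m : ZMod n) = 0 := h H hnc hc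
    obtain ⟨c, hc2⟩ := hq.odd_of_ne_two hq2
    rw [hc2, add_smul, mul_comm, mul_smul, hm0, smul_zero, zero_add, one_smul,
      ZMod.natCast_eq_zero_iff] at hmem
    have := Nat.le_of_dvd (by omega) hmem
    omega
  · intro hn' H hH x hx
    rw [Subgroup.mem_centralizer_iff] at hx
    obtain ⟨i, hi⟩ : ∃ i, DihedralGroup.sr i ∈ H := by
      by_contra hcon
      simp only [not_exists] at hcon
      apply hH
      haveI : IsCyclic ↥(Subgroup.zpowers (DihedralGroup.r (1 : ZMod n))) := inferInstance
      have hle : H ≤ Subgroup.zpowers (DihedralGroup.r (1 : ZMod n)) := ?_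
      · exact isCyclic_of_injective (Subgroup.inclusion hle) (Subgroup.inclusion_injective hle)
      intro y hy
      rcases y with j | j
      · exact ⟨(j.val : ℤ), by simp [DihedralGroup.r_one_pow]⟩
      · exact absurd hy (hcon j)
    obtain ⟨k, hk, hk0⟩ : ∃ k, DihedralGroup.r k ∈ H ∧ k ≠ 0 := by
      by_contra hcon
      simp only [not_exists, not_and, ne_eq, not_not] at hcon
      apply hH
      refine isCyclic_iff_exists_zpowers_eq_top.mpr ⟨⟨_, hi⟩, eq_top_iff.mpr fun y _ => ?_⟩
      obtain ⟨y, hy⟩ := y
      rcases y with j | j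
      · have := hcon j hy
        subst this
        exact one_mem _
      · have h1 : DihedralGroup.r (j - i) ∈ H := by
          rw [← DihedralGroup.sr_mul_sr]
          exact H.mul_mem hi hy
        have h2 := sub_eq_zero.mp (hcon _ h1)
        subst h2
        exact Subgroup.mem_zpowers _
    have hxk := hx _ hk
    have hxi := hx _ hi
    -- elements killed by two
    have key : ∀ d : ZMod n, d + d = 0 → DihedralGroup.r d ∈ H := by
      intro d hd
      rw [← ZMod.natCast_zmod_val d, ← Nat.cast_add, ZMod.natCast_eq_zero_iff] at hd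
      rcases eq_or_ne d 0 with rfl | hd0
      · exact H.one_mem
      rcases hn' with hodd | ⟨e, he⟩
      · exfalso
        have h2 : n ∣ d.val := (Nat.Coprime.dvd_mul_left hodd.coprime_two_right).mp (by rwa [two_mul])
        exact hd0 ((ZMod.val_eq_zero d).mp (Nat.eq_zero_of_dvd_of_lt h2 (ZMod.val_lt d)))
      · -- the unique involution lies in every non-trivial subgroup of rotations
        obtain ⟨f, hf, hkf⟩ := (Nat.dvd_prime_pow Nat.prime_two).mp
          (he ▸ Nat.gcd_dvd_right k.val n : Nat.gcd k.val n ∣ 2 ^ e)
        have hdn : d.val + d.val = n := by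
          obtain ⟨c, hc⟩ := hd
          have := ZMod.val_lt d
          have hc2 : c < 2 := by
            by_contra hlt
            have : n * 2 ≤ n * c := Nat.mul_le_mul_left n (Nat.not_lt.mp hlt)
            omega
          interval_cases c
          · exact absurd ((ZMod.val_eq_zero d).mp (by omega)) hd0
          · omega
        have hfe : f < e := by
          by_contra hlt
          obtain rfl : f = e := by omega
          have h3 : n ∣ k.val := (dvd_of_eq (he.trans hkf.symm)).trans (Nat.gcd_dvd_left _ _)
          exact hk0 ((ZMod.val_eq_zero k).mp (Nat.eq_zero_of_dvd_of_lt h3 (ZMod.val_lt k)))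
        have hdv : Nat.gcd k.val n ∣ d.val := by
          rw [hkf, show d.val = 2 ^ (e - 1) by
            obtain ⟨e', rfl⟩ : ∃ e', e = e' + 1 := ⟨e - 1, by omega⟩
            rw [pow_succ] at he
            rw [Nat.add_sub_cancel]
            omega]
          exact pow_dvd_pow 2 (by omega)
        obtain ⟨c, hc⟩ := hdv
        have h4 : (d : ZMod n) = ((Nat.gcdA k.val n * c : ℤ) : ZMod n) * k := by
          have h5 := congrArg (fun z : ℤ => (z : ZMod n)) (Nat.gcd_eq_gcd_ab k.val n)
          simp only [Int.cast_add, Int.cast_mul, Int.cast_natCast, ZMod.natCast_zmod_val,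
            ZMod.natCast_self, zero_mul, add_zero] at h5
          rw [← ZMod.natCast_zmod_val d, hc, Nat.cast_mul, h5]
          push_cast
          ring
        rw [h4, show DihedralGroup.r (((Nat.gcdA k.val n * c : ℤ) : ZMod n) * k) =
          DihedralGroup.r k ^ (Nat.gcdA k.val n * c : ℤ) by
            rw [DihedralGroup.r_zpow, mul_comm]]
        exact H.zpow_mem hk _
    rcases x with d | d
    · refine key d ?_
      rw [DihedralGroup.sr_mul_r, DihedralGroup.r_mul_sr, DihedralGroup.sr.injEq] at hxi
      calc d + d = (i + d) - (i - d) := by ring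
        _ = 0 := by rw [hxi, sub_self]
    · rw [DihedralGroup.sr_mul_sr, DihedralGroup.sr_mul_sr, DihedralGroup.r.injEq] at hxi
      have h1 := key (d - i) (by
        calc (d - i) + (d - i) = (d - i) - (i - d) := by ring
          _ = 0 := by rw [hxi, sub_self])
      have h2 := H.mul_mem hi h1
      rwa [DihedralGroup.sr_mul_r, add_sub_cancel] at h2

end Cfsg.Agent.S3920
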