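import Cfsg.Statements.S3927
import Cfsg.Agent.Lib.Zipper23.UniqueMax
import Cfsg.Agent.Lib.Basics.Tools

set_option autoImplicit false
open Cfsg

namespace Cfsg.Agent.S3927

open Subgroup Cfsg.Agent
set_option linter.style.haveILetI false
open scoped Pointwise

theorem closed_map {K G : Type*} [Group K] [Group G] (f : K →* G) (hf : Function.Injective f)
    {A H : Subgroup K} (h : Zipper23.Closed A H) : Zipper23.Closed (A.map f) (H.map f) := by
  refine ⟨map_mono h.1, fun N hAN hNH hHN => ?_⟩
  have h1 := h.2 (N.comap f) (map_le_iff_le_comap.mp hAN)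
    ((comap_mono hNH).trans (comap_map_eq_self_of_injective hf H).le)
    fun x hx => by
      rw [mem_normalizer_iff]
      intro y
      rw [mem_comap, mem_comap, map_mul, map_mul, map_inv]
      exact mem_normalizer_iff.mp (hHN (mem_map_of_mem f hx)) (f y)
  refine le_antisymm hNH ?_
  rw [← h1]
  exact map_comap_le f N

/-- The iterates of `b ↦ b a b⁻¹` on the conjugates of `a` avoid any given proper subgroup. -/
theorem exists_avoid {X : Type*} [Group X] [Finite X] (a : X) :
    ∀ K : Subgroup X, Zipper23.Closed (zpowers a) K → ∀ M : Subgroup X, a ∈ M → ¬ K ≤ M →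
      ∃ x ∈ K, ∀ k : ℕ, (fun b => b * a * b⁻¹)^[k] (x * a * x⁻¹) ∉ M := by
  intro K
  induction K using WellFoundedLT.induction with
  | _ K IH =>
  intro hK M haM hKM
  by_cases hex : ∃ H, H < K ∧ Zipper23.Closed (zpowers a) H ∧ ¬ H ≤ M
  · obtain ⟨H, hHK, hH, hHM⟩ := hex
    obtain ⟨x, hx, hxk⟩ := IH H hHK hH M haM hHM
    exact ⟨x, hHK.le hx, hxk⟩
  push Not at hex
  have haK : a ∈ K := hK.1 (mem_zpowers a)
  let a' : K := ⟨a, haK⟩
  have hmap : (zpowers a').map K.subtype = zpowers a := MonoidHom.map_zpowers K.subtype a'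
  have hclo : normalClosure ((zpowers a' : Subgroup K) : Set K) = ⊤ := by
    set N₀ := normalClosure ((zpowers a' : Subgroup K) : Set K)
    have h1 : N₀.map K.subtype = K := by
      refine hK.2 _ (hmap.ge.trans (map_mono (le_normalClosure (H := zpowers a')))) (map_subtype_le _) ?_
      have := le_normalizer_map (H := N₀) K.subtype
      rwa [normalizer_eq_top_iff.mpr (inferInstance : N₀.Normal), ← MonoidHom.range_eq_map,
        range_subtype] at this
    apply map_injective K.subtype_injective
    rw [h1, ← MonoidHom.range_eq_map, range_subtype]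
  have hMK : M.subgroupOf K ≠ ⊤ := fun h => hKM (subgroupOf_eq_top.mp h)
  have hA : zpowers a' ≠ ⊤ := fun h => hMK (top_le_iff.mp (h ▸ zpowers_le.mpr haM))
  have henv : Zipper23.envelope (zpowers a') ≠ ⊤ := by
    intro h
    refine hMK (top_le_iff.mp (h.ge.trans (sSup_le fun H hH => ?_)))
    have h1 := closed_map K.subtype K.subtype_injective hH.1
    rw [hmap] at h1
    have hlt : H.map K.subtype < K := lt_of_le_of_ne (map_subtype_le H) fun he => hH.2 (by
      apply map_injective K.subtype_injective
      rw [he, ← MonoidHom.range_eq_map, range_subtype])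
    exact fun y hy => hex _ hlt h1 (mem_map_of_mem K.subtype hy)
  obtain ⟨M', hM', hle⟩ := (eq_top_or_exists_le_coatom (M.subgroupOf K)).resolve_left hMK
  have haM' : zpowers a' ≤ M' := (zpowers_le.mpr (show a' ∈ M.subgroupOf K from haM)).trans hle
  obtain ⟨x, hx⟩ : ∃ x : K, x * a' * x⁻¹ ∉ M' := by
    by_contra! hall
    refine hM'.1 (top_le_iff.mp (hclo ▸ (closure_le M').mpr fun y hy => ?_))
    obtain ⟨b, hb, hby⟩ := Group.mem_conjugatesOfSet_iff.mp hy
    obtain ⟨u, hu⟩ := isConj_iff.mp hby
    obtain ⟨i, rfl⟩ := mem_zpowers_iff.mp hb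
    rw [← hu, SetLike.mem_coe, ← conj_zpow]
    exact M'.zpow_mem (hall u) i
  have key : ∀ k : ℕ, ∃ b : K, b ∉ M' ∧ (b : X) = (fun b => b * a * b⁻¹)^[k] ((x : X) * a * (x : X)⁻¹) := by
    intro k
    induction k with
    | zero => exact ⟨x * a' * x⁻¹, hx, rfl⟩
    | succ k ih =>
      obtain ⟨b, hb, hbe⟩ := ih
      refine ⟨b * a' * b⁻¹, fun h => hb ?_, by
        rw [Function.iterate_succ_apply', ← hbe]; rfl⟩
      have h1 : zpowers a' ≤ MulAut.conj b⁻¹ • M' := by
        refine zpowers_le.mpr ?_
        rw [mem_pointwise_smul_iff_inv_smul_mem, MulAut.smul_def, MulAut.conj_inv_apply]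
        simpa using h
      have h2 : MulAut.conj b⁻¹ • M' = M' :=
        Zipper23.unique_coatom (zpowers a') hclo hA henv _ _ (Zipper23.smul_coatom hM' _) hM' h1 haM'
      have h3 : b⁻¹ ∈ normalizer (M' : Set K) := FGS.Subn.mem_normalizer_of_smul_le h2.le
      rcases hM'.le_iff.mp (le_normalizer : M' ≤ normalizer (M' : Set K)) with h4 | h4
      · haveI := normalizer_eq_top_iff.mp h4
        exact absurd (top_le_iff.mp (hclo ▸ normalClosure_le_normal haM')) hM'.1
      · rw [h4] at h3
        exact M'.inv_mem_iff.mp h3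
  refine ⟨x, x.2, fun k hk => ?_⟩
  obtain ⟨b, hb, hbe⟩ := key k
  exact hb (hle (show (b : X) ∈ M from hbe ▸ hk))

/-- Let G be a finite group and α an automorphism of G with [G, α] = G, that is, the elements g·α(g)⁻¹ generate G. Then for every k ≥ 1 the iterated commutators [g, α, …, α] with k entries α — the values of the k-th iterate of the map c ↦ c·α(c)⁻¹ — also generate G. -/
theorem result {G : Type*} [Group G] [Finite G] (α : MulAut G) (hG : Subgroup.closure (Set.range (fun c : G => c * (α c)⁻¹)) = ⊤) (k : ℕ) (hk : 1 ≤ k) :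
    Subgroup.closure (Set.range ((fun c : G => c * (α c)⁻¹)^[k])) = ⊤ := by
  set f : G → G := fun c => c * (α c)⁻¹ with hf
  set H := closure (Set.range f^[k]) with hH
  by_contra hne
  let φ : zpowers α →* MulAut G := (zpowers α).subtype
  let a : G ⋊[φ] zpowers α := SemidirectProduct.inr ⟨α, mem_zpowers α⟩
  haveI : Finite (G ⋊[φ] zpowers α) := Finite.of_equiv _ SemidirectProduct.equivProd.symm
  have hconj : ∀ g : G, a * SemidirectProduct.inl g * a⁻¹ = SemidirectProduct.inl (α g) := fun g => by
    have := SemidirectProduct.inl_aut (φ := φ) ⟨α, mem_zpowers α⟩ g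
    rw [map_inv] at this
    exact this.symm
  have hfa : ∀ g : G, SemidirectProduct.inl g * a * (SemidirectProduct.inl g)⁻¹ =
      SemidirectProduct.inl (f g) * a := fun g => by
    show _ = SemidirectProduct.inl (g * (α g)⁻¹) * a
    rw [map_mul, map_inv, ← hconj]
    simp [mul_assoc]
  have hcommf : ∀ (j : ℕ) (g : G), α (f^[j] g) = f^[j] (α g) := by
    intro j
    induction j with
    | zero => simp
    | succ j ih =>
      intro g
      rw [Function.iterate_succ_apply', Function.iterate_succ_apply', ← ih]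
      simp [hf]
  have hHα : ∀ g ∈ H, α g ∈ H := by
    intro g hg
    have : H ≤ H.comap α.toMonoidHom := (closure_le _).mpr fun y ⟨c, hc⟩ =>
      subset_closure ⟨α c, by rw [← hcommf, hc]; rfl⟩
    exact this hg
  set HX := H.map (SemidirectProduct.inl : G →* G ⋊[φ] zpowers α) with hHX
  have hnorm : zpowers a ≤ normalizer (HX : Set (G ⋊[φ] zpowers α)) := by
    refine zpowers_le.mpr (FGS.Subn.mem_normalizer_of_smul_le ?_)
    intro y hy
    obtain ⟨w, ⟨g, hg, rfl⟩, rfl⟩ := (mem_smul_pointwise_iff_exists y _ HX).mp hy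
    exact ⟨α g, hHα g hg, (hconj g).symm⟩
  set M := HX ⊔ zpowers a with hM
  have haM : a ∈ M := mem_sup_right (mem_zpowers a)
  have hinlM : ∀ g : G, SemidirectProduct.inl g ∈ M → g ∈ H := by
    intro g hg
    obtain ⟨w, ⟨h, hh, rfl⟩, t, ht, he⟩ := (Basics.mem_sup_of_le_normalizer hnorm).mp hg
    obtain ⟨i, rfl⟩ := mem_zpowers_iff.mp ht
    have hr := congrArg SemidirectProduct.rightHom he
    rw [map_mul, SemidirectProduct.rightHom_inl, SemidirectProduct.rightHom_inl, one_mul,
      map_zpow] at hr
    have h1 : a ^ i = 1 := by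
      show (SemidirectProduct.inr ⟨α, mem_zpowers α⟩ : G ⋊[φ] zpowers α) ^ i = 1
      rw [← map_zpow, show (⟨α, mem_zpowers α⟩ : zpowers α) ^ i = 1 from by
        rw [hr]; exact congrArg (· ^ i) (SemidirectProduct.rightHom_inr (φ := φ) _).symm, map_one]
    rw [h1, mul_one] at he
    rwa [SemidirectProduct.inl_injective he]
  have hclosed : Zipper23.Closed (zpowers a) (⊤ : Subgroup (G ⋊[φ] zpowers α)) := by
    refine ⟨le_top, fun N hN _ hNn => ?_⟩
    haveI := normalizer_eq_top_iff.mp (top_le_iff.mp hNn)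
    have haN : a ∈ N := hN (mem_zpowers a)
    have hG' : (⊤ : Subgroup G) ≤ N.comap SemidirectProduct.inl := by
      rw [← hG]
      refine (closure_le _).mpr ?_
      rintro _ ⟨g, rfl⟩
      show SemidirectProduct.inl (f g) ∈ N
      rw [show SemidirectProduct.inl (f g) = (SemidirectProduct.inl g * a * (SemidirectProduct.inl g)⁻¹) * a⁻¹ by
        rw [hfa, mul_inv_cancel_right]]
      exact mul_mem (Normal.conj_mem inferInstance a haN _) (inv_mem haN)
    refine eq_top_iff.mpr fun x _ => ?_
    rw [← SemidirectProduct.inl_left_mul_inr_right x]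
    refine mul_mem (hG' (mem_top x.left)) ?_
    obtain ⟨i, hi⟩ := mem_zpowers_iff.mp x.right.2
    have : x.right = (⟨α, mem_zpowers α⟩ : zpowers α) ^ i := Subtype.ext hi.symm
    rw [this, map_zpow]
    exact zpow_mem haN i
  have hMt : ¬ (⊤ : Subgroup (G ⋊[φ] zpowers α)) ≤ M := fun h =>
    hne (eq_top_iff.mpr fun g _ => hinlM g (h (mem_top _)))
  obtain ⟨x, -, hx⟩ := exists_avoid a ⊤ hclosed M haM hMt
  have hxg : x * a * x⁻¹ = SemidirectProduct.inl (f x.left) * a := by
    have hc : Commute (SemidirectProduct.inr x.right : G ⋊[φ] zpowers α) a := by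
      show _ * _ = _ * _
      rw [← map_mul, ← map_mul]
      exact congrArg _ (mul_comm' x.right _)
    calc x * a * x⁻¹ = SemidirectProduct.inl x.left * (SemidirectProduct.inr x.right * a *
          (SemidirectProduct.inr x.right)⁻¹) * (SemidirectProduct.inl x.left)⁻¹ := by
          calc x * a * x⁻¹ = (SemidirectProduct.inl x.left * SemidirectProduct.inr x.right) * a *
                (SemidirectProduct.inl x.left * SemidirectProduct.inr x.right)⁻¹ := by
                rw [SemidirectProduct.inl_left_mul_inr_right x]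
            _ = _ := by simp only [mul_assoc, mul_inv_rev]
      _ = SemidirectProduct.inl x.left * a * (SemidirectProduct.inl x.left)⁻¹ := by
          rw [hc.eq, mul_inv_cancel_right]
      _ = _ := hfa x.left
  have hiter : ∀ j : ℕ, (fun b => b * a * b⁻¹)^[j] (x * a * x⁻¹) =
      SemidirectProduct.inl (f^[j + 1] x.left) * a := by
    intro j
    induction j with
    | zero => simpa using hxg
    | succ j ih =>
      rw [Function.iterate_succ_apply', ih, Function.iterate_succ_apply' f (j + 1), ← hfa]
      simp [mul_assoc]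
  apply hx (k - 1)
  rw [hiter, Nat.sub_add_cancel hk]
  exact mul_mem (mem_sup_left ⟨_, subset_closure ⟨x.left, rfl⟩, rfl⟩) haM

end Cfsg.Agent.S3927
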