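import Cfsg.Statements.S3928
import Cfsg.Agent.Lib.Zipper23.UniqueMax
import Cfsg.Agent.Lib.Basics.Tools

set_option autoImplicit false
open Cfsg

namespace Cfsg.Agent.S3928

open Subgroup Cfsg.Agent
open scoped Pointwise commutatorElement
set_option linter.style.haveILetI false
set_option maxHeartbeats 1000000

/-- A group is generated by an involution `a` and the elements of odd order inverted by it, if it
is the normal closure of `a`. -/
theorem dihedral_gen {X : Type*} [Group X] [Finite X] (a : X) (ha : a * a = 1) :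
    ∀ K : Subgroup X, Zipper23.Closed (zpowers a) K →
      K ≤ closure ({u : X | Odd (orderOf u) ∧ a * u * a⁻¹ = u⁻¹} ∪ {a}) := by
  intro K
  induction K using WellFoundedLT.induction with
  | _ K IH =>
  intro hK
  set J := closure ({u : X | Odd (orderOf u) ∧ a * u * a⁻¹ = u⁻¹} ∪ {a}) with hJ
  by_contra hKJ
  have haJ : a ∈ J := subset_closure (Or.inr rfl)
  have haK : a ∈ K := hK.1 (mem_zpowers a)
  let a' : K := ⟨a, haK⟩
  have ha' : a' * a' = 1 := Subtype.ext ha
  have hmap : (zpowers a').map K.subtype = zpowers a := MonoidHom.map_zpowers K.subtype a'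
  have hclo : normalClosure ((zpowers a' : Subgroup K) : Set K) = ⊤ := by
    set N₀ := normalClosure ((zpowers a' : Subgroup K) : Set K)
    have h1 : N₀.map K.subtype = K := by
      refine hK.2 _ (hmap.ge.trans (map_mono (le_normalClosure (H := zpowers a')))) (map_subtype_le _) ?_
      have := le_normalizer_map (H := N₀) K.subtype
      rwa [normalizer_eq_top_iff.mpr (inferInstance : N₀.Normal), ← MonoidHom.range_eq_map,
        range_subtype] at this
    apply map_injective K.subtype_injective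
    rw [h1, ← MonoidHom.range_eq_map, range_subtype]
  have hJK : J.subgroupOf K ≠ ⊤ := fun h => hKJ (subgroupOf_eq_top.mp h)
  have hA : zpowers a' ≠ ⊤ := fun h => hJK (top_le_iff.mp (h ▸ zpowers_le.mpr haJ))
  have henv : Zipper23.envelope (zpowers a') ≠ ⊤ := by
    intro h
    refine hJK (top_le_iff.mp (h.ge.trans (sSup_le fun H hH => ?_)))
    have h1 : Zipper23.Closed (zpowers a) (H.map K.subtype) := by
      refine ⟨hmap.ge.trans (map_mono hH.1.1), fun N hAN hNH hHN => le_antisymm hNH ?_⟩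
      have h2 := hH.1.2 (N.comap K.subtype) (map_le_iff_le_comap.mp (hmap.le.trans hAN))
        ((comap_mono hNH).trans (comap_map_eq_self_of_injective K.subtype_injective H).le)
        fun x hx => by
          rw [mem_normalizer_iff]
          intro y
          rw [mem_comap, mem_comap, map_mul, map_mul, map_inv]
          exact mem_normalizer_iff.mp (hHN (mem_map_of_mem K.subtype hx)) (K.subtype y)
      rw [← h2]; exact map_comap_le _ N
    have hlt : H.map K.subtype < K := lt_of_le_of_ne (map_subtype_le H) fun he => hH.2 (by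
      apply map_injective K.subtype_injective
      rw [he, ← MonoidHom.range_eq_map, range_subtype])
    exact fun y hy => IH _ hlt h1 (mem_map_of_mem K.subtype hy)
  obtain ⟨M', hM', hle⟩ := (eq_top_or_exists_le_coatom (J.subgroupOf K)).resolve_left hJK
  have haM' : a' ∈ M' := hle (show a' ∈ J.subgroupOf K from haJ)
  obtain ⟨x, hx⟩ : ∃ x : K, x * a' * x⁻¹ ∉ M' := by
    by_contra! hall
    refine hM'.1 (top_le_iff.mp (hclo ▸ (closure_le M').mpr fun y hy => ?_))
    obtain ⟨b, hb, hby⟩ := Group.mem_conjugatesOfSet_iff.mp hy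
    obtain ⟨u, hu⟩ := isConj_iff.mp hby
    obtain ⟨i, rfl⟩ := mem_zpowers_iff.mp hb
    rw [← hu, SetLike.mem_coe, ← conj_zpow]
    exact M'.zpow_mem (hall u) i
  set b := x * a' * x⁻¹ with hb
  have hb2 : b * b = 1 := by
    calc b * b = x * (a' * a') * x⁻¹ := by simp [hb, mul_assoc]
      _ = 1 := by rw [ha']; simp
  have hgen : closure ({a', b} : Set K) = ⊤ := by
    by_contra hne
    obtain ⟨X', hX', hle'⟩ := (eq_top_or_exists_le_coatom _).resolve_left hne
    have : X' = M' := Zipper23.unique_coatom (zpowers a') hclo hA henv X' M' hX' hM'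
      (zpowers_le.mpr (hle' (subset_closure (Set.mem_insert _ _)))) (zpowers_le.mpr haM')
    exact hx (this ▸ hle' (subset_closure (Set.mem_insert_of_mem _ rfl)))
  set c := b * a' with hc
  have hai : a'⁻¹ = a' := inv_eq_of_mul_eq_one_right ha'
  have hbi : b⁻¹ = b := inv_eq_of_mul_eq_one_right hb2
  have hac : a' * c * a'⁻¹ = c⁻¹ := by
    rw [hc, mul_inv_rev, hbi]
    simp [mul_assoc, hai, ha']
  have hnormc : zpowers a' ≤ normalizer ((zpowers (c ^ 2) : Subgroup K) : Set K) := by
    refine zpowers_le.mpr (FGS.Subn.mem_normalizer_of_smul_le ?_)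
    rw [show MulAut.conj a' • zpowers (c ^ 2) = (zpowers (c ^ 2)).map (MulAut.conj a').toMonoidHom from rfl,
      MonoidHom.map_zpowers, zpowers_le]
    show a' * c ^ 2 * a'⁻¹ ∈ _
    rw [← conj_pow, hac, inv_pow]
    exact inv_mem (mem_zpowers _)
  set N := zpowers (c ^ 2) ⊔ zpowers a' with hN
  have hcN : c ∈ normalizer (N : Set K) := by
    refine FGS.Subn.mem_normalizer_of_smul_le ?_
    rw [hN, smul_sup, show MulAut.conj c • zpowers (c ^ 2) = (zpowers (c ^ 2)).map (MulAut.conj c).toMonoidHom from rfl,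
      show MulAut.conj c • zpowers a' = (zpowers a').map (MulAut.conj c).toMonoidHom from rfl,
      MonoidHom.map_zpowers, MonoidHom.map_zpowers]
    refine sup_le ?_ ?_ <;> rw [zpowers_le]
    · show c * c ^ 2 * c⁻¹ ∈ _
      rw [(Commute.self_pow c 2).eq, mul_inv_cancel_right]
      exact mem_sup_left (mem_zpowers _)
    · show c * a' * c⁻¹ ∈ _
      have : c * a' * c⁻¹ = c ^ 2 * a' := by
        rw [sq, mul_assoc c a', mul_assoc c c]
        congr 1
        calc a' * c⁻¹ = a' * (a' * c * a'⁻¹) := by rw [hac]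
          _ = c * a' := by simp [← mul_assoc, ha', hai]
      rw [this]
      exact mul_mem (mem_sup_left (mem_zpowers _)) (mem_sup_right (mem_zpowers _))
  have hNtop : N = ⊤ := by
    have hn : normalizer (N : Set K) = ⊤ := by
      rw [eq_top_iff, ← hgen, closure_le, Set.insert_subset_iff, Set.singleton_subset_iff]
      refine ⟨le_normalizer (mem_sup_right (mem_zpowers _)), ?_⟩
      have : c * a' ∈ normalizer (N : Set K) :=
        mul_mem hcN (le_normalizer (mem_sup_right (mem_zpowers _)))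
      rwa [hc, mul_assoc, ha', mul_one] at this
    haveI := normalizer_eq_top_iff.mp hn
    exact top_le_iff.mp (hclo ▸ normalClosure_le_normal (le_sup_right : zpowers a' ≤ N))
  obtain ⟨u, hu, v, hv, huv⟩ := (Basics.mem_sup_of_le_normalizer hnormc).mp (hNtop ▸ mem_top c : c ∈ N)
  obtain ⟨i, rfl⟩ := mem_zpowers_iff.mp hu
  obtain ⟨j, rfl⟩ := mem_zpowers_iff.mp hv
  have hj : a' ^ j = 1 ∨ a' ^ j = a' := by
    rcases Int.even_or_odd' j with ⟨t, rfl | rfl⟩
    · left; rw [zpow_mul, zpow_ofNat, sq, ha', one_zpow]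
    · right; rw [zpow_add, zpow_mul, zpow_ofNat, sq, ha', one_zpow, one_mul, zpow_one]
  rcases hj with hj | hj <;> rw [hj] at huv
  · rw [mul_one, ← zpow_natCast, ← zpow_mul] at huv
    have h1 : c ^ ((((2 : ℕ) : ℤ)) * i - 1) = 1 := by rw [zpow_sub, zpow_one, ← huv, mul_inv_cancel]
    have hodd : Odd (orderOf (c : X)) := by
      rw [orderOf_coe]
      have h2 : orderOf c ∣ ((((2 : ℕ) : ℤ)) * i - 1).natAbs := Int.natCast_dvd.mp (orderOf_dvd_iff_zpow_eq_one.mpr h1)
      refine Odd.of_dvd_nat (Int.natAbs_odd.mpr ?_) h2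
      exact ⟨i - 1, by push_cast; ring⟩
    have hcJ : (c : X) ∈ J := subset_closure (Or.inl ⟨hodd, by simpa using congrArg Subtype.val hac⟩)
    refine hx (hle (show (b : X) ∈ J from ?_))
    have hbe : c * a' = b := by rw [hc, mul_assoc, ha', mul_one]
    rw [← hbe]
    exact mul_mem hcJ haJ
  · have haz : a' ∈ zpowers c := by
      have h1 : a' = ((c ^ 2) ^ i)⁻¹ * c := eq_inv_mul_of_mul_eq huv.symm
      rw [h1]
      exact mul_mem (inv_mem (zpow_mem (pow_mem (mem_zpowers c) 2) i)) (mem_zpowers c)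
    obtain ⟨t, ht⟩ := mem_zpowers_iff.mp haz
    have hcomm : Commute a' c := by rw [← ht]; exact Commute.zpow_self c t
    have hab : Commute a' b := by
      have := hcomm.mul_right (Commute.refl a')
      rwa [hc, mul_assoc, ha', mul_one] at this
    have hn : normalizer ((zpowers a' : Subgroup K) : Set K) = ⊤ := by
      rw [eq_top_iff, ← hgen, closure_le, Set.insert_subset_iff, Set.singleton_subset_iff]
      refine ⟨le_normalizer (mem_zpowers _), FGS.Subn.mem_normalizer_of_smul_le ?_⟩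
      rw [show MulAut.conj b • zpowers a' = (zpowers a').map (MulAut.conj b).toMonoidHom from rfl,
        MonoidHom.map_zpowers, zpowers_le]
      show b * a' * b⁻¹ ∈ _
      rw [← hab.eq, mul_inv_cancel_right]
      exact mem_zpowers _
    haveI := normalizer_eq_top_iff.mp hn
    rw [normalClosure_eq_self] at hclo
    exact hA hclo

section

variable {G : Type} [Group G] [Finite G]

/-- An involutory automorphism with `[G, α] = G`. -/
def Good (G : Type) [Group G] (α : MulAut G) : Prop :=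
  (∀ g, α (α g) = g) ∧ closure (Set.range fun c : G => c * (α c)⁻¹) = ⊤

/-- The elements of odd order inverted by `α`. -/
def Ivd {G : Type} [Group G] (α : MulAut G) : Set G := {g | Odd (orderOf g) ∧ α g = g⁻¹}

omit [Finite G] in
theorem f_inverted {α : MulAut G} (h : ∀ g, α (α g) = g) (g : G) :
    α (g * (α g)⁻¹) = (g * (α g)⁻¹)⁻¹ := by
  simp [h]

theorem closure_Ivd {α : MulAut G} (hα : Good G α) : closure (Ivd α) = ⊤ := by
  set φ : zpowers α →* MulAut G := (zpowers α).subtype
  haveI : Finite (G ⋊[φ] zpowers α) := Finite.of_equiv _ SemidirectProduct.equivProd.symm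
  set a : G ⋊[φ] zpowers α := SemidirectProduct.inr ⟨α, mem_zpowers α⟩ with hadef
  have hα2 : (⟨α, mem_zpowers α⟩ : zpowers α) * ⟨α, mem_zpowers α⟩ = 1 :=
    Subtype.ext (MulEquiv.ext fun g => hα.1 g)
  have ha : a * a = 1 := by rw [hadef, ← map_mul, hα2, map_one]
  have hconj : ∀ g : G, a * SemidirectProduct.inl g * a⁻¹ = SemidirectProduct.inl (α g) := fun g => by
    have := SemidirectProduct.inl_aut (φ := φ) ⟨α, mem_zpowers α⟩ g
    rw [map_inv] at this
    exact this.symm
  have hclosed : Zipper23.Closed (zpowers a) (⊤ : Subgroup (G ⋊[φ] zpowers α)) := by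
    refine ⟨le_top, fun N hN _ hNn => ?_⟩
    haveI := normalizer_eq_top_iff.mp (top_le_iff.mp hNn)
    have haN : a ∈ N := hN (mem_zpowers a)
    have hG' : (⊤ : Subgroup G) ≤ N.comap SemidirectProduct.inl := by
      rw [← hα.2]
      refine (closure_le _).mpr ?_
      rintro _ ⟨g, rfl⟩
      show SemidirectProduct.inl (g * (α g)⁻¹) ∈ N
      rw [map_mul, map_inv, ← hconj, show SemidirectProduct.inl g * (a * SemidirectProduct.inl g * a⁻¹)⁻¹ =
        (SemidirectProduct.inl g * a * (SemidirectProduct.inl g)⁻¹) * a⁻¹ by simp [mul_assoc]]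
      exact mul_mem (Normal.conj_mem inferInstance a haN _) (inv_mem haN)
    refine eq_top_iff.mpr fun x _ => ?_
    rw [← SemidirectProduct.inl_left_mul_inr_right x]
    refine mul_mem (hG' (mem_top x.left)) ?_
    obtain ⟨i, hi⟩ := mem_zpowers_iff.mp x.right.2
    have : x.right = (⟨α, mem_zpowers α⟩ : zpowers α) ^ i := Subtype.ext hi.symm
    rw [this, map_zpow]
    exact zpow_mem haN i
  have hJ := dihedral_gen a ha ⊤ hclosed
  set HX := (closure (Ivd α)).map (SemidirectProduct.inl : G →* G ⋊[φ] zpowers α)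
  have hnorm : zpowers a ≤ normalizer (HX : Set (G ⋊[φ] zpowers α)) := by
    refine zpowers_le.mpr (FGS.Subn.mem_normalizer_of_smul_le ?_)
    intro y hy
    obtain ⟨w, ⟨g, hg, rfl⟩, rfl⟩ := (mem_smul_pointwise_iff_exists y _ HX).mp hy
    refine ⟨α g, ?_, (hconj g).symm⟩
    have : closure (Ivd α) ≤ (closure (Ivd α)).comap α.toMonoidHom :=
      (closure_le _).mpr fun u hu => subset_closure ⟨by
        show Odd (orderOf (α u)); rw [MulEquiv.orderOf_eq]; exact hu.1, by
        show α (α u) = (α u)⁻¹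
        rw [hu.2, map_inv, hu.2]⟩
    exact this hg
  have hle : closure ({u : G ⋊[φ] zpowers α | Odd (orderOf u) ∧ a * u * a⁻¹ = u⁻¹} ∪ {a}) ≤
      HX ⊔ zpowers a := by
    refine (closure_le _).mpr ?_
    rintro u (⟨hodd, hu⟩ | rfl)
    · have hr : u.right = 1 := by
        have h1 : orderOf u.right ∣ orderOf u := orderOf_map_dvd SemidirectProduct.rightHom u
        have h2 : orderOf u.right ∣ 2 := by
          refine orderOf_dvd_of_pow_eq_one ?_
          obtain ⟨i, hi⟩ := mem_zpowers_iff.mp u.right.2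
          have : u.right = (⟨α, mem_zpowers α⟩ : zpowers α) ^ i := Subtype.ext hi.symm
          rw [this, ← zpow_natCast, ← zpow_mul, mul_comm, zpow_mul, zpow_natCast, sq, hα2, one_zpow]
        exact orderOf_eq_one_iff.mp (Nat.eq_one_of_dvd_coprimes
          (Nat.coprime_two_left.mpr hodd) h2 h1)
      have hl : u = SemidirectProduct.inl u.left := by
        conv_lhs => rw [← SemidirectProduct.inl_left_mul_inr_right u, hr, map_one, mul_one]
      refine mem_sup_left ⟨u.left, subset_closure ⟨?_, ?_⟩, hl.symm⟩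
      · rwa [← orderOf_injective (SemidirectProduct.inl : G →* G ⋊[φ] zpowers α) SemidirectProduct.inl_injective u.left, ← hl]
      · rw [hl, hconj, ← map_inv] at hu
        exact SemidirectProduct.inl_injective hu
    · exact mem_sup_right (mem_zpowers _)
  refine eq_top_iff.mpr fun g _ => ?_
  obtain ⟨w, ⟨h, hh, rfl⟩, t, ht, he⟩ := (Basics.mem_sup_of_le_normalizer hnorm).mp
    (hle (hJ (mem_top (SemidirectProduct.inl g))))
  obtain ⟨i, rfl⟩ := mem_zpowers_iff.mp ht
  have hr := congrArg SemidirectProduct.rightHom he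
  rw [map_mul, SemidirectProduct.rightHom_inl, SemidirectProduct.rightHom_inl, one_mul,
    map_zpow] at hr
  have h1 : a ^ i = 1 := by
    rw [hadef, ← map_zpow, show (⟨α, mem_zpowers α⟩ : zpowers α) ^ i = 1 from by
      rw [hr, hadef, SemidirectProduct.rightHom_inr], map_one]
  rw [h1, mul_one] at he
  rwa [SemidirectProduct.inl_injective he]

/-- The automorphism of a quotient by an invariant normal subgroup. -/
noncomputable def quotAut (α : MulAut G) (N : Subgroup G) [N.Normal] (hN : ∀ x ∈ N, α x ∈ N) :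
    MulAut (G ⧸ N) :=
  QuotientGroup.congr N N α (eq_of_le_of_card_ge (by rintro _ ⟨x, hx, rfl⟩; exact hN x hx)
    (card_map_of_injective (MulEquiv.injective α)).ge)

theorem quotAut_mk (α : MulAut G) (N : Subgroup G) [N.Normal] (hN : ∀ x ∈ N, α x ∈ N) (g : G) :
    quotAut α N hN (g : G ⧸ N) = ((α g : G) : G ⧸ N) := rfl

theorem good_quot {α : MulAut G} (hα : Good G α) (N : Subgroup G) [N.Normal]
    (hN : ∀ x ∈ N, α x ∈ N) : Good (G ⧸ N) (quotAut α N hN) := by
  refine ⟨fun q => ?_, ?_⟩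
  · obtain ⟨g, rfl⟩ := QuotientGroup.mk_surjective q
    rw [quotAut_mk, quotAut_mk, hα.1]
  · rw [eq_top_iff, ← map_top_of_surjective (QuotientGroup.mk' N) (QuotientGroup.mk'_surjective N),
      ← hα.2, MonoidHom.map_closure, closure_le]
    rintro _ ⟨_, ⟨g, rfl⟩, rfl⟩
    exact subset_closure ⟨(g : G ⧸ N), rfl⟩

omit [Finite G] in
/-- An odd-order inverted element of a quotient lifts to one. -/
theorem exists_lift [Finite G] {α : MulAut G} (hα : ∀ g, α (α g) = g) (N : Subgroup G) [N.Normal]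
    (hN : ∀ x ∈ N, α x ∈ N) {q : G ⧸ N} (hq : q ∈ Ivd (quotAut α N hN)) :
    ∃ u ∈ Ivd α, (u : G ⧸ N) = q := by
  obtain ⟨e, he⟩ := hq.1
  obtain ⟨g, hg⟩ := QuotientGroup.mk_surjective (q ^ (e + 1))
  set c := g * (α g)⁻¹ with hc
  have hcq : (c : G ⧸ N) = q := by
    rw [hc, QuotientGroup.mk_mul, QuotientGroup.mk_inv, ← quotAut_mk α N hN, hg, map_pow, hq.2, inv_pow,
      inv_inv, ← pow_add, show e + 1 + (e + 1) = orderOf q + 1 by omega, pow_succ, pow_orderOf_eq_one,
      one_mul]
  obtain ⟨k, r, hr, hck⟩ := Nat.exists_eq_two_pow_mul_odd (orderOf_pos c).ne'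
  have hu0 : orderOf (c ^ 2 ^ k) = r := by
    rw [orderOf_pow_of_dvd (by positivity) (hck ▸ dvd_mul_right _ _), hck,
      Nat.mul_div_cancel_left _ (by positivity)]
  obtain ⟨j, hj⟩ := exists_pow_eq_self_of_coprime (x := q) (n := 2 ^ k)
    ((Nat.coprime_two_left.mpr hq.1).pow_left k)
  refine ⟨(c ^ 2 ^ k) ^ j, ⟨?_, ?_⟩, ?_⟩
  · exact Odd.of_dvd_nat hr (hu0 ▸ orderOf_pow_dvd j)
  · rw [map_pow, map_pow, f_inverted hα g, inv_pow, inv_pow]
  · rw [QuotientGroup.mk_pow, QuotientGroup.mk_pow, hcq, hj]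

theorem card_Ivd_quot {α : MulAut G} (hα : ∀ g, α (α g) = g) (N : Subgroup G) [N.Normal]
    (hN : ∀ x ∈ N, α x ∈ N) :
    Nat.card (Ivd (quotAut α N hN)) ≤ Nat.card (Ivd α) ∧
      (∀ u ∈ Ivd α, ∀ v ∈ Ivd α, u ≠ v → (u : G ⧸ N) = (v : G ⧸ N) →
        Nat.card (Ivd (quotAut α N hN)) < Nat.card (Ivd α)) := by
  choose lift hlift hliftq using fun q : Ivd (quotAut α N hN) => exists_lift hα N hN q.2
  let F : Ivd (quotAut α N hN) → Ivd α := fun q => ⟨lift q, hlift q⟩
  have hF : Function.Injective F := fun q r h => Subtype.ext (by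
    rw [← hliftq q, ← hliftq r, show lift q = lift r from congrArg Subtype.val h])
  refine ⟨Nat.card_le_card_of_injective F hF, fun u hu v hv huv he => ?_⟩
  haveI := Fintype.ofFinite (Ivd (quotAut α N hN))
  haveI := Fintype.ofFinite (Ivd α)
  rw [Nat.card_eq_fintype_card, Nat.card_eq_fintype_card]
  refine Fintype.card_lt_of_injective_not_surjective F hF fun hs => huv ?_
  obtain ⟨q, hq⟩ := hs ⟨u, hu⟩
  obtain ⟨r, hr⟩ := hs ⟨v, hv⟩
  have h1 : lift q = u := congrArg Subtype.val hq
  have h2 : lift r = v := congrArg Subtype.val hr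
  have : q = r := Subtype.ext (by rw [← hliftq q, ← hliftq r, h1, h2]; exact he)
  rw [← h1, ← h2, this]

/-- The fixed points modulo the centre. -/
theorem card_fixed_map_le {α : MulAut G} (hα : Good G α) :
    Nat.card ((α.toMonoidHom.eqLocus (MonoidHom.id G)).map (QuotientGroup.mk' (center G))) ≤
      (Nat.card (Ivd α)).factorial := by
  set C := α.toMonoidHom.eqLocus (MonoidHom.id G)
  let perm : C → Equiv.Perm (Ivd α) := fun c =>
    { toFun := fun u => ⟨c * u * (c : G)⁻¹, by
        refine ⟨?_, ?_⟩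
        · rw [show (c : G) * u * (c : G)⁻¹ = MulAut.conj (c : G) u from rfl, MulEquiv.orderOf_eq]
          exact u.2.1
        · have hc : α (c : G) = c := c.2
          rw [map_mul, map_mul, map_inv, hc, u.2.2]; simp [mul_assoc]⟩
      invFun := fun u => ⟨(c : G)⁻¹ * u * c, by
        refine ⟨?_, ?_⟩
        · rw [show (c : G)⁻¹ * u * c = MulAut.conj ((c : G)⁻¹) u by simp, MulEquiv.orderOf_eq]
          exact u.2.1
        · have hc : α (c : G) = c := c.2
          rw [map_mul, map_mul, map_inv, hc, u.2.2]; simp [mul_assoc]⟩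
      left_inv := fun u => Subtype.ext (by simp [mul_assoc])
      right_inv := fun u => Subtype.ext (by simp [mul_assoc]) }
  choose pre hpre using fun q : C.map (QuotientGroup.mk' (center G)) =>
    (mem_map.mp q.2 : ∃ x ∈ C, QuotientGroup.mk' (center G) x = q.1)
  rw [← Nat.card_perm]
  refine Nat.card_le_card_of_injective (fun q => perm ⟨pre q, (hpre q).1⟩) fun q r h => ?_
  apply Subtype.ext
  rw [← (hpre q).2, ← (hpre r).2]
  refine QuotientGroup.eq.mpr ?_
  have hle : closure (Ivd α) ≤ centralizer ({(pre q)⁻¹ * pre r} : Set G) := by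
    refine (closure_le _).mpr fun u hu => mem_centralizer_singleton_iff.mpr ?_
    have h1 : pre q * u * (pre q)⁻¹ = pre r * u * (pre r)⁻¹ :=
      congrArg (fun σ : Equiv.Perm (Ivd α) => ((σ ⟨u, hu⟩ : Ivd α) : G)) h
    calc u * ((pre q)⁻¹ * pre r) = (pre q)⁻¹ * (pre q * u * (pre q)⁻¹) * pre r := by simp [mul_assoc]
      _ = (pre q)⁻¹ * pre r * u := by rw [h1]; simp [mul_assoc]
  rw [closure_Ivd hα] at hle
  exact mem_center_iff.mpr fun g => mem_centralizer_singleton_iff.mp (hle (mem_top g))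

omit [Finite G] in
theorem card_le_fixed_mul [Finite G] (α : MulAut G) (P : Subgroup G) :
    Nat.card P ≤ Nat.card ↥(P ⊓ α.toMonoidHom.eqLocus (MonoidHom.id G)) *
      Nat.card ((fun c : G => c * (α c)⁻¹) '' (P : Set G)) := by
  let f : G → G := fun c => c * (α c)⁻¹
  choose sec hsec using fun t : f '' (P : Set G) => t.2
  rw [← Nat.card_prod]
  have hfix : ∀ x : P, (sec ⟨f x, x, x.2, rfl⟩)⁻¹ * x ∈ P ⊓ α.toMonoidHom.eqLocus (MonoidHom.id G) := by
    intro x
    refine ⟨P.mul_mem (P.inv_mem (hsec _).1) x.2, ?_⟩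
    have h : sec ⟨f x, x, x.2, rfl⟩ * (α (sec ⟨f x, x, x.2, rfl⟩))⁻¹ = x * (α x)⁻¹ := (hsec ⟨f x, x, x.2, rfl⟩).2
    show α _ = _
    rw [map_mul, map_inv]
    calc (α (sec ⟨f x, x, x.2, rfl⟩))⁻¹ * α x =
        (sec ⟨f x, x, x.2, rfl⟩)⁻¹ * (sec ⟨f x, x, x.2, rfl⟩ * (α (sec ⟨f x, x, x.2, rfl⟩))⁻¹) * α x := by
          simp [mul_assoc]
      _ = _ := by rw [h]; simp [mul_assoc]
  refine Nat.card_le_card_of_injective
    (fun x : P => (⟨_, hfix x⟩, (⟨f x, x, x.2, rfl⟩ : f '' (P : Set G)))) fun x y h => ?_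
  obtain ⟨h1, h2⟩ := Prod.ext_iff.mp h
  have h1' : (sec ⟨f x, x, x.2, rfl⟩)⁻¹ * (x : G) = (sec ⟨f y, y, y.2, rfl⟩)⁻¹ * y := congrArg Subtype.val h1
  rw [show (⟨f x, x, x.2, rfl⟩ : f '' (P : Set G)) = ⟨f y, y, y.2, rfl⟩ from h2] at h1'
  exact Subtype.ext (mul_left_cancel h1')

/-- Few fixed points force a large centralizer (Brauer–Fowler). -/
theorem exists_large_centralizer (α : MulAut G) (hα : ∀ g, α (α g) = g)
    {N : Subgroup G} (hN : ∀ x ∈ N, α x ∈ N) {m : ℕ}
    (hm : Nat.card ↥(N ⊓ α.toMonoidHom.eqLocus (MonoidHom.id G)) ≤ m)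
    (hN2 : 2 * m < Nat.card N) :
    ∃ x ∈ N, x ≠ 1 ∧ Nat.card N ≤ 2 * m ^ 2 * Nat.card ↥(N ⊓ centralizer {x}) := by
  classical
  by_contra! hsmall
  set f : G → G := fun c => c * (α c)⁻¹ with hf
  set T := f '' (N : Set G) with hT
  haveI := Fintype.ofFinite N
  haveI := Fintype.ofFinite G
  set t := Nat.card T with ht
  have hNt : Nat.card N ≤ m * t := (card_le_fixed_mul α N).trans (Nat.mul_le_mul_right _ hm)
  have hTN : ∀ c ∈ T, c ∈ N ∧ α c = c⁻¹ := by
    rintro _ ⟨g, hg, rfl⟩
    exact ⟨N.mul_mem hg (N.inv_mem (hN g hg)), f_inverted hα g⟩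
  let pr : T × T → N := fun c => ⟨(c.1 : G) * (c.2 : G)⁻¹, N.mul_mem (hTN _ c.1.2).1 (N.inv_mem (hTN _ c.2.2).1)⟩
  have hfib : ∀ x : N, Nat.card {c : T × T // pr c = x} ≤
      if (x : G) = 1 then t else Nat.card ↥(N ⊓ centralizer {(x : G)}) := by
    intro x
    split_ifs with hx
    · refine Nat.card_le_card_of_injective (fun c => c.1.1) fun c d h => ?_
      have hc := congrArg Subtype.val c.2
      have hd := congrArg Subtype.val d.2
      have h' : (c.1.1 : G) = d.1.1 := congrArg Subtype.val h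
      simp only [pr, hx] at hc hd
      refine Subtype.ext (Prod.ext h (Subtype.ext ?_))
      rw [← mul_inv_eq_one.mp hc, ← mul_inv_eq_one.mp hd]; exact h'
    · rcases isEmpty_or_nonempty {c : T × T // pr c = x} with he | ⟨⟨c₀⟩⟩
      · simp
      have key : ∀ c : {c : T × T // pr c = x}, (c.1.1 : G) * α (x : G) * (c.1.1 : G)⁻¹ = (x : G)⁻¹ := by
        intro c
        obtain ⟨c, hc⟩ := c
        subst hc
        simp [pr, (hTN _ c.1.2).2, (hTN _ c.2.2).2, mul_assoc]
      refine Nat.card_le_card_of_injective (fun c => (⟨(c.1.1 : G) * (c₀.1.1 : G)⁻¹,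
        N.mul_mem (hTN _ c.1.1.2).1 (N.inv_mem (hTN _ c₀.1.1.2).1), mem_centralizer_singleton_iff.mpr ?_⟩ :
          ↥(N ⊓ centralizer {(x : G)}))) fun c d h => ?_
      · have h1 := key c
        have h0 := key c₀
        have h2 : (c.1.1 : G) * (c₀.1.1 : G)⁻¹ * (x : G)⁻¹ = (x : G)⁻¹ * ((c.1.1 : G) * (c₀.1.1 : G)⁻¹) := by
          calc _ = (c.1.1 : G) * (c₀.1.1 : G)⁻¹ * ((c₀.1.1 : G) * α (x : G) * (c₀.1.1 : G)⁻¹) := by rw [h0]
            _ = ((c.1.1 : G) * α (x : G) * (c.1.1 : G)⁻¹) * ((c.1.1 : G) * (c₀.1.1 : G)⁻¹) := by simp [mul_assoc]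
            _ = _ := by rw [h1]
        have h3 : Commute ((c.1.1 : G) * (c₀.1.1 : G)⁻¹) (x : G) := Commute.inv_right_iff.mp h2
        first | exact h3.eq | exact h3.eq.symm
      · have h' : (c.1.1 : G) = d.1.1 := mul_right_cancel (congrArg Subtype.val h)
        have hc := congrArg Subtype.val c.2
        have hd := congrArg Subtype.val d.2
        simp only [pr] at hc hd
        refine Subtype.ext (Prod.ext (Subtype.ext h') (Subtype.ext ?_))
        rw [← hd, h'] at hc
        exact inv_injective (mul_left_cancel hc)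
  have hsum : t * t ≤ ∑ x : N, if (x : G) = 1 then t else Nat.card ↥(N ⊓ centralizer {(x : G)}) := by
    calc t * t = Nat.card (T × T) := (Nat.card_prod _ _).symm
      _ = ∑ x : N, Nat.card {c : T × T // pr c = x} := by
          rw [← Nat.card_sigma, Nat.card_congr (Equiv.sigmaFiberEquiv pr)]
      _ ≤ _ := Finset.sum_le_sum fun x _ => hfib x
  have hbd : 2 * m ^ 2 * (∑ x : N, if (x : G) = 1 then t else Nat.card ↥(N ⊓ centralizer {(x : G)})) ≤
      2 * m ^ 2 * t + Nat.card N * Nat.card N := by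
    rw [Finset.mul_sum]
    calc ∑ x : N, 2 * m ^ 2 * (if (x : G) = 1 then t else Nat.card ↥(N ⊓ centralizer {(x : G)}))
        ≤ ∑ x : N, ((if x = 1 then 2 * m ^ 2 * t else 0) + Nat.card N) := by
          refine Finset.sum_le_sum fun x _ => ?_
          by_cases hx : x = 1
          · simp [hx]
          · have hx' : (x : G) ≠ 1 := fun h => hx (Subtype.ext h)
            rw [if_neg hx', if_neg hx, zero_add]
            exact (hsmall x x.2 hx').le
      _ = 2 * m ^ 2 * t + Nat.card N * Nat.card N := by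
          simp [Finset.sum_add_distrib, Nat.card_eq_fintype_card]
  have h1 : 2 * m ^ 2 * (t * t) ≤ 2 * m ^ 2 * t + (m * t) * (m * t) :=
    ((Nat.mul_le_mul_left _ hsum).trans hbd).trans (Nat.add_le_add_left (Nat.mul_le_mul hNt hNt) _)
  have hm0 : 0 < m := lt_of_lt_of_le Nat.card_pos hm
  have h2 : t ≤ 2 := by
    by_contra ht3
    push Not at ht3
    have : 2 * (m ^ 2 * t) < t * (m ^ 2 * t) := Nat.mul_lt_mul_of_pos_right ht3 (by positivity)
    nlinarith
  have h3 : m * t ≤ m * 2 := Nat.mul_le_mul_left _ h2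
  omega

theorem odd_hom_trivial {α : MulAut G} (hα : Good G α) {Z : Type} [Group Z] (φ : G →* Z)
    (h : ∀ g, φ g ^ 2 = 1) : ∀ g, φ g = 1 := by
  have : closure (Ivd α) ≤ φ.ker := (closure_le _).mpr fun u hu => by
    refine orderOf_eq_one_iff.mp (Nat.eq_one_of_dvd_coprimes (Nat.coprime_two_left.mpr hu.1)
      (orderOf_dvd_of_pow_eq_one (h u)) (orderOf_map_dvd φ u))
  rw [closure_Ivd hα] at this
  exact fun g => this (mem_top g)

theorem mem_center_of_pow_two {α : MulAut G} (hα : Good G α) :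
    ∀ (k : ℕ) (z : G), (∀ g : G, ⁅g, z⁆ ∈ center G) → z ^ 2 ^ k ∈ center G → z ∈ center G := by
  have hstep : ∀ z : G, (∀ g : G, ⁅g, z⁆ ∈ center G) → z ^ 2 ∈ center G → z ∈ center G := by
    intro z hz hz2
    have hc : ∀ g, ∀ y : G, y * ⁅g, z⁆ = ⁅g, z⁆ * y := fun g y => mem_center_iff.mp (hz g) y
    let φ : G →* center G := MonoidHom.mk' (fun g => ⟨⁅g, z⁆, hz g⟩) fun a b => Subtype.ext (by
      show ⁅a * b, z⁆ = ⁅a, z⁆ * ⁅b, z⁆
      calc ⁅a * b, z⁆ = a * ⁅b, z⁆ * (z * a⁻¹ * z⁻¹) := by simp [commutatorElement_def, mul_assoc]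
        _ = ⁅b, z⁆ * a * (z * a⁻¹ * z⁻¹) := by rw [hc b a]
        _ = ⁅b, z⁆ * ⁅a, z⁆ := by simp [commutatorElement_def, mul_assoc]
        _ = _ := hc a _)
    have h2 : ∀ g, φ g ^ 2 = 1 := fun g => Subtype.ext (by
      show ⁅g, z⁆ ^ 2 = 1
      calc ⁅g, z⁆ ^ 2 = ⁅g, z⁆ * (g * z * g⁻¹ * z⁻¹) := by rw [sq, commutatorElement_def]
        _ = g * z * (⁅g, z⁆ * g⁻¹ * z⁻¹) := by
            rw [← mul_assoc, ← mul_assoc, ← mul_assoc, ← mul_assoc, ← mul_assoc, ← hc g g,
              mul_assoc g, ← hc g z, ← mul_assoc]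
        _ = g * z * ((g * z * g⁻¹ * z⁻¹) * g⁻¹ * z⁻¹) := rfl
        _ = ⁅g, z ^ 2⁆ := by
            rw [← commutatorElement_def, ← hc g g⁻¹]
            simp [commutatorElement_def, sq, mul_assoc]
        _ = 1 := commutatorElement_eq_one_iff_mul_comm.mpr (mem_center_iff.mp hz2 g))
    refine mem_center_iff.mpr fun g => commutatorElement_eq_one_iff_mul_comm.mp ?_
    exact congrArg Subtype.val (odd_hom_trivial hα φ h2 g)
  intro k
  induction k with
  | zero => intro z _ h; simpa using h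
  | succ k ih =>
    intro z hz h
    refine ih z hz (hstep _ (fun g => ?_) (by rwa [← pow_mul, ← pow_succ]))
    have hcm : ∀ n : ℕ, ⁅g, z ^ n⁆ ∈ center G := by
      intro n
      induction n with
      | zero => simp [one_mem]
      | succ n ihn =>
        rw [pow_succ, show ⁅g, z ^ n * z⁆ = ⁅g, z ^ n⁆ * (z ^ n * ⁅g, z⁆ * (z ^ n)⁻¹) by
          simp [commutatorElement_def, mul_assoc]]
        exact mul_mem ihn (Normal.conj_mem inferInstance _ (hz g) _)
    exact hcm _

theorem exists_stable : ∃ j : ℕ, Subgroup.upperCentralSeries G (j + 1) ≤ Subgroup.upperCentralSeries G j := by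
  by_contra! h
  have : ∀ j, j ≤ Nat.card (Subgroup.upperCentralSeries G j) := by
    intro j
    induction j with
    | zero => exact Nat.zero_le _
    | succ j ih =>
      refine lt_of_le_of_lt ih ?_
      by_contra hge
      push Not at hge
      exact h j (eq_of_le_of_card_ge (Subgroup.upperCentralSeries_mono G (Nat.le_succ j)) hge).ge
  have h1 := (this (Nat.card G + 1)).trans (card_le_card_group _)
  omega

theorem center_quot_upper {j : ℕ} (q : G) :
    (q : G ⧸ Subgroup.upperCentralSeries G j) ∈ center (G ⧸ Subgroup.upperCentralSeries G j) ↔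
      q ∈ Subgroup.upperCentralSeries G (j + 1) := by
  rw [Subgroup.mem_upperCentralSeries_succ_iff, mem_center_iff]
  constructor
  · intro h y
    have := commutatorElement_eq_one_iff_mul_comm.mpr (h (y : G ⧸ Subgroup.upperCentralSeries G j)).symm
    rw [← QuotientGroup.mk'_apply, ← QuotientGroup.mk'_apply, ← map_commutatorElement] at this
    exact (QuotientGroup.eq_one_iff _).mp this
  · intro h y
    obtain ⟨y, rfl⟩ := QuotientGroup.mk_surjective y
    have := (QuotientGroup.eq_one_iff ⁅q, y⁆).mpr (h y)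
    rw [← QuotientGroup.mk'_apply, map_commutatorElement, commutatorElement_eq_one_iff_mul_comm] at this
    exact this.symm

theorem upper_odd {α : MulAut G} (hα : Good G α) :
    ∀ j, ∀ z ∈ Subgroup.upperCentralSeries G j, ∃ r, Odd r ∧ z ^ r ∈ center G := by
  intro j
  induction j with
  | zero => intro z hz; rw [Subgroup.upperCentralSeries_zero] at hz; exact ⟨1, odd_one, by rw [mem_bot.mp hz]; simp [one_mem]⟩
  | succ j ih =>
    intro z hz
    rcases j with _ | j
    · exact ⟨1, odd_one, by rwa [pow_one, ← Subgroup.upperCentralSeries_one]⟩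
    obtain ⟨k, r, hr, hk⟩ := Nat.exists_eq_two_pow_mul_odd (orderOf_pos z).ne'
    have hZinv : ∀ x ∈ Subgroup.upperCentralSeries G j, α x ∈ Subgroup.upperCentralSeries G j := fun x hx =>
      (characteristic_iff_map_le.mp inferInstance α) ⟨x, hx, rfl⟩
    have hQ := good_quot hα (Subgroup.upperCentralSeries G j) hZinv
    have h1 : ((z ^ r : G) : G ⧸ Subgroup.upperCentralSeries G j) ∈ center (G ⧸ Subgroup.upperCentralSeries G j) := by
      refine mem_center_of_pow_two hQ k _ (fun g => ?_) ?_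
      · obtain ⟨g, rfl⟩ := QuotientGroup.mk_surjective g
        rw [← QuotientGroup.mk'_apply, ← QuotientGroup.mk'_apply, ← map_commutatorElement,
          QuotientGroup.mk'_apply, center_quot_upper, ← commutatorElement_inv]
        exact inv_mem (Subgroup.mem_upperCentralSeries_succ_iff.mp (pow_mem hz r) g)
      · rw [← QuotientGroup.mk_pow, ← pow_mul, mul_comm, ← hk, pow_orderOf_eq_one, QuotientGroup.mk_one]
        exact one_mem _
    obtain ⟨r', hr', h2⟩ := ih _ ((center_quot_upper _).mp h1)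
    exact ⟨r * r', hr.mul hr', by rwa [pow_mul]⟩

/-- Groups with trivial centre. -/
theorem bound_centerless {B n : ℕ}
    (IH : ∀ (K : Type) [Group K] [Finite K] (β : MulAut K), Good K β →
      Nat.card (Ivd β) < n → Nat.card K ≤ B)
    {α : MulAut G} (hα : Good G α) (hn : Nat.card (Ivd α) ≤ n) (hZ : center G = ⊥) :
    Nat.card G ≤ 1 + B * (2 * n.factorial + n.factorial * (n + n.factorial)) +
      ((B * (2 * n.factorial ^ 2)) * (B * (2 * n.factorial ^ 2))).factorial := by
  set M := n.factorial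
  rcases subsingleton_or_nontrivial G with hs | hnt
  · have : Nat.card G = 1 := Nat.card_of_subsingleton (1 : G)
    omega
  haveI : Nonempty {N : Subgroup G // N.Normal ∧ (∀ x ∈ N, α x ∈ N) ∧ N ≠ ⊥} :=
    ⟨⟨⊤, inferInstance, fun _ _ => mem_top _, top_ne_bot⟩⟩
  obtain ⟨⟨N, hNn, hNα, hN1⟩, hmin⟩ := Finite.exists_min
    fun N : {N : Subgroup G // N.Normal ∧ (∀ x ∈ N, α x ∈ N) ∧ N ≠ ⊥} => Nat.card N.1
  have hmin' : ∀ U : Subgroup G, U.Normal → (∀ x ∈ U, α x ∈ U) → U ≤ N → U = ⊥ ∨ U = N :=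
    fun U hU hUα hUN => or_iff_not_imp_left.mpr fun hU1 =>
      eq_of_le_of_card_ge hUN (hmin ⟨U, hU, hUα, hU1⟩)
  set Fx := α.toMonoidHom.eqLocus (MonoidHom.id G)
  have hFx : Nat.card Fx ≤ M := by
    refine le_trans ?_ ((card_fixed_map_le hα).trans (Nat.factorial_le hn))
    rw [card_map_of_injective]
    rw [← MonoidHom.ker_eq_bot_iff, QuotientGroup.ker_mk', hZ]
  have hm : Nat.card ↥(N ⊓ Fx) ≤ M := (card_le_of_le inf_le_right).trans hFx
  have hdrop : Nat.card (Ivd (quotAut α N hNα)) < n := by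
    refine lt_of_lt_of_le ?_ hn
    obtain ⟨hle, hlt⟩ := card_Ivd_quot hα.1 N hNα
    by_contra hge
    have hinj : ∀ u ∈ Ivd α, ∀ v ∈ Ivd α, (u : G ⧸ N) = (v : G ⧸ N) → u = v := fun u hu v hv he =>
      by_contra fun hne => hge (hlt u hu v hv hne he)
    have hfix : ∀ v ∈ N, α v = v → v = 1 := by
      intro v hv hva
      have hle' : closure (Ivd α) ≤ centralizer ({v} : Set G) := by
        refine (closure_le _).mpr fun u hu => mem_centralizer_singleton_iff.mpr ?_
        have h1 : v * u * v⁻¹ = u := hinj _ ⟨by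
            rw [show v * u * v⁻¹ = MulAut.conj v u from rfl, MulEquiv.orderOf_eq]; exact hu.1, by
            rw [map_mul, map_mul, map_inv, hva, hu.2]; simp [mul_assoc]⟩ u hu (by
          rw [QuotientGroup.mk_mul, QuotientGroup.mk_mul, QuotientGroup.mk_inv,
            (QuotientGroup.eq_one_iff v).mpr hv, one_mul, inv_one, mul_one])
        exact (mul_inv_eq_iff_eq_mul.mp h1).symm
      rw [closure_Ivd hα] at hle'
      have : v ∈ center G := mem_center_iff.mpr fun g => mem_centralizer_singleton_iff.mp (hle' (mem_top g))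
      rwa [hZ, mem_bot] at this
    obtain ⟨⟨x, hx⟩, hx1'⟩ := Subgroup.ne_bot_iff_exists_ne_one.mp hN1
    have hx1 : x ≠ 1 := fun h => hx1' (Subtype.ext h)
    set c := x * (α x)⁻¹ with hc
    have hc1 : c ≠ 1 := fun h => hx1 (hfix x hx (mul_inv_eq_one.mp h).symm)
    have hcN : c ∈ N := N.mul_mem hx (N.inv_mem (hNα x hx))
    obtain ⟨k, r, hr, hk⟩ := Nat.exists_eq_two_pow_mul_odd (orderOf_pos c).ne'
    have hk0 : k = 0 := by
      by_contra hk0
      obtain ⟨k', rfl⟩ := Nat.exists_eq_succ_of_ne_zero hk0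
      have hy : (c ^ (2 ^ k' * r)) ^ 2 = 1 := by
        rw [← pow_mul, show 2 ^ k' * r * 2 = orderOf c by rw [hk, pow_succ]; ring, pow_orderOf_eq_one]
      have hyi : (c ^ (2 ^ k' * r))⁻¹ = c ^ (2 ^ k' * r) :=
        inv_eq_of_mul_eq_one_right (by rw [← sq]; exact hy)
      have h2 := hfix _ (N.pow_mem hcN _) (by
        rw [map_pow, f_inverted hα.1 x, inv_pow, hyi])
      have h3 := Nat.le_of_dvd (by positivity [hr.pos]) (orderOf_dvd_of_pow_eq_one h2)
      rw [hk, pow_succ] at h3
      have : 0 < 2 ^ k' * r := by positivity [hr.pos]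
      nlinarith
    subst hk0
    rw [pow_zero, one_mul] at hk
    exact hc1 (hinj c ⟨hk ▸ hr, f_inverted hα.1 x⟩ 1 ⟨by simp, by simp⟩
      (by rw [QuotientGroup.mk_one]; exact (QuotientGroup.eq_one_iff c).mpr hcN))
  have hq : Nat.card (G ⧸ N) ≤ B := IH (G ⧸ N) (quotAut α N hNα) (good_quot hα N hNα) hdrop
  have hGN : Nat.card G = Nat.card (G ⧸ N) * Nat.card N := card_eq_card_quotient_mul_card_subgroup N
  have hGN' : Nat.card G ≤ B * Nat.card N := hGN ▸ Nat.mul_le_mul_right _ hq
  set D := B * (2 * M ^ 2)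
  by_cases hab : ∀ a ∈ N, ∀ b ∈ N, a * b = b * a
  · set f : G → G := fun c => c * (α c)⁻¹
    have hsmall : Nat.card (f '' (N : Set G)) ≤ n + M := by
      set U : Subgroup G :=
        { carrier := {x | x ∈ N ∧ x ^ 2 = 1}
          one_mem' := ⟨N.one_mem, one_pow 2⟩
          mul_mem' := fun {a b} ha hb => ⟨N.mul_mem ha.1 hb.1, by
            rw [(show Commute a b from hab a ha.1 b hb.1).mul_pow, ha.2, hb.2, one_mul]⟩
          inv_mem' := fun {a} ha => ⟨N.inv_mem ha.1, by rw [inv_pow, ha.2, inv_one]⟩ }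
      have hUn : U.Normal := ⟨fun x hx g => ⟨hNn.conj_mem x hx.1 g, by rw [conj_pow, hx.2]; simp⟩⟩
      rcases hmin' U hUn (fun x hx => ⟨hNα x hx.1, by rw [← map_pow, hx.2, map_one]⟩)
        (fun x hx => hx.1) with hU | hU
      · refine le_add_right (le_trans (Nat.card_le_card_of_injective (fun c => (⟨c.1, ?_⟩ : Ivd α))
          (fun a b h => Subtype.ext (by simpa using congrArg Subtype.val h))) hn)
        obtain ⟨x, hx, hxc⟩ := c.2
        have hcN : c.1 ∈ N := hxc ▸ N.mul_mem hx (N.inv_mem (hNα x hx))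
        refine ⟨?_, hxc ▸ f_inverted hα.1 x⟩
        obtain ⟨k, r, hr, hk⟩ := Nat.exists_eq_two_pow_mul_odd (orderOf_pos c.1).ne'
        rcases k with _ | k
        · rw [hk, pow_zero, one_mul]; exact hr
        · exfalso
          have h2 : c.1 ^ (2 ^ k * r) ∈ U := ⟨N.pow_mem hcN _, by
            rw [← pow_mul, show 2 ^ k * r * 2 = orderOf c.1 by rw [hk, pow_succ]; ring, pow_orderOf_eq_one]⟩
          rw [hU, mem_bot] at h2
          have h3 := Nat.le_of_dvd (by positivity [hr.pos]) (orderOf_dvd_of_pow_eq_one h2)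
          rw [hk, pow_succ] at h3
          have : 0 < 2 ^ k * r := by positivity [hr.pos]
          nlinarith
      · refine le_add_left (le_trans (Nat.card_le_card_of_injective (fun c => (⟨c.1, ?_⟩ : ↥(N ⊓ Fx)))
          (fun a b h => Subtype.ext (by simpa using congrArg Subtype.val h))) hm)
        obtain ⟨x, hx, hxc⟩ := c.2
        have hcN : c.1 ∈ N := hxc ▸ N.mul_mem hx (N.inv_mem (hNα x hx))
        refine ⟨hcN, ?_⟩
        have hc2 : c.1 ^ 2 = 1 := (hU.ge hcN).2
        show α c.1 = c.1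
        rw [show α c.1 = c.1⁻¹ from hxc ▸ f_inverted hα.1 x]
        exact inv_eq_of_mul_eq_one_right (by rw [← sq]; exact hc2)
    have : Nat.card N ≤ M * (n + M) := (card_le_fixed_mul α N).trans (Nat.mul_le_mul hm hsmall)
    calc Nat.card G ≤ B * (2 * M + M * (n + M)) := hGN'.trans (Nat.mul_le_mul_left _ (by omega))
      _ ≤ _ := by omega
  by_cases hN2 : Nat.card N ≤ 2 * M
  · calc Nat.card G ≤ B * (2 * M + M * (n + M)) := hGN'.trans (Nat.mul_le_mul_left _ (by omega))
      _ ≤ _ := by omega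
  obtain ⟨x, hxN, hx1, hxc⟩ := exists_large_centralizer α hα.1 hNα hm (not_le.mp hN2)
  set C := N ⊓ centralizer {x}
  have hCi : C.index ≤ D := by
    refine Nat.le_of_mul_le_mul_left ?_ (Nat.card_pos (α := C))
    rw [card_mul_index C]
    calc Nat.card G ≤ B * Nat.card N := hGN'
      _ ≤ B * (2 * M ^ 2 * Nat.card C) := Nat.mul_le_mul_left _ hxc
      _ = Nat.card C * D := by ring
  set C' := C ⊓ C.map α.toMonoidHom with hC'
  have hC'i : C'.index ≤ D * D := by
    refine (index_inf_le (H := C) (K := C.map α.toMonoidHom)).trans (Nat.mul_le_mul hCi ?_)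
    rw [index_map_of_bijective α.bijective]
    exact hCi
  have hC'α : ∀ y ∈ C', α y ∈ C' := by
    rintro y ⟨h1, ⟨w, hw, rfl⟩⟩
    exact ⟨by show α (α w) ∈ C; rw [hα.1]; exact hw, ⟨α w, h1, rfl⟩⟩
  have hcore : C'.normalCore = ⊥ := by
    have hle : C'.normalCore ≤ N := (normalCore_le C').trans (inf_le_left.trans inf_le_left)
    rcases hmin' C'.normalCore inferInstance (fun y hy g => by
        have := hC'α _ (hy (α g))
        rwa [map_mul, map_mul, map_inv, hα.1] at this) hle with h | h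
    · exact h
    · exfalso
      have hxZ : ∀ y ∈ N, y * x = x * y := fun y hy =>
        mem_centralizer_singleton_iff.mp ((normalCore_le C') (h.ge hy)).1.2
      set U : Subgroup G := N ⊓ centralizer (N : Set G)
      rcases hmin' U inferInstance (fun y hy => ⟨hNα y hy.1, fun w hw => by
          have := hy.2 (α w) (hNα w hw)
          have h2 := congrArg α this
          rwa [map_mul, map_mul, hα.1] at h2⟩) inf_le_left with hU | hU
      · exact hx1 (mem_bot.mp (hU ▸ (⟨hxN, hxZ⟩ : x ∈ U)))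
      · exact hab fun a ha b hb => (hU.ge hb).2 a ha
  have hperm : Nat.card G ≤ C'.index.factorial := by
    rw [index_eq_card, ← Nat.card_perm]
    refine Nat.card_le_card_of_injective (MulAction.toPermHom G (G ⧸ C')) ?_
    rw [← MonoidHom.ker_eq_bot_iff, ← normalCore_eq_ker, hcore]
  have := hperm.trans (Nat.factorial_le hC'i)
  omega

end

/-- The bound. -/
theorem main : ∀ n : ℕ, ∃ B : ℕ, ∀ (G : Type) [Group G] [Finite G] (α : MulAut G), Good G α →
    Nat.card (Ivd α) ≤ n → Nat.card G ≤ B := by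
  intro n
  induction n using Nat.strong_induction_on with
  | _ n IH =>
  obtain ⟨B, hB⟩ : ∃ B : ℕ, ∀ (K : Type) [Group K] [Finite K] (β : MulAut K), Good K β →
      Nat.card (Ivd β) < n → Nat.card K ≤ B := by
    rcases n with _ | n
    · exact ⟨0, fun K _ _ β _ h => absurd h (Nat.not_lt_zero _)⟩
    · obtain ⟨B, hB⟩ := IH n (Nat.lt_succ_self n)
      exact ⟨B, fun K _ _ β hβ h => hB K β hβ (Nat.le_of_lt_succ h)⟩
  set H := 1 + B * (2 * n.factorial + n.factorial * (n + n.factorial)) +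
      ((B * (2 * n.factorial ^ 2)) * (B * (2 * n.factorial ^ 2))).factorial
  set b := H * (n.factorial * n)
  refine ⟨n * b ^ (b * (b * b) + 1), fun G _ _ α hα hn => ?_⟩
  obtain ⟨j, hj⟩ := exists_stable (G := G)
  set P := Subgroup.upperCentralSeries G j with hP
  have hPα : ∀ x ∈ P, α x ∈ P := fun x hx => (characteristic_iff_map_le.mp inferInstance α) ⟨x, hx, rfl⟩
  have hcQ : center (G ⧸ P) = ⊥ := by
    rw [eq_bot_iff]
    intro q hq
    obtain ⟨g, rfl⟩ := QuotientGroup.mk_surjective q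
    exact mem_bot.mpr ((QuotientGroup.eq_one_iff g).mpr (hj ((center_quot_upper g).mp hq)))
  have hH : Nat.card (G ⧸ P) ≤ H :=
    bound_centerless hB (good_quot hα P hPα) ((card_Ivd_quot hα.1 P hPα).1.trans hn) hcQ
  have hZP : center G ≤ P := fun z hz => hj (Subgroup.mem_upperCentralSeries_succ_iff.mpr fun y => by
    rw [commutatorElement_eq_one_iff_mul_comm.mpr (mem_center_iff.mp hz y).symm]
    exact one_mem _)
  have hZα : ∀ x ∈ center G, α x ∈ center G := fun x hx =>
    (characteristic_iff_map_le.mp inferInstance α) ⟨x, hx, rfl⟩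
  set π := QuotientGroup.mk' (center G)
  set β := quotAut α (center G) hZα
  set Pb := P.map π
  have hodd : ∀ d ∈ P, Odd (orderOf (π d)) := by
    intro d hd
    obtain ⟨r, hr, hrd⟩ := upper_odd hα j d hd
    refine Odd.of_dvd_nat hr (orderOf_dvd_of_pow_eq_one ?_)
    rw [← map_pow]
    exact (QuotientGroup.eq_one_iff _).mpr hrd
  have hfixed : Nat.card ↥(Pb ⊓ β.toMonoidHom.eqLocus (MonoidHom.id _)) ≤ n.factorial := by
    refine le_trans (card_le_of_le ?_) ((card_fixed_map_le hα).trans (Nat.factorial_le hn))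
    rintro _ ⟨⟨d₁, hd₁, rfl⟩, hfix⟩
    obtain ⟨k, r, hr, hk⟩ := Nat.exists_eq_two_pow_mul_odd (orderOf_pos d₁).ne'
    obtain ⟨i, hi⟩ := exists_pow_eq_self_of_coprime (x := π d₁) (n := 2 ^ k)
      ((Nat.coprime_two_left.mpr (hodd d₁ hd₁)).pow_left k)
    obtain ⟨d, hdr, hπd⟩ : ∃ d, d ^ r = 1 ∧ π d = π d₁ := by
      refine ⟨(d₁ ^ 2 ^ k) ^ i, ?_, by rw [map_pow, map_pow, hi]⟩
      rw [← pow_mul, ← pow_mul, show 2 ^ k * (i * r) = orderOf d₁ * i by rw [hk]; ring, pow_mul,
        pow_orderOf_eq_one, one_pow]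
    rw [← hπd] at hfix ⊢
    set z := d⁻¹ * α d with hz
    have hzc : z ∈ center G := QuotientGroup.eq.mp (show π d = π (α d) from
      ((show β (π d) = π d from hfix).symm))
    have hzd : ∀ m : ℕ, Commute d (z ^ m) := fun m => mem_center_iff.mp (pow_mem hzc m) d
    have hαd : α d = d * z := by simp [hz]
    have hzr : z ^ r = 1 := by
      have h1 : (α d) ^ r = 1 := by rw [← map_pow, hdr, map_one]
      rw [hαd, (show Commute d z from by simpa using hzd 1).mul_pow, hdr, one_mul] at h1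
      exact h1
    obtain ⟨e, he⟩ := hr
    refine ⟨d * z ^ (e + 1), ?_, ?_⟩
    · show α (d * z ^ (e + 1)) = d * z ^ (e + 1)
      rw [map_mul, map_pow, show α z = z⁻¹ by rw [hz, map_mul, map_inv, hα.1]; simp, hαd, mul_assoc,
        mul_right_inj, inv_pow, mul_inv_eq_iff_eq_mul, ← pow_add,
        show e + 1 + (e + 1) = r + 1 by omega, pow_succ, hzr, one_mul]
    · rw [map_mul, map_pow, show π z = 1 from (QuotientGroup.eq_one_iff z).mpr hzc, one_pow, mul_one]
  have himg : Nat.card ((fun c => c * (β c)⁻¹) '' (Pb : Set (G ⧸ center G))) ≤ n := by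
    refine le_trans (Nat.card_le_card_of_injective (fun c => (⟨c.1, ?_⟩ : Ivd β))
      fun x y h => Subtype.ext (by simpa using congrArg Subtype.val h)) ((card_Ivd_quot hα.1 (center G) hZα).1.trans hn)
    obtain ⟨_, ⟨d, hd, rfl⟩, hdc⟩ := c.2
    refine ⟨?_, hdc ▸ f_inverted (good_quot hα (center G) hZα).1 _⟩
    rw [← hdc]
    show Odd (orderOf (π d * (π (α d))⁻¹))
    rw [← map_inv, ← map_mul]
    exact hodd _ (P.mul_mem hd (P.inv_mem (hPα d hd)))
  have hb : (center G).index ≤ b := by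
    rw [← relIndex_mul_index hZP, index_eq_card P]
    have h1 : (center G).relIndex P = Nat.card Pb := by
      have h2 := relIndex_ker (K := P) π
      rwa [QuotientGroup.ker_mk'] at h2
    rw [h1, mul_comm]
    exact Nat.mul_le_mul hH ((card_le_fixed_mul β Pb).trans (Nat.mul_le_mul hfixed himg))
  have hcs : Nat.card (commutatorSet G) ≤ b * b := by
    refine le_trans ?_ (Nat.mul_le_mul hb hb)
    rw [index_eq_card, ← Nat.card_prod]
    refine Nat.card_le_card_of_surjective
      (fun q : (G ⧸ center G) × (G ⧸ center G) => (⟨⁅q.1.out, q.2.out⁆, q.1.out, q.2.out, rfl⟩ : commutatorSet G))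
      ?_
    rintro ⟨_, g, h, rfl⟩
    refine ⟨(π g, π h), Subtype.ext ?_⟩
    obtain ⟨z₁, hz₁⟩ := QuotientGroup.mk_out_eq_mul (center G) g
    obtain ⟨z₂, hz₂⟩ := QuotientGroup.mk_out_eq_mul (center G) h
    show ⁅(π g).out, (π h).out⁆ = ⁅g, h⁆
    rw [show (π g).out = g * z₁ from hz₁, show (π h).out = h * z₂ from hz₂]
    have c1 : ∀ y, Commute (z₁ : G) y := fun y => (mem_center_iff.mp z₁.2 y).symm
    have c2 : ∀ y, Commute (z₂ : G) y := fun y => (mem_center_iff.mp z₂.2 y).symm
    simp only [commutatorElement_def, mul_inv_rev]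
    calc g * z₁ * (h * z₂) * ((z₁ : G)⁻¹ * g⁻¹) * ((z₂ : G)⁻¹ * h⁻¹)
        = g * ((z₁ : G) * (h * z₂)) * (z₁ : G)⁻¹ * g⁻¹ * (z₂ : G)⁻¹ * h⁻¹ := by simp [mul_assoc]
      _ = g * h * ((z₂ : G) * g⁻¹) * (z₂ : G)⁻¹ * h⁻¹ := by rw [(c1 _).eq]; simp [mul_assoc]
      _ = g * h * g⁻¹ * h⁻¹ := by rw [(c2 _).eq]; simp [mul_assoc]
  have hbpos : 0 < b := lt_of_lt_of_le (Nat.pos_of_ne_zero index_ne_zero_of_finite) hb
  have hG' : Nat.card (commutator G) ≤ b ^ (b * (b * b) + 1) := by
    refine (Nat.le_of_dvd ?_ (card_commutator_dvd_index_center_pow G)).trans ?_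
    · exact Nat.pow_pos (Nat.pos_of_ne_zero index_ne_zero_of_finite)
    · exact (Nat.pow_le_pow_left hb _).trans
        (Nat.pow_le_pow_right hbpos (Nat.succ_le_succ (Nat.mul_le_mul hb hcs)))
  have hab : Nat.card (G ⧸ commutator G) ≤ n := by
    have hCα : ∀ x ∈ commutator G, α x ∈ commutator G := fun x hx =>
      (characteristic_iff_map_le.mp inferInstance α) ⟨x, hx, rfl⟩
    refine le_trans (Nat.card_le_card_of_injective (fun q => (⟨q, ?_⟩ : Ivd (quotAut α (commutator G) hCα)))
      fun x y h => congrArg Subtype.val h) ((card_Ivd_quot hα.1 _ hCα).1.trans hn)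
    have hgen := closure_Ivd (good_quot hα (commutator G) hCα)
    have hmem : q ∈ closure (Ivd (quotAut α (commutator G) hCα)) := hgen ▸ mem_top q
    have hcomm : ∀ a c : G ⧸ commutator G, Commute a c := fun a c =>
      ((Normal.quotient_commutative_iff_commutator_le (N := commutator G)).mpr le_rfl).is_comm.comm a c
    induction hmem using closure_induction with
    | mem a ha => exact ha
    | one => exact ⟨by simp, by simp⟩
    | mul a c _ _ ha hc =>
      refine ⟨Odd.of_dvd_nat (ha.1.mul hc.1)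
        ((hcomm a c).orderOf_mul_dvd_lcm.trans (Nat.lcm_dvd_mul _ _)), ?_⟩
      rw [map_mul, ha.2, hc.2, mul_inv_rev]
      exact (hcomm _ _).eq
    | inv a _ ha => exact ⟨by rw [orderOf_inv]; exact ha.1, by rw [map_inv, ha.2]⟩
  rw [card_eq_card_quotient_mul_card_subgroup (commutator G)]
  exact Nat.mul_le_mul hab hG'

/-- There is a function f such that for every non-trivial finite group G and every automorphism α of G of order 2 with [G, α] = G (the elements g·α(g)⁻¹ generate G), the order of G is at most f(m), where m is the number of elements of odd order inverted by α. -/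
theorem result : ∃ f : ℕ → ℕ, ∀ (G : Type) [Group G] [Finite G] [Nontrivial G] (α : MulAut G), orderOf α = 2 →
    Subgroup.closure (Set.range (fun c : G => c * (α c)⁻¹)) = ⊤ →
      Nat.card G ≤ f (Nat.card {g : G // Odd (orderOf g) ∧ α g = g⁻¹}) := by
  choose B hB using main
  refine ⟨B, fun G _ _ _ α hα hgen => hB _ G α ⟨fun g => ?_, hgen⟩ le_rfl⟩
  have := congrArg (fun φ : MulAut G => φ g) (pow_orderOf_eq_one α)
  rw [hα] at this
  simpa [sq] using this

end Cfsg.Agent.S3928
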