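import Cfsg.Statements.S3933
import Cfsg.Agent.Lib.SylowNumbers.PrimePower
import Cfsg.Agent.Lib.CT.Integral

set_option autoImplicit false
open Cfsg

namespace Cfsg.Agent.S3933

/-- If for every prime r the number of Sylow r-subgroups of the finite group G is a prime power or 1, then G is solvable. -/
theorem result {G : Type*} [Group G] [Finite G] (h : ∀ (r : ℕ) [Fact r.Prime], Nat.card (Sylow r G) = 1 ∨ IsPrimePow (Nat.card (Sylow r G))) :
    Group.IsSolvable G := by
  refine SylowNumbers.isSolvable_of_burnside (fun H _ _ p q hp hq hpq => ?_) G h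
  obtain ⟨a, m, hm, hcard⟩ := Nat.exists_eq_pow_mul_and_not_dvd
    (Nat.card_pos (α := H)).ne' p hp.ne_one
  have hm0 : m ≠ 0 := by
    rintro rfl
    simp at hm
  refine CT.isSolvable_of_card_two_primes hp hq (Nat.card H) H a m.primeFactorsList.length rfl ?_
  rw [hcard, ← Nat.eq_prime_pow_of_unique_prime_dvd hm0 (fun {r} hr hrd => ?_)]
  rcases hpq r hr (hrd.trans (Dvd.intro_left _ hcard.symm)) with rfl | rfl
  · exact absurd hrd hm
  · rfl

end Cfsg.Agent.S3933
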