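import Cfsg.Statements.S3937
import Cfsg.Agent.Lib.Components.Fitting

set_option autoImplicit false
open Cfsg
universe u

namespace Cfsg.Agent.S3937

open Subgroup

/-- One Engel step. -/
def estep {G : Type*} [Group G] (g : G) (a : G) : G := a * g * a⁻¹ * g⁻¹

/-- Left Engel element. -/
def IsEngel {G : Type*} [Group G] (g : G) : Prop := ∀ x : G, ∃ n : ℕ, (estep g)^[n] x = 1

theorem foldl_eq {G : Type*} [Group G] (g : G) (n : ℕ) : ∀ x : G,
    (List.replicate n g).foldl (fun a b => a * b * a⁻¹ * b⁻¹) x = (estep g)^[n] x := by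
  induction n with
  | zero => intro x; rfl
  | succ n ih => intro x; rw [List.replicate_succ, List.foldl_cons, ih, Function.iterate_succ_apply]; rfl

theorem engel_iff {G : Type*} [Group G] (g : G) :
    (∀ x : G, ∃ n : ℕ, (List.replicate n g).foldl (fun a b => a * b * a⁻¹ * b⁻¹) x = 1) ↔ IsEngel g := by
  simp only [IsEngel, foldl_eq]

theorem estep_map {G H : Type*} [Group G] [Group H] (f : G →* H) (g a : G) :
    f (estep g a) = estep (f g) (f a) := by simp [estep]

theorem iterate_map {G H : Type*} [Group G] [Group H] (f : G →* H) (g x : G) (n : ℕ) :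
    f ((estep g)^[n] x) = (estep (f g))^[n] (f x) := by
  induction n with
  | zero => rfl
  | succ n ih => rw [Function.iterate_succ_apply', Function.iterate_succ_apply', estep_map, ih]

theorem engel_of_subgroup {G : Type*} [Group G] {g : G} (h : IsEngel g) (H : Subgroup G) (hg : g ∈ H) :
    IsEngel (⟨g, hg⟩ : H) := fun x => by
  obtain ⟨n, hn⟩ := h x
  exact ⟨n, H.subtype_injective (by rw [iterate_map, map_one]; exact hn)⟩

theorem engel_conj {G : Type*} [Group G] {g : G} (h : IsEngel g) (a : G) : IsEngel (MulAut.conj a g) := fun x => by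
  obtain ⟨n, hn⟩ := h ((MulAut.conj a).symm x)
  refine ⟨n, ?_⟩
  have := congrArg (MulAut.conj a).toMonoidHom hn
  rw [iterate_map, map_one] at this
  simpa [mul_assoc] using this

theorem engel_of_mem_fitting {G : Type*} [Group G] [Finite G] (g : G)
    (hg : g ∈ Cfsg.fittingSubgroup G) : IsEngel g := by
  intro x
  set F := Cfsg.fittingSubgroup G
  obtain ⟨n, hn⟩ := (isNilpotent_iff_lowerCentralSeries (S := F)).mp Components.fitting_isNilpotent
  have key : ∀ k, (estep g)^[k + 1] x ∈ F.lowerCentralSeries k := by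
    intro k
    induction k with
    | zero =>
      rw [Subgroup.lowerCentralSeries_zero, Function.iterate_one]
      exact mul_mem ((Components.fitting_normal (G := G)).conj_mem g hg x) (inv_mem hg)
    | succ k ih =>
      rw [Function.iterate_succ_apply', Subgroup.lowerCentralSeries_succ]
      exact commutator_mem_commutator ih hg
  exact ⟨n + 1, mem_bot.mp (hn ▸ key n)⟩

theorem mem_fitting_of_engel : ∀ (N : ℕ) (G : Type u) [Group G] [Finite G], Nat.card G ≤ N →
    ∀ g : G, IsEngel g → g ∈ Cfsg.fittingSubgroup G := by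
  intro N
  induction N with
  | zero => intro G _ _ h; exact absurd h (by have := Nat.card_pos (α := G); omega)
  | succ N ih =>
    intro G _ _ hcard g hg
    classical
    by_contra hgF
    -- the conjugacy class of `g`
    set D : Set G := {y | ∃ a, MulAut.conj a g = y} with hD
    have hDconj : ∀ a, ∀ y ∈ D, MulAut.conj a y ∈ D := by
      rintro a _ ⟨b, rfl⟩; exact ⟨a * b, by rw [map_mul]; rfl⟩
    have hgD : g ∈ D := ⟨1, by simp⟩
    let R : Subgroup G → Subgroup G := fun S => closure (D ∩ S)
    have hRle : ∀ S, R S ≤ S := fun S => (closure_le _).mpr Set.inter_subset_right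
    have hRmono : ∀ S T : Subgroup G, S ≤ T → R S ≤ R T := fun S T h => closure_mono fun y hy => ⟨hy.1, h hy.2⟩
    have hRin : ∀ S : Subgroup G, S ≠ ⊤ → R S ≤ (Cfsg.fittingSubgroup ↥S).map S.subtype := by
      intro S hS
      refine (closure_le _).mpr ?_
      rintro _ ⟨⟨a, rfl⟩, hy⟩
      have hlt : Nat.card ↥S ≤ N := by
        have := Components.card_lt_of_ne_top hS
        omega
      exact ⟨⟨_, hy⟩, ih ↥S hlt _ (engel_of_subgroup (engel_conj hg a) S hy), rfl⟩
    have hRnil : ∀ S : Subgroup G, S ≠ ⊤ → Group.IsNilpotent ↥(R S) := fun S hS => by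
      haveI := Components.fitting_isNilpotent (G := ↥S)
      haveI : Group.IsNilpotent ↥((Cfsg.fittingSubgroup ↥S).map S.subtype) :=
        Group.nilpotent_of_surjective _ (S.subtype.subgroupMap_surjective _)
      exact Group.nilpotent_of_mulEquiv (subgroupOfEquivOfLe (hRin S hS))
    have hnotnormal : ∀ S : Subgroup G, S ≠ ⊤ → g ∈ S → normalizer ((R S : Subgroup G) : Set G) ≠ ⊤ :=
      fun S hS hgS htop => hgF
        (Components.le_fitting (normalizer_eq_top_iff.mp htop) (hRnil S hS) (subset_closure ⟨hgD, hgS⟩))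
    -- escape inside a nilpotent subgroup
    have esc : ∀ S : Subgroup G, S ≠ ⊤ → ∀ T : Subgroup G, T ≤ S → R T ≠ R S →
        ∃ d ∈ D, d ∈ S ∧ d ∉ R T ∧ d ∈ normalizer ((R T : Subgroup G) : Set G) := by
      intro S hS T hTS hne
      obtain ⟨U, ⟨hTU, hUS, hU⟩, hmax⟩ := Set.Finite.exists_maximal
        (Set.toFinite {U : Subgroup G | R T ≤ U ∧ U ≤ R S ∧ ∀ y ∈ D, y ∈ U → y ∈ R T})
        ⟨R T, le_rfl, hRmono T S hTS, fun y _ h => h⟩
      have hUne : U.subgroupOf (R S) ≠ ⊤ := fun h => by
        rw [subgroupOf_eq_top] at h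
        refine hne (le_antisymm (hRmono T S hTS) ((closure_le _).mpr fun y hy => ?_))
        exact hU y hy.1 (h (subset_closure hy))
      haveI := hRnil S hS
      have hlt := Group.normalizerCondition_of_isNilpotent (U.subgroupOf (R S)) (lt_top_iff_ne_top.mpr hUne)
      obtain ⟨v, hv, hvU⟩ := SetLike.exists_of_lt hlt
      have hvN : (v : G) ∈ normalizer (U : Set G) := by
        rw [← subgroupOf_normalizer_eq hUS] at hv
        exact hv
      set V := normalizer (U : Set G) ⊓ R S with hV
      have hUV : U ≤ V := le_inf le_normalizer hUS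
      have hbad : ¬ ∀ y ∈ D, y ∈ V → y ∈ R T := fun hall =>
        hvU (mem_subgroupOf.mpr (hmax ⟨hTU.trans hUV, inf_le_right, hall⟩ hUV ⟨hvN, v.2⟩))
      push_neg at hbad
      obtain ⟨d, hdD, hdV, hdT⟩ := hbad
      refine ⟨d, hdD, hRle S (mem_inf.mp hdV).2, hdT, ?_⟩
      have hinv : ∀ a ∈ normalizer (U : Set G), ∀ y ∈ R T, MulAut.conj a y ∈ R T := fun a ha y hy => by
        induction hy using closure_induction with
        | mem y hy =>
          exact hU _ (hDconj a y hy.1) ((mem_normalizer_iff.mp ha y).mp (hTU (subset_closure hy)))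
        | one => simp
        | mul y z _ _ hy hz => rw [map_mul]; exact mul_mem hy hz
        | inv y _ hy => rw [map_inv]; exact inv_mem hy
      refine mem_normalizer_iff.mpr fun y => ⟨fun hy => hinv d (mem_inf.mp hdV).1 y hy, fun hy => ?_⟩
      have := hinv d⁻¹ (inv_mem (mem_inf.mp hdV).1) _ hy
      simpa [mul_assoc] using this
    -- two maximal subgroups on `g` coincide
    have huniq : ∀ M L : Subgroup G, IsCoatom M → IsCoatom L → g ∈ M → g ∈ L → M = L := by
      by_contra hcon
      let P : Set (Subgroup G) := {X | ∃ M L : Subgroup G, IsCoatom M ∧ IsCoatom L ∧ g ∈ M ∧ g ∈ L ∧ M ≠ L ∧ X = R (M ⊓ L)}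
      push_neg at hcon
      obtain ⟨M₀, L₀, h1, h2, h3, h4, h5⟩ := hcon
      obtain ⟨X, ⟨M, L, hM, hL, hgM, hgL, hne, rfl⟩, hmax⟩ := Set.Finite.exists_maximal
        (Set.toFinite P) ⟨_, M₀, L₀, h1, h2, h3, h4, h5, rfl⟩
      have hgI : g ∈ M ⊓ L := ⟨hgM, hgL⟩
      have hI : M ⊓ L ≠ ⊤ := fun h => hM.1 (top_le_iff.mp (h ▸ inf_le_left))
      have hnn := hnotnormal _ hI hgI
      have selfN : ∀ S : Subgroup G, IsCoatom S → g ∈ S → normalizer ((R S : Subgroup G) : Set G) = S := by
        intro S hS hgS
        have hle : S ≤ normalizer ((R S : Subgroup G) : Set G) := by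
          intro a ha
          have hinv : ∀ c ∈ S, ∀ y ∈ R S, MulAut.conj c y ∈ R S := fun c hc y hy => by
            induction hy using closure_induction with
            | mem y hy => exact subset_closure ⟨hDconj c y hy.1, mul_mem (mul_mem hc hy.2) (inv_mem hc)⟩
            | one => simp
            | mul y z _ _ hy hz => rw [map_mul]; exact mul_mem hy hz
            | inv y _ hy => rw [map_inv]; exact inv_mem hy
          refine mem_normalizer_iff.mpr fun y => ⟨fun hy => hinv a ha y hy, fun hy => ?_⟩
          simpa [mul_assoc] using hinv a⁻¹ (inv_mem ha) _ hy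
        exact ((eq_or_lt_of_le hle).resolve_right fun h => hnotnormal S hS.1 hgS (hS.2 _ h)).symm
      obtain ⟨K, hK, hNK⟩ := (eq_top_or_exists_le_coatom _).resolve_left hnn
      have hgK : g ∈ K := hNK (le_normalizer (subset_closure ⟨hgD, hgI⟩))
      have hin : R (M ⊓ L) ≤ K := le_trans le_normalizer hNK
      have hKeq : ∀ S : Subgroup G, IsCoatom S → g ∈ S → M ⊓ L ≤ S → R (M ⊓ L) ≠ R S → K = S := by
        intro S hS hgS hle hneR
        obtain ⟨d, hdD, hdS, hdT, hdN⟩ := esc S hS.1 _ hle hneR
        by_contra hKS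
        have h1 : R (M ⊓ L) ≤ R (K ⊓ S) := (closure_le _).mpr fun y hy =>
          subset_closure ⟨hy.1, hin (subset_closure hy), hle hy.2⟩
        exact hdT (hmax ⟨K, S, hK, hS, hgK, hgS, hKS, rfl⟩ h1
          (subset_closure ⟨hdD, hNK hdN, hdS⟩))
      by_cases hA : R (M ⊓ L) = R M
      · by_cases hB : R (M ⊓ L) = R L
        · exact hne (by rw [← selfN M hM hgM, ← selfN L hL hgL, ← hA, ← hB])
        · have hKL := hKeq L hL hgL inf_le_right hB
          rw [hA, selfN M hM hgM, hKL] at hNK
          exact hne ((eq_or_lt_of_le hNK).resolve_right fun h => hL.1 (hM.2 _ h))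
      · have hKM := hKeq M hM hgM inf_le_left hA
        by_cases hB : R (M ⊓ L) = R L
        · rw [hB, selfN L hL hgL, hKM] at hNK
          exact hne ((eq_or_lt_of_le hNK).resolve_right fun h => hM.1 (hL.2 _ h)).symm
        · exact hne (hKM.symm.trans (hKeq L hL hgL inf_le_right hB))
    rcases eq_top_or_exists_le_coatom (zpowers g) with htop | ⟨M, hM, hgM'⟩
    · have hn : Group.IsNilpotent ↥(zpowers g) := by
        haveI : IsMulCommutative ↥(zpowers g) := inferInstance
        letI : CommGroup ↥(zpowers g) := { (inferInstance : Group ↥(zpowers g)) with mul_comm := mul_comm' }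
        infer_instance
      exact hgF (Components.le_fitting (htop ▸ inferInstance) hn (mem_zpowers g))
    have hgM : g ∈ M := hgM' (mem_zpowers g)
    have hMn : ¬ M.Normal := fun hn => by
      haveI := hn
      have hlt : Nat.card ↥M ≤ N := by have := Components.card_lt_of_ne_top hM.1; omega
      exact hgF (Components.fitting_map_normal_le M
        ⟨⟨g, hgM⟩, ih ↥M hlt _ (engel_of_subgroup hg M hgM), rfl⟩)
    have hstep : ∀ c : G, estep g c ∈ M → c ∈ M := by
      intro c hc
      have hc' : c * g * c⁻¹ ∈ M := by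
        have := mul_mem hc hgM
        simpa [estep] using this
      have hgc : g ∈ M.map (MulAut.conj c⁻¹).toMonoidHom := ⟨c * g * c⁻¹, hc', by simp [mul_assoc]⟩
      have hcoatom : IsCoatom (M.map (MulAut.conj c⁻¹).toMonoidHom) := by
        refine ⟨fun h => hM.1 (map_injective (f := (MulAut.conj c⁻¹).toMonoidHom) (MulAut.conj c⁻¹).injective
          (h.trans (map_top_of_surjective _ (MulAut.conj c⁻¹).surjective).symm)), fun V hV => ?_⟩
        have h1 : M < V.comap (MulAut.conj c⁻¹).toMonoidHom := by
          refine lt_of_le_of_ne (map_le_iff_le_comap.mp hV.le) fun e => hV.ne ?_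
          rw [e, map_comap_eq_self_of_surjective (f := (MulAut.conj c⁻¹).toMonoidHom) (MulAut.conj c⁻¹).surjective]
        have h2 := congrArg (Subgroup.map (MulAut.conj c⁻¹).toMonoidHom) (hM.2 _ h1)
        rwa [map_comap_eq_self_of_surjective (f := (MulAut.conj c⁻¹).toMonoidHom) (MulAut.conj c⁻¹).surjective,
          map_top_of_surjective _ (MulAut.conj c⁻¹).surjective] at h2
      have heq := huniq M _ hM hcoatom hgM hgc
      have hNM : normalizer (M : Set G) = M :=
        ((eq_or_lt_of_le le_normalizer).resolve_right fun h => hMn (normalizer_eq_top_iff.mp (hM.2 _ h))).symm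
      rw [← hNM]
      refine inv_mem_iff.mp (mem_normalizer_iff.mpr fun y => ⟨fun hy => ?_, fun hy => ?_⟩)
      · exact heq.symm ▸ (⟨y, hy, by simp⟩ : c⁻¹ * y * c⁻¹⁻¹ ∈ M.map (MulAut.conj c⁻¹).toMonoidHom)
      · rw [heq] at hy
        obtain ⟨z, hz, hze⟩ := hy
        simp at hze
        exact hze ▸ hz
    refine hM.1 (eq_top_iff.mpr fun x _ => ?_)
    obtain ⟨n, hn⟩ := hg x
    have back : ∀ k, (estep g)^[k] x ∈ M → x ∈ M := by
      intro k
      induction k with
      | zero => exact id
      | succ k ihk =>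
        intro h
        rw [Function.iterate_succ_apply'] at h
        exact ihk (hstep _ h)
    exact back n (hn ▸ one_mem M)

/-- Baer's characterization of the Fitting subgroup: in a finite group G, an element g lies in the Fitting subgroup if and only if g is a left Engel element, that is, for every x there is n with [x, g, g, …, g] = 1 (n entries g, [a, b] = aba⁻¹b⁻¹). -/
theorem result {G : Type*} [Group G] [Finite G] (g : G) :
    g ∈ Cfsg.fittingSubgroup G ↔ ∀ x : G, ∃ n : ℕ, (List.replicate n g).foldl (fun a b => a * b * a⁻¹ * b⁻¹) x = 1 := by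
  rw [engel_iff g]
  exact ⟨engel_of_mem_fitting g, mem_fitting_of_engel (Nat.card G) G le_rfl g⟩

end Cfsg.Agent.S3937
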