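import Cfsg.Statements.S3939
import Cfsg.Agent.Lib.Transfer.Residual
import Cfsg.Agent.Lib.Transfer.Hall
import Cfsg.Agent.Lib.InvChar.Basics
import Cfsg.Agent.Lib.Fpf.Square

set_option autoImplicit false
open Cfsg
open scoped commutatorElement

namespace Cfsg.Agent.S3939

/-- In a finite group G the set of elements g such that the subgroup generated by g and x is nilpotent for every x ∈ G is exactly the hypercenter of G (the last term of the upper central series). -/
theorem result {G : Type*} [Group G] [Finite G] (g : G) :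
    (∀ x : G, Group.IsNilpotent ↥(Subgroup.closure ({x, g} : Set G))) ↔ g ∈ ⨆ n : ℕ, Subgroup.upperCentralSeries G n := by
  classical
  have hmono : Monotone (Subgroup.upperCentralSeries G) := Subgroup.upperCentralSeries_mono G
  constructor
  · intro h
    obtain ⟨n, hn⟩ := WellFoundedGT.monotone_chain_condition
      (⟨Subgroup.upperCentralSeries G, hmono⟩ : ℕ →o Subgroup G)
    set Z := Subgroup.upperCentralSeries G n with hZ
    refine Subgroup.mem_iSup_of_mem n ?_
    refine Fpf.mem_of_prime_power Z fun u hu p k hp hup => ?_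
    haveI := Fact.mk hp
    have hc : ∀ x : G, (orderOf x).Coprime p → Commute u x := by
      intro x hx
      haveI := h x
      have hu' : u ∈ Subgroup.closure ({x, g} : Set G) :=
        (Subgroup.zpowers_le.mpr (Subgroup.subset_closure (by simp))) hu
      have hcop : (orderOf (⟨u, hu'⟩ : Subgroup.closure ({x, g} : Set G))).Coprime
          (orderOf (⟨x, Subgroup.subset_closure (by simp)⟩ : Subgroup.closure ({x, g} : Set G))) := by
        rw [← Subgroup.orderOf_coe, ← Subgroup.orderOf_coe]
        exact (hx.symm.pow_left k).coprime_dvd_left (orderOf_dvd_of_pow_eq_one hup)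
      exact congrArg Subtype.val (Transfer.commute_of_coprime_of_nilpotent hcop).eq
    set C := Subgroup.centralizer (Cfsg.pResidual p G : Set G) with hCdef
    haveI : C.Normal := by rw [hCdef]; infer_instance
    have huC : u ∈ C := by
      rw [hCdef, Cfsg.pResidual, Subgroup.centralizer_closure]
      exact Subgroup.mem_centralizer_iff.mpr fun x hx => (hc x hx).eq.symm
    have hup' : IsPGroup p (Subgroup.zpowers u) := fun v => by
      obtain ⟨i, hi⟩ := Subgroup.mem_zpowers_iff.mp v.2
      refine ⟨k, Subtype.ext ?_⟩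
      show (v : G) ^ p ^ k = 1
      rw [← hi, ← zpow_natCast, ← zpow_mul, mul_comm, zpow_mul, zpow_natCast, hup, one_zpow]
    obtain ⟨P, hP⟩ := hup'.exists_le_sylow
    set N := Subgroup.normalClosure ({u} : Set G) with hNdef
    have hNP : N ≤ (P : Subgroup G) ⊓ C := by
      rw [hNdef, Subgroup.normalClosure, Subgroup.closure_le]
      intro y hy
      obtain ⟨a, ha, hay⟩ := Group.mem_conjugatesOfSet_iff.mp hy
      rw [Set.mem_singleton_iff] at ha
      subst ha
      obtain ⟨c, rfl⟩ := isConj_iff.mp hay
      have hyC : c * a * c⁻¹ ∈ C := (inferInstance : C.Normal).conj_mem a huC c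
      refine ⟨?_, hyC⟩
      have hc' : c ∈ ((Cfsg.pResidual p G ⊔ (P : Subgroup G) : Subgroup G) : Set G) := by
        rw [Transfer.pResidual_sup_sylow]; exact Subgroup.mem_top c
      rw [Subgroup.normal_mul] at hc'
      obtain ⟨o, ho, q, hq, rfl⟩ := hc'
      have hqa : q * a * q⁻¹ ∈ C := (inferInstance : C.Normal).conj_mem a huC q
      rw [show o * q * a * (o * q)⁻¹ = o * (q * a * q⁻¹) * o⁻¹ by group,
        Subgroup.mem_centralizer_iff.mp hqa o ho, mul_inv_cancel_right]
      exact (P : Subgroup G).mul_mem ((P : Subgroup G).mul_mem hq (hP (Subgroup.mem_zpowers a)))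
        ((P : Subgroup G).inv_mem hq)
    haveI : N.Normal := Subgroup.normalClosure_normal
    set π := QuotientGroup.mk' Z with hπ
    have hπs : Function.Surjective π := QuotientGroup.mk'_surjective Z
    have hbot : N.map π = ⊥ := by
      by_contra hne
      haveI : (N.map π).Normal := (inferInstance : N.Normal).map _ hπs
      have hle : N.map π ≤ ((P.mapSurjective hπs : Sylow p (G ⧸ Z)) : Subgroup (G ⧸ Z)) := by
        rw [Sylow.coe_mapSurjective]
        exact Subgroup.map_mono (hNP.trans inf_le_left)
      set P' := ((P.mapSurjective hπs : Sylow p (G ⧸ Z)) : Subgroup (G ⧸ Z))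
      obtain ⟨c, hcN, hcc, hc1⟩ := InvChar.exists_mem_center_of_normal
        (P.mapSurjective hπs).isPGroup' ((N.map π).subgroupOf P') fun hb => hne (by
          rw [← Subgroup.map_subgroupOf_eq_of_le hle, hb, Subgroup.map_bot])
      have hres : Cfsg.pResidual p (G ⧸ Z) ≤ Subgroup.centralizer {(c : G ⧸ Z)} := by
        rw [← Transfer.map_pResidual_eq hπs]
        rintro _ ⟨o, ho, rfl⟩
        obtain ⟨m, hm, hme⟩ := hcN
        rw [Subgroup.mem_centralizer_singleton_iff]
        show π o * (c : G ⧸ Z) = (c : G ⧸ Z) * π o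
        rw [show (c : G ⧸ Z) = π m from hme.symm, ← map_mul, ← map_mul,
          Subgroup.mem_centralizer_iff.mp (hNP hm).2 o ho]
      have htop : (⊤ : Subgroup (G ⧸ Z)) ≤ Subgroup.centralizer {(c : G ⧸ Z)} := by
        rw [← Transfer.pResidual_sup_sylow (P.mapSurjective hπs)]
        exact sup_le hres fun z hz => Subgroup.mem_centralizer_singleton_iff.mpr
          (congrArg Subtype.val (Subgroup.mem_center_iff.mp hcc ⟨z, hz⟩))
      obtain ⟨e, he⟩ := hπs (c : G ⧸ Z)
      have heZ : e ∈ Subgroup.upperCentralSeries G (n + 1) := by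
        rw [Subgroup.mem_upperCentralSeries_succ_iff]
        intro y
        rw [← QuotientGroup.eq_one_iff]
        show π _ = 1
        rw [map_commutatorElement, he, commutatorElement_eq_one_iff_mul_comm]
        exact (Subgroup.mem_centralizer_singleton_iff.mp (htop (Subgroup.mem_top (π y)))).symm
      have heq : Subgroup.upperCentralSeries G (n + 1) = Z := (hn (n + 1) (Nat.le_succ n)).symm
      rw [heq] at heZ
      apply hc1
      refine Subtype.ext ?_
      rw [← he]
      exact (QuotientGroup.eq_one_iff e).mpr heZ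
    rw [Subgroup.map_eq_bot_iff, hπ, QuotientGroup.ker_mk'] at hbot
    exact hbot (Subgroup.subset_normalClosure rfl)
  · intro hg x
    obtain ⟨n, hn⟩ := (Subgroup.mem_iSup_of_directed
      (Monotone.directed_le hmono)).mp hg
    set H := Subgroup.closure ({x, g} : Set G) with hH
    have hsub : ∀ i : ℕ, ∀ y : H, (y : G) ∈ Subgroup.upperCentralSeries G i →
        y ∈ Subgroup.upperCentralSeries H i := by
      intro i
      induction i with
      | zero =>
        intro y hy
        simp only [Subgroup.upperCentralSeries_zero, Subgroup.mem_bot] at hy ⊢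
        exact Subtype.ext hy
      | succ i ih =>
        intro y hy
        rw [Subgroup.mem_upperCentralSeries_succ_iff] at hy ⊢
        exact fun z => ih _ (hy z)
    set Z := Subgroup.upperCentralSeries H n
    let x' : H := ⟨x, Subgroup.subset_closure (by simp)⟩
    let g' : H := ⟨g, Subgroup.subset_closure (by simp)⟩
    have hcyc : ∀ y : H, (y : H ⧸ Z) ∈ Subgroup.zpowers (x' : H ⧸ Z) := by
      have h1 : H ≤ ((Subgroup.zpowers (x' : H ⧸ Z)).comap (QuotientGroup.mk' Z)).map H.subtype := by
        refine (Subgroup.closure_le _).mpr ?_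
        rintro y (rfl | rfl)
        · exact ⟨x', Subgroup.mem_zpowers _, rfl⟩
        · refine ⟨g', ?_, rfl⟩
          show (g' : H ⧸ Z) ∈ Subgroup.zpowers (x' : H ⧸ Z)
          rw [(QuotientGroup.eq_one_iff g').mpr (hsub n g' hn)]
          exact one_mem _
      intro y
      obtain ⟨z, hz, hze⟩ := h1 y.2
      rw [← Subtype.ext hze]
      exact hz
    refine ⟨⟨n + 1, eq_top_iff.mpr fun y _ => ?_⟩⟩
    rw [Subgroup.mem_upperCentralSeries_succ_iff]
    intro z
    rw [← QuotientGroup.eq_one_iff]
    show QuotientGroup.mk' Z _ = 1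
    rw [map_commutatorElement, commutatorElement_eq_one_iff_mul_comm]
    obtain ⟨i, hi⟩ := Subgroup.mem_zpowers_iff.mp (hcyc y)
    obtain ⟨j, hj⟩ := Subgroup.mem_zpowers_iff.mp (hcyc z)
    show (y : H ⧸ Z) * (z : H ⧸ Z) = (z : H ⧸ Z) * (y : H ⧸ Z)
    rw [← hi, ← hj, ← zpow_add, ← zpow_add, add_comm]

end Cfsg.Agent.S3939
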