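import Cfsg.Statements.S3941
import Mathlib

set_option autoImplicit false
open Cfsg

namespace Cfsg.Agent.S3941

/-- Let n ≥ 5 and p an odd prime with p ≤ n, and suppose that every proper subgroup of the alternating group of degree n whose order is divisible by p has a normal Sylow p-subgroup. Then n = p. -/
theorem result (n p : ℕ) (hn : 5 ≤ n) [Fact p.Prime] (hp : p ≠ 2) (hpn : p ≤ n)
    (h : ∀ H : Subgroup ↥(alternatingGroup (Fin n)), H ≠ ⊤ → p ∣ Nat.card ↥H → Cfsg.IsPClosed p ↥H) : n = p := by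
  classical
  rename_i hp'
  have hpp := hp'.out
  by_contra hne
  have hnp : p + 1 ≤ n := by omega
  have hp3 : 3 ≤ p := by
    have := hpp.two_le
    omega
  haveI : Nontrivial (Fin n) := Fin.nontrivial_iff_two_le.mpr (by omega)
  let emb : Fin p → Fin n := fun i => ⟨i, by omega⟩
  have hemb : Function.Injective emb := fun i j hij => Fin.ext (Fin.mk.inj hij)
  set l := List.ofFn emb with hl
  have hnd : l.Nodup := List.nodup_ofFn.mpr hemb
  have hlen : l.length = p := List.length_ofFn
  set c := l.formPerm with hc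
  have hcval : ∀ i (hi : i + 1 < p), c ⟨i, by omega⟩ = ⟨i + 1, by omega⟩ := by
    intro i hi
    have := List.formPerm_apply_lt_getElem l hnd i (by omega)
    simpa [hl, emb] using this
  have hcfix : ∀ x : Fin n, p ≤ x.val → c x = x := by
    intro x hx
    refine List.formPerm_apply_of_notMem fun hm => ?_
    obtain ⟨i, hi⟩ := List.mem_ofFn.mp hm
    have := i.isLt
    have := congrArg Fin.val hi
    simp only [emb] at this
    omega
  have hcyc : c.IsCycle := List.isCycle_formPerm hnd (by omega)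
  have hsupp : c.support.card = p := by
    rw [hc, List.support_formPerm_of_nodup l hnd (fun x hx => by
      have := congrArg List.length hx
      rw [hlen, List.length_singleton] at this
      omega), List.toFinset_card_of_nodup hnd, hlen]
  have hcord : orderOf c = p := hcyc.orderOf.trans hsupp
  have hsign : Equiv.Perm.sign c = 1 := by
    rw [hcyc.sign, hsupp, (hpp.odd_of_ne_two hp).neg_one_pow, neg_neg]
  -- the key witness
  suffices ∃ (z : Fin n) (σ : Equiv.Perm (Fin n)) (q : ℕ), q.Prime ∧ q ≠ p ∧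
      Equiv.Perm.sign σ = 1 ∧ σ z = z ∧ c z = z ∧ orderOf (c * σ * c⁻¹ * σ⁻¹) = q by
    obtain ⟨z, σ, q, hq, hqp, hσ, hσz, hcz, hord⟩ := this
    let H : Subgroup (alternatingGroup (Fin n)) :=
      (MulAction.stabilizer (Equiv.Perm (Fin n)) z).comap (alternatingGroup (Fin n)).subtype
    let c' : H := ⟨⟨c, Equiv.Perm.mem_alternatingGroup.mpr hsign⟩, hcz⟩
    let σ' : H := ⟨⟨σ, Equiv.Perm.mem_alternatingGroup.mpr hσ⟩, hσz⟩
    have hHtop : H ≠ ⊤ := by
      intro ht
      obtain ⟨a, ha⟩ := exists_ne z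
      obtain ⟨b, hb⟩ : ∃ b, b ∉ ({z, a} : Finset (Fin n)) := by
        by_contra! hall
        have := Finset.card_le_card (fun x _ => hall x : (Finset.univ : Finset (Fin n)) ⊆ {z, a})
        rw [Finset.card_univ, Fintype.card_fin] at this
        have : ({z, a} : Finset (Fin n)).card ≤ 2 := Finset.card_le_two
        omega
      simp only [Finset.mem_insert, Finset.mem_singleton, not_or] at hb
      have h3 := Equiv.Perm.isThreeCycle_swap_mul_swap_same (Ne.symm ha) (Ne.symm hb.1) (Ne.symm hb.2)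
      have hmem : (⟨_, h3.mem_alternatingGroup⟩ : alternatingGroup (Fin n)) ∈ H := by
        rw [ht]; exact Subgroup.mem_top _
      have hfix : (Equiv.swap z a * Equiv.swap z b) z = z := hmem
      rw [Equiv.Perm.mul_apply, Equiv.swap_apply_left,
        Equiv.swap_apply_of_ne_of_ne hb.1 hb.2] at hfix
      exact hb.1 hfix
    have hc' : orderOf c' = p := by
      rw [← Subgroup.orderOf_coe, ← Subgroup.orderOf_coe]; exact hcord
    have hclosed := h H hHtop (hc' ▸ orderOf_dvd_natCard c')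
    obtain ⟨P, hP⟩ := (IsPGroup.of_card (p := p) (n := 1)
      (G := Subgroup.zpowers c') (by rw [Nat.card_zpowers, hc', pow_one])).exists_le_sylow
    have hcP : c' ∈ (P : Subgroup H) := hP (Subgroup.mem_zpowers c')
    have hmem : c' * σ' * c'⁻¹ * σ'⁻¹ ∈ (P : Subgroup H) := by
      rw [mul_assoc c' σ', mul_assoc c']
      exact mul_mem hcP ((hclosed P).conj_mem _ (inv_mem hcP) σ')
    obtain ⟨k, hk⟩ := IsPGroup.iff_orderOf.mp P.isPGroup' ⟨_, hmem⟩
    rw [← Subgroup.orderOf_coe, ← Subgroup.orderOf_coe, ← Subgroup.orderOf_coe] at hk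
    have hk' : q = p ^ k := hord ▸ hk
    exact hqp ((Nat.prime_dvd_prime_iff_eq hq hpp).mp (hq.dvd_of_dvd_pow (dvd_of_eq hk')))
  have hlt : ∀ {i j : ℕ} (hi : i < n) (hj : j < n), i ≠ j → (⟨i, hi⟩ : Fin n) ≠ ⟨j, hj⟩ :=
    fun _ _ hij h => hij (Fin.mk.inj h)
  by_cases hp5 : 4 ≤ p
  · refine ⟨⟨p, hnp⟩, Equiv.swap ⟨0, by omega⟩ ⟨1, by omega⟩ * Equiv.swap ⟨1, by omega⟩ ⟨2, by omega⟩,
      3, Nat.prime_three, by omega, ?_, ?_, hcfix _ le_rfl, ?_⟩
    · rw [map_mul, Equiv.Perm.sign_swap (by simp [Fin.ext_iff]), Equiv.Perm.sign_swap (by simp [Fin.ext_iff])]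
      rfl
    · simp only [Equiv.Perm.mul_apply, Equiv.swap_apply_def, Fin.ext_iff]
      split_ifs <;> simp_all <;> omega
    · have e0 := hcval 0 (by omega)
      have e1 := hcval 1 (by omega)
      have e2 := hcval 2 (by omega)
      simp only [Nat.reduceAdd] at e0 e1 e2
      set x0 : Fin n := ⟨0, by omega⟩ with h0
      set x1 : Fin n := ⟨1, by omega⟩ with h1
      set x2 : Fin n := ⟨2, by omega⟩ with h2
      set x3 : Fin n := ⟨3, by omega⟩ with h3
      have hs : c * (Equiv.swap x0 x1 * Equiv.swap x1 x2) * c⁻¹ * (Equiv.swap x0 x1 * Equiv.swap x1 x2)⁻¹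
          = Equiv.swap x1 x3 * Equiv.swap x1 x0 := by
        rw [← conj_mul, ← Equiv.swap_apply_apply, ← Equiv.swap_apply_apply, e0, e1, e2, mul_inv_rev,
          Equiv.swap_inv, Equiv.swap_inv, ← mul_assoc, Equiv.swap_comm x1 x2, Equiv.swap_comm x2 x3,
          Equiv.swap_mul_swap_mul_swap (by simp [h1, h2, h3, Fin.ext_iff]) (by simp [h1, h2, h3, Fin.ext_iff]),
          Equiv.swap_comm x0 x1]
      rw [hs]
      exact (Equiv.Perm.isThreeCycle_swap_mul_swap_same (by simp [h1, h3, Fin.ext_iff])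
        (by simp [h0, h1, Fin.ext_iff]) (by simp [h0, h3, Fin.ext_iff])).orderOf
  · have hp' : p = 3 := by omega
    subst hp'
    refine ⟨⟨4, by omega⟩, Equiv.swap ⟨0, by omega⟩ ⟨1, by omega⟩ * Equiv.swap ⟨0, by omega⟩ ⟨3, by omega⟩,
      2, Nat.prime_two, by omega, ?_, ?_, hcfix _ (show 3 ≤ 4 by omega), ?_⟩
    · rw [map_mul, Equiv.Perm.sign_swap (by simp [Fin.ext_iff]), Equiv.Perm.sign_swap (by simp [Fin.ext_iff])]
      rfl
    · simp only [Equiv.Perm.mul_apply, Equiv.swap_apply_def, Fin.ext_iff]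
      split_ifs <;> simp_all <;> omega
    · have e0 := hcval 0 (by omega)
      have e1 := hcval 1 (by omega)
      have e3 := hcfix ⟨3, by omega⟩ le_rfl
      simp only [Nat.reduceAdd] at e0 e1 e3
      set x0 : Fin n := ⟨0, by omega⟩ with h0
      set x1 : Fin n := ⟨1, by omega⟩ with h1
      set x2 : Fin n := ⟨2, by omega⟩ with h2
      set x3 : Fin n := ⟨3, by omega⟩ with h3
      have hs : c * (Equiv.swap x0 x1 * Equiv.swap x0 x3) * c⁻¹ * (Equiv.swap x0 x1 * Equiv.swap x0 x3)⁻¹
          = Equiv.swap x0 x3 * Equiv.swap x1 x2 := by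
        rw [← conj_mul, ← Equiv.swap_apply_apply, ← Equiv.swap_apply_apply, e0, e1, e3, mul_inv_rev,
          Equiv.swap_inv, Equiv.swap_inv]
        ext x
        simp only [Equiv.Perm.mul_apply, Equiv.swap_apply_def, h0, h1, h2, h3, Fin.ext_iff]
        split_ifs <;> simp_all
      rw [hs]
      have h01 : x1 ≠ x2 := by simp [h1, h2, Fin.ext_iff]
      refine orderOf_eq_prime ?_ fun he => h01 ?_
      · ext x
        simp only [pow_two, Equiv.Perm.mul_apply, Equiv.Perm.one_apply, Equiv.swap_apply_def, h0, h1, h2,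
          h3, Fin.ext_iff]
        split_ifs <;> simp_all
      · have h4 := Equiv.Perm.ext_iff.mp he x1
        rw [Equiv.Perm.mul_apply, Equiv.swap_apply_left,
          Equiv.swap_apply_of_ne_of_ne (by simp [h0, h2, Fin.ext_iff]) (by simp [h2, h3, Fin.ext_iff])] at h4
        exact h4.symm

end Cfsg.Agent.S3941
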