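import Cfsg.Statements.S4249
import Mathlib
import Cfsg.Agent.Lib.FGS.NilpotentMaximal
import Cfsg.Agent.Lib.FGS.Hughes
import Cfsg.Agent.Lib.InvChar.Basics

set_option autoImplicit false
open Cfsg
open scoped Pointwise
set_option linter.all false

namespace Cfsg.Agent.S4249

open Subgroup
open scoped IsMulCommutative

universe u

variable {G : Type u} [Group G] [Finite G]

/-- Subgroups of nilpotent groups are nilpotent. -/
lemma isNilpotent_of_injective {A : Type*} [Group A] {B : Type*} [Group B] [Group.IsNilpotent B]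
    (f : A →* B) (hf : Function.Injective f) : Group.IsNilpotent A :=
  Subgroup.isNilpotent_of_ker_le_center f (((MonoidHom.ker_eq_bot_iff f).2 hf).le.trans bot_le)

/-- The index is `p`. -/
lemma index_eq {p : ℕ} (hp : p.Prime) (H : Subgroup G) [H.Normal] (hne : H ≠ ⊤)
    (hexp : ∀ g, g ∉ H → g ^ p = 1) (hG : ¬ IsPGroup p G) : H.index = p := by
  haveI := Fact.mk hp
  -- a prime `r ≠ p` dividing the order of `H`
  have hquot : IsPGroup p (G ⧸ H) := by
    intro g
    obtain ⟨x, rfl⟩ := QuotientGroup.mk'_surjective H g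
    refine ⟨1, ?_⟩
    rw [pow_one, ← map_pow]
    by_cases hx : x ∈ H
    · exact (QuotientGroup.eq_one_iff _).2 (pow_mem hx p)
    · rw [hexp x hx, map_one]
  obtain ⟨r, hr, hrp, hrH⟩ : ∃ r, r.Prime ∧ r ≠ p ∧ r ∣ Nat.card H := by
    by_contra hc
    push Not at hc
    apply hG
    have hHp : IsPGroup p H := by
      refine IsPGroup.of_card (n := (Nat.card H).factorization p) ?_
      refine Nat.eq_pow_of_factorization_eq_single Nat.card_pos.ne' (Finsupp.ext fun r => ?_)
      by_cases hrp : r = p
      · subst hrp; simp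
      rw [Finsupp.single_eq_of_ne hrp]
      by_contra hne'
      have hm := Finsupp.mem_support_iff.2 hne'
      rw [Nat.support_factorization, Nat.mem_primeFactors] at hm
      exact hc r hm.1 hrp hm.2.1
    obtain ⟨a, ha⟩ := hHp.exists_card_eq
    obtain ⟨b, hb⟩ := hquot.exists_card_eq
    exact IsPGroup.of_card (n := b + a)
      (by rw [H.card_eq_card_quotient_mul_card_subgroup, ha, hb, pow_add])
  haveI := Fact.mk hr
  obtain ⟨R0⟩ : Nonempty (Sylow r H) := inferInstance
  set R := (R0 : Subgroup H).map H.subtype with hR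
  have hRr : IsPGroup r R := R0.2.map H.subtype
  have hR1 : R ≠ ⊥ := by
    rw [hR, Ne, map_eq_bot_iff_of_injective _ H.subtype_injective]
    exact R0.ne_bot_of_dvd_card hrH
  set V := R ⊓ centralizer (R : Set G) with hVdef
  have hV1 : V ≠ ⊥ := Transfer.center_ne_bot hRr hR1
  have hVH : V ≤ H := inf_le_left.trans (map_subtype_le _)
  haveI : IsMulCommutative V := ⟨⟨fun a b => Subtype.ext (b.2.2 a a.2.1)⟩⟩
  have hNV : normalizer (R : Set G) ≤ normalizer (V : Set G) :=
    Transfer.normalizer_le_normalizer_center R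
  have htop : normalizer (V : Set G) ⊔ H = ⊤ :=
    eq_top_iff.2 ((Sylow.normalizer_sup_eq_top R0).ge.trans (sup_le_sup_right hNV H))
  set T := normalizer (V : Set G) with hT
  obtain ⟨P⟩ : Nonempty (Sylow p T) := inferInstance
  let π : T →* G ⧸ H := (QuotientGroup.mk' H).comp T.subtype
  have hπ : Function.Surjective π := by
    intro g
    obtain ⟨x, rfl⟩ := QuotientGroup.mk'_surjective H g
    have hx : x ∈ T ⊔ H := htop ▸ mem_top x
    obtain ⟨t, ht, h, hh, rfl⟩ := mem_sup_of_normal_right.1 hx
    exact ⟨⟨t, ht⟩, by simp [π, (QuotientGroup.eq_one_iff h).2 hh]⟩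
  have hπP : (P : Subgroup T).map π = ⊤ := by
    have h1 := (P.mapSurjective hπ).2
    have h3 := (P.mapSurjective hπ).3 (Q := ⊤) (hquot.to_subgroup _) le_top
    simpa using h3.symm
  by_contra hidx
  obtain ⟨k, hk⟩ := hquot.exists_card_eq
  rw [← index_eq_card] at hk
  haveI : Nontrivial (G ⧸ H) := by
    rw [← Finite.one_lt_card_iff_nontrivial, ← index_eq_card]
    exact one_lt_index_of_ne_top hne
  haveI := hquot.center_nontrivial
  obtain ⟨zc, hzc⟩ := exists_ne (1 : center (G ⧸ H))
  have hz1 : (zc : G ⧸ H) ≠ 1 := fun h => hzc (Subtype.ext h)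
  have hzlt : zpowers (zc : G ⧸ H) < ⊤ := by
    refine lt_top_iff_ne_top.2 fun h => hidx ?_
    have hcard : Nat.card (G ⧸ H) = orderOf (zc : G ⧸ H) := by
      rw [← Nat.card_zpowers, h, card_top]
    rw [index_eq_card, hcard]
    refine (orderOf_eq_prime ?_ hz1)
    obtain ⟨x, hx⟩ := QuotientGroup.mk'_surjective H (zc : G ⧸ H)
    rw [← hx, ← map_pow, hexp x ?_, map_one]
    intro hxH
    exact hz1 (hx ▸ (QuotientGroup.eq_one_iff x).2 hxH)
  obtain ⟨xb, -, hxb⟩ := SetLike.exists_of_lt hzlt
  obtain ⟨z, hzP, hz⟩ : ∃ z ∈ (P : Subgroup T), π z = (zc : G ⧸ H) :=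
    Subgroup.mem_map.1 (hπP ▸ mem_top _)
  obtain ⟨x, hxP, hx⟩ : ∃ x ∈ (P : Subgroup T), π x = xb :=
    Subgroup.mem_map.1 (hπP ▸ mem_top _)
  have hmem : ∀ t : T, π t = 1 ↔ (t : G) ∈ H := fun t => QuotientGroup.eq_one_iff _
  have hzH : (z : G) ∉ H := fun h => hz1 (hz ▸ (hmem z).2 h)
  have hxzH : ∀ i : ℕ, ((x * z ^ i : T) : G) ∉ H := by
    intro i h
    apply hxb
    have h1 := (hmem _).2 h
    rw [map_mul, map_pow, hx, hz] at h1
    rw [eq_inv_of_mul_eq_one_left h1]
    exact inv_mem (pow_mem (mem_zpowers _) i)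
  have hxH : (x : G) ∉ H := by simpa using hxzH 0
  let ρ : T →* MulAut V := V.normalizerMonoidHom
  have hnorm : ∀ t : T, (t : G) ∉ H → ∀ v : V, ∏ j ∈ Finset.range p, ρ (t ^ j) v = 1 :=
    fun t ht v => FGS.norm_eq_one V hVH hexp t ht v
  have hord : ∀ t : T, (t : G) ∉ H → t ^ p = 1 := fun t ht => Subtype.ext (hexp _ ht)
  have hVr : IsPGroup r V := hRr.to_le inf_le_left
  set K := (P : Subgroup T) ⊓ π.ker with hK
  haveI : Fintype K := Fintype.ofFinite _
  have hKx : ∀ k ∈ K, x * k * x⁻¹ ∈ K := fun k hk =>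
    mem_inf.2 ⟨mul_mem (mul_mem hxP hk.1) (inv_mem hxP), (MonoidHom.normal_ker π).conj_mem k hk.2 x⟩
  have hKout : ∀ k ∈ K, ((k * x : T) : G) ∉ H := by
    intro k hk h
    exact hxH ((mul_mem_cancel_left ((hmem k).1 hk.2)).1 h)
  have hKcard : (r : ℕ).Coprime (Fintype.card K) := by
    obtain ⟨m, hm⟩ := (P.2.to_le (inf_le_left : K ≤ P)).exists_card_eq
    rw [← Nat.card_eq_fintype_card, hm]
    exact Nat.Coprime.pow_right m ((Nat.coprime_primes hr hp).2 hrp)
  have hfix : ∀ k ∈ K, ρ k = 1 := by
    intro k hk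
    ext v : 1
    have key := fun a => FGS.pow_card_eq_prod ρ K x hp hKx (fun k hk => hord _ (hKout k hk))
      (fun k hk => hnorm _ (hKout k hk)) a
    have h1 : ρ k (v ^ Fintype.card K) = v ^ Fintype.card K := by
      rw [key v, map_prod]
      exact Fintype.prod_equiv (Equiv.mulLeft (⟨k, hk⟩ : K)) _ _ fun l => by
        simp [← MulAut.mul_apply, ← map_mul]
    obtain ⟨m, hm⟩ := (IsPGroup.iff_orderOf.1 hVr) v
    obtain ⟨i, hi⟩ := exists_pow_eq_self_of_coprime (x := v) (n := Fintype.card K)
      (by rw [hm]; exact Nat.Coprime.pow_right _ hKcard.symm |>.symm.symm)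
    show ρ k v = v
    conv_lhs => rw [← hi, map_pow, h1, hi]
  have hcomm : Commute (ρ x) (ρ z) := by
    show ρ x * ρ z = ρ z * ρ x
    have hc : x * z * (z * x)⁻¹ ∈ K := by
      refine mem_inf.2 ⟨mul_mem (mul_mem hxP hzP) (inv_mem (mul_mem hzP hxP)), ?_⟩
      rw [MonoidHom.mem_ker, map_mul, map_inv, map_mul, map_mul, hx, hz,
        mul_inv_eq_one, ← (mem_center_iff.1 zc.2 xb)]
    have h2 := hfix _ hc
    rwa [map_mul, map_inv, map_mul, map_mul, mul_inv_eq_one] at h2
  haveI : Nontrivial V := (nontrivial_iff_ne_bot V).2 hV1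
  obtain ⟨v, hv⟩ := exists_ne (1 : V)
  have hvp : v ^ p = 1 := FGS.pow_prime_eq_one ρ hp hcomm (hord z hzH) (hnorm z hzH)
    (fun i => hnorm _ (hxzH i)) v
  obtain ⟨m, hm⟩ := (IsPGroup.iff_orderOf.1 hVr) v
  apply hv
  rw [← orderOf_eq_one_iff]
  exact Nat.eq_one_of_dvd_coprimes (((Nat.coprime_primes hr hp).2 hrp).pow_left m) hm.dvd
    (orderOf_dvd_of_pow_eq_one hvp)

/-- The kernel of a splitting action of prime order is nilpotent. -/
theorem isNilpotent_aux : ∀ (n : ℕ) (G : Type u) [Group G] [Finite G],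
    Nat.card G = n → ∀ (p : ℕ), p.Prime → ∀ H : Subgroup G, H.Normal → H.index = p →
      (∀ g, g ∉ H → g ^ p = 1) → Group.IsNilpotent H := by
  intro n
  induction n using Nat.strong_induction_on with
  | _ n ih =>
  intro G _ _ hn p hp H hHn hidx hexp
  subst hn
  haveI := hHn
  haveI := Fact.mk hp
  obtain ⟨x0, hx0⟩ : ∃ x, x ∉ H := by
    by_contra h
    push Not at h
    rw [(eq_top_iff' H).2 h, index_top] at hidx
    exact hp.one_lt.ne hidx
  -- proper subgroups outside `H`
  have hsub : ∀ L : Subgroup G, L ≠ ⊤ → ¬ L ≤ H → ∀ K : Subgroup G, K ≤ L → K ≤ H →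
      Group.IsNilpotent K := by
    intro L hL hLH K hKL hKH
    haveI : (H.subgroupOf L).Normal := normal_subgroupOf
    have hi : (H.subgroupOf L).index = p := by
      have h1 : H.relIndex L ∣ p := hidx ▸ relIndex_dvd_index_of_normal H L
      rcases (Nat.dvd_prime hp).1 h1 with h2 | h2
      · exact absurd (relIndex_eq_one.1 h2) hLH
      · exact h2
    have hn := ih _ (Basics.card_lt_card_of_ne_top hL) L rfl p hp _ inferInstance hi
      (fun g hg => Subtype.ext (hexp g fun h => hg (mem_subgroupOf.2 h)))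
    let f : K →* H.subgroupOf L := (inclusion hKL).codRestrict _ fun k => hKH k.2
    exact isNilpotent_of_injective f fun a b h =>
      Subtype.ext (congrArg (fun t : H.subgroupOf L => ((t : L) : G)) h)
  have hquo : ∀ (N : Subgroup G) [N.Normal], N ≠ ⊥ → N ≤ H →
      Group.IsNilpotent (H.map (QuotientGroup.mk' N)) := by
    intro N hNn hN1 hNH
    haveI := hNn
    have hcm : (H.map (QuotientGroup.mk' N)).comap (QuotientGroup.mk' N) = H :=
      comap_map_eq_self (by rw [QuotientGroup.ker_mk']; exact hNH)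
    refine ih _ (Basics.card_quotient_lt hN1) (G ⧸ N) rfl p hp _
      (hHn.map _ (QuotientGroup.mk'_surjective N)) ?_ ?_
    · rw [← index_comap_of_surjective _ (QuotientGroup.mk'_surjective N), hcm, hidx]
    · intro g hg
      obtain ⟨y, rfl⟩ := QuotientGroup.mk'_surjective N g
      rw [← map_pow, hexp y fun h => hg (mem_map_of_mem _ h), map_one]
  by_cases hH1 : H = ⊥
  · subst hH1
    exact Group.isNilpotent_of_subsingleton
  -- solvable normal subgroup
  obtain ⟨N0, hN0n, hN01, hN0H, hN0s⟩ : ∃ N : Subgroup G, N.Normal ∧ N ≠ ⊥ ∧ N ≤ H ∧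
      Group.IsSolvable N := by
    by_contra hc
    push Not at hc
    apply hc H hHn hH1 le_rfl
    by_cases h2 : ∀ r : ℕ, r.Prime → r ∣ Nat.card H → r = 2
    · haveI : Fact (Nat.Prime 2) := ⟨Nat.prime_two⟩
      refine Basics.isSolvable_of_isPGroup (p := 2) (IsPGroup.of_card
        (n := (Nat.card H).factorization 2) ?_)
      refine Nat.eq_pow_of_factorization_eq_single Nat.card_pos.ne' (Finsupp.ext fun r => ?_)
      by_cases hr2 : r = 2
      · subst hr2; simp
      rw [Finsupp.single_eq_of_ne hr2]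
      by_contra hne
      have hm := Finsupp.mem_support_iff.2 hne
      rw [Nat.support_factorization, Nat.mem_primeFactors] at hm
      exact hr2 (h2 r hm.1 hm.2.1)
    push Not at h2
    obtain ⟨r, hr, hrH, hr2⟩ := h2
    haveI := Fact.mk hr
    obtain ⟨R0⟩ : Nonempty (Sylow r H) := inferInstance
    set R := (R0 : Subgroup H).map H.subtype with hR
    have hRr : IsPGroup r R := R0.2.map H.subtype
    have hR1 : R ≠ ⊥ := by
      rw [hR, Ne, map_eq_bot_iff_of_injective _ H.subtype_injective]
      exact R0.ne_bot_of_dvd_card hrH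
    have hnot : ¬ normalizer (R : Set G) ≤ H := fun h => hx0 ((sup_le h le_rfl)
      ((Sylow.normalizer_sup_eq_top R0).ge (mem_top x0)))
    have key : ∀ K : Subgroup H, K.map H.subtype ≠ ⊥ → IsPGroup r (K.map H.subtype) →
        normalizer (R : Set G) ≤ normalizer (K.map H.subtype : Set G) →
        Cfsg.HasNormalPComplement r (normalizer (K : Set H)) := by
      intro K hK1 hKr hle
      set L := normalizer (K.map H.subtype : Set G) with hL
      have hL1 : L ≠ ⊤ := fun h => hc _ (normalizer_eq_top_iff.1 h) hK1 (map_subtype_le _)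
        (Basics.isSolvable_of_isPGroup hKr)
      have hLn := hsub L hL1 (fun h => hnot (hle.trans h)) (L ⊓ H) inf_le_left inf_le_right
      let f : normalizer (K : Set H) →* ↥(L ⊓ H) :=
        (H.subtype.comp (normalizer (K : Set H)).subtype).codRestrict _ fun k =>
          ⟨le_normalizer_map H.subtype (mem_map_of_mem H.subtype k.2), (k : H).2⟩
      haveI : Group.IsNilpotent (normalizer (K : Set H)) :=
        isNilpotent_of_injective f fun a b h =>
          Subtype.ext (Subtype.ext (congrArg (fun t : ↥(L ⊓ H) => (t : G)) h))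
      exact Basics.hasNormalPComplement_of_nilpotent r
    have hJ : (Cfsg.thompsonSubgroupOf r (R0 : Subgroup H)).map H.subtype =
        Cfsg.thompsonSubgroupOf r R :=
      Transfer.map_thompsonSubgroupOf _ _ H.subtype_injective.injOn
    have hZ : ((R0 : Subgroup H) ⊓ centralizer ((R0 : Subgroup H) : Set H)).map H.subtype =
        R ⊓ centralizer (R : Set G) :=
      (Transfer.center_map_of_injOn _ H.subtype_injective.injOn).symm
    have hnpc : Cfsg.HasNormalPComplement r H := by
      refine Transfer.hasNormalPComplement_of_thompsonHyp_aux hr hr2 (Nat.card H) rfl R0 ⟨?_, ?_⟩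
      · refine key _ ?_ ?_ ?_
        · rw [hJ]; exact Transfer.thompsonSubgroupOf_ne_bot hRr hR1
        · rw [hJ]; exact hRr.to_le (Transfer.thompsonSubgroupOf_le R)
        · rw [hJ]; exact Transfer.normalizer_le_normalizer_thompson R
      · refine Transfer.hasNormalPComplement_of_le (Transfer.centralizer_le_normalizer_self _)
          (key _ ?_ ?_ ?_)
        · rw [hZ]; exact Transfer.center_ne_bot hRr hR1
        · rw [hZ]; exact hRr.to_le inf_le_left
        · rw [hZ]; exact Transfer.normalizer_le_normalizer_center R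
    haveI := Transfer.pResidual_characteristic H r
    set C := (Cfsg.pResidual r H).map H.subtype with hC
    haveI hCn : C.Normal := ConjAct.normal_of_characteristic_of_normal
    by_cases hC1 : Cfsg.pResidual r H = ⊥
    · have h1 := Transfer.isPGroup_quotient_pResidual (G := H) (p := r)
      refine Basics.isSolvable_of_isPGroup (p := r)
        (h1.of_equiv ((QuotientGroup.quotientMulEquivOfEq hC1).trans QuotientGroup.quotientBot))
    · refine absurd ?_ (hc C hCn ?_ (map_subtype_le _))
      · have hCH : C < H := by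
          refine lt_of_le_of_ne (map_subtype_le _) fun h => ?_
          apply Transfer.hasNormalPComplement_iff.1 hnpc
          rw [Nat.card_congr (equivMapOfInjective (Cfsg.pResidual r H) H.subtype
            H.subtype_injective).toEquiv, ← hC, h]
          exact hrH
        have hmem : ∀ g ∈ C ⊔ zpowers x0, g ∈ H → g ∈ C := by
          intro g hg hgH
          obtain ⟨c, hcC, y, hy, rfl⟩ := mem_sup_of_normal_left.1 hg
          have hyH : y ∈ H := (mul_mem_cancel_left (hCH.le hcC)).1 hgH
          obtain ⟨i, rfl⟩ := mem_zpowers_iff.1 hy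
          suffices x0 ^ i = 1 by rwa [this, mul_one]
          have hdvd : (p : ℤ) ∣ i := by
            have h0 : orderOf (QuotientGroup.mk' H x0) = p := orderOf_eq_prime
              (by rw [← map_pow, hexp x0 hx0, map_one])
              (fun h => hx0 ((QuotientGroup.eq_one_iff x0).1 h))
            rw [← h0]
            exact orderOf_dvd_iff_zpow_eq_one.2 (by rw [← map_zpow]; exact (QuotientGroup.eq_one_iff _).2 hyH)
          obtain ⟨m, rfl⟩ := hdvd
          rw [zpow_mul, zpow_natCast, hexp x0 hx0, one_zpow]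
        have hL : C ⊔ zpowers x0 ≠ ⊤ := fun h => hCH.not_ge fun g hg =>
          hmem g (h ▸ mem_top g) hg
        haveI := hsub _ hL (fun h => hx0 (h (mem_sup_right (mem_zpowers x0)))) C le_sup_left hCH.le
        infer_instance
      · rwa [hC, Ne, map_eq_bot_iff_of_injective _ H.subtype_injective]
  haveI := hN0n
  obtain ⟨N, hNn, hNN0, hN1, hmin⟩ := Basics.exists_minimal_normal hN01
  haveI := hNn
  have hNH : N ≤ H := hNN0.trans hN0H
  obtain ⟨hab, r, hr, hexpN, hNr⟩ :=
    Basics.minimal_normal_solvable hN1 (Basics.isSolvable_of_le hNN0 hN0s) hmin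
  haveI := hab
  haveI := Fact.mk hr
  by_contra hnot
  have huniq : ∀ M : Subgroup G, M.Normal → M ≤ H → M ≠ ⊥ → N ≤ M := by
    intro M hMn hMH hM1
    by_contra hle
    have hint : M ⊓ N = ⊥ := (hmin (M ⊓ N) inferInstance inf_le_right).resolve_right
      fun h => hle (h ▸ inf_le_left)
    haveI := hquo N hN1 hNH
    haveI := hMn
    haveI := hquo M hM1 hMH
    apply hnot
    refine isNilpotent_of_injective
      (((QuotientGroup.mk' M).subgroupMap H).prod ((QuotientGroup.mk' N).subgroupMap H))
      fun a b h => ?_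
    have h1 := congrArg (fun t : ↥(H.map (QuotientGroup.mk' M)) => (t : G ⧸ M)) (congrArg Prod.fst h)
    have h2 := congrArg (fun t : ↥(H.map (QuotientGroup.mk' N)) => (t : G ⧸ N)) (congrArg Prod.snd h)
    have h3 : (a : G)⁻¹ * b ∈ M ⊓ N := ⟨QuotientGroup.eq.1 h1, QuotientGroup.eq.1 h2⟩
    rw [hint, mem_bot, inv_mul_eq_one] at h3
    exact Subtype.ext h3
  haveI := hquo N hN1 hNH
  -- the subgroups `S ⊔ N`
  have hSN : ∀ s : ℕ, s.Prime → ∀ S0 : Sylow s H,
      ((S0 : Subgroup H).map H.subtype ⊔ N).Normal := by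
    intro s hs S0
    haveI := Fact.mk hs
    let f := (QuotientGroup.mk' N).subgroupMap H
    let Sb := S0.mapSurjective ((QuotientGroup.mk' N).subgroupMap_surjective H)
    have hSbn : (Sb : Subgroup (H.map (QuotientGroup.mk' N))).Normal :=
      Sylow.normal_of_normalizerCondition Group.normalizerCondition_of_isNilpotent Sb
    haveI := Sb.characteristic_of_normal hSbn
    haveI : (H.map (QuotientGroup.mk' N)).Normal := hHn.map _ (QuotientGroup.mk'_surjective N)
    haveI hn : ((Sb : Subgroup (H.map (QuotientGroup.mk' N))).map (H.map (QuotientGroup.mk' N)).subtype).Normal :=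
      ConjAct.normal_of_characteristic_of_normal
    have e : ((Sb : Subgroup (H.map (QuotientGroup.mk' N))).map (H.map (QuotientGroup.mk' N)).subtype).comap (QuotientGroup.mk' N) =
        (S0 : Subgroup H).map H.subtype ⊔ N := by
      rw [Sylow.coe_mapSurjective, map_map,
        show (H.map (QuotientGroup.mk' N)).subtype.comp ((QuotientGroup.mk' N).subgroupMap H) =
          (QuotientGroup.mk' N).comp H.subtype from rfl,
        ← map_map, comap_map_eq, QuotientGroup.ker_mk']
    rw [← e]
    infer_instance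
  by_cases hall : ∀ s : ℕ, s.Prime → s ≠ r → ∀ S0 : Sylow s H,
      (S0 : Subgroup H).map H.subtype ⊔ N ≠ H
  · -- every `r'`-element centralises `N`
    apply hnot
    have hcent : ∀ g ∈ H, (orderOf g).Coprime r → ∀ v ∈ N, Commute g v := by
      intro g
      induction hg : orderOf g using Nat.strong_induction_on generalizing g with
      | _ o io =>
      intro hgH hcop v hv
      by_cases ho : o = 1
      · rw [orderOf_eq_one_iff.1 (hg.trans ho)]; exact Commute.one_left v
      obtain ⟨s, hs, hsd⟩ := Nat.exists_prime_and_dvd ho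
      haveI := Fact.mk hs
      have hsr : s ≠ r := fun h =>
        hs.one_lt.ne' (Nat.eq_one_of_dvd_coprimes hcop hsd (dvd_of_eq h))
      obtain ⟨a, b, ha, hb, hab', ⟨k, hk⟩, hbc⟩ := Transfer.exists_pPart_mul (p := s) g
      have haH : a ∈ H := zpowers_le.2 hgH ha
      have hbH : b ∈ H := zpowers_le.2 hgH hb
      have hbo : orderOf b ∣ o := by
        rw [← hg, ← Nat.card_zpowers, ← Nat.card_zpowers]
        exact card_dvd_of_le (zpowers_le.2 hb)
      have hblt : orderOf b < o := lt_of_le_of_ne
        (Nat.le_of_dvd (hg ▸ orderOf_pos g) hbo) fun h =>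
          hs.one_lt.ne' (Nat.eq_one_of_dvd_coprimes (h ▸ hbc) hsd dvd_rfl)
      have c2 : Commute b v := io _ hblt b rfl hbH (hcop.coprime_dvd_left hbo) v hv
      have c1 : Commute a v := by
        have hpg : IsPGroup s (zpowers (⟨a, haH⟩ : H)) := by
          obtain ⟨j, -, hj⟩ := (Nat.dvd_prime_pow hs).1 hk
          exact IsPGroup.of_card (n := j) (by rw [Nat.card_zpowers, Subgroup.orderOf_mk, hj])
        obtain ⟨S0, hS0⟩ := hpg.exists_le_sylow
        set S := (S0 : Subgroup H).map H.subtype with hSdef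
        haveI := hSN s hs S0
        have hSH : S ⊔ N ≤ H := sup_le (map_subtype_le _) hNH
        have hlt := lt_of_le_of_ne hSH (hall s hs hsr S0)
        set L := (S ⊔ N) ⊔ zpowers x0 with hLdef
        have hmem : ∀ g ∈ L, g ∈ H → g ∈ S ⊔ N := by
          intro g hg hgH
          obtain ⟨c, hcC, y, hy, rfl⟩ := mem_sup_of_normal_left.1 hg
          have hyH : y ∈ H := (mul_mem_cancel_left (hSH hcC)).1 hgH
          obtain ⟨i, rfl⟩ := mem_zpowers_iff.1 hy
          suffices x0 ^ i = 1 by rwa [this, mul_one]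
          have hdvd : (p : ℤ) ∣ i := by
            have h0 : orderOf (QuotientGroup.mk' H x0) = p := orderOf_eq_prime
              (by rw [← map_pow, hexp x0 hx0, map_one])
              (fun h => hx0 ((QuotientGroup.eq_one_iff x0).1 h))
            rw [← h0]
            exact orderOf_dvd_iff_zpow_eq_one.2 (by rw [← map_zpow]; exact (QuotientGroup.eq_one_iff _).2 hyH)
          obtain ⟨m, rfl⟩ := hdvd
          rw [zpow_mul, zpow_natCast, hexp x0 hx0, one_zpow]
        have hL : L ≠ ⊤ := fun h => hlt.not_ge fun g hg => hmem g (h ▸ mem_top g) hg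
        haveI := hsub L hL (fun h => hx0 (h (mem_sup_right (mem_zpowers x0)))) (S ⊔ N)
          le_sup_left hSH
        have haS : a ∈ S ⊔ N := mem_sup_left ⟨_, hS0 (mem_zpowers _), rfl⟩
        have h4 : Commute (⟨a, haS⟩ : ↥(S ⊔ N)) ⟨v, mem_sup_right hv⟩ := by
          refine Transfer.commute_of_coprime_of_nilpotent ?_
          rw [Subgroup.orderOf_mk, Subgroup.orderOf_mk]
          exact Nat.Coprime.coprime_dvd_left hk (Nat.Coprime.coprime_dvd_right
            (orderOf_dvd_of_pow_eq_one (hexpN v hv)) (((Nat.coprime_primes hs hr).2 hsr).pow_left k))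
        exact h4.map (S ⊔ N).subtype
      rw [← hab']
      exact c1.mul_left c2
    obtain ⟨R0⟩ : Nonempty (Sylow r H) := inferInstance
    have hNR : N.subgroupOf H ≤ (R0 : Subgroup H) := by
      refine IsPGroup.le_sylow_of_normal ?_ R0
      exact hNr.of_equiv (subgroupOfEquivOfLe hNH).symm
    have hR0n : (R0 : Subgroup H).Normal := by
      have hn := hSN r hr R0
      have : (R0 : Subgroup H).map H.subtype ⊔ N = (R0 : Subgroup H).map H.subtype := by
        rw [sup_eq_left]
        calc N = (N.subgroupOf H).map H.subtype := (map_subgroupOf_eq_of_le hNH).symm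
          _ ≤ _ := map_mono hNR
      rw [this] at hn
      have := hn.comap H.subtype
      rwa [comap_map_eq_self_of_injective H.subtype_injective] at this
    haveI := hR0n
    haveI : Group.IsNilpotent (R0 : Subgroup H) := R0.2.isNilpotent
    haveI hNn' : ((N.subgroupOf H).subgroupOf (R0 : Subgroup H)).Normal := normal_subgroupOf
    have hbot : (N.subgroupOf H).subgroupOf (R0 : Subgroup H) ≠ ⊥ := fun h => hN1 (by
      rw [← map_subgroupOf_eq_of_le hNH, ← map_subgroupOf_eq_of_le hNR, h, Subgroup.map_bot, Subgroup.map_bot])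
    obtain ⟨w, hwN, hwc, hw1⟩ := InvChar.exists_mem_center_of_normal R0.2 _ hbot
    set M := N ⊓ centralizer (H : Set G) with hM
    haveI : (centralizer (H : Set G)).Normal := normal_centralizer
    have hwM : ((w : H) : G) ∈ M := by
      refine ⟨hwN, fun g hgH => ?_⟩
      obtain ⟨a, b, ha, hb, hab', ⟨k, hk⟩, hbc⟩ := Transfer.exists_pPart_mul (p := r) g
      have haH : a ∈ H := zpowers_le.2 hgH ha
      have c2 : Commute b ((w : H) : G) := hcent b (zpowers_le.2 hgH hb) hbc _ hwN
      have haR : (⟨a, haH⟩ : H) ∈ (R0 : Subgroup H) := by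
        have hpg : IsPGroup r (zpowers (⟨a, haH⟩ : H)) := by
          obtain ⟨j, -, hj⟩ := (Nat.dvd_prime_pow hr).1 hk
          exact IsPGroup.of_card (n := j) (by rw [Nat.card_zpowers, Subgroup.orderOf_mk, hj])
        obtain ⟨S0, hS0⟩ := hpg.exists_le_sylow
        haveI := Sylow.unique_of_normal R0 hR0n
        rw [Subsingleton.elim R0 S0]
        exact hS0 (mem_zpowers _)
      have c1 : Commute a ((w : H) : G) :=
        congrArg (fun t : (R0 : Subgroup H) => ((t : H) : G)) (mem_center_iff.1 hwc ⟨_, haR⟩)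
      rw [← hab']
      exact c1.mul_left c2
    have hNM : N ≤ centralizer (H : Set G) := by
      have hM1 : M ≠ ⊥ := by
        intro h
        rw [h, mem_bot] at hwM
        exact hw1 (Subtype.ext (Subtype.ext hwM))
      exact (huniq M inferInstance (inf_le_left.trans hNH) hM1).trans inf_le_right
    refine Subgroup.isNilpotent_of_ker_le_center ((QuotientGroup.mk' N).subgroupMap H) ?_
    intro h hh
    have hhN : (h : G) ∈ N :=
      (QuotientGroup.eq_one_iff _).1 (congrArg Subtype.val (MonoidHom.mem_ker.1 hh))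
    exact mem_center_iff.2 fun g => Subtype.ext (hNM hhN g g.2)
  push Not at hall
  obtain ⟨s, hs, hsr, S0, hS0⟩ := hall
  haveI := Fact.mk hs
  set S := (S0 : Subgroup H).map H.subtype with hSdef
  have hSs : IsPGroup s S := S0.2.map H.subtype
  have hSH : S ≤ H := map_subtype_le _
  set T := normalizer (N : Set G) with hT
  have hTtop : T = ⊤ := normalizer_eq_top_iff.2 hNn
  obtain ⟨x, hxS, hxH⟩ : ∃ x ∈ normalizer (S : Set G), x ∉ H := by
    by_contra h
    push Not at h
    exact hx0 ((sup_le (show normalizer (S : Set G) ≤ H from h) le_rfl)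
      ((Sylow.normalizer_sup_eq_top S0).ge (mem_top x0)))
  let inT : G → T := fun g => ⟨g, hTtop ▸ mem_top g⟩
  let ρ : T →* MulAut N := N.normalizerMonoidHom
  set K := S.subgroupOf T with hK
  haveI : Fintype K := Fintype.ofFinite _
  have hKx : ∀ k ∈ K, inT x * k * (inT x)⁻¹ ∈ K := fun k hk =>
    mem_subgroupOf.2 ((mem_normalizer_iff.1 hxS _).1 hk)
  have hKout : ∀ k ∈ K, ((k * inT x : T) : G) ∉ H := fun k hk h =>
    hxH ((mul_mem_cancel_left (hSH hk)).1 h)
  have key := fun a => FGS.pow_card_eq_prod ρ K (inT x) hp hKx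
    (fun k hk => Subtype.ext (hexp _ (hKout k hk)))
    (fun k hk => FGS.norm_eq_one N hNH hexp _ (hKout k hk)) a
  set C0 := N ⊓ centralizer (S : Set G) with hC0
  have hHx : H ⊔ zpowers x = ⊤ := by
    rw [← index_eq_one]
    refine (((Nat.dvd_prime hp).1 (hidx ▸ index_dvd_of_le (le_sup_left : H ≤ H ⊔ zpowers x))).resolve_right ?_)
    intro h
    have hlt : H < H ⊔ zpowers x := lt_of_le_of_ne le_sup_left fun he =>
      hxH (he.ge (mem_sup_right (mem_zpowers x)))
    exact (index_strictAnti hlt).ne (h.trans hidx.symm)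
  have hC0n : C0.Normal := by
    rw [← normalizer_eq_top_iff, eq_top_iff, ← hHx, ← hS0]
    have hnx : x ∈ normalizer (C0 : Set G) := by
      rw [mem_normalizer_iff_map_conj_eq]
      refine (map_inf _ _ _ (MulAut.conj x).injective).trans ?_
      congr 1
      · exact (mem_normalizer_iff_map_conj_eq.1 (show x ∈ normalizer (N : Set G) by rw [← hT, hTtop]; exact mem_top x))
      · ext c
        simp only [mem_map, mem_centralizer_iff]
        constructor
        · rintro ⟨d, hd, rfl⟩ g hg
          have h1 := hd _ ((mem_normalizer_iff''.1 hxS g).1 hg)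
          simp only [MonoidHom.coe_coe, MulAut.conj_apply]
          calc g * (x * d * x⁻¹) = x * ((x⁻¹ * g * x) * d) * x⁻¹ := by group
            _ = x * (d * (x⁻¹ * g * x)) * x⁻¹ := by rw [h1]
            _ = x * d * x⁻¹ * g := by group
        · intro hc
          refine ⟨x⁻¹ * c * x, fun g hg => ?_, by simp [mul_assoc]⟩
          have h1 := hc _ ((mem_normalizer_iff.1 hxS g).1 hg)
          calc g * (x⁻¹ * c * x) = x⁻¹ * ((x * g * x⁻¹) * c) * x := by group
            _ = x⁻¹ * (c * (x * g * x⁻¹)) * x := by rw [h1]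
            _ = x⁻¹ * c * x * g := by group
    refine sup_le (sup_le ?_ ?_) (zpowers_le.2 hnx)
    · intro g hg
      rw [mem_normalizer_iff]
      intro c
      constructor
      · intro hc
        rw [hc.2 g hg, mul_inv_cancel_right]
        exact hc
      · intro hc
        have h1 := hc.2 g hg
        have h2 : g * c * g⁻¹ = c := by
          have : g * (g * c * g⁻¹) * g⁻¹ = g * c * g⁻¹ := by rw [h1]; group
          exact mul_left_cancel (mul_right_cancel this)
        rwa [h2] at hc
    · intro g hg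
      rw [mem_normalizer_iff]
      intro c
      have hcc : ∀ d ∈ N, g * d * g⁻¹ = d := fun d hd => by
        rw [show g * d = d * g from congrArg Subtype.val (mul_comm' (⟨g, hg⟩ : N) ⟨d, hd⟩),
          mul_inv_cancel_right]
      constructor
      · intro hc; rw [hcc c hc.1]; exact hc
      · intro hc
        have hcN : c ∈ N := by
          have := hNn.conj_mem _ hc.1 g⁻¹
          simpa [mul_assoc] using this
        rwa [hcc c hcN] at hc
  have hcs : (Nat.card S).Coprime r := by
    obtain ⟨m, hm⟩ := hSs.exists_card_eq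
    rw [hm]
    exact ((Nat.coprime_primes hs hr).2 hsr).pow_left m
  rcases hmin C0 hC0n inf_le_left with hbot | htop
  · -- all `S`-norms are trivial, hence `N` is trivial
    apply hN1
    rw [eq_bot_iff]
    intro v hv
    have h1 : ((⟨v, hv⟩ : N) ^ Fintype.card K : N).1 ∈ C0 := by
      refine ⟨(((⟨v, hv⟩ : N) ^ Fintype.card K : N)).2, fun g hg => ?_⟩
      have h2 : ρ (inT g) (∏ k : K, ρ (k : T) ⟨v, hv⟩) = ∏ k : K, ρ (k : T) ⟨v, hv⟩ := by
        rw [map_prod]
        exact Fintype.prod_equiv (Equiv.mulLeft (⟨inT g, hg⟩ : K)) _ _ fun l => by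
          simp [← MulAut.mul_apply, ← map_mul]
      rw [← key] at h2
      have h3 : g * ((⟨v, hv⟩ : N) ^ Fintype.card K : N).1 * g⁻¹ =
          ((⟨v, hv⟩ : N) ^ Fintype.card K : N).1 := congrArg Subtype.val h2
      exact mul_inv_eq_iff_eq_mul.1 h3
    rw [hbot, mem_bot, Subgroup.coe_pow] at h1
    have hK' : Fintype.card K = Nat.card S := by
      rw [← Nat.card_eq_fintype_card]
      exact Nat.card_congr (subgroupOfEquivOfLe (hTtop ▸ le_top)).toEquiv
    rw [mem_bot, ← orderOf_eq_one_iff]
    refine Nat.eq_one_of_dvd_coprimes hcs ?_ (orderOf_dvd_of_pow_eq_one (hexpN v hv))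
    exact hK' ▸ orderOf_dvd_of_pow_eq_one h1
  · -- `S` centralises `N`
    apply hnot
    have hc : ∀ (a : S) (b : N), Commute (S.subtype a) (N.subtype b) := fun a b => (htop.ge b.2).2 a a.2
    haveI : Group.IsNilpotent S := hSs.isNilpotent
    haveI : Group.IsNilpotent N := hNr.isNilpotent
    let f := S.subtype.noncommCoprod N.subtype hc
    have hr' : f.range = H := by
      show (S.subtype.noncommCoprod N.subtype hc).range = H
      rw [MonoidHom.noncommCoprod_range, range_subtype, range_subtype, hS0]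
    exact hr' ▸ Group.nilpotent_of_surjective f.rangeRestrict f.rangeRestrict_surjective


/-- Let G be a finite group and p a prime such that G is not a p-group, and suppose the Hughes subgroup H_p(G), generated by all elements g with g^p ≠ 1, is a proper subgroup. Then H_p(G) is nilpotent and has index p in G. -/
theorem result {G : Type*} [Group G] [Finite G] (p : ℕ) (hp : p.Prime) (hG : ¬ IsPGroup p G)
    (hH : Subgroup.closure {g : G | g ^ p ≠ 1} ≠ ⊤) :
    Group.IsNilpotent (Subgroup.closure {g : G | g ^ p ≠ 1}) ∧ (Subgroup.closure {g : G | g ^ p ≠ 1}).index = p := by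
  set H := Subgroup.closure {g : G | g ^ p ≠ 1} with hHdef
  have hexp : ∀ g, g ∉ H → g ^ p = 1 := fun g hg => by
    by_contra h
    exact hg (Subgroup.subset_closure h)
  haveI : H.Normal := Subgroup.normalizer_eq_top_iff.1 (eq_top_iff.2 fun g _ =>
    Subgroup.mem_normalizer_iff_map_conj_eq.2 (by
      rw [hHdef, MonoidHom.map_closure]
      congr 1
      ext y
      constructor
      · rintro ⟨z, hz, rfl⟩ h1
        apply hz
        exact (MulAut.conj g).injective (by rw [map_pow, map_one]; exact h1)
      · intro hy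
        refine ⟨(MulAut.conj g).symm y, fun h1 => hy ?_, by simp [mul_assoc]⟩
        rw [← map_pow, MulEquiv.map_eq_one_iff] at h1
        exact h1))
  have hidx := index_eq hp H hH hexp hG
  exact ⟨isNilpotent_aux _ G rfl p hp H inferInstance hidx hexp, hidx⟩

end Cfsg.Agent.S4249
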