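import Cfsg.Statements.S3946
import Cfsg.Agent.S4249
import Cfsg.Agent.Lib.Basics.Tools

set_option autoImplicit false
open Cfsg

namespace Cfsg.Agent.S3946

/-- Call an automorphism α of order n of a group G splitting when x · α(x) · α²(x) ⋯ α^(n−1)(x) = 1 for every x ∈ G. A finite group admitting a splitting automorphism of prime order is nilpotent (this contains the case of a fixed-point-free automorphism of prime order). -/
theorem result {G : Type*} [Group G] [Finite G] (α : MulAut G) (hp : (orderOf α).Prime)
    (hsplit : ∀ x : G, (((List.range (orderOf α)).map (fun i : ℕ => (α ^ i) x)).prod = 1)) : Group.IsNilpotent G := by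
  set p := orderOf α with hpdef
  haveI := Fact.mk hp
  set Z : Subgroup (MulAut G) := Subgroup.zpowers α with hZ
  set φ : ↥Z →* MulAut G := Z.subtype with hφ
  let X := G ⋊[φ] ↥Z
  haveI : Finite X := Finite.of_equiv _ (SemidirectProduct.equivProd (φ := φ)).symm
  let a : ↥Z := ⟨α, Subgroup.mem_zpowers α⟩
  have hao : orderOf a = p := by rw [← Subgroup.orderOf_coe]
  -- powers of an element of the coset `G α`
  have hpow : ∀ (g : G) (k : ℕ), ((SemidirectProduct.inl g * SemidirectProduct.inr a : X)) ^ k =
      SemidirectProduct.inl (((List.range k).map (fun i : ℕ => (α ^ i) g)).prod) *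
        SemidirectProduct.inr (a ^ k) := by
    intro g k
    induction k with
    | zero => simp
    | succ k ih =>
      rw [pow_succ, ih, List.range_succ, List.map_append, List.prod_append, List.map_singleton,
        List.prod_singleton, map_mul, pow_succ, map_mul]
      simp only [mul_assoc]
      congr 1
      rw [← mul_assoc, ← mul_assoc]
      congr 1
      rw [← mul_inv_eq_iff_eq_mul, show ((α ^ k) g) = φ (a ^ k) g from rfl,
        SemidirectProduct.inl_aut, map_inv]
  have hcoset : ∀ g : G, ((SemidirectProduct.inl g * SemidirectProduct.inr a : X)) ^ p = 1 := by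
    intro g
    rw [hpow, hsplit, map_one, one_mul, ← hao, pow_orderOf_eq_one, map_one]
  -- every element outside `G` has order dividing `p`
  have hout : ∀ x : X, x.right ≠ 1 → x ^ p = 1 := by
    intro x hx
    have hxo : orderOf x.right = p := by
      refine orderOf_eq_prime ?_ hx
      have h1 : orderOf (x.right : ↥Z) ∣ Nat.card ↥Z := orderOf_dvd_natCard _
      rw [Nat.card_zpowers] at h1
      exact orderOf_dvd_iff_pow_eq_one.mp h1
    obtain ⟨j, hj⟩ : ∃ j : ℕ, x.right ^ j = a := by
      have h1 : Subgroup.zpowers x.right = ⊤ :=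
        Subgroup.eq_top_of_card_eq _ (by rw [Nat.card_zpowers, hxo, Nat.card_zpowers])
      have h2 : a ∈ Subgroup.zpowers x.right := h1 ▸ Subgroup.mem_top a
      exact mem_powers_iff_mem_zpowers.mpr h2
    have hall : ∀ i : ℕ, x.right ^ i = a → (x ^ i) ^ p = 1 := by
      intro i hi
      have hr : (x ^ i).right = a := by
        rw [← hi]
        exact map_pow (SemidirectProduct.rightHom : X →* ↥Z) x i
      rw [show x ^ i = SemidirectProduct.inl (x ^ i).left * SemidirectProduct.inr a by
        rw [← hr, SemidirectProduct.inl_left_mul_inr_right]]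
      exact hcoset _
    have h1 := hall j hj
    have h2 := hall (j + p) (by rw [pow_add, ← hxo, pow_orderOf_eq_one, mul_one, hj])
    rw [← pow_mul] at h1 h2
    have hjp : ¬ p ∣ j := by
      intro hd
      obtain ⟨t, rfl⟩ := hd
      rw [pow_mul, ← hxo, pow_orderOf_eq_one, one_pow] at hj
      exact hp.ne_one (by rw [← hao, ← hj, orderOf_one])
    have h3 : orderOf x ∣ Nat.gcd (j * p) ((j + p) * p) :=
      Nat.dvd_gcd (orderOf_dvd_of_pow_eq_one h1) (orderOf_dvd_of_pow_eq_one h2)
    rw [Nat.gcd_mul_right, Nat.gcd_self_add_right, (hp.coprime_iff_not_dvd.mpr hjp).symm.gcd_eq_one,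
      one_mul] at h3
    exact orderOf_dvd_iff_pow_eq_one.mp h3
  have hinj : Function.Injective (SemidirectProduct.inl : G →* X) := SemidirectProduct.inl_injective
  by_cases hX : IsPGroup p X
  · exact (hX.of_injective _ hinj).isNilpotent
  have hle : Subgroup.closure {x : X | x ^ p ≠ 1} ≤ (SemidirectProduct.inl : G →* X).range := by
    rw [Subgroup.closure_le]
    intro x hx
    refine ⟨x.left, ?_⟩
    have hr : x.right = 1 := by
      by_contra h
      exact hx (hout x h)
    exact SemidirectProduct.ext rfl hr.symm
  have hne : Subgroup.closure {x : X | x ^ p ≠ 1} ≠ ⊤ := by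
    intro h
    rw [h, top_le_iff] at hle
    obtain ⟨g, hg⟩ := (hle ▸ Subgroup.mem_top (SemidirectProduct.inr a : X) :
      (SemidirectProduct.inr a : X) ∈ (SemidirectProduct.inl : G →* X).range)
    have h2 : (1 : ↥Z) = a := congrArg SemidirectProduct.right hg
    exact hp.ne_one (by rw [← hao, ← h2, orderOf_one])
  obtain ⟨hnil, hidx⟩ := Cfsg.Agent.S4249.result p hp hX hne
  have hrange : Nat.card (SemidirectProduct.inl : G →* X).range = Nat.card G :=
    (Nat.card_congr ((SemidirectProduct.inl : G →* X).ofInjective hinj).toEquiv).symm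
  have hcX : Nat.card X = Nat.card G * p := by
    rw [Nat.card_congr SemidirectProduct.equivProd, Nat.card_prod, Nat.card_zpowers]
  have heq : Subgroup.closure {x : X | x ^ p ≠ 1} = (SemidirectProduct.inl : G →* X).range := by
    refine Subgroup.eq_of_le_of_card_ge hle (le_of_eq ?_)
    have h1 := (Subgroup.closure {x : X | x ^ p ≠ 1}).card_mul_index
    rw [hidx, hcX] at h1
    rw [hrange, Nat.eq_of_mul_eq_mul_right hp.pos h1]
  rw [heq] at hnil
  exact Group.nilpotent_of_mulEquiv (_h := hnil) ((SemidirectProduct.inl : G →* X).ofInjective hinj).symm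

end Cfsg.Agent.S3946
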