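import Cfsg.Statements.S3949
import Mathlib

set_option autoImplicit false
open Cfsg

namespace Cfsg.Agent.S3949

/-- Let G be a finite group and α an automorphism of G of order 2 such that the elements g·α(g)⁻¹ generate G. Let j be a positive integer such that 2^j divides the order of no element inverted by α. Then the set of values of the j-th iterate of the map c ↦ c·α(c)⁻¹ is exactly the set of elements of odd order inverted by α. -/
theorem result {G : Type*} [Group G] [Finite G] (α : MulAut G) (hα : orderOf α = 2) (hG : Subgroup.closure (Set.range (fun c : G => c * (α c)⁻¹)) = ⊤)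
    (j : ℕ) (hj : ∀ g : G, α g = g⁻¹ → ¬ 2 ^ j ∣ orderOf g) :
    Set.range ((fun c : G => c * (α c)⁻¹)^[j]) = {g : G | Odd (orderOf g) ∧ α g = g⁻¹} := by
  set c : G → G := fun c => c * (α c)⁻¹ with hc
  have hα2 : ∀ g : G, α (α g) = g := fun g => by
    rw [← MulAut.mul_apply, ← pow_two, show α ^ 2 = 1 from hα ▸ pow_orderOf_eq_one α, MulAut.one_apply]
  have hinv : ∀ g, α (c g) = (c g)⁻¹ := fun g => by
    show α (g * (α g)⁻¹) = (g * (α g)⁻¹)⁻¹
    rw [map_mul, map_inv, hα2, mul_inv_rev, inv_inv]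
  have hsq : ∀ g, α g = g⁻¹ → c g = g ^ 2 := fun g hg => by
    show g * (α g)⁻¹ = g ^ 2
    rw [hg, inv_inv, pow_two]
  have hiter : ∀ (i : ℕ) (g : G), α g = g⁻¹ → c^[i] g = g ^ 2 ^ i := by
    intro i
    induction i with
    | zero => intro g _; simp
    | succ i ih =>
      intro g hg
      rw [Function.iterate_succ_apply, hsq g hg, ih _ (by rw [map_pow, hg, inv_pow]), ← pow_mul,
        ← pow_succ']
  obtain ⟨i, rfl⟩ : ∃ i, j = i + 1 := by
    rcases j with _ | i
    · exact absurd (by simp) (hj 1 (by simp))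
    · exact ⟨i, rfl⟩
  ext g
  constructor
  · rintro ⟨u, rfl⟩
    rw [Function.iterate_succ_apply, hiter i _ (hinv u)]
    refine ⟨?_, by rw [map_pow, hinv, inv_pow]⟩
    obtain ⟨k, m, hm, hkm⟩ := Nat.exists_eq_two_pow_mul_odd (orderOf_pos (c u)).ne'
    have hki : k ≤ i := by
      by_contra hlt
      exact hj _ (hinv u) (hkm ▸ (pow_dvd_pow 2 (Nat.not_le.mp hlt)).trans (dvd_mul_right _ m))
    refine hm.of_dvd_nat (orderOf_dvd_of_pow_eq_one ?_)
    rw [← pow_mul, ← Nat.sub_add_cancel hki, pow_add, mul_assoc, mul_comm _ (2 ^ k * m), ← hkm,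
      pow_mul, pow_orderOf_eq_one, one_pow]
  · rintro ⟨hodd, hg⟩
    obtain ⟨e, he⟩ := exists_pow_eq_self_of_coprime
      ((hodd.coprime_two_left).pow_left (i + 1) : (2 ^ (i + 1)).Coprime (orderOf g))
    refine ⟨g ^ e, ?_⟩
    rw [hiter _ _ (by rw [map_pow, hg, inv_pow]), ← pow_mul, mul_comm, pow_mul, he]

end Cfsg.Agent.S3949
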