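import Cfsg.Statements.S3950
import Cfsg.Agent.Lib.SchurMult.Heisenberg

set_option autoImplicit false
open Cfsg

namespace Cfsg.Agent.S3950

/-- A finite abelian group has trivial Schur multiplier if and only if it is cyclic. -/
theorem result {G : Type*} [CommGroup G] [Finite G] : Cfsg.HasCyclicSchurMultiplier G 1 ↔ IsCyclic G := by
  rw [Agent.SchurMult.hasCyclicSchurMultiplier_one_iff]
  refine ⟨fun h => ?_, fun h => Agent.SchurMult.mult_eq_bot_of_isCyclic⟩
  classical
  obtain ⟨ι, hι, n, hn, ⟨e⟩⟩ := CommGroup.equiv_prod_multiplicative_zmod_of_finite G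
  haveI : ∀ i, NeZero (n i) := fun i => ⟨by have := hn i; omega⟩
  by_cases hco : Pairwise fun i j => (n i).Coprime (n j)
  · haveI : IsCyclic (Multiplicative (∀ i, ZMod (n i))) :=
      isCyclic_of_surjective (AddEquiv.toMultiplicative (ZMod.prodEquivPi n hco).toAddEquiv).toMonoidHom
        (MulEquiv.surjective _)
    refine isCyclic_of_surjective
      (e.symm.toMonoidHom.comp (MonoidHom.mk' (fun (x : Multiplicative (∀ i, ZMod (n i))) i =>
        Multiplicative.ofAdd (Multiplicative.toAdd x i))
        fun a b => funext fun i => rfl)) (e.symm.surjective.comp fun y =>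
        ⟨Multiplicative.ofAdd fun i => Multiplicative.toAdd (y i), rfl⟩)
  · exfalso
    simp only [Pairwise, not_forall] at hco
    obtain ⟨i, j, hij, hnc⟩ := hco
    obtain ⟨p, hp, hpi, hpj⟩ := Nat.Prime.not_coprime_iff_dvd.mp hnc
    let f : G →* Multiplicative (ZMod p × ZMod p) :=
      (MonoidHom.mk' (fun x : (∀ i, Multiplicative (ZMod (n i))) =>
        Multiplicative.ofAdd (ZMod.castHom hpi (ZMod p) (Multiplicative.toAdd (x i)),
          ZMod.castHom hpj (ZMod p) (Multiplicative.toAdd (x j))))
        (fun a b => by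
          rw [← ofAdd_add]
          simp [map_add])).comp e.toMonoidHom
    obtain ⟨x, hx⟩ := Agent.SchurMult.cov_surjective G
      (e.symm (Pi.mulSingle i (Multiplicative.ofAdd (1 : ZMod (n i)))))
    obtain ⟨y, hy⟩ := Agent.SchurMult.cov_surjective G
      (e.symm (Pi.mulSingle j (Multiplicative.ofAdd (1 : ZMod (n j)))))
    have hd := Agent.SchurMult.dvd_orderOf_commutator (dvd_refl p) f x y
      (by simp [f, hx, Pi.mulSingle_eq_of_ne (Ne.symm hij), ZMod.cast_one hpi])
      (by simp [f, hy, Pi.mulSingle_eq_of_ne hij, ZMod.cast_one hpj])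
    have := Agent.SchurMult.commutator_mem_mult (Q := G) mul_comm x y
    rw [h, Subgroup.mem_bot] at this
    rw [this, orderOf_one] at hd
    exact hp.one_lt.ne' (Nat.dvd_one.mp hd)

end Cfsg.Agent.S3950
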