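import Cfsg.Statements.S3951
import Cfsg.Agent.Lib.SchurMult.Heisenberg

set_option autoImplicit false
open Cfsg
open scoped commutatorElement

namespace Cfsg.Agent.S3951

/-- For positive integers `m` and `n` with `n` dividing `m`, the Schur multiplier of the abelian group `ZMod m × ZMod n` (written multiplicatively) is cyclic of order `n`. In particular the elementary abelian group of order `p ^ 2` has multiplier of order `p`. -/
theorem result (m n : ℕ) [NeZero m] [NeZero n] (hnm : n ∣ m) : Cfsg.HasCyclicSchurMultiplier (Multiplicative (ZMod m × ZMod n)) n := by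
  haveI : Finite (Multiplicative (ZMod m × ZMod n)) := inferInstanceAs (Finite (ZMod m × ZMod n))
  set Q := Multiplicative (ZMod m × ZMod n) with hQ
  let q₁ : Q := Multiplicative.ofAdd (1, 0)
  let q₂ : Q := Multiplicative.ofAdd (0, 1)
  obtain ⟨x, hx⟩ := Agent.SchurMult.cov_surjective Q q₁
  obtain ⟨y, hy⟩ := Agent.SchurMult.cov_surjective Q q₂
  have hcomm : ∀ a b : Q, a * b = b * a := mul_comm
  set c := ⁅x, y⁆ with hc
  have hcm : c ∈ Agent.SchurMult.mult Q := Agent.SchurMult.commutator_mem_mult hcomm x y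
  have hdvd : n ∣ orderOf c := Agent.SchurMult.dvd_orderOf_commutator hnm (MonoidHom.id _) x y hx hy
  have hcen := Agent.SchurMult.mult_le_center Q hcm
  haveI hN : (Subgroup.zpowers c).Normal := ⟨fun z hz g => by
    rwa [Subgroup.mem_center_iff.mp (Subgroup.zpowers_le.mpr hcen hz) g, mul_inv_cancel_right]⟩
  -- `Cov Q` is commutative modulo `c`
  have hgen : ∀ z : Agent.SchurMult.Cov Q, ∃ i j : ℤ, ∃ w ∈ Subgroup.center (Agent.SchurMult.Cov Q),
      z = x ^ i * y ^ j * w := by
    intro z
    obtain ⟨a, ha⟩ := ZMod.intCast_surjective (Multiplicative.toAdd (Agent.SchurMult.cov Q z)).1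
    obtain ⟨b, hb⟩ := ZMod.intCast_surjective (Multiplicative.toAdd (Agent.SchurMult.cov Q z)).2
    refine ⟨a, b, (x ^ a * y ^ b)⁻¹ * z, Agent.SchurMult.cov_ker_le_center Q ?_, by group⟩
    rw [MonoidHom.mem_ker, map_mul, map_inv, map_mul, map_zpow, map_zpow, hx, hy, inv_mul_eq_one]
    refine Multiplicative.toAdd.injective ?_
    show a • ((1, 0) : ZMod m × ZMod n) + b • ((0, 1) : ZMod m × ZMod n) = _
    refine Prod.ext ?_ ?_
    · rw [← ha]; simp
    · rw [← hb]; simp
  set π := QuotientGroup.mk' (Subgroup.zpowers c) with hπ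
  have hxy : Commute (π x) (π y) := by
    rw [← commutatorElement_eq_one_iff_commute, ← map_commutatorElement]
    exact (QuotientGroup.eq_one_iff _).mpr (Subgroup.mem_zpowers c)
  have hder : commutator (Agent.SchurMult.Cov Q) ≤ Subgroup.zpowers c := by
    rw [commutator_def, Subgroup.commutator_le]
    intro a _ b _
    obtain ⟨i, j, w, hw, rfl⟩ := hgen a
    obtain ⟨i', j', w', hw', rfl⟩ := hgen b
    rw [Agent.SchurMult.commutator_mul_central _ _ hw hw']
    refine (QuotientGroup.eq_one_iff _).mp ?_
    show π ⁅x ^ i * y ^ j, x ^ i' * y ^ j'⁆ = 1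
    rw [map_commutatorElement, commutatorElement_eq_one_iff_commute, map_mul, map_mul, map_zpow,
      map_zpow, map_zpow, map_zpow]
    exact (((Commute.refl _).zpow_zpow i i').mul_right (hxy.zpow_zpow i j')).mul_left
      ((hxy.symm.zpow_zpow j i').mul_right ((Commute.refl _).zpow_zpow j j'))
  have hpow : c ^ n = 1 := by
    have hyn : y ^ n ∈ Subgroup.center (Agent.SchurMult.Cov Q) := by
      refine Agent.SchurMult.cov_ker_le_center Q ?_
      rw [MonoidHom.mem_ker, map_pow, hy]
      refine Multiplicative.toAdd.injective ?_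
      show n • ((0, 1) : ZMod m × ZMod n) = 0
      simp
    have hcpow : ∀ k : ℕ, ⁅x, y ^ k⁆ = c ^ k := by
      intro k
      induction k with
      | zero => simp
      | succ k ih =>
        rw [pow_succ', pow_succ', ← ih, commutatorElement_def, commutatorElement_def, hc,
          commutatorElement_def, mul_inv_rev]
        have e := Subgroup.mem_center_iff.mp (pow_mem hcen k) y
        rw [← ih, commutatorElement_def] at e
        calc x * (y * y ^ k) * x⁻¹ * ((y ^ k)⁻¹ * y⁻¹)
            = (x * y * x⁻¹) * (x * y ^ k * x⁻¹ * (y ^ k)⁻¹) * y⁻¹ := by group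
          _ = (x * y * x⁻¹ * y⁻¹) * (y * (x * y ^ k * x⁻¹ * (y ^ k)⁻¹)) * y⁻¹ := by group
          _ = _ := by rw [e]; group
    rw [← hcpow, commutatorElement_eq_one_iff_mul_comm, Subgroup.mem_center_iff.mp hyn]
  have hord : orderOf c = n := Nat.dvd_antisymm (orderOf_dvd_of_pow_eq_one hpow) hdvd
  have hmult : Agent.SchurMult.mult Q = Subgroup.zpowers c :=
    le_antisymm (inf_le_right.trans hder) (Subgroup.zpowers_le.mpr hcm)
  have hcyc : IsCyclic (Agent.SchurMult.mult Q) := by rw [hmult]; infer_instance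
  refine Agent.SchurMult.hasSchurMultiplier_of_equiv (mulEquivOfCyclicCardEq ?_)
  rw [hmult, Nat.card_zpowers, hord]
  simp

end Cfsg.Agent.S3951
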