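import Cfsg.Statements.S3952
import Cfsg.Agent.Lib.SchurMult.Cover
import Cfsg.Agent.Lib.CT.Orthogonality
import Cfsg.Agent.Lib.CT.Integral

set_option autoImplicit false
open Cfsg

namespace Cfsg.Agent.S3952

/-- If `A` is the Schur multiplier of the finite group `Q`, then the square of the exponent of `A` divides the order of `Q`. -/
theorem result {Q : Type*} [Group Q] [Finite Q] {A : Type*} [CommGroup A] (hA : Cfsg.HasSchurMultiplier Q A) : Monoid.exponent A ^ 2 ∣ Nat.card Q := by
  classical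
  obtain ⟨⟨Γ, _, _, σ, hσ, ⟨ι⟩⟩, -⟩ := hA
  set K := σ.ker with hK
  letI : CommGroup K := { (inferInstance : Group K) with
    mul_comm := fun a b => Subtype.ext (Subgroup.mem_center_iff.mp (hσ.2.1 b.2) a) }
  letI := Fintype.ofFinite Γ
  letI := Fintype.ofFinite K
  rw [← Monoid.exponent_eq_of_mulEquiv ι]
  -- a character of the kernel of largest order
  obtain ⟨eK⟩ := CommGroup.monoidHom_mulEquiv_of_hasEnoughRootsOfUnity K ℂ
  obtain ⟨k₀, hk₀⟩ := Monoid.exists_orderOf_eq_exponent (G := K) Monoid.ExponentExists.of_finite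
  set lam : K →* ℂˣ := eK.symm k₀ with hlam
  have hord : orderOf lam = Monoid.exponent K := by rw [hlam, MulEquiv.orderOf_eq, hk₀]
  let lamC : K →* ℂ := (Units.coeHom ℂ).comp lam
  let S : Cfsg.IrrCharacter Γ → Prop := fun χ => ∀ k : K, (χ : Γ → ℂ) k = (χ : Γ → ℂ) 1 * lamC k
  have key : ∀ χ : Cfsg.IrrCharacter Γ,
      (∑ k : K, (lamC k)⁻¹ * (χ : Γ → ℂ) k) = (if S χ then (χ : Γ → ℂ) 1 * Nat.card K else 0) ∧
        (S χ → Monoid.exponent K ∣ Agent.CT.deg (χ : Γ → ℂ)) := by
    intro χ
    obtain ⟨n, ρ, hρ, hχ⟩ := χ.2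
    haveI := hρ
    have hd : Agent.CT.deg (χ : Γ → ℂ) = n := by rw [← hχ, Agent.CT.deg_eq_finrank]; simp
    have hχ1 : (χ : Γ → ℂ) 1 = (n : ℂ) := by rw [← hχ, Representation.char_one]; simp
    choose w hw hwn using fun k : K => Agent.CT.central_scalar ρ (hσ.2.1 k.2)
    have hn : 0 < n := by
      have := Agent.CT.finrank_pos_of_irreducible ρ
      simpa using this
    have hval : ∀ k : K, (χ : Γ → ℂ) k = (χ : Γ → ℂ) 1 * w k := fun k => by
      rw [hχ1, ← hχ, Representation.character, hw k, map_smul, LinearMap.trace_id]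
      simp [mul_comm]
    have hinj : ∀ {a b : ℂ}, (χ : Γ → ℂ) 1 * a = (χ : Γ → ℂ) 1 * b → a = b := fun h =>
      mul_left_cancel₀ (by rw [hχ1]; exact_mod_cast hn.ne') h
    let wh : K →* ℂ :=
      { toFun := w
        map_one' := hinj (by rw [← hval]; simp)
        map_mul' := fun a b => by
          have h1 : ρ ((a * b : K) : Γ) = ρ (a : Γ) * ρ (b : Γ) := by rw [Subgroup.coe_mul, map_mul]
          rw [hw, hw, hw] at h1
          refine hinj ?_
          rw [hχ1]
          have h2 := congrArg (LinearMap.trace ℂ _) h1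
          simp [Module.End.mul_eq_comp, LinearMap.smul_comp, LinearMap.comp_smul] at h2
          linear_combination h2 }
    have hS : S χ ↔ wh = lamC := by
      refine ⟨fun h => MonoidHom.ext fun k => hinj ((hval k).symm.trans (h k)), fun h k => ?_⟩
      rw [hval, ← h]
      rfl
    let f : K →* ℂ :=
      { toFun := fun k => (lamC k)⁻¹ * wh k
        map_one' := by simp
        map_mul' := fun a b => by simp only [map_mul, mul_inv]; ring }
    have hlam0 : ∀ k, lamC k ≠ 0 := fun k => (lam k).ne_zero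
    have hsum : (∑ k : K, (lamC k)⁻¹ * (χ : Γ → ℂ) k) = (χ : Γ → ℂ) 1 * ∑ k : K, f k := by
      rw [Finset.mul_sum]
      refine Finset.sum_congr rfl fun k _ => ?_
      show _ = _ * ((lamC k)⁻¹ * w k)
      rw [hval k, mul_left_comm]
    refine ⟨?_, fun h => ?_⟩
    · rw [hsum]
      split_ifs with h
      · rw [Finset.sum_congr rfl (g := fun _ => (1 : ℂ)) fun k _ => by
          show (lamC k)⁻¹ * wh k = 1
          rw [hS.mp h, inv_mul_cancel₀ (hlam0 k)]]
        simp
      · rw [sum_hom_units_eq_zero f ?_, mul_zero]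
        intro hf
        refine h (hS.mpr (MonoidHom.ext fun k => ?_))
        have h1 : (lamC k)⁻¹ * wh k = 1 := DFunLike.congr_fun hf k
        rw [inv_mul_eq_one₀ (hlam0 k)] at h1
        exact h1.symm
    · rw [hd, ← hord]
      refine orderOf_dvd_of_pow_eq_one (MonoidHom.ext fun k => Units.ext ?_)
      let D : Γ →* ℂˣ := ((LinearMap.det).comp ρ).toHomUnits
      have hDk : D (k : Γ) = 1 := Abelianization.commutator_subset_ker D (hσ.2.2 k.2)
      have h1 := congrArg Units.val hDk
      have h2 : LinearMap.det (ρ (k : Γ)) = 1 := h1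
      rw [hw, LinearMap.det_smul, LinearMap.det_id, mul_one, Module.finrank_fin_fun,
        show w k = lamC k from DFunLike.congr_fun (hS.mp h) k] at h2
      simpa [lamC] using h2
  have hreg : (∑ χ : Cfsg.IrrCharacter Γ, if S χ then ((χ : Γ → ℂ) 1) ^ 2 * Nat.card K else 0) =
      (Nat.card Γ : ℂ) := by
    calc (∑ χ : Cfsg.IrrCharacter Γ, if S χ then ((χ : Γ → ℂ) 1) ^ 2 * Nat.card K else 0)
        = ∑ χ : Cfsg.IrrCharacter Γ, ∑ k : K, (lamC k)⁻¹ * ((χ : Γ → ℂ) 1 * (χ : Γ → ℂ) k) := by
          refine Finset.sum_congr rfl fun χ _ => ?_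
          rw [Finset.sum_congr rfl (fun k _ => mul_left_comm (lamC k)⁻¹ ((χ : Γ → ℂ) 1) ((χ : Γ → ℂ) k)),
            ← Finset.mul_sum, (key χ).1]
          split_ifs <;> ring
      _ = ∑ k : K, (lamC k)⁻¹ * if (k : Γ) = 1 then (Nat.card Γ : ℂ) else 0 := by
          rw [Finset.sum_comm]
          refine Finset.sum_congr rfl fun k _ => ?_
          rw [← Finset.mul_sum, Agent.CT.regular_eq_sum]
      _ = (Nat.card Γ : ℂ) := by
          rw [Finset.sum_eq_single (1 : K)]
          · simp
          · intro k _ hk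
            rw [if_neg, mul_zero]
            exact fun h => hk (Subtype.ext h)
          · exact fun h => absurd (Finset.mem_univ _) h
  have hQ : Nat.card Q = ∑ χ ∈ Finset.univ.filter S, Agent.CT.deg (χ : Γ → ℂ) ^ 2 := by
    have hcard : Nat.card Γ = Nat.card Q * Nat.card K := by
      rw [hK, Subgroup.card_eq_card_quotient_mul_card_subgroup σ.ker,
        Nat.card_congr (QuotientGroup.quotientKerEquivOfSurjective σ hσ.1).toEquiv]
    have hK0 : (Nat.card K : ℂ) ≠ 0 := by exact_mod_cast Nat.card_pos.ne'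
    rw [hcard, ← Finset.sum_filter, ← Finset.sum_mul, Nat.cast_mul] at hreg
    have h1 := mul_right_cancel₀ hK0 hreg
    rw [Finset.sum_congr rfl fun χ _ => by
      rw [Agent.CT.deg_eq (Agent.CT.isCharacter_of_isIrr χ.2)]] at h1
    exact_mod_cast h1.symm
  rw [hQ]
  exact Finset.dvd_sum fun χ hχ => pow_dvd_pow_of_dvd ((key χ).2 (Finset.mem_filter.mp hχ).2) 2

end Cfsg.Agent.S3952
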