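import Cfsg.Statements.S3953
import Cfsg.Agent.Lib.SchurMult.Transfer

set_option autoImplicit false
open Cfsg

namespace Cfsg.Agent.S3953

/-- Let `P` be a Sylow `p`-subgroup of the finite group `G`, let `A` be the Schur multiplier of `G` and `B` that of `P`. Then the `p`-primary component of `A` is isomorphic to a direct factor of `B`: there are subgroups `C` and `D` of `B` meeting trivially and generating `B`, with `C` isomorphic to the `p`-primary component of `A`. -/
theorem result {G : Type*} [Group G] [Finite G] (p : ℕ) [Fact p.Prime] (P : Sylow p G) {A B : Type*} [CommGroup A] [CommGroup B] (hA : Cfsg.HasSchurMultiplier G A) (hB : Cfsg.HasSchurMultiplier P B) : ∃ C D : Subgroup B, C ⊓ D = ⊥ ∧ C ⊔ D = ⊤ ∧ Nonempty (CommGroup.primaryComponent A p ≃* C) := by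
  have hp := Fact.out (p := p.Prime)
  obtain ⟨eA⟩ := Agent.SchurMult.nonempty_equiv hA
  obtain ⟨eB⟩ := Agent.SchurMult.nonempty_equiv hB
  haveI : Finite A := Agent.SchurMult.finite_of_hasSchurMultiplier hA
  obtain ⟨g, hg⟩ := Agent.SchurMult.exists_subgroup_map (P : Subgroup G)
  obtain ⟨t, ht⟩ := Agent.SchurMult.exists_cores (P : Subgroup G) hg
  let h : B →* A := eA.symm.toMonoidHom.comp
    (((g.comp (Agent.SchurMult.mult P).subtype).codRestrict _ fun x =>
      Agent.SchurMult.map_mult_le hg ⟨_, x.2, rfl⟩).comp eB.toMonoidHom)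
  let k : A →* B := eB.symm.toMonoidHom.comp (t.comp eA.toMonoidHom)
  have hk : ∀ a, h (k a) = a ^ (P : Subgroup G).index := by
    intro a
    refine eA.injective (Subtype.ext ?_)
    show ((eA (eA.symm _) : Agent.SchurMult.mult G) : Agent.SchurMult.Cov G) = _
    rw [MulEquiv.apply_symm_apply, map_pow, Subgroup.coe_pow]
    show g ((eB (eB.symm (t (eA a))) : Agent.SchurMult.mult P) : Agent.SchurMult.Cov P) = _
    rw [MulEquiv.apply_symm_apply, ht]
  have hA' : ∀ b, h b ∈ CommGroup.primaryComponent A p := by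
    intro b
    obtain ⟨n, hn⟩ := IsPGroup.iff_card.mp P.isPGroup'
    refine CommGroup.mem_primaryComponent.mpr ⟨n, ?_⟩
    have hb : b ^ p ^ n = 1 := eB.injective (Subtype.ext (by
      rw [map_pow, map_one, Subgroup.coe_pow, ← hn]
      exact Agent.SchurMult.pow_card_eq_one (eB b).2))
    rw [← map_pow, hb, map_one]
  let h' : B →* CommGroup.primaryComponent A p := h.codRestrict _ hA'
  let k' : CommGroup.primaryComponent A p →* B := k.comp (CommGroup.primaryComponent A p).subtype
  have hcop : (Nat.card (CommGroup.primaryComponent A p)).Coprime (P : Subgroup G).index := by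
    have hpg : IsPGroup p (CommGroup.primaryComponent A p) := fun a => by
      obtain ⟨n, hn⟩ := CommGroup.mem_primaryComponent.mp a.2
      exact ⟨n, Subtype.ext hn⟩
    obtain ⟨n, hn⟩ := IsPGroup.iff_card.mp hpg
    rw [hn]
    exact (hp.coprime_iff_not_dvd.mpr (Sylow.not_dvd_index P)).pow_left n
  have hcomp : ∀ a, h' (k' a) = powCoprime hcop a := fun a => Subtype.ext (hk a)
  have hinj : Function.Injective k' := fun a b hab =>
    (powCoprime hcop).injective (by rw [← hcomp, ← hcomp, hab])
  refine ⟨k'.range, h'.ker, ?_, ?_, ⟨MonoidHom.ofInjective hinj⟩⟩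
  · rw [Subgroup.eq_bot_iff_forall]
    rintro x ⟨⟨a, rfl⟩, hx⟩
    have : powCoprime hcop a = 1 := (hcomp a).symm.trans hx
    rw [show a = 1 from (powCoprime hcop).injective (this.trans (by simp [powCoprime]))]
    exact map_one k'
  · rw [eq_top_iff]
    intro b _
    set a := (powCoprime hcop).symm (h' b)
    rw [← mul_inv_cancel_left (k' a) b]
    refine Subgroup.mul_mem_sup ⟨a, rfl⟩ ?_
    rw [MonoidHom.mem_ker, map_mul, map_inv, hcomp, Equiv.apply_symm_apply, inv_mul_cancel]

end Cfsg.Agent.S3953
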