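import Cfsg.Statements.S3954
import Cfsg.Agent.Lib.SchurMult.Transfer

set_option autoImplicit false
open Cfsg

namespace Cfsg.Agent.S3954

/-- Let `U` be a subgroup of index `m` in the finite group `G`, let `A` be the Schur multiplier of `G` and `B` that of `U`. Then the subgroup of `m`-th powers of `A` is isomorphic to a subgroup of `B`. -/
theorem result {G : Type*} [Group G] [Finite G] (U : Subgroup G) {A B : Type*} [CommGroup A] [CommGroup B] (hA : Cfsg.HasSchurMultiplier G A) (hB : Cfsg.HasSchurMultiplier U B) : ∃ C : Subgroup B, Nonempty ((powMonoidHom U.index : A →* A).range ≃* C) := by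
  obtain ⟨eA⟩ := Agent.SchurMult.nonempty_equiv hA
  obtain ⟨eB⟩ := Agent.SchurMult.nonempty_equiv hB
  haveI : Finite B := Agent.SchurMult.finite_of_hasSchurMultiplier hB
  obtain ⟨g, hg⟩ := Agent.SchurMult.exists_subgroup_map U
  let h : B →* Agent.SchurMult.mult G :=
    ((g.comp (Agent.SchurMult.mult U).subtype).codRestrict _ fun x =>
      Agent.SchurMult.map_mult_le hg ⟨_, x.2, rfl⟩).comp eB.toMonoidHom
  have hmem : ∀ y : (powMonoidHom U.index : A →* A).range, eA (y : A) ∈ h.range := by
    rintro ⟨_, a, rfl⟩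
    obtain ⟨x, hx, hxa⟩ := Agent.SchurMult.pow_index_mem_map hg (eA a).2
    refine ⟨eB.symm ⟨x, hx⟩, Subtype.ext ?_⟩
    show g ((eB (eB.symm ⟨x, hx⟩) : Agent.SchurMult.mult U) : Agent.SchurMult.Cov U) = _
    rw [MulEquiv.apply_symm_apply, hxa]
    show _ = ((eA (a ^ U.index) : Agent.SchurMult.mult G) : Agent.SchurMult.Cov G)
    rw [map_pow, Subgroup.coe_pow]
  obtain ⟨f, hf⟩ : ∃ f : h.range →* B, Function.Injective f := by
    letI : CommGroup h.range := inferInstance
    haveI : Finite h.range := Finite.of_surjective h.rangeRestrict h.rangeRestrict_surjective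
    obtain ⟨e1⟩ := CommGroup.monoidHom_mulEquiv_of_hasEnoughRootsOfUnity h.range ℂ
    obtain ⟨e2⟩ := CommGroup.monoidHom_mulEquiv_of_hasEnoughRootsOfUnity B ℂ
    let pre : (h.range →* ℂˣ) →* (B →* ℂˣ) :=
      MonoidHom.mk' (fun χ => χ.comp h.rangeRestrict) fun _ _ => rfl
    have hpre : Function.Injective pre := fun χ χ' hχ => MonoidHom.ext fun y => by
      obtain ⟨b, rfl⟩ := h.rangeRestrict_surjective y
      exact DFunLike.congr_fun hχ b
    refine ⟨e2.toMonoidHom.comp (pre.comp e1.symm.toMonoidHom), ?_⟩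
    exact e2.injective.comp (hpre.comp e1.symm.injective)
  let i : (powMonoidHom U.index : A →* A).range →* h.range :=
    (eA.toMonoidHom.comp (powMonoidHom U.index : A →* A).range.subtype).codRestrict _ hmem
  have hi : Function.Injective (f.comp i) := hf.comp fun a b hab =>
    Subtype.ext (eA.injective (congrArg Subtype.val hab))
  exact ⟨(f.comp i).range, ⟨MonoidHom.ofInjective hi⟩⟩

end Cfsg.Agent.S3954
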