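import Cfsg.Statements.S3957
import Cfsg.Agent.Lib.SchurMult.Cover

set_option autoImplicit false
universe u v
open Cfsg

namespace Cfsg.Agent.S3957

/-- Let `Q` be a finite group with Schur multiplier `A` and let `τ : Δ →* Q` be a finite stem extension, `Δ` in the universe of `Q`. Then there is a finite stem extension `σ : Γ →* Q` with kernel isomorphic to `A` (a Schur covering group) and a surjective homomorphism `β : Γ →* Δ` with `τ ∘ β = σ`. -/
theorem result {Q : Type u} [Group Q] [Finite Q] {A : Type v} [CommGroup A] (hA : Cfsg.HasSchurMultiplier Q A) {Δ : Type u} [Group Δ] [Finite Δ] (τ : Δ →* Q) (hτ : Cfsg.IsStemExtension τ) : ∃ (Γ : Type u) (_ : Group Γ) (_ : Finite Γ) (σ : Γ →* Q), Cfsg.IsStemExtension σ ∧ Nonempty (σ.ker ≃* A) ∧ ∃ β : Γ →* Δ, Function.Surjective β ∧ τ.comp β = σ := by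
  obtain ⟨β, hβ⟩ := Agent.SchurMult.exists_lift_id τ hτ.1 hτ.2.1
  obtain ⟨C, hCn, hCf, σ, hCL, hcomp, hstem, ⟨e⟩⟩ :=
    Agent.SchurMult.exists_cover (Q := Q) (L := β.ker ⊓ (Agent.SchurMult.cov Q).ker) inf_le_right (by
      intro k hk
      obtain ⟨m, hm, hmk⟩ : β k ∈ (Agent.SchurMult.mult Q).map β := by
        rw [Agent.SchurMult.stem_map_mult hτ hβ, MonoidHom.mem_ker, ← MonoidHom.comp_apply, hβ]
        exact hk
      rw [← inv_mul_cancel_right k m]
      refine Subgroup.mul_mem_sup ⟨?_, ?_⟩ hm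
      · show β (k * m⁻¹) = 1
        rw [map_mul, map_inv, hmk, mul_inv_cancel]
      · exact Subgroup.mul_mem _ hk (Subgroup.inv_mem _ (Agent.SchurMult.mult_le_ker Q hm)))
  obtain ⟨e'⟩ := Agent.SchurMult.nonempty_equiv hA
  have hle : C ≤ β.ker := fun c hc => (hCL hc).1
  refine ⟨_, inferInstance, hCf, σ, hstem, ⟨e.symm.trans e'.symm⟩, QuotientGroup.lift C β hle, ?_, ?_⟩
  · intro d
    obtain ⟨x, hx⟩ := Agent.SchurMult.stem_surjective hτ hβ d
    exact ⟨QuotientGroup.mk' C x, hx⟩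
  · refine MonoidHom.ext fun z => ?_
    obtain ⟨x, rfl⟩ := QuotientGroup.mk'_surjective C z
    exact (DFunLike.congr_fun hβ x).trans (DFunLike.congr_fun hcomp x).symm

end Cfsg.Agent.S3957
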