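import Cfsg.Statements.S3962
import Mathlib

set_option autoImplicit false
open Cfsg
open scoped commutatorElement

namespace Cfsg.Agent.S3962

/-- Let `G` be a perfect group and `π : G →* Q` a surjective homomorphism whose kernel is central. Then `π` maps the centre of `G` onto the centre of `Q`. Taking `π` to be the map to `G ⧸ Z(G)` shows that the central quotient of a perfect group has trivial centre. -/
theorem result {G Q : Type*} [Group G] [Group Q] (hG : Group.IsPerfect G) (π : G →* Q) (hπ : Function.Surjective π) (hker : π.ker ≤ Subgroup.center G) : (Subgroup.center G).map π = Subgroup.center Q := by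
  ext q
  constructor
  · rintro ⟨z, hz, rfl⟩
    rw [Subgroup.mem_center_iff]
    intro q'
    obtain ⟨g, rfl⟩ := hπ q'
    rw [← map_mul, ← map_mul, Subgroup.mem_center_iff.mp hz g]
  · intro hq
    obtain ⟨g, rfl⟩ := hπ q
    refine ⟨g, ?_, rfl⟩
    have hc : ∀ h : G, ⁅g, h⁆ ∈ Subgroup.center G := fun h => hker (by
      rw [MonoidHom.mem_ker, map_commutatorElement, commutatorElement_eq_one_iff_mul_comm]
      exact (Subgroup.mem_center_iff.mp hq (π h)).symm)
    let f : G →* Subgroup.center G := MonoidHom.mk' (fun h => ⟨⁅g, h⁆, hc h⟩) fun a b => Subtype.ext (by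
      show ⁅g, a * b⁆ = ⁅g, a⁆ * ⁅g, b⁆
      calc ⁅g, a * b⁆ = ⁅g, a⁆ * (a * ⁅g, b⁆ * a⁻¹) := by
            simp only [commutatorElement_def]; group
        _ = ⁅g, a⁆ * ⁅g, b⁆ := by
            rw [Subgroup.mem_center_iff.mp (hc b) a, mul_inv_cancel_right])
    have hf : commutator G ≤ f.ker := by
      rw [commutator_def, Subgroup.commutator_le]
      intro a _ b _
      rw [MonoidHom.mem_ker, map_commutatorElement, commutatorElement_eq_one_iff_mul_comm]
      exact Subtype.ext (Subgroup.mem_center_iff.mp (f b).2 _)
    show g ∈ Subgroup.center G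
    rw [Subgroup.mem_center_iff]
    intro h
    have h1 : f h = 1 := hf (hG.commutator_eq_top.symm ▸ Subgroup.mem_top h)
    exact (commutatorElement_eq_one_iff_mul_comm.mp (congrArg Subtype.val h1)).symm

end Cfsg.Agent.S3962
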