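import Cfsg.Statements.S3963
import Cfsg.Agent.Lib.FGB.SchurInverting

set_option autoImplicit false
open Cfsg

namespace Cfsg.Agent.S3963

/-- For every `n ≥ 1` the dicyclic (generalized quaternion) group of order `4 n` has trivial Schur multiplier. -/
theorem result (n : ℕ) [NeZero n] : Cfsg.HasCyclicSchurMultiplier (QuaternionGroup n) 1 := by
  rw [Cfsg.Agent.SchurMult.hasCyclicSchurMultiplier_one_iff, eq_bot_iff]
  have hgen : Subgroup.closure ({QuaternionGroup.a 1, QuaternionGroup.xa 0} :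
      Set (QuaternionGroup n)) = ⊤ := by
    rw [eq_top_iff]
    intro g _
    have hr : ∀ i : ZMod (2 * n), QuaternionGroup.a i ∈
        Subgroup.closure ({QuaternionGroup.a 1, QuaternionGroup.xa 0} : Set (QuaternionGroup n)) := by
      intro i
      have : QuaternionGroup.a i = (QuaternionGroup.a 1 : QuaternionGroup n) ^ i.val := by
        rw [QuaternionGroup.a_one_pow, ZMod.natCast_zmod_val]
      rw [this]
      exact pow_mem (Subgroup.subset_closure (by simp)) _
    cases g with
    | a i => exact hr i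
    | xa i =>
      have : QuaternionGroup.xa i = QuaternionGroup.xa (0 : ZMod (2 * n)) * QuaternionGroup.a i := by
        rw [QuaternionGroup.xa_mul_a, zero_add]
      rw [this]
      exact mul_mem (Subgroup.subset_closure (by simp)) (hr i)
  have hba : QuaternionGroup.xa (0 : ZMod (2 * n)) * QuaternionGroup.a 1 * (QuaternionGroup.xa 0)⁻¹ =
      (QuaternionGroup.a 1)⁻¹ := by
    rw [mul_inv_eq_iff_eq_mul, eq_inv_mul_iff_mul_eq, QuaternionGroup.xa_mul_a,
      QuaternionGroup.a_mul_xa]
    simp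
  have hn0 : 0 < n := Nat.pos_of_ne_zero (NeZero.ne n)
  obtain ⟨c, hcm, hc, h⟩ := Cfsg.Agent.FGB.exists_pow_of_mem_ker_inf_commutator
    (Cfsg.Agent.SchurMult.cov (QuaternionGroup n)) (Cfsg.Agent.SchurMult.cov_surjective _)
    (Cfsg.Agent.SchurMult.cov_ker_le_center _) hn0 hgen hba
    (Or.inr (by rw [QuaternionGroup.a_one_pow, QuaternionGroup.xa_mul_xa]; simp))
  intro d hd
  obtain ⟨k, hk, rfl⟩ := h d hd
  have h1 : ((QuaternionGroup.a 1 : QuaternionGroup n)⁻¹ * (QuaternionGroup.a 1)⁻¹) ^ k = 1 := by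
    rw [← hc, ← map_pow]; exact hd.1
  rw [← pow_two, ← pow_mul, inv_pow, inv_eq_one, ← orderOf_dvd_iff_pow_eq_one,
    QuaternionGroup.orderOf_a_one] at h1
  have h2 : n ∣ k := Nat.dvd_of_mul_dvd_mul_left two_pos h1
  rw [Nat.eq_zero_of_dvd_of_lt h2 hk, pow_zero]
  exact one_mem _

end Cfsg.Agent.S3963
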