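import Cfsg.Statements.S3964
import Cfsg.Agent.Lib.FGB.SchurInverting

set_option autoImplicit false
open Cfsg

namespace Cfsg.Agent.S3964

/-- For odd `n` the dihedral group of order `2 n` has trivial Schur multiplier. -/
theorem result (n : ℕ) (hn : Odd n) : Cfsg.HasCyclicSchurMultiplier (DihedralGroup n) 1 := by
  haveI : NeZero n := ⟨hn.pos.ne'⟩
  rw [Cfsg.Agent.SchurMult.hasCyclicSchurMultiplier_one_iff, eq_bot_iff]
  obtain ⟨c, hcm, hc, h⟩ := Cfsg.Agent.FGB.exists_pow_of_mem_ker_inf_commutator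
    (Cfsg.Agent.SchurMult.cov (DihedralGroup n)) (Cfsg.Agent.SchurMult.cov_surjective _)
    (Cfsg.Agent.SchurMult.cov_ker_le_center _) hn.pos (Cfsg.Agent.FGB.dihedral_gen n)
    (Cfsg.Agent.FGB.dihedral_conj n) (Or.inl DihedralGroup.r_one_pow_n)
  intro d hd
  obtain ⟨k, hk, rfl⟩ := h d hd
  have h1 : ((DihedralGroup.r 1 : DihedralGroup n)⁻¹ * (DihedralGroup.r 1)⁻¹) ^ k = 1 := by
    rw [← hc, ← map_pow]; exact hd.1
  rw [← pow_two, ← pow_mul, inv_pow, inv_eq_one, ← orderOf_dvd_iff_pow_eq_one,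
    DihedralGroup.orderOf_r_one] at h1
  have h2 : n ∣ k := (Nat.Coprime.dvd_of_dvd_mul_left hn.coprime_two_right h1)
  rw [Nat.eq_zero_of_dvd_of_lt h2 hk, pow_zero]
  exact one_mem _

end Cfsg.Agent.S3964
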