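import Cfsg.Statements.S3965
import Cfsg.Agent.Lib.FGB.SchurInverting

set_option autoImplicit false
open Cfsg

namespace Cfsg.Agent.S3965

/-- For even `n ≥ 2` the dihedral group of order `2 n` has Schur multiplier cyclic of order `2`. -/
theorem result (n : ℕ) [NeZero n] (hn : Even n) : Cfsg.HasCyclicSchurMultiplier (DihedralGroup n) 2 := by
  obtain ⟨hst, hcard⟩ := Cfsg.Agent.FGB.quaternionToDihedral_stem n hn
  obtain ⟨β, hβ⟩ := Cfsg.Agent.SchurMult.exists_lift_id _ hst.1 hst.2.1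
  have hge := Nat.card_le_card_of_surjective _
    (Cfsg.Agent.SchurMult.multMap_surjective (Q := DihedralGroup n) hst hβ)
  rw [hcard] at hge
  have hn0 : 0 < n := Nat.pos_of_ne_zero (NeZero.ne n)
  obtain ⟨c, hcm, hc, h⟩ := Cfsg.Agent.FGB.exists_pow_of_mem_ker_inf_commutator
    (Cfsg.Agent.SchurMult.cov (DihedralGroup n)) (Cfsg.Agent.SchurMult.cov_surjective _)
    (Cfsg.Agent.SchurMult.cov_ker_le_center _) hn0 (Cfsg.Agent.FGB.dihedral_gen n)
    (Cfsg.Agent.FGB.dihedral_conj n) (Or.inl DihedralGroup.r_one_pow_n)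
  obtain ⟨k₀, hk₀⟩ := hn
  have hsub : ∀ d : Cfsg.Agent.SchurMult.mult (DihedralGroup n), (d : Cfsg.Agent.SchurMult.Cov _) = c ^ 0 ∨
      (d : Cfsg.Agent.SchurMult.Cov _) = c ^ k₀ := by
    rintro ⟨d, hd⟩
    obtain ⟨k, hk, rfl⟩ := h d hd
    have h1 : ((DihedralGroup.r 1 : DihedralGroup n)⁻¹ * (DihedralGroup.r 1)⁻¹) ^ k = 1 := by
      rw [← hc, ← map_pow]; exact hd.1
    rw [← pow_two, ← pow_mul, inv_pow, inv_eq_one, ← orderOf_dvd_iff_pow_eq_one,
      DihedralGroup.orderOf_r_one] at h1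
    obtain ⟨j, hj⟩ := h1
    have hj2 : j < 2 := Nat.lt_of_mul_lt_mul_left (a := n) (by omega)
    interval_cases j
    · left; show c ^ k = c ^ 0; congr 1; omega
    · right; show c ^ k = c ^ k₀; congr 1; omega
  have hle : Nat.card (Cfsg.Agent.SchurMult.mult (DihedralGroup n)) ≤ 2 := by
    classical
    refine (Nat.card_le_card_of_injective
      (fun d : Cfsg.Agent.SchurMult.mult (DihedralGroup n) =>
        decide ((d : Cfsg.Agent.SchurMult.Cov _) = c ^ 0)) fun x y hxy => ?_).trans (by simp)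
    simp only [decide_eq_decide] at hxy
    refine Subtype.ext ?_
    rcases hsub x with hx | hx
    · exact hx.trans (hxy.mp hx).symm
    · rcases hsub y with hy | hy
      · exact (hxy.mpr hy).trans hy.symm
      · exact hx.trans hy.symm
  haveI : Fact (Nat.Prime 2) := ⟨Nat.prime_two⟩
  exact Cfsg.Agent.SchurMult.hasSchurMultiplier_of_equiv
    (mulEquivOfPrimeCardEq (p := 2) (by simp) (le_antisymm hle hge))

end Cfsg.Agent.S3965
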