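import Cfsg.Statements.S3967
import Mathlib
import Cfsg.Agent.Lib.SchurMult.Cover

set_option autoImplicit false
open Cfsg

namespace Cfsg.Agent.S3967

open SchurMult Subgroup
open scoped commutatorElement

section upper

variable {C : Type*} [Group C] {X Y : C} {r : ℕ} {z : C} (hz : z ∈ center C)
  (hc : ⁅Y, X⁆ = X ^ (r - 1) * z) (hr : 0 < r)

include hz hc in
theorem comm_c : Commute X ⁅Y, X⁆ := by
  rw [hc]
  exact ((Commute.refl X).pow_right _).mul_right (mem_center_iff.mp hz X)

theorem conj_X : Y * X * Y⁻¹ = ⁅Y, X⁆ * X := by rw [commutatorElement_def]; group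

include hz hc hr in
theorem conj_c : Y * ⁅Y, X⁆ * Y⁻¹ = ⁅Y, X⁆ ^ r := by
  have h1 := comm_c hz hc
  calc Y * ⁅Y, X⁆ * Y⁻¹ = Y * (X ^ (r - 1) * z) * Y⁻¹ := by rw [hc]
    _ = (Y * X * Y⁻¹) ^ (r - 1) * z := by
        rw [conj_pow, mul_assoc (Y * X ^ (r - 1)) Y⁻¹, mem_center_iff.mp hz Y⁻¹]
        group
    _ = ⁅Y, X⁆ ^ (r - 1) * ⁅Y, X⁆ := by
        rw [conj_X, h1.symm.mul_pow, mul_assoc, ← hc]
    _ = ⁅Y, X⁆ ^ r := by rw [← pow_succ, Nat.sub_add_cancel hr]

include hz hc hr in
theorem conj_pow_X (k : ℕ) :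
    Y ^ k * X * (Y ^ k)⁻¹ = ⁅Y, X⁆ ^ (∑ i ∈ Finset.range k, r ^ i) * X := by
  induction k with
  | zero => simp
  | succ k ih =>
    calc Y ^ (k + 1) * X * (Y ^ (k + 1))⁻¹ = Y * (Y ^ k * X * (Y ^ k)⁻¹) * Y⁻¹ := by
          rw [pow_succ']; group
      _ = (Y * ⁅Y, X⁆ * Y⁻¹) ^ (∑ i ∈ Finset.range k, r ^ i) * (Y * X * Y⁻¹) := by
          rw [ih, conj_pow]; group
      _ = ⁅Y, X⁆ ^ (∑ i ∈ Finset.range (k + 1), r ^ i) * X := by
          rw [conj_c hz hc hr, conj_X, ← mul_assoc, ← pow_mul, ← pow_succ, geom_sum_succ]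

include hz hc hr in
theorem orderOf_c_dvd {m n t : ℕ} (hXm : X ^ m ∈ center C) {κ : C} (hκ : κ ∈ center C)
    (hYn : Y ^ n = X ^ t * κ) :
    orderOf ⁅Y, X⁆ ∣ Nat.gcd (Nat.gcd m t) (∑ i ∈ Finset.range n, r ^ i) := by
  have h1 := comm_c hz hc
  have hpow : ∀ k, Y * X ^ k * Y⁻¹ = ⁅Y, X⁆ ^ k * X ^ k := fun k => by
    rw [← conj_pow, conj_X, h1.symm.mul_pow]
  refine Nat.dvd_gcd (Nat.dvd_gcd (orderOf_dvd_of_pow_eq_one ?_) (orderOf_dvd_of_pow_eq_one ?_))
    (orderOf_dvd_of_pow_eq_one ?_)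
  · have h := hpow m
    rw [mem_center_iff.mp hXm Y, mul_inv_cancel_right] at h
    exact mul_eq_right.mp h.symm
  · have h := hpow t
    have hYt : X ^ t = Y ^ n * κ⁻¹ := by rw [hYn, mul_inv_cancel_right]
    have hcom : Commute Y (X ^ t) := by
      rw [hYt]
      exact ((Commute.refl Y).pow_right n).mul_right (mem_center_iff.mp (inv_mem hκ) Y)
    rw [hcom.eq, mul_inv_cancel_right] at h
    exact mul_eq_right.mp h.symm
  · have h := conj_pow_X hz hc hr n
    have hcom : Commute (Y ^ n) X := by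
      rw [hYn]
      exact ((Commute.refl X).pow_left t).mul_left (mem_center_iff.mp hκ X).symm
    rw [hcom.eq, mul_inv_cancel_right] at h
    exact mul_eq_right.mp h.symm

include hz hc hr in
theorem commutator_le_zpowers {n t : ℕ} (hn : 0 < n) {κ : C} (hκ : κ ∈ center C)
    (hYn : Y ^ n = X ^ t * κ) (hgen : closure ({X, Y} ∪ (center C : Set C)) = ⊤) :
    commutator C ≤ zpowers ⁅Y, X⁆ := by
  have h1 := comm_c hz hc
  set c := ⁅Y, X⁆ with hcdef
  have hYc : ∀ k : ℕ, Y ^ k * c * (Y ^ k)⁻¹ ∈ zpowers c := fun k => by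
    induction k with
    | zero => simp
    | succ k ih =>
      obtain ⟨i, hi⟩ := mem_zpowers_iff.mp ih
      rw [show Y ^ (k + 1) * c * (Y ^ (k + 1))⁻¹ = Y * (Y ^ k * c * (Y ^ k)⁻¹) * Y⁻¹ by
        rw [pow_succ']; group, ← hi, ← conj_zpow, conj_c hz hc hr]
      exact zpow_mem (pow_mem (mem_zpowers c) r) i
  have hYi : Y⁻¹ * c * Y ∈ zpowers c := by
    have hcom : Commute (Y ^ n) c := by
      rw [hYn]
      exact (h1.pow_left t).mul_left (mem_center_iff.mp hκ c).symm
    have h := hYc (n - 1)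
    have e : Y ^ (n - 1) = Y ^ n * Y⁻¹ := by
      rw [eq_mul_inv_iff_mul_eq, ← pow_succ, Nat.sub_add_cancel hn]
    rw [e] at h
    have h2 : Y⁻¹ * c * Y = Y ^ n * Y⁻¹ * c * (Y ^ n * Y⁻¹)⁻¹ := by
      rw [← ((Commute.refl Y).pow_left n).inv_right.symm.eq]
      calc Y⁻¹ * c * Y = Y⁻¹ * (c * (Y ^ n * (Y ^ n)⁻¹)) * Y := by group
        _ = Y⁻¹ * (Y ^ n * c * (Y ^ n)⁻¹) * Y := by rw [← mul_assoc c, ← hcom.eq]
        _ = _ := by group
    rwa [h2]
  have key : ∀ g x, g * c * g⁻¹ ∈ zpowers c → x ∈ zpowers c → g * x * g⁻¹ ∈ zpowers c := by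
    intro g x hg hx
    obtain ⟨i, rfl⟩ := mem_zpowers_iff.mp hx
    rw [← conj_zpow]
    exact zpow_mem hg i
  have hconjc : ∀ g ∈ closure ({X, Y} ∪ (center C : Set C)),
      g * c * g⁻¹ ∈ zpowers c ∧ g⁻¹ * c * g ∈ zpowers c := by
    intro g hg
    induction hg using closure_induction with
    | mem g hg =>
      rcases hg with (rfl | rfl) | hg
      · rw [h1.eq, mul_inv_cancel_right, mul_assoc, ← h1.eq, inv_mul_cancel_left]
        exact ⟨mem_zpowers c, mem_zpowers c⟩
      · exact ⟨conj_c hz hc hr ▸ pow_mem (mem_zpowers c) r, hYi⟩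
      · rw [← mem_center_iff.mp hg c, mul_inv_cancel_right, mul_assoc,
          mem_center_iff.mp hg c, inv_mul_cancel_left]
        exact ⟨mem_zpowers c, mem_zpowers c⟩
    | one => simp
    | mul g g' _ _ hg hg' =>
      refine ⟨?_, ?_⟩
      · have := key g _ hg.1 hg'.1
        simpa [mul_assoc] using this
      · have := key g'⁻¹ _ (by simpa using hg'.2) hg.2
        simpa [mul_assoc] using this
    | inv g _ hg => exact ⟨by simpa using hg.2, by simpa using hg.1⟩
  haveI : (zpowers c).Normal := ⟨fun x hx g => key g x (hconjc g (hgen ▸ mem_top g)).1 hx⟩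
  let π := QuotientGroup.mk' (zpowers c)
  have hXY : π X * π Y = π Y * π X := by
    have h : π c = 1 := (QuotientGroup.eq_one_iff _).mpr (mem_zpowers c)
    change π ⁅Y, X⁆ = 1 at h
    rw [map_commutatorElement, commutatorElement_eq_one_iff_mul_comm] at h
    exact h.symm
  have hgencomm : ∀ p ∈ ({X, Y} ∪ (center C : Set C)), ∀ q ∈ ({X, Y} ∪ (center C : Set C)),
      π p * π q = π q * π p := by
    intro p hp q hq
    rcases hq with (rfl | rfl) | hq
    · rcases hp with (rfl | rfl) | hp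
      · rfl
      · exact hXY.symm
      · rw [← map_mul, ← map_mul, (mem_center_iff.mp hp q).symm]
    · rcases hp with (rfl | rfl) | hp
      · exact hXY
      · rfl
      · rw [← map_mul, ← map_mul, (mem_center_iff.mp hp q).symm]
    · rw [← map_mul, ← map_mul, mem_center_iff.mp hq p]
  have hall : ∀ p q : C, π p * π q = π q * π p := by
    have hs : ∀ p ∈ ({X, Y} ∪ (center C : Set C)), ∀ q : C, π p * π q = π q * π p := by
      intro p hp q
      have hq : q ∈ closure ({X, Y} ∪ (center C : Set C)) := hgen ▸ mem_top q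
      induction hq using closure_induction with
      | mem q hq => exact hgencomm p hp q hq
      | one => simp
      | mul q q' _ _ h h' =>
        rw [map_mul]; exact Commute.mul_right h h'
      | inv q _ h => rw [map_inv]; exact Commute.inv_right h
    intro p q
    have hp : p ∈ closure ({X, Y} ∪ (center C : Set C)) := hgen ▸ mem_top p
    induction hp using closure_induction with
    | mem p hp => exact hs p hp q
    | one => simp
    | mul p p' _ _ h h' => rw [map_mul]; exact Commute.mul_left h h'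
    | inv p _ h => rw [map_inv]; exact Commute.inv_left h
  rw [_root_.commutator_def, commutator_le]
  intro p _ q _
  refine (QuotientGroup.eq_one_iff _).mp ?_
  show π ⁅p, q⁆ = 1
  rw [map_commutatorElement, commutatorElement_eq_one_iff_mul_comm]
  exact hall p q

end upper

section model

variable (m n e r t : ℕ)

/-- The abelian normal part of the model. -/
abbrev AB : Type := Multiplicative (ZMod m × ZMod e)

/-- `X ↦ X c`, `c ↦ c ^ r`. -/
noncomputable def alpha (hem : e ∣ m) (u : (ZMod e)ˣ) : MulAut (AB m e) :=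
  AddEquiv.toMultiplicative
    { toFun := fun p => (p.1, ZMod.castHom hem (ZMod e) p.1 + u * p.2)
      invFun := fun p => (p.1, (↑u⁻¹ : ZMod e) * (p.2 - ZMod.castHom hem (ZMod e) p.1))
      left_inv := fun p => by simp
      right_inv := fun p => by simp
      map_add' := fun p q => by
        simp only [Prod.fst_add, Prod.snd_add, map_add, Prod.mk_add_mk]
        exact Prod.ext rfl (by ring) }

theorem alpha_pow (hem : e ∣ m) (u : (ZMod e)ˣ) (k : ℕ) (p : ZMod m × ZMod e) :
    ((alpha m e hem u) ^ k) (Multiplicative.ofAdd p) = Multiplicative.ofAdd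
      (p.1, (∑ i ∈ Finset.range k, (u : ZMod e) ^ i) * ZMod.castHom hem (ZMod e) p.1 + u ^ k * p.2) := by
  induction k with
  | zero => simp
  | succ k ih =>
    rw [pow_succ', MulAut.mul_apply, ih]
    show Multiplicative.ofAdd _ = _
    congr 1
    refine Prod.ext rfl ?_
    show ZMod.castHom hem (ZMod e) p.1 + (u : ZMod e) * _ = _
    rw [geom_sum_succ, pow_succ', toAdd_ofAdd]
    ring

/-- The model. -/
abbrev Mod (hem : e ∣ m) (u : (ZMod e)ˣ) : Type :=
  SemidirectProduct (AB m e) (Multiplicative ℤ) (zpowersHom (MulAut (AB m e)) (alpha m e hem u))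

end model

/-- A group with the given relations having the commutator of large order modulo centre. -/
theorem exists_model (m n r t e : ℕ) (hm : 0 < m) (hn : 0 < n) (hr : 0 < r) (hem : e ∣ m) (het : e ∣ t)
    (heS : e ∣ ∑ i ∈ Finset.range n, r ^ i) (hrn : r ^ n ≡ 1 [MOD m]) (hre : m ∣ (r - 1) * e) :
    ∃ (E : Type) (_ : Group E) (Z : Subgroup E) (X Y : E), Z ≤ center E ∧ X ^ m ∈ Z ∧
      Y ^ n * (X ^ t)⁻¹ ∈ Z ∧ Y * X * Y⁻¹ * (X ^ r)⁻¹ ∈ Z ∧ orderOf ⁅Y, X⁆ = e ∧
      ∀ i : ℕ, X ^ i ∈ Z → m ∣ i := by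
  haveI : NeZero m := ⟨hm.ne'⟩
  haveI : NeZero e := ⟨(Nat.pos_of_dvd_of_pos hem hm).ne'⟩
  have hun : ((r : ZMod e)) ^ n = 1 := by
    have := (ZMod.natCast_eq_natCast_iff _ _ _).mpr (hrn.of_dvd hem)
    simpa using this
  let u : (ZMod e)ˣ := Units.ofPowEqOne (r : ZMod e) n hun hn.ne'
  have hu : (u : ZMod e) = r := rfl
  have hun' : (u : ZMod e) ^ n = 1 := by rw [hu, hun]
  have hsum : (∑ i ∈ Finset.range n, (u : ZMod e) ^ i) = 0 := by
    rw [hu]
    have := (ZMod.natCast_eq_zero_iff _ _).mpr heS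
    simpa using this
  set α := alpha m e hem u with hα
  have hαn : α ^ n = 1 := by
    refine MulEquiv.ext fun p => ?_
    obtain ⟨p, rfl⟩ := Multiplicative.ofAdd.surjective p
    all_goals rw [hα, alpha_pow, hsum, hun', zero_mul, zero_add, one_mul]
    all_goals rfl
  have hre' : ((((r : ℤ) - 1) * (e : ℤ) : ℤ) : ZMod m) = 0 := by
    have h5 := (ZMod.natCast_eq_zero_iff ((r - 1) * e) m).mpr hre
    rw [← h5, Nat.cast_mul, Nat.cast_sub (by omega)]
    push_cast
    ring
  let φ : ZMod e →+ ZMod m := ZMod.lift e ⟨zmultiplesHom (ZMod m) ((r : ZMod m) - 1), by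
    simp only [zmultiplesHom_apply, natCast_zsmul, nsmul_eq_mul]
    rw [mul_comm]; push_cast at hre'; exact hre'⟩
  have hφ : φ 1 = (r : ZMod m) - 1 := by
    have := ZMod.lift_coe e ⟨zmultiplesHom (ZMod m) ((r : ZMod m) - 1), by
      simp only [zmultiplesHom_apply, natCast_zsmul, nsmul_eq_mul]
      rw [mul_comm]; push_cast at hre'; exact hre'⟩ 1
    simpa using this
  have hcφ : ∀ j : ZMod e, ZMod.castHom hem (ZMod e) (φ j) = ((r : ZMod e) - 1) * j := by
    intro j
    rw [← ZMod.natCast_zmod_val j, ← nsmul_one, map_nsmul, hφ, map_nsmul, map_sub, map_natCast, map_one]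
    simp [mul_comm]
  have hcenα : ∀ (p : AB m e), α p = p → ∀ k : ℤ, (α ^ k) p = p := by
    intro p hp k
    have h1 : α ∈ MulAction.stabilizer (MulAut (AB m e)) p := hp
    exact Subgroup.zpow_mem _ h1 k
  have hαz : ∀ q : ℤ, α ^ ((n : ℤ) * q) = 1 := fun q => by rw [zpow_mul, zpow_natCast, hαn, one_zpow]
  let E := Mod m e hem u
  have hmul : ∀ (g h : E) (q : ℤ), Multiplicative.toAdd g.right = (n : ℤ) * q →
      (g * h).left = g.left * h.left := by
    intro g h q hq
    show g.left * (α ^ Multiplicative.toAdd g.right) h.left = _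
    rw [hq, hαz]; rfl
  let Z : Subgroup E :=
    { carrier := {g | ∃ q : ℤ, Multiplicative.toAdd g.right = (n : ℤ) * q ∧
        (Multiplicative.toAdd g.left).1 + φ (Multiplicative.toAdd g.left).2 + (t : ZMod m) * q = 0}
      one_mem' := ⟨0, by simp, by simp⟩
      mul_mem' := by
        rintro g h ⟨q, hq, hg⟩ ⟨q', hq', hh⟩
        refine ⟨q + q', by rw [show (g * h).right = g.right * h.right from rfl, toAdd_mul, hq, hq', mul_add], ?_⟩
        rw [hmul g h q hq]
        simp only [toAdd_mul, Prod.fst_add, Prod.snd_add, map_add, Int.cast_add]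
        linear_combination hg + hh
      inv_mem' := by
        rintro g ⟨q, hq, hg⟩
        have h1 := hmul g g⁻¹ q hq
        rw [mul_inv_cancel, SemidirectProduct.one_left] at h1
        refine ⟨-q, by rw [show g⁻¹.right = g.right⁻¹ from rfl, toAdd_inv, hq, mul_neg], ?_⟩
        rw [← inv_eq_of_mul_eq_one_right h1.symm]
        simp only [toAdd_inv, Prod.fst_neg, Prod.snd_neg, map_neg, Int.cast_neg]
        linear_combination (-1 : ZMod m) * hg }
  let X : E := SemidirectProduct.inl (Multiplicative.ofAdd ((1 : ZMod m), (0 : ZMod e)))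
  let Y : E := SemidirectProduct.inr (Multiplicative.ofAdd (1 : ℤ))
  have hYX : Y * X * Y⁻¹ = SemidirectProduct.inl (Multiplicative.ofAdd ((1 : ZMod m), (1 : ZMod e))) := by
    rw [← map_inv, ← SemidirectProduct.inl_aut]
    congr 1
    show (α ^ (1 : ℤ)) _ = _
    rw [zpow_one, ← pow_one α, hα, alpha_pow]
    simp [ZMod.cast_one hem]
  have hXk : ∀ k : ℕ, X ^ k = SemidirectProduct.inl (Multiplicative.ofAdd ((k : ZMod m), (0 : ZMod e))) :=
    fun k => by
      rw [← map_pow, ← ofAdd_nsmul]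
      simp [nsmul_eq_mul]
  refine ⟨E, inferInstance, Z, X, Y, ?_, ?_, ?_, ?_, ?_, ?_⟩
  · rintro g ⟨q, hq, hg⟩
    rw [mem_center_iff]
    intro h
    refine SemidirectProduct.ext ?_ (mul_comm _ _)
    rw [hmul g h q hq]
    show h.left * (α ^ Multiplicative.toAdd h.right) g.left = g.left * h.left
    rw [hcenα g.left ?_, mul_comm]
    obtain ⟨⟨i, j⟩, hij⟩ := Multiplicative.ofAdd.surjective g.left
    rw [← hij] at hg ⊢
    show Multiplicative.ofAdd _ = _
    congr 1
    refine Prod.ext rfl ?_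
    show ZMod.castHom hem (ZMod e) i + (u : ZMod e) * j = j
    have h1 := congrArg (ZMod.castHom hem (ZMod e)) hg
    simp only [toAdd_ofAdd, map_add, map_mul, map_zero, map_natCast, map_intCast, hcφ,
      (ZMod.natCast_eq_zero_iff t e).mpr het, zero_mul, add_zero] at h1
    rw [hu]
    linear_combination h1
  · refine ⟨0, by simp [hXk], ?_⟩
    simp [hXk]
  · refine ⟨1, ?_, ?_⟩
    · show Multiplicative.toAdd (SemidirectProduct.rightHom (Y ^ n * (X ^ t)⁻¹)) = _
      rw [map_mul, map_inv, map_pow, map_pow, SemidirectProduct.rightHom_inr,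
        SemidirectProduct.rightHom_inl]
      simp
    · rw [hXk, ← map_inv, ← map_pow, SemidirectProduct.mul_left, SemidirectProduct.left_inr,
        SemidirectProduct.left_inl, SemidirectProduct.right_inr, one_mul]
      show (Multiplicative.toAdd ((α ^ Multiplicative.toAdd (Multiplicative.ofAdd (1 : ℤ) ^ n)) _)).1 + _ + _ = _
      rw [toAdd_pow, toAdd_ofAdd, nsmul_eq_mul, hαz]
      simp [← hα, hαn]
  · refine ⟨0, ?_, ?_⟩
    · rw [hYX, hXk, ← map_inv, ← map_mul]
      simp
    · rw [hYX, hXk, ← map_inv, ← map_mul, SemidirectProduct.left_inl]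
      simp [hφ]
      all_goals ring
  · rw [commutatorElement_def, hYX, ← map_inv, ← map_mul,
      orderOf_injective _ SemidirectProduct.inl_injective, ← ofAdd_neg, ← ofAdd_add,
      orderOf_ofAdd_eq_addOrderOf, Prod.addOrderOf]
    simp [ZMod.addOrderOf_one]
  · rintro i ⟨q, hq, hi⟩
    rw [hXk] at hq hi
    rw [SemidirectProduct.right_inl, toAdd_one] at hq
    have hq0 : q = 0 := by
      rcases mul_eq_zero.mp hq.symm with h | h
      · omega
      · exact h
    rw [hq0] at hi
    simp at hi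
    exact (ZMod.natCast_eq_zero_iff i m).mp hi


section main

/-- The relators. -/
abbrev rels (m n r t : ℕ) : Set (FreeGroup Bool) :=
  {FreeGroup.of true ^ m, (FreeGroup.of false) ^ n * (FreeGroup.of true ^ t)⁻¹,
    FreeGroup.of false * FreeGroup.of true * (FreeGroup.of false)⁻¹ * (FreeGroup.of true ^ r)⁻¹}

variable {m n r t : ℕ}

theorem rel_a : (PresentedGroup.of true : PresentedGroup (rels m n r t)) ^ m = 1 :=
  PresentedGroup.one_of_mem (x := FreeGroup.of true ^ m) (by simp)

theorem rel_b : (PresentedGroup.of false : PresentedGroup (rels m n r t)) ^ n =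
    (PresentedGroup.of true) ^ t := by
  have := PresentedGroup.one_of_mem (rels := rels m n r t)
    (x := (FreeGroup.of false) ^ n * (FreeGroup.of true ^ t)⁻¹) (by simp)
  rw [map_mul, map_inv, map_pow, map_pow, mul_inv_eq_one] at this
  exact this

theorem rel_c : (PresentedGroup.of false : PresentedGroup (rels m n r t)) * PresentedGroup.of true *
    (PresentedGroup.of false)⁻¹ = (PresentedGroup.of true) ^ r := by
  have := PresentedGroup.one_of_mem (rels := rels m n r t)
    (x := FreeGroup.of false * FreeGroup.of true * (FreeGroup.of false)⁻¹ * (FreeGroup.of true ^ r)⁻¹)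
    (by simp)
  rw [map_mul, map_mul, map_mul, map_inv, map_inv, map_pow, mul_inv_eq_one] at this
  exact this

theorem finite_presented (hm : 0 < m) (hn : 0 < n) (hr : 0 < r) :
    Finite (PresentedGroup (rels m n r t)) := by
  let G := PresentedGroup (rels m n r t)
  set a : G := PresentedGroup.of true
  set b : G := PresentedGroup.of false
  have ha : IsOfFinOrder a := isOfFinOrder_iff_pow_eq_one.mpr ⟨m, hm, rel_a⟩
  have hb : IsOfFinOrder b := by
    refine isOfFinOrder_iff_pow_eq_one.mpr ⟨n * m, Nat.mul_pos hn hm, ?_⟩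
    rw [pow_mul, rel_b, ← pow_mul, mul_comm, pow_mul, rel_a, one_pow]
  haveI : Finite (zpowers a) := (ha.finite_zpowers).to_subtype
  haveI : Finite (zpowers b) := (hb.finite_zpowers).to_subtype
  have hconj : ∀ k : ℕ, b ^ k * a * (b ^ k)⁻¹ = a ^ (r ^ k) := fun k => by
    induction k with
    | zero => simp
    | succ k ih =>
      rw [show b ^ (k + 1) * a * (b ^ (k + 1))⁻¹ = b * (b ^ k * a * (b ^ k)⁻¹) * b⁻¹ by
        rw [pow_succ']; group, ih, ← conj_pow, rel_c, ← pow_mul, ← pow_succ']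
  have hba : b⁻¹ * a * b ∈ zpowers a := by
    obtain ⟨k, hk, hkb⟩ : ∃ k : ℕ, 0 < k ∧ b ^ k = 1 := isOfFinOrder_iff_pow_eq_one.mp hb
    have e : b⁻¹ = b ^ (k - 1) := by
      rw [eq_comm, eq_inv_iff_mul_eq_one, ← pow_succ, Nat.sub_add_cancel hk, hkb]
    have := hconj (k - 1)
    rw [← e, inv_inv] at this
    rw [this]
    exact pow_mem (mem_zpowers a) _
  have hgen : closure (Set.range (PresentedGroup.of (rels := rels m n r t))) = ⊤ :=
    PresentedGroup.closure_range_of _
  haveI : (zpowers a).Normal := by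
    rw [← normalizer_eq_top_iff, eq_top_iff, ← hgen, closure_le]
    rintro _ ⟨i, rfl⟩
    rw [SetLike.mem_coe, mem_normalizer_iff]
    cases i
    · intro x
      constructor
      · intro hx
        obtain ⟨j, rfl⟩ := mem_zpowers_iff.mp hx
        rw [← conj_zpow, rel_c]
        exact zpow_mem (pow_mem (mem_zpowers a) r) j
      · intro hx
        obtain ⟨j, hj⟩ := mem_zpowers_iff.mp hx
        have : x = b⁻¹ * a ^ j * b := by rw [hj]; show x = b⁻¹ * (b * x * b⁻¹) * b; group
        rw [this, show b⁻¹ * a ^ j * b = (b⁻¹ * a * b⁻¹⁻¹) ^ j by rw [conj_zpow, inv_inv], inv_inv]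
        exact zpow_mem hba j
    · intro x
      rw [mul_mem_cancel_right (inv_mem (mem_zpowers a)), mul_mem_cancel_left (mem_zpowers a)]
  have hsup : zpowers b ⊔ zpowers a = ⊤ := by
    rw [eq_top_iff, ← hgen, closure_le]
    rintro _ ⟨i, rfl⟩
    cases i
    · exact mem_sup_left (mem_zpowers b)
    · exact mem_sup_right (mem_zpowers a)
  have hsurj : Function.Surjective (fun p : zpowers b × zpowers a => (p.1 : G) * p.2) := fun g => by
    obtain ⟨u, hu, v, hv, rfl⟩ := (mem_sup_of_normal_right.mp (hsup ▸ mem_top g : g ∈ zpowers b ⊔ zpowers a))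
    exact ⟨(⟨u, hu⟩, ⟨v, hv⟩), rfl⟩
  exact Finite.of_surjective _ hsurj

theorem main (m n r l : ℕ) (hm : 0 < m) (hn : 0 < n) (hr : 0 < r) (hrn : r ^ n ≡ 1 [MOD m]) :
    Cfsg.HasCyclicSchurMultiplier (PresentedGroup (rels m n r (m * l / Nat.gcd m (r - 1))))
      (Nat.gcd l (Nat.gcd m (r - 1) * Nat.gcd m (∑ i ∈ Finset.range n, r ^ i) / m)) := by
  classical
  set d := Nat.gcd m (r - 1) with hd
  obtain ⟨m', hm'⟩ : d ∣ m := Nat.gcd_dvd_left _ _
  obtain ⟨r', hr'⟩ : d ∣ r - 1 := Nat.gcd_dvd_right _ _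
  have hd0 : 0 < d := Nat.gcd_pos_of_pos_left _ hm
  have ht : m * l / d = m' * l := by rw [hm', mul_assoc, Nat.mul_div_cancel_left _ hd0]
  rw [ht]
  set t := m' * l with ht'
  set S := ∑ i ∈ Finset.range n, r ^ i with hS
  have hcop : Nat.Coprime m' r' := by
    have h := hd
    rw [hm', hr', Nat.gcd_mul_left] at h
    exact Nat.eq_of_mul_eq_mul_left hd0 (h.symm.trans (mul_one d).symm)
  obtain ⟨S', hS'⟩ : m' ∣ S := by
    have h2 : m ∣ r ^ n - 1 := (Nat.modEq_iff_dvd' (Nat.one_le_pow _ _ hr)).mp hrn.symm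
    have h3 : r ^ n - 1 = (r - 1) * S := by
      obtain ⟨r'', rfl⟩ : ∃ r'', r = r'' + 1 := ⟨r - 1, by omega⟩
      have := geom_sum_mul_add r'' n
      rw [Nat.add_sub_cancel, ← this, Nat.add_sub_cancel, mul_comm]
    rw [h3, hr', hm', mul_assoc] at h2
    exact hcop.dvd_of_dvd_mul_left (Nat.dvd_of_mul_dvd_mul_left hd0 h2)
  set e := Nat.gcd (Nat.gcd m t) S with he
  set N := Nat.gcd (Nat.gcd d l) S' with hN
  have heN : e = m' * N := by
    rw [he, hN, hm', mul_comm d m', ht', hS', Nat.gcd_mul_left, Nat.gcd_mul_left]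
  have hgoal : Nat.gcd l (d * Nat.gcd m S / m) = N := by
    have h1 : Nat.gcd m S = m' * Nat.gcd d S' := by rw [hm', mul_comm d m', hS', Nat.gcd_mul_left]
    rw [h1, ← mul_assoc, ← hm', Nat.mul_div_cancel_left _ hm, hN]
    rw [← Nat.gcd_assoc, Nat.gcd_comm l d]
  rw [hgoal]
  have hem : e ∣ m := (Nat.gcd_dvd_left _ _).trans (Nat.gcd_dvd_left _ _)
  have het : e ∣ t := (Nat.gcd_dvd_left _ _).trans (Nat.gcd_dvd_right _ _)
  have hre : m ∣ (r - 1) * e := by
    rw [heN, hr', hm', mul_assoc]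
    exact Nat.mul_dvd_mul_left d ((dvd_mul_right m' N).mul_left r')
  haveI := finite_presented (t := t) hm hn hr
  let G := PresentedGroup (rels m n r t)
  obtain ⟨E, _, Z, x, y, hZ, hxm, hyn, hyx, hord, hxi⟩ :=
    exists_model m n r t e hm hn hr hem het (Nat.gcd_dvd_right _ _) hrn hre
  haveI : Z.Normal := ⟨fun w hw g => by rwa [mem_center_iff.mp (hZ hw) g, mul_inv_cancel_right]⟩
  have hone : ∀ {w : E}, w ∈ Z → QuotientGroup.mk' Z w = 1 := fun hw => (QuotientGroup.eq_one_iff _).mpr hw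
  let φ : G →* E ⧸ Z := PresentedGroup.toGroup (f := fun i => QuotientGroup.mk' Z (if i then x else y))
    (by
      rintro w (rfl | rfl | rfl)
      · simpa using hone hxm
      · simpa [map_mul, map_inv, map_pow] using hone hyn
      · simpa [map_mul, map_inv, map_pow] using hone hyx)
  have hφa : φ (PresentedGroup.of true) = QuotientGroup.mk' Z x := PresentedGroup.toGroup.of _
  have hφb : φ (PresentedGroup.of false) = QuotientGroup.mk' Z y := PresentedGroup.toGroup.of _
  obtain ⟨β, hβ⟩ := exists_lift (QuotientGroup.mk' Z) (le_of_eq (QuotientGroup.ker_mk' Z) |>.trans hZ) φ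
    fun q => QuotientGroup.mk'_surjective Z _
  obtain ⟨X, hX⟩ := cov_surjective G (PresentedGroup.of true)
  obtain ⟨Y, hY⟩ := cov_surjective G (PresentedGroup.of false)
  set c := ⁅Y, X⁆ with hc
  have hK := cov_ker_le_center G
  have hβc : β c = ⁅y, x⁆ := by
    have key : ∀ (w : Cov G) (v : E), φ (cov G w) = QuotientGroup.mk' Z v → v⁻¹ * β w ∈ center E := by
      intro w v h
      refine hZ ?_
      rw [← QuotientGroup.eq]
      exact h.symm.trans (DFunLike.congr_fun hβ w).symm
    rw [hc, map_commutatorElement, show β Y = y * (y⁻¹ * β Y) by group,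
      show β X = x * (x⁻¹ * β X) by group,
      commutator_mul_central y x (key Y y (by rw [hY, hφb])) (key X x (by rw [hX, hφa]))]
  have hcovc : cov G c = (PresentedGroup.of true : G) ^ (r - 1) := by
    rw [hc, map_commutatorElement, hX, hY, commutatorElement_def, rel_c, pow_sub _ hr, pow_one]
  set z := (X ^ (r - 1))⁻¹ * c with hz'
  have hzc : z ∈ center (Cov G) := hK (by
    rw [MonoidHom.mem_ker, hz', map_mul, map_inv, map_pow, hX, hcovc, inv_mul_cancel])
  have hcz : ⁅Y, X⁆ = X ^ (r - 1) * z := by rw [hz', mul_inv_cancel_left]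
  set κ := (X ^ t)⁻¹ * Y ^ n with hκ'
  have hκ : κ ∈ center (Cov G) := hK (by
    rw [MonoidHom.mem_ker, hκ', map_mul, map_inv, map_pow, map_pow, hX, hY, rel_b, inv_mul_cancel])
  have hYn : Y ^ n = X ^ t * κ := by rw [hκ', mul_inv_cancel_left]
  have hXm : X ^ m ∈ center (Cov G) := hK (by rw [MonoidHom.mem_ker, map_pow, hX, rel_a])
  have hco : orderOf c = e := by
    refine Nat.dvd_antisymm (orderOf_c_dvd hzc hcz hr hXm hκ hYn) ?_
    rw [← hord, ← hβc]
    exact orderOf_map_dvd β c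
  have hgen : closure ({X, Y} ∪ (center (Cov G) : Set (Cov G))) = ⊤ := by
    rw [eq_top_iff]
    intro w _
    have h1 : closure (Set.range (PresentedGroup.of (rels := rels m n r t))) ≤
        (closure ({X, Y} ∪ (center (Cov G) : Set (Cov G)))).map (cov G) := by
      rw [closure_le]
      rintro _ ⟨i, rfl⟩
      cases i
      · exact ⟨Y, subset_closure (by simp), hY⟩
      · exact ⟨X, subset_closure (by simp), hX⟩
    obtain ⟨v, hv, hvw⟩ := h1 ((PresentedGroup.closure_range_of _).symm ▸ mem_top (cov G w))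
    rw [← mul_inv_cancel_left v w]
    exact mul_mem hv (subset_closure (Or.inr (hK (by
      rw [MonoidHom.mem_ker, map_mul, map_inv, hvw, inv_mul_cancel]))))
  have hcomm := commutator_le_zpowers hzc hcz hr hn hκ hYn hgen
  have hmem : c ^ m' ∈ mult G := ⟨by
    show cov G (c ^ m') = 1
    rw [map_pow, hcovc, ← pow_mul, show (r - 1) * m' = m * r' by rw [hr', hm']; ring, pow_mul, rel_a,
      one_pow], pow_mem (Subgroup.commutator_mem_commutator (mem_top Y) (mem_top X)) m'⟩
  have he0 : 0 < e := Nat.pos_of_dvd_of_pos hem hm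
  have hmult : mult G = zpowers (c ^ m') := by
    refine le_antisymm ?_ (zpowers_le.mpr hmem)
    rintro w ⟨hwK, hwC⟩
    have hfin : IsOfFinOrder c := orderOf_pos_iff.mp (hco.symm ▸ he0)
    obtain ⟨i, hi⟩ := (IsOfFinOrder.mem_powers_iff_mem_zpowers hfin).mpr (hcomm hwC)
    change c ^ i = w at hi
    subst hi
    have h1 : φ ((PresentedGroup.of true : G) ^ ((r - 1) * i)) = 1 := by
      rw [pow_mul, ← hcovc, ← map_pow, MonoidHom.mem_ker.mp hwK, map_one]
    rw [map_pow, hφa, ← map_pow] at h1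
    have h2 := hxi _ ((QuotientGroup.eq_one_iff _).mp h1)
    rw [hm', hr', mul_assoc] at h2
    obtain ⟨j, rfl⟩ := hcop.dvd_of_dvd_mul_left (Nat.dvd_of_mul_dvd_mul_left hd0 h2)
    rw [pow_mul]
    exact pow_mem (mem_zpowers _) j
  have hm'0 : 0 < m' := Nat.pos_of_mul_pos_left (hm' ▸ hm)
  have hcard : Nat.card (mult G) = N := by
    rw [hmult, Nat.card_zpowers, orderOf_pow_of_dvd hm'0.ne' (by rw [hco, heN]; exact dvd_mul_right _ _),
      hco, heN, Nat.mul_div_cancel_left _ hm'0]
  haveI : IsCyclic (mult G) := by rw [hmult]; infer_instance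
  exact hasSchurMultiplier_of_equiv (mulEquivOfCyclicCardEq (by
    rw [hcard, ← Nat.card_congr Multiplicative.ofAdd, Nat.card_zmod]))

end main

/-- Let `m, n ≥ 1`, `r ≥ 1` with `r ^ n ≡ 1 (mod m)`, and `l` a natural number; put `d = gcd(m, r - 1)`, `t = m l / d` and `h = d · gcd(m, 1 + r + ⋯ + r^(n-1)) / m`. The group presented by generators `a, b` and relations `a ^ m = 1`, `b ^ n = a ^ t`, `b a b⁻¹ = a ^ r` (a metacyclic group of order `m n`) has Schur multiplier cyclic of order `gcd(l, h)`. -/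
theorem result (m n r l : ℕ) (hm : 0 < m) (hn : 0 < n) (hr : 0 < r) (hrn : r ^ n ≡ 1 [MOD m]) : Cfsg.HasCyclicSchurMultiplier (PresentedGroup ({FreeGroup.of true ^ m, (FreeGroup.of false) ^ n * (FreeGroup.of true ^ (m * l / Nat.gcd m (r - 1)))⁻¹, FreeGroup.of false * FreeGroup.of true * (FreeGroup.of false)⁻¹ * (FreeGroup.of true ^ r)⁻¹} : Set (FreeGroup Bool))) (Nat.gcd l (Nat.gcd m (r - 1) * Nat.gcd m (∑ i ∈ Finset.range n, r ^ i) / m)) := by
  exact main m n r l hm hn hr hrn

end Cfsg.Agent.S3967
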