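import Cfsg.Statements.S3968
import Mathlib
import Cfsg.Agent.Lib.CT.Integral

set_option autoImplicit false
open Cfsg

namespace Cfsg.Agent.S3968

open Module Subgroup

variable {G : Type*} [Group G] [Finite G]

/-- If a subgroup centralises an element of order `p` acting regularly on a space of dimension `p`,
its image is commutative. -/
theorem comm_of_regular {V : Type*} [AddCommGroup V] [Module ℂ V] [FiniteDimensional ℂ V]
    (ρ : Representation ℂ G V) {p : ℕ} (hp : p.Prime) (hdim : finrank ℂ V = p) {z : G}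
    (hz : z ^ p = 1) (hχ : ∀ k : ℕ, 0 < k → k < p → ρ.character (z ^ k) = 0)
    {x y : G} (hx : Commute x z) (hy : Commute y z) : ρ (x * y) = ρ (y * x) := by
  classical
  obtain ⟨b, ω, hb, hω⟩ := CT.exists_eigenbasis (ρ z) hp.pos (by rw [← map_pow, hz, map_one])
  have hω0 : ∀ i, ω i ≠ 0 := fun i h => by
    have := hω i; rw [h, zero_pow hp.ne_zero] at this; exact zero_ne_one this
  have hpow : ∀ k i, (ρ (z ^ k)) (b i) = ω i ^ k • b i := by
    intro k i
    induction k with
    | zero => simp
    | succ k ih => rw [pow_succ', map_mul, Module.End.mul_apply, ih, map_smul, hb, smul_smul, ← pow_succ]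
  have htr : ∀ k, ρ.character (z ^ k) = ∑ i, ω i ^ k := fun k =>
    CT.trace_eq_sum_of_eigenbasis _ b _ (hpow k)
  have hinj : Function.Injective ω := by
    intro i j hij
    by_contra hne
    have h1 : ∑ k ∈ Finset.range p, (ω i)⁻¹ ^ k * ρ.character (z ^ k) = (p : ℂ) := by
      rw [Finset.sum_eq_single 0 (fun k hk hk0 => by
        rw [hχ k (Nat.pos_of_ne_zero hk0) (Finset.mem_range.mp hk), mul_zero])
        (fun h => absurd (Finset.mem_range.mpr hp.pos) h)]
      simp [hdim]
    simp only [htr, Finset.mul_sum, ← mul_pow] at h1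
    rw [Finset.sum_comm] at h1
    have h2 : ∀ l, ∑ k ∈ Finset.range p, ((ω i)⁻¹ * ω l) ^ k = if ω l = ω i then (p : ℂ) else 0 := by
      intro l
      split_ifs with h
      · simp [h, hω0 i]
      · have hne' : (ω i)⁻¹ * ω l ≠ 1 := fun e => h (by
          rw [inv_mul_eq_one₀ (hω0 i)] at e; exact e.symm)
        rw [geom_sum_eq hne', mul_pow, inv_pow, hω i, hω l]
        simp
    simp only [h2] at h1
    rw [Finset.sum_ite, Finset.sum_const_zero, add_zero, Finset.sum_const, nsmul_eq_mul] at h1
    have h3 : (2 : ℕ) ≤ (Finset.univ.filter fun l => ω l = ω i).card :=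
      Finset.one_lt_card.mpr ⟨i, by simp, j, by simp [hij], hne⟩
    have h4 : ((Finset.univ.filter fun l => ω l = ω i).card : ℂ) = 1 := by
      have hp0 : (p : ℂ) ≠ 0 := Nat.cast_ne_zero.mpr hp.ne_zero
      exact mul_right_cancel₀ hp0 (by rw [one_mul]; exact h1)
    have h5 : (Finset.univ.filter fun l => ω l = ω i).card = 1 := by exact_mod_cast h4
    omega
  have hdiag : ∀ w : G, Commute w z → ∀ i, ρ w (b i) = (b.repr (ρ w (b i)) i) • b i := by
    intro w hw i
    have h1 : ρ z (ρ w (b i)) = ω i • ρ w (b i) := by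
      rw [← Module.End.mul_apply, ← map_mul, ← hw.eq, map_mul, Module.End.mul_apply, hb, map_smul]
    have h2 : ∀ (v : V) j, b.repr (ρ z v) j = ω j * b.repr v j := by
      intro v j
      have h : (b.coord j) ∘ₗ (ρ z) = ω j • b.coord j := by
        refine b.ext fun l => ?_
        simp only [LinearMap.comp_apply, hb, map_smul, LinearMap.smul_apply, Basis.coord_apply,
          b.repr_self, smul_eq_mul, Finsupp.smul_apply]
        by_cases hl : l = j
        · subst hl; simp
        · simp [Finsupp.single_apply, hl]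
      simpa using LinearMap.congr_fun h v
    apply b.repr.injective
    ext j
    by_cases hj : j = i
    · subst hj; simp
    · have h3 := h2 (ρ w (b i)) j
      rw [h1, map_smul, Finsupp.smul_apply, smul_eq_mul] at h3
      have h4 : (ω i - ω j) * b.repr (ρ w (b i)) j = 0 := by rw [sub_mul, h3, sub_self]
      rw [(mul_eq_zero.mp h4).resolve_left (sub_ne_zero.mpr fun e => hj (hinj e).symm)]
      simp [Finsupp.single_apply, Ne.symm hj]
  refine b.ext fun i => ?_
  obtain ⟨cx, hcx⟩ : ∃ c : ℂ, ρ x (b i) = c • b i := ⟨_, hdiag x hx i⟩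
  obtain ⟨cy, hcy⟩ : ∃ c : ℂ, ρ y (b i) = c • b i := ⟨_, hdiag y hy i⟩
  rw [map_mul, map_mul, Module.End.mul_apply, Module.End.mul_apply, hcy, map_smul,
    hcx, map_smul, hcy, smul_smul, smul_smul, mul_comm]

/-- Let `p` be a prime and `G` a finite group with a faithful irreducible complex character of degree `p` (so `G` is an irreducible linear group in `p` variables). If `p ^ 2` divides the order of `G`, then the centre of `G` is nontrivial. -/
theorem result {G : Type*} [Group G] [Finite G] (p : ℕ) (hp : p.Prime) (χ : Cfsg.IrrCharacter G) (hdeg : χ.1 1 = p) (hfaith : ∀ g : G, χ.1 g = χ.1 1 → g = 1) (hdiv : p ^ 2 ∣ Nat.card G) : Subgroup.center G ≠ ⊥ := by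
  classical
  intro hbot
  haveI := Fintype.ofFinite G
  haveI := Fact.mk hp
  obtain ⟨n, ρ, hirr, hχ⟩ := χ.2
  haveI := hirr
  have hn : n = p := by
    have h1 : ρ.character 1 = (p : ℂ) := by rw [hχ]; exact hdeg
    rw [Representation.char_one, Module.finrank_fin_fun] at h1
    exact_mod_cast h1
  have hdim : finrank ℂ (Fin n → ℂ) = p := by rw [Module.finrank_fin_fun, hn]
  have hker : ∀ g : G, ρ g = 1 → g = 1 := fun g hg => hfaith g (by
    rw [← hχ]; simp only [Representation.character, hg, map_one])
  have hinj : ∀ g h : G, ρ g = ρ h → g = h := fun g h e => by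
    have h1 : ρ (h⁻¹ * g) = 1 := by rw [map_mul, e, ← map_mul, inv_mul_cancel, map_one]
    exact (inv_mul_eq_one.mp (hker _ h1)).symm
  obtain ⟨P⟩ : Nonempty (Sylow p G) := inferInstance
  haveI : Nontrivial (P : Subgroup G) := (nontrivial_iff_ne_bot _).mpr
    (P.ne_bot_of_dvd_card ((dvd_pow_self p two_ne_zero).trans hdiv))
  set Z := (Subgroup.center (P : Subgroup G)).map (P : Subgroup G).subtype with hZ
  have hzero : ∀ x ∈ Z, x ≠ 1 → ρ.character x = 0 := by
    rintro _ ⟨x, hx, rfl⟩ hx1
    have hP : (P : Subgroup G) ≤ Subgroup.centralizer ({(x : G)} : Set G) := fun y hy =>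
      Subgroup.mem_centralizer_singleton_iff.mpr
        (congrArg Subtype.val (Subgroup.mem_center_iff.mp hx ⟨y, hy⟩))
    have hcop : Nat.Coprime (finrank ℂ (Fin n → ℂ)) (Subgroup.centralizer ({(x : G)} : Set G)).index := by
      rw [hdim, hp.coprime_iff_not_dvd]
      exact fun h => P.not_dvd_index (h.trans (Subgroup.index_dvd_of_le hP))
    refine (CT.zero_or_norm_of_coprime ρ (x : G) hcop).resolve_right fun h => hx1 ?_
    have hs := CT.scalar_of_norm_eq ρ h
    have : (x : G) ∈ Subgroup.center G := by
      rw [Subgroup.mem_center_iff]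
      intro g
      apply hinj
      rw [map_mul, map_mul, hs]
      ext v
      simp
    rw [hbot, Subgroup.mem_bot] at this
    exact this
  -- `Z(P)` has order `p`
  have hZcard : Nat.card Z = p := by
    haveI : Fintype Z := Fintype.ofFinite _
    let σ : Representation ℂ Z (Fin n → ℂ) := ρ.comp Z.subtype
    haveI : Invertible (Fintype.card Z : ℂ) :=
      invertibleOfNonzero (Nat.cast_ne_zero.mpr Fintype.card_ne_zero)
    have h : (Nat.card Z : ℂ)⁻¹ • ∑ g : Z, σ.character g = (finrank ℂ ↥σ.invariants : ℂ) := by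
      rw [← (Representation.isProj_averageMap σ).trace]
      simp [Representation.averageMap, GroupAlgebra.average, map_sum, Representation.character,
        Nat.card_eq_fintype_card]
    have hsum : ∑ g : Z, σ.character g = (p : ℂ) := by
      show ∑ g : Z, ρ.character (g : G) = (p : ℂ)
      rw [Finset.sum_eq_single (1 : Z) (fun g _ hg => hzero g g.2 fun e => hg (Subtype.ext e))
        (fun h => absurd (Finset.mem_univ _) h), Subgroup.coe_one, Representation.char_one, hdim]
    rw [show (∑ g : Z, σ.character g) = (p : ℂ) from hsum] at h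
    set k := finrank ℂ ↥σ.invariants
    have h' : p = Nat.card Z * k := by
      have hne : ((Nat.card Z : ℕ) : ℂ) ≠ 0 := Nat.cast_ne_zero.mpr Nat.card_pos.ne'
      rw [smul_eq_mul, inv_mul_eq_div, div_eq_iff hne] at h
      have : (p : ℂ) = ((Nat.card Z * k : ℕ) : ℂ) := by rw [h]; push_cast; ring
      exact_mod_cast this
    refine ((Nat.dvd_prime hp).mp ⟨k, h'⟩).resolve_left fun h1 => ?_
    rw [hZ, Subgroup.card_map_of_injective (P : Subgroup G).subtype_injective] at h1
    haveI := P.2.center_nontrivial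
    exact absurd h1 (Finite.one_lt_card (α := Subgroup.center (P : Subgroup G))).ne'
  obtain ⟨z, hz⟩ := exists_prime_orderOf_dvd_card' (G := Z) p (dvd_of_eq hZcard.symm)
  have hz' : orderOf (z : G) = p := by rw [Subgroup.orderOf_coe, hz]
  have hPc : ∀ y ∈ (P : Subgroup G), Commute y (z : G) := by
    intro y hy
    obtain ⟨w, hw, hwz⟩ := z.2
    rw [← hwz]
    exact congrArg Subtype.val (Subgroup.mem_center_iff.mp hw ⟨y, hy⟩)
  have hcomm : Subgroup.center (P : Subgroup G) = ⊤ := by
    rw [eq_top_iff]
    intro a _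
    rw [Subgroup.mem_center_iff]
    intro c
    apply Subtype.ext
    apply hinj
    exact comm_of_regular ρ hp hdim (hz' ▸ pow_orderOf_eq_one (z : G)) (fun k hk0 hkp =>
      hzero _ (Z.pow_mem z.2 k) (pow_ne_one_of_lt_orderOf hk0.ne' (hz' ▸ hkp)))
      (hPc c c.2) (hPc a a.2)
  have hPcard : Nat.card (P : Subgroup G) = p := by
    calc Nat.card (P : Subgroup G) = Nat.card (Subgroup.center (P : Subgroup G)) := by
          rw [hcomm, Subgroup.card_top]
      _ = Nat.card Z := (Subgroup.card_map_of_injective (P : Subgroup G).subtype_injective).symm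
      _ = p := hZcard
  obtain ⟨m, hm⟩ := hdiv
  apply P.not_dvd_index
  have := (P : Subgroup G).card_mul_index
  rw [hPcard, hm, pow_two, mul_assoc] at this
  exact ⟨m, Nat.eq_of_mul_eq_mul_left hp.pos this⟩

end Cfsg.Agent.S3968
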