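import Cfsg.Statements.S3969
import Cfsg.Agent.Lib.Invol.RankAut
import Cfsg.Agent.S0071
-- import your own Cfsg.Agent.* helpers here

set_option autoImplicit false
open Cfsg

namespace Cfsg.Agent.S3969

open Subgroup

/-- Let `P` be an abelian Sylow `p`-subgroup of the finite group `G`, generated by `d` elements (`d` its minimal number of generators). If the order of `G` is coprime to `(p - 1)(p ^ 2 - 1) ⋯ (p ^ d - 1)`, then `G` has a normal `p`-complement. (The classical statement needs only the largest number of cyclic factors of `P` of equal order in place of `d`; the form here follows from it.) -/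
theorem result {G : Type*} [Group G] [Finite G] (p : ℕ) [Fact p.Prime] (P : Sylow p G) (hab : IsMulCommutative (P : Subgroup G)) (hcop : Nat.Coprime (Nat.card G) (∏ i ∈ Finset.Icc 1 (Group.rank (P : Subgroup G)), (p ^ i - 1))) : Cfsg.HasNormalPComplement p G := by
  classical
  obtain ⟨s, hs1, hs2⟩ := Group.rank_spec (P : Subgroup G)
  let s' : Finset G := s.image Subtype.val
  have hcl : closure (s' : Set G) = (P : Subgroup G) := by
    rw [Finset.coe_image, ← Subgroup.coe_subtype, ← MonoidHom.map_closure, hs2,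
      ← MonoidHom.range_eq_map, range_subtype]
  have hkey : normalizer ((P : Subgroup G) : Set G) ≤ centralizer ((P : Subgroup G) : Set G) := by
    intro g hg
    -- split `g` into a `p`-part in `P` and a `p'`-part
    have hord : 0 < orderOf g := orderOf_pos g
    obtain ⟨k, m, hm, hgm⟩ : ∃ k m, ¬ p ∣ m ∧ orderOf g = p ^ k * m :=
      ⟨_, _, (Nat.exists_eq_pow_mul_and_not_dvd hord.ne' p (Fact.out : p.Prime).ne_one).choose_spec.choose_spec.1,
        (Nat.exists_eq_pow_mul_and_not_dvd hord.ne' p (Fact.out : p.Prime).ne_one).choose_spec.choose_spec.2⟩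
    have hu : g ^ m ∈ (P : Subgroup G) := by
      have hsN : IsPGroup p (zpowers (g ^ m)) := by
        refine IsPGroup.of_card (n := k) ?_
        rw [Nat.card_zpowers, orderOf_pow, hgm, Nat.gcd_eq_right ⟨p ^ k, mul_comm _ _⟩,
          Nat.mul_div_cancel _ (Nat.pos_of_ne_zero fun h => hm (by rw [h]; exact dvd_zero p))]
      have hle : zpowers (g ^ m) ⊔ (P : Subgroup G) = (P : Subgroup G) :=
        P.is_maximal' (hsN.to_sup_of_normal_right' P.isPGroup' (zpowers_le.2 (pow_mem hg m))) le_sup_right
      exact hle ▸ mem_sup_left (mem_zpowers _)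
    rw [mem_centralizer_iff]
    intro y hy
    have hcomm_u : Commute (g ^ m) y := by
      have := hab.is_comm.comm ⟨g ^ m, hu⟩ ⟨y, hy⟩
      exact congrArg Subtype.val this
    have hpm : Nat.Coprime (p ^ k) m :=
      Nat.Coprime.pow_left k ((Fact.out : p.Prime).coprime_iff_not_dvd.2 hm)
    have hom : orderOf (g ^ p ^ k) = m := by
      rw [orderOf_pow, hgm, Nat.gcd_eq_right (dvd_mul_right _ _),
        Nat.mul_div_cancel_left _ (pow_pos (Fact.out : p.Prime).pos k)]
    have hcomm_v : Commute (g ^ p ^ k) y := by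
      refine Invol.RankAut.commute_of_generated P.isPGroup' s' hcl (pow_mem hg _) ?_ ?_ y hy
      · rw [hom]; exact (((Fact.out : p.Prime).coprime_iff_not_dvd.2 hm)).symm
      · intro i hi1 hi2
        have h1 : orderOf (g ^ p ^ k) ∣ Nat.card G := orderOf_dvd_natCard _
        refine Nat.Coprime.coprime_dvd_left h1 (Nat.Coprime.coprime_dvd_right ?_ hcop)
        refine Finset.dvd_prod_of_mem (fun i => p ^ i - 1) (Finset.mem_Icc.2 ⟨hi1, ?_⟩)
        exact hi2.trans (Finset.card_image_le.trans hs1.le)
    have hg' : g = (g ^ m) ^ (Nat.gcdB (p ^ k) m) * (g ^ p ^ k) ^ (Nat.gcdA (p ^ k) m) := by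
      have hb := Nat.gcd_eq_gcd_ab (p ^ k) m
      rw [hpm.gcd_eq_one] at hb
      rw [← zpow_natCast, ← zpow_natCast g (p ^ k), ← zpow_mul, ← zpow_mul, ← zpow_add, add_comm, ← hb]
      simp
    rw [hg']
    exact ((hcomm_u.zpow_left _).mul_left (hcomm_v.zpow_left _)).eq.symm
  exact ⟨P, _, MonoidHom.normal_ker _, MonoidHom.ker_transferSylow_isComplement' P hkey⟩

end Cfsg.Agent.S3969
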