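import Cfsg.Statements.S3970
import Mathlib
-- import your own Cfsg.Agent.* helpers here

set_option autoImplicit false
open Cfsg

namespace Cfsg.Agent.S3970

/-- omega one of an abelian rank-two p-group is small -/
theorem card_omega_le {P : Type*} [CommGroup P] [Finite P] {p : ℕ} (hp : p.Prime) (hr : Group.rank P ≤ 2) :
    Nat.card (powMonoidHom p : P →* P).ker ∣ p ^ 2 := by
  set f : P →* P := powMonoidHom p with hf
  have h1 : Nat.card f.ker = Nat.card (P ⧸ f.range) := by
    have a := Subgroup.card_mul_index f.ker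
    rw [Subgroup.index_ker] at a
    have b := Subgroup.card_mul_index f.range
    rw [Subgroup.index_eq_card] at b
    have hpos : 0 < Nat.card f.range := Nat.card_pos
    exact Nat.eq_of_mul_eq_mul_left hpos (by rw [b, mul_comm]; exact a)
  rw [h1]
  have hexp : ∀ g : P ⧸ f.range, g ^ p = 1 := by
    intro g
    induction g using QuotientGroup.induction_on with
    | _ x => rw [← QuotientGroup.mk_pow]; exact (QuotientGroup.eq_one_iff _).mpr ⟨x, rfl⟩
  refine (card_dvd_exponent_pow_rank' (P ⧸ f.range) hexp).trans (pow_dvd_pow p ?_)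
  exact le_trans (Group.rank_le_of_surjective (QuotientGroup.mk' f.range) (QuotientGroup.mk'_surjective _)) hr

/-- the automorphism bound -/
theorem aut_prime_bound {P : Type*} [CommGroup P] [Finite P] {p q : ℕ} (hp : p.Prime) (hq : q.Prime)
    (hP : IsPGroup p P) (hqp : p < q) (hr : Group.rank P ≤ 2) (σ : MulAut P) (hσ : σ ^ q = 1)
    (h1 : σ ≠ 1) : q = p + 1 := by
  haveI := Fact.mk hp
  haveI := Fact.mk hq
  set W := (powMonoidHom p : P →* P).ker with hW
  -- some element of W is moved
  have hmove : ∃ w ∈ W, σ w ≠ w := by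
    by_contra hc
    push_neg at hc
    apply h1
    apply MulEquiv.ext
    intro x
    simp only [MulAut.one_apply]
    obtain ⟨k, hk⟩ := hP x
    induction k generalizing x with
    | zero => simp at hk; simp [hk]
    | succ k ih =>
      have hfix : σ (x ^ p) = x ^ p := ih (x ^ p) (by rw [← pow_mul, ← pow_succ']; exact hk)
      have hw : σ x * x⁻¹ ∈ W := by
        show (σ x * x⁻¹) ^ p = 1
        rw [mul_pow, inv_pow, ← map_pow, hfix, mul_inv_cancel]
      obtain ⟨w, hwW, hxw⟩ : ∃ w ∈ W, σ x = w * x := ⟨_, hw, by simp⟩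
      have hiter : ∀ i : ℕ, (σ ^ i) x = w ^ i * x := by
        intro i
        induction i with
        | zero => simp
        | succ i ihi =>
          rw [pow_succ', MulAut.mul_apply, ihi, map_mul, map_pow, hc w hwW, hxw, pow_succ, mul_assoc]
      have hwq : w ^ q = 1 := by
        have := hiter q
        rw [hσ, MulAut.one_apply] at this
        exact mul_eq_right.mp this.symm
      have hwp : w ^ p = 1 := hwW
      have := pow_gcd_eq_one.mpr ⟨hwp, hwq⟩
      rw [(Nat.coprime_primes hp hq).mpr hqp.ne, pow_one] at this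
      rw [hxw, this, one_mul]
  obtain ⟨w, hwW, hwm⟩ := hmove
  -- the group generated by σ acts on W
  set A := Subgroup.zpowers σ with hA
  have hcA : Nat.card A = q := by rw [hA, Nat.card_zpowers, orderOf_eq_prime hσ h1]
  have hAq : IsPGroup q A := IsPGroup.of_card (n := 1) (by rw [pow_one]; exact hcA)
  have hinv : ∀ (a : A) (x : P), x ∈ W → (a : MulAut P) x ∈ W := by
    intro a x hx
    show ((a : MulAut P) x) ^ p = 1
    have hx' : x ^ p = 1 := hx
    rw [← map_pow, hx', map_one]
  letI act : MulAction A W :=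
    { smul := fun a x => ⟨(a : MulAut P) x.1, hinv a x.1 x.2⟩
      one_smul := fun x => by apply Subtype.ext; rfl
      mul_smul := fun a b x => by apply Subtype.ext; rfl }
  have hcong := hAq.card_modEq_card_fixedPoints W
  -- fixed points form a subgroup
  let F : Subgroup P :=
    { carrier := {x | x ∈ W ∧ σ x = x}
      mul_mem' := fun {a b} ha hb => ⟨W.mul_mem ha.1 hb.1, by rw [map_mul, ha.2, hb.2]⟩
      one_mem' := ⟨W.one_mem, map_one _⟩
      inv_mem' := fun {a} ha => ⟨W.inv_mem ha.1, by rw [map_inv, ha.2]⟩ }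
  have hFW : F ≤ W := fun x hx => hx.1
  have hfix : ∀ x : W, x ∈ MulAction.fixedPoints A W ↔ (x : P) ∈ F := by
    intro x
    constructor
    · intro hx
      exact ⟨x.2, congrArg Subtype.val (hx ⟨σ, Subgroup.mem_zpowers σ⟩)⟩
    · intro hx a
      apply Subtype.ext
      show (a : MulAut P) x.1 = x.1
      obtain ⟨j, hj⟩ := a.2
      rw [← hj]
      have : ∀ i : ℕ, (σ ^ i) x.1 = x.1 := by
        intro i
        induction i with
        | zero => simp
        | succ i ihi => rw [pow_succ', MulAut.mul_apply, ihi, hx.2]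
      show (σ ^ j) x.1 = x.1
      obtain ⟨i, hi⟩ : ∃ i : ℕ, σ ^ j = σ ^ i :=
        (Submonoid.mem_powers_iff _ _).mp ((mem_powers_iff_mem_zpowers).mpr ⟨j, rfl⟩) |>.imp fun i h => h.symm
      rw [hi]; exact this i
  have hcF : Nat.card (MulAction.fixedPoints A W) = Nat.card F := Nat.card_congr
    { toFun := fun x => ⟨(x.1 : P), (hfix x.1).mp x.2⟩
      invFun := fun x => ⟨⟨x.1, hFW x.2⟩, (hfix _).mpr x.2⟩
      left_inv := fun x => rfl
      right_inv := fun x => rfl }
  rw [hcF] at hcong
  have hW2 : Nat.card W ∣ p ^ 2 := card_omega_le hp hr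
  have hlt : Nat.card F < Nat.card W := by
    refine lt_of_le_of_ne (Subgroup.card_le_of_le hFW) fun he => hwm ?_
    have := Subgroup.eq_of_le_of_card_ge hFW he.ge
    exact (this.symm ▸ hwW : w ∈ F).2
  obtain ⟨i, hi2, hi⟩ := (Nat.dvd_prime_pow hp).mp hW2
  obtain ⟨j, hj2, hj⟩ := (Nat.dvd_prime_pow hp).mp ((Subgroup.card_dvd_of_le hFW).trans hW2)
  rw [hi, hj] at hcong hlt
  have hd := (Nat.modEq_iff_dvd' hlt.le).mp hcong.symm
  have hji : j < i := (Nat.pow_lt_pow_iff_right hp.one_lt).mp hlt
  have e2 : p ^ 2 - 1 = (p + 1) * (p - 1) := by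
    have := Nat.sq_sub_sq p 1
    simpa using this
  have hp1 : ¬ q ∣ p - 1 := fun hh => by
    have := Nat.le_of_dvd (by have := hp.two_le; omega) hh
    omega
  have hle : q ∣ p + 1 := by
    interval_cases i <;> interval_cases j
    · exfalso; simp at hd; exact hp1 hd
    · simp only [pow_zero] at hd
      rw [e2] at hd
      exact ((hq.dvd_mul).mp hd).resolve_right hp1
    · exfalso
      simp only [pow_one] at hd
      rw [show p ^ 2 - p = p * (p - 1) by rw [Nat.mul_sub, pow_two, mul_one]] at hd
      rcases (hq.dvd_mul).mp hd with h | h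
      · exact hqp.ne' ((Nat.prime_dvd_prime_iff_eq hq hp).mp h)
      · exact hp1 h
  have := Nat.le_of_dvd (by omega) hle
  omega

universe u

open scoped IsMulCommutative in
theorem main : ∀ (n : ℕ) (G : Type u) [Group G] [Finite G], Nat.card G = n →
    (∀ p : ℕ, p.Prime → p ∣ Nat.card G → (∃ q : ℕ, q.Prime ∧ q ∣ Nat.card G ∧ p < q) →
      ∀ P : Sylow p G, IsMulCommutative (P : Subgroup G) ∧ Group.rank (P : Subgroup G) ≤ 2) →
    ¬ 12 ∣ Nat.card G → Group.IsSolvable G := by
  intro n
  induction n using Nat.strong_induction_on with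
  | _ n IH =>
  intro G _ _ hn h h12
  by_cases hn1 : Nat.card G = 1
  · haveI := (Nat.card_eq_one_iff_unique.mp hn1).1
    exact isSolvable_of_comm fun a b => Subsingleton.elim _ _
  set p := (Nat.card G).minFac with hpdef
  have hp : p.Prime := Nat.minFac_prime hn1
  haveI := Fact.mk hp
  by_cases hbig : ∃ q : ℕ, q.Prime ∧ q ∣ Nat.card G ∧ p < q
  swap
  · -- p-group
    have : IsPGroup p G := by
      apply IsPGroup.of_card (n := (Nat.card G).primeFactorsList.length)
      push_neg at hbig
      exact Nat.eq_prime_pow_of_unique_prime_dvd Nat.card_pos.ne' fun {d} hd hdd =>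
        le_antisymm (hbig d hd hdd) (Nat.minFac_le_of_dvd hd.two_le hdd)
    haveI := this.isNilpotent
    infer_instance
  obtain ⟨P⟩ := (inferInstance : Nonempty (Sylow p G))
  obtain ⟨hPc, hPr⟩ := h p hp (Nat.minFac_dvd _) hbig P
  haveI := hPc
  have hNC : Subgroup.normalizer ((P : Subgroup G) : Set G) ≤ Subgroup.centralizer ((P : Subgroup G) : Set G) := by
    set N := Subgroup.normalizer ((P : Subgroup G) : Set G)
    intro g hg
    by_contra hgc
    set φ := (P : Subgroup G).normalizerMonoidHom
    set A := φ.range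
    have hAdiv : Nat.card A ∣ Nat.card G :=
      (Subgroup.card_range_dvd φ).trans (Subgroup.card_subgroup_dvd_card _)
    have hAp : ¬ p ∣ Nat.card A := by
      have hker : (P : Subgroup G).subgroupOf N ≤ φ.ker := by
        rw [Subgroup.normalizerMonoidHom_ker]
        intro x hx
        exact Subgroup.le_centralizer (P : Subgroup G) hx
      intro hd
      apply P.not_dvd_index
      refine hd.trans ?_
      rw [← Subgroup.index_ker]
      refine (Subgroup.index_dvd_of_le hker).trans ?_
      exact Subgroup.relIndex_dvd_index_of_le Subgroup.le_normalizer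
    have hA1 : Nat.card A ≠ 1 := by
      intro h1
      apply hgc
      have h2 : φ.range = ⊥ := Subgroup.card_eq_one.mp h1
      have : (⟨g, hg⟩ : N) ∈ φ.ker := by
        rw [MonoidHom.mem_ker, ← Subgroup.mem_bot, ← h2]; exact ⟨_, rfl⟩
      rw [Subgroup.normalizerMonoidHom_ker] at this
      exact this
    set q := (Nat.card A).minFac
    have hq : q.Prime := Nat.minFac_prime hA1
    haveI := Fact.mk hq
    have hqG : q ∣ Nat.card G := (Nat.minFac_dvd _).trans hAdiv
    have hpq : p < q := lt_of_le_of_ne (Nat.minFac_le_of_dvd hq.two_le hqG)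
      (fun e => hAp ((dvd_of_eq e).trans (Nat.minFac_dvd _)))
    obtain ⟨a, ha⟩ := exists_prime_orderOf_dvd_card' q (Nat.minFac_dvd (Nat.card A))
    have hqe := aut_prime_bound hp hq P.2 hpq hPr (a : MulAut (P : Subgroup G))
      (by rw [← SubmonoidClass.coe_pow, ← ha, pow_orderOf_eq_one]; rfl)
      (fun e => by
        have : a = 1 := Subtype.ext e
        rw [this, orderOf_one] at ha; exact hq.ne_one ha.symm)
    -- then p = 2, q = 3
    have hp2 : p = 2 := by
      rcases hp.eq_two_or_odd' with h2 | h2
      · exact h2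
      · exfalso
        have : 2 ∣ q := by rw [hqe]; obtain ⟨k, hk⟩ := h2; exact ⟨k + 1, by omega⟩
        have := (Nat.prime_dvd_prime_iff_eq Nat.prime_two hq).mp this
        have := hp.two_le; omega
    have hq3 : q = 3 := by omega
    -- 4 does not divide, so P is cyclic
    have h4 : ¬ 4 ∣ Nat.card G := fun h4 => h12 (by
      have h3 : 3 ∣ Nat.card G := hq3 ▸ hqG
      exact Nat.Coprime.mul_dvd_of_dvd_of_dvd (show Nat.Coprime 4 3 by norm_num) h4 h3)
    have hcyc : IsCyclic (P : Subgroup G) := by
      obtain ⟨k, hk⟩ := P.2.exists_card_eq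
      have hk1 : k ≤ 1 := by
        by_contra hk2
        exact h4 ((show 4 ∣ Nat.card (P : Subgroup G) by
          rw [hk, hp2]; exact (show 4 = 2 ^ 2 by norm_num) ▸ pow_dvd_pow 2 (by omega)).trans
          (Subgroup.card_subgroup_dvd_card _))
      interval_cases k
      · haveI : Subsingleton (P : Subgroup G) := (Nat.card_eq_one_iff_unique.mp (by simpa using hk)).1
        infer_instance
      · exact isCyclic_of_prime_card (by simpa using hk)
    exact hgc (IsCyclic.normalizer_le_centralizer hpdef.symm hcyc hg)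
  set f := MonoidHom.transferSylow P hNC
  have hK : Subgroup.IsComplement' f.ker (P : Subgroup G) := MonoidHom.ker_transferSylow_isComplement' P hNC
  have hKp : ¬ p ∣ Nat.card f.ker := MonoidHom.not_dvd_card_ker_transferSylow P hNC
  have hKd : Nat.card f.ker ∣ Nat.card G := Subgroup.card_subgroup_dvd_card _
  haveI : Group.IsSolvable f.ker := by
    refine IH (Nat.card f.ker) ?_ f.ker rfl ?_ fun h' => h12 (h'.trans hKd)
    · rw [← hn]
      refine lt_of_le_of_ne (Nat.le_of_dvd Nat.card_pos hKd) fun e => ?_
      exact hKp (e ▸ Nat.minFac_dvd _)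
    · intro r hr hrd ⟨q, hq, hqd, hrq⟩ R
      haveI := Fact.mk hr
      have hrp : r ≠ p := fun e => hKp (e ▸ hrd)
      have hcardK : Nat.card f.ker * Nat.card (P : Subgroup G) = Nat.card G := hK.card_mul
      obtain ⟨k, hk⟩ := P.2.exists_card_eq
      have hfac : (Nat.card G).factorization r = (Nat.card f.ker).factorization r := by
        rw [← hcardK, hk, Nat.factorization_mul Nat.card_pos.ne' (pow_ne_zero _ hp.ne_zero),
          hp.factorization_pow]
        simp [hrp]
      have hRp : IsPGroup r ((R : Subgroup f.ker).map f.ker.subtype) := R.2.map _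
      obtain ⟨Q, hQ⟩ := hRp.exists_le_sylow
      have hQe : (R : Subgroup f.ker).map f.ker.subtype = Q := by
        refine Subgroup.eq_of_le_of_card_ge hQ (le_of_eq ?_)
        rw [Q.card_eq_multiplicity, Subgroup.card_map_of_injective (Subgroup.subtype_injective _),
          R.card_eq_multiplicity, hfac]
      obtain ⟨hQc, hQr⟩ := h r hr (hrd.trans hKd) ⟨q, hq, hqd.trans hKd, hrq⟩ Q
      let e : (R : Subgroup f.ker) ≃* (Q : Subgroup G) :=
        ((R : Subgroup f.ker).equivMapOfInjective _ (Subgroup.subtype_injective _)).trans (MulEquiv.subgroupCongr hQe)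
      refine ⟨⟨⟨fun a b => e.injective ?_⟩⟩, ?_⟩
      · rw [map_mul, map_mul]; exact hQc.is_comm.comm _ _
      · rw [Group.rank_congr e]; exact hQr
  exact solvable_of_ker_le_range f.ker.subtype f (by rw [Subgroup.range_subtype])

/-- Let `G` be a finite group such that for every prime `p` dividing its order, other than the largest such prime, the Sylow `p`-subgroups are abelian and generated by at most two elements, and suppose `12` does not divide the order of `G`. Then `G` is solvable. In particular a group of cube-free order not divisible by `12` is solvable. -/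
theorem result {G : Type*} [Group G] [Finite G] (h : ∀ p : ℕ, p.Prime → p ∣ Nat.card G → (∃ q : ℕ, q.Prime ∧ q ∣ Nat.card G ∧ p < q) → ∀ P : Sylow p G, IsMulCommutative (P : Subgroup G) ∧ Group.rank (P : Subgroup G) ≤ 2) (h12 : ¬ 12 ∣ Nat.card G) : Group.IsSolvable G := by

  exact main (Nat.card G) G rfl h h12

end Cfsg.Agent.S3970
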