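import Cfsg.Statements.S3971
import Cfsg.Agent.Lib.Invol.RankAut
import Cfsg.Agent.S0071
-- import your own Cfsg.Agent.* helpers here

set_option autoImplicit false
open Cfsg

namespace Cfsg.Agent.S3971

open Subgroup

/-- Let `G` be a finite group of order `2 ^ a * n` with `n` odd and not divisible by `3`, and suppose `G` has an element of order `2 ^ (a - 1)` (so a Sylow `2`-subgroup has a cyclic subgroup of index at most `2`). Then `G` has a normal subgroup of order `n`. -/
theorem result {G : Type*} [Group G] [Finite G] (a n : ℕ) (hG : Nat.card G = 2 ^ a * n) (hn : Odd n) (h3 : ¬ 3 ∣ n) (hx : ∃ x : G, orderOf x = 2 ^ (a - 1)) : ∃ N : Subgroup G, N.Normal ∧ Nat.card N = n := by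
  classical
  haveI : Fact (Nat.Prime 2) := ⟨Nat.prime_two⟩
  obtain ⟨x, hx⟩ := hx
  have hxp : IsPGroup 2 (zpowers x) := IsPGroup.of_card (by rw [Nat.card_zpowers, hx])
  obtain ⟨P, hxP⟩ := hxp.exists_le_sylow
  have hcardP : Nat.card (P : Subgroup G) = 2 ^ a := by
    rw [P.card_eq_multiplicity, hG, Nat.factorization_mul (by positivity) (Nat.pos_iff_ne_zero.1 hn.pos),
      Finsupp.add_apply, Nat.prime_two.factorization_pow, Finsupp.single_eq_same,
      Nat.factorization_eq_zero_of_not_dvd (fun h => Nat.not_even_iff_odd.2 hn (even_iff_two_dvd.2 h)),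
      add_zero]
  have hgen : ∀ Q : Subgroup G, Q ≤ P → ∃ s : Finset G, s.card ≤ 2 ∧ closure (s : Set G) = Q := by
    intro Q hQ
    obtain ⟨c, hc⟩ : ∃ c, zpowers c = Q ⊓ zpowers x := by
      obtain ⟨g, hg⟩ := Subgroup.isCyclic_iff_exists_zpowers_eq_top _ |>.1
        (isCyclic_of_injective (inclusion (inf_le_right : Q ⊓ zpowers x ≤ zpowers x))
          (inclusion_injective _))
      exact ⟨g, hg⟩
    have hidx : (zpowers x).relIndex (P : Subgroup G) ≤ 2 := by
      have h1 := card_mul_index ((zpowers x).subgroupOf (P : Subgroup G))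
      rw [Nat.card_congr (subgroupOfEquivOfLe hxP).toEquiv, Nat.card_zpowers, hx, hcardP] at h1
      change 2 ^ (a - 1) * (zpowers x).relIndex (P : Subgroup G) = 2 ^ a at h1
      refine Nat.le_of_mul_le_mul_left ?_ (pow_pos two_pos (a - 1))
      rw [h1, ← pow_succ]
      exact Nat.pow_le_pow_right two_pos (by omega)
    have hidxQ : (zpowers x).relIndex Q ≤ 2 :=
      (relIndex_le_of_le_right hQ (by exact index_ne_zero_of_finite)).trans hidx
    have hcQ : zpowers c ≤ Q := hc ▸ inf_le_left
    by_cases hall : Q ≤ zpowers x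
    · refine ⟨{c}, by simp, ?_⟩
      rw [Finset.coe_singleton, ← zpowers_eq_closure, hc, inf_eq_left.2 hall]
    obtain ⟨d, hdQ, hdx⟩ := SetLike.not_le_iff_exists.1 hall
    refine ⟨{c, d}, Finset.card_le_two, le_antisymm ?_ ?_⟩
    · rw [closure_le]
      intro u hu
      rcases Finset.mem_insert.1 (Finset.mem_coe.1 hu) with rfl | hu
      · exact hcQ (mem_zpowers _)
      · rw [Finset.mem_singleton.1 hu]; exact hdQ
    · intro u hu
      have hcl : zpowers c ≤ closure (({c, d} : Finset G) : Set G) :=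
        zpowers_le.2 (subset_closure (by simp))
      by_cases hux : u ∈ zpowers x
      · exact hcl (hc ▸ ⟨hu, hux⟩)
      have h2 : ((zpowers x).subgroupOf Q).index = 2 := by
        have h0 : ((zpowers x).subgroupOf Q).index ≠ 1 := fun h => hdx (by
          have := (subgroupOf_eq_top.1 (index_eq_one.1 h)) hdQ
          exact this)
        have : ((zpowers x).subgroupOf Q).index ≤ 2 := hidxQ
        have : ((zpowers x).subgroupOf Q).index ≠ 0 := index_ne_zero_of_finite
        omega
      have hud : (⟨u, hu⟩ * ⟨d, hdQ⟩⁻¹ : Q) ∈ (zpowers x).subgroupOf Q :=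
        (mul_mem_iff_of_index_two h2).2 (iff_of_false hux fun h => hdx (by simpa [mem_subgroupOf] using h))
      have h3 : u * d⁻¹ ∈ closure (({c, d} : Finset G) : Set G) :=
        hcl (by rw [hc]; exact mem_inf.2 ⟨Q.mul_mem hu (Q.inv_mem hdQ), hud⟩)
      simpa using mul_mem h3 (subset_closure (show d ∈ (({c, d} : Finset G) : Set G) by simp))
  obtain ⟨N, hN, hc⟩ := (S0071.result P).2 fun Q hQ g hg ho => by
    obtain ⟨s, hs, hsQ⟩ := hgen Q hQ
    rw [mem_centralizer_iff]
    intro y hy
    refine (Invol.RankAut.commute_of_generated (P.isPGroup'.to_le hQ) s hsQ hg ho (fun i hi1 hi2 => ?_) y hy).eq.symm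
    have h3' : (orderOf g).Coprime 3 := by
      refine ((Nat.prime_three.coprime_iff_not_dvd).2 fun h => ?_).symm
      have h4 : 3 ∣ 2 ^ a * n := hG ▸ h.trans (orderOf_dvd_natCard g)
      rcases Nat.prime_three.dvd_mul.1 h4 with h5 | h5
      · have := Nat.prime_three.dvd_of_dvd_pow h5
        omega
      · exact h3 h5
    obtain rfl | rfl : i = 1 ∨ i = 2 := by omega
    · simp
    · norm_num; exact h3'
  refine ⟨N, hN, ?_⟩
  have h1 := hc.card_mul_card
  rw [hcardP, hG, mul_comm (2 ^ a)] at h1
  exact Nat.eq_of_mul_eq_mul_right (by positivity) h1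

end Cfsg.Agent.S3971
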