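import Cfsg.Statements.S3972
import Cfsg.Agent.Lib.FGB.CyclicRegular

set_option autoImplicit false
open Cfsg

namespace Cfsg.Agent.S3972

open Polynomial
open Cfsg.Agent.FGB

universe u

variable {A : Type u} [Group A] {p m N : ℕ} [NeZero N] [hp : Fact p.Prime]

/-- A proper non-trivial invariant subgroup gives blocks. -/
theorem kernel_of_subgroup (hN : N = p ^ (m + 1)) (γ : A →* Equiv.Perm (ZMod N)) {g : A}
    (hg : ∀ i, γ g i = i + 1) (B : AddSubgroup (ZMod N)) (hB : B ≠ ⊤)
    (hinv : CycReg.Inv γ (fun i => i ∈ B)) {y : ZMod N} (hy : y ∈ B) (hy0 : y ≠ 0) :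
    ∃ K : Subgroup A, K.Normal ∧ g ∉ K ∧ g ^ (p ^ m) ∈ K ∧
      ∀ a ∈ K, ∀ i, ∃ t, γ a i - i = p • t := by
  refine CycReg.exists_kernel hN γ hg (B : Set (ZMod N)) ?_ ?_ hy hy0
  · intro z hz
    by_contra hcon
    apply hB
    rw [eq_top_iff]
    intro w _
    have hco : Nat.Coprime z.val N := by
      refine Nat.Coprime.coprime_dvd_right (dvd_of_eq hN) ?_
      refine Nat.Coprime.pow_right _ ((Nat.Prime.coprime_iff_not_dvd hp.out).2 fun hd => hcon ?_).symm
      obtain ⟨c, hc⟩ := hd
      exact ⟨(c : ZMod N), by rw [nsmul_eq_mul, ← Nat.cast_mul, ← hc, ZMod.natCast_zmod_val]⟩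
    have h1 := B.nsmul_mem hz (w * (z.val : ZMod N)⁻¹).val
    rw [nsmul_eq_mul, ZMod.natCast_zmod_val] at h1
    have h2 : z * (z.val : ZMod N)⁻¹ = 1 := by
      conv_lhs => arg 1; rw [← ZMod.natCast_zmod_val z]
      exact ZMod.coe_mul_inv_eq_one _ hco
    rwa [mul_assoc, mul_comm _ z, h2, mul_one] at h1
  · intro a i s hs
    have h := hinv.two_point hg a i (i + s)
    rw [add_sub_cancel_left] at h
    exact (iff_of_eq h).2 hs

theorem two_trans_of_no_kernel (hN : N = p ^ (m + 1)) (hm : 1 ≤ m) (γ : A →* Equiv.Perm (ZMod N))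
    {g : A} (hg : ∀ i, γ g i = i + 1)
    (hno : ¬ ∃ K : Subgroup A, K.Normal ∧ g ∉ K ∧ g ^ (p ^ m) ∈ K ∧
      ∀ a ∈ K, ∀ i, ∃ t, γ a i - i = p • t) :
    ∀ x y : ZMod N, x ≠ 0 → y ≠ 0 → ∃ a, γ a 0 = 0 ∧ γ a x = y := by
  classical
  have hcos := (CycReg.dichotomy (p := p) (m := m) hN γ hg).resolve_left hno
  set e1 : ZMod N := ((p ^ m : ℕ) : ZMod N) with he1
  have he1p : p • e1 = 0 := (CycReg.nsmul_eq_zero_iff hN e1).2 ⟨1, hp.out.one_lt, by rw [one_mul]⟩
  have hlt : p ^ m < N := hN ▸ Nat.pow_lt_pow_right hp.out.one_lt (by omega)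
  have he10 : e1 ≠ 0 := by
    intro h
    rw [he1, ZMod.natCast_eq_zero_iff] at h
    exact absurd (Nat.le_of_dvd (pow_pos hp.out.pos m) h) (not_le.2 hlt)
  set E : Finset (ZMod N) := Finset.univ.filter fun e => p • e = 0 with hE
  have hmemE : ∀ e, e ∈ E ↔ p • e = 0 := fun e => by simp [hE]
  have hEimg : E = (Finset.range p).image fun j => ((j * p ^ m : ℕ) : ZMod N) := by
    ext e
    rw [hmemE, CycReg.nsmul_eq_zero_iff hN, Finset.mem_image]
    exact ⟨fun ⟨j, hj, h⟩ => ⟨j, Finset.mem_range.2 hj, h.symm⟩,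
      fun ⟨j, hj, h⟩ => ⟨j, Finset.mem_range.1 hj, h.symm⟩⟩
  have hjinj : Set.InjOn (fun j => ((j * p ^ m : ℕ) : ZMod N)) (Finset.range p : Set ℕ) := by
    intro i hi j hj h
    have hb : ∀ j, j ∈ (Finset.range p : Set ℕ) → j * p ^ m < N := fun j hj => by
      calc j * p ^ m < p * p ^ m :=
            Nat.mul_lt_mul_of_pos_right (Finset.mem_range.1 hj) (pow_pos hp.out.pos m)
        _ = N := by rw [hN, pow_succ, mul_comm]
    have := congrArg ZMod.val h
    simp only at this
    rw [ZMod.val_natCast_of_lt (hb i hi), ZMod.val_natCast_of_lt (hb j hj)] at this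
    exact Nat.eq_of_mul_eq_mul_right (pow_pos hp.out.pos m) this
  -- sets avoiding `E` have trivial period group, so every invariant set meets `E`
  have hmeet : ∀ T : Finset (ZMod N), CycReg.Inv γ (fun i => i ∈ T) → T.Nonempty → (0 : ZMod N) ∉ T →
      ∃ e ∈ T, p • e = 0 := by
    intro T hT hne h0
    by_contra hcon
    push Not at hcon
    let B : AddSubgroup (ZMod N) :=
      { carrier := {b | ∀ x, x + b ∈ T ↔ x ∈ T}
        zero_mem' := fun x => by rw [add_zero]
        add_mem' := fun {a b} ha hb x => by rw [← add_assoc, hb, ha]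
        neg_mem' := fun {b} hb x => by
          have := hb (x + -b)
          rw [neg_add_cancel_right] at this
          exact this.symm }
    have hBmem : ∀ b, b ∈ B ↔ ∀ x, x + b ∈ T ↔ x ∈ T := fun b => Iff.rfl
    have hBne : B ≠ ⊤ := by
      intro hB
      obtain ⟨t, ht⟩ := hne
      have := ((hBmem (-t)).1 (hB ▸ AddSubgroup.mem_top _) t).2 ht
      rw [add_neg_cancel] at this
      exact h0 this
    have he1B : e1 ∈ B := by
      rw [hBmem]
      intro x
      by_cases hx : p • x = 0
      · refine iff_of_false (fun h => hcon _ h ?_) (fun h => hcon _ h hx)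
        rw [nsmul_add, hx, he1p, add_zero]
      · exact hcos T hT x e1 hx he1p
    refine hno (kernel_of_subgroup hN γ hg B hBne ?_ he1B he10)
    intro a ha b
    show (γ a b ∈ B) = (b ∈ B)
    refine propext ⟨fun h => ?_, fun h => ?_⟩
    · rw [hBmem] at h ⊢
      intro x
      have h1 := h (-(γ a (-x)))
      have h2 := hT.two_point hg a (-x) b
      have h3 := hT.two_point hg a (-x) 0
      rw [ha, zero_sub, zero_sub, neg_neg] at h3
      rw [sub_neg_eq_add] at h2
      rw [neg_add_eq_sub, iff_of_eq h2, iff_of_eq h3, add_comm] at h1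
      exact h1
    · rw [hBmem] at h ⊢
      intro x
      set z := (γ a).symm (-x) with hz
      have hzx : γ a z = -x := by rw [hz, Equiv.apply_symm_apply]
      have h2 := hT.two_point hg a z b
      have h3 := hT.two_point hg a z 0
      rw [ha, zero_sub, zero_sub, hzx, neg_neg] at h3
      rw [hzx, sub_neg_eq_add] at h2
      rw [add_comm, iff_of_eq h2, iff_of_eq h3]
      have h4 := h (-z)
      rwa [neg_add_eq_sub] at h4
  -- Fourier transform
  obtain ⟨ζ, hζ⟩ : ∃ ζ : ℂ, IsPrimitiveRoot ζ N := ⟨_, Complex.isPrimitiveRoot_exp N (NeZero.ne N)⟩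
  set χ : ZMod N → ℂ := fun i => ζ ^ i.val with hχ
  have hχn : ∀ n : ℕ, χ (n : ZMod N) = ζ ^ n := fun n => by
    simp only [hχ, ZMod.val_natCast]
    conv_rhs => rw [← Nat.mod_add_div n N, pow_add, pow_mul, hζ.pow_eq_one, one_pow, mul_one]
  have hχadd : ∀ a b : ZMod N, χ (a + b) = χ a * χ b := fun a b => by
    rw [← ZMod.natCast_zmod_val a, ← ZMod.natCast_zmod_val b, ← Nat.cast_add, hχn, hχn, hχn, pow_add]
  have hχ0 : χ 0 = 1 := by simp [hχ]
  have hχsum : ∀ i : ZMod N, i ≠ 0 → ∑ j, χ (i * j) = 0 := by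
    intro i hi
    have h1 : (∑ j, χ (i * j)) = χ i * ∑ j, χ (i * j) := by
      conv_lhs => rw [← Equiv.sum_comp (Equiv.addRight (1 : ZMod N))]
      rw [Finset.mul_sum]
      exact Finset.sum_congr rfl fun j _ => by
        rw [Equiv.coe_addRight, mul_add, mul_one, hχadd, mul_comm]
    by_contra hne
    have h2 : χ i = 1 := mul_right_cancel₀ hne (by rw [← h1, one_mul])
    have h3 := Nat.eq_zero_of_dvd_of_lt ((hζ.pow_eq_one_iff_dvd _).1 h2) (ZMod.val_lt i)
    exact hi ((ZMod.val_eq_zero i).1 h3)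
  set F : ZMod N → (ZMod N → ℂ) → ℂ := fun j f => ∑ i, f i * χ (i * j) with hF
  -- a faithful character in the class of `e1`
  obtain ⟨j, hj, hjc⟩ : ∃ j : ZMod N, p • j ≠ 0 ∧ ¬ (∃ c, j = p • c) ∧
      ∀ f, CycReg.Inv γ f → F j f = F e1 f := by
    by_contra hcon
    push Not at hcon
    have hsep : ∀ s : Finset (ZMod N), (∀ j ∈ s, ∃ f, CycReg.Inv γ f ∧ F j f ≠ F e1 f) →
        ∃ e, CycReg.Inv γ e ∧ F e1 e = 1 ∧ ∀ j ∈ s, F j e = 0 := by
      intro s
      induction s using Finset.induction_on with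
      | empty =>
        intro _
        refine ⟨fun i => if i = 0 then 1 else 0, ?_, ?_, by simp⟩
        · intro a ha i
          by_cases hi : i = 0
          · simp [hi, ha]
          · have : γ a i ≠ 0 := fun h => hi ((γ a).injective (by rw [h, ha]))
            simp [hi, this]
        · simp [hF, hχ0]
      | insert j s hjs ih =>
        intro hs
        obtain ⟨e, he, he0, hes⟩ := ih fun i hi => hs i (Finset.mem_insert_of_mem hi)
        obtain ⟨f, hf, hne⟩ := hs j (Finset.mem_insert_self _ _)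
        set c := (F e1 f - F j f)⁻¹ with hc
        set h : ZMod N → ℂ := fun i => c * (f i - if i = 0 then F j f else 0) with hh
        have hhi : CycReg.Inv γ h := by
          intro a ha i
          have h0 : (γ a i = 0) ↔ (i = 0) :=
            ⟨fun h => (γ a).injective (by rw [h, ha]), fun h => by rw [h, ha]⟩
          simp only [hh, hf a ha i, h0]
        have hFh : ∀ l, F l h = c * (F l f - F j f) := by
          intro l
          simp only [hF, hh, mul_assoc, ← Finset.mul_sum, sub_mul, Finset.sum_sub_distrib, ite_mul,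
            zero_mul, Finset.sum_ite_eq', Finset.mem_univ, if_true, hχ0, mul_one]
        have hconv : ∀ l, F l (fun y => ∑ t, e t * h (y - t)) = F l e * F l h := by
          intro l
          simp only [hF]
          rw [Finset.sum_mul_sum]
          simp only [Finset.sum_mul]
          rw [Finset.sum_comm]
          refine Finset.sum_congr rfl fun t _ => ?_
          rw [← Equiv.sum_comp (Equiv.addLeft t)]
          refine Finset.sum_congr rfl fun i _ => ?_
          rw [Equiv.coe_addLeft, add_sub_cancel_left, add_mul, hχadd]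
          ring
        refine ⟨_, he.conv hhi hg, ?_, ?_⟩
        · rw [hconv, he0, hFh, one_mul, hc, inv_mul_cancel₀ (sub_ne_zero.2 (Ne.symm hne))]
        · intro l hl
          rw [hconv]
          rcases Finset.mem_insert.1 hl with rfl | hl
          · rw [hFh, sub_self, mul_zero, mul_zero]
          · rw [hes l hl, zero_mul]
    obtain ⟨e, he, he0, hes⟩ := hsep (Finset.univ.filter fun j : ZMod N => ¬ ∃ c, j = p • c) (by
      intro j hj
      rw [Finset.mem_filter] at hj
      have hpj : p • j ≠ 0 := by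
        intro h
        obtain ⟨l, -, rfl⟩ := (CycReg.nsmul_eq_zero_iff hN j).1 h
        exact hj.2 ⟨((l * p ^ (m - 1) : ℕ) : ZMod N), by
          rw [nsmul_eq_mul, ← Nat.cast_mul,
            show p * (l * p ^ (m - 1)) = l * (p * p ^ (m - 1)) by ring, ← pow_succ',
            show m - 1 + 1 = m by omega]⟩
      obtain ⟨f, hf, hne⟩ := hcon j hpj fun c hc => hj.2 ⟨c, hc⟩
      exact ⟨f, hf, hne⟩)
    -- `e` has period `e1`
    have hper : ∀ x, e (x + e1) = e x := by
      set d : ZMod N → ℂ := fun x => e (x + e1) - e x with hd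
      have hFd : ∀ l, F l d = 0 := by
        intro l
        have h1 : F l e = χ (e1 * l) * ∑ i, e (i + e1) * χ (i * l) := by
          simp only [hF]
          rw [← Equiv.sum_comp (Equiv.addRight e1), Finset.mul_sum]
          refine Finset.sum_congr rfl fun i _ => ?_
          rw [Equiv.coe_addRight, add_mul, hχadd]; ring
        by_cases hl : ∃ c, l = p • c
        · obtain ⟨c, rfl⟩ := hl
          rw [show e1 * (p • c) = 0 by rw [mul_smul_comm, ← smul_mul_assoc, he1p, zero_mul], hχ0,
            one_mul] at h1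
          simp only [hd, hF, sub_mul, Finset.sum_sub_distrib]
          rw [← h1]; simp [hF]
        · have h2 := hes l (Finset.mem_filter.2 ⟨Finset.mem_univ _, hl⟩)
          rw [h2] at h1
          have h3 : (∑ i, e (i + e1) * χ (i * l)) = 0 :=
            (mul_eq_zero.1 h1.symm).resolve_left (pow_ne_zero _ (hζ.ne_zero (NeZero.ne N)))
          simp only [hF] at h2
          simp only [hd, hF, sub_mul, Finset.sum_sub_distrib]
          rw [h3, h2, sub_zero]
      intro x
      have hinv : ∑ l, F l d * χ (-x * l) = N * d x := by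
        simp only [hF, Finset.sum_mul]
        rw [Finset.sum_comm, Finset.sum_eq_single x]
        · simp only [mul_assoc, ← hχadd, neg_mul, add_neg_cancel, hχ0, mul_one]
          simp
        · intro i _ hi
          simp only [mul_assoc, ← hχadd]
          simp only [← add_mul]
          rw [← Finset.mul_sum, hχsum _ (fun h => hi (by rwa [← sub_eq_add_neg, sub_eq_zero] at h)),
            mul_zero]
        · intro h; exact absurd (Finset.mem_univ _) h
      simp only [hFd, zero_mul, Finset.sum_const_zero] at hinv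
      exact sub_eq_zero.1 ((mul_eq_zero.1 hinv.symm).resolve_left (Nat.cast_ne_zero.2 (NeZero.ne N)))
    let B : AddSubgroup (ZMod N) :=
      { carrier := {b | ∀ x, e (x + b) = e x}
        zero_mem' := fun x => by rw [add_zero]
        add_mem' := fun {a b} ha hb x => by rw [← add_assoc, hb, ha]
        neg_mem' := fun {b} hb x => by
          have := hb (x + -b)
          rw [neg_add_cancel_right] at this
          exact this.symm }
    have hBmem : ∀ b, b ∈ B ↔ ∀ x, e (x + b) = e x := fun b => Iff.rfl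
    have hBne : B ≠ ⊤ := by
      intro hB
      have hconst : ∀ x, e x = e 0 := fun x => by
        have := (hBmem x).1 (hB ▸ AddSubgroup.mem_top x) 0
        rwa [zero_add] at this
      have h1 : F e1 e = e 0 * ∑ i, χ (e1 * i) := by
        simp only [hF, Finset.mul_sum]
        exact Finset.sum_congr rfl fun i _ => by rw [hconst i, mul_comm i e1]
      rw [he0, hχsum e1 he10, mul_zero] at h1
      exact one_ne_zero h1
    refine hno (kernel_of_subgroup hN γ hg B hBne ?_ ((hBmem e1).2 hper) he10)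
    intro a ha b
    show (γ a b ∈ B) = (b ∈ B)
    refine propext ⟨fun h => ?_, fun h => ?_⟩
    · rw [hBmem] at h ⊢
      intro x
      have h1 := h (-(γ a (-x)))
      have h2 := he.two_point hg a (-x) b
      have h3 := he.two_point hg a (-x) 0
      rw [ha, zero_sub, zero_sub, neg_neg] at h3
      rw [sub_neg_eq_add] at h2
      rw [neg_add_eq_sub, h2, h3, add_comm] at h1
      exact h1
    · rw [hBmem] at h ⊢
      intro x
      set z := (γ a).symm (-x) with hz
      have hzx : γ a z = -x := by rw [hz, Equiv.apply_symm_apply]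
      have h2 := he.two_point hg a z b
      have h3 := he.two_point hg a z 0
      rw [ha, zero_sub, zero_sub, hzx, neg_neg] at h3
      rw [hzx, sub_neg_eq_add] at h2
      rw [add_comm, h2, h3]
      have h4 := h (-z)
      rwa [neg_add_eq_sub] at h4
  -- each invariant set contains all of `E` but `0`
  have hmain : ∀ T : Finset (ZMod N), CycReg.Inv γ (fun i => i ∈ T) → T.Nonempty → (0 : ZMod N) ∉ T →
      e1 ∈ T := by
    intro T hT hne h0
    set T0 : Finset ℕ := (Finset.range p).filter fun s => ((s * p ^ m : ℕ) : ZMod N) ∈ T with hT0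
    obtain ⟨e, heT, hep⟩ := hmeet T hT hne h0
    obtain ⟨s1, hs1, rfl⟩ := (CycReg.nsmul_eq_zero_iff hN e).1 hep
    -- values of the two characters
    set To : Finset (ZMod N) := T.filter fun t => p • t ≠ 0 with hTo
    have hsplit : ∀ f : ZMod N → ℂ, ∑ i, (if i ∈ T then (1 : ℂ) else 0) * f i
        = ∑ s ∈ T0, f ((s * p ^ m : ℕ) : ZMod N) + ∑ t ∈ To, f t := by
      intro f
      simp only [ite_mul, one_mul, zero_mul]
      rw [Finset.sum_ite_mem, Finset.univ_inter,
        ← Finset.sum_filter_add_sum_filter_not T (fun t => p • t = 0)]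
      congr 1
      have : T.filter (fun t => p • t = 0) = T0.image fun s => ((s * p ^ m : ℕ) : ZMod N) := by
        ext t
        simp only [Finset.mem_filter, Finset.mem_image, hT0, Finset.mem_range]
        constructor
        · rintro ⟨ht, htp⟩
          obtain ⟨s, hs, rfl⟩ := (CycReg.nsmul_eq_zero_iff hN t).1 htp
          exact ⟨s, ⟨hs, ht⟩, rfl⟩
        · rintro ⟨s, ⟨hs, ht⟩, rfl⟩
          exact ⟨ht, (CycReg.nsmul_eq_zero_iff hN _).2 ⟨s, hs, rfl⟩⟩
      rw [this, Finset.sum_image fun a ha b hb h => hjinj (Finset.mem_filter.1 ha).1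
        (Finset.mem_filter.1 hb).1 h]
    have hTos : ∀ t, t + e1 ∈ To ↔ t ∈ To := by
      intro t
      simp only [hTo, Finset.mem_filter]
      have hpp : p • (t + e1) = p • t := by rw [nsmul_add, he1p, add_zero]
      rw [hpp]
      constructor
      · rintro ⟨h1, h2⟩; exact ⟨(hcos T hT t e1 h2 he1p).1 h1, h2⟩
      · rintro ⟨h1, h2⟩; exact ⟨(hcos T hT t e1 h2 he1p).2 h1, h2⟩
    have hFj : ∑ t ∈ To, χ (t * j) = 0 := by
      have h1 : (∑ t ∈ To, χ (t * j)) = χ (e1 * j) * ∑ t ∈ To, χ (t * j) := by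
        rw [Finset.mul_sum]
        refine (Finset.sum_bij (fun t _ => t + e1) (fun t ht => (hTos t).2 ht)
          (fun a _ b _ h => add_right_cancel h)
          (fun b hb => ⟨b - e1, (hTos _).1 (by rwa [sub_add_cancel]), sub_add_cancel b e1⟩)
          (fun t _ => ?_)).symm
        rw [add_mul, hχadd, mul_comm]
      by_contra hne0
      have h2 : χ (e1 * j) = 1 := mul_right_cancel₀ hne0 (by rw [← h1, one_mul])
      have h3 : e1 * j = 0 :=
        (ZMod.val_eq_zero _).1 (Nat.eq_zero_of_dvd_of_lt ((hζ.pow_eq_one_iff_dvd _).1 h2) (ZMod.val_lt _))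
      rw [he1, ← ZMod.natCast_zmod_val j, ← Nat.cast_mul, ZMod.natCast_eq_zero_iff] at h3
      have h3' : p ^ m * p ∣ p ^ m * j.val := (dvd_of_eq (by rw [hN, pow_succ])).trans h3
      obtain ⟨c, hc⟩ := (Nat.mul_dvd_mul_iff_left (pow_pos hp.out.pos m)).1 h3'
      exact hjc.1 ⟨(c : ZMod N), by rw [nsmul_eq_mul, ← Nat.cast_mul, ← hc, ZMod.natCast_zmod_val]⟩
    have heq := hjc.2 (fun i => if i ∈ T then (1 : ℂ) else 0) (fun a ha i => by
      simp only [eq_iff_iff.1 (hT a ha i)])
    simp only [hF] at heq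
    rw [hsplit, hsplit, hFj, add_zero] at heq
    -- reduce to the roots of unity of order `p`
    set ω : ℂ := ζ ^ (p ^ m) with hω
    have hωp : IsPrimitiveRoot ω p := hζ.pow (Nat.pos_of_ne_zero (NeZero.ne N)) (by rw [hN, pow_succ])
    set ω' : ℂ := ω ^ j.val with hω'
    have hjnd : ¬ p ∣ j.val := by
      rintro ⟨c, hc⟩
      exact hjc.1 ⟨(c : ZMod N), by rw [nsmul_eq_mul, ← Nat.cast_mul, ← hc, ZMod.natCast_zmod_val]⟩
    have hω'p : IsPrimitiveRoot ω' p :=
      hωp.pow_of_coprime _ ((Nat.Prime.coprime_iff_not_dvd hp.out).2 hjnd).symm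
    obtain ⟨w, -, hw⟩ := hω'p.eq_pow_of_pow_eq_one (ξ := ω) hωp.pow_eq_one
    have hpN : p ∣ N := hN ▸ dvd_pow_self p (by omega)
    have hv1 : ∀ s, χ (((s * p ^ m : ℕ) : ZMod N) * j) = ω' ^ s := by
      intro s
      rw [← ZMod.natCast_zmod_val j, ← Nat.cast_mul, hχn, hω', hω, ← pow_mul, ← pow_mul]
      congr 1; ring
    have hv2 : ∀ s, χ (((s * p ^ m : ℕ) : ZMod N) * e1) = 1 := by
      intro s
      rw [he1, ← Nat.cast_mul, hχn, hζ.pow_eq_one_iff_dvd, hN, mul_assoc, ← pow_add]
      exact dvd_mul_of_dvd_right (pow_dvd_pow p (by omega)) s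
    have hv3 : ∀ t : ZMod N, χ (t * e1) = ω' ^ (w * (t.val % p)) := by
      intro t
      rw [pow_mul, hw, he1]
      conv_lhs => rw [← ZMod.natCast_zmod_val t, ← Nat.cast_mul, hχn]
      rw [mul_comm, pow_mul, ← hω]
      conv_lhs => rw [← Nat.mod_add_div t.val p, pow_add, pow_mul, hωp.pow_eq_one, one_pow, mul_one]
    rw [Finset.sum_congr rfl fun s _ => hv1 s, Finset.sum_congr rfl fun s _ => hv2 s,
      Finset.sum_congr rfl fun t _ => hv3 t, Finset.sum_const, nsmul_one] at heq
    set cnt : ℕ → ℕ := fun r => (To.filter fun t => t.val % p = r).card with hcnt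
    have hcntp : ∀ r, p ∣ cnt r := by
      intro r
      set Tr := To.filter fun t => t.val % p = r with hTr
      have he1mod : ∀ t : ZMod N, ∀ e, p • e = 0 → (t + e).val % p = t.val % p := by
        intro t e he
        obtain ⟨l, -, rfl⟩ := (CycReg.nsmul_eq_zero_iff hN e).1 he
        conv_lhs => rw [← ZMod.natCast_zmod_val t, ← Nat.cast_add, ZMod.val_natCast,
          Nat.mod_mod_of_dvd _ hpN]
        obtain ⟨m', rfl⟩ : ∃ m', m = m' + 1 := ⟨m - 1, by omega⟩
        rw [pow_succ, ← mul_assoc, Nat.add_mul_mod_self_right]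
      rw [show cnt r = Tr.card from rfl,
        Finset.card_eq_sum_card_image (fun t : ZMod N => p • t) Tr]
      refine Finset.dvd_sum fun y hy => ?_
      obtain ⟨t, ht, rfl⟩ := Finset.mem_image.1 hy
      rw [hTr, Finset.mem_filter, hTo, Finset.mem_filter] at ht
      have : (Tr.filter fun t' => p • t' = p • t) = E.image (t + ·) := by
        ext t'
        simp only [Finset.mem_filter, Finset.mem_image, hmemE]
        constructor
        · rintro ⟨-, h2⟩
          exact ⟨t' - t, by rw [nsmul_sub, h2, sub_self], add_sub_cancel _ _⟩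
        · rintro ⟨e, he, rfl⟩
          refine ⟨?_, by rw [nsmul_add, he, add_zero]⟩
          rw [hTr, Finset.mem_filter, hTo, Finset.mem_filter, nsmul_add, he, add_zero, he1mod t e he]
          exact ⟨⟨(hcos T hT t e ht.1.2 he).2 ht.1.1, ht.1.2⟩, ht.2⟩
      rw [this, Finset.card_image_of_injective _ (add_right_injective t), hEimg,
        Finset.card_image_of_injOn hjinj, Finset.card_range]
    set Q : ℤ[X] := ∑ s ∈ T0, X ^ s - C (T0.card : ℤ)
      - ∑ r ∈ Finset.range p, C (cnt r : ℤ) * X ^ (w * r) with hQ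
    have hQω : aeval ω' Q = 0 := by
      have h2 : ∑ t ∈ To, ω' ^ (w * (t.val % p))
          = ∑ r ∈ Finset.range p, (cnt r : ℂ) * ω' ^ (w * r) := by
        rw [← Finset.sum_fiberwise_of_maps_to (g := fun t : ZMod N => t.val % p)
          (t := Finset.range p) (fun t _ => Finset.mem_range.2 (Nat.mod_lt _ hp.out.pos))]
        refine Finset.sum_congr rfl fun r _ => ?_
        rw [Finset.sum_congr rfl fun t ht => by rw [(Finset.mem_filter.1 ht).2],
          Finset.sum_const, nsmul_eq_mul]
      rw [hQ, map_sub, map_sub, map_sum, map_sum]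
      simp only [map_pow, aeval_X, map_mul, aeval_C, map_natCast]
      rw [heq, h2]; ring
    have hdvd : cyclotomic p ℤ ∣ Q := by
      rw [cyclotomic_eq_minpoly hω'p hp.out.pos]
      exact minpoly.isIntegrallyClosed_dvd (hω'p.isIntegral hp.out.pos) hQω
    have h5 := Polynomial.map_dvd (Int.castRingHom (ZMod p)) hdvd
    rw [cyclotomic_prime ℤ p, Polynomial.map_sum] at h5
    simp only [Polynomial.map_pow, map_X] at h5
    set G : (ZMod p)[X] := ∑ i ∈ Finset.range p, X ^ i with hG
    set Q0 : (ZMod p)[X] := ∑ s ∈ T0, X ^ s - C (T0.card : ZMod p) with hQ0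
    have hQmap : Q.map (Int.castRingHom (ZMod p)) = Q0 := by
      rw [hQ, Polynomial.map_sub, Polynomial.map_sub, Polynomial.map_sum, Polynomial.map_sum]
      simp only [Polynomial.map_pow, map_X, Polynomial.map_mul, map_C, eq_intCast, Int.cast_natCast,
        Polynomial.map_natCast]
      rw [Finset.sum_eq_zero (s := Finset.range p) fun r _ => by
        rw [Polynomial.C_eq_natCast] at *
        simp [(CharP.cast_eq_zero_iff (ZMod p)[X] p _).2 (hcntp r)], sub_zero, hQ0, Polynomial.C_eq_natCast]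
    rw [hQmap] at h5
    obtain ⟨c, hc⟩ := h5
    have hGdeg : G.natDegree = p - 1 := by
      rw [hG, ← cyclotomic_prime, natDegree_cyclotomic, Nat.totient_prime hp.out]
    have hGc : ∀ i < p, G.coeff i = 1 := fun i hi => by
      rw [hG, finsetSum_coeff, Finset.sum_eq_single i]
      · simp
      · intro b _ hb; rw [coeff_X_pow, if_neg (Ne.symm hb)]
      · intro h; exact absurd (Finset.mem_range.2 hi) h
    have hQ0deg : Q0.natDegree ≤ p - 1 := by
      rw [hQ0]
      refine (natDegree_sub_le _ _).trans (max_le ?_ (by simp))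
      refine natDegree_sum_le_of_forall_le _ _ fun s hs => ?_
      rw [natDegree_X_pow]
      have := Finset.mem_range.1 (Finset.mem_filter.1 hs).1
      omega
    have hQ0c : ∀ i, 0 < i → Q0.coeff i = if i ∈ T0 then 1 else 0 := fun i hi => by
      rw [hQ0, coeff_sub, finsetSum_coeff, coeff_C, if_neg (by omega), sub_zero]
      simp only [coeff_X_pow]
      rw [Finset.sum_ite_eq]
    have hs10 : s1 ≠ 0 := fun h => h0 (by rw [h, zero_mul, Nat.cast_zero] at heT; exact heT)
    have hcdeg : c.natDegree = 0 := by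
      by_cases hc0 : c = 0
      · rw [hc0, natDegree_zero]
      have h6 := congrArg natDegree hc
      rw [natDegree_mul (fun h => by have := hGc 0 hp.out.pos; rw [h, coeff_zero] at this; exact zero_ne_one this) hc0,
        hGdeg] at h6
      omega
    rw [eq_C_of_natDegree_eq_zero hcdeg] at hc
    have hcoef : ∀ i, 0 < i → i < p → (if i ∈ T0 then (1 : ZMod p) else 0) = c.coeff 0 := fun i hi hip => by
      rw [← hQ0c i hi, hc, coeff_mul_C, hGc i hip, one_mul]
    have h7 := (hcoef 1 one_pos hp.out.one_lt).trans (hcoef s1 (Nat.pos_of_ne_zero hs10) hs1).symm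
    rw [if_pos (Finset.mem_filter.2 ⟨Finset.mem_range.2 hs1, heT⟩)] at h7
    by_contra h8
    rw [if_neg (fun h => h8 (by simpa [he1] using (Finset.mem_filter.1 h).2))] at h7
    exact zero_ne_one h7
  intro x y hx hy
  have horb : ∀ z : ZMod N, z ≠ 0 → ∃ a, γ a 0 = 0 ∧ γ a z = e1 := by
    intro z hz
    set T : Finset (ZMod N) := Finset.univ.filter fun i => ∃ a, γ a 0 = 0 ∧ γ a z = i with hT
    have := hmain T ?_ ⟨z, Finset.mem_filter.2 ⟨Finset.mem_univ _, 1, by simp, by simp⟩⟩ ?_
    · exact (Finset.mem_filter.1 this).2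
    · intro a ha i
      apply propext
      simp only [hT, Finset.mem_filter, Finset.mem_univ, true_and]
      constructor
      · rintro ⟨b, hb, hbi⟩
        refine ⟨a⁻¹ * b, ?_, ?_⟩
        · rw [map_mul, Equiv.Perm.mul_apply, hb, map_inv, Equiv.Perm.inv_eq_iff_eq, ha]
        · rw [map_mul, Equiv.Perm.mul_apply, hbi, map_inv, Equiv.Perm.inv_eq_iff_eq]
      · rintro ⟨b, hb, hbi⟩
        exact ⟨a * b, by rw [map_mul, Equiv.Perm.mul_apply, hb, ha],
          by rw [map_mul, Equiv.Perm.mul_apply, hbi]⟩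
    · intro h
      obtain ⟨a, ha, haz⟩ := (Finset.mem_filter.1 h).2
      exact hz ((γ a).injective (by rw [haz, ha]))
  obtain ⟨a, ha0, hax⟩ := horb x hx
  obtain ⟨b, hb0, hby⟩ := horb y hy
  refine ⟨b⁻¹ * a, ?_, ?_⟩
  · rw [map_mul, Equiv.Perm.mul_apply, ha0, map_inv, Equiv.Perm.inv_eq_iff_eq, hb0]
  · rw [map_mul, Equiv.Perm.mul_apply, hax, map_inv, Equiv.Perm.inv_eq_iff_eq, hby]


/-- Let `p` be a prime, `m ≥ 2`, and `G` a transitive but not doubly transitive permutation group on `p ^ m` points containing a permutation of order `p ^ m` (necessarily a full cycle). Then `G` is imprimitive, and the normal closure in `G` of the `p ^ (m - 1)`-th power of that permutation is an intransitive normal subgroup. -/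
theorem result {Ω : Type*} [Fintype Ω] [DecidableEq Ω] (p m : ℕ) (hp : p.Prime) (hm : 2 ≤ m) (hΩ : Fintype.card Ω = p ^ m) (G : Subgroup (Equiv.Perm Ω)) (htr : MulAction.IsPretransitive G Ω) (h2 : ¬ MulAction.IsMultiplyPretransitive G Ω 2) (g : G) (hg : orderOf g = p ^ m) : ¬ MulAction.IsPreprimitive G Ω ∧ ¬ MulAction.IsPretransitive (Subgroup.normalClosure ({g ^ (p ^ (m - 1))} : Set G)) Ω := by
  classical
  haveI := Fact.mk hp
  obtain ⟨M, rfl⟩ : ∃ M, m = M + 1 := ⟨m - 1, by omega⟩
  rw [Nat.add_sub_cancel]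
  set N := p ^ (M + 1) with hN
  haveI : NeZero N := ⟨pow_ne_zero _ hp.ne_zero⟩
  set c : Equiv.Perm Ω := (g : Equiv.Perm Ω) with hc
  have hco : orderOf c = N := by rw [hc, Subgroup.orderOf_coe, hg]
  obtain ⟨x, hx⟩ : ∃ x, (c ^ p ^ M) x ≠ x := by
    by_contra hcon
    push Not at hcon
    have h1 : c ^ p ^ M = 1 := Equiv.ext hcon
    rw [← orderOf_dvd_iff_pow_eq_one, hco, hN, Nat.pow_dvd_pow_iff_le_right hp.one_lt] at h1
    omega
  have hper : ∀ d, (c ^ d) x = x → N ∣ d := by
    intro d hd
    set e := Function.minimalPeriod (c : Ω → Ω) x with he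
    have hiter : ∀ n : ℕ, (c : Ω → Ω)^[n] x = (c ^ n) x := fun n => by
      induction n with
      | zero => rfl
      | succ n ih => rw [Function.iterate_succ_apply', ih, pow_succ', Equiv.Perm.mul_apply]
    have h1 : e ∣ d := Function.IsPeriodicPt.minimalPeriod_dvd (show (c : Ω → Ω)^[d] x = x by rw [hiter, hd])
    have h2 : e ∣ p ^ (M + 1) := Function.IsPeriodicPt.minimalPeriod_dvd (show (c : Ω → Ω)^[p ^ (M + 1)] x = x by
      rw [hiter, ← hN, ← hco, pow_orderOf_eq_one]; rfl)
    obtain ⟨i, hi, hie⟩ := (Nat.dvd_prime_pow hp).1 h2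
    have h3 : i = M + 1 := by
      by_contra hne
      apply hx
      rw [← hiter]
      obtain ⟨t, ht⟩ : e ∣ p ^ M := hie ▸ pow_dvd_pow p (by omega)
      rw [ht, he]
      exact (Function.isPeriodicPt_minimalPeriod _ _).mul_const t
    rw [hie, h3] at h1
    exact h1
  let f : ZMod N → Ω := fun i => (c ^ i.val) x
  have hfinj : Function.Injective f := by
    have key : ∀ i j : ZMod N, i.val ≤ j.val → f i = f j → i.val = j.val := by
      intro i j hle h
      have h1 : (c ^ (j.val - i.val)) x = x := by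
        apply (c ^ i.val).injective
        rw [← Equiv.Perm.mul_apply, ← pow_add, Nat.add_sub_cancel' hle]
        exact h.symm
      have := Nat.eq_zero_of_dvd_of_lt (hper _ h1) (by have := ZMod.val_lt j; omega)
      omega
    intro i j h
    apply ZMod.val_injective
    rcases le_total i.val j.val with h1 | h1
    · exact key i j h1 h
    · exact (key j i h1 h.symm).symm
  have hfb : Function.Bijective f :=
    (Fintype.bijective_iff_injective_and_card f).2 ⟨hfinj, by rw [ZMod.card, hΩ]⟩
  let e := Equiv.ofBijective f hfb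
  let γ : G →* Equiv.Perm (ZMod N) :=
    { toFun := fun a => (e.trans ((a : Equiv.Perm Ω))).trans e.symm
      map_one' := Equiv.ext fun i => by simp
      map_mul' := fun a b => Equiv.ext fun i => by simp }
  have hγ : ∀ a i, e (γ a i) = (a : Equiv.Perm Ω) (e i) := fun a i => by
    show e (e.symm _) = _
    rw [Equiv.apply_symm_apply]; rfl
  have hγg : ∀ i, γ g i = i + 1 := by
    intro i
    apply e.injective
    rw [hγ]
    show c ((c ^ i.val) x) = (c ^ (i + 1).val) x
    rw [← Equiv.Perm.mul_apply, ← pow_succ', ← pow_mod_orderOf c (i.val + 1), hco]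
    congr 2
    conv_rhs => rw [← ZMod.natCast_zmod_val i, ← Nat.cast_one (R := ZMod N), ← Nat.cast_add,
      ZMod.val_natCast]
  by_cases hK : ∃ K : Subgroup G, K.Normal ∧ g ∉ K ∧ g ^ (p ^ M) ∈ K ∧
      ∀ a ∈ K, ∀ i, ∃ t, γ a i - i = p • t
  swap
  · exfalso
    refine h2 (MulAction.is_two_pretransitive_iff.2 fun {a b c' d} hab hcd => ?_)
    have hT := two_trans_of_no_kernel (m := M) rfl (by omega) γ hγg hK
    obtain ⟨a', ha', hab'⟩ : ∃ z : G, γ z (e.symm a) = 0 ∧ γ z (e.symm b) ≠ 0 := by
      refine ⟨g ^ (-(e.symm a)).val, ?_, ?_⟩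
      · rw [CycReg.trans_val hγg, add_neg_cancel]
      · rw [CycReg.trans_val hγg]
        intro h
        rw [← sub_eq_add_neg, sub_eq_zero] at h
        exact hab (e.symm.injective h.symm)
    obtain ⟨c1, hc1, hcd'⟩ : ∃ z : G, γ z (e.symm c') = 0 ∧ γ z (e.symm d) ≠ 0 := by
      refine ⟨g ^ (-(e.symm c')).val, ?_, ?_⟩
      · rw [CycReg.trans_val hγg, add_neg_cancel]
      · rw [CycReg.trans_val hγg]
        intro h
        rw [← sub_eq_add_neg, sub_eq_zero] at h
        exact hcd (e.symm.injective h.symm)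
    obtain ⟨z, hz0, hz⟩ := hT _ _ hab' hcd'
    refine ⟨c1⁻¹ * z * a', ?_, ?_⟩
    · show ((c1⁻¹ * z * a' : G) : Equiv.Perm Ω) a = c'
      have h1 : γ (c1⁻¹ * z * a') (e.symm a) = e.symm c' := by
        rw [map_mul, map_mul, Equiv.Perm.mul_apply, Equiv.Perm.mul_apply, ha', hz0, map_inv,
          Equiv.Perm.inv_eq_iff_eq, hc1]
      have := congrArg e h1
      rwa [hγ, Equiv.apply_symm_apply, Equiv.apply_symm_apply] at this
    · show ((c1⁻¹ * z * a' : G) : Equiv.Perm Ω) b = d
      have h1 : γ (c1⁻¹ * z * a') (e.symm b) = e.symm d := by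
        rw [map_mul, map_mul, Equiv.Perm.mul_apply, Equiv.Perm.mul_apply, hz, map_inv,
          Equiv.Perm.inv_eq_iff_eq]
      have := congrArg e h1
      rwa [hγ, Equiv.apply_symm_apply, Equiv.apply_symm_apply] at this
  obtain ⟨K, hKn, -, hgK, hKmul⟩ := hK
  haveI := hKn
  set W := Subgroup.normalClosure ({g ^ (p ^ M)} : Set G) with hW
  have hWK : W ≤ K := Subgroup.normalClosure_le_normal (Set.singleton_subset_iff.2 hgK)
  have hintr : ¬ MulAction.IsPretransitive W Ω := by
    intro h
    obtain ⟨⟨a, ha⟩, hax⟩ := h.exists_smul_eq (e 0) (e 1)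
    have h1 : γ a 0 = 1 := e.injective ((hγ a 0).trans hax)
    obtain ⟨t, ht⟩ := hKmul a (hWK ha) 0
    rw [h1, sub_zero, nsmul_eq_mul, ← ZMod.natCast_zmod_val t, ← Nat.cast_mul,
      ← Nat.cast_one, ZMod.natCast_eq_natCast_iff'] at ht
    have hpN : p ∣ N := dvd_pow_self p (by omega)
    have h3 : 1 % p = (p * t.val) % p := by
      rw [← Nat.mod_mod_of_dvd 1 hpN, ht, Nat.mod_mod_of_dvd _ hpN]
    rw [Nat.one_mod_eq_one.2 hp.one_lt.ne', Nat.mul_mod_right] at h3
    exact one_ne_zero h3
  refine ⟨fun hprim => hintr ?_, hintr⟩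
  haveI := hprim
  haveI : W.Normal := Subgroup.normalClosure_normal
  refine MulAction.IsQuasiPreprimitive.isPretransitive_of_normal (G := G) (N := W) ?_
  intro h
  have h1 : x ∈ MulAction.fixedPoints W Ω := h ▸ Set.mem_univ x
  apply hx
  have := h1 ⟨g ^ (p ^ M), Subgroup.subset_normalClosure rfl⟩
  exact this

end Cfsg.Agent.S3972
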