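import Cfsg.Statements.S3973
import Mathlib
import Cfsg.Agent.Lib.SchurMult.Cover

set_option autoImplicit false
open Cfsg

namespace Cfsg.Agent.S3973

open Subgroup

theorem central_normal {G : Type*} [Group G] (H : Subgroup G) (h : H ≤ center G) : H.Normal :=
  ⟨fun x hx g => by rwa [mem_center_iff.mp (h hx) g, mul_inv_cancel_right]⟩

theorem commutator_le_map {F Γ P : Type*} [Group F] [Group Γ] [Group P] (β : F →* Γ) (σ : Γ →* P)
    (hσ : σ.ker ≤ center Γ) (hsur : Function.Surjective (σ.comp β)) :
    commutator Γ ≤ (commutator F).map β := by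
  rw [_root_.commutator_def, commutator_le]
  intro a _ b _
  have key : ∀ d : Γ, ∃ x, ∃ z ∈ center Γ, d = β x * z := fun d => by
    obtain ⟨x, hx⟩ := hsur (σ d)
    refine ⟨x, (β x)⁻¹ * d, hσ ?_, by group⟩
    rw [MonoidHom.mem_ker, map_mul, map_inv]
    rw [MonoidHom.comp_apply] at hx
    rw [hx, inv_mul_cancel]
  obtain ⟨x, z, hz, rfl⟩ := key a
  obtain ⟨y, z', hz', rfl⟩ := key b
  rw [SchurMult.commutator_mul_central _ _ hz hz', ← map_commutatorElement]
  exact mem_map_of_mem β (commutator_mem_commutator (mem_top x) (mem_top y))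

/-- If a finite group is presented by `n` generators and a finite set of `r` relators, then its Schur multiplier can be generated by `r - n` elements. In particular a finite group with a presentation having as many relators as generators has trivial Schur multiplier. -/
theorem result (n : ℕ) (rels : Finset (FreeGroup (Fin n))) [Finite (PresentedGroup (rels : Set (FreeGroup (Fin n))))] {A : Type*} [CommGroup A] [Finite A] (hA : Cfsg.HasSchurMultiplier (PresentedGroup (rels : Set (FreeGroup (Fin n)))) A) : Group.rank A ≤ rels.card - n := by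
  classical
  obtain ⟨⟨Γ, _, _, σ, hσ, ⟨e⟩⟩, -⟩ := hA
  letI : CommGroup σ.ker := { (inferInstance : Group σ.ker) with
    mul_comm := fun a b => Subtype.ext (Subgroup.mem_center_iff.mp (hσ.2.1 b.2) a) }
  let mk := PresentedGroup.mk (rels : Set (FreeGroup (Fin n)))
  have hmk : Function.Surjective mk := PresentedGroup.mk_surjective _
  choose s hs using fun i : Fin n => hσ.1 (mk (FreeGroup.of i))
  let β : FreeGroup (Fin n) →* Γ := FreeGroup.lift s
  have hβ : σ.comp β = mk := by ext i; simp [β, hs]
  let ex : FreeGroup (Fin n) →* Multiplicative (Fin n → ℤ) :=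
    FreeGroup.lift fun i => Multiplicative.ofAdd (Pi.single i 1)
  let ψ := β.prod ex
  have hrel : ∀ r ∈ rels, β r ∈ σ.ker := fun r hr => by
    rw [MonoidHom.mem_ker, ← MonoidHom.comp_apply, hβ]
    exact PresentedGroup.one_of_mem hr
  let v : rels → Additive σ.ker × (Fin n → ℤ) := fun r =>
    (Additive.ofMul ⟨β r.1, hrel r.1 r.2⟩, Multiplicative.toAdd (ex r.1))
  let T := Fintype.linearCombination ℤ v
  let J : Multiplicative (Additive σ.ker × (Fin n → ℤ)) →* Γ × Multiplicative (Fin n → ℤ) :=
    { toFun := fun q => (((Additive.toMul (Multiplicative.toAdd q).1 : σ.ker) : Γ),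
        Multiplicative.ofAdd (Multiplicative.toAdd q).2)
      map_one' := rfl
      map_mul' := fun _ _ => rfl }
  let H := J.comp (AddMonoidHom.toMultiplicative T.toAddMonoidHom)
  have hHc : H.range ≤ Subgroup.center (Γ × Multiplicative (Fin n → ℤ)) := by
    rintro _ ⟨c, rfl⟩
    refine Subgroup.mem_center_iff.mpr fun g => Prod.ext ?_ (mul_comm _ _)
    exact Subgroup.mem_center_iff.mp (hσ.2.1 (SetLike.coe_mem _)) g.1
  haveI := central_normal H.range hHc
  have hR : Subgroup.normalClosure (rels : Set (FreeGroup (Fin n))) ≤ H.range.comap ψ := by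
    refine Subgroup.normalClosure_le_normal fun r hr => ⟨Multiplicative.ofAdd (Pi.single ⟨r, hr⟩ 1), ?_⟩
    have h1 : T (Pi.single (⟨r, hr⟩ : rels) 1) = v ⟨r, hr⟩ := by
      simp [T, Fintype.linearCombination_apply_single]
    show J (Multiplicative.ofAdd (T (Pi.single (⟨r, hr⟩ : rels) 1))) = ψ r
    rw [h1]
    rfl
  have hker : ∀ w, mk w = 1 → ∃ c, ((Additive.toMul (T c).1 : σ.ker) : Γ) = β w ∧
      (T c).2 = Multiplicative.toAdd (ex w) := by
    intro w hw
    obtain ⟨c, hc⟩ := hR ((QuotientGroup.eq_one_iff w).mp hw)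
    exact ⟨Multiplicative.toAdd c, congrArg Prod.fst hc,
      congrArg (fun q : Γ × Multiplicative (Fin n → ℤ) => Multiplicative.toAdd q.2) hc⟩
  let L := (LinearMap.snd ℤ (Additive σ.ker) (Fin n → ℤ)).comp T
  -- the exponent sums of relations have finite index
  have hrange : n ≤ Module.finrank ℤ (LinearMap.range L) := by
    set N := Nat.card (PresentedGroup (rels : Set (FreeGroup (Fin n)))) with hN
    have hmem : ∀ x : Fin n → ℤ, (N : ℤ) • x ∈ LinearMap.range L := by
      intro x
      rw [show x = ∑ i, x i • Pi.single i 1 by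
        ext j; simp [Finset.sum_apply, Pi.single_apply], Finset.smul_sum]
      refine Submodule.sum_mem _ fun i _ => ?_
      rw [smul_comm]
      refine Submodule.smul_mem _ _ ?_
      obtain ⟨c, -, hc⟩ := hker (FreeGroup.of i ^ N) (by rw [map_pow, hN]; exact pow_card_eq_one')
      refine ⟨c, ?_⟩
      show (T c).2 = _
      rw [hc]
      simp [ex]
    let g : (Fin n → ℤ) →ₗ[ℤ] LinearMap.range L :=
      ((N : ℤ) • (LinearMap.id : (Fin n → ℤ) →ₗ[ℤ] (Fin n → ℤ))).codRestrict _ hmem
    have hg : Function.Injective g := fun a b hab => by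
      have h1 : (N : ℤ) • a = (N : ℤ) • b := congrArg Subtype.val hab
      exact smul_right_injective _ (Nat.cast_ne_zero.mpr (Nat.card_pos (α := PresentedGroup (rels : Set (FreeGroup (Fin n))))).ne') h1
    simpa using LinearMap.finrank_le_finrank_of_injective hg
  have hfin : Module.finrank ℤ (LinearMap.ker L) ≤ rels.card - n := by
    have h := Submodule.finrank_quotient_add_finrank (LinearMap.ker L)
    rw [L.quotKerEquivRange.finrank_eq, Module.finrank_pi, Fintype.card_coe] at h
    omega
  let b := Module.finBasis ℤ (LinearMap.ker L)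
  let g : Fin (Module.finrank ℤ (LinearMap.ker L)) → σ.ker := fun i =>
    Additive.toMul (T (b i : rels → ℤ)).1
  have hgen : Subgroup.closure ((Finset.univ.image (e ∘ g) : Finset A) : Set A) = ⊤ := by
    rw [eq_top_iff]
    intro a _
    have hmap : ((e.symm a : σ.ker) : Γ) ∈ (commutator (FreeGroup (Fin n))).map β :=
      commutator_le_map β σ hσ.2.1 (by rw [hβ]; exact hmk) (hσ.2.2 (e.symm a).2)
    obtain ⟨w, hw, hwa⟩ := hmap
    obtain ⟨c, hc1, hc2⟩ := hker w (by
      rw [← hβ, MonoidHom.comp_apply, hwa]; exact (e.symm a).2)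
    have hcL : c ∈ LinearMap.ker L := by
      rw [LinearMap.mem_ker]
      show (T c).2 = 0
      rw [hc2, MonoidHom.mem_ker.mp (Abelianization.commutator_subset_ker ex hw)]
      rfl
    have ha : e.symm a = Additive.toMul (T c).1 := Subtype.ext (hc1.trans hwa).symm
    have hc : c = ∑ i, b.repr ⟨c, hcL⟩ i • (b i : rels → ℤ) := by
      have := congrArg Subtype.val (b.sum_repr ⟨c, hcL⟩).symm
      rw [AddSubmonoidClass.coe_finsetSum] at this
      simpa using this
    rw [← e.apply_symm_apply a, ha, hc, map_sum, Prod.fst_sum, toMul_sum, map_prod]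
    refine Subgroup.prod_mem _ fun i _ => ?_
    rw [map_smul, Prod.smul_fst, toMul_zsmul, map_zpow]
    exact Subgroup.zpow_mem _ (Subgroup.subset_closure (by simp [g])) _
  refine le_trans (Group.rank_le hgen) (Finset.card_image_le.trans ?_)
  rw [Finset.card_univ, Fintype.card_fin]
  exact hfin

end Cfsg.Agent.S3973
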