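import Cfsg.Statements.S3974
import Mathlib
import Cfsg.Agent.Lib.SchurMult.Cover

set_option autoImplicit false
universe u v
open Cfsg

namespace Cfsg.Agent.S3974

open SchurMult

universe u' v' w'

section cover

variable {Q : Type u'} [Group Q] [Finite Q] {A : Type v'} [CommGroup A]
  (hA : Cfsg.HasSchurMultiplier Q A) {Δ : Type w'} [Group Δ] {σ : Δ →* Q}
  (hσ : Cfsg.IsStemExtension σ) (e : σ.ker ≃* A) {β : Cov Q →* Δ} (hβ : σ.comp β = cov Q)

omit [Finite Q] in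
include hβ in
theorem ker_le : β.ker ≤ (cov Q).ker := fun x hx => by
  rw [MonoidHom.mem_ker, ← hβ, MonoidHom.comp_apply, MonoidHom.mem_ker.mp hx, map_one]

omit [Finite Q] in
include hσ hβ in
theorem exists_mult {y : Cov Q} (hy : y ∈ (cov Q).ker) : ∃ m ∈ mult Q, y * m⁻¹ ∈ β.ker := by
  have h1 : β y ∈ σ.ker := by
    rw [MonoidHom.mem_ker, ← MonoidHom.comp_apply, hβ]; exact hy
  obtain ⟨m, hm, hmy⟩ := (stem_map_mult hσ hβ).ge h1
  exact ⟨m, hm, by rw [MonoidHom.mem_ker, map_mul, map_inv, hmy, mul_inv_cancel]⟩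

omit [Finite Q] in
include hσ hβ in
theorem exists_abHom_eq {y : Cov Q} (hy : cov Q y ∈ commutator Q) :
    ∃ c : β.ker, abHom Q c = abHom Q y := by
  have h1 : commutator Q = (commutator (Cov Q)).map (cov Q) := by
    rw [commutator_def, commutator_def, Subgroup.map_commutator,
      Subgroup.map_top_of_surjective _ (cov_surjective Q)]
  rw [h1] at hy
  obtain ⟨w, hw, hwy⟩ := hy
  obtain ⟨m, hm, hc⟩ := exists_mult hσ hβ (y := y * w⁻¹)
    (by rw [MonoidHom.mem_ker, map_mul, map_inv, hwy, mul_inv_cancel])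
  refine ⟨⟨_, hc⟩, ?_⟩
  show abHom Q (y * w⁻¹ * m⁻¹) = abHom Q y
  rw [map_mul, map_mul, map_inv, map_inv, (abHom_ker Q).ge hw, (abHom_ker Q).ge hm.2, inv_one,
    mul_one, mul_one]

include hA hσ e hβ in
theorem abHom_injOn {a b : β.ker} (h : abHom Q a = abHom Q b) : a = b := by
  have h1 : ((a⁻¹ * b : β.ker) : Cov Q) ∈ mult Q := by
    refine ⟨ker_le hβ (a⁻¹ * b).2, (abHom_ker Q).le ?_⟩
    rw [MonoidHom.mem_ker]
    push_cast
    rw [map_mul, map_inv, h, inv_mul_cancel]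
  have h2 := (multMap_bijective_of_card hA hσ e hβ).1 (a₁ := ⟨_, h1⟩) (a₂ := 1)
    (Subtype.ext ((a⁻¹ * b).2.trans (map_one β).symm))
  have h3 : ((a⁻¹ * b : β.ker) : Cov Q) = 1 := congrArg (fun z : mult Q => (z : Cov Q)) h2
  exact inv_mul_eq_one.mp (Subtype.ext h3)

end cover

/-- Coprimality gives an isomorphism over `Q`. -/
theorem exists_iso {Q : Type u'} [Group Q] [Finite Q] {A : Type v'} [CommGroup A]
    (hA : Cfsg.HasSchurMultiplier Q A)
    (hcop : Nat.Coprime (Nat.card (Abelianization Q)) (Nat.card A))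
    {Γ₁ Γ₂ : Type u'} [Group Γ₁] [Finite Γ₁] [Group Γ₂] [Finite Γ₂] (σ₁ : Γ₁ →* Q) (σ₂ : Γ₂ →* Q)
    (h₁ : Cfsg.IsStemExtension σ₁) (h₂ : Cfsg.IsStemExtension σ₂) (e₁ : σ₁.ker ≃* A)
    (e₂ : σ₂.ker ≃* A) : ∃ e : Γ₁ ≃* Γ₂, σ₂.comp e.toMonoidHom = σ₁ := by
  obtain ⟨β₁, hβ₁⟩ := exists_lift_id σ₁ h₁.1 h₁.2.1
  obtain ⟨β₂, hβ₂⟩ := exists_lift_id σ₂ h₂.1 h₂.2.1
  set d := Nat.card (Abelianization Q) with hd
  have hdmem : ∀ x : Cov Q, cov Q (x ^ d) ∈ commutator Q := fun x => by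
    rw [← Abelianization.ker_of Q, MonoidHom.mem_ker, map_pow, map_pow, hd]
    exact pow_card_eq_one'
  choose c hc using fun x : Cov Q => exists_abHom_eq h₁ hβ₁ (hdmem x)
  have hinj := fun {a b : β₁.ker} (h : abHom Q a = abHom Q b) => abHom_injOn hA h₁ e₁ hβ₁ h
  have hcm : ∀ x y, c (x * y) = c x * c y := fun x y => hinj (by
    rw [hc, Subgroup.coe_mul, map_mul, hc, hc, map_pow, map_pow, map_pow, map_mul, mul_pow])
  let φ : β₁.ker →* σ₂.ker := (β₂.comp β₁.ker.subtype).codRestrict _ fun x => by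
    show σ₂ (β₂ x) = 1
    rw [← MonoidHom.comp_apply, hβ₂]
    exact ker_le hβ₁ x.2
  set u := Nat.gcdA d (Nat.card A) with hu
  have hz : ∀ z : σ₂.ker, (z ^ d) ^ u = z := fun z => by
    have h1 : (1 : ℤ) = d * u + Nat.card A * Nat.gcdB d (Nat.card A) := by
      rw [← Nat.gcd_eq_gcd_ab, hcop, Nat.cast_one]
    have h2 : z ^ ((Nat.card A : ℕ) : ℤ) = 1 := by
      rw [zpow_natCast, ← Nat.card_congr e₂.toEquiv]; exact pow_card_eq_one'
    conv_rhs => rw [← zpow_one z, h1, zpow_add, zpow_mul z (Nat.card A : ℤ), h2, one_zpow, mul_one]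
    rw [zpow_mul, zpow_natCast]
  let Ψ : Cov Q → σ₂.ker := fun x => φ (c x) ^ u
  have hΨm : ∀ x y, Ψ (x * y) = Ψ x * Ψ y := fun x y => by
    have hcomm : Commute (φ (c x)) (φ (c y)) :=
      Subtype.ext (Subgroup.mem_center_iff.mp (h₂.2.1 (φ (c y)).2) _)
    simp only [Ψ, hcm, map_mul, hcomm.mul_zpow]
  let β : Cov Q →* Γ₂ := MonoidHom.mk' (fun x => β₂ x * ((Ψ x : Γ₂))⁻¹) fun x y => by
    have hcen : ∀ z : σ₂.ker, ∀ g : Γ₂, g * (z : Γ₂)⁻¹ = (z : Γ₂)⁻¹ * g := fun z g =>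
      Subgroup.mem_center_iff.mp (inv_mem (h₂.2.1 z.2)) g
    rw [map_mul, hΨm, Subgroup.coe_mul, mul_inv_rev, ← hcen (Ψ y) ((Ψ x : Γ₂))⁻¹,
      mul_assoc (β₂ x), mul_assoc (β₂ x), ← mul_assoc (β₂ y), hcen (Ψ x) (β₂ y), mul_assoc]
  have hβ : σ₂.comp β = cov Q := MonoidHom.ext fun x => by
    show σ₂ (β₂ x * ((Ψ x : Γ₂))⁻¹) = cov Q x
    rw [map_mul, map_inv, (Ψ x).2, inv_one, mul_one]
    exact DFunLike.congr_fun hβ₂ x
  have hker : β₁.ker ≤ β.ker := fun x hx => by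
    have h1 : c x = (⟨x, hx⟩ : β₁.ker) ^ d := hinj (by
      rw [hc, SubgroupClass.coe_pow])
    show β₂ x * ((Ψ x : Γ₂))⁻¹ = 1
    rw [mul_inv_eq_one]
    simp only [Ψ, h1, map_pow, hz]
    rfl
  let f : Γ₁ →* Γ₂ := β₁.liftOfSurjective (stem_surjective h₁ hβ₁) ⟨β, hker⟩
  have hf : ∀ x, f (β₁ x) = β x := fun x => MonoidHom.liftOfRightInverse_comp_apply _ _ _ _ x
  have hfs : Function.Surjective f := fun y => by
    obtain ⟨x, rfl⟩ := stem_surjective h₂ hβ y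
    exact ⟨β₁ x, hf x⟩
  have hcard : ∀ {Γ : Type u'} [Group Γ] (σ : Γ →* Q), Function.Surjective σ → σ.ker ≃* A →
      Nat.card Γ = Nat.card Q * Nat.card A := fun σ hs e => by
    rw [Subgroup.card_eq_card_quotient_mul_card_subgroup σ.ker, Nat.card_congr e.toEquiv,
      Nat.card_congr (QuotientGroup.quotientKerEquivOfSurjective σ hs).toEquiv]
  refine ⟨MulEquiv.ofBijective f ((Nat.bijective_iff_surjective_and_card f).mpr
    ⟨hfs, (hcard σ₁ h₁.1 e₁).trans (hcard σ₂ h₂.1 e₂).symm⟩), MonoidHom.ext fun g => ?_⟩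
  obtain ⟨x, rfl⟩ := stem_surjective h₁ hβ₁ g
  show σ₂ (f (β₁ x)) = σ₁ (β₁ x)
  rw [hf, ← MonoidHom.comp_apply, hβ, ← hβ₁]
  rfl

/-- Uniqueness over `Q` forces extendability of maps from complements. -/
theorem exists_extend_of_unique {Q : Type u'} [Group Q] [Finite Q] {A : Type v'} [CommGroup A]
    (hA : Cfsg.HasSchurMultiplier Q A)
    (huniq : ∀ (Γ₁ Γ₂ : Type u') [Group Γ₁] [Finite Γ₁] [Group Γ₂] [Finite Γ₂] (σ₁ : Γ₁ →* Q)
      (σ₂ : Γ₂ →* Q), Cfsg.IsStemExtension σ₁ → Cfsg.IsStemExtension σ₂ → Nonempty (σ₁.ker ≃* A) →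
      Nonempty (σ₂.ker ≃* A) → ∃ e : Γ₁ ≃* Γ₂, σ₂.comp e.toMonoidHom = σ₁)
    {Γ : Type u'} [Group Γ] [Finite Γ] {σ : Γ →* Q} (hσ : Cfsg.IsStemExtension σ) (e : σ.ker ≃* A)
    {β : Cov Q →* Γ} (hβ : σ.comp β = cov Q) (φ : β.ker →* mult Q) :
    ∃ Ψ : Cov Q →* mult Q, ∀ c : β.ker, Ψ c = φ c := by
  let tw : β.ker →* Cov Q := MonoidHom.mk' (fun c => (c : Cov Q) * (φ c : Cov Q)) fun a b => by
    rw [map_mul, Subgroup.coe_mul, Subgroup.coe_mul, mul_assoc (a : Cov Q), ← mul_assoc (b : Cov Q),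
      Subgroup.mem_center_iff.mp (mult_le_center Q (φ a).2) (b : Cov Q)]
    group
  have hle : tw.range ≤ (cov Q).ker := by
    rintro _ ⟨c, rfl⟩
    exact mul_mem (ker_le hβ c.2) (mult_le_ker Q (φ c).2)
  have hsup : (cov Q).ker ≤ tw.range ⊔ mult Q := fun k hk => by
    obtain ⟨m, hm, hkm⟩ := exists_mult hσ hβ hk
    rw [show k = tw ⟨_, hkm⟩ * ((φ ⟨_, hkm⟩ : Cov Q)⁻¹ * m) from by
      show k = k * m⁻¹ * (φ ⟨_, hkm⟩ : Cov Q) * ((φ ⟨_, hkm⟩ : Cov Q)⁻¹ * m)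
      group]
    exact Subgroup.mul_mem_sup ⟨_, rfl⟩ (mul_mem (inv_mem (φ _).2) hm)
  obtain ⟨C, hCn, hCf, σ', hCle, hcomp, hstem, ⟨e'⟩⟩ := exists_cover hle hsup
  haveI := hCn
  haveI := hCf
  obtain ⟨eA⟩ := nonempty_equiv hA
  have e2 : σ'.ker ≃* A := e'.symm.trans eA.symm
  have hbij := multMap_bijective_of_card hA hstem e2 hcomp
  have htw : ∀ c, tw c ∈ C := fun c => by
    obtain ⟨m, hm, hc⟩ := exists_mult hstem hcomp (hle ⟨c, rfl⟩)
    rw [QuotientGroup.ker_mk'] at hc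
    obtain ⟨c', hc'⟩ := hCle hc
    have h1 : abHom Q (c' : Cov Q) = abHom Q (c : Cov Q) := by
      have h2 := congrArg (abHom Q) hc'
      simp only [tw, MonoidHom.mk'_apply, map_mul, map_inv,
        MonoidHom.mem_ker.mp ((abHom_ker Q).ge (φ c).2.2),
        MonoidHom.mem_ker.mp ((abHom_ker Q).ge (φ c').2.2),
        MonoidHom.mem_ker.mp ((abHom_ker Q).ge hm.2), inv_one, mul_one] at h2
      exact h2
    rw [abHom_injOn hA hσ e hβ h1] at hc'
    rw [hc']; exact hc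
  obtain ⟨ε, hε⟩ := huniq Γ (Cov Q ⧸ C) σ σ' hσ hstem ⟨e⟩ ⟨e2⟩
  have hmem : ∀ x, (QuotientGroup.mk' C x)⁻¹ * ε (β x) ∈ σ'.ker := fun x => by
    rw [MonoidHom.mem_ker, map_mul, map_inv, ← MonoidHom.comp_apply, hcomp,
      show σ' (ε (β x)) = σ (β x) from DFunLike.congr_fun hε (β x),
      show σ (β x) = cov Q x from DFunLike.congr_fun hβ x, inv_mul_cancel]
  let χ : Cov Q →* σ'.ker := MonoidHom.mk' (fun x => ⟨_, hmem x⟩) fun x y => Subtype.ext (by
    show (QuotientGroup.mk' C (x * y))⁻¹ * ε (β (x * y)) = ((QuotientGroup.mk' C x)⁻¹ * ε (β x)) * ((QuotientGroup.mk' C y)⁻¹ * ε (β y))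
    rw [map_mul, map_mul, map_mul, mul_inv_rev]
    rw [show (QuotientGroup.mk' C x)⁻¹ * ε (β x) * ((QuotientGroup.mk' C y)⁻¹ * ε (β y)) =
      ((QuotientGroup.mk' C x)⁻¹ * ε (β x) * (QuotientGroup.mk' C y)⁻¹) * ε (β y) by group,
      ← Subgroup.mem_center_iff.mp (hstem.2.1 (hmem x)) (QuotientGroup.mk' C y)⁻¹]
    group)
  refine ⟨(MulEquiv.ofBijective _ hbij).symm.toMonoidHom.comp χ, fun c => ?_⟩
  refine (MulEquiv.ofBijective _ hbij).symm_apply_eq.mpr (Subtype.ext ?_)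
  show (QuotientGroup.mk' C (c : Cov Q))⁻¹ * ε (β c) = QuotientGroup.mk' C (φ c : Cov Q)
  rw [MonoidHom.mem_ker.mp c.2, map_one, mul_one]
  refine inv_eq_of_mul_eq_one_right ?_
  rw [← map_mul]
  exact (QuotientGroup.eq_one_iff _).mpr (htw c)

/-- Let `Q` be a finite group with Schur multiplier `A`. Any two Schur covering groups of `Q` (finite stem extensions `σ₁ : Γ₁ →* Q`, `σ₂ : Γ₂ →* Q` with kernels isomorphic to `A`, `Γ₁, Γ₂` in the universe of `Q`) are isomorphic over `Q` — there is a group isomorphism `e : Γ₁ ≃* Γ₂` with `σ₂ ∘ e = σ₁` — if and only if the order of the commutator quotient of `Q` is coprime to the order of `A`. In particular a finite perfect group has a unique Schur covering group up to isomorphism over it. -/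
theorem result {Q : Type u} [Group Q] [Finite Q] {A : Type v} [CommGroup A] (hA : Cfsg.HasSchurMultiplier Q A) : (∀ (Γ₁ Γ₂ : Type u) [Group Γ₁] [Finite Γ₁] [Group Γ₂] [Finite Γ₂] (σ₁ : Γ₁ →* Q) (σ₂ : Γ₂ →* Q), Cfsg.IsStemExtension σ₁ → Cfsg.IsStemExtension σ₂ → Nonempty (σ₁.ker ≃* A) → Nonempty (σ₂.ker ≃* A) → ∃ e : Γ₁ ≃* Γ₂, σ₂.comp e.toMonoidHom = σ₁) ↔ Nat.Coprime (Nat.card (Abelianization Q)) (Nat.card A) := by
  classical
  constructor
  · intro huniq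
    by_contra hcop
    obtain ⟨ℓ, hℓ, hℓQ, hℓA⟩ := Nat.Prime.not_coprime_iff_dvd.mp hcop
    haveI := Fact.mk hℓ
    obtain ⟨⟨Γ, iG, iF, σ, hσ, ⟨e⟩⟩, -⟩ := id hA
    obtain ⟨β, hβ⟩ := Cfsg.Agent.SchurMult.exists_lift_id σ hσ.1 hσ.2.1
    obtain ⟨eA⟩ := Cfsg.Agent.SchurMult.nonempty_equiv hA
    -- an element of the multiplier that is not an `ℓ`-th power
    obtain ⟨a, ha⟩ : ∃ a : Cfsg.Agent.SchurMult.mult Q, ∀ b, b ^ ℓ ≠ a := by
      by_contra hcon
      push_neg at hcon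
      have hsur : Function.Surjective fun b : Cfsg.Agent.SchurMult.mult Q => b ^ ℓ := hcon
      have hinj := Finite.injective_iff_surjective.mpr hsur
      obtain ⟨z, hz⟩ := exists_prime_orderOf_dvd_card' (G := Cfsg.Agent.SchurMult.mult Q) ℓ
        (Nat.card_congr eA.toEquiv ▸ hℓA)
      have : z = 1 := hinj (by simp only [one_pow]; rw [← hz]; exact pow_orderOf_eq_one z)
      rw [this, orderOf_one] at hz
      exact hℓ.ne_one hz.symm
    -- an element outside with its `ℓ`-th power inside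
    obtain ⟨q, hq⟩ := exists_prime_orderOf_dvd_card' (G := Abelianization Q) ℓ hℓQ
    obtain ⟨q', rfl⟩ := QuotientGroup.mk_surjective q
    obtain ⟨x, rfl⟩ := Cfsg.Agent.SchurMult.cov_surjective Q q'
    have hx1 : Cfsg.Agent.SchurMult.cov Q x ∉ commutator Q := fun h => by
      rw [(QuotientGroup.eq_one_iff _).mpr h] at hq
      exact hℓ.ne_one (hq.symm.trans orderOf_one)
    have hxl : Cfsg.Agent.SchurMult.cov Q (x ^ ℓ) ∈ commutator Q := by
      rw [← QuotientGroup.eq_one_iff, map_pow, QuotientGroup.mk_pow]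
      exact orderOf_dvd_iff_pow_eq_one.mp (dvd_of_eq hq)
    obtain ⟨c₀, hc₀⟩ := exists_abHom_eq hσ hβ hxl
    -- the lattice of the complement
    letI : CommGroup β.ker := { (inferInstance : Group β.ker) with
      mul_comm := fun a b => Subtype.ext (Subgroup.mem_center_iff.mp
        (Cfsg.Agent.SchurMult.cov_ker_le_center Q (ker_le hβ b.2)) a) }
    let f : Additive β.ker →ₗ[ℤ] (Q →₀ ℤ) := (MonoidHom.toAdditiveLeft
      ((Cfsg.Agent.SchurMult.abHom Q).comp β.ker.subtype)).toIntLinearMap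
    haveI : Fintype Q := Fintype.ofFinite Q
    let b := Module.finBasis ℤ (LinearMap.range f)
    set y := f.rangeRestrict (Additive.ofMul c₀) with hy
    obtain ⟨i, hi⟩ : ∃ i, ¬ (ℓ : ℤ) ∣ b.repr y i := by
      by_contra hcon
      push_neg at hcon
      choose r hr using hcon
      have h1 : y = (ℓ : ℤ) • ∑ i, r i • b i := by
        conv_lhs => rw [← b.sum_repr y]
        rw [Finset.smul_sum]
        exact Finset.sum_congr rfl fun i _ => by rw [hr i, mul_smul]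
      set t : LinearMap.range f := ∑ i, r i • b i
      have h2 : (y : Q →₀ ℤ) = (ℓ : ℤ) • Multiplicative.toAdd (Cfsg.Agent.SchurMult.abHom Q x) := by
        show Multiplicative.toAdd (Cfsg.Agent.SchurMult.abHom Q (c₀ : Cfsg.Agent.SchurMult.Cov Q)) = _
        rw [hc₀, map_pow, toAdd_pow, natCast_zsmul]
      rw [h1, SetLike.val_smul] at h2
      have h3 := smul_right_injective (Q →₀ ℤ) (Int.natCast_ne_zero.mpr hℓ.ne_zero) h2
      obtain ⟨c, hc⟩ := t.2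
      have h4 : Cfsg.Agent.SchurMult.abHom Q ((Additive.toMul c : β.ker) : Cfsg.Agent.SchurMult.Cov Q) =
          Cfsg.Agent.SchurMult.abHom Q x := Multiplicative.toAdd.injective (hc.trans h3)
      apply hx1
      have h5 : ((Additive.toMul c : β.ker) : Cfsg.Agent.SchurMult.Cov Q)⁻¹ * x ∈
          commutator (Cfsg.Agent.SchurMult.Cov Q) := by
        rw [← Cfsg.Agent.SchurMult.abHom_ker, MonoidHom.mem_ker, map_mul, map_inv, h4, inv_mul_cancel]
      have h6 := Subgroup.mem_map_of_mem (Cfsg.Agent.SchurMult.cov Q) h5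
      rw [map_mul, map_inv, MonoidHom.mem_ker.mp (ker_le hβ (Additive.toMul c : β.ker).2), inv_one,
        one_mul, commutator_def, Subgroup.map_commutator] at h6
      rw [commutator_def]
      exact Subgroup.commutator_mono le_top le_top h6
    let φ : β.ker →* Cfsg.Agent.SchurMult.mult Q :=
      MonoidHom.mk' (fun c => a ^ (b.repr (f.rangeRestrict (Additive.ofMul c)) i)) fun c c' => by
        rw [ofMul_mul, map_add, map_add, Finsupp.add_apply, zpow_add]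
    obtain ⟨Ψ, hΨ⟩ := exists_extend_of_unique hA huniq hσ e hβ φ
    have h1 : Ψ x ^ ℓ = a ^ (b.repr y i) := by
      have hw : (c₀ : Cfsg.Agent.SchurMult.Cov Q)⁻¹ * x ^ ℓ ∈ commutator (Cfsg.Agent.SchurMult.Cov Q) := by
        rw [← Cfsg.Agent.SchurMult.abHom_ker, MonoidHom.mem_ker, map_mul, map_inv, hc₀, inv_mul_cancel]
      have h2 : Ψ ((c₀ : Cfsg.Agent.SchurMult.Cov Q)⁻¹ * x ^ ℓ) = 1 :=
        MonoidHom.mem_ker.mp (Abelianization.commutator_subset_ker Ψ hw)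
      rw [map_mul, map_inv, map_pow, hΨ, inv_mul_eq_one] at h2
      exact h2.symm
    obtain ⟨u, v, huv⟩ : IsCoprime (b.repr y i) (ℓ : ℤ) :=
      (((Nat.prime_iff_prime_int.mp hℓ).coprime_iff_not_dvd).mpr hi).symm
    refine ha (Ψ x ^ u * a ^ v) ?_
    rw [← zpow_natCast, mul_zpow, ← zpow_mul, ← zpow_mul, mul_comm u, zpow_mul, zpow_natCast, h1,
      ← zpow_mul, ← zpow_add, mul_comm (b.repr y i) u, huv, zpow_one]
  · intro hcop Γ₁ Γ₂ _ _ _ _ σ₁ σ₂ h₁ h₂ ⟨e₁⟩ ⟨e₂⟩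
    exact exists_iso hA hcop σ₁ σ₂ h₁ h₂ e₁ e₂

end Cfsg.Agent.S3974
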