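import Cfsg.Statements.S3977
import Cfsg.Agent.Lib.FGB.PGroupBasic
-- import your own Cfsg.Agent.* helpers here

set_option autoImplicit false
open Cfsg

namespace Cfsg.Agent.S3977

/-- Let `p` be a prime and `G` a group of order `p ^ m` which has exactly one subgroup of order `p ^ s`, where `1 ≤ s < m`, and where `s ≥ 2` if `p = 2`. Then `G` is cyclic. (For `p = 2` and `s = 1` the generalized quaternion groups also occur; that case is the classical criterion for a unique involution.) -/
theorem result {G : Type*} [Group G] [Finite G] (p m s : ℕ) (hp : p.Prime) (hG : Nat.card G = p ^ m) (hs : 1 ≤ s) (hsm : s < m) (h2 : p ≠ 2 ∨ 2 ≤ s) (huniq : ∀ H K : Subgroup G, Nat.card H = p ^ s → Nat.card K = p ^ s → H = K) : IsCyclic G := by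
  suffices key : ∀ (n : ℕ) (G : Type _) [Group G] [Finite G], Nat.card G = p ^ n → s < n →
      (∀ H K : Subgroup G, Nat.card H = p ^ s → Nat.card K = p ^ s → H = K) → IsCyclic G from
    key m G hG hsm huniq
  clear! G
  clear hsm m
  intro n
  induction n using Nat.strong_induction_on with
  | _ n ih =>
  intro G _ _ hG hsn huniq
  classical
  haveI := Fact.mk hp
  have hGp : IsPGroup p G := IsPGroup.of_card hG
  obtain ⟨H, hH⟩ := Sylow.exists_subgroup_card_pow_prime (G := G) p (n := s) (hG ▸ pow_dvd_pow p hsn.le)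
  have hHne : H ≠ ⊤ := fun h => by
    rw [h, Subgroup.card_top, hG] at hH
    exact hsn.ne' (Nat.pow_right_injective hp.two_le hH)
  have hsub : ∀ K : Subgroup G, p ^ s ≤ Nat.card K → H ≤ K := fun K hK => by
    obtain ⟨L, hLK, hL⟩ := Sylow.exists_subgroup_le_card_pow_prime_of_le_card hp hGp hK
    exact (huniq L H hL hH) ▸ hLK
  have hsmall : ∀ K : Subgroup G, Nat.card K ≤ p ^ s → K ≤ H := fun K hK => by
    obtain ⟨k, hk⟩ := (hGp.to_subgroup K).exists_card_eq
    have hks : k ≤ s := (Nat.pow_le_pow_iff_right hp.one_lt).mp (hk ▸ hK)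
    have hd : p ^ s ∣ Nat.card G := hG ▸ pow_dvd_pow p hsn.le
    obtain ⟨L, hL, hKL⟩ := Sylow.exists_subgroup_card_pow_prime_le p hd K hk hks
    exact (huniq L H hL hH) ▸ hKL
  by_contra hnc
  -- maximal subgroups are cyclic
  have hmax : ∀ M : Subgroup G, IsCoatom M → IsCyclic M := by
    intro M hM
    obtain ⟨-, hMi⟩ := FGB.coatom_normal_and_index hGp hM
    have hMc : Nat.card M = p ^ (n - 1) := by
      have h1 := M.card_mul_index
      rw [hMi, hG] at h1
      refine Nat.eq_of_mul_eq_mul_right hp.pos ?_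
      rw [h1, ← pow_succ]
      congr 1
      omega
    rcases lt_or_eq_of_le (show s ≤ n - 1 by omega) with hlt | heq
    · exact ih (n - 1) (by omega) M hMc hlt fun A B hA hB => Subgroup.map_injective M.subtype_injective
        (huniq _ _ (by rw [Subgroup.card_map_of_injective M.subtype_injective, hA])
          (by rw [Subgroup.card_map_of_injective M.subtype_injective, hB]))
    · exfalso
      obtain ⟨x, hx⟩ : ∃ x, x ∉ H := by
        by_contra hcon
        push Not at hcon
        exact hHne (eq_top_iff.mpr fun z _ => hcon z)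
      refine hnc ⟨⟨x, fun y => ?_⟩⟩
      have : Subgroup.zpowers x = ⊤ := by
        by_contra hne
        obtain ⟨L, hL, hxL⟩ := (eq_top_or_exists_le_coatom (Subgroup.zpowers x)).resolve_left hne
        obtain ⟨-, hLi⟩ := FGB.coatom_normal_and_index hGp hL
        have h1 := L.card_mul_index
        rw [hLi, hG] at h1
        have hLc : Nat.card L = p ^ s := by
          refine Nat.eq_of_mul_eq_mul_right hp.pos ?_
          rw [h1, ← pow_succ]
          congr 1
          omega
        exact hx (huniq L H hLc hH ▸ hxL (Subgroup.mem_zpowers x))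
      exact Subgroup.mem_zpowers_iff.mp (by rw [this]; exact Subgroup.mem_top y)
  obtain ⟨M1, hM1, -⟩ := (eq_top_or_exists_le_coatom H).resolve_left hHne
  obtain ⟨hM1n, hM1i⟩ := FGB.coatom_normal_and_index hGp hM1
  obtain ⟨a, ha⟩ := (Subgroup.isCyclic_iff_exists_zpowers_eq_top M1).mp (hmax M1 hM1)
  obtain ⟨b, hb⟩ : ∃ b, b ∉ M1 := by
    by_contra hcon
    push Not at hcon
    exact hM1.1 (eq_top_iff.mpr fun z _ => hcon z)
  obtain ⟨M2, hM2, hbM2⟩ := (eq_top_or_exists_le_coatom (Subgroup.zpowers b)).resolve_left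
    (fun h => hnc ⟨⟨b, fun y => Subgroup.mem_zpowers_iff.mp (by rw [h]; exact Subgroup.mem_top y)⟩⟩)
  replace hbM2 : b ∈ M2 := hbM2 (Subgroup.mem_zpowers b)
  obtain ⟨hM2n, hM2i⟩ := FGB.coatom_normal_and_index hGp hM2
  haveI := hM1n
  haveI := hM2n
  haveI := hmax M2 hM2
  have hcomm2 : ∀ u ∈ M2, ∀ v ∈ M2, u * v = v * u := fun u hu v hv =>
    congrArg Subtype.val (@mul_comm _ (IsCyclic.commGroup (α := M2)).toCommMonoid.toCommSemigroup.toCommMagma ⟨u, hu⟩ ⟨v, hv⟩)
  have hpowM : ∀ (M : Subgroup G), M.Normal → M.index = p → ∀ g : G, g ^ p ∈ M := fun M _ hi g => by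
    rw [← hi]; exact M.pow_index_mem g
  obtain ⟨j, hj⟩ : b ^ p ∈ Subgroup.zpowers a := ha ▸ hpowM M1 hM1n hM1i b
  have hj' : a ^ j = b ^ p := hj
  obtain ⟨k, rfl⟩ : (p : ℤ) ∣ j := by
    by_contra hndvd
    apply hb
    have hle : M1 ≤ M2 := by
      rw [← ha, Subgroup.zpowers_le]
      obtain ⟨e, he⟩ := IsPGroup.iff_orderOf.mp hGp a
      have hco : Int.gcd j (orderOf a) = 1 := by
        rw [Int.gcd_def, Int.natAbs_natCast, he]
        refine Nat.Coprime.pow_right _ (Nat.Coprime.symm (hp.coprime_iff_not_dvd.mpr ?_))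
        exact fun h => hndvd (Int.natCast_dvd.mpr h)
      have h1 : ∃ u : ℤ, (a ^ j) ^ u = a := by
        refine ⟨Int.gcdA j (orderOf a), ?_⟩
        have h2 := Int.gcd_eq_gcd_ab j (orderOf a)
        rw [hco] at h2
        rw [← zpow_mul]
        conv_rhs => rw [← zpow_one a, show (1 : ℤ) = j * Int.gcdA j (orderOf a) + (orderOf a : ℤ) * Int.gcdB j (orderOf a) by exact_mod_cast h2]
        rw [zpow_add, zpow_mul a (orderOf a : ℤ), zpow_natCast, pow_orderOf_eq_one, one_zpow, mul_one]
      obtain ⟨u, hu⟩ := h1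
      rw [← hu, hj']
      exact zpow_mem (pow_mem hbM2 p) u
    have heq : M1 = M2 := (hM1.le_iff.mp hle).resolve_left hM2.1 |>.symm
    exact heq ▸ hbM2
  set v := a ^ (-k) with hv
  have hvM : v ∈ M1 := zpow_mem (ha ▸ Subgroup.mem_zpowers a) _
  set d := b⁻¹ * v⁻¹ * b * v with hd
  have hdM1 : d ∈ M1 := mul_mem (by
    have := hM1n.conj_mem _ (inv_mem hvM) b⁻¹
    rwa [inv_inv] at this) hvM
  have hdM2 : d ∈ M2 := by
    rw [hd, mul_assoc, mul_assoc]
    refine mul_mem (inv_mem hbM2) ?_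
    have := hM2n.conj_mem _ hbM2 v⁻¹
    rw [inv_inv] at this
    simpa [mul_assoc] using this
  have hcomm1 : ∀ u ∈ M1, ∀ w ∈ M1, u * w = w * u := by
    intro u hu w hw
    rw [← ha] at hu hw
    obtain ⟨i, rfl⟩ := hu
    obtain ⟨l, rfl⟩ := hw
    exact (Commute.zpow_zpow_self a i l).eq
  have hdb : Commute d b := hcomm2 d hdM2 b hbM2
  have hdv : Commute d v := hcomm1 d hdM1 v hvM
  have hbv : b * v = v * b * d := by rw [hd]; group
  have hswap : ∀ i : ℕ, b ^ i * v = v * b ^ i * d ^ i := by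
    intro i
    induction i with
    | zero => simp
    | succ i hi =>
      calc b ^ (i + 1) * v = b * (b ^ i * v) := by rw [pow_succ']; group
        _ = b * v * b ^ i * d ^ i := by rw [hi]; group
        _ = v * b * (d * b ^ i) * d ^ i := by rw [hbv]; group
        _ = v * b * (b ^ i * d) * d ^ i := by rw [(hdb.pow_right i).eq]
        _ = v * b ^ (i + 1) * d ^ (i + 1) := by rw [pow_succ' b, pow_succ' d]; group
  have hpow : ∀ i : ℕ, (v * b) ^ i = v ^ i * b ^ i * d ^ (i.choose 2) := by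
    intro i
    induction i with
    | zero => simp
    | succ i hi =>
      rw [pow_succ (v * b), hi, Nat.choose_succ_succ', Nat.choose_one_right]
      calc v ^ i * b ^ i * d ^ i.choose 2 * (v * b)
          = v ^ i * b ^ i * (d ^ i.choose 2 * v) * b := by group
        _ = v ^ i * b ^ i * (v * d ^ i.choose 2) * b := by rw [(hdv.pow_left _).eq]
        _ = v ^ i * (b ^ i * v) * (d ^ i.choose 2 * b) := by group
        _ = v ^ i * (v * b ^ i * d ^ i) * (b * d ^ i.choose 2) := by rw [hswap, (hdb.pow_left _).eq]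
        _ = v ^ i * v * b ^ i * (d ^ i * b) * d ^ i.choose 2 := by group
        _ = v ^ i * v * b ^ i * (b * d ^ i) * d ^ i.choose 2 := by rw [(hdb.pow_left _).eq]
        _ = (v ^ i * v) * (b ^ i * b) * (d ^ i * d ^ i.choose 2) := by group
        _ = v ^ (i + 1) * b ^ (i + 1) * d ^ (i + i.choose 2) := by rw [← pow_succ, ← pow_succ, ← pow_add]
  have hdp : d ^ p = 1 := by
    have h1 := hswap p
    rw [← hj', (Commute.zpow_zpow_self a _ _ : Commute (a ^ ((p : ℤ) * k)) v).eq] at h1
    exact mul_left_cancel (h1.symm.trans (mul_one _).symm)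
  have hvb : v ^ p * b ^ p = 1 := by
    rw [← hj', hv, ← zpow_natCast, ← zpow_mul, ← zpow_add, show -k * (p : ℤ) + (p : ℤ) * k = 0 by ring, zpow_zero]
  have hy : (v * b) ^ p = d ^ (p.choose 2) := by rw [hpow, hvb, one_mul]
  have hyord : orderOf (v * b) ∣ p ^ s := by
    rcases eq_or_ne p 2 with rfl | hp2
    · refine dvd_trans (orderOf_dvd_of_pow_eq_one (n := 2 ^ 2) ?_) (pow_dvd_pow 2 (h2.resolve_left (by simp)))
      rw [pow_two 2, pow_mul, hy, ← pow_mul, show Nat.choose 2 2 * 2 = 2 from rfl, hdp]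
    · refine dvd_trans (orderOf_dvd_of_pow_eq_one (n := p ^ 1) ?_) (pow_dvd_pow p hs)
      obtain ⟨c, hc⟩ := hp.dvd_choose_self (k := 2) (by norm_num) (lt_of_le_of_ne hp.two_le (Ne.symm hp2))
      rw [pow_one, hy, hc, pow_mul, hdp, one_pow]
  have hyH : v * b ∈ H := hsmall _ (by
    rw [Nat.card_zpowers]; exact Nat.le_of_dvd (pow_pos hp.pos s) hyord) (Subgroup.mem_zpowers _)
  have hHM1 : H ≤ M1 := hsub M1 (by
    have h1 := M1.card_mul_index
    rw [hM1i, hG] at h1
    refine Nat.le_of_mul_le_mul_right (c := p) ?_ hp.pos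
    rw [h1, ← pow_succ]
    exact Nat.pow_le_pow_right hp.pos hsn)
  apply hb
  have := mul_mem (inv_mem hvM) (hHM1 hyH)
  rwa [inv_mul_cancel_left] at this
end Cfsg.Agent.S3977
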