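import Cfsg.Statements.S3978
import Mathlib
import Cfsg.Agent.Lib.SchurMult.Cover
import Cfsg.Agent.Lib.SchurMult.Projective

set_option autoImplicit false
open Cfsg

namespace Cfsg.Agent.S3978

/-- A finite group `Q` has trivial Schur multiplier if and only if, for every `n`, every homomorphism from `Q` to the projective general linear group (the quotient of `GL n ℂ` by its centre) lifts to a homomorphism into `GL n ℂ`. -/
theorem result {Q : Type*} [Group Q] [Finite Q] : Cfsg.HasCyclicSchurMultiplier Q 1 ↔ ∀ (n : ℕ) (γ : Q →* (GL (Fin n) ℂ ⧸ Subgroup.center (GL (Fin n) ℂ))), ∃ ρ : Q →* GL (Fin n) ℂ, (QuotientGroup.mk' (Subgroup.center (GL (Fin n) ℂ))).comp ρ = γ := by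
  constructor
  · intro h n γ
    obtain ⟨⟨Γ, _, _, σ, hσ, ⟨e⟩⟩, -⟩ := id h
    haveI : Subsingleton σ.ker :=
      Function.Injective.subsingleton (f := fun x => Multiplicative.toAdd (e x))
        (Multiplicative.toAdd.injective.comp e.injective)
    have hinj : Function.Injective σ := (injective_iff_map_eq_one _).mpr fun x hx =>
      congrArg Subtype.val (Subsingleton.elim (⟨x, hx⟩ : σ.ker) 1)
    obtain ⟨ρ, hρ⟩ := Cfsg.Agent.SchurMult.exists_projective_lift h σ hσ e n γ
    refine ⟨ρ.comp (MulEquiv.ofBijective σ ⟨hinj, hσ.1⟩).symm.toMonoidHom, MonoidHom.ext fun q => ?_⟩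
    rw [← MonoidHom.comp_assoc, hρ, MonoidHom.comp_apply, MonoidHom.comp_apply]
    exact congrArg γ ((MulEquiv.ofBijective σ ⟨hinj, hσ.1⟩).apply_symm_apply q)
  · intro hlift
    have hβ : (MonoidHom.id Q).comp (Cfsg.Agent.SchurMult.cov Q) = Cfsg.Agent.SchurMult.cov Q :=
      MonoidHom.id_comp _
    have hinj := Cfsg.Agent.SchurMult.multMap_injective_of_lift hβ fun n γ => by
      obtain ⟨ρ, hρ⟩ := hlift n γ
      exact ⟨ρ, hρ.trans (MonoidHom.comp_id γ).symm⟩
    haveI : Subsingleton (Cfsg.Agent.SchurMult.mult Q) :=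
      haveI : Subsingleton (MonoidHom.id Q).ker :=
        ⟨fun a b => Subtype.ext ((MonoidHom.mem_ker.mp a.2).trans (MonoidHom.mem_ker.mp b.2).symm)⟩
      Function.Injective.subsingleton (f := Cfsg.Agent.SchurMult.multMap hβ) hinj
    refine Cfsg.Agent.SchurMult.hasSchurMultiplier_of_equiv
      { toFun := fun _ => 1, invFun := fun _ => 1, left_inv := fun x => ?_, right_inv := fun x => Subsingleton.elim _ _, map_mul' := fun _ _ => (mul_one 1).symm }
    exact Multiplicative.toAdd.injective (Subsingleton.elim _ _)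

end Cfsg.Agent.S3978
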