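import Cfsg.Statements.S3979
import Cfsg.Agent.Lib.SchurMult.Cover

set_option autoImplicit false
open Cfsg

namespace Cfsg.Agent.S3979

/-- A finite cyclic group has trivial Schur multiplier: every finite stem extension of it is an isomorphism, said through `HasCyclicSchurMultiplier G 1`. -/
theorem result {G : Type*} [Group G] [Finite G] [IsCyclic G] : Cfsg.HasCyclicSchurMultiplier G 1 := by
  rw [Cfsg.Agent.SchurMult.hasCyclicSchurMultiplier_one_iff, eq_bot_iff]
  intro x hx
  haveI : IsCyclic (Cfsg.Agent.SchurMult.cov G).range := inferInstance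
  have hcomm : ∀ a b : Cfsg.Agent.SchurMult.Cov G, a * b = b * a :=
    (commutative_of_cyclic_center_quotient (Cfsg.Agent.SchurMult.cov G).rangeRestrict
      (by rw [MonoidHom.ker_rangeRestrict]; exact Cfsg.Agent.SchurMult.cov_ker_le_center G))
  have h1 : commutator (Cfsg.Agent.SchurMult.Cov G) ≤ ⊥ := by
    rw [commutator_def, Subgroup.commutator_le]
    intro a _ b _
    exact Subgroup.mem_bot.mpr (commutatorElement_eq_one_iff_mul_comm.mpr (hcomm a b))
  exact h1 hx.2

end Cfsg.Agent.S3979
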