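import Cfsg.Statements.S3980
import Cfsg.Agent.Lib.SchurMult.Cover

set_option autoImplicit false
universe u v w
open Cfsg

open scoped commutatorElement

namespace Cfsg.Agent.S3980

/-- Let `Q₁` and `Q₂` be finite groups whose commutator quotients have coprime orders, with Schur multipliers `A` and `B`. Then the Schur multiplier of `Q₁ × Q₂` is isomorphic to `A × B`. -/
theorem result {Q₁ : Type u} {Q₂ : Type v} [Group Q₁] [Group Q₂] [Finite Q₁] [Finite Q₂] {A B : Type w} [CommGroup A] [CommGroup B] (hA : Cfsg.HasSchurMultiplier Q₁ A) (hB : Cfsg.HasSchurMultiplier Q₂ B) (hcop : Nat.Coprime (Nat.card (Abelianization Q₁)) (Nat.card (Abelianization Q₂))) : Cfsg.HasSchurMultiplier (Q₁ × Q₂) (A × B) := by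
  obtain ⟨⟨Γ₁, _, _, σ₁, hσ₁, ⟨eA⟩⟩, -⟩ := id hA
  obtain ⟨⟨Γ₂, _, _, σ₂, hσ₂, ⟨eB⟩⟩, -⟩ := id hB
  obtain ⟨fA⟩ := Cfsg.Agent.SchurMult.nonempty_equiv hA
  obtain ⟨fB⟩ := Cfsg.Agent.SchurMult.nonempty_equiv hB
  haveI : Finite (Abelianization Q₁) := Quotient.finite _
  haveI : Finite (Abelianization Q₂) := Quotient.finite _
  refine ⟨⟨Γ₁ × Γ₂, inferInstance, inferInstance, σ₁.prodMap σ₂,
    ⟨?_, ?_, ?_⟩, ⟨(MulEquiv.subgroupCongr (MonoidHom.ker_prodMap σ₁ σ₂)).trans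
      ((Subgroup.prodEquiv σ₁.ker σ₂.ker).trans (MulEquiv.prodCongr eA eB))⟩⟩, ?_⟩
  · exact Function.Surjective.prodMap hσ₁.1 hσ₂.1
  · rw [MonoidHom.ker_prodMap]
    rintro ⟨x, y⟩ ⟨hx, hy⟩
    rw [Subgroup.mem_center_iff]
    rintro ⟨g, h⟩
    exact Prod.ext (Subgroup.mem_center_iff.mp (hσ₁.2.1 hx) g)
      (Subgroup.mem_center_iff.mp (hσ₂.2.1 hy) h)
  · rw [MonoidHom.ker_prodMap]
    rintro ⟨x, y⟩ ⟨hx, hy⟩
    have h1 : (x, (1 : Γ₂)) ∈ commutator (Γ₁ × Γ₂) := by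
      have := Subgroup.mem_map_of_mem (MonoidHom.inl Γ₁ Γ₂) (hσ₁.2.2 hx)
      rw [commutator_def, Subgroup.map_commutator] at this
      exact Subgroup.commutator_mono le_top le_top this
    have h2 : ((1 : Γ₁), y) ∈ commutator (Γ₁ × Γ₂) := by
      have := Subgroup.mem_map_of_mem (MonoidHom.inr Γ₁ Γ₂) (hσ₂.2.2 hy)
      rw [commutator_def, Subgroup.map_commutator] at this
      exact Subgroup.commutator_mono le_top le_top this
    simpa using mul_mem h1 h2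
  intro Γ _ _ σ hσ
  set Δ₁ := (((MonoidHom.snd Q₁ Q₂).comp σ).ker) with hΔ₁
  set Δ₂ := (((MonoidHom.fst Q₁ Q₂).comp σ).ker) with hΔ₂
  let τ₁ : Δ₁ →* Q₁ := ((MonoidHom.fst Q₁ Q₂).comp σ).comp Δ₁.subtype
  let τ₂ : Δ₂ →* Q₂ := ((MonoidHom.snd Q₁ Q₂).comp σ).comp Δ₂.subtype
  have hkerZ : ∀ x : Γ, (σ x).1 = 1 → (σ x).2 = 1 → x ∈ σ.ker := fun x h1 h2 =>
    MonoidHom.mem_ker.mpr (Prod.ext h1 h2)
  have hτ₁ : τ₁.ker ≤ Subgroup.center Δ₁ := fun x hx => Subgroup.mem_center_iff.mpr fun g =>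
    Subtype.ext (Subgroup.mem_center_iff.mp (hσ.2.1 (hkerZ x hx x.2)) g)
  have hτ₂ : τ₂.ker ≤ Subgroup.center Δ₂ := fun x hx => Subgroup.mem_center_iff.mpr fun g =>
    Subtype.ext (Subgroup.mem_center_iff.mp (hσ.2.1 (hkerZ x x.2 hx)) g)
  have hs₁ : Function.Surjective τ₁ := fun q => by
    obtain ⟨x, hx⟩ := hσ.1 (q, 1)
    exact ⟨⟨x, congrArg Prod.snd hx⟩, congrArg Prod.fst hx⟩
  have hs₂ : Function.Surjective τ₂ := fun q => by
    obtain ⟨x, hx⟩ := hσ.1 (1, q)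
    exact ⟨⟨x, congrArg Prod.fst hx⟩, congrArg Prod.snd hx⟩
  -- the two halves commute
  have hcen : ∀ (a : Δ₁) (b : Δ₂), ⁅(a : Γ), (b : Γ)⁆ ∈ σ.ker := by
    intro a b
    refine hkerZ _ ?_ ?_
    · have hb : (σ b).1 = 1 := b.2
      simp [commutatorElement_def, hb]
    · have ha : (σ a).2 = 1 := a.2
      simp [commutatorElement_def, ha]
  have hz : ∀ (a : Δ₁) (b : Δ₂) (g : Γ), g * ⁅(a : Γ), (b : Γ)⁆ = ⁅(a : Γ), (b : Γ)⁆ * g :=
    fun a b => Subgroup.mem_center_iff.mp (hσ.2.1 (hcen a b))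
  have hcomm : ∀ (a : Δ₁) (b : Δ₂), (a : Γ) * b = b * a := by
    intro a b
    rw [← commutatorElement_eq_one_iff_mul_comm, ← orderOf_eq_one_iff]
    haveI : IsMulCommutative σ.ker :=
      ⟨⟨fun p q => Subtype.ext (Subgroup.mem_center_iff.mp (hσ.2.1 q.2) p)⟩⟩
    letI : CommGroup σ.ker :=
      { (inferInstance : Group σ.ker) with mul_comm := fun p q => mul_comm' p q }
    -- bimultiplicativity
    let f₁ : Δ₁ →* σ.ker :=
      MonoidHom.mk' (fun a => ⟨⁅(a : Γ), (b : Γ)⁆, hcen a b⟩) fun p q => Subtype.ext (by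
        show ⁅(p : Γ) * q, (b : Γ)⁆ = ⁅(p : Γ), (b : Γ)⁆ * ⁅(q : Γ), (b : Γ)⁆
        rw [← hz p b, show ⁅(p : Γ) * q, (b : Γ)⁆ = (p : Γ) * ⁅(q : Γ), (b : Γ)⁆ * (p : Γ)⁻¹ *
          ⁅(p : Γ), (b : Γ)⁆ by simp only [commutatorElement_def]; group, hz q b,
          mul_inv_cancel_right, hz p b])
    let f₂ : Δ₂ →* σ.ker :=
      MonoidHom.mk' (fun b => ⟨⁅(a : Γ), (b : Γ)⁆, hcen a b⟩) fun p q => Subtype.ext (by
        show ⁅(a : Γ), (p : Γ) * q⁆ = ⁅(a : Γ), (p : Γ)⁆ * ⁅(a : Γ), (q : Γ)⁆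
        rw [show ⁅(a : Γ), (p : Γ) * q⁆ = ⁅(a : Γ), (p : Γ)⁆ * ((p : Γ) * ⁅(a : Γ), (q : Γ)⁆ *
          (p : Γ)⁻¹) by simp only [commutatorElement_def]; group, hz a q, mul_inv_cancel_right])
    have hk₁ : τ₁.ker ≤ f₁.ker := fun x hx => Subtype.ext (by
      show ⁅(x : Γ), (b : Γ)⁆ = 1
      rw [commutatorElement_eq_one_iff_mul_comm]
      exact (Subgroup.mem_center_iff.mp (hσ.2.1 (hkerZ x hx x.2)) b).symm)
    have hk₂ : τ₂.ker ≤ f₂.ker := fun x hx => Subtype.ext (by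
      show ⁅(a : Γ), (x : Γ)⁆ = 1
      rw [commutatorElement_eq_one_iff_mul_comm]
      exact Subgroup.mem_center_iff.mp (hσ.2.1 (hkerZ x x.2 hx)) a)
    let g₁ : Abelianization Q₁ →* σ.ker := Abelianization.lift (τ₁.liftOfSurjective hs₁ ⟨f₁, hk₁⟩)
    let g₂ : Abelianization Q₂ →* σ.ker := Abelianization.lift (τ₂.liftOfSurjective hs₂ ⟨f₂, hk₂⟩)
    have e₁ : g₁ (Abelianization.of (τ₁ a)) = f₁ a := by
      rw [Abelianization.lift_apply_of]; exact MonoidHom.liftOfRightInverse_comp_apply τ₁ _ _ ⟨f₁, hk₁⟩ a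
    have e₂ : g₂ (Abelianization.of (τ₂ b)) = f₂ b := by
      rw [Abelianization.lift_apply_of]; exact MonoidHom.liftOfRightInverse_comp_apply τ₂ _ _ ⟨f₂, hk₂⟩ b
    have d₁ : orderOf (f₁ a) ∣ Nat.card (Abelianization Q₁) :=
      e₁ ▸ (orderOf_map_dvd g₁ _).trans (orderOf_dvd_natCard _)
    have d₂ : orderOf (f₂ b) ∣ Nat.card (Abelianization Q₂) :=
      e₂ ▸ (orderOf_map_dvd g₂ _).trans (orderOf_dvd_natCard _)
    have := Nat.eq_one_of_dvd_coprimes hcop d₁ d₂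
    rwa [← Subgroup.orderOf_coe] at this
  -- decomposition of the kernel
  obtain ⟨β₁, hβ₁⟩ := Cfsg.Agent.SchurMult.exists_lift_id τ₁ hs₁ hτ₁
  obtain ⟨β₂, hβ₂⟩ := Cfsg.Agent.SchurMult.exists_lift_id τ₂ hs₂ hτ₂
  let m₁ : A →* σ.ker := ((Δ₁.subtype.comp β₁).comp
      ((Cfsg.Agent.SchurMult.mult Q₁).subtype.comp fA.toMonoidHom)).codRestrict _ fun x => by
    refine hkerZ _ ?_ (β₁ _).2
    show τ₁ (β₁ _) = 1
    rw [← MonoidHom.comp_apply, hβ₁]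
    exact Cfsg.Agent.SchurMult.mult_le_ker Q₁ (fA x).2
  let m₂ : B →* σ.ker := ((Δ₂.subtype.comp β₂).comp
      ((Cfsg.Agent.SchurMult.mult Q₂).subtype.comp fB.toMonoidHom)).codRestrict _ fun x => by
    refine hkerZ _ (β₂ _).2 ?_
    show τ₂ (β₂ _) = 1
    rw [← MonoidHom.comp_apply, hβ₂]
    exact Cfsg.Agent.SchurMult.mult_le_ker Q₂ (fB x).2
  refine ⟨MonoidHom.noncommCoprod m₁ m₂ fun x y => Subtype.ext
    (Subgroup.mem_center_iff.mp (hσ.2.1 (m₂ y).2) _), ?_⟩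
  rintro ⟨z, hz'⟩
  -- `z` is a product of two commutators
  have hsplit : ∀ g : Γ, ∃ (a : Δ₁) (b : Δ₂), g = a * b := by
    intro g
    obtain ⟨a, ha⟩ := hs₁ (σ g).1
    have ha' : (σ a).1 = (σ g).1 := ha
    refine ⟨a, ⟨(a : Γ)⁻¹ * g, ?_⟩, by simp⟩
    show (σ ((a : Γ)⁻¹ * g)).1 = 1
    simp [ha']
  have hprod : commutator Γ ≤ (commutator Δ₁).map Δ₁.subtype ⊔ (commutator Δ₂).map Δ₂.subtype := by
    rw [commutator_def, Subgroup.commutator_le]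
    intro g _ h _
    obtain ⟨a, b, rfl⟩ := hsplit g
    obtain ⟨c, e, rfl⟩ := hsplit h
    have : ⁅(a : Γ) * b, (c : Γ) * e⁆ = ⁅(a : Γ), (c : Γ)⁆ * ⁅(b : Γ), (e : Γ)⁆ := by
      have key : ∀ a b c e : Γ, Commute a b → Commute a e → Commute c b → Commute c e →
          ⁅a * b, c * e⁆ = ⁅a, c⁆ * ⁅b, e⁆ := by
        intro a b c e hab hae hcb hce
        have k1 : (a * b) * (c * e) = (a * c) * (b * e) := by
          rw [mul_assoc, ← mul_assoc b, ← hcb.eq, mul_assoc c, ← mul_assoc a]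
        have k2 : (a * b)⁻¹ * (c * e)⁻¹ = (a⁻¹ * c⁻¹) * (b⁻¹ * e⁻¹) := by
          rw [hab.eq, hce.eq, mul_inv_rev, mul_inv_rev, mul_assoc, ← mul_assoc b⁻¹,
            ← hcb.inv_inv.eq, mul_assoc, ← mul_assoc a⁻¹]
        have k3 : Commute (b * e) (a⁻¹ * c⁻¹) :=
          ((hab.symm.inv_right).mul_left hae.symm.inv_right).mul_right
            ((hcb.symm.inv_right).mul_left hce.symm.inv_right)
        calc ⁅a * b, c * e⁆ = ((a * b) * (c * e)) * ((a * b)⁻¹ * (c * e)⁻¹) := by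
              rw [commutatorElement_def]; group
          _ = (a * c) * ((b * e) * (a⁻¹ * c⁻¹)) * (b⁻¹ * e⁻¹) := by rw [k1, k2]; group
          _ = ⁅a, c⁆ * ⁅b, e⁆ := by
              rw [k3.eq, commutatorElement_def, commutatorElement_def]; group
      exact key _ _ _ _ (hcomm a b) (hcomm a e) (hcomm c b) (hcomm c e)
    rw [this]
    refine Subgroup.mul_mem_sup ⟨⁅a, c⁆, Subgroup.commutator_mem_commutator (Subgroup.mem_top _)
      (Subgroup.mem_top _), ?_⟩ ⟨⁅b, e⁆, Subgroup.commutator_mem_commutator (Subgroup.mem_top _)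
      (Subgroup.mem_top _), ?_⟩
    · exact map_commutatorElement _ _ _
    · exact map_commutatorElement _ _ _
  haveI hnorm : ((commutator Δ₂).map Δ₂.subtype).Normal := inferInstance
  obtain ⟨p, hp, q, hq, hpq⟩ := Subgroup.mem_sup_of_normal_right.mp (hprod (hσ.2.2 hz'))
  obtain ⟨p, hp, rfl⟩ := hp
  obtain ⟨q, hq, rfl⟩ := hq
  have hpq' : σ (p : Γ) * σ (q : Γ) = 1 := by
    rw [← map_mul]; exact (congrArg σ hpq).trans hz'
  have hp1 : p ∈ τ₁.ker := by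
    have h1 := congrArg Prod.fst hpq'
    have h2 : (σ (q : Γ)).1 = 1 := q.2
    simpa [h2, τ₁] using h1
  have hq1 : q ∈ τ₂.ker := by
    have h1 := congrArg Prod.snd hpq'
    have h2 : (σ (p : Γ)).2 = 1 := p.2
    simpa [h2, τ₂] using h1
  obtain ⟨x, hx, hxp⟩ := (Cfsg.Agent.SchurMult.map_mult hτ₁ hβ₁).ge ⟨hp1, hp⟩
  obtain ⟨y, hy, hyq⟩ := (Cfsg.Agent.SchurMult.map_mult hτ₂ hβ₂).ge ⟨hq1, hq⟩
  refine ⟨(fA.symm ⟨x, hx⟩, fB.symm ⟨y, hy⟩), Subtype.ext ?_⟩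
  show (β₁ (fA (fA.symm ⟨x, hx⟩)) : Γ) * (β₂ (fB (fB.symm ⟨y, hy⟩)) : Γ) = z
  rw [MulEquiv.apply_symm_apply, MulEquiv.apply_symm_apply, hxp, hyq]
  exact hpq

end Cfsg.Agent.S3980
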