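import Cfsg.Statements.S3981
import Mathlib
-- import your own Cfsg.Agent.* helpers here

set_option autoImplicit false
open Cfsg
open scoped Pointwise

namespace Cfsg.Agent.S3981

/-- Let p be an odd prime, Q a p-subgroup of the finite group G and y an involution normalizing Q. Then Q is maximal among the p-subgroups of G normalized by y if and only if the image of y in N_G(Q) ⧸ Q neither inverts nor centralizes any element of order p there; the latter is phrased inside N_G(Q): for every x in N_G(Q) outside Q with x ^ p ∈ Q, neither y x y⁻¹ x nor y x y⁻¹ x⁻¹ lies in Q. -/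
theorem result {G : Type*} [Group G] [Finite G] (p : ℕ) [Fact p.Prime] (hp2 : p ≠ 2) (Q : Subgroup G) (hQ : IsPGroup p ↥Q) (y : G) (hy : orderOf y = 2) (hyQ : y ∈ Subgroup.normalizer (Q : Set G)) : (∀ R : Subgroup G, IsPGroup p ↥R → Q ≤ R → y ∈ Subgroup.normalizer (R : Set G) → R = Q) ↔ ∀ x : G, x ∈ Subgroup.normalizer (Q : Set G) → x ∉ Q → x ^ p ∈ Q → (y * x * y⁻¹ * x ∉ Q ∧ y * x * y⁻¹ * x⁻¹ ∉ Q) := by
  classical
  have hyy : y * y = 1 := by rw [← pow_two, ← hy]; exact pow_orderOf_eq_one y
  have hyi : y⁻¹ = y := inv_eq_of_mul_eq_one_right hyy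
  constructor
  · intro hmax x hxN hxQ hxp
    by_contra hcon
    rw [not_and_or, not_not, not_not] at hcon
    apply hxQ
    set R : Subgroup G := Subgroup.zpowers x ⊔ Q with hR
    have hxle : Subgroup.zpowers x ≤ Subgroup.normalizer (Q : Set G) := Subgroup.zpowers_le.mpr hxN
    have hRset : (R : Set G) = (Subgroup.zpowers x : Set G) * (Q : Set G) :=
      Subgroup.coe_mul_of_left_le_normalizer_right _ _ hxle
    have hRp : IsPGroup p ↥R := by
      intro z
      obtain ⟨t, ht, q, hq, htq⟩ : (z : G) ∈ (Subgroup.zpowers x : Set G) * (Q : Set G) := hRset ▸ z.2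
      obtain ⟨m, rfl⟩ := ht
      set N := Subgroup.normalizer (Q : Set G)
      haveI : (Q.subgroupOf N).Normal := Subgroup.normal_in_normalizer
      have h1 : ((⟨z, htq ▸ mul_mem (zpow_mem hxN m) (Subgroup.le_normalizer hq)⟩ : N) : N ⧸ Q.subgroupOf N) ^ p = 1 := by
        rw [show (⟨z, htq ▸ mul_mem (zpow_mem hxN m) (Subgroup.le_normalizer hq)⟩ : N) =
          (⟨x, hxN⟩ : N) ^ m * ⟨q, Subgroup.le_normalizer hq⟩ from Subtype.ext htq.symm,
          QuotientGroup.mk_mul, (QuotientGroup.eq_one_iff (⟨q, Subgroup.le_normalizer hq⟩ : N)).mpr hq,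
          mul_one, QuotientGroup.mk_zpow, ← zpow_natCast, ← zpow_mul, mul_comm, zpow_mul, zpow_natCast,
          ← QuotientGroup.mk_pow, (QuotientGroup.eq_one_iff _).mpr (show ((⟨x, hxN⟩ : N) ^ p : N) ∈ Q.subgroupOf N from hxp),
          one_zpow]
      rw [← QuotientGroup.mk_pow, QuotientGroup.eq_one_iff] at h1
      obtain ⟨k, hk⟩ := hQ ⟨_, h1⟩
      refine ⟨k + 1, Subtype.ext ?_⟩
      rw [pow_succ', pow_mul]
      simpa using congrArg Subtype.val hk
    have hyR : y ∈ Subgroup.normalizer (R : Set G) := by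
      have hmap : ∀ r ∈ R, y * r * y⁻¹ ∈ R := by
        intro r hr
        have : R ≤ R.comap (MulAut.conj y).toMonoidHom := by
          refine sup_le (Subgroup.zpowers_le.mpr ?_) ?_
          · show y * x * y⁻¹ ∈ R
            rcases hcon with h | h
            · have := mul_mem (Subgroup.mem_sup_right (S := Subgroup.zpowers x) h)
                (inv_mem (Subgroup.mem_sup_left (T := Q) (Subgroup.mem_zpowers x)))
              rwa [mul_inv_cancel_right] at this
            · have := mul_mem (Subgroup.mem_sup_right (S := Subgroup.zpowers x) h)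
                (Subgroup.mem_sup_left (T := Q) (Subgroup.mem_zpowers x))
              rwa [inv_mul_cancel_right] at this
          · intro q hq
            exact Subgroup.mem_sup_right ((Subgroup.mem_normalizer_iff.mp hyQ q).mp hq)
        exact this hr
      rw [Subgroup.mem_normalizer_iff]
      refine fun r => ⟨hmap r, fun hr => ?_⟩
      have := hmap _ hr
      rw [hyi] at this
      simpa only [mul_assoc, hyy, mul_one, ← mul_assoc y y, one_mul] using this
    exact (hmax R hRp le_sup_right hyR) ▸ (Subgroup.mem_sup_left (Subgroup.mem_zpowers x))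
  · intro h R hR hQR hyR
    by_contra hne
    set N := Subgroup.normalizer (Q : Set G) with hN
    haveI : (Q.subgroupOf N).Normal := Subgroup.normal_in_normalizer
    set φ := QuotientGroup.mk' (Q.subgroupOf N) with hφ
    set W := (R.subgroupOf N).map φ with hW
    haveI : Group.IsNilpotent R := hR.isNilpotent
    have hW1 : W ≠ ⊥ := by
      intro hbot
      have hsub : Q.subgroupOf R < ⊤ := lt_top_iff_ne_top.mpr (by
        rw [Ne, Subgroup.subgroupOf_eq_top]; exact fun h' => hne (le_antisymm h' hQR))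
      obtain ⟨r, hr, hrn⟩ := SetLike.exists_of_lt (Group.normalizerCondition_of_isNilpotent _ hsub)
      apply hrn
      have hrN : (r : G) ∈ N := by
        rw [Subgroup.mem_normalizer_iff]
        intro q
        constructor
        · intro hq
          exact (Subgroup.mem_normalizer_iff.mp hr ⟨q, hQR hq⟩).mp hq
        · intro hq
          have hqR : q ∈ R := by
            have := mul_mem (mul_mem (inv_mem r.2) (hQR hq)) r.2
            simpa [mul_assoc] using this
          exact (Subgroup.mem_normalizer_iff.mp hr ⟨q, hqR⟩).mpr hq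
      have : φ ⟨r, hrN⟩ ∈ W := ⟨_, r.2, rfl⟩
      rw [hbot, Subgroup.mem_bot] at this
      exact (QuotientGroup.eq_one_iff (⟨r, hrN⟩ : N)).mp this
    haveI hWnt : Nontrivial W := (Subgroup.nontrivial_iff_ne_bot W).mpr hW1
    have hWp : IsPGroup p W := (hR.comap_of_injective N.subtype N.subtype_injective).map φ
    haveI : Nontrivial (Subgroup.center W) := hWp.center_nontrivial
    have hZp : IsPGroup p (Subgroup.center W) := hWp.to_subgroup _
    obtain ⟨z, hz⟩ := exists_prime_orderOf_dvd_card' (G := Subgroup.center W) p (by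
      obtain ⟨n, hn, hn'⟩ := (hZp.nontrivial_iff_card).mp inferInstance
      exact hn' ▸ dvd_pow_self p hn.ne')
    -- conjugation by the image of `y`
    set Y : N ⧸ Q.subgroupOf N := φ ⟨y, hyQ⟩ with hY
    have hYY : Y * Y = 1 := by
      rw [hY, ← map_mul, show (⟨y, hyQ⟩ : N) * ⟨y, hyQ⟩ = 1 from Subtype.ext hyy, map_one]
    have hYi : Y⁻¹ = Y := inv_eq_of_mul_eq_one_right hYY
    have hYW : ∀ w ∈ W, Y * w * Y⁻¹ ∈ W := by
      rintro _ ⟨n, hn, rfl⟩
      exact ⟨⟨y, hyQ⟩ * n * ⟨y, hyQ⟩⁻¹, (Subgroup.mem_normalizer_iff.mp hyR _).mp hn,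
        by rw [map_mul, map_mul, map_inv]⟩
    set a : N ⧸ Q.subgroupOf N := ((z : W) : N ⧸ Q.subgroupOf N) with ha
    have hap : orderOf a = p := by rw [ha, Subgroup.orderOf_coe, Subgroup.orderOf_coe, hz]
    set b := Y * a * Y⁻¹ with hb
    have hbW : b ∈ W := hYW a (z : W).2
    have hab : a * b = b * a :=
      congrArg Subtype.val (Subgroup.mem_center_iff.mp z.2 ⟨b, hbW⟩).symm
    have hfix : Y * (a * b) * Y⁻¹ = a * b := by
      have : Y * (a * b) * Y⁻¹ = b * a := by
        rw [hb, hYi]
        simp only [mul_assoc, hYY, mul_one]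
      rw [this, hab]
    have key : ∀ c ∈ W, orderOf c = p → ¬ (Y * c * Y⁻¹ * c = 1 ∨ Y * c * Y⁻¹ * c⁻¹ = 1) := by
      rintro _ ⟨n, hn, rfl⟩ hc hor
      have hnQ : (n : G) ∉ Q := fun h' => by
        rw [show φ n = 1 from (QuotientGroup.eq_one_iff n).mpr h', orderOf_one] at hc
        exact (Fact.out : p.Prime).one_lt.ne hc
      have hnp : (n : G) ^ p ∈ Q := by
        have : φ (n ^ p) = 1 := by rw [map_pow, ← hc]; exact pow_orderOf_eq_one _
        exact (QuotientGroup.eq_one_iff (n ^ p)).mp this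
      obtain ⟨h1, h2⟩ := h n n.2 hnQ hnp
      rcases hor with h' | h'
      · refine h1 ((QuotientGroup.eq_one_iff (N := Q.subgroupOf N) (⟨y, hyQ⟩ * n * ⟨y, hyQ⟩⁻¹ * n : N)).mp ?_)
        simp only [QuotientGroup.mk_mul, QuotientGroup.mk_inv]
        exact h'
      · refine h2 ((QuotientGroup.eq_one_iff (N := Q.subgroupOf N) (⟨y, hyQ⟩ * n * ⟨y, hyQ⟩⁻¹ * n⁻¹ : N)).mp ?_)
        simp only [QuotientGroup.mk_mul, QuotientGroup.mk_inv]
        exact h'
    rcases eq_or_ne (a * b) 1 with h1 | h1
    · exact key a (z : W).2 hap (Or.inl (by rw [← hb, ← hab, h1]))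
    · refine key (a * b) (mul_mem (z : W).2 hbW) (orderOf_eq_prime ?_ h1) (Or.inr (by rw [hfix, mul_inv_cancel]))
      have hap' : a ^ p = 1 := hap ▸ pow_orderOf_eq_one a
      rw [Commute.mul_pow (show Commute a b from hab), hb, conj_pow, hap', one_mul, mul_one, mul_inv_cancel]
end Cfsg.Agent.S3981
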