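import Cfsg.Statements.S3982
import Cfsg.Agent.Lib.Basics.Tools
import Cfsg.Agent.Lib.Basics.CoprimeAction
import Cfsg.Agent.Lib.FGB.Basic
-- import your own Cfsg.Agent.* helpers here

set_option autoImplicit false
open Cfsg

namespace Cfsg.Agent.S3982

/-- Let p be an odd prime and G a finite group of even order divisible by p in which the centralizer of every non-identity p-element has odd order. If some nontrivial p-subgroup of G has a normalizer of even order, then the normalizer of every Sylow p-subgroup of G has even order. -/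
theorem result {G : Type*} [Group G] [Finite G] (p : ℕ) [Fact p.Prime] (hp2 : p ≠ 2) (hpG : p ∣ Nat.card G) (h2G : 2 ∣ Nat.card G) (hC : ∀ g : G, g ≠ 1 → (∃ k : ℕ, orderOf g = p ^ k) → Odd (Nat.card ↥(Subgroup.centralizer ({g} : Set G)))) (Q : Subgroup G) (hQ : IsPGroup p ↥Q) (hQ1 : Q ≠ ⊥) (hev : Even (Nat.card ↥(Subgroup.normalizer (Q : Set G)))) (P : Sylow p G) : Even (Nat.card ↥(Subgroup.normalizer ((P : Subgroup G) : Set G))) := by
  classical
  have _ := hpG
  have _ := h2G
  haveI := Fact.mk Nat.prime_two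
  set N0 := Subgroup.normalizer (Q : Set G)
  obtain ⟨y0, hy0⟩ := exists_prime_orderOf_dvd_card' (G := N0) 2 hev.two_dvd
  set y : G := (y0 : G) with hy
  have hoy : orderOf y = 2 := by rw [hy, Subgroup.orderOf_coe, hy0]
  have hyy : y * y = 1 := by rw [← pow_two, ← hoy]; exact pow_orderOf_eq_one y
  obtain ⟨R, hQR, ⟨hR, hyR⟩, hmax⟩ := Finite.exists_le_maximal
    (p := fun V : Subgroup G => IsPGroup p V ∧ y ∈ Subgroup.normalizer (V : Set G)) (a := Q) ⟨hQ, y0.2⟩
  have hR1 : R ≠ ⊥ := fun h => hQ1 (le_bot_iff.mp (h ▸ hQR))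
  have hfix : ∀ r ∈ R, y * r * y⁻¹ = r → r = 1 := by
    intro r hr hc
    by_contra hne
    obtain ⟨k, hk⟩ := IsPGroup.iff_orderOf.mp hR ⟨r, hr⟩
    rw [Subgroup.orderOf_mk] at hk
    have hyC : y ∈ Subgroup.centralizer ({r} : Set G) :=
      Subgroup.mem_centralizer_singleton_iff.mpr (mul_inv_eq_iff_eq_mul.mp hc)
    have h2 : (2 : ℕ) ∣ Nat.card (Subgroup.centralizer ({r} : Set G)) := by
      rw [← hoy, ← Subgroup.orderOf_mk y hyC]; exact _root_.orderOf_dvd_natCard _
    exact Nat.not_even_iff_odd.mpr (hC r hne ⟨k, hk⟩) (even_iff_two_dvd.mpr h2)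
  let ψ : R →* R := MonoidHom.mk' (fun r => ⟨y * r * y⁻¹, (Subgroup.mem_normalizer_iff.mp hyR r).mp r.2⟩)
    (fun a b => Subtype.ext (by show y * ((a : G) * b) * y⁻¹ = (y * a * y⁻¹) * (y * b * y⁻¹); group))
  have hinv : ∀ r ∈ R, y * r * y⁻¹ = r⁻¹ := by
    intro r hr
    have h := MonoidHom.FixedPointFree.coe_eq_inv_of_involutive (φ := ψ)
      (fun z hz => Subtype.ext (hfix z z.2 (congrArg Subtype.val hz)))
      (fun z => Subtype.ext (by
        show y * (y * (z : G) * y⁻¹) * y⁻¹ = z
        calc _ = (y * y) * z * (y * y)⁻¹ := by group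
          _ = z := by rw [hyy]; group))
    exact congrArg Subtype.val (congrFun h ⟨r, hr⟩)
  have hRab : ∀ a ∈ R, ∀ b ∈ R, a * b = b * a := by
    intro a ha b hb
    have h := hinv _ (mul_mem ha hb)
    rw [show y * (a * b) * y⁻¹ = (y * a * y⁻¹) * (y * b * y⁻¹) by group, hinv a ha, hinv b hb, mul_inv_rev] at h
    have := congrArg (fun t => b * a * t * a * b) h
    simpa [mul_assoc] using this
  set C := Subgroup.centralizer (R : Set G) with hCdef
  have hRC : R ≤ C := fun a ha => Subgroup.mem_centralizer_iff.mpr fun b hb => hRab b hb a ha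
  have hCodd : Odd (Nat.card C) := by
    obtain ⟨r, hr, hr1⟩ := (Subgroup.bot_or_exists_ne_one R).resolve_left hR1
    obtain ⟨k, hk⟩ := IsPGroup.iff_orderOf.mp hR ⟨r, hr⟩
    rw [Subgroup.orderOf_mk] at hk
    exact (hC r hr1 ⟨k, hk⟩).of_dvd_nat (Subgroup.card_dvd_of_le (Subgroup.centralizer_le (by simpa using hr)))
  obtain ⟨P1, hP1⟩ := hR.exists_le_sylow
  have hRP : (P1 : Subgroup G) = R := by
    by_contra hne
    haveI : Group.IsNilpotent (P1 : Subgroup G) := P1.2.isNilpotent
    have hlt : R.subgroupOf (P1 : Subgroup G) < ⊤ := lt_top_iff_ne_top.mpr (by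
      rw [Ne, Subgroup.subgroupOf_eq_top]; exact fun h => hne (le_antisymm h hP1))
    obtain ⟨x0, hx0, hx0R⟩ := SetLike.exists_of_lt (Group.normalizerCondition_of_isNilpotent _ hlt)
    set x : G := (x0 : G) with hxdef
    have hxR : x ∈ Subgroup.normalizer (R : Set G) := by
      rw [Subgroup.mem_normalizer_iff]
      intro q
      constructor
      · intro hq
        exact (Subgroup.mem_normalizer_iff.mp hx0 ⟨q, hP1 hq⟩).mp hq
      · intro hq
        have hqP : q ∈ (P1 : Subgroup G) := by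
          have := mul_mem (mul_mem (inv_mem x0.2) (hP1 hq)) x0.2
          simpa [hxdef, mul_assoc] using this
        exact (Subgroup.mem_normalizer_iff.mp hx0 ⟨q, hqP⟩).mpr hq
    have hnC : ∀ n ∈ Subgroup.normalizer (R : Set G), ∀ c ∈ C, n * c * n⁻¹ ∈ C := by
      intro n hn c hc
      rw [hCdef, Subgroup.mem_centralizer_iff]
      intro r hr
      have hr' : n⁻¹ * r * n ∈ R := by
        simpa using (Subgroup.mem_normalizer_iff.mp (inv_mem hn) r).mp hr
      have h1 := Subgroup.mem_centralizer_iff.mp hc _ hr'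
      calc r * (n * c * n⁻¹) = n * ((n⁻¹ * r * n) * c) * n⁻¹ := by group
        _ = n * (c * (n⁻¹ * r * n)) * n⁻¹ := by rw [h1]
        _ = (n * c * n⁻¹) * r := by group
    have hNC : Subgroup.normalizer (R : Set G) ≤ Subgroup.normalizer (C : Set G) := fun n hn => by
      rw [Subgroup.mem_normalizer_iff]
      refine fun c => ⟨hnC n hn c, fun h => ?_⟩
      simpa [mul_assoc] using hnC n⁻¹ (inv_mem hn) _ h
    set X := Subgroup.zpowers x with hX
    have hXC : X ≤ Subgroup.normalizer (C : Set G) := Subgroup.zpowers_le.mpr (hNC hxR)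
    set M := C ⊔ X with hM
    have hMN : M ≤ Subgroup.normalizer (R : Set G) :=
      sup_le (Subgroup.centralizer_le_normalizer _) (Subgroup.zpowers_le.mpr hxR)
    have hcomm : y * x * y⁻¹ * x⁻¹ ∈ C := by
      rw [hCdef, Subgroup.mem_centralizer_iff]
      intro r hr
      have hxr : x⁻¹ * r * x ∈ R := by
        simpa using (Subgroup.mem_normalizer_iff.mp (inv_mem hxR) r).mp hr
      have h1 : y * x * y⁻¹ * x⁻¹ * r * (y * x * y⁻¹ * x⁻¹)⁻¹ = r := by
        have hyi : y⁻¹ = y := inv_eq_of_mul_eq_one_right hyy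
        calc y * x * y⁻¹ * x⁻¹ * r * (y * x * y⁻¹ * x⁻¹)⁻¹
            = y * (x * (y⁻¹ * (x⁻¹ * r * x) * y) * x⁻¹) * y⁻¹ := by group
          _ = r := by
            rw [show y⁻¹ * (x⁻¹ * r * x) * y = (x⁻¹ * r * x)⁻¹ by
              nth_rewrite 1 [hyi]; nth_rewrite 2 [← hyi]; exact hinv _ hxr]
            rw [show x * (x⁻¹ * r * x)⁻¹ * x⁻¹ = r⁻¹ by group, hinv _ (inv_mem hr), inv_inv]
      exact (mul_inv_eq_iff_eq_mul.mp h1).symm
    have hyC : y ∈ Subgroup.normalizer (C : Set G) := hNC hyR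
    have hMmem : ∀ m ∈ M, y * m * y⁻¹ ∈ M := by
      have : M ≤ M.comap (MulAut.conj y).toMonoidHom := by
        refine sup_le (fun c hc => Subgroup.mem_sup_left ((Subgroup.mem_normalizer_iff.mp hyC c).mp hc))
          (Subgroup.zpowers_le.mpr ?_)
        show y * x * y⁻¹ ∈ M
        have := mul_mem (Subgroup.mem_sup_left (T := X) hcomm) (Subgroup.mem_sup_right (S := C) (Subgroup.mem_zpowers x))
        rwa [inv_mul_cancel_right] at this
      exact fun m hm => this hm
    have hyM : Subgroup.zpowers y ≤ Subgroup.normalizer (M : Set G) := by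
      rw [Subgroup.zpowers_le, Subgroup.mem_normalizer_iff]
      refine fun m => ⟨hMmem m, fun h => ?_⟩
      have := hMmem _ h
      rwa [show y * (y * m * y⁻¹) * y⁻¹ = (y * y) * m * (y * y)⁻¹ by group, hyy, one_mul, inv_one, mul_one] at this
    have hModd : Odd (Nat.card M) := by
      have h := Basics.card_mul_card_eq_card_sup_mul_card_inf hXC
      refine Odd.of_dvd_nat ?_ (Dvd.intro _ h.symm)
      refine hCodd.mul ?_
      obtain ⟨k, hk⟩ := IsPGroup.iff_orderOf.mp P1.2 x0
      rw [hX, Nat.card_zpowers, hxdef, Subgroup.orderOf_coe, hk]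
      exact ((Fact.out : p.Prime).odd_of_ne_two hp2).pow
    have hcop : (Nat.card (Subgroup.zpowers y)).Coprime (Nat.card M) := by
      rw [Nat.card_zpowers, hoy]; exact hModd.coprime_two_left
    obtain ⟨S, hS, hRS, hyS⟩ := Basics.exists_invariant_isSylowIn_ge (Subgroup.zpowers y) M hyM hcop
      (Or.inl inferInstance) p R (hRC.trans le_sup_left) hR (Subgroup.zpowers_le.mpr hyR)
    have hSR : S = R := le_antisymm (hmax ⟨hS.isPGroup, hyS (Subgroup.mem_zpowers y)⟩ hRS) hRS
    apply hx0R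
    have hU : IsPGroup p (R ⊔ X : Subgroup G) :=
      P1.2.to_le (sup_le hP1 (Subgroup.zpowers_le.mpr x0.2))
    have hle := FGB.card_le_pow_factorization hU (sup_le (hRC.trans le_sup_left) le_sup_right : R ⊔ X ≤ M)
    rw [← hS.2, hSR] at hle
    rw [Subgroup.mem_subgroupOf]
    exact (Subgroup.eq_of_le_of_card_ge le_sup_left hle).ge (Subgroup.mem_sup_right (Subgroup.mem_zpowers x))
  have hyP : y ∈ Subgroup.normalizer ((P1 : Subgroup G) : Set G) := by rw [hRP]; exact hyR
  obtain ⟨g, hg⟩ := MulAction.exists_smul_eq G P1 P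
  have hcard : (Subgroup.normalizer ((P : Subgroup G) : Set G)).index =
      (Subgroup.normalizer ((P1 : Subgroup G) : Set G)).index := by
    exact (Sylow.card_eq_index_normalizer P).symm.trans (Sylow.card_eq_index_normalizer P1)
  have h1 := Subgroup.card_mul_index (Subgroup.normalizer ((P : Subgroup G) : Set G))
  have h2 := Subgroup.card_mul_index (Subgroup.normalizer ((P1 : Subgroup G) : Set G))
  rw [hcard, ← h2] at h1
  rw [Nat.eq_of_mul_eq_mul_right (Nat.pos_of_ne_zero Subgroup.index_ne_zero_of_finite) h1,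
    even_iff_two_dvd, ← hoy, ← Subgroup.orderOf_mk y hyP]
  exact _root_.orderOf_dvd_natCard _
end Cfsg.Agent.S3982
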