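import Cfsg.Statements.S3983


set_option autoImplicit false
open scoped Pointwise
open Cfsg

namespace Cfsg.Agent.S3983

/-- Let P be a Sylow p-subgroup of the finite group G that meets each conjugate g P g⁻¹ with g outside N_G(P) trivially, and let U be a subgroup of G of order divisible by p. Then a Sylow p-subgroup Q of U has the same property inside U: Q meets each conjugate u Q u⁻¹ with u ∈ U outside N_U(Q) trivially. -/
theorem result {G : Type*} [Group G] [Finite G] (p : ℕ) [Fact p.Prime] (P : Sylow p G) (hTI : ∀ g : G, g ∉ Subgroup.normalizer ((P : Subgroup G) : Set G) → (P : Subgroup G) ⊓ (MulAut.conj g • (P : Subgroup G)) = ⊥) (U : Subgroup G) (hU : p ∣ Nat.card ↥U) (Q : Sylow p ↥U) : ∀ u : ↥U, u ∉ Subgroup.normalizer ((Q : Subgroup ↥U) : Set ↥U) → (Q : Subgroup ↥U) ⊓ (MulAut.conj u • (Q : Subgroup ↥U)) = ⊥ := by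
  intro u hu
  obtain ⟨g, hg⟩ : ∃ g : G, (Q : Subgroup U).map U.subtype ≤ MulAut.conj g • (P : Subgroup G) := by
    obtain ⟨R, hR⟩ := (Q.isPGroup'.map U.subtype).exists_le_sylow
    obtain ⟨g, hg⟩ := MulAction.exists_smul_eq G P R
    exact ⟨g, hR.trans (le_of_eq (by rw [← hg]; rfl))⟩
  have hTI' : ∀ h : G, (MulAut.conj g • (P : Subgroup G)) ⊓
      (MulAut.conj h • MulAut.conj g • (P : Subgroup G)) ≠ ⊥ →
      MulAut.conj h • MulAut.conj g • (P : Subgroup G) = MulAut.conj g • (P : Subgroup G) := by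
    intro h hne
    have e : MulAut.conj h • MulAut.conj g • (P : Subgroup G) =
        MulAut.conj g • MulAut.conj (g⁻¹ * h * g) • (P : Subgroup G) := by
      simp only [smul_smul, ← map_mul]; congr 2; group
    by_contra hcon
    rw [e] at hne hcon
    refine hne ?_
    rw [← Subgroup.smul_inf, hTI _ (fun hn => hcon (congrArg _ ?_)), Subgroup.smul_bot]
    ext y
    rw [Subgroup.mem_pointwise_smul_iff_inv_smul_mem]
    simpa [mul_assoc] using ((Subgroup.mem_normalizer_iff.mp (inv_mem hn)) y).symm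
  by_contra hne
  apply hu
  set R := MulAut.conj g • (P : Subgroup G) with hR
  have hmap : (MulAut.conj u • (Q : Subgroup U)).map U.subtype ≤ MulAut.conj (u : G) • R := by
    rintro _ ⟨x, hx, rfl⟩
    replace hx : (MulAut.conj u)⁻¹ • x ∈ (Q : Subgroup U) :=
      Subgroup.mem_pointwise_smul_iff_inv_smul_mem.mp hx
    rw [Subgroup.mem_pointwise_smul_iff_inv_smul_mem]
    have := hg (Subgroup.mem_map_of_mem U.subtype hx)
    simpa using this
  have hRR : MulAut.conj (u : G) • R = R := by
    refine hTI' _ fun h0 => hne ?_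
    rw [eq_bot_iff]
    intro x hx
    have h1 : (x : G) ∈ R ⊓ MulAut.conj (u : G) • R :=
      ⟨hg (Subgroup.mem_map_of_mem _ hx.1), hmap (Subgroup.mem_map_of_mem _ hx.2)⟩
    rw [hR, h0, Subgroup.mem_bot] at h1
    exact Subgroup.mem_bot.mpr (Subtype.ext h1)
  -- `Q` is the whole of `R` inside `U`
  have hQR : R.subgroupOf U = (Q : Subgroup U) := Q.3
    ((P.isPGroup'.map (MulAut.conj g).toMonoidHom).comap_of_injective U.subtype U.subtype_injective)
    fun x hx => hg (Subgroup.mem_map_of_mem U.subtype hx)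
  rw [Subgroup.mem_normalizer_iff]
  intro x
  have h2 : ∀ y : U, y ∈ (Q : Subgroup U) ↔ (y : G) ∈ R := fun y => by rw [← hQR]; rfl
  rw [h2, h2]
  conv_rhs => rw [← hRR, Subgroup.mem_pointwise_smul_iff_inv_smul_mem]
  simp [mul_assoc]

end Cfsg.Agent.S3983
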