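import Cfsg.Statements.S3984


set_option autoImplicit false
open scoped Pointwise
open Cfsg

namespace Cfsg.Agent.S3984

/-- Let P be a Sylow p-subgroup of the finite group G that meets each conjugate g P g⁻¹ with g outside N_G(P) trivially, and let N be a normal subgroup of G of order prime to p. Then every Sylow p-subgroup Q of G ⧸ N meets each conjugate x Q x⁻¹ with x outside its normalizer trivially. -/
theorem result {G : Type*} [Group G] [Finite G] (p : ℕ) [Fact p.Prime] (P : Sylow p G) (hTI : ∀ g : G, g ∉ Subgroup.normalizer ((P : Subgroup G) : Set G) → (P : Subgroup G) ⊓ (MulAut.conj g • (P : Subgroup G)) = ⊥) (N : Subgroup G) [N.Normal] (hN : (Nat.card ↥N).Coprime p) (Q : Sylow p (G ⧸ N)) : ∀ x : G ⧸ N, x ∉ Subgroup.normalizer ((Q : Subgroup (G ⧸ N)) : Set (G ⧸ N)) → (Q : Subgroup (G ⧸ N)) ⊓ (MulAut.conj x • (Q : Subgroup (G ⧸ N))) = ⊥ := by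
  intro x hx
  have hnorm : ∀ k : G, k ∈ Subgroup.normalizer ((P : Subgroup G) : Set G) →
      MulAut.conj k • (P : Subgroup G) = P := fun k hk => by
    ext y
    rw [Subgroup.mem_pointwise_smul_iff_inv_smul_mem]
    simpa [mul_assoc] using ((Subgroup.mem_normalizer_iff.mp (inv_mem hk)) y).symm
  set π := QuotientGroup.mk' N
  obtain ⟨g₀, hg₀⟩ := MulAction.exists_smul_eq (G ⧸ N)
    (P.mapSurjective (QuotientGroup.mk'_surjective N)) Q
  obtain ⟨g, rfl⟩ := QuotientGroup.mk_surjective g₀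
  set R := MulAut.conj g • (P : Subgroup G) with hR
  have hQ : (Q : Subgroup (G ⧸ N)) = R.map π := by
    rw [← hg₀, Sylow.coe_subgroup_smul, Sylow.coe_mapSurjective, hR]
    ext y
    rw [Subgroup.mem_pointwise_smul_iff_inv_smul_mem, Subgroup.mem_map, Subgroup.mem_map]
    constructor
    · rintro ⟨z, hz, hzy⟩
      refine ⟨g * z * g⁻¹, by simpa [Subgroup.mem_pointwise_smul_iff_inv_smul_mem, mul_assoc], ?_⟩
      have h1 : π z = (QuotientGroup.mk g : G ⧸ N)⁻¹ * y * QuotientGroup.mk g := by simpa [π] using hzy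
      show π (g * z * g⁻¹) = y
      rw [map_mul, map_mul, map_inv, h1]
      show (QuotientGroup.mk g : G ⧸ N) * ((QuotientGroup.mk g : G ⧸ N)⁻¹ * y * QuotientGroup.mk g) * (QuotientGroup.mk g : G ⧸ N)⁻¹ = y
      group
    · rintro ⟨z, hz, rfl⟩
      refine ⟨g⁻¹ * z * g, by simpa [Subgroup.mem_pointwise_smul_iff_inv_smul_mem] using hz, ?_⟩
      simp [π, mul_assoc]
  have hRP : IsPGroup p R := P.isPGroup'.map (MulAut.conj g).toMonoidHom
  obtain ⟨h, rfl⟩ := QuotientGroup.mk_surjective x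
  by_contra hne
  apply hx
  obtain ⟨⟨y, hyQ⟩, hy1⟩ := (Subgroup.bot_or_exists_ne_one _).resolve_left hne |>.elim
    fun y hy => (⟨⟨y, hy.1⟩, hy.2⟩ : ∃ y : ↥((Q : Subgroup (G ⧸ N)) ⊓
      (MulAut.conj (QuotientGroup.mk h : G ⧸ N) • (Q : Subgroup (G ⧸ N)))), (y : G ⧸ N) ≠ 1)
  obtain ⟨hy, hy'⟩ := hyQ
  rw [hQ] at hy hy'
  obtain ⟨a, ha, rfl⟩ := hy
  replace hy' := Subgroup.mem_pointwise_smul_iff_inv_smul_mem.mp hy'
  obtain ⟨b, hb, hab⟩ := hy'
  have hab' : π (h * b * h⁻¹) = π a := by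
    rw [map_mul, map_mul, map_inv, hab]
    simp [π, mul_assoc]
  set b' := h * b * h⁻¹ with hb'
  have hb'R : b' ∈ MulAut.conj h • R := by
    simpa [hb', Subgroup.mem_pointwise_smul_iff_inv_smul_mem, mul_assoc] using hb
  -- both `a` and `b'` generate Sylow subgroups of the preimage of their image
  set L := (Subgroup.zpowers (π a)).comap π with hL
  have hinj : ∀ c ∈ R, π c = 1 → c = 1 := by
    intro c hc h1
    obtain ⟨k, hk⟩ := hRP ⟨c, hc⟩
    have hcN : c ∈ N := (QuotientGroup.eq_one_iff c).mp h1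
    refine orderOf_eq_one_iff.mp (Nat.eq_one_of_dvd_coprimes (hN.pow_right k) ?_
      (orderOf_dvd_of_pow_eq_one (congrArg Subtype.val hk)))
    rw [← Subgroup.orderOf_mk c hcN]; exact orderOf_dvd_natCard _
  have hpT : ∀ T : Subgroup G, IsPGroup p T → T ≤ L → Nat.card T = Nat.card (Subgroup.zpowers (π a)) →
      ∃ S : Sylow p L, (S : Subgroup L) = T.subgroupOf L := by
    intro T hT hTL hcard
    have hidx : ¬ p ∣ (T.subgroupOf L).index := by
      have h1 := Subgroup.card_mul_index (T.subgroupOf L)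
      rw [Nat.card_congr (Subgroup.subgroupOfEquivOfLe hTL).toEquiv, hcard] at h1
      have h2 : Nat.card L = Nat.card (Subgroup.zpowers (π a)) * Nat.card N := by
        have h3 := Subgroup.card_mul_index L
        rw [hL, Subgroup.index_comap_of_surjective _ (QuotientGroup.mk'_surjective N)] at h3
        rw [N.card_eq_card_quotient_mul_card_subgroup, ← Subgroup.card_mul_index (Subgroup.zpowers (π a))] at h3
        refine Nat.eq_of_mul_eq_mul_right (Nat.pos_of_ne_zero (Subgroup.zpowers (π a)).index_ne_zero_of_finite) ?_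
        rw [h3]; ring
      rw [h2] at h1
      rw [Nat.eq_of_mul_eq_mul_left Nat.card_pos h1]
      exact (Fact.out : p.Prime).coprime_iff_not_dvd.mp hN.symm
    exact ⟨(hT.comap_of_injective L.subtype L.subtype_injective).toSylow hidx, rfl⟩
  have hcz : ∀ c : G, IsPGroup p (Subgroup.zpowers c) → π c = π a →
      (∀ d ∈ Subgroup.zpowers c, π d = 1 → d = 1) →
      ∃ S : Sylow p L, (S : Subgroup L) = (Subgroup.zpowers c).subgroupOf L := by
    intro c hc hca hci
    refine hpT _ hc (Subgroup.zpowers_le.mpr (by rw [hL, Subgroup.mem_comap, hca]; exact Subgroup.mem_zpowers _)) ?_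
    rw [← hca, ← MonoidHom.map_zpowers]
    refine Nat.card_congr ((Equiv.ofInjective (fun d : Subgroup.zpowers c => π d) fun d e hde => ?_).trans
      (Equiv.setCongr (by ext z; simp [Subgroup.mem_zpowers_iff])))
    refine Subtype.ext (inv_mul_eq_one.mp (hci _ (mul_mem (inv_mem d.2) e.2) ?_))
    rw [map_mul, map_inv, show π d = π e from hde, inv_mul_cancel]
  obtain ⟨S₁, hS₁⟩ := hcz a (hRP.to_le (Subgroup.zpowers_le.mpr ha)) rfl
    (fun d hd => hinj d ((Subgroup.zpowers_le.mpr ha) hd))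
  obtain ⟨S₂, hS₂⟩ := hcz b' ((hRP.map (MulAut.conj h).toMonoidHom).to_le (Subgroup.zpowers_le.mpr hb'R)) hab'
    (fun d hd h1 => by
      have hd' := (Subgroup.zpowers_le.mpr hb'R) hd
      rw [Subgroup.mem_pointwise_smul_iff_inv_smul_mem] at hd'
      have := hinj _ hd' (by simp [π] at h1 ⊢; rw [(QuotientGroup.eq_one_iff d).mpr h1]; group)
      exact inv_mul_eq_one.mp (by simpa [mul_assoc] using congrArg (fun t => h * t * h⁻¹) this) )
  obtain ⟨l, hl⟩ := MulAction.exists_smul_eq L S₁ S₂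
  -- hence the conjugates of `R` meet
  have hb'l : b' ∈ MulAut.conj (l : G) • R := by
    have hm : (⟨b', by rw [hL, Subgroup.mem_comap, hab']; exact Subgroup.mem_zpowers _⟩ : L) ∈ (S₂ : Subgroup L) := by
      rw [hS₂]; exact Subgroup.mem_zpowers b'
    rw [← hl, Sylow.coe_subgroup_smul, Subgroup.mem_pointwise_smul_iff_inv_smul_mem, hS₁] at hm
    rw [Subgroup.mem_pointwise_smul_iff_inv_smul_mem]
    have := (Subgroup.zpowers_le.mpr ha) hm
    simpa using this
  have hTIR : ∀ k m : G, ∀ z, z ∈ MulAut.conj k • R → z ∈ MulAut.conj m • R → z ≠ 1 →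
      MulAut.conj k • R = MulAut.conj m • R := by
    intro k m z hzk hzm hz1
    simp only [hR, smul_smul, ← map_mul] at hzk hzm ⊢
    by_contra hcon
    have hnot : (k * g)⁻¹ * (m * g) ∉ Subgroup.normalizer ((P : Subgroup G) : Set G) := fun hn => hcon (by
      have h3 := congrArg (MulAut.conj (k * g) • ·) (hnorm _ hn)
      simp only [smul_smul, ← map_mul, mul_inv_cancel_left] at h3
      exact h3.symm)
    have h4 := hTI _ hnot
    have h5 : z ∈ (MulAut.conj (k * g)) • ((P : Subgroup G) ⊓ (MulAut.conj ((k * g)⁻¹ * (m * g)) • (P : Subgroup G))) := by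
      rw [Subgroup.smul_inf]
      refine ⟨hzk, ?_⟩
      rw [smul_smul, ← map_mul, mul_inv_cancel_left]
      exact hzm
    rw [h4, Subgroup.smul_bot, Subgroup.mem_bot] at h5
    exact hz1 h5
  have hb'1 : b' ≠ 1 := fun h1 => hy1 (show π a = 1 by rw [← hab', h1, map_one])
  have heq := hTIR h l b' hb'R hb'l hb'1
  -- so `h` normalises the image
  have hl' : π l ∈ Subgroup.normalizer ((Q : Subgroup (G ⧸ N)) : Set (G ⧸ N)) := by
    have hle : Subgroup.zpowers (π a) ≤ (Q : Subgroup (G ⧸ N)) := by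
      rw [hQ, Subgroup.zpowers_le]; exact Subgroup.mem_map_of_mem π ha
    exact Subgroup.le_normalizer (hle l.2)
  rw [Subgroup.mem_normalizer_iff] at hl' ⊢
  intro z
  have key : ∀ w : G, (Q : Subgroup (G ⧸ N)).map (MulAut.conj (π w)).toMonoidHom = (MulAut.conj w • R).map π := by
    intro w
    rw [hQ, Subgroup.map_map, show MulAut.conj w • R = R.map (MulAut.conj w).toMonoidHom from rfl,
      Subgroup.map_map]
    congr 1
  have hk : ∀ w : G, (π w * z * (π w)⁻¹ ∈ (Q : Subgroup (G ⧸ N)).map (MulAut.conj (π w)).toMonoidHom) ↔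
      z ∈ (Q : Subgroup (G ⧸ N)) := fun w => by
    constructor
    · rintro ⟨c, hc, hcz⟩
      have : c = z := by simpa using hcz
      exact this ▸ hc
    · intro hz
      exact ⟨z, hz, rfl⟩
  have hQl : (Q : Subgroup (G ⧸ N)).map (MulAut.conj (π h)).toMonoidHom = (Q : Subgroup (G ⧸ N)) := by
    rw [key, heq, ← key]
    ext c
    constructor
    · rintro ⟨d, hd, rfl⟩; exact (hl' d).mp hd
    · intro hc
      refine ⟨(π l)⁻¹ * c * π l, ?_, by simp [mul_assoc]⟩
      rw [SetLike.mem_coe, hl']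
      simpa [mul_assoc] using hc
  rw [← hk h, hQl]
  exact Iff.rfl

end Cfsg.Agent.S3984
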