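import Cfsg.Statements.S3985
import Cfsg.Agent.Lib.FGB.CyclicPowers
import Cfsg.Agent.Lib.Transfer.Fusion
-- import your own Cfsg.Agent.* helpers here

set_option autoImplicit false
open scoped Pointwise
open Cfsg

namespace Cfsg.Agent.S3985

/-- Let P be a cyclic Sylow p-subgroup of the finite group G. Then P meets each conjugate g P g⁻¹ with g outside N_G(P) trivially if and only if P is weakly self-centralizing: C_G(x) = C_G(P) for every non-identity x ∈ P. -/
theorem result {G : Type*} [Group G] [Finite G] (p : ℕ) [Fact p.Prime] (P : Sylow p G) (hcyc : IsCyclic ↥(P : Subgroup G)) : (∀ g : G, g ∉ Subgroup.normalizer ((P : Subgroup G) : Set G) → (P : Subgroup G) ⊓ (MulAut.conj g • (P : Subgroup G)) = ⊥) ↔ ∀ x : G, x ∈ (P : Subgroup G) → x ≠ 1 → Subgroup.centralizer ({x} : Set G) = Subgroup.centralizer ((P : Subgroup G) : Set G) := by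
  classical
  constructor
  · intro hTI x hx hx1
    refine le_antisymm (fun g hg => ?_) (Subgroup.centralizer_le fun z hz => by
      rw [Set.mem_singleton_iff] at hz; exact hz ▸ hx)
    obtain ⟨⟨c, hcP⟩, hc⟩ := IsCyclic.exists_generator (α := (P : Subgroup G))
    have hgx := Subgroup.mem_centralizer_singleton_iff.mp hg
    have hgN : g ∈ Subgroup.normalizer ((P : Subgroup G) : Set G) := by
      by_contra hgN
      refine hx1 ((Subgroup.eq_bot_iff_forall _).mp (hTI g hgN) x ⟨hx, ?_⟩)
      refine Subgroup.mem_pointwise_smul_iff_inv_smul_mem.mpr ?_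
      have : (MulAut.conj g)⁻¹ • x = x := by
        rw [inv_smul_eq_iff]
        show x = g * x * g⁻¹
        rw [hgx, mul_inv_cancel_right]
      rw [this]; exact hx
    have hmemc : ∀ z ∈ (P : Subgroup G), z ∈ Subgroup.zpowers c := fun z hz => by
      obtain ⟨i, hi⟩ := Subgroup.mem_zpowers_iff.mp (hc ⟨z, hz⟩)
      exact Subgroup.mem_zpowers_iff.mpr ⟨i, congrArg Subtype.val hi⟩
    obtain ⟨a, b, ha, hb, hab, hak, hbc⟩ := Cfsg.Agent.Transfer.exists_pPart_mul (p := p) g
    have haN : a ∈ Subgroup.normalizer ((P : Subgroup G) : Set G) := Subgroup.zpowers_le.mpr hgN ha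
    have hbN : b ∈ Subgroup.normalizer ((P : Subgroup G) : Set G) := Subgroup.zpowers_le.mpr hgN hb
    have haP : a ∈ (P : Subgroup G) := by
      obtain ⟨j, hj⟩ := hak
      have hpa : IsPGroup p (Subgroup.zpowers a) :=
        IsPGroup.of_card_dvd_pow (n := j) (by rwa [Nat.card_zpowers])
      have hsup : Subgroup.zpowers a ⊔ (P : Subgroup G) = (P : Subgroup G) :=
        P.3 (IsPGroup.to_sup_of_normal_right' hpa P.2 (Subgroup.zpowers_le.mpr haN)) le_sup_right
      exact hsup.le (Subgroup.mem_sup_left (Subgroup.mem_zpowers a))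
    obtain ⟨k, hk⟩ := IsPGroup.iff_orderOf.mp P.2 ⟨c, hcP⟩
    rw [Subgroup.orderOf_mk] at hk
    have hbfix : b * x * b⁻¹ = x := by
      have h1 : b ∈ Subgroup.centralizer ({x} : Set G) := Subgroup.zpowers_le.mpr hg hb
      rw [Subgroup.mem_centralizer_singleton_iff.mp h1, mul_inv_cancel_right]
    have hbc' : b * c * b⁻¹ = c :=
      Cfsg.Agent.FGB.commute_of_fix_ne_one c b (hk ▸ pow_orderOf_eq_one c) hbc
        (hmemc _ ((Subgroup.mem_normalizer_iff.mp hbN c).mp hcP)) (hmemc x hx) hx1 hbfix
    rw [Subgroup.mem_centralizer_iff]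
    intro z hz
    obtain ⟨i, rfl⟩ := Subgroup.mem_zpowers_iff.mp (hmemc z hz)
    obtain ⟨j, rfl⟩ := Subgroup.mem_zpowers_iff.mp (hmemc a haP)
    rw [← hab]
    exact (((Commute.refl c).zpow_zpow i j).mul_right
      ((show Commute c b from (mul_inv_eq_iff_eq_mul.mp hbc').symm).zpow_left i)).eq
  · intro h g hg
    rw [Subgroup.eq_bot_iff_forall]
    rintro x ⟨hx, hxg⟩
    by_contra hx1
    haveI := hcyc
    have hle : MulAut.conj g • (P : Subgroup G) ≤ Subgroup.centralizer ({x} : Set G) := by
      intro y hy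
      rw [Subgroup.mem_pointwise_smul_iff_inv_smul_mem] at hy
      replace hxg := Subgroup.mem_pointwise_smul_iff_inv_smul_mem.mp hxg
      rw [Subgroup.mem_centralizer_singleton_iff]
      have hcomm : ((MulAut.conj g)⁻¹ • y) * ((MulAut.conj g)⁻¹ • x) =
          ((MulAut.conj g)⁻¹ • x) * ((MulAut.conj g)⁻¹ • y) :=
        congrArg Subtype.val (IsCyclic.commutative.is_comm.comm (⟨_, hy⟩ : (P : Subgroup G)) ⟨_, hxg⟩)
      rw [← smul_mul', ← smul_mul'] at hcomm
      exact MulAction.injective _ hcomm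
    rw [h x hx hx1] at hle
    apply hg
    have hsup : MulAut.conj g • (P : Subgroup G) ⊔ (P : Subgroup G) = (P : Subgroup G) := by
      refine P.3 (IsPGroup.to_sup_of_normal_right' ?_ P.2 (hle.trans (Subgroup.centralizer_le_normalizer _)))
        le_sup_right
      exact P.2.map (MulAut.conj g).toMonoidHom
    have heq : MulAut.conj g • (P : Subgroup G) = P := Subgroup.eq_of_le_of_card_ge
      (le_sup_left.trans hsup.le) (Subgroup.card_map_of_injective (MulAut.conj g).injective).ge
    rw [Subgroup.mem_normalizer_iff]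
    intro z
    conv_rhs => rw [← heq, Subgroup.mem_pointwise_smul_iff_inv_smul_mem]
    simp [mul_assoc]

end Cfsg.Agent.S3985
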