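import Cfsg.Statements.S3986
import Mathlib
-- import your own Cfsg.Agent.* helpers here

set_option autoImplicit false
open Cfsg

namespace Cfsg.Agent.S3986

/-- Let p be a prime and G a finite group. Then some Sylow p-subgroup of G is a direct factor of G (it is normal and has a normal complement) if and only if every element of p-power order commutes with every element whose order is a power of a prime other than p. -/
theorem result {G : Type*} [Group G] [Finite G] (p : ℕ) [Fact p.Prime] : (∃ (P : Sylow p G) (K : Subgroup G), (P : Subgroup G).Normal ∧ K.Normal ∧ (P : Subgroup G) ⊓ K = ⊥ ∧ (P : Subgroup G) ⊔ K = ⊤) ↔ ∀ x y : G, (∃ a : ℕ, orderOf x = p ^ a) → (∃ q b : ℕ, q.Prime ∧ q ≠ p ∧ orderOf y = q ^ b) → x * y = y * x := by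
  classical
  have hp : p.Prime := Fact.out
  constructor
  · rintro ⟨P, K, hPn, hKn, hinf, hsup⟩ x y ⟨a, hx⟩ ⟨q, b, hq, hqp, hy⟩
    have hC : P.1.IsComplement' K :=
      Subgroup.isComplement'_of_disjoint_and_mul_eq_univ (disjoint_iff.mpr hinf)
        (by rw [← Subgroup.coe_top, ← hsup]; exact (Subgroup.mul_normal P.1 K).symm)
    have hxP : x ∈ (P : Subgroup G) := by
      obtain ⟨R, hR⟩ := (IsPGroup.of_card (p := p) (n := a) (G := Subgroup.zpowers x)
        (by rw [Nat.card_zpowers, hx])).exists_le_sylow
      haveI := Sylow.unique_of_normal P hPn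
      rw [Subsingleton.elim P R]; exact hR (Subgroup.mem_zpowers x)
    have hyK : y ∈ K := by
      obtain ⟨n, hn⟩ := P.2.exists_card_eq
      have hidx : K.index = p ^ n := hn ▸ hC.index_eq_card
      rw [← QuotientGroup.eq_one_iff, ← orderOf_eq_one_iff]
      refine Nat.eq_one_of_dvd_coprimes
        (Nat.Coprime.pow b n ((Nat.coprime_primes hq hp).mpr hqp)) ?_ ?_
      · rw [← hy]; exact orderOf_map_dvd (QuotientGroup.mk' K) y
      · rw [← hidx, Subgroup.index_eq_card]; exact orderOf_dvd_natCard _
    exact Subgroup.commute_of_normal_of_disjoint _ _ hPn hKn (disjoint_iff.mpr hinf) x y hxP hyK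
  · intro h
    obtain ⟨P⟩ : Nonempty (Sylow p G) := inferInstance
    set C := Subgroup.centralizer ((P : Subgroup G) : Set G) with hCdef
    have hQC : ∀ q : ℕ, q.Prime → q ≠ p → ¬ q ∣ C.index := by
      intro q hq hqp hd
      haveI := Fact.mk hq
      obtain ⟨Q⟩ : Nonempty (Sylow q G) := inferInstance
      refine Q.not_dvd_index (hd.trans (Subgroup.index_dvd_of_le fun y hy => ?_))
      rw [hCdef, Subgroup.mem_centralizer_iff]
      intro x hx
      obtain ⟨a, ha⟩ := (IsPGroup.iff_orderOf.mp P.2) ⟨x, hx⟩
      obtain ⟨b, hb⟩ := (IsPGroup.iff_orderOf.mp Q.2) ⟨y, hy⟩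
      exact h x y ⟨a, by rw [← ha, Subgroup.orderOf_mk]⟩
        ⟨q, b, hq, hqp, by rw [← hb, Subgroup.orderOf_mk]⟩
    have hPn : (P : Subgroup G).Normal := by
      rw [← Subgroup.normalizer_eq_top_iff, ← Subgroup.index_eq_one]
      by_contra hne
      obtain ⟨q, hq, hd⟩ := Nat.exists_prime_and_dvd hne
      by_cases hqp : q = p
      · subst hqp
        exact P.not_dvd_index (hd.trans (Subgroup.index_dvd_of_le Subgroup.le_normalizer))
      · exact hQC q hq hqp (hd.trans (Subgroup.index_dvd_of_le
          (Subgroup.centralizer_le_normalizer _)))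
    haveI := hPn
    obtain ⟨K, hK⟩ := Subgroup.exists_right_complement'_of_coprime (N := (P : Subgroup G))
      P.card_coprime_index
    have hsup := hK.sup_eq_top
    refine ⟨P, K, hPn, ?_, hK.disjoint.eq_bot, hsup⟩
    haveI : C.Normal := Subgroup.normal_centralizer
    have hKC : K ≤ C := by
      intro k hk
      rw [← QuotientGroup.eq_one_iff, ← orderOf_eq_one_iff]
      by_contra hne
      obtain ⟨q, hq, hd⟩ := Nat.exists_prime_and_dvd hne
      have hqC : q ∣ C.index := by
        rw [Subgroup.index_eq_card]; exact hd.trans (orderOf_dvd_natCard _)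
      have hqp : q = p := by
        by_contra hqp; exact hQC q hq hqp hqC
      subst hqp
      refine P.not_dvd_index (hd.trans ((orderOf_map_dvd (QuotientGroup.mk' C) k).trans ?_))
      rw [← Subgroup.orderOf_mk k hk, hK.symm.index_eq_card]
      exact orderOf_dvd_natCard _
    rw [← Subgroup.normalizer_eq_top_iff, ← top_le_iff, ← hsup, sup_le_iff]
    refine ⟨fun x hx => ?_, Subgroup.le_normalizer⟩
    rw [Subgroup.mem_normalizer_iff]
    intro n
    have hc : ∀ m ∈ K, x * m * x⁻¹ = m := fun m hm => by
      rw [Subgroup.mem_centralizer_iff.mp (hKC hm) x hx, mul_inv_cancel_right]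
    refine ⟨fun hn => by rw [hc n hn]; exact hn, fun hn => ?_⟩
    have h1 := hc _ hn
    have h2 : x * n * x⁻¹ = n := by
      have := congrArg (fun t => x⁻¹ * t * x) h1
      simpa [mul_assoc] using this
    rwa [h2] at hn

end Cfsg.Agent.S3986
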