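import Cfsg.Statements.S3987
import Cfsg.Agent.Lib.FGB.Basic
import Cfsg.Agent.Lib.FGB.OrderType
-- import your own Cfsg.Agent.* helpers here

set_option autoImplicit false
open Cfsg

namespace Cfsg.Agent.S3987

/-- Let p be a prime and G a finite group. Then some Sylow p-subgroup of G is a direct factor of G (normal with a normal complement) if and only if for every element x of p-power order and every element y whose order is a power of a prime other than p, the conjugacy class of x y has as many elements as the product of the sizes of the classes of x and of y. -/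
theorem result {G : Type*} [Group G] [Finite G] (p : ℕ) [Fact p.Prime] : (∃ (P : Sylow p G) (K : Subgroup G), (P : Subgroup G).Normal ∧ K.Normal ∧ (P : Subgroup G) ⊓ K = ⊥ ∧ (P : Subgroup G) ⊔ K = ⊤) ↔ ∀ x y : G, (∃ a : ℕ, orderOf x = p ^ a) → (∃ q b : ℕ, q.Prime ∧ q ≠ p ∧ orderOf y = q ^ b) → (Subgroup.centralizer ({x * y} : Set G)).index = (Subgroup.centralizer ({x} : Set G)).index * (Subgroup.centralizer ({y} : Set G)).index := by
  classical
  have hp : p.Prime := Fact.out
  have hcomm : ∀ (x y : G), (Subgroup.centralizer ({x * y} : Set G)).index =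
      (Subgroup.centralizer ({x} : Set G)).index * (Subgroup.centralizer ({y} : Set G)).index → x * y = y * x := by
    intro x y h
    set A := Subgroup.centralizer ({x} : Set G)
    set B := Subgroup.centralizer ({y} : Set G)
    have hle : A ⊓ B ≤ Subgroup.centralizer ({x * y} : Set G) := fun g hg =>
      Subgroup.mem_centralizer_singleton_iff.mpr
        ((show Commute g x from Subgroup.mem_centralizer_singleton_iff.mp hg.1).mul_right
          (Subgroup.mem_centralizer_singleton_iff.mp hg.2 : Commute g y)).eq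
    have hd := Subgroup.index_dvd_of_le hle
    have heq : (A ⊓ B).index = (Subgroup.centralizer ({x * y} : Set G)).index :=
      le_antisymm ((Subgroup.index_inf_le).trans h.ge)
        (Nat.le_of_dvd (Nat.pos_of_ne_zero Subgroup.index_ne_zero_of_finite) hd)
    have e : A ⊓ B = Subgroup.centralizer ({x * y} : Set G) := by
      refine Subgroup.eq_of_le_of_card_ge hle ?_
      have h1 := Subgroup.card_mul_index (A ⊓ B)
      have h2 := Subgroup.card_mul_index (Subgroup.centralizer ({x * y} : Set G))
      rw [heq, ← h2] at h1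
      exact (Nat.eq_of_mul_eq_mul_right (Nat.pos_of_ne_zero Subgroup.index_ne_zero_of_finite) h1).ge
    have h1 : x * y ∈ A := (e ▸ FGB.mem_centralizer_singleton_self (x * y) : x * y ∈ A ⊓ B).1
    have h2 := Subgroup.mem_centralizer_singleton_iff.mp h1
    exact (mul_left_cancel (a := x) (by simpa [mul_assoc] using h2)).symm
  constructor
  · rintro ⟨P, K, hPn, hKn, hinf, hsup⟩ x y ⟨a, hx⟩ ⟨q, b, hq, hqp, hy⟩
    haveI := hPn
    haveI := hKn
    have hPK : ∀ u ∈ (P : Subgroup G), ∀ v ∈ K, Commute u v := fun u hu v hv =>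
      Subgroup.commute_of_normal_of_disjoint _ _ hPn hKn (disjoint_iff.mpr hinf) u v hu hv
    have hcomp : ((P : Subgroup G)).IsComplement' K :=
      Subgroup.isComplement'_of_disjoint_and_mul_eq_univ (disjoint_iff.mpr hinf) (by
        rw [← Subgroup.normal_mul, hsup]; rfl)
    have hxP : x ∈ (P : Subgroup G) := by
      rw [FGB.mem_normal_sylow_iff, ← orderOf_dvd_iff_pow_eq_one, hx, P.card_eq_multiplicity]
      exact pow_dvd_pow p ((hp.pow_dvd_iff_le_factorization Nat.card_pos.ne').mp (hx ▸ _root_.orderOf_dvd_natCard x))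
    have hyK : y ∈ K := by
      rw [← QuotientGroup.eq_one_iff, ← orderOf_eq_one_iff]
      refine Nat.eq_one_of_dvd_coprimes ?_ ((orderOf_map_dvd (QuotientGroup.mk' K) y).trans (dvd_of_eq hy))
        (_root_.orderOf_dvd_natCard _)
      rw [← Subgroup.index_eq_card, hcomp.index_eq_card, P.card_eq_multiplicity]
      exact Nat.Coprime.pow _ _ ((Nat.coprime_primes hq hp).mpr hqp)
    have hcop : (orderOf x).Coprime (orderOf y) := by
      rw [hx, hy]; exact Nat.Coprime.pow _ _ ((Nat.coprime_primes hp hq).mpr (Ne.symm hqp))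
    rw [FGB.centralizer_mul_of_coprime (hPK x hxP y hyK) hcop]
    set A := Subgroup.centralizer ({x} : Set G) with hA
    set B := Subgroup.centralizer ({y} : Set G) with hB
    refine le_antisymm Subgroup.index_inf_le ?_
    rw [← Subgroup.relIndex_mul_index (inf_le_right : A ⊓ B ≤ B), Subgroup.inf_relIndex_right]
    refine Nat.mul_le_mul_right _ ?_
    rw [Subgroup.relIndex, Subgroup.index_eq_card, Subgroup.index_eq_card]
    refine Nat.card_le_card_of_surjective (Quotient.map' (fun z : B => (z : G)) fun u v huv => ?_) ?_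
    · rw [QuotientGroup.leftRel_apply] at huv ⊢
      simpa [Subgroup.mem_subgroupOf] using huv
    · intro z
      induction z using QuotientGroup.induction_on with
      | H g =>
        obtain ⟨⟨⟨u, hu⟩, ⟨v, hv⟩⟩, huv, -⟩ := hcomp.existsUnique g
        refine ⟨Quotient.mk'' ⟨u, Subgroup.mem_centralizer_singleton_iff.mpr (hPK u hu y hyK).eq⟩, ?_⟩
        refine QuotientGroup.eq.mpr ?_
        rw [← huv, inv_mul_cancel_left]
        exact Subgroup.mem_centralizer_singleton_iff.mpr (hPK x hxP v hv).symm.eq
  · intro h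
    obtain ⟨P⟩ : Nonempty (Sylow p G) := inferInstance
    set C := Subgroup.centralizer ((P : Subgroup G) : Set G) with hC
    have hSC : ∀ (q : ℕ), q.Prime → q ≠ p → ∀ S : Subgroup G, IsPGroup q S → S ≤ C := by
      intro q hq hqp S hS s hs
      haveI := Fact.mk hq
      rw [hC, Subgroup.mem_centralizer_iff]
      intro u hu
      obtain ⟨a, ha⟩ := IsPGroup.iff_orderOf.mp P.2 ⟨u, hu⟩
      obtain ⟨b, hb⟩ := IsPGroup.iff_orderOf.mp hS ⟨s, hs⟩
      rw [Subgroup.orderOf_mk] at ha hb
      exact hcomm u s (h u s ⟨a, ha⟩ ⟨q, b, hq, hqp, hb⟩)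
    have hPn : (P : Subgroup G).Normal := by
      rw [← Subgroup.normalizer_eq_top_iff, ← Subgroup.index_eq_one]
      by_contra hne
      obtain ⟨q, hq, hqd⟩ := Nat.exists_prime_and_dvd hne
      haveI := Fact.mk hq
      rcases eq_or_ne q p with rfl | hqp
      · exact P.not_dvd_index (hqd.trans (Subgroup.index_dvd_of_le Subgroup.le_normalizer))
      · obtain ⟨S⟩ : Nonempty (Sylow q G) := inferInstance
        exact S.not_dvd_index (hqd.trans (Subgroup.index_dvd_of_le
          ((hSC q hq hqp _ S.2).trans (Subgroup.centralizer_le_normalizer _))))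
    haveI := hPn
    obtain ⟨K, hK⟩ := Subgroup.exists_right_complement'_of_coprime P.card_coprime_index
    have hKC : K ≤ C := by
      rw [← Subgroup.relIndex_eq_one]
      by_contra hne
      obtain ⟨q, hq, hqd⟩ := Nat.exists_prime_and_dvd hne
      haveI := Fact.mk hq
      have hqp : q ≠ p := fun e => P.not_dvd_index (by
        rw [hK.symm.index_eq_card, ← e]; exact hqd.trans (Subgroup.relIndex_dvd_card _ _))
      obtain ⟨S⟩ : Nonempty (Sylow q K) := inferInstance
      exact S.not_dvd_index (hqd.trans (Subgroup.index_dvd_of_le fun s hs =>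
        hSC q hq hqp _ (S.2.map K.subtype) ⟨s, hs, rfl⟩))
    refine ⟨P, K, hPn, ⟨fun k hk g => ?_⟩, hK.disjoint.eq_bot, hK.sup_eq_top⟩
    obtain ⟨⟨⟨u, hu⟩, ⟨v, hv⟩⟩, huv, -⟩ := hK.existsUnique g
    rw [← huv]
    have h1 : v * k * v⁻¹ ∈ K := mul_mem (mul_mem hv hk) (inv_mem hv)
    show u * v * k * (u * v)⁻¹ ∈ K
    rw [show u * v * k * (u * v)⁻¹ = u * (v * k * v⁻¹) * u⁻¹ by group,
      Subgroup.mem_centralizer_iff.mp (hKC h1) u hu, mul_inv_cancel_right]
    exact h1
end Cfsg.Agent.S3987
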