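import Cfsg.Statements.S3992
import Mathlib
import Cfsg.Agent.Lib.Recog.ThreePrimes
import Cfsg.Agent.Lib.CT.Integral
-- import your own Cfsg.Agent.* helpers here

set_option autoImplicit false
open Cfsg
open scoped Pointwise

namespace Cfsg.Agent.S3992

theorem noPQ {G : Type*} [Group G] (hpp : ∀ g : G, g ≠ 1 → IsPrimePow (orderOf g)) (p q : ℕ)
    (hp : p.Prime) (hq : q.Prime) (hpq : p ≠ q) : ¬ ∃ x : G, orderOf x = p * q := by
  rintro ⟨x, hx⟩
  have h1 : x ≠ 1 := fun h => by
    rw [h, orderOf_one] at hx; exact hp.ne_one (Nat.eq_one_of_mul_eq_one_right hx.symm)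
  obtain ⟨r, k, hr, hk, hrk⟩ := (isPrimePow_nat_iff _).mp (hpp x h1)
  rw [hx] at hrk
  exact hpq (((Nat.prime_dvd_prime_iff_eq hp hr).mp (hp.dvd_of_dvd_pow (hrk ▸ dvd_mul_right p q))).trans
    ((Nat.prime_dvd_prime_iff_eq hq hr).mp (hq.dvd_of_dvd_pow (hrk ▸ dvd_mul_left q p))).symm)

theorem third {G : Type*} [Group G] [Finite G] (hns : ¬ Group.IsSolvable G) {p q : ℕ} (hp : p.Prime)
    (hq : q.Prime) : ∃ r : ℕ, r.Prime ∧ r ∣ Nat.card G ∧ r ≠ p ∧ r ≠ q := by
  by_contra h
  push_neg at h
  apply hns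
  have hn : Nat.card G ≠ 0 := Nat.card_pos.ne'
  have hsub : (Nat.card G).primeFactors ⊆ {p, q} := by
    intro r hr
    rw [Nat.mem_primeFactors] at hr
    rw [Finset.mem_insert, Finset.mem_singleton]
    by_cases hrp : r = p
    · exact Or.inl hrp
    · exact Or.inr (h r hr.1 hr.2.1 hrp)
  have hprod : ∏ t ∈ ({p, q} : Finset ℕ), t ^ (Nat.card G).factorization t = Nat.card G := by
    rw [← Finset.prod_subset hsub (fun t _ ht => by
      rw [← Nat.support_factorization, Finsupp.notMem_support_iff] at ht; rw [ht, pow_zero])]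
    conv_rhs => rw [← Nat.prod_factorization_pow_eq_self hn]
    rw [Finsupp.prod, Nat.support_factorization]
  by_cases hpq : p = q
  · subst hpq
    rw [Finset.insert_eq_of_mem (Finset.mem_singleton_self p), Finset.prod_singleton] at hprod
    exact CT.isSolvable_of_card_two_primes hp hp _ G ((Nat.card G).factorization p) 0 rfl (by rw [pow_zero, mul_one]; exact hprod.symm)
  · rw [Finset.prod_pair hpq] at hprod
    exact CT.isSolvable_of_card_two_primes hp hq _ G _ _ rfl hprod.symm

theorem minimal_simple {Q : Type*} [Group Q] [Finite Q] (hpp : ∀ g : Q, g ≠ 1 → IsPrimePow (orderOf g))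
    (hrad : ∀ N : Subgroup Q, N.Normal → Group.IsSolvable N → N = ⊥)
    (M : Subgroup Q) (hMn : M.Normal) (hM1 : M ≠ ⊥)
    (hmin : ∀ N : Subgroup Q, N.Normal → N ≠ ⊥ → N ≤ M → N = M) :
    M.Normal ∧ IsSimpleGroup ↥M ∧ ¬ IsMulCommutative ↥M ∧
      ∀ N : Subgroup Q, N.Normal → N ≠ ⊥ → M ≤ N := by
  haveI := hMn
  have hMs : ¬ Group.IsSolvable M := fun h => hM1 (hrad M hMn h)
  -- commuting elements have the same prime
  have hcom : ∀ a b : Q, Commute a b → a ≠ 1 → b ≠ 1 → ∀ p q : ℕ, p.Prime → q.Prime →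
      p ∣ orderOf a → q ∣ orderOf b → p = q := by
    intro a b hab _ _ p q hp hq h1 h2
    by_contra hpq
    exact noPQ hpp p q hp hq hpq (Recog.exists_orderOf_mul hp hq hpq hab h1 h2)
  refine ⟨hMn, ?_, ?_, ?_⟩
  · haveI : Nontrivial M := (Subgroup.nontrivial_iff_ne_bot M).mpr hM1
    refine ⟨fun N hN => ?_⟩
    by_contra hcon
    push_neg at hcon
    obtain ⟨hN1, hN2⟩ := hcon
    obtain ⟨S, ⟨hSn, hS1, hSN⟩, hSmin⟩ := Set.Finite.exists_minimal
      (s := {S : Subgroup M | S.Normal ∧ S ≠ ⊥ ∧ S ≤ N}) (Set.toFinite _) ⟨N, hN, hN1, le_rfl⟩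
    set T := S.map M.subtype with hT
    have hTM : T ≤ M := Subgroup.map_subtype_le S
    have hT1 : T ≠ ⊥ := by rwa [hT, Ne, Subgroup.map_eq_bot_iff_of_injective _ M.subtype_injective]
    have hTne : T ≠ M := by
      intro h
      apply hN2
      apply top_le_iff.mp
      refine le_trans ?_ hSN
      intro x _
      have : (x : Q) ∈ T := h.symm ▸ x.2
      obtain ⟨y, hy, hyx⟩ := this
      exact (Subtype.ext hyx : y = x) ▸ hy
    obtain ⟨g, t, ht, hgt⟩ : ∃ g t, t ∈ T ∧ g * t * g⁻¹ ∉ T := by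
      by_contra hc; push_neg at hc
      exact hTne (hmin T ⟨fun t ht g => hc g t ht⟩ hT1 hTM)
    set φ : M ≃* M := MulAut.conjNormal g with hφ
    set S' := S.map φ.toMonoidHom with hS'
    haveI := hSn
    haveI hS'n : S'.Normal := Subgroup.Normal.map hSn φ.toMonoidHom φ.surjective
    have hdis : S ⊓ S' = ⊥ := by
      by_contra hne
      have hle : S ≤ S ⊓ S' := hSmin ⟨inferInstance, hne, inf_le_left.trans hSN⟩ inf_le_left
      have heq : S = S' := Subgroup.eq_of_le_of_card_ge (hle.trans inf_le_right)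
        (le_of_eq (Subgroup.card_map_of_injective φ.injective))
      obtain ⟨y, hy, rfl⟩ := ht
      apply hgt
      have : φ y ∈ S := by rw [heq]; exact ⟨y, hy, rfl⟩
      exact ⟨φ y, this, by simp [hφ]⟩
    have hcomm : ∀ a ∈ S, ∀ b ∈ S', Commute a b := fun a ha b hb =>
      Subgroup.commute_of_normal_of_disjoint S S' hSn hS'n (disjoint_iff.mpr hdis) a b ha hb
    -- S is a p-group
    have h1S : Nat.card S ≠ 1 := fun h => hS1 (Subgroup.card_eq_one.mp h)
    set p := (Nat.card S).minFac
    have hp : p.Prime := Nat.minFac_prime h1S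
    haveI := Fact.mk hp
    have hSp : IsPGroup p S := by
      refine IsPGroup.of_card (n := (Nat.card S).primeFactorsList.length)
        (Nat.eq_prime_pow_of_unique_prime_dvd Nat.card_pos.ne' fun {q} hq hqd => ?_)
      haveI := Fact.mk hq
      obtain ⟨a, ha⟩ := exists_prime_orderOf_dvd_card' p (Nat.minFac_dvd (Nat.card S))
      obtain ⟨b, hb⟩ := exists_prime_orderOf_dvd_card' q (show q ∣ Nat.card S from hqd)
      have hb' : orderOf (φ (b : M)) = q := by
        rw [φ.orderOf_eq, Subgroup.orderOf_coe, hb]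
      have hne : ∀ {x : M} {n : ℕ}, orderOf x = n → n.Prime → (x : Q) ≠ 1 := fun {x n} hx hn h => by
        rw [show x = 1 from Subtype.ext h, orderOf_one] at hx; exact hn.ne_one hx.symm
      exact (hcom ((a : M) : Q) ((φ (b : M) : M) : Q) (congrArg Subtype.val (hcomm a a.2 _ ⟨b, b.2, rfl⟩))
        (hne (by rw [Subgroup.orderOf_coe]; exact ha) hp) (hne hb' hq) p q hp hq
        (by rw [Subgroup.orderOf_coe, Subgroup.orderOf_coe, ha]) (by rw [Subgroup.orderOf_coe, hb'])).symm
    -- so S lies in all Sylow subgroups of M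
    obtain ⟨P⟩ := (inferInstance : Nonempty (Sylow p M))
    have hallP : ∀ U : Subgroup M, U.Normal → IsPGroup p U → U ≤ P := by
      intro U hU hUp
      haveI := hU
      obtain ⟨P', hP'⟩ := hUp.exists_le_sylow
      obtain ⟨m, hm⟩ := MulAction.exists_smul_eq M P' P
      intro u hu
      rw [← hm]
      change u ∈ (MulAut.conj m) • (P' : Subgroup M)
      rw [Subgroup.mem_pointwise_smul_iff_inv_smul_mem]
      apply hP'
      simpa [MulAut.smul_def] using hU.conj_mem u hu m⁻¹
    set C := Subgroup.normalClosure (T : Set Q) with hC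
    have hCM : C ≤ M := Subgroup.normalClosure_le_normal hTM
    have hC1 : C ≠ ⊥ := fun h => hT1 (le_bot_iff.mp (h ▸ Subgroup.le_normalClosure))
    have hCP : C ≤ (P : Subgroup M).map M.subtype := by
      rw [hC, Subgroup.normalClosure, Subgroup.closure_le]
      intro x hx
      rw [Group.mem_conjugatesOfSet_iff] at hx
      obtain ⟨a, ha, hax⟩ := hx
      obtain ⟨c, rfl⟩ := isConj_iff.mp hax
      obtain ⟨y, hy, rfl⟩ := ha
      refine ⟨MulAut.conjNormal c y, hallP (S.map (MulAut.conjNormal c : M ≃* M).toMonoidHom) ?_ ?_ ⟨y, hy, rfl⟩, by simp⟩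
      · exact Subgroup.Normal.map hSn _ (MulAut.conjNormal c : M ≃* M).surjective
      · exact hSp.map _
    have hMeq : C = M := hmin C inferInstance hC1 hCM
    apply hMs
    have hMP : M ≤ (P : Subgroup M).map M.subtype := le_trans (le_of_eq hMeq.symm) hCP
    have hpg : IsPGroup p M := (P.2.map M.subtype).to_le hMP
    haveI := hpg.isNilpotent
    infer_instance
  · intro h
    exact hMs (Group.isSolvable_of_comm fun a b => h.is_comm.comm a b)
  · intro N hN hN1
    haveI := hN
    by_contra hle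
    have hinf : N ⊓ M = ⊥ := by
      by_contra hne
      exact hle ((hmin (N ⊓ M) inferInstance hne inf_le_right) ▸ inf_le_left)
    obtain ⟨p, hp, q, hq, hpq⟩ : ∃ p, p ∈ (Nat.card M).primeFactors ∧ ∃ q, q ∈ (Nat.card M).primeFactors ∧ p ≠ q := by
      have h1 : 1 < (Nat.card M).primeFactors.card := by
        by_contra hc
        have hM : Nat.card M ≠ 1 := fun h => hM1 (Subgroup.card_eq_one.mp h)
        obtain ⟨r, hr, hrd, hne, -⟩ := third hMs (Nat.minFac_prime hM) (Nat.minFac_prime hM)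
        exact hc (Finset.one_lt_card.mpr ⟨r, Nat.mem_primeFactors.mpr ⟨hr, hrd, Nat.card_pos.ne'⟩, _,
          Nat.mem_primeFactors.mpr ⟨Nat.minFac_prime hM, Nat.minFac_dvd _, Nat.card_pos.ne'⟩, hne⟩)
      obtain ⟨p, hp, q, hq, hpq⟩ := Finset.one_lt_card.mp h1
      exact ⟨p, hp, q, hq, hpq⟩
    obtain ⟨n, hn, hn1⟩ := (N.bot_or_exists_ne_one).resolve_left hN1
    obtain ⟨r, hr, hrd⟩ := Nat.exists_prime_and_dvd (show orderOf n ≠ 1 from fun h => hn1 (orderOf_eq_one_iff.mp h))
    have aux : ∀ t ∈ (Nat.card M).primeFactors, t = r := by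
      intro t ht
      rw [Nat.mem_primeFactors] at ht
      haveI := Fact.mk ht.1
      obtain ⟨m, hm⟩ := exists_prime_orderOf_dvd_card' t ht.2.1
      refine (hcom n (m : Q) (Subgroup.commute_of_normal_of_disjoint N M hN hMn (disjoint_iff.mpr hinf) n m hn m.2)
        hn1 (fun h => ?_) r t hr ht.1 hrd (by rw [Subgroup.orderOf_coe, hm])).symm
      rw [show m = 1 from Subtype.ext h, orderOf_one] at hm
      exact ht.1.ne_one hm.symm
    exact hpq ((aux p hp).trans (aux q hq).symm)

/-- Let G be a finite non-solvable group in which every element has prime-power order, and let R be its largest solvable normal subgroup. Then R is a p-group for some prime p; G/R has a non-abelian simple normal subgroup contained in every nontrivial normal subgroup of G/R (its unique minimal normal subgroup); and the order of every solvable subgroup of G has at most two prime divisors. -/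
theorem result {G : Type*} [Group G] [Finite G] (hns : ¬ Group.IsSolvable G) (hpp : ∀ g : G, g ≠ 1 → IsPrimePow (orderOf g))
    (R : Subgroup G) [R.Normal] (hRs : Group.IsSolvable ↥R) (hRmax : ∀ N : Subgroup G, N.Normal → Group.IsSolvable ↥N → N ≤ R) :
    (∃ p : ℕ, p.Prime ∧ IsPGroup p ↥R) ∧
      (∃ M : Subgroup (G ⧸ R), M.Normal ∧ IsSimpleGroup ↥M ∧ ¬ IsMulCommutative ↥M ∧
        ∀ N : Subgroup (G ⧸ R), N.Normal → N ≠ ⊥ → M ≤ N) ∧
      ∀ H : Subgroup G, Group.IsSolvable ↥H → (Nat.card ↥H).primeFactors.card ≤ 2 := by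

  haveI hRs' := hRs
  have hppR := noPQ hpp
  have hns' : ¬ Group.IsSolvable (G ⧸ R) := fun h => hns (by
    haveI := h
    exact solvable_of_ker_le_range R.subtype (QuotientGroup.mk' R) (by rw [QuotientGroup.ker_mk', Subgroup.range_subtype]))
  -- quotient properties
  have hppQ : ∀ g : G ⧸ R, g ≠ 1 → IsPrimePow (orderOf g) := by
    intro g hg
    induction g using QuotientGroup.induction_on with
    | _ x =>
      exact (hpp x fun h => hg (by rw [h]; rfl)).dvd (orderOf_map_dvd (QuotientGroup.mk' R) x)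
        (fun h => hg (orderOf_eq_one_iff.mp h))
  have hrad : ∀ N : Subgroup (G ⧸ R), N.Normal → Group.IsSolvable N → N = ⊥ := by
    intro N hN hNs
    have hle : R ≤ N.comap (QuotientGroup.mk' R) := fun x hx => by
      rw [Subgroup.mem_comap, QuotientGroup.mk'_apply, (QuotientGroup.eq_one_iff x).mpr hx]
      exact one_mem N
    haveI := hNs
    have hsol : Group.IsSolvable (N.comap (QuotientGroup.mk' R)) :=
      solvable_of_ker_le_range (Subgroup.inclusion hle)
        (((QuotientGroup.mk' R).comp (N.comap (QuotientGroup.mk' R)).subtype).codRestrict N fun x => x.2)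
        (fun x hx => by
          have h1 := congrArg Subtype.val hx
          exact ⟨⟨x.1, (QuotientGroup.eq_one_iff _).mp h1⟩, Subtype.ext rfl⟩)
    haveI := hN
    have := hRmax (N.comap (QuotientGroup.mk' R)) inferInstance hsol
    rw [eq_bot_iff]
    intro y hy
    induction y using QuotientGroup.induction_on with
    | _ x => rw [Subgroup.mem_bot]; exact (QuotientGroup.eq_one_iff x).mpr (this hy)
  refine ⟨?_, ?_, ?_⟩
  · -- R is a p-group
    by_cases h1 : Nat.card R = 1
    · exact ⟨2, Nat.prime_two, IsPGroup.of_card (n := 0) (by rw [h1, pow_zero])⟩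
    set p := (Nat.card R).minFac
    have hp : p.Prime := Nat.minFac_prime h1
    refine ⟨p, hp, IsPGroup.of_card (n := (Nat.card R).primeFactorsList.length) ?_⟩
    refine Nat.eq_prime_pow_of_unique_prime_dvd Nat.card_pos.ne' fun {q} hq hqd => ?_
    by_contra hne
    obtain ⟨r, hr, hrd, hr1, hr2⟩ := third hns hp hq
    exact Recog.eq_of_dvd_solvable (K := R) hRs hp hq hr (Ne.symm hne) (Ne.symm hr1) (Ne.symm hr2)
      (Nat.minFac_dvd _) hqd hrd (hppR p q hp hq (Ne.symm hne)) (hppR p r hp hr (Ne.symm hr1))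
      (hppR q r hq hr (Ne.symm hr2))
  · -- the socle
    have hQ : Nontrivial (G ⧸ R) := by
      rcases subsingleton_or_nontrivial (G ⧸ R) with h | h
      · exact absurd (Group.isSolvable_of_comm fun a b => Subsingleton.elim _ _) hns'
      · exact h
    obtain ⟨M, ⟨hMn, hM1⟩, hMmin⟩ := Set.Finite.exists_minimal (s := {N : Subgroup (G ⧸ R) | N.Normal ∧ N ≠ ⊥})
      (Set.toFinite _) ⟨⊤, inferInstance, top_ne_bot⟩
    exact ⟨M, minimal_simple hppQ hrad M hMn hM1 fun N hN hN1 hle => le_antisymm hle (hMmin ⟨hN, hN1⟩ hle)⟩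
  · intro H hH
    by_contra hc
    push_neg at hc
    obtain ⟨p, hp, q, hq, r, hr, hpq, hpr, hqr⟩ := Finset.two_lt_card.mp hc
    rw [Nat.mem_primeFactors] at hp hq hr
    have hppH : ∀ g : H, g ≠ 1 → IsPrimePow (orderOf g) := fun g hg => by
      rw [← Subgroup.orderOf_coe]; exact hpp g (fun h => hg (Subtype.ext h))
    have hppH' := noPQ hppH
    haveI := hH
    exact Recog.eq_of_dvd_solvable (K := (⊤ : Subgroup H)) inferInstance hp.1 hq.1 hr.1 hpq hpr hqr
      (by rw [Subgroup.card_top]; exact hp.2.1) (by rw [Subgroup.card_top]; exact hq.2.1) hr.2.1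
      (hppH' p q hp.1 hq.1 hpq) (hppH' p r hp.1 hr.1 hpr) (hppH' q r hq.1 hr.1 hqr)

end Cfsg.Agent.S3992
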