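import Cfsg.Statements.S3994
import Cfsg.Agent.Lib.FGB.FrobeniusTheorem
-- import your own Cfsg.Agent.* helpers here

set_option autoImplicit false
open Cfsg

namespace Cfsg.Agent.S3994

/-- Let G be a finite group and n a positive integer. The number of elements of G whose order is divisible by n is either 0 or divisible by the largest divisor of the order of G that is coprime to n. -/
theorem result {G : Type*} [Group G] [Finite G] (n : ℕ) (hn : 0 < n) :
    Nat.card {g : G // n ∣ orderOf g} = 0 ∨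
      (Nat.card G / Nat.gcd (Nat.card G) (n ^ Nat.card G)) ∣ Nat.card {g : G // n ∣ orderOf g} := by
  classical
  right
  set N := Nat.card G with hN
  set t := Nat.gcd N (n ^ N) with ht
  set s := N / t with hs
  have hts : t * s = N := Nat.mul_div_cancel' (Nat.gcd_dvd_left _ _)
  have hns : n.Coprime s := by
    refine Nat.coprime_of_dvd fun q hq hqn hqs => ?_
    have h1 : q ^ N.factorization q ∣ t := by
      refine Nat.dvd_gcd (Nat.ordProj_dvd N q) ?_
      refine (pow_dvd_pow q ?_).trans (pow_dvd_pow_of_dvd hqn N)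
      exact (Nat.lt_pow_self hq.one_lt).le.trans (Nat.le_of_dvd Nat.card_pos (Nat.ordProj_dvd N q))
    refine Nat.pow_succ_factorization_not_dvd (Nat.card_pos (α := G)).ne' hq ?_
    rw [pow_succ]
    exact (mul_dvd_mul h1 hqs).trans (dvd_of_eq hts)
  have hco : t.Coprime s := Nat.Coprime.coprime_dvd_left (Nat.gcd_dvd_right _ _) (hns.pow_left N)
  obtain ⟨e, he1, he2⟩ := Nat.chineseRemainder hco 1 0
  have hes : s ∣ e := Nat.modEq_zero_iff_dvd.mp he2
  have hsplit : ∀ g : G, (g ^ e) ^ t = 1 ∧ ((g ^ e)⁻¹ * g) ^ s = 1 := by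
    intro g
    have hg : g ^ N = 1 := pow_card_eq_one'
    constructor
    · obtain ⟨c, hc⟩ := hes
      rw [← pow_mul, hc, show s * c * t = (t * s) * c by ring, hts, pow_mul, hg, one_pow]
    · rw [((Commute.pow_self g e).inv_left).mul_pow, inv_pow, ← pow_mul]
      have h : g ^ (e * s) = g ^ s := by
        refine pow_eq_pow_iff_modEq.mpr (((Nat.ModEq.mul_right' s he1).trans (by rw [one_mul])).of_dvd ?_)
        rw [hts]; exact orderOf_dvd_natCard g
      rw [h, inv_mul_cancel]
  have hord : ∀ y z : G, Commute y z → y ^ t = 1 → z ^ s = 1 → (n ∣ orderOf (y * z) ↔ n ∣ orderOf y) := by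
    intro y z hc hy hz
    have h1 : (orderOf y).Coprime (orderOf z) :=
      Nat.Coprime.coprime_dvd_left (orderOf_dvd_of_pow_eq_one hy)
        (Nat.Coprime.coprime_dvd_right (orderOf_dvd_of_pow_eq_one hz) hco)
    rw [hc.orderOf_mul_eq_mul_orderOf_of_coprime h1]
    exact ⟨fun h => (Nat.Coprime.coprime_dvd_right (orderOf_dvd_of_pow_eq_one hz) hns).dvd_of_dvd_mul_right h,
      fun h => h.mul_right _⟩
  set Y : G → Prop := fun y => y ^ t = 1 ∧ n ∣ orderOf y
  have key : Nat.card {g : G // n ∣ orderOf g} =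
      Nat.card (Σ y : {y : G // Y y}, {z : G // Commute y.1 z ∧ z ^ s = 1}) := by
    refine Nat.card_congr
      { toFun := fun g => ⟨⟨g.1 ^ e, (hsplit g.1).1, ?_⟩, ⟨(g.1 ^ e)⁻¹ * g.1, ?_, (hsplit g.1).2⟩⟩
        invFun := fun w => ⟨w.1.1 * w.2.1, (hord _ _ w.2.2.1 w.1.2.1 w.2.2.2).mpr w.1.2.2⟩
        left_inv := fun g => Subtype.ext (mul_inv_cancel_left _ _)
        right_inv := ?_ }
    · refine (hord _ _ ?_ (hsplit g.1).1 (hsplit g.1).2).mp (by rw [mul_inv_cancel_left]; exact g.2)
      exact ((Commute.refl _).inv_right).mul_right (Commute.pow_self g.1 e)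
    · exact ((Commute.refl _).inv_right).mul_right (Commute.pow_self g.1 e)
    · rintro ⟨⟨y, hy1, hy2⟩, ⟨z, hz1, hz2⟩⟩
      have hye : (y * z) ^ e = y := by
        rw [hz1.mul_pow]
        obtain ⟨c, hc⟩ := hes
        rw [show z ^ e = 1 by rw [hc, pow_mul, hz2, one_pow], mul_one]
        calc y ^ e = y ^ 1 := pow_eq_pow_iff_modEq.mpr (he1.of_dvd (orderOf_dvd_of_pow_eq_one hy1))
          _ = y := pow_one y
      refine Sigma.subtype_ext (Subtype.ext hye) ?_
      show ((y * z) ^ e)⁻¹ * (y * z) = z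
      rw [hye, inv_mul_cancel_left]
  rw [key]
  refine FGB.dvd_card_sigma_roots (Dvd.intro_left t hts) Y ?_ fun y _ => ?_
  · intro c y hy
    refine ⟨by rw [conj_pow, hy.1]; group, ?_⟩
    have := orderOf_injective (MulAut.conj c).toMonoidHom (MulAut.conj c).injective y
    exact this.symm ▸ hy.2
  · rw [FGB.card_commuting_roots]
    exact FGB.gcd_dvd_card_roots s
end Cfsg.Agent.S3994
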