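import Cfsg.Statements.S3995
import Mathlib
import Cfsg.Agent.Lib.FGB.OrderClasses
import Cfsg.Agent.Lib.InvChar.OneSubgroup
-- import your own Cfsg.Agent.* helpers here

set_option autoImplicit false
open Cfsg

namespace Cfsg.Agent.S3995

/-- Let G be a finite group such that the numbers of elements of each order that occurs in G (the numbers #{g : o(g) = m}, m ranging over the element orders of G) take exactly two values, 1 and some n ≠ 1. Then either G is a p-group of exponent p and order at least 3 for some prime p, or G is the quaternion group of order 8, or G is cyclic of order 4, or G ≅ Z₂ × P for a p-group P of exponent p with p an odd prime. -/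
theorem result {G : Type*} [Group G] [Finite G] (n : ℕ) (hn : n ≠ 1) (h : ((fun m : ℕ => Nat.card {g : G // orderOf g = m}) '' Set.range (orderOf : G → ℕ)) = {1, n}) :
    (∃ p : ℕ, p.Prime ∧ IsPGroup p G ∧ 3 ≤ Nat.card G ∧ Monoid.exponent G = p) ∨
      Nonempty (G ≃* QuaternionGroup 2) ∨ (IsCyclic G ∧ Nat.card G = 4) ∨
      (∃ (p : ℕ) (P : Type) (_ : Group P) (_ : Finite P), p.Prime ∧ p ≠ 2 ∧ IsPGroup p P ∧ Monoid.exponent P = p ∧
        Nonempty (G ≃* Multiplicative (ZMod 2) × P)) := by

  classical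
  haveI : Fintype G := Fintype.ofFinite G
  have hval : ∀ g : G, FGB.ocount G (orderOf g) = 1 ∨ FGB.ocount G (orderOf g) = n := fun g => by
    have : FGB.ocount G (orderOf g) ∈ ({1, n} : Set ℕ) := h ▸ ⟨orderOf g, ⟨g, rfl⟩, rfl⟩
    exact this
  obtain ⟨_, ⟨g0, rfl⟩, hg0⟩ : n ∈ (fun m : ℕ => Nat.card {g : G // orderOf g = m}) '' Set.range (orderOf : G → ℕ) := h ▸ Or.inr rfl
  change FGB.ocount G (orderOf g0) = n at hg0
  have hg01 : g0 ≠ 1 := fun e => hn (by rw [← hg0, e, orderOf_one, FGB.ocount_one])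
  haveI : Nontrivial G := ⟨⟨g0, 1, hg01⟩⟩
  have hn2 : 2 ≤ n := by
    have : 0 < n := hg0 ▸ (Nat.card_pos_iff.mpr ⟨⟨⟨g0, rfl⟩⟩, inferInstance⟩)
    omega
  have hcard3 : 3 ≤ Nat.card G := by
    have h1 : n < Nat.card G := hg0 ▸ Finite.card_subtype_lt (x := (1 : G)) (by rw [orderOf_one]; exact fun e => hg01 (orderOf_eq_one_iff.mp e.symm))
    omega
  have hbig : ∀ g : G, 3 ≤ orderOf g → FGB.ocount G (orderOf g) = n := fun g hg => (hval g).resolve_left fun e => by
    have h1 := FGB.totient_dvd_ocount (G := G) (orderOf g)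
    rw [e, Nat.dvd_one, Nat.totient_eq_one_iff] at h1
    omega
  rcases Nat.even_or_odd (Nat.card G) with heven | hodd
  swap
  · obtain ⟨p, hp, hexp, hP⟩ := FGB.exponent_prime_of_ocount hodd n inferInstance (fun g hg => hbig g (by
      have h1 : Odd (orderOf g) := hodd.of_dvd_nat (_root_.orderOf_dvd_natCard g)
      have h2 : orderOf g ≠ 1 := fun e => hg (orderOf_eq_one_iff.mp e)
      obtain ⟨c, hc⟩ := h1
      omega))
    exact Or.inl ⟨p, hp, hP, hcard3, hexp⟩
  have h2G : 2 ∣ Nat.card G := even_iff_two_dvd.mp heven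
  haveI : Fact (Nat.Prime 2) := ⟨Nat.prime_two⟩
  obtain ⟨z, hz⟩ := exists_prime_orderOf_dvd_card' 2 h2G
  have hf2 := hval z
  rw [hz] at hf2
  have hpar := FGB.prime_dvd_succ_ocount Nat.prime_two h2G
  rcases hf2 with hf2 | hf2
  swap
  · -- elementary abelian
    rw [hf2] at hpar
    have hsmall : ∀ g : G, g ^ 2 = 1 := fun g => by
      by_contra hg
      have h3 : 3 ≤ orderOf g := by
        have h1 := orderOf_pos g
        have h2 : orderOf g ≠ 1 := fun e => hg (by rw [orderOf_eq_one_iff.mp e, one_pow])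
        have h3 : orderOf g ≠ 2 := fun e => hg (e ▸ pow_orderOf_eq_one g)
        omega
      have h4 := FGB.totient_dvd_ocount (G := G) (orderOf g)
      rw [hbig g h3] at h4
      have h5 := (Nat.totient_even (n := orderOf g) (by omega)).two_dvd.trans h4
      omega
    refine Or.inl ⟨2, Nat.prime_two, fun g => ⟨1, by rw [pow_one]; exact hsmall g⟩, hcard3, ?_⟩
    refine (Nat.prime_two.eq_one_or_self_of_dvd _ (Monoid.exponent_dvd_of_forall_pow_eq_one hsmall)).resolve_left fun e => ?_
    exact hg01 (by rw [← pow_one g0, ← e]; exact Monoid.pow_exponent_eq_one g0)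
  -- a unique involution
  have huniq : ∀ g : G, orderOf g = 2 → g = z := fun g hg => by
    haveI : Subsingleton {g : G // orderOf g = 2} := (Nat.card_eq_one_iff_unique.mp hf2).1
    exact congrArg Subtype.val (Subsingleton.elim (⟨g, hg⟩ : {g : G // orderOf g = 2}) ⟨z, hz⟩)
  have hzc : ∀ g : G, g * z = z * g := fun g => by
    have h1 : orderOf (g * z * g⁻¹) = 2 := (MulEquiv.orderOf_eq (MulAut.conj g) z).trans hz
    calc g * z = g * z * g⁻¹ * g := by group
      _ = z * g := by rw [huniq _ h1]
  have h2part : ∀ g : G, ¬ 8 ∣ orderOf g := by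
    intro g hg
    have ho : orderOf (g ^ (orderOf g / 8)) = 8 := orderOf_pow_orderOf_div (orderOf_pos g).ne' hg
    have ho4 : orderOf (g ^ (orderOf g / 4)) = 4 := orderOf_pow_orderOf_div (orderOf_pos g).ne' ((show 4 ∣ 8 by norm_num).trans hg)
    have h8 : FGB.ocount G 8 = n := ho ▸ hbig _ (by omega)
    have h4 : FGB.ocount G 4 = n := ho4 ▸ hbig _ (by omega)
    have hd := FGB.dvd_sum_ocount (G := G) (hg.trans (_root_.orderOf_dvd_natCard g))
    rw [show Nat.divisors 8 = {1, 2, 4, 8} by decide] at hd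
    simp [FGB.ocount_one, hf2, h4, h8] at hd
    have h48 := FGB.totient_dvd_ocount (G := G) 8
    rw [h8, show Nat.totient 8 = 4 by decide] at h48
    omega
  by_cases h4e : ∃ g : G, 4 ∣ orderOf g
  · -- a 2-group of exponent four
    obtain ⟨g4, hg4⟩ := h4e
    obtain ⟨a, ha⟩ : ∃ a : G, orderOf a = 4 := ⟨_, orderOf_pow_orderOf_div (orderOf_pos g4).ne' hg4⟩
    have h4 : FGB.ocount G 4 = n := ha ▸ hbig _ (by omega)
    have hP : IsPGroup 2 G := by
      refine IsPGroup.of_card (n := (Nat.card G).primeFactorsList.length) (Nat.eq_prime_pow_of_unique_prime_dvd Nat.card_pos.ne' fun {q} hq hqd => ?_)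
      by_contra hq2
      have hq3 : 3 ≤ q := by have := hq.two_le; omega
      haveI := Fact.mk hq
      obtain ⟨x, hx⟩ := exists_prime_orderOf_dvd_card' q hqd
      have hco : (4 : ℕ).Coprime q := by
        rw [Nat.coprime_comm, hq.coprime_iff_not_dvd]
        intro hd
        have := Nat.le_of_dvd two_pos (hq.dvd_of_dvd_pow (n := 2) (show q ∣ 2 ^ 2 from hd))
        omega
      have hcx : Commute z x := (hzc x).symm
      have hfq : FGB.ocount G q = n := hx ▸ hbig _ (by omega)
      have h2q : FGB.ocount G (2 * q) = n := by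
        have h1 : orderOf (z * x) = 2 * q := by
          rw [hcx.orderOf_mul_eq_mul_orderOf_of_coprime (by rw [hz, hx]; exact (Nat.coprime_primes Nat.prime_two hq).mpr (Ne.symm hq2)), hz, hx]
        exact h1 ▸ hbig _ (by omega)
      have hd := FGB.dvd_sum_ocount (G := G) (hco.mul_dvd_of_dvd_of_dvd (ha ▸ _root_.orderOf_dvd_natCard a) hqd)
      rw [FGB.sum_divisors_coprime_mul hco, show Nat.divisors 4 = {1, 2, 4} by decide, hq.divisors] at hd
      simp [Finset.sum_pair hq.one_lt.ne, FGB.ocount_one, hf2, h4, hfq, h2q] at hd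
      have h1 := FGB.prime_dvd_succ_ocount hq hqd
      rw [hfq] at h1
      have hd' := (dvd_mul_left q 4).trans hd
      by_cases h4q : ∃ y : G, orderOf y = 4 * q
      · obtain ⟨y, hy⟩ := h4q
        rw [← hy, hbig y (by omega)] at hd'
        have h6 : q ∣ 2 := by
          obtain ⟨u, hu⟩ := h1
          obtain ⟨v, hv⟩ := hd'
          have : q ∣ 4 * (1 + n) - (1 + n + (1 + n) + (n + n)) := Nat.dvd_sub (dvd_mul_of_dvd_right ⟨u, hu⟩ 4) ⟨v, by omega⟩
          convert this using 1
          omega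
        have := Nat.le_of_dvd two_pos h6
        omega
      · push Not at h4q
        rw [FGB.ocount_eq_zero h4q] at hd'
        have h6 : q ∣ 1 := by
          obtain ⟨u, hu⟩ := h1
          obtain ⟨v, hv⟩ := hd'
          have : q ∣ 3 * (1 + n) - (1 + n + (1 + n) + n) := Nat.dvd_sub (dvd_mul_of_dvd_right ⟨u, hu⟩ 3) ⟨v, by omega⟩
          convert this using 1
          omega
        exact hq.not_dvd_one h6
    have hexp : ∀ g : G, g ^ 4 = 1 := fun g => by
      obtain ⟨k, hk⟩ := IsPGroup.iff_orderOf.mp hP g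
      refine orderOf_dvd_iff_pow_eq_one.mp ?_
      rw [hk, show (4 : ℕ) = 2 ^ 2 by norm_num]
      refine pow_dvd_pow 2 ?_
      by_contra hk3
      exact h2part g (hk ▸ show 2 ^ 3 ∣ 2 ^ k from pow_dvd_pow 2 (by omega))
    rcases InvChar.cyclic_or_quaternion (p := 2) hP (fun H K hH hK => by
        have key : ∀ L : Subgroup G, Nat.card L = 2 → L = Subgroup.zpowers z := fun L hL => by
          symm
          refine Subgroup.eq_of_le_of_card_ge ?_ (by rw [hL, Nat.card_zpowers, hz])
          obtain ⟨x, hx⟩ := exists_prime_orderOf_dvd_card' (G := L) 2 (by rw [hL])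
          rw [Subgroup.zpowers_le, ← huniq x (by rw [Subgroup.orderOf_coe]; exact hx)]
          exact x.2
        rw [key H hH, key K hK]) with hcyc | ⟨-, k, ⟨e⟩⟩
    · refine Or.inr (Or.inr (Or.inl ⟨hcyc, ?_⟩))
      have h1 : Monoid.exponent G ∣ 4 := Monoid.exponent_dvd_of_forall_pow_eq_one hexp
      haveI := hcyc
      rw [IsCyclic.exponent_eq_card] at h1
      exact Nat.dvd_antisymm h1 (ha ▸ _root_.orderOf_dvd_natCard a)
    · have hk1 : k ≤ 1 := by
        have h1 := hexp (e.symm (QuaternionGroup.a 1))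
        rw [← map_pow, MulEquiv.map_eq_one_iff, ← orderOf_dvd_iff_pow_eq_one, QuaternionGroup.orderOf_a_one] at h1
        have h2 : 2 * 2 ^ k ≤ 4 := Nat.le_of_dvd (by norm_num) h1
        by_contra hk
        have := Nat.pow_le_pow_right two_pos (show 2 ≤ k by omega)
        omega
      rcases Nat.le_one_iff_eq_zero_or_eq_one.mp hk1 with rfl | rfl
      · refine Or.inr (Or.inr (Or.inl ?_))
        have hc : Nat.card G = 4 := by
          rw [Nat.card_congr e.toEquiv, pow_zero, Nat.card_eq_fintype_card, QuaternionGroup.card]; rfl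
        exact ⟨isCyclic_of_orderOf_eq_card a (ha.trans hc.symm), hc⟩
      · exact Or.inr (Or.inl ⟨e⟩)
  -- Sylow 2-subgroup of order two
  push Not at h4e
  have h4G : ¬ 4 ∣ Nat.card G := by
    intro h4
    obtain ⟨S⟩ : Nonempty (Sylow 2 G) := inferInstance
    have h1 := Sylow.exists_subgroup_card_pow_prime 2 (n := 2) (G := G) (by rw [show (2 : ℕ) ^ 2 = 4 from rfl]; exact h4)
    obtain ⟨K, hK⟩ := h1
    have hsub : (K : Set G) ⊆ {1, z} := fun g hg => by
      have h2 : orderOf g ∣ 4 := by
        have := Subgroup.card_dvd_of_le (Subgroup.zpowers_le.mpr hg)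
        rw [Nat.card_zpowers, hK] at this
        exact this
      have h3 : orderOf g ≠ 4 := fun e => h4e g (e ▸ dvd_rfl)
      have h5 := Nat.le_of_dvd (by norm_num) h2
      have h6 := orderOf_pos g
      interval_cases hh : orderOf g
      · exact Or.inl (orderOf_eq_one_iff.mp hh)
      · exact Or.inr (huniq g hh)
      · norm_num at h2
      · exact absurd rfl h3
    have h7 := Set.ncard_le_ncard hsub
    rw [← Nat.card_coe_set_eq] at h7
    have h8 := h7.trans ((Set.ncard_insert_le _ _).trans (by rw [Set.ncard_singleton]))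
    change Nat.card K ≤ 2 at h8
    rw [hK] at h8
    norm_num at h8
  set Z := Subgroup.zpowers z with hZ
  haveI : Z.Normal := ⟨fun x hx g => by
    obtain ⟨i, rfl⟩ := hx
    have : Commute g z := hzc g
    show g * z ^ i * g⁻¹ ∈ Z
    rw [(this.zpow_right i).eq, mul_inv_cancel_right]
    exact Subgroup.zpow_mem _ (Subgroup.mem_zpowers z) i⟩
  have hZc : Nat.card Z = 2 := by rw [hZ, Nat.card_zpowers, hz]
  have hidx := Z.card_mul_index
  rw [hZc] at hidx
  have hco : (Nat.card Z).Coprime Z.index := by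
    rw [hZc, Nat.prime_two.coprime_iff_not_dvd]
    intro hd
    exact h4G (hidx ▸ mul_dvd_mul_left 2 hd)
  obtain ⟨P, hP⟩ := Subgroup.exists_right_complement'_of_coprime hco
  have hPodd : Odd (Nat.card P) := by
    rw [hP.symm.index_eq_card.symm] 
    rw [hZc, Nat.prime_two.coprime_iff_not_dvd] at hco
    exact Nat.not_even_iff_odd.mp fun he => hco he.two_dvd
  haveI : P.Normal := Subgroup.normal_of_index_eq_two (by rw [hP.index_eq_card, hZc])
  have hmem : ∀ g : G, Odd (orderOf g) → g ∈ P := fun g hg => by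
    obtain ⟨i, hi⟩ := exists_pow_eq_self_of_coprime (x := g) (n := 2) (Nat.coprime_two_left.mpr hg)
    rw [← hi]
    refine pow_mem ?_ i
    have := Subgroup.pow_index_mem P g
    rwa [hP.index_eq_card, hZc] at this
  haveI : Nontrivial P := by
    rw [← Finite.one_lt_card_iff_nontrivial, ← hP.symm.index_eq_card]
    omega
  obtain ⟨p, hp, hexp, hPp⟩ := FGB.exponent_prime_of_ocount (G := P) hPodd n inferInstance (fun g hg => by
    have h1 : Odd (orderOf g) := hPodd.of_dvd_nat (_root_.orderOf_dvd_natCard g)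
    have h2 : orderOf g ≠ 1 := fun e => hg (orderOf_eq_one_iff.mp e)
    have h3 : orderOf (g : G) = orderOf g := Subgroup.orderOf_coe g
    have h4 := hbig g (by obtain ⟨c, hc⟩ := h1; omega)
    rw [h3] at h4
    rw [← h4]
    refine Nat.card_congr
      { toFun := fun x => ⟨x.1.1, (Subgroup.orderOf_coe x.1).trans x.2⟩
        invFun := fun x => ⟨⟨x.1, hmem _ (x.2.symm ▸ h1)⟩, (Subgroup.orderOf_mk _ _).trans x.2⟩
        left_inv := fun x => rfl
        right_inv := fun x => rfl })
  obtain ⟨c, ⟨e⟩⟩ := Finite.exists_equiv_fin P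
  let φ : P →* Equiv.Perm (Fin c) := e.permCongrHom.toMonoidHom.comp (MulAction.toPermHom P P)
  have hφ : Function.Injective φ := e.permCongrHom.injective.comp MulAction.toPerm_injective
  let e' : P ≃* φ.range := MonoidHom.ofInjective hφ
  refine Or.inr (Or.inr (Or.inr ⟨p, φ.range, inferInstance, inferInstance, hp, ?_, hPp.of_equiv e', ?_, ?_⟩))
  · rintro rfl
    obtain ⟨k, hk⟩ := IsPGroup.iff_card.mp hPp
    rw [hk] at hPodd
    have h1 := (Finite.one_lt_card (α := P))
    rw [hk] at h1
    rcases Nat.eq_zero_or_pos k with rfl | hk0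
    · norm_num at h1
    · exact (Nat.not_even_iff_odd.mpr hPodd) (Nat.even_pow.mpr ⟨even_two, hk0.ne'⟩)
  · rw [← hexp]; exact (Monoid.exponent_eq_of_mulEquiv e').symm
  · have hcomm : ∀ (a : Z) (b : P), Commute (Z.subtype a) (P.subtype b) := fun a b => by
      obtain ⟨i, hi⟩ := a.2
      show Commute (a : G) (b : G)
      rw [← hi]
      exact (show Commute z (b : G) from (hzc b).symm).zpow_left i
    let ψ := MonoidHom.noncommCoprod Z.subtype P.subtype hcomm
    have hψ : Function.Bijective ψ := hP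
    let eZ : Z ≃* Multiplicative (ZMod 2) := mulEquivOfPrimeCardEq (p := 2) hZc (by simp)
    exact ⟨(MulEquiv.ofBijective ψ hψ).symm.trans (MulEquiv.prodCongr eZ e')⟩

end Cfsg.Agent.S3995
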