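import Cfsg.Statements.S3996
import Cfsg.Agent.Lib.FGB.SameOrderSizes
import Cfsg.Agent.Lib.Invol.IndexTwo

set_option autoImplicit false
open Cfsg

namespace Cfsg.Agent.S3996

open Cfsg.Agent.FGB.SameOrd

universe u

variable {G : Type u} [Group G] [Finite G]

theorem four_dvd_totient {m n : ℕ} (hm : 2 < m) (hn : 2 < n) (h : m.Coprime n) :
    4 ∣ (m * n).totient := by
  rw [Nat.totient_mul h]
  exact Nat.mul_dvd_mul (Nat.totient_even hm).two_dvd (Nat.totient_even hn).two_dvd

/-- With a unique involution and elements of order four there is at most one odd prime. -/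
theorem no_order_four (ht : cnt G 2 = 1) {a b : ℕ}
    (hv : ∀ d, 2 < d → cnt G d = 0 ∨ cnt G d = a ∨ cnt G d = b)
    {r q : ℕ} (hr : r.Prime) (hq : q.Prime) (hr2 : r ≠ 2) (hq2 : q ≠ 2) (hrq : r ≠ q)
    (hrG : r ∣ Nat.card G) (hqG : q ∣ Nat.card G) (h4 : cnt G 4 = a) (ha : a ≠ 0) : False := by
  haveI := Fact.mk hr
  haveI := Fact.mk hq
  haveI := Fact.mk Nat.prime_two
  have h4G : 4 ∣ Nat.card G := by
    obtain ⟨x, hx⟩ := cnt_ne_zero_iff.1 (h4 ▸ ha)
    exact hx ▸ orderOf_dvd_natCard x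
  have hd4 : (4 : ℕ).divisors = {1, 2, 4} := by decide
  have ha4 : ¬ 4 ∣ a := by
    have h := dvd_sum_cnt h4G
    rw [hd4, Finset.sum_insert (by decide), Finset.sum_insert (by decide), Finset.sum_singleton,
      cnt_one, ht, h4] at h
    omega
  have h3 : ∀ {x : ℕ}, x.Prime → x ≠ 2 → 2 < x := fun hx hx2 => by have := hx.two_le; omega
  have hco : Nat.Coprime r q := (Nat.coprime_primes hr hq).2 hrq
  have hrq4 : 4 ∣ cnt G (r * q) :=
    (four_dvd_totient (h3 hr hr2) (h3 hq hq2) hco).trans (totient_dvd_cnt _)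
  have hv' : ∀ d, 1 < d → Odd d → cnt G d = 0 ∨ cnt G d = b ∨ cnt G d = a := fun d h1 h2 =>
    (hv d (by rcases h2 with ⟨c, rfl⟩; omega)).imp_right Or.symm
  have hval : ∀ {x : ℕ}, x.Prime → x ≠ 2 → x ∣ Nat.card G → cnt G x = a ∨ cnt G x = b :=
    fun {x} hx hx2 hxG => (hv x (h3 hx hx2)).resolve_left
      (cnt_ne_zero_iff.2 (exists_prime_orderOf_dvd_card' (hp := ⟨hx⟩) x hxG))
  -- some prime has `a` elements
  have hnotboth : ¬ (cnt G r = b ∧ cnt G q = b) := fun h => by
    obtain ⟨h1, -⟩ := pair_same hv' hr hq hr2 hq2 hrq hrG hqG h.1 h.2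
    exact ha4 (h1 ▸ hrq4)
  -- facts for a prime with `a` elements
  have key : ∀ {x : ℕ}, x.Prime → x ≠ 2 → x ∣ Nat.card G → cnt G x = a →
      (a : ZMod x) = -1 ∧ cnt G (4 * x) = b ∧ (b : ZMod x) = 1 := by
    intro x hx hx2 hxG hxa
    haveI := Fact.mk hx
    have hx1 := cast_cnt_prime hx hxG
    rw [hxa] at hx1
    have hnd : ¬ x ∣ 4 := fun h => by
      have := Nat.le_of_dvd (by norm_num) h
      have := h3 hx hx2
      interval_cases x
      · norm_num at h
      · norm_num at hx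
    have h := cast_sum_eq_zero (r := x) (dvd_mul_left x 4) (mul_dvd_card hx hnd h4G hxG)
    rw [sum_divisors_mul hx hnd, hd4, Finset.sum_insert (by decide), Finset.sum_insert (by decide),
      Finset.sum_singleton, Finset.sum_insert (by decide), Finset.sum_insert (by decide),
      Finset.sum_singleton, one_mul, cnt_two_mul ht (hx.odd_of_ne_two hx2), cnt_one, ht, h4, hxa] at h
    push_cast at h
    rw [hx1] at h
    have hs : (cnt G (4 * x) : ZMod x) = 1 := by linear_combination h
    rcases hv (4 * x) (by have := hx.two_le; omega) with h0 | h0 | h0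
    · rw [h0, Nat.cast_zero] at hs; exact absurd hs zero_ne_one
    · rw [h0, hx1] at hs; exact absurd hs.symm (one_ne_neg_one hx hx2)
    · exact ⟨hx1, h0, by rw [← h0]; exact hs⟩
  wlog hra : cnt G r = a generalizing r q with H
  · have hqa : cnt G q = a := (hval hq hq2 hqG).resolve_right fun h =>
      hnotboth ⟨(hval hr hr2 hrG).resolve_left hra, h⟩
    exact H hq hr hq2 hr2 hrq.symm hqG hrG ‹_› ‹_› hco.symm (by rwa [mul_comm])
      (fun h => hnotboth ⟨h.2, h.1⟩) hqa
  obtain ⟨har, h4r, hbr⟩ := key hr hr2 hrG hra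
  have hndq : ¬ q ∣ r := fun h => hrq ((Nat.prime_dvd_prime_iff_eq hq hr).1 h).symm
  have h := cast_sum_eq_zero (r := r) (dvd_mul_right r q) (mul_dvd_card hq hndq hrG hqG)
  rw [sum_divisors_mul hq hndq, hr.divisors] at h
  simp only [Finset.sum_insert (show (1 : ℕ) ∉ ({r} : Finset ℕ) by simpa using hr.ne_one.symm),
    Finset.sum_singleton, cnt_one, one_mul, Nat.cast_add, Nat.cast_one, hra, har] at h
  have hs : (cnt G (r * q) : ZMod r) = -(cnt G q : ZMod r) := by linear_combination h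
  have hqa : cnt G q = a ∧ cnt G (r * q) = b := by
    have hne : (cnt G q : ZMod r) ≠ 0 := by
      rcases hval hq hq2 hqG with h0 | h0 <;> rw [h0]
      · rw [har]; exact neg_ne_zero.2 one_ne_zero
      · rw [hbr]; exact one_ne_zero
    rcases hv (r * q) (by
        have := Nat.mul_le_mul hr.two_le hq.two_le
        omega) with h0 | h0 | h0
    · rw [h0, Nat.cast_zero] at hs; exact absurd (neg_eq_zero.1 hs.symm) hne
    · exact absurd (h0 ▸ hrq4) ha4
    · refine ⟨(hval hq hq2 hqG).resolve_right fun hqb => ?_, h0⟩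
      rw [h0, hqb, hbr] at hs
      exact one_ne_neg_one hr hr2 hs
  obtain ⟨haq, h4q, hbq⟩ := key hq hq2 hqG hqa.1
  have h4x : ∀ {x : ℕ}, x.Prime → x ≠ 2 → ¬ x ∣ 4 := fun {x} hx hx2 hd => by
    have : x ∣ 2 * 2 := hd
    rcases (Nat.Prime.dvd_mul hx).1 this with h | h <;>
      exact hx2 ((Nat.prime_dvd_prime_iff_eq hx Nat.prime_two).1 h)
  have hnd : ¬ q ∣ 4 * r := fun h => by
    rcases (Nat.Prime.dvd_mul hq).1 h with h | h
    · exact h4x hq hq2 h
    · exact hndq h
  have h := cast_sum_eq_zero (r := r) (dvd_mul_of_dvd_left (dvd_mul_left r 4) q)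
    (mul_dvd_card hq hnd (mul_dvd_card hr (h4x hr hr2) h4G hrG) hqG)
  rw [sum_divisors_mul hq hnd, sum_divisors_mul hr (h4x hr hr2), sum_divisors_mul hr (h4x hr hr2), hd4]
    at h
  simp only [Finset.sum_insert (show (1 : ℕ) ∉ ({2, 4} : Finset ℕ) by decide),
    Finset.sum_insert (show (2 : ℕ) ∉ ({4} : Finset ℕ) by decide),
    Finset.sum_singleton, one_mul, mul_assoc, cnt_one, ht,
    cnt_two_mul ht (hr.odd_of_ne_two hr2), cnt_two_mul ht (hq.odd_of_ne_two hq2),
    cnt_two_mul ht ((hr.odd_of_ne_two hr2).mul (hq.odd_of_ne_two hq2)),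
    h4, hra, hqa.1, hqa.2, h4r, h4q, Nat.cast_add, Nat.cast_one, har, hbr] at h
  have hs : (cnt G (4 * (r * q)) : ZMod r) = -1 := by linear_combination h
  have h44 : 4 ∣ cnt G (4 * (r * q)) := by
    refine ((four_dvd_totient (h3 hr hr2) (h3 hq hq2) hco).trans ?_).trans (totient_dvd_cnt _)
    exact Nat.totient_dvd_of_dvd (dvd_mul_left _ _)
  rcases hv (4 * (r * q)) (by have := Nat.mul_le_mul hr.two_le hq.two_le; omega) with h0 | h0 | h0
  · rw [h0, Nat.cast_zero] at hs; exact neg_ne_zero.2 one_ne_zero hs.symm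
  · exact ha4 (h0 ▸ h44)
  · rw [h0, hbr] at hs; exact one_ne_neg_one hr hr2 hs


/-- A finite group in which the numbers of elements of each order that occurs (the numbers #{g : o(g) = m}, m ranging over the element orders) take exactly three different values is solvable. -/
theorem result {G : Type*} [Group G] [Finite G] (h : (((fun m : ℕ => Nat.card {g : G // orderOf g = m}) '' Set.range (orderOf : G → ℕ))).ncard = 3) : Group.IsSolvable G := by
  classical
  haveI := Fact.mk Nat.prime_two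
  by_cases hle : (Nat.card G).primeFactors.card ≤ 2
  · exact isSolvable_of_two_primeFactors hle
  set V := (fun m : ℕ => Nat.card {g : G // orderOf g = m}) '' Set.range (orderOf : G → ℕ) with hV
  have h1V : 1 ∈ V := ⟨1, ⟨1, orderOf_one⟩, cnt_one⟩
  have h2V : (V \ {1}).ncard = 2 := by rw [Set.ncard_sdiff_singleton_of_mem h1V, h]
  obtain ⟨a, b, hab, hVab⟩ := Set.ncard_eq_two.1 h2V
  have hall : ∀ d, cnt G d = 0 ∨ cnt G d = 1 ∨ cnt G d = a ∨ cnt G d = b := by
    intro d
    rcases eq_or_ne (cnt G d) 0 with h0 | h0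
    · exact Or.inl h0
    refine Or.inr (or_iff_not_imp_left.2 fun h1 => ?_)
    obtain ⟨g, hg⟩ := cnt_ne_zero_iff.1 h0
    have : cnt G d ∈ V \ {1} := ⟨⟨d, ⟨g, hg⟩, rfl⟩, h1⟩
    rw [hVab] at this
    simpa using this
  have heven : ∀ d, 2 < d → 2 ∣ cnt G d := fun d hd =>
    (Nat.totient_even hd).two_dvd.trans (totient_dvd_cnt d)
  have hv : ∀ d, 2 < d → cnt G d = 0 ∨ cnt G d = a ∨ cnt G d = b := fun d hd =>
    (hall d).imp_right fun h => h.resolve_left fun h1 => by
      have := heven d hd; omega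
  have hvo : ∀ d, 1 < d → Odd d → cnt G d = 0 ∨ cnt G d = a ∨ cnt G d = b := fun d h1 h2 =>
    hv d (by rcases h2 with ⟨c, rfl⟩; omega)
  obtain ⟨r, hr, q, hq, hrq⟩ := Finset.one_lt_card.1 (show 1 < ((Nat.card G).primeFactors.erase 2).card by
    have := Finset.pred_card_le_card_erase (s := (Nat.card G).primeFactors) (a := 2)
    omega)
  rw [Finset.mem_erase, Nat.mem_primeFactors] at hr hq
  obtain ⟨hr2, hrp, hrG, -⟩ := hr
  obtain ⟨hq2, hqp, hqG, -⟩ := hq
  rcases Nat.even_or_odd (Nat.card G) with heven2 | hodd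
  swap
  · exact absurd (card_primeFactors_le hodd hvo) hle
  have h2G : 2 ∣ Nat.card G := even_iff_two_dvd.1 heven2
  have ht0 : cnt G 2 ≠ 0 := cnt_ne_zero_iff.2 (exists_prime_orderOf_dvd_card' 2 h2G)
  have htodd : ¬ 2 ∣ cnt G 2 := by
    have h := dvd_sum_cnt h2G
    rw [Nat.prime_two.divisors, Finset.sum_insert (by decide), Finset.sum_singleton, cnt_one] at h
    omega
  rcases eq_or_ne (cnt G 2) 1 with ht | ht
  swap
  · -- several involutions: one value for all other orders
    exfalso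
    have hpair : ∀ a b : ℕ, (∀ d, 2 < d → cnt G d = 0 ∨ cnt G d = a ∨ cnt G d = b) →
        cnt G 2 = a → False := by
      intro a b hv hta
      have hvb : ∀ d, 2 < d → cnt G d = 0 ∨ cnt G d = b := fun d hd =>
        (hv d hd).imp_right fun h => h.resolve_left fun h' => htodd (hta ▸ h' ▸ heven d hd)
      have h3 : ∀ {x : ℕ}, x.Prime → x ≠ 2 → 2 < x := fun hx hx2 => by have := hx.two_le; omega
      have hb : ∀ {x : ℕ}, x.Prime → x ≠ 2 → x ∣ Nat.card G → cnt G x = b := fun {x} hx hx2 hxG =>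
        (hvb x (h3 hx hx2)).resolve_left
          (cnt_ne_zero_iff.2 (exists_prime_orderOf_dvd_card' (hp := ⟨hx⟩) x hxG))
      obtain ⟨-, hb1⟩ := pair_same (a := b) (b := b) (fun d h1 h2 =>
        (hvb d (by rcases h2 with ⟨c, rfl⟩; omega)).imp_right Or.inl) hrp hqp hr2 hq2 hrq hrG hqG
        (hb hrp hr2 hrG) (hb hqp hq2 hqG)
      have := cast_cnt_prime hrp hrG
      rw [hb hrp hr2 hrG, hb1] at this
      exact one_ne_neg_one hrp hr2 this
    rcases ((hall 2).resolve_left ht0).resolve_left ht with h | h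
    · exact hpair a b hv h
    · exact hpair b a (fun d hd => (hv d hd).imp_right Or.symm) h
  rcases eq_or_ne (cnt G 4) 0 with h4 | h4
  swap
  · exfalso
    rcases (hv 4 (by norm_num)).resolve_left h4 with h | h
    · exact no_order_four ht hv hrp hqp hr2 hq2 hrq hrG hqG h (h ▸ h4)
    · exact no_order_four ht (fun d hd => (hv d hd).imp_right Or.symm) hrp hqp hr2 hq2 hrq hrG hqG h
        (h ▸ h4)
  -- Sylow 2-subgroups have order two
  let T : Sylow 2 G := default
  obtain ⟨z, hz⟩ := cnt_ne_zero_iff.1 ht0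
  have hT : ∀ x : (T : Subgroup G), (x : G) = 1 ∨ (x : G) = z := by
    intro x
    obtain ⟨i, hi⟩ := T.2 x
    obtain ⟨j, -, hj⟩ := (Nat.dvd_prime_pow Nat.prime_two).1
      (orderOf_dvd_of_pow_eq_one (congrArg Subtype.val hi : (x : G) ^ 2 ^ i = 1))
    rcases j with _ | _ | j
    · exact Or.inl (orderOf_eq_one_iff.1 (by rw [hj, pow_zero]))
    · right
      have ht' := ht
      rw [cnt, Nat.card_eq_one_iff_unique] at ht'
      exact congrArg Subtype.val (ht'.1.elim ⟨(x : G), by rw [hj, pow_one]⟩ ⟨z, hz⟩)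
    · exfalso
      refine cnt_ne_zero_iff.2 ⟨(x : G) ^ 2 ^ j, ?_⟩ h4
      rw [orderOf_pow' _ (pow_ne_zero _ two_ne_zero), hj, Nat.gcd_eq_right (pow_dvd_pow 2 (by omega)),
        Nat.pow_div (by omega) two_pos, show j + 1 + 1 - j = 2 by omega]
      norm_num
  have hTcard : Nat.card (T : Subgroup G) = 2 := by
    refine le_antisymm ?_ ?_
    · have hfin : ∀ x : (T : Subgroup G), (x : G) ∈ ({1, z} : Finset G) := fun x => by
        simpa using hT x
      refine (Nat.card_le_card_of_injective (fun x : (T : Subgroup G) =>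
          (⟨(x : G), hfin x⟩ : ({1, z} : Finset G)))
        fun x y h => Subtype.ext (congrArg (fun w : ({1, z} : Finset G) => (w : G)) h)).trans ?_
      rw [Nat.card_eq_fintype_card, Fintype.card_coe]
      exact Finset.card_le_two
    · rw [T.card_eq_multiplicity]
      exact Nat.le_self_pow (Nat.Prime.factorization_pos_of_dvd Nat.prime_two Nat.card_pos.ne' h2G).ne' 2
  haveI : IsCyclic (T : Subgroup G) := isCyclic_of_prime_card hTcard
  obtain ⟨H, hH⟩ := Invol.exists_index_two_of_cyclic_sylow heven2 T inferInstance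
  haveI := Subgroup.normal_of_index_eq_two hH
  have hHodd : Odd (Nat.card H) := by
    rw [← Nat.not_even_iff_odd, even_iff_two_dvd]
    intro h2
    have h4' : 2 * 2 ∣ Nat.card G := by
      rw [← H.card_mul_index, hH]; exact Nat.mul_dvd_mul_right h2 2
    have h5 := (Nat.Prime.pow_dvd_iff_le_factorization Nat.prime_two Nat.card_pos.ne').1
      (show 2 ^ 2 ∣ Nat.card G by rw [pow_two]; exact h4')
    have h6 := Nat.pow_le_pow_right (n := 2) two_pos h5
    rw [← T.card_eq_multiplicity, hTcard] at h6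
    norm_num at h6
  have hmem : ∀ g : G, Odd (orderOf g) → g ∈ H := by
    rintro g ⟨c, hc⟩
    have h1 : (g ^ (c + 1)) ^ 2 ∈ H := Subgroup.sq_mem_of_index_two hH _
    rwa [← pow_mul, show (c + 1) * 2 = orderOf g + 1 by omega, pow_succ, pow_orderOf_eq_one,
      one_mul] at h1
  have hcnt : ∀ d, Odd d → cnt H d = cnt G d := fun d hd => Nat.card_congr
    { toFun := fun x => ⟨((x : H) : G), by rw [Subgroup.orderOf_coe]; exact x.2⟩
      invFun := fun g => ⟨⟨g, hmem g (g.2.symm ▸ hd)⟩, by rw [Subgroup.orderOf_mk]; exact g.2⟩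
      left_inv := fun x => rfl
      right_inv := fun g => rfl }
  haveI : Group.IsSolvable H := isSolvable_of_two_primeFactors
    (card_primeFactors_le hHodd fun d h1 h2 => by rw [hcnt d h2]; exact hvo d h1 h2)
  haveI : Group.IsSolvable (G ⧸ H) := by
    haveI : IsCyclic (G ⧸ H) := isCyclic_of_prime_card (p := 2) (by rw [← Subgroup.index_eq_card, hH])
    exact Group.isSolvable_of_comm fun a b => IsMulCommutative.is_comm.comm a b
  exact Group.isSolvable_of_ker_le_range H.subtype (QuotientGroup.mk' H)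
    (by rw [QuotientGroup.ker_mk', Subgroup.range_subtype])

end Cfsg.Agent.S3996
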