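import Cfsg.Statements.S3997
import Cfsg.Agent.Lib.FGB.OrderType
-- import your own Cfsg.Agent.* helpers here

set_option autoImplicit false
open Cfsg

namespace Cfsg.Agent.S3997

/-- Let G and H be finite groups with the same order type: for every m they have the same number of elements of order m. If G is nilpotent then so is H. -/
theorem result {G H : Type*} [Group G] [Finite G] [Group H] [Finite H] (hT : (∀ m : ℕ, Nat.card {g : G // orderOf g = m} = Nat.card {h : H // orderOf h = m})) (hG : Group.IsNilpotent G) :
    Group.IsNilpotent H := by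
  classical
  let e : G ≃ H := Equiv.ofFiberEquiv (f := fun g : G => orderOf g) (g := fun h : H => orderOf h)
    (fun m => (Finite.card_eq.mp (hT m)).some)
  have he : ∀ g, orderOf (e g) = orderOf g := fun g =>
    Equiv.ofFiberEquiv_map (f := fun g : G => orderOf g) (g := fun h : H => orderOf h) _ g
  have hpow : ∀ k : ℕ, Nat.card {g : G // g ^ k = 1} = Nat.card {h : H // h ^ k = 1} := fun k =>
    Nat.card_congr (e.subtypeEquiv fun g => by
      rw [← orderOf_dvd_iff_pow_eq_one, ← orderOf_dvd_iff_pow_eq_one, he])
  refine (Group.isNilpotent_of_finite_tfae (G := H)).out 3 0 rfl rfl |>.mp ?_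
  intro p hp Q
  haveI := hp
  obtain ⟨P⟩ := (inferInstance : Nonempty (Sylow p G))
  haveI : (P : Subgroup G).Normal := by
    exact ((Group.isNilpotent_of_finite_tfae (G := G)).out 0 3 rfl rfl).mp hG p hp P
  have hc : Nat.card (P : Subgroup G) = Nat.card (Q : Subgroup H) := by
    rw [P.card_eq_multiplicity, Q.card_eq_multiplicity, Nat.card_congr e]
  refine FGB.sylow_normal_of_card_pow Q ?_
  rw [← hpow, ← hc]
  exact Nat.card_congr (Equiv.subtypeEquivRight fun x => (FGB.mem_normal_sylow_iff P x).symm)
end Cfsg.Agent.S3997
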