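import Cfsg.Statements.S3998
import Cfsg.Agent.Lib.FGB.Supersolvable

set_option autoImplicit false
universe u v
open Cfsg

namespace Cfsg.Agent.S3998

open Cfsg.Agent.FGB

theorem card_pow_eq_one_quot {G : Type u} [Group G] [Finite G] {p : ℕ} [Fact p.Prime] (P : Sylow p G)
    [(P : Subgroup G).Normal] (m : ℕ) :
    Nat.card {g : G // g ^ (m * Nat.card (P : Subgroup G)) = 1} =
      Nat.card (P : Subgroup G) * Nat.card {q : G ⧸ (P : Subgroup G) // q ^ m = 1} := by
  have hmem : ∀ g : G, g ^ (m * Nat.card (P : Subgroup G)) = 1 ↔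
      (QuotientGroup.mk g : G ⧸ (P : Subgroup G)) ^ m = 1 := by
    intro g
    rw [← QuotientGroup.mk_pow, QuotientGroup.eq_one_iff, pow_mul]
    constructor
    · intro h
      have hz : IsPGroup p (Subgroup.zpowers (g ^ m)) := by
        obtain ⟨k, hk⟩ := IsPGroup.iff_card.mp P.2
        refine IsPGroup.of_card_dvd_pow (n := k) ?_
        rw [Nat.card_zpowers, ← hk]
        exact orderOf_dvd_of_pow_eq_one h
      obtain ⟨R, hR⟩ := hz.exists_le_sylow
      obtain ⟨x, hx⟩ := MulAction.exists_smul_eq G P R
      rw [← hx, Sylow.smul_eq_of_normal] at hR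
      exact hR (Subgroup.mem_zpowers _)
    · intro h
      have := pow_card_eq_one' (x := (⟨g ^ m, h⟩ : (P : Subgroup G)))
      exact congrArg Subtype.val this
  have := QuotientGroup.card_preimage_mk (P : Subgroup G) {q : G ⧸ (P : Subgroup G) | q ^ m = 1}
  rw [show {g : G // g ^ (m * Nat.card (P : Subgroup G)) = 1} =
    ↥((QuotientGroup.mk : G → G ⧸ (P : Subgroup G)) ⁻¹' {q | q ^ m = 1}) from ?_, this]
  · rfl
  · show Subtype _ = Subtype _
    simp only [hmem]
    rfl

theorem main : ∀ (n : ℕ) (G : Type u) (H : Type v) [Group G] [Finite G] [Group H] [Finite H],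
    Nat.card G = n → Cfsg.IsSupersolvable G →
    (∀ m : ℕ, Nat.card {g : G // g ^ m = 1} = Nat.card {h : H // h ^ m = 1}) → Group.IsSolvable H := by
  intro n
  induction n using Nat.strong_induction_on with
  | _ n ih =>
  intro G H _ _ _ _ hn hG hT
  have hcard : Nat.card G = Nat.card H := by
    have := hT 0
    simpa [Nat.card_congr (Equiv.subtypeUnivEquiv (p := fun _ => True) fun _ => trivial)] using this
  rcases eq_or_ne (Nat.card G) 1 with h1 | h1
  · haveI : Subsingleton H := (Nat.card_eq_one_iff_unique.mp (hcard ▸ h1)).1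
    exact Group.isSolvable_of_top_eq_bot _ (Subsingleton.elim _ _)
  have hne : (Nat.card G).primeFactors.Nonempty := Nat.nonempty_primeFactors.mpr (by
    have : 0 < Nat.card G := Nat.card_pos
    omega)
  let p := (Nat.card G).primeFactors.max' hne
  have hp := Nat.mem_primeFactors.mp ((Nat.card G).primeFactors.max'_mem hne)
  haveI : Fact p.Prime := ⟨hp.1⟩
  obtain ⟨P⟩ := (inferInstance : Nonempty (Sylow p G))
  haveI hPn : (P : Subgroup G).Normal := sylow_normal_of_isSupersolvable hG p
    (fun r hr hrd => Finset.le_max' _ _ (Nat.mem_primeFactors.mpr ⟨hr, hrd, hp.2.2⟩)) P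
  obtain ⟨Q⟩ := (inferInstance : Nonempty (Sylow p H))
  have hPQ : Nat.card (P : Subgroup G) = Nat.card (Q : Subgroup H) := by
    rw [P.card_eq_multiplicity, Q.card_eq_multiplicity, hcard]
  -- Q is normal
  haveI hQn : (Q : Subgroup H).Normal := by
    have hset : Nat.card {g : H // g ^ Nat.card (Q : Subgroup H) = 1} = Nat.card (Q : Subgroup H) := by
      have h1 : ∀ q : G ⧸ (P : Subgroup G), q ^ 1 = 1 ↔ q = 1 := fun q => by rw [pow_one]
      rw [← hT, ← hPQ, ← one_mul (Nat.card (P : Subgroup G)), card_pow_eq_one_quot]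
      simp [h1]
    have : Subsingleton (Sylow p H) := by
      refine ⟨fun A B => ?_⟩
      have key : ∀ A : Sylow p H, ∀ x, x ∈ (A : Subgroup H) ↔ x ^ Nat.card (Q : Subgroup H) = 1 := by
        intro A
        have hsub : ((A : Subgroup H) : Set H) ⊆ {g : H | g ^ Nat.card (Q : Subgroup H) = 1} := by
          intro x hx
          have e : Nat.card (A : Subgroup H) = Nat.card (Q : Subgroup H) := by
            rw [A.card_eq_multiplicity, Q.card_eq_multiplicity]
          have := pow_card_eq_one' (x := (⟨x, hx⟩ : (A : Subgroup H)))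
          rw [e] at this
          exact congrArg Subtype.val this
        have := Set.eq_of_subset_of_ncard_le hsub (by
          rw [← Nat.card_coe_set_eq, ← Nat.card_coe_set_eq]
          refine le_of_eq (hset.trans ?_)
          exact (Q.card_eq_multiplicity).trans (A.card_eq_multiplicity).symm)
        intro x
        exact Set.ext_iff.mp this x
      ext x
      rw [key A x, key B x]
    exact Q.normal_of_subsingleton
  have hquot : Group.IsSolvable (H ⧸ (Q : Subgroup H)) := by
    refine ih (Nat.card (G ⧸ (P : Subgroup G))) ?_ (G ⧸ (P : Subgroup G)) _ rfl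
      (isSupersolvable_of_surjective _ (QuotientGroup.mk'_surjective _) hG) fun m => ?_
    · rw [← hn, Subgroup.card_eq_card_quotient_mul_card_subgroup (P : Subgroup G)]
      have : 1 < Nat.card (P : Subgroup G) :=
        (Subgroup.one_lt_card_iff_ne_bot _).mpr (P.ne_bot_of_dvd_card hp.2.1)
      have : 0 < Nat.card (G ⧸ (P : Subgroup G)) := Nat.card_pos
      nlinarith
    · have h := hT (m * Nat.card (P : Subgroup G))
      rw [card_pow_eq_one_quot] at h
      rw [hPQ, card_pow_eq_one_quot] at h
      exact Nat.eq_of_mul_eq_mul_left Nat.card_pos h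
  haveI : Group.IsSolvable (Q : Subgroup H) := by
    exact @IsNilpotent.to_isSolvable _ _ Q.2.isNilpotent
  exact Group.isSolvable_of_ker_le_range (Q : Subgroup H).subtype (QuotientGroup.mk' (Q : Subgroup H)) (by simp)


/-- Let G and H be finite groups with the same order type (for every m the same number of elements of order m). If G is supersolvable then H is solvable. -/
theorem result {G H : Type*} [Group G] [Finite G] [Group H] [Finite H] (hT : (∀ m : ℕ, Nat.card {g : G // orderOf g = m} = Nat.card {h : H // orderOf h = m})) (hG : Cfsg.IsSupersolvable G) :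
    Group.IsSolvable H := by
  refine main _ G H rfl hG fun m => ?_
  let e : G ≃ H := Equiv.ofFiberEquiv (f := fun g : G => orderOf g) (g := fun h : H => orderOf h)
    (fun k => (Finite.card_eq.mp (hT k)).some)
  refine Nat.card_congr (e.subtypeEquiv fun g => ?_)
  have he : orderOf (e g) = orderOf g := Equiv.ofFiberEquiv_map _ g
  rw [← orderOf_dvd_iff_pow_eq_one, ← orderOf_dvd_iff_pow_eq_one, he]

end Cfsg.Agent.S3998
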