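import Cfsg.Statements.S3999
import Mathlib
import Cfsg.Agent.Lib.FGB.OrderType
import Cfsg.Agent.S0042

set_option autoImplicit false
set_option linter.style.haveILetI false
open Cfsg

namespace Cfsg.Agent.S3999

open Cfsg.Agent.FGB
open scoped Pointwise

universe u v

/-- In a Frobenius group no non-identity element of the complement commutes with one of the kernel. -/
theorem fpf_of_complement {F : Type u} [Group F] (N C : Subgroup F) (hC : Cfsg.IsFrobeniusComplement C)
    (hdis : N ⊓ C = ⊥) : ∀ h ∈ C, h ≠ 1 → N ⊓ Subgroup.centralizer {h} = ⊥ := by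
  intro h hh h1
  rw [eq_bot_iff]
  intro n hn
  rw [Subgroup.mem_bot]
  by_contra hn1
  have hnC : n ∉ C := fun hc => hn1 (Subgroup.mem_bot.mp (hdis ▸ Subgroup.mem_inf.mpr ⟨hn.1, hc⟩))
  apply h1
  rw [← Subgroup.mem_bot, ← hC.2.2 n hnC]
  refine Subgroup.mem_inf.mpr ⟨hh, h, hh, ?_⟩
  show n * h * n⁻¹ = h
  rw [Subgroup.mem_centralizer_singleton_iff.mp hn.2, mul_inv_cancel_right]

theorem exists_kernel {G : Type u} [Group G] [Finite G] {k : ℕ} (hk : k ≠ 0)
    (hdvd : ∀ q : ℕ, q.Prime → q ∣ k → (Nat.card G).factorization q = k.factorization q)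
    (hnorm : ∀ (q : ℕ) [Fact q.Prime], q ∣ k → ∀ Q : Sylow q G, (Q : Subgroup G).Normal)
    (hcnt : Nat.card {g : G // g ^ k = 1} = k) :
    ∃ M : Subgroup G, M.Normal ∧ Group.IsSolvable M ∧ Nat.card M = k ∧ ∀ x : G, x ∈ M ↔ x ^ k = 1 := by
  classical
  have key : ∀ s : Finset ℕ, s ⊆ k.primeFactors →
      (s.sup fun q => Cfsg.pCore q G).Normal ∧ (s.sup fun q => Cfsg.pCore q G) ≤ Cfsg.fittingSubgroup G ∧
      Nat.card ↥(s.sup fun q => Cfsg.pCore q G) = ∏ q ∈ s, q ^ k.factorization q := by
    intro s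
    induction s using Finset.induction_on with
    | empty =>
      intro _
      simp only [Finset.sup_empty, Finset.prod_empty]
      exact ⟨inferInstance, bot_le, Subgroup.card_bot⟩
    | insert q s hqs ih =>
      intro hsub
      obtain ⟨hn, hle, hc⟩ := ih ((Finset.subset_insert q s).trans hsub)
      haveI := hn
      obtain ⟨hq, hqk, -⟩ := Nat.mem_primeFactors.mp (hsub (Finset.mem_insert_self q s))
      haveI := Fact.mk hq
      obtain ⟨Q⟩ := (inferInstance : Nonempty (Sylow q G))
      haveI := hnorm q hqk Q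
      have hQ : Cfsg.pCore q G = (Q : Subgroup G) :=
        le_antisymm (Basics.pCore_le_sylow q Q) (Basics.le_pCore Q.2)
      rw [Finset.sup_insert, Finset.prod_insert hqs]
      refine ⟨inferInstance, sup_le (Basics.pCore_le_fittingSubgroup q) hle, ?_⟩
      have hcQ : Nat.card ↥(Cfsg.pCore q G) = q ^ k.factorization q := by
        rw [hQ, Q.card_eq_multiplicity, hdvd q hq hqk]
      rw [Basics.card_sup_of_coprime (N := Cfsg.pCore q G) (Subgroup.le_normalizer_of_normal), hcQ, hc]
      rw [hcQ, hc]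
      refine Nat.Coprime.prod_right fun r hr => ?_
      have hr' := (Nat.mem_primeFactors.mp (hsub (Finset.mem_insert_of_mem hr))).1
      exact Nat.coprime_pow_primes _ _ hq hr' (fun h => hqs (h ▸ hr))
  obtain ⟨hn, hle, hc⟩ := key k.primeFactors (Finset.Subset.refl _)
  set M := k.primeFactors.sup fun q => Cfsg.pCore q G with hM
  have hck : Nat.card M = k := by
    rw [hc]
    conv_rhs => rw [← Nat.prod_factorization_pow_eq_self hk]
    rfl
  refine ⟨M, hn, ?_, hck, ?_⟩
  · haveI := Basics.fittingSubgroup_isNilpotent (G := G)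
    haveI : Group.IsSolvable (Cfsg.fittingSubgroup G) := IsNilpotent.to_isSolvable
    exact Group.isSolvable_of_isSolvable_injective (Subgroup.inclusion_injective hle)
  · have hsub : (M : Set G) ⊆ {g : G | g ^ k = 1} := fun x hx =>
      orderOf_dvd_iff_pow_eq_one.mp (hck ▸ Subgroup.orderOf_dvd_natCard M hx)
    have heq := Set.eq_of_subset_of_ncard_le hsub (by
      rw [← Nat.card_coe_set_eq, ← Nat.card_coe_set_eq]
      exact le_of_eq (hcnt.trans hck.symm))
    exact fun x => Set.ext_iff.mp heq x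

theorem isSolvable_iff_complement {G : Type u} [Group G] [Finite G] (N : Subgroup G) [N.Normal]
    [Group.IsSolvable N] : Group.IsSolvable G ↔ Group.IsSolvable (G ⧸ N) := by
  constructor
  · intro h
    exact Group.isSolvable_of_surjective (f := QuotientGroup.mk' N) (QuotientGroup.mk'_surjective N)
  · intro h
    exact (Group.isSolvable_iff_subgroup_quotient N).mpr ⟨inferInstance, h⟩

theorem quotient_cyclicIndexTwo {G : Type u} [Group G] [Finite G] (N C : Subgroup G) [N.Normal]
    (hC : Cfsg.IsFrobeniusComplement C) (hcomp : N.IsComplement' C)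
    (hcop : (Nat.card C).Coprime (Nat.card N)) (hN : N ≠ ⊥) : CyclicIndexTwo (G ⧸ N) := by
  refine (cyclicIndexTwo_of_fpf N C hN hcop (fpf_of_complement N C hC hcomp.disjoint.eq_bot)).of_surjective
    ((QuotientGroup.mk' N).comp C.subtype) ?_
  intro q
  induction q using QuotientGroup.induction_on with
  | _ g =>
    obtain ⟨⟨n, c⟩, hnc⟩ := (hcomp.existsUnique g).exists
    refine ⟨c, ?_⟩
    show ((c : G) : G ⧸ N) = (g : G ⧸ N)
    rw [← hnc, QuotientGroup.mk_mul, (QuotientGroup.eq_one_iff _).mpr n.2, one_mul]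

theorem main {F : Type u} {G : Type v} [Group F] [Finite F] [Group G] [Finite G]
    (C : Subgroup F) (hC : Cfsg.IsFrobeniusComplement C)
    (hT : ∀ m : ℕ, Nat.card {g : F // orderOf g = m} = Nat.card {h : G // orderOf h = m}) :
    (∃ C : Subgroup G, Cfsg.IsFrobeniusComplement C) ∧ (Group.IsSolvable G ↔ Group.IsSolvable F) := by
  classical
  let e : F ≃ G := Equiv.ofFiberEquiv (f := fun g : F => orderOf g) (g := fun h : G => orderOf h)
    (fun k => (Finite.card_eq.mp (hT k)).some)
  have he : ∀ x, orderOf (e x) = orderOf x := fun x => Equiv.ofFiberEquiv_map _ x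
  have hpow : ∀ x m, e x ^ m = 1 ↔ x ^ m = 1 := fun x m => by
    rw [← orderOf_dvd_iff_pow_eq_one, ← orderOf_dvd_iff_pow_eq_one, he]
  have hcount : ∀ m, Nat.card {g : F // g ^ m = 1} = Nat.card {h : G // h ^ m = 1} := fun m =>
    Nat.card_congr (e.subtypeEquiv fun g => (hpow g m).symm)
  obtain ⟨N, hNset, hNn, hNnil⟩ := Cfsg.Agent.S0042.result C hC
  obtain ⟨N', hN'set, -, hcomp', hN'card⟩ := Basics.frobenius_kernel_exists hC
  have hNN : N = N' := SetLike.coe_injective (hNset.trans hN'set.symm)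
  subst hNN
  haveI := hNn
  set k := Nat.card N with hkdef
  set c := Nat.card C with hcdef
  have hco : c.Coprime k := by rw [hcdef, hN'card]; exact Basics.frobenius_coprime hC
  have hout : ∀ x : F, x ∉ N → x ≠ 1 ∧ x ^ c = 1 := by
    intro x hx
    have hx' : ¬ (x = 1 ∨ ∀ g : F, x ∉ MulAut.conj g • C) := by
      change x ∉ (N : Set F) at hx
      rw [hNset] at hx
      exact hx
    push Not at hx'
    obtain ⟨hx1, g, hg⟩ := hx'
    refine ⟨hx1, orderOf_dvd_iff_pow_eq_one.mp ?_⟩
    rw [hcdef, ← Basics.card_conj_smul g C]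
    exact Subgroup.orderOf_dvd_natCard _ hg
  have hNk : ∀ x : F, x ∈ N ↔ x ^ k = 1 := by
    intro x
    refine ⟨fun hx => orderOf_dvd_iff_pow_eq_one.mp (Subgroup.orderOf_dvd_natCard N hx), fun hx => ?_⟩
    by_contra hxN
    obtain ⟨hx1, hxc⟩ := hout x hxN
    exact hx1 (orderOf_eq_one_iff.mp (Nat.eq_one_of_dvd_coprimes hco (orderOf_dvd_of_pow_eq_one hxc)
      (orderOf_dvd_of_pow_eq_one hx)))
  have hor : ∀ x : F, x ^ k = 1 ∨ x ^ c = 1 := fun x => by
    by_cases hx : x ∈ N
    · exact Or.inl ((hNk x).mp hx)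
    · exact Or.inr (hout x hx).2
  have hcard : Nat.card F = k * c := (hcomp'.card_mul).symm
  have hcardG : Nat.card G = k * c := (Nat.card_congr e).symm.trans hcard
  have hfac : ∀ q : ℕ, q.Prime → q ∣ k → (k * c).factorization q = k.factorization q := by
    intro q hq hqk
    rw [Nat.factorization_mul Nat.card_pos.ne' Nat.card_pos.ne', Finsupp.add_apply,
      Nat.factorization_eq_zero_of_not_dvd (n := c) fun hd => hq.one_lt.ne'
        (Nat.eq_one_of_dvd_coprimes hco hd hqk), add_zero]
  have hsylG : ∀ (q : ℕ) [Fact q.Prime], q ∣ k → ∀ Q : Sylow q G, (Q : Subgroup G).Normal := by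
    intro q _ hqk Q
    obtain ⟨P⟩ := (inferInstance : Nonempty (Sylow q F))
    have hPQ : Nat.card (P : Subgroup F) = Nat.card (Q : Subgroup G) := by
      rw [P.card_eq_multiplicity, Q.card_eq_multiplicity, hcard, hcardG]
    have hPN : (P : Subgroup F) ≤ N := fun x hx => (hNk x).mpr (orderOf_dvd_iff_pow_eq_one.mp
      ((Subgroup.orderOf_dvd_natCard _ hx).trans (by
        rw [P.card_eq_multiplicity, hcard, hfac q Fact.out hqk]
        exact Nat.ordProj_dvd k q)))
    haveI : ((P.subtype hPN : Sylow q N) : Subgroup N).Normal :=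
      Sylow.normal_of_normalizerCondition (@Group.normalizerCondition_of_isNilpotent _ _ hNnil) _
    haveI : ((P.subtype hPN : Sylow q N) : Subgroup N).Characteristic :=
      Sylow.characteristic_of_normal _ inferInstance
    have hPn := ConjAct.normal_of_characteristic_of_normal (H := N) (K := ((P.subtype hPN : Sylow q N) : Subgroup N))
    rw [Sylow.coe_subtype, Subgroup.map_subgroupOf_eq_of_le hPN] at hPn
    haveI := hPn
    refine sylow_normal_of_card_pow Q ?_
    rw [← hcount, ← hPQ]
    exact Nat.card_congr (Equiv.subtypeEquivRight fun x => (mem_normal_sylow_iff P x).symm)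
  obtain ⟨M, hMn, hMs, hMk, hMmem⟩ := exists_kernel (G := G) (k := k) Nat.card_pos.ne'
    (fun q hq hqk => by rw [hcardG]; exact hfac q hq hqk) hsylG (by
      rw [← hcount]
      exact Nat.card_congr (Equiv.subtypeEquivRight fun x => (hNk x).symm))
  haveI := hMn
  haveI := hMs
  have hMidx : M.index = c := by
    have h := M.card_mul_index
    rw [hMk, hcardG] at h
    exact Nat.eq_of_mul_eq_mul_left Nat.card_pos h
  obtain ⟨H, hH⟩ := Subgroup.exists_right_complement'_of_coprime (N := M)
    (by rw [hMk, hMidx]; exact hco.symm)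
  have hHc : Nat.card H = c := by rw [← hMidx]; exact hH.symm.index_eq_card.symm
  have hHF : Cfsg.IsFrobeniusComplement H := by
    refine ⟨?_, ?_, fun g hg => ?_⟩
    · intro h
      rw [h, Subgroup.card_bot] at hHc
      exact hC.1 (C.eq_bot_of_card_eq hHc.symm)
    · intro h
      rw [h, Subgroup.card_top, hcardG] at hHc
      have hk1 : k = 1 := Nat.eq_of_mul_eq_mul_right Nat.card_pos (hHc.trans (one_mul c).symm)
      apply hC.2.1
      rw [← Subgroup.index_eq_one, ← hN'card]
      exact hk1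
    rw [eq_bot_iff]
    intro x hx
    rw [Subgroup.mem_bot]
    by_contra hx1
    obtain ⟨⟨m, h⟩, hmh⟩ := (hH.existsUnique g).exists
    obtain ⟨hxH, y, hy, hyx⟩ := Subgroup.mem_inf.mp hx
    change g * y * g⁻¹ = x at hyx
    let y' : G := (h : G) * y * (h : G)⁻¹
    have hy' : y' ∈ H := H.mul_mem (H.mul_mem h.2 hy) (H.inv_mem h.2)
    have hxy : x = (m : G) * y' * (m : G)⁻¹ := by simp only [y']; rw [← hyx, ← hmh]; group
    have hbot : x * y'⁻¹ = 1 := by
      refine Subgroup.mem_bot.mp (hH.disjoint.eq_bot ▸ Subgroup.mem_inf.mpr ⟨?_, H.mul_mem hxH (H.inv_mem hy')⟩)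
      rw [hxy, show (m : G) * y' * (m : G)⁻¹ * y'⁻¹ = (m : G) * (y' * (m : G)⁻¹ * y'⁻¹) by group]
      exact M.mul_mem m.2 (hMn.conj_mem _ (M.inv_mem m.2) y')
    have hxy' : x = y' := mul_inv_eq_one.mp hbot
    have hcomm : Commute (m : G) x := by
      have h2 : (m : G) * x * (m : G)⁻¹ = x := by
        calc (m : G) * x * (m : G)⁻¹ = (m : G) * y' * (m : G)⁻¹ := by rw [hxy']
          _ = x := hxy.symm
      exact mul_inv_eq_iff_eq_mul.mp h2
    have hxc : x ^ c = 1 := hHc ▸ orderOf_dvd_iff_pow_eq_one.mp (Subgroup.orderOf_dvd_natCard H hxH)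
    have hmk : (m : G) ^ k = 1 := (hMmem _).mp m.2
    rcases hor (e.symm ((m : G) * x)) with h3 | h3 <;> rw [← hpow, e.apply_symm_apply, hcomm.mul_pow] at h3
    · rw [hmk, one_mul] at h3
      exact hx1 (orderOf_eq_one_iff.mp (Nat.eq_one_of_dvd_coprimes hco (orderOf_dvd_of_pow_eq_one hxc)
        (orderOf_dvd_of_pow_eq_one h3)))
    · rw [hxc, mul_one] at h3
      have hm1 : (m : G) = 1 := orderOf_eq_one_iff.mp (Nat.eq_one_of_dvd_coprimes hco
        (orderOf_dvd_of_pow_eq_one h3) (orderOf_dvd_of_pow_eq_one hmk))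
      apply hg
      rw [← hmh]
      show (m : G) * (h : G) ∈ H
      rw [hm1, one_mul]
      exact h.2
  refine ⟨⟨H, hHF⟩, ?_⟩
  haveI : Group.IsSolvable N := @IsNilpotent.to_isSolvable _ _ hNnil
  rw [isSolvable_iff_complement M, isSolvable_iff_complement N]
  have hq : ∀ m, Nat.card {y : F ⧸ N // y ^ m = 1} = Nat.card {y : G ⧸ M // y ^ m = 1} := by
    intro m
    have h := hcount (m * k)
    rw [card_pow_mul_eq_one hNk m, card_pow_mul_eq_one hMmem m, hMk] at h
    exact Nat.eq_of_mul_eq_mul_left Nat.card_pos h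
  have hNbot : N ≠ ⊥ := fun h => hC.2.1 (by
    rw [← Subgroup.index_eq_one, ← hN'card, hkdef, h, Subgroup.card_bot])
  have hMbot : M ≠ ⊥ := fun h => hNbot (N.eq_bot_of_card_eq (by
    rw [← hkdef, ← hMk, h, Subgroup.card_bot]))
  have hF2 : CyclicIndexTwo (F ⧸ N) := quotient_cyclicIndexTwo N C hC hcomp' hco hNbot
  have hG2 : CyclicIndexTwo (G ⧸ M) := quotient_cyclicIndexTwo M H hHF hH (by rw [hHc, hMk]; exact hco) hMbot
  exact ⟨fun h => isSolvable_of_same_pow_count _ _ _ rfl h hG2 (fun m => (hq m).symm),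
    fun h => isSolvable_of_same_pow_count _ _ _ rfl h hF2 hq⟩

/-- Let F be a finite Frobenius group (it has a Frobenius complement) and G a finite group with the same order type as F (for every m the same number of elements of order m). Then G is a Frobenius group; moreover G is solvable if and only if F is. -/
theorem result {F G : Type*} [Group F] [Finite F] [Group G] [Finite G] (hF : (∃ C : Subgroup F, Cfsg.IsFrobeniusComplement C)) (hT : (∀ m : ℕ, Nat.card {g : F // orderOf g = m} = Nat.card {h : G // orderOf h = m})) :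
    (∃ C : Subgroup G, Cfsg.IsFrobeniusComplement C) ∧ (Group.IsSolvable G ↔ Group.IsSolvable F) := by
  obtain ⟨C, hC⟩ := hF
  exact main C hC hT

end Cfsg.Agent.S3999
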