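import Cfsg.Statements.S4001
import Mathlib
import Cfsg.Agent.Lib.Recog.ThreePrimes
import Cfsg.Agent.Lib.Basics.FrobeniusBasic
import Cfsg.Agent.Lib.Basics.ThompsonFpf
import Cfsg.Agent.Lib.Basics.FpfAbelian
-- import your own Cfsg.Agent.* helpers here

set_option autoImplicit false
open Cfsg
open scoped Pointwise IsMulCommutative

namespace Cfsg.Agent.S4001

open scoped IsMulCommutative

theorem exists_ne_one {X : Type*} [Group X] {A : Subgroup X} (h : A ≠ ⊥) : ∃ a, a ∈ A ∧ a ≠ 1 :=
  (A.bot_or_exists_ne_one).resolve_left h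

/-- the basic facts on a Frobenius group -/
theorem facts {X : Type*} [Group X] [Finite X] (N C : Subgroup X) [hNn : N.Normal]
    (hC : Cfsg.IsFrobeniusComplement C) (hN : Cfsg.frobeniusKernel C = (N : Set X)) :
    Subgroup.IsComplement' N C ∧ Nat.Coprime (Nat.card C) (Nat.card N) ∧ Group.IsNilpotent N ∧
      (∀ c ∈ C, c ≠ 1 → N ⊓ Subgroup.centralizer {c} = ⊥) ∧
      (∀ x ∈ N, x ≠ 1 → ∀ g, Commute x g → g ∈ N) := by
  obtain ⟨N', hN', -, hc, hcard⟩ := Basics.frobenius_kernel_exists hC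
  have : N' = N := SetLike.coe_injective (hN'.trans hN)
  subst this
  have hfpf : ∀ c ∈ C, c ≠ 1 → N' ⊓ Subgroup.centralizer {c} = ⊥ := by
    intro c hc1 hc2
    rw [eq_bot_iff]
    rintro x ⟨hxN, hxc⟩
    rw [Subgroup.mem_bot]
    by_contra hx
    have hxC : x ∉ C := fun h => hx (Subgroup.disjoint_def.mp hc.disjoint hxN h)
    have : c ∈ C ⊓ MulAut.conj x • C := by
      refine ⟨hc1, ?_⟩
      show c ∈ MulAut.conj x • C
      rw [Subgroup.mem_pointwise_smul_iff_inv_smul_mem]
      have h1 : x * c = c * x := Subgroup.mem_centralizer_singleton_iff.mp hxc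
      simpa [MulAut.smul_def, mul_assoc, ← h1] using hc1
    rw [hC.2.2 x hxC, Subgroup.mem_bot] at this
    exact hc2 this
  refine ⟨hc, by rw [hcard]; exact Basics.frobenius_coprime hC, ?_, hfpf, ?_⟩
  · obtain ⟨q, hq, hqd⟩ := Nat.exists_prime_and_dvd (show Nat.card C ≠ 1 from fun h => hC.1 (Subgroup.card_eq_one.mp h))
    haveI := Fact.mk hq
    obtain ⟨c, hc'⟩ := exists_prime_orderOf_dvd_card' q hqd
    refine Basics.isNilpotent_of_conj_fpf N' (x := (c : X)) (by rw [Subgroup.orderOf_coe, hc']) fun n hn hcomm => ?_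
    have hc1 : (c : X) ≠ 1 := fun h => by
      rw [← Subgroup.orderOf_coe, h, orderOf_one] at hc'; exact hq.ne_one hc'.symm
    rw [← Subgroup.mem_bot, ← hfpf c c.2 hc1]
    exact ⟨hn, Subgroup.mem_centralizer_singleton_iff.mpr hcomm.symm⟩
  · intro x hx hx1 g hg
    by_contra hgN
    have hg' : ¬ (g = 1 ∨ ∀ a : X, g ∉ MulAut.conj a • C) := by
      intro h; apply hgN; rw [← SetLike.mem_coe, ← hN]; exact h
    push_neg at hg'
    obtain ⟨hg1, a, ha⟩ := hg'
    rw [Subgroup.mem_pointwise_smul_iff_inv_smul_mem] at ha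
    simp [MulAut.smul_def] at ha
    have hne : a⁻¹ * g * a ≠ 1 := fun h => hg1 (by
      have := congrArg (fun t => a * t * a⁻¹) h; simpa [mul_assoc] using this)
    have : a⁻¹ * x * a ∈ N' ⊓ Subgroup.centralizer {a⁻¹ * g * a} := by
      refine ⟨by simpa using hNn.conj_mem x hx a⁻¹, Subgroup.mem_centralizer_singleton_iff.mpr ?_⟩
      have := hg.eq
      calc a⁻¹ * x * a * (a⁻¹ * g * a) = a⁻¹ * (x * g) * a := by group
        _ = a⁻¹ * (g * x) * a := by rw [this]
        _ = a⁻¹ * g * a * (a⁻¹ * x * a) := by group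
    rw [hfpf _ ha hne, Subgroup.mem_bot] at this
    exact hx1 (by have := congrArg (fun t => a * t * a⁻¹) this; simpa [mul_assoc] using this)

/-- a fixed-point-free group has at most one involution -/
theorem invol_unique {X : Type*} [Group X] [Finite X] (N C : Subgroup X) [N.Normal]
    (hfpf : ∀ c ∈ C, c ≠ 1 → N ⊓ Subgroup.centralizer {c} = ⊥) (s t : X) (hs : s ∈ C) (ht : t ∈ C)
    (hs2 : orderOf s = 2) (ht2 : orderOf t = 2) (hN : N ≠ ⊥) : s = t := by
  have inv : ∀ s ∈ C, orderOf s = 2 → ∀ n ∈ N, s * n * s⁻¹ = n⁻¹ := by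
    intro s hs hs2 n hn
    have hs1 : s ≠ 1 := fun h => by rw [h, orderOf_one] at hs2; norm_num at hs2
    have hss : s * s = 1 := by rw [← pow_two, ← hs2]; exact pow_orderOf_eq_one s
    let f : N → N := fun m => ⟨(m : X)⁻¹ * (s * m * s⁻¹), N.mul_mem (N.inv_mem m.2) (‹N.Normal›.conj_mem _ m.2 s)⟩
    have hinj : Function.Injective f := by
      intro a b hab
      have h := congrArg Subtype.val hab
      simp only [f] at h
      have hm : (b : X) * (a : X)⁻¹ ∈ N ⊓ Subgroup.centralizer {s} := by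
        refine ⟨N.mul_mem b.2 (N.inv_mem a.2), Subgroup.mem_centralizer_singleton_iff.mpr ?_⟩
        have h' : s * (a : X) * s⁻¹ = (a : X) * ((b : X)⁻¹ * (s * b * s⁻¹)) := by rw [← h]; group
        calc (b : X) * (a : X)⁻¹ * s = (b : X) * (a : X)⁻¹ * (s * (a : X) * s⁻¹) * s * (a : X)⁻¹ := by group
          _ = s * ((b : X) * (a : X)⁻¹) := by rw [h']; group
      rw [hfpf s hs hs1, Subgroup.mem_bot] at hm
      exact Subtype.ext (mul_inv_eq_one.mp hm).symm
    obtain ⟨m, hm⟩ := (Finite.injective_iff_surjective.mp hinj) ⟨n, hn⟩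
    have hm' : (m : X)⁻¹ * (s * m * s⁻¹) = n := congrArg Subtype.val hm
    have hsi : s⁻¹ = s := inv_eq_of_mul_eq_one_right hss
    subst hm'
    rw [hsi]
    simp only [mul_inv_rev, hsi, inv_inv, mul_assoc]
    rw [hss, mul_one]
  obtain ⟨n, hn, hn1⟩ := exists_ne_one hN
  by_contra hne
  have h1 : s * t ≠ 1 := fun h => hne (by
    rw [mul_eq_one_iff_eq_inv] at h; rw [h]
    exact inv_eq_of_mul_eq_one_right (by rw [← pow_two, ← ht2]; exact pow_orderOf_eq_one t))
  apply hn1
  rw [← Subgroup.mem_bot, ← hfpf _ (C.mul_mem hs ht) h1]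
  refine ⟨hn, Subgroup.mem_centralizer_singleton_iff.mpr ?_⟩
  have e1 := inv t ht ht2 n hn
  have e2 := inv s hs hs2 n⁻¹ (N.inv_mem hn)
  rw [inv_inv, ← e1] at e2
  calc n * (s * t) = (s * (t * n * t⁻¹) * s⁻¹) * (s * t) := by rw [e2]
    _ = s * t * n := by group

/-- Let G be a 2-Frobenius group: it has normal subgroups H < K with K a Frobenius group with kernel H and G/H a Frobenius group with kernel K/H. Then G is solvable; K/H has odd order coprime to the order of H and to the order of G/K (it is the image of an odd-order Hall subgroup); G/K is cyclic; and the prime graph of G has exactly two connected components, both complete: for distinct primes p, q dividing the order of G, G has an element of order pq exactly when p and q either both divide the order of K/H or both do not. -/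
theorem result {G : Type*} [Group G] [Finite G] (H K : Subgroup G) [H.Normal] [K.Normal] (hlt : H < K)
    (hK : ∃ C : Subgroup ↥K, Cfsg.IsFrobeniusComplement C ∧ Cfsg.frobeniusKernel C = (H.subgroupOf K : Set ↥K))
    (hGH : ∃ C : Subgroup (G ⧸ H), Cfsg.IsFrobeniusComplement C ∧ Cfsg.frobeniusKernel C = (K.map (QuotientGroup.mk' H) : Set (G ⧸ H))) :
    Group.IsSolvable G ∧ Odd (Nat.card (↥K ⧸ H.subgroupOf K)) ∧
      Nat.Coprime (Nat.card (↥K ⧸ H.subgroupOf K)) (Nat.card ↥H * Nat.card (G ⧸ K)) ∧ IsCyclic (G ⧸ K) ∧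
      ∀ p q : ℕ, p.Prime → q.Prime → p ≠ q → p ∣ Nat.card G → q ∣ Nat.card G →
        ((∃ g : G, orderOf g = p * q) ↔ (p ∣ Nat.card (↥K ⧸ H.subgroupOf K) ↔ q ∣ Nat.card (↥K ⧸ H.subgroupOf K))) := by

  obtain ⟨C₁, hC₁, hker₁⟩ := hK
  obtain ⟨C₂, hC₂, hker₂⟩ := hGH
  set Hk := H.subgroupOf K with hHk
  haveI : Hk.Normal := Subgroup.normal_subgroupOf
  set Kb := K.map (QuotientGroup.mk' H) with hKb
  haveI : Kb.Normal := Subgroup.Normal.map inferInstance _ (QuotientGroup.mk'_surjective H)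
  obtain ⟨hc1, hcop1, hnil1, hfpf1, hcent1⟩ := facts Hk C₁ hC₁ hker₁
  obtain ⟨hc2, hcop2, hnil2, hfpf2, hcent2⟩ := facts Kb C₂ hC₂ hker₂
  -- C₁ is isomorphic to K / H
  set k := Nat.card (↥K ⧸ Hk) with hk
  have hkC : k = Nat.card C₁ := by rw [hk, ← Subgroup.index_eq_card, hc1.symm.index_eq_card]
  let ψ : C₁ →* Kb := (((QuotientGroup.mk' H).comp K.subtype).comp C₁.subtype).codRestrict Kb
    fun c => ⟨_, (c : K).2, rfl⟩
  have hψs : Function.Surjective ψ := by
    rintro ⟨y, x, hx, rfl⟩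
    obtain ⟨⟨a, c⟩, hac⟩ := hc1.2 ⟨x, hx⟩
    refine ⟨c, Subtype.ext ?_⟩
    show QuotientGroup.mk' H ((c : K) : G) = QuotientGroup.mk' H x
    have : x = ((a : K) : G) * ((c : K) : G) := (congrArg Subtype.val hac).symm
    rw [this, map_mul]
    have : QuotientGroup.mk' H ((a : K) : G) = 1 := (QuotientGroup.eq_one_iff _).mpr a.2
    rw [this, one_mul]
  have hψi : Function.Injective ψ := by
    rw [injective_iff_map_eq_one]
    intro c hc
    have h1 : ((c : K) : G) ∈ H := (QuotientGroup.eq_one_iff _).mp (congrArg Subtype.val hc)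
    exact Subtype.ext (Subgroup.disjoint_def.mp hc1.disjoint (Subgroup.mem_subgroupOf.mpr h1) c.2)
  let eKb : C₁ ≃* Kb := MulEquiv.ofBijective ψ ⟨hψi, hψs⟩
  haveI hnilC : Group.IsNilpotent C₁ := Group.nilpotent_of_mulEquiv (_h := hnil2) eKb.symm
  have hkKb : Nat.card Kb = k := by rw [hkC]; exact (Nat.card_congr eKb.toEquiv).symm
  -- nontriviality
  have hHk1 : Hk ≠ ⊥ := by
    intro h
    have hindex := hc1.index_eq_card
    rw [h, Subgroup.card_bot, Subgroup.index_eq_one] at hindex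
    exact hC₁.2.1 hindex
  have hKb1 : Kb ≠ ⊥ := by
    intro h
    have hindex := hc2.index_eq_card
    rw [h, Subgroup.card_bot, Subgroup.index_eq_one] at hindex
    exact hC₂.2.1 hindex
  -- odd order
  have hodd : Odd k := by
    rw [← Nat.not_even_iff_odd, even_iff_two_dvd]
    intro h2
    haveI := Fact.mk Nat.prime_two
    obtain ⟨t, ht⟩ := exists_prime_orderOf_dvd_card' 2 (hkKb.symm ▸ h2 : 2 ∣ Nat.card Kb)
    obtain ⟨c, hc1', hc2'⟩ := exists_ne_one hC₂.1
    have hconj : ∀ s : Kb, orderOf s = 2 → s = t := by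
      intro s hs
      apply eKb.symm.injective
      have h1 : orderOf (eKb.symm s) = 2 := by rw [eKb.symm.orderOf_eq, hs]
      have h2 : orderOf (eKb.symm t) = 2 := by rw [eKb.symm.orderOf_eq, ht]
      exact Subtype.ext (invol_unique Hk C₁ hfpf1 _ _ (eKb.symm s).2 (eKb.symm t).2
        (by rw [Subgroup.orderOf_coe]; exact h1) (by rw [Subgroup.orderOf_coe]; exact h2) hHk1)
    have hfix := congrArg Subtype.val (hconj (MulAut.conjNormal c t)
      (by rw [(MulAut.conjNormal (H := Kb) c).orderOf_eq, ht]))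
    rw [MulAut.conjNormal_apply] at hfix
    have hm : (t : G ⧸ H) ∈ Kb ⊓ Subgroup.centralizer {c} :=
      ⟨t.2, Subgroup.mem_centralizer_singleton_iff.mpr (mul_inv_eq_iff_eq_mul.mp hfix).symm⟩
    rw [hfpf2 c hc1' hc2', Subgroup.mem_bot] at hm
    rw [← Subgroup.orderOf_coe, hm, orderOf_one] at ht
    norm_num at ht
  -- cyclicity
  haveI hcyc1 : IsCyclic C₁ := by
    haveI : IsZGroup C₁ := (isZGroup_iff C₁).mpr fun p hp P => by
      haveI := Fact.mk hp
      by_cases hpd : p ∣ Nat.card C₁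
      · exact (Basics.fpf_sylow_cyclic_or_quaternion Hk C₁ hHk1 hfpf1 p P).resolve_right
          fun ⟨h, _⟩ => by
            subst h
            exact Nat.not_even_iff_odd.mpr hodd (even_iff_two_dvd.mpr (hkC ▸ hpd))
      · haveI : Subsingleton (P : Subgroup C₁) := by
          obtain ⟨n, hn⟩ := P.2.exists_card_eq
          refine (Nat.card_eq_one_iff_unique.mp ?_).1
          rcases Nat.eq_zero_or_pos n with rfl | hn'
          · rw [hn, pow_zero]
          · exact absurd ((hn ▸ dvd_pow_self p hn'.ne' : p ∣ Nat.card (P : Subgroup C₁)).trans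
              (Subgroup.card_subgroup_dvd_card _)) hpd
        infer_instance
    infer_instance
  haveI hcycKb : IsCyclic Kb := eKb.isCyclic.mp hcyc1
  haveI hC₂c : IsMulCommutative C₂ := by
    set φ : C₂ →* MulAut Kb := MulAut.conjNormal.comp C₂.subtype with hφ
    have hinj : Function.Injective φ := by
      rw [injective_iff_map_eq_one]
      intro c hc
      by_contra hne
      apply hKb1
      rw [eq_bot_iff]
      intro v hv
      have := congrArg Subtype.val (DFunLike.congr_fun hc ⟨v, hv⟩)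
      simp [hφ, MulAut.conjNormal_apply] at this
      rw [← hfpf2 (c : G ⧸ H) c.2 (fun h => hne (Subtype.ext h))]
      exact ⟨hv, Subgroup.mem_centralizer_singleton_iff.mpr (mul_inv_eq_iff_eq_mul.mp this).symm⟩
    refine ⟨⟨fun a b => hinj ?_⟩⟩
    rw [map_mul, map_mul]
    apply (IsCyclic.mulAutMulEquiv Kb).injective
    rw [map_mul, map_mul, mul_comm]
  haveI hcyc2 : IsCyclic C₂ := Basics.fpf_abelian_isCyclic C₂ Kb hKb1
    (le_top.trans (le_of_eq (Subgroup.normalizer_eq_top (H := Kb)).symm)) hfpf2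
  let π : G ⧸ H →* G ⧸ K := QuotientGroup.map H K (MonoidHom.id G) (fun x hx => hlt.le hx)
  have hπ : ∀ x ∈ Kb, π x = 1 := by
    rintro x ⟨y, hy, rfl⟩
    exact (QuotientGroup.eq_one_iff y).mpr hy
  have hsurj : Function.Surjective (π.comp C₂.subtype) := by
    intro y
    induction y using QuotientGroup.induction_on with
    | _ g =>
      obtain ⟨⟨a, c⟩, hac⟩ := hc2.2 (QuotientGroup.mk' H g)
      refine ⟨c, ?_⟩
      have h1 : π (QuotientGroup.mk' H g) = π (c : G ⧸ H) := by
        rw [← hac, map_mul, hπ _ a.2, one_mul]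
      exact h1.symm
  haveI hcycQ : IsCyclic (G ⧸ K) := isCyclic_of_surjective _ hsurj
  have hcardQ : Nat.card (G ⧸ K) ∣ Nat.card C₂ := Subgroup.card_dvd_of_surjective _ hsurj
  have hnH : Group.IsNilpotent H := Group.nilpotent_of_mulEquiv (_h := hnil1) (Subgroup.subgroupOfEquivOfLe hlt.le)
  have hcH : Nat.card Hk = Nat.card H := Nat.card_congr (Subgroup.subgroupOfEquivOfLe hlt.le).toEquiv
  have hkH : Nat.Coprime k (Nat.card H) := by
    rw [hkC, ← hcH]; exact hcop1
  have hkQ : Nat.Coprime k (Nat.card (G ⧸ K)) := by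
    rw [← hkKb]; exact hcop2.symm.coprime_dvd_right hcardQ
  have hcardG : Nat.card G = Nat.card H * k * Nat.card (G ⧸ K) := by
    rw [← hcH, hkC, hc1.card_mul, ← Subgroup.index_eq_card, Subgroup.card_mul_index]
  refine ⟨?_, hodd, Nat.Coprime.mul_right hkH hkQ, hcycQ, ?_⟩
  · haveI : Group.IsSolvable C₁ := Group.isSolvable_of_comm fun a b => hcyc1.commutative.is_comm.comm a b
    haveI : Group.IsSolvable Hk := by haveI := hnil1; infer_instance
    let θ : C₁ →* ↥K ⧸ Hk := (QuotientGroup.mk' Hk).comp C₁.subtype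
    have hθ : Function.Surjective θ := by
      intro y
      induction y using QuotientGroup.induction_on with
      | _ x =>
        obtain ⟨⟨a, c⟩, hac⟩ := hc1.2 x
        refine ⟨c, ?_⟩
        have h1 : QuotientGroup.mk' Hk x = QuotientGroup.mk' Hk (c : K) := by
          rw [← hac, map_mul, show QuotientGroup.mk' Hk (a : K) = 1 from (QuotientGroup.eq_one_iff _).mpr a.2, one_mul]
        exact h1.symm
    haveI : Group.IsSolvable (↥K ⧸ Hk) := solvable_of_surjective hθ
    haveI : Group.IsSolvable K := solvable_of_ker_le_range Hk.subtype (QuotientGroup.mk' Hk)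
      (by rw [QuotientGroup.ker_mk', Subgroup.range_subtype])
    haveI : Group.IsSolvable (G ⧸ K) := Group.isSolvable_of_comm fun a b => hcycQ.commutative.is_comm.comm a b
    exact solvable_of_ker_le_range K.subtype (QuotientGroup.mk' K)
      (by rw [QuotientGroup.ker_mk', Subgroup.range_subtype])
  · -- the prime graph
    have lift : ∀ {n : ℕ} (g : G), n ∣ orderOf g → ∃ x : G, orderOf x = n := fun {n} g hg =>
      ⟨g ^ (orderOf g / n), orderOf_pow_orderOf_div (orderOf_pos g).ne' hg⟩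
    have cross : ∀ p q : ℕ, p.Prime → q.Prime → p ≠ q → p ∣ k → ¬ q ∣ k → ¬ ∃ g : G, orderOf g = p * q := by
      rintro p q hp hq hpq hpk hqk ⟨x, hx⟩
      have ha : orderOf (x ^ q) = p := by
        rw [orderOf_pow_of_dvd hq.ne_zero (hx ▸ dvd_mul_left q p), hx, Nat.mul_div_cancel _ hq.pos]
      have hb : orderOf (x ^ p) = q := by
        rw [orderOf_pow_of_dvd hp.ne_zero (hx ▸ dvd_mul_right p q), hx, Nat.mul_div_cancel_left _ hp.pos]
      have hab : Commute (x ^ q) (x ^ p) := Commute.pow_pow (Commute.refl x) q p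
      have haK : x ^ q ∈ K := by
        rw [← QuotientGroup.eq_one_iff, ← orderOf_eq_one_iff]
        refine Nat.eq_one_of_dvd_coprimes hkQ ?_ (orderOf_dvd_natCard _)
        exact (orderOf_map_dvd (QuotientGroup.mk' K) (x ^ q)).trans (ha ▸ hpk)
      have haH : x ^ q ∉ H := fun h => hp.ne_one (Nat.eq_one_of_dvd_coprimes hkH hpk
        (ha ▸ Subgroup.orderOf_dvd_natCard H h))
      have hbKb : QuotientGroup.mk' H (x ^ p) ∈ Kb :=
        hcent2 (QuotientGroup.mk' H (x ^ q)) ⟨_, haK, rfl⟩ (fun h => haH ((QuotientGroup.eq_one_iff _).mp h))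
          _ (hab.map (QuotientGroup.mk' H))
      have hbH : x ^ p ∈ H := by
        rw [← QuotientGroup.eq_one_iff, ← orderOf_eq_one_iff]
        have h1 : orderOf (QuotientGroup.mk' H (x ^ p)) ∣ k := hkKb ▸ Subgroup.orderOf_dvd_natCard Kb hbKb
        have h2 : orderOf (QuotientGroup.mk' H (x ^ p)) ∣ q := hb ▸ orderOf_map_dvd _ _
        rcases (Nat.dvd_prime hq).mp h2 with h3 | h3
        · exact h3
        · exact absurd (h3 ▸ h1) hqk
      have hbne : (⟨x ^ p, hlt.le hbH⟩ : K) ≠ 1 := fun h => by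
        rw [show x ^ p = 1 from congrArg Subtype.val h, orderOf_one] at hb; exact hq.ne_one hb.symm
      exact haH (Subgroup.mem_subgroupOf.mp (hcent1 ⟨x ^ p, hlt.le hbH⟩ (Subgroup.mem_subgroupOf.mpr hbH) hbne
        ⟨x ^ q, haK⟩ (Subtype.ext hab.symm.eq)))
    intro p q hp hq hpq hpG hqG
    rw [hcardG] at hpG hqG
    constructor
    · intro hg
      constructor
      · intro hpk
        by_contra hqk
        exact cross p q hp hq hpq hpk hqk hg
      · intro hqk
        by_contra hpk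
        exact cross q p hq hp hpq.symm hqk hpk (by rwa [mul_comm])
    intro hiff
    have incyc : ∀ {Y : Type _} [Group Y] [Finite Y] [IsCyclic Y], p * q ∣ Nat.card Y → ∃ y : Y, p * q ∣ orderOf y :=
      fun {Y} _ _ _ h => by
        obtain ⟨y, hy⟩ := IsCyclic.exists_generator (α := Y)
        exact ⟨y, by rwa [orderOf_eq_card_of_forall_mem_zpowers hy]⟩
    have hpqd : ∀ {n : ℕ}, p ∣ n → q ∣ n → p * q ∣ n := fun h1 h2 =>
      Nat.Coprime.mul_dvd_of_dvd_of_dvd ((Nat.coprime_primes hp hq).mpr hpq) h1 h2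
    by_cases hpk : p ∣ k
    · obtain ⟨⟨y, hy⟩, hyd⟩ := incyc (Y := Kb) (hkKb.symm ▸ hpqd hpk (hiff.mp hpk))
      rw [Subgroup.orderOf_mk] at hyd
      obtain ⟨g, -, rfl⟩ := hy
      exact lift g (Nat.dvd_trans hyd (orderOf_map_dvd (QuotientGroup.mk' H) g))
    have hqk : ¬ q ∣ k := fun h => hpk (hiff.mpr h)
    obtain ⟨t, ht, htk⟩ := Nat.exists_prime_and_dvd (show k ≠ 1 from fun h => hC₁.1 (Subgroup.card_eq_one.mp (hkC ▸ h)))
    have htp : t ≠ p := fun h => hpk (h ▸ htk)
    have htq : t ≠ q := fun h => hqk (h ▸ htk)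
    have hpor : p ∣ Nat.card H ∨ p ∣ Nat.card (G ⧸ K) :=
      ((Nat.Prime.dvd_mul hp).mp hpG).imp_left fun h => ((Nat.Prime.dvd_mul hp).mp h).resolve_right hpk
    have hqor : q ∣ Nat.card H ∨ q ∣ Nat.card (G ⧸ K) :=
      ((Nat.Prime.dvd_mul hq).mp hqG).imp_left fun h => ((Nat.Prime.dvd_mul hq).mp h).resolve_right hqk
    have mixed : ∀ p q : ℕ, p.Prime → q.Prime → p ≠ q → t ≠ p → t ≠ q → ¬ p ∣ k → ¬ q ∣ k →
        p ∣ Nat.card H → q ∣ Nat.card (G ⧸ K) → ∃ g : G, orderOf g = p * q := by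
      intro p q hp hq hpq htp htq hpk hqk h1 h2
      rcases Recog.three_primes H K hlt.le p t q hp ht hq htp.symm hpq htq h1
        (by rw [Subgroup.relIndex, Subgroup.index_eq_card]; exact htk) (by rw [Subgroup.index_eq_card]; exact h2) with h | h | h
      · exact absurd (by rwa [mul_comm] at h) (cross t p ht hp htp htk hpk)
      · exact h
      · exact absurd h (cross t q ht hq htq htk hqk)
    rcases hpor with h1 | h1 <;> rcases hqor with h2 | h2
    · haveI := hnH
      haveI := Fact.mk hp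
      haveI := Fact.mk hq
      obtain ⟨a, ha⟩ := exists_prime_orderOf_dvd_card' p h1
      obtain ⟨b, hb⟩ := exists_prime_orderOf_dvd_card' q h2
      obtain ⟨P, hP⟩ := (IsPGroup.of_card (n := 1) (by rw [pow_one, Nat.card_zpowers, ha]) :
        IsPGroup p (Subgroup.zpowers a)).exists_le_sylow
      obtain ⟨Q, hQ⟩ := (IsPGroup.of_card (n := 1) (by rw [pow_one, Nat.card_zpowers, hb]) :
        IsPGroup q (Subgroup.zpowers b)).exists_le_sylow
      have hPn : (P : Subgroup H).Normal := (Group.isNilpotent_of_finite_tfae.out 0 3 rfl rfl).mp hnH p ‹_› P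
      have hQn : (Q : Subgroup H).Normal := (Group.isNilpotent_of_finite_tfae.out 0 3 rfl rfl).mp hnH q ‹_› Q
      have hab := Subgroup.commute_of_normal_of_disjoint _ _ hPn hQn (IsPGroup.disjoint_of_ne p q hpq _ _ P.2 Q.2)
        a b (hP (Subgroup.mem_zpowers a)) (hQ (Subgroup.mem_zpowers b))
      exact Recog.exists_orderOf_mul hp hq hpq (hab.map H.subtype)
        (by simp [Subgroup.orderOf_coe, ha]) (by simp [Subgroup.orderOf_coe, hb])
    · exact mixed p q hp hq hpq htp htq hpk hqk h1 h2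
    · obtain ⟨x, hx⟩ := mixed q p hq hp hpq.symm htq htp hqk hpk h2 h1
      exact ⟨x, by rw [hx, mul_comm]⟩
    · obtain ⟨y, hy⟩ := incyc (Y := G ⧸ K) (hpqd h1 h2)
      obtain ⟨g, rfl⟩ := QuotientGroup.mk'_surjective K y
      exact lift g (hy.trans (orderOf_map_dvd _ g))

end Cfsg.Agent.S4001
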