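import Cfsg.Statements.S4002
import Mathlib
import Cfsg.Agent.Lib.Recog.ThreePrimes
-- import your own Cfsg.Agent.* helpers here

set_option autoImplicit false
open Cfsg

namespace Cfsg.Agent.S4002

theorem three (n : ℕ) (hn : 7 ≤ n) :
    ∃ p q r : ℕ, p.Prime ∧ q.Prime ∧ r.Prime ∧ p < q ∧ q < r ∧ r ≤ n ∧ n < p * q := by
  by_cases h1 : n < 15
  · exact ⟨3, 5, 7, by norm_num, by norm_num, by norm_num, by norm_num, by norm_num, hn, by omega⟩
  by_cases h2 : n < 77
  · exact ⟨7, 11, 13, by norm_num, by norm_num, by norm_num, by norm_num, by norm_num, by omega, by omega⟩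
  set m := Nat.sqrt n
  have hm : 8 ≤ m := Nat.le_sqrt.mpr (by omega)
  have hle : m * m ≤ n := Nat.sqrt_le n
  have hlt : n < (m + 1) * (m + 1) := Nat.lt_succ_sqrt n
  obtain ⟨p, hp, hp1, hp2⟩ := Nat.exists_prime_lt_and_le_two_mul m (by omega)
  obtain ⟨q, hq, hq1, hq2⟩ := Nat.exists_prime_lt_and_le_two_mul (2 * m) (by omega)
  obtain ⟨r, hr, hr1, hr2⟩ := Nat.exists_prime_lt_and_le_two_mul (4 * m) (by omega)
  refine ⟨p, q, r, hp, hq, hr, by omega, by omega, ?_, ?_⟩
  · have : 8 * m ≤ m * m := Nat.mul_le_mul_right m hm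
    omega
  · exact lt_of_lt_of_le hlt (Nat.mul_le_mul (by omega) (by omega))

/-- If the set of element orders of a finite group G is {1, 2, …, n} with n ≥ 7, then G is not solvable. -/
theorem result {G : Type*} [Group G] [Finite G] (n : ℕ) (hn : 7 ≤ n) (h : Set.range (orderOf : G → ℕ) = {k : ℕ | 1 ≤ k ∧ k ≤ n}) : ¬ Group.IsSolvable G := by

  intro hsol
  obtain ⟨p, q, r, hp, hq, hr, hpq, hqr, hrn, hbig⟩ := three n hn
  have hdvd : ∀ t : ℕ, t.Prime → t ≤ n → t ∣ Nat.card G := by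
    intro t ht htn
    obtain ⟨g, hg⟩ : t ∈ Set.range (orderOf : G → ℕ) := by rw [h]; exact ⟨ht.one_lt.le, htn⟩
    exact hg ▸ orderOf_dvd_natCard g
  have hno : ∀ a b : ℕ, n < a * b → ¬ ∃ x : G, orderOf x = a * b := by
    rintro a b hab ⟨x, hx⟩
    have : a * b ∈ Set.range (orderOf : G → ℕ) := ⟨x, hx⟩
    rw [h] at this
    exact absurd this.2 (by omega)
  haveI := hsol
  exact Recog.eq_of_dvd_solvable (K := (⊤ : Subgroup G)) inferInstance hp hq hr hpq.ne
    (hpq.trans hqr).ne hqr.ne (by rw [Subgroup.card_top]; exact hdvd p hp (by omega))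
    (by rw [Subgroup.card_top]; exact hdvd q hq (by omega)) (hdvd r hr hrn)
    (hno p q hbig)
    (hno p r (lt_of_lt_of_le hbig (Nat.mul_le_mul_left _ hqr.le)))
    (hno q r (lt_of_lt_of_le hbig (Nat.mul_le_mul hpq.le hqr.le)))

end Cfsg.Agent.S4002
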