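import Cfsg.Statements.S4003
import Mathlib
import Cfsg.Agent.Lib.FGB.MillerCyclic
-- import your own Cfsg.Agent.* helpers here

set_option autoImplicit false
open Cfsg

namespace Cfsg.Agent.S4003

/-- Let G be a finite group, p an odd prime dividing the order of G whose Sylow p-subgroups are not cyclic, and n = p^s·m with s > 1 and m coprime to p. Then the number of elements of G of order n is a multiple of p^s. -/
theorem result {G : Type*} [Group G] [Finite G] (p : ℕ) [Fact p.Prime] (hodd : p ≠ 2) (hpG : p ∣ Nat.card G)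
    (P : Sylow p G) (hP : ¬ IsCyclic ↥(P : Subgroup G)) (s m : ℕ) (hs : 1 < s) (hm : Nat.Coprime p m) :
    p ^ s ∣ Nat.card {g : G // orderOf g = p ^ s * m} := by
  classical
  haveI : Fintype G := Fintype.ofFinite G
  have hp : p.Prime := Fact.out
  have hm0 : m ≠ 0 := fun h => hp.ne_one (by rw [h] at hm; simpa [Nat.Coprime] using hm)
  haveI : Fintype (Subgroup G) := Fintype.ofFinite _
  set q := p ^ s with hq
  have hco : q.Coprime m := Nat.Coprime.pow_left _ hm
  let E := {z : G × Subgroup G // orderOf z.1 = m ∧ IsCyclic z.2 ∧ Nat.card z.2 = q ∧ ∀ u ∈ z.2, u * z.1 = z.1 * u}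
  let Y := {z : G × G // orderOf z.1 = m ∧ orderOf z.2 = q ∧ Commute z.1 z.2}
  have hYcard : Nat.card {g : G // orderOf g = q * m} = Nat.card Y := by
    refine (Nat.card_congr (Equiv.ofBijective (fun z : Y => (⟨z.1.1 * z.1.2, ?_⟩ : {g : G // orderOf g = q * m})) ⟨?_, ?_⟩)).symm
    · rw [z.2.2.2.orderOf_mul_eq_mul_orderOf_of_coprime (by rw [z.2.1, z.2.2.1]; exact hco.symm), z.2.1, z.2.2.1, mul_comm]
    · rintro ⟨⟨y, u⟩, hy, hu, hc⟩ ⟨⟨y', u'⟩, hy', hu', hc'⟩ he
      have he' : y * u = y' * u' := congrArg Subtype.val he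
      have hu1 : u ^ q = 1 := by rw [← hu]; exact pow_orderOf_eq_one u
      have hu1' : u' ^ q = 1 := by rw [← hu']; exact pow_orderOf_eq_one u'
      have h1 : y ^ q = y' ^ q := by
        have h0 := congrArg (· ^ q) he'
        simp only [hc.mul_pow, hc'.mul_pow, hu1, hu1', mul_one] at h0
        exact h0
      have hcy : Commute y y' := by
        obtain ⟨k, hk⟩ := exists_pow_eq_self_of_coprime (x := y') (n := q) (by rw [show orderOf y' = m from hy']; exact hco)
        rw [← hk, ← h1]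
        exact ((Commute.refl y).pow_right q).pow_right k
      have h2 : (y⁻¹ * y') ^ q = 1 := by rw [hcy.inv_left.mul_pow, inv_pow, h1, inv_mul_cancel]
      have h3 : (y⁻¹ * y') ^ m = 1 := by
        rw [hcy.inv_left.mul_pow, inv_pow, ← show orderOf y = m from hy, pow_orderOf_eq_one, inv_one, one_mul,
          show orderOf y = m from hy, ← show orderOf y' = m from hy', pow_orderOf_eq_one]
      have h4 : y⁻¹ * y' = 1 := by
        rw [← orderOf_eq_one_iff]
        exact Nat.eq_one_of_dvd_coprimes hco (orderOf_dvd_of_pow_eq_one h2) (orderOf_dvd_of_pow_eq_one h3)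
      have h5 : y = y' := inv_mul_eq_one.mp h4
      subst h5
      have h6 : u = u' := mul_left_cancel he'
      subst h6
      rfl
    · rintro ⟨g, hg⟩
      obtain ⟨a, b, hab⟩ := Nat.Coprime.isCoprime hco
      have hgm : ∀ (i : ℤ), (g ^ (i * (q : ℤ))) ^ m = 1 := fun i => by
        rw [← zpow_natCast (g ^ (i * (q : ℤ))) m, ← zpow_mul, ← orderOf_dvd_iff_zpow_eq_one, hg]
        push_cast; exact ⟨i, by ring⟩
      have hgq : ∀ (i : ℤ), (g ^ (i * (m : ℤ))) ^ q = 1 := fun i => by
        rw [← zpow_natCast (g ^ (i * (m : ℤ))) q, ← zpow_mul, ← orderOf_dvd_iff_zpow_eq_one, hg]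
        push_cast; exact ⟨i, by ring⟩
      set y := g ^ (a * (q : ℤ)) with hy
      set u := g ^ (b * (m : ℤ)) with hu
      have hc : Commute y u := Commute.zpow_zpow_self g _ _
      have hyu : y * u = g := by rw [hy, hu, ← _root_.zpow_add, hab, zpow_one]
      have h1 : orderOf y ∣ m := orderOf_dvd_of_pow_eq_one (hgm a)
      have h2 : orderOf u ∣ q := orderOf_dvd_of_pow_eq_one (hgq b)
      have h3 : orderOf g ∣ orderOf y * orderOf u := hyu ▸ hc.orderOf_mul_dvd_mul_orderOf
      rw [hg] at h3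
      have hy0 := orderOf_pos y
      have hu0 := orderOf_pos u
      have hq0 : 0 < q := pow_pos hp.pos s
      have h4 := Nat.le_of_dvd (Nat.pos_of_ne_zero hm0) h1
      have h5 := Nat.le_of_dvd hq0 h2
      have h6 := Nat.le_of_dvd (Nat.mul_pos hy0 hu0) h3
      have e1 : orderOf y = m := by
        by_contra hne
        have : orderOf y * orderOf u < m * q := Nat.mul_lt_mul_of_lt_of_le (lt_of_le_of_ne h4 hne) h5 hq0
        rw [mul_comm m q] at this
        omega
      have e2 : orderOf u = q := by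
        by_contra hne
        have : orderOf u * orderOf y < q * m := Nat.mul_lt_mul_of_lt_of_le (lt_of_le_of_ne h5 hne) h4 (Nat.pos_of_ne_zero hm0)
        rw [mul_comm (orderOf u) (orderOf y)] at this
        omega
      exact ⟨⟨(y, u), e1, e2, hc⟩, Subtype.ext hyu⟩
  let π : Y → E := fun z => ⟨(z.1.1, Subgroup.zpowers z.1.2), z.2.1, inferInstance, (Nat.card_zpowers _).trans z.2.2.1, fun w hw => by
    obtain ⟨i, rfl⟩ := hw
    exact ((z.2.2.2.zpow_right i).symm).eq⟩
  have hfib : ∀ w : E, Nat.card {z : Y // π z = w} = q.totient := by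
    rintro ⟨⟨y, C⟩, hy, hcyc, hC, hc⟩
    haveI : IsCyclic C := hcyc
    change Nat.card C = q at hC
    change ∀ u ∈ C, u * y = y * u at hc
    have e : {z : Y // π z = ⟨(y, C), hy, hcyc, hC, hc⟩} ≃ {u : C // orderOf u = q} :=
      { toFun := fun z => ⟨⟨z.1.1.2, (congrArg (fun w : E => w.1.2) z.2).le (Subgroup.mem_zpowers _)⟩, by
          rw [Subgroup.orderOf_mk]; exact z.1.2.2.1⟩
        invFun := fun u => ⟨⟨(y, (u.1 : G)), hy, (Subgroup.orderOf_coe u.1).trans u.2, (hc _ u.1.2).symm⟩,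
          Subtype.ext (Prod.ext rfl (Subgroup.eq_of_le_of_card_ge (Subgroup.zpowers_le.mpr u.1.2)
            (by rw [hC, Nat.card_zpowers, Subgroup.orderOf_coe, u.2])))⟩
        left_inv := fun z => Subtype.ext (Subtype.ext (Prod.ext (congrArg (fun w : E => w.1.1) z.2).symm rfl))
        right_inv := fun u => rfl }
    rw [Nat.card_congr e, Nat.card_eq_fintype_card, Fintype.card_subtype]
    exact IsCyclic.card_orderOf_eq_totient (by rw [← Nat.card_eq_fintype_card, hC])
  haveI : Fintype E := Fintype.ofFinite E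
  rw [hYcard, ← Nat.card_congr (Equiv.sigmaFiberEquiv π), Nat.card_sigma, Finset.sum_congr rfl (fun w _ => hfib w),
    Finset.sum_const, Finset.card_univ, smul_eq_mul]
  obtain ⟨j, hj⟩ : ∃ j, s = j + 1 := ⟨s - 1, by omega⟩
  suffices hE : p ∣ Fintype.card E by
    obtain ⟨c, hc⟩ := hE
    rw [hq, hj, Nat.totient_prime_pow_succ hp, hc]
    exact ⟨c * (p - 1), by rw [pow_succ]; ring⟩
  -- the action of the Sylow subgroup on the pairs
  set P0 := (P : Subgroup G) with hP0
  let cj : G → Subgroup G → Subgroup G := fun g U => U.map (MulAut.conj g).toMonoidHom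
  have hcj : ∀ a b U, cj (a * b) U = cj a (cj b U) := fun a b U => by
    show U.map _ = (U.map _).map _
    rw [Subgroup.map_map]; congr 1; ext w; simp [mul_assoc]
  have hcj1 : ∀ U, cj 1 U = U := fun U => by ext w; simp [cj]
  have hact : ∀ (g : G) (w : E), orderOf (g * w.1.1 * g⁻¹) = m ∧ IsCyclic (cj g w.1.2) ∧ Nat.card (cj g w.1.2) = q ∧
      ∀ u ∈ cj g w.1.2, u * (g * w.1.1 * g⁻¹) = (g * w.1.1 * g⁻¹) * u := by
    intro g w
    obtain ⟨⟨y, U⟩, hy, hcyc, hU, hc⟩ := w
    refine ⟨((MulAut.conj g).orderOf_eq y).trans hy, ?_, ?_, ?_⟩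
    · exact (U.equivMapOfInjective (MulAut.conj g).toMonoidHom (MulAut.conj g).injective).isCyclic.mp hcyc
    · exact (Subgroup.card_map_of_injective (MulAut.conj g).injective).trans hU
    · rintro _ ⟨u, hu, rfl⟩
      show g * u * g⁻¹ * (g * y * g⁻¹) = g * y * g⁻¹ * (g * u * g⁻¹)
      calc g * u * g⁻¹ * (g * y * g⁻¹) = g * (u * y) * g⁻¹ := by group
        _ = g * (y * u) * g⁻¹ := by rw [hc u hu]
        _ = _ := by group
  letI : SMul P0 E := ⟨fun g w => ⟨((g : G) * w.1.1 * (g : G)⁻¹, cj g w.1.2), hact g w⟩⟩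
  letI : MulAction P0 E :=
    { one_smul := fun w => Subtype.ext (Prod.ext (show (1 : G) * w.1.1 * (1 : G)⁻¹ = w.1.1 by group) (hcj1 _))
      mul_smul := fun a b w => Subtype.ext (Prod.ext
        (show ((a : G) * b) * w.1.1 * ((a : G) * b)⁻¹ = (a : G) * ((b : G) * w.1.1 * (b : G)⁻¹) * (a : G)⁻¹ by group)
        (hcj a b _)) }
  have hmod := P.2.card_modEq_card_fixedPoints E
  rw [← Nat.card_eq_fintype_card, ← Nat.modEq_zero_iff_dvd]
  refine hmod.trans ?_
  rw [Nat.modEq_zero_iff_dvd]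
  have hfix : ∀ w : MulAction.fixedPoints P0 E, (∀ u ∈ P0, u * w.1.1.1 = w.1.1.1 * u) ∧
      (∀ u ∈ P0, cj u w.1.1.2 = w.1.1.2) ∧ w.1.1.2 ≤ P0 := by
    rintro ⟨⟨⟨y, U⟩, hy, hcyc, hU, hc⟩, hw⟩
    have h1 : ∀ u ∈ P0, u * y * u⁻¹ = y ∧ cj u U = U := fun u hu =>
      ⟨congrArg (fun w : E => w.1.1) (hw ⟨u, hu⟩), congrArg (fun w : E => w.1.2) (hw ⟨u, hu⟩)⟩
    refine ⟨fun u hu => mul_inv_eq_iff_eq_mul.mp (h1 u hu).1, fun u hu => (h1 u hu).2, ?_⟩
    show U ≤ P0
    have hn : P0 ≤ Subgroup.normalizer (U : Set G) := fun u hu => Subgroup.mem_normalizer_iff_map_conj_eq.mpr (h1 u hu).2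
    have hUp : IsPGroup p U := IsPGroup.of_card (n := s) hU
    have := P.3 (hUp.to_sup_of_normal_left' P.2 hn) le_sup_right
    exact le_sup_left.trans this.le
  let S := {C : Subgroup P0 // C.Normal ∧ IsCyclic C ∧ Nat.card C = p ^ s}
  have e : MulAction.fixedPoints P0 E ≃ {y : G // orderOf y = m ∧ ∀ u ∈ P0, u * y = y * u} × S :=
    { toFun := fun w => (⟨w.1.1.1, w.1.2.1, (hfix w).1⟩, ⟨w.1.1.2.subgroupOf P0, ⟨fun v hv g => by
          have h1 := (hfix w).2.1 g g.2
          show (g : G) * v * (g : G)⁻¹ ∈ w.1.1.2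
          rw [← h1]
          exact ⟨(v : G), hv, rfl⟩⟩,
        (Subgroup.subgroupOfEquivOfLe (hfix w).2.2).isCyclic.mpr w.1.2.2.1,
        (Nat.card_congr (Subgroup.subgroupOfEquivOfLe (hfix w).2.2).toEquiv).trans w.1.2.2.2.1⟩)
      invFun := fun z => ⟨⟨(z.1.1, z.2.1.map P0.subtype), z.1.2.1,
          (z.2.1.equivMapOfInjective _ P0.subtype_injective).isCyclic.mp z.2.2.2.1,
          (Subgroup.card_map_of_injective P0.subtype_injective).trans z.2.2.2.2,
          fun u hu => z.1.2.2 u (Subgroup.map_subtype_le _ hu)⟩, fun g => Subtype.ext (Prod.ext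
            (show (g : G) * z.1.1 * (g : G)⁻¹ = z.1.1 by rw [z.1.2.2 g g.2, mul_inv_cancel_right])
            (show cj g (z.2.1.map P0.subtype) = z.2.1.map P0.subtype by
              haveI := z.2.2.1
              refine Subgroup.eq_of_le_of_card_ge ?_ (Subgroup.card_map_of_injective (MulAut.conj (g : G)).injective).ge
              rintro _ ⟨_, ⟨v, hv, rfl⟩, rfl⟩
              exact ⟨g * v * g⁻¹, z.2.2.1.conj_mem v hv g, rfl⟩))⟩
      left_inv := fun w => Subtype.ext (Subtype.ext (Prod.ext rfl (Subgroup.map_subgroupOf_eq_of_le (hfix w).2.2)))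
      right_inv := fun z => Prod.ext (Subtype.ext rfl) (Subtype.ext (Subgroup.comap_map_eq_self_of_injective P0.subtype_injective _)) }
  rw [Nat.card_congr e, Nat.card_prod]
  exact dvd_mul_of_dvd_right (FGB.dvd_card_normal_cyclic hodd P.2 hP (by omega)) _

end Cfsg.Agent.S4003
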