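import Cfsg.Statements.S4004
import Cfsg.Agent.Lib.FGB.SameOrderSizes
import Cfsg.Agent.Lib.HallHigman.PLength
import Cfsg.Agent.Lib.Components.FFThompson
import Cfsg.Agent.Lib.OddLocal.PLen
import Cfsg.Agent.Lib.Basics.FpfAbelian

set_option autoImplicit false
open Cfsg

namespace Cfsg.Agent.S4004

open Cfsg.Agent.FGB.SameOrd

universe u

variable {G : Type u} [Group G] [Finite G]

/-- Two classes: no elements of order `p ^ 2`. -/
theorem sq_absent {p q a b : ℕ} (hp : p.Prime) (hq : q.Prime) (hq2 : q ≠ 2)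
    (hpq : p ≠ q) (hv : ∀ d, 1 < d → cnt G d = 0 ∨ cnt G d = a ∨ cnt G d = b)
    (hpG : p ∣ Nat.card G) (hqG : q ∣ Nat.card G) (ha : cnt G p = a) (hb : cnt G q = b) :
    cnt G (p ^ 2) = 0 := by
  haveI := Fact.mk hp
  haveI := Fact.mk hq
  by_contra hne
  obtain ⟨g, hg⟩ := cnt_ne_zero_iff.1 hne
  have hp2G : p ^ 2 ∣ Nat.card G := hg ▸ orderOf_dvd_natCard g
  have hap := cast_cnt_prime hp hpG
  have hbq := cast_cnt_prime hq hqG
  rw [ha] at hap
  rw [hb] at hbq
  have htot : ∀ d, p ^ 2 ∣ d → (cnt G d : ZMod p) = 0 := fun d hd => by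
    rw [ZMod.natCast_eq_zero_iff]
    refine (dvd_trans ?_ (Nat.totient_dvd_of_dvd hd)).trans (totient_dvd_cnt d)
    rw [Nat.totient_prime_pow hp two_pos]
    exact dvd_mul_of_dvd_left (by simp) _
  have hnota : ∀ d, p ^ 2 ∣ d → cnt G d ≠ a := fun d hd h => by
    have := htot d hd
    rw [h, hap] at this
    exact neg_ne_zero.2 one_ne_zero this
  have hsq : cnt G (p ^ 2) = b :=
    ((hv _ (Nat.one_lt_pow two_ne_zero hp.one_lt)).resolve_left hne).resolve_left (hnota _ dvd_rfl)
  have hbp : (b : ZMod p) = 0 := hsq ▸ htot _ dvd_rfl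
  have hnd : ¬ q ∣ p := fun h => hpq ((Nat.prime_dvd_prime_iff_eq hq hp).1 h).symm
  have hnd2 : ¬ q ∣ p ^ 2 := fun h => hnd (hq.dvd_of_dvd_pow h)
  have h1 := cast_sum_eq_zero (r := q) (dvd_mul_left q p) (mul_dvd_card hq hnd hpG hqG)
  rw [sum_divisors_mul hq hnd, hp.divisors] at h1
  simp only [Finset.sum_insert (show (1 : ℕ) ∉ ({p} : Finset ℕ) by simpa using hp.ne_one.symm),
    Finset.sum_singleton, cnt_one, one_mul, Nat.cast_add, Nat.cast_one, ha, hb, hbq] at h1
  have h2 := cast_sum_eq_zero (r := q) (dvd_mul_left q (p ^ 2)) (mul_dvd_card hq hnd2 hp2G hqG)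
  rw [sum_divisors_mul hq hnd2, Nat.sum_divisors_prime_pow hp, Nat.sum_divisors_prime_pow hp] at h2
  simp only [Finset.sum_range_succ, Finset.sum_range_zero, pow_zero, pow_one, one_mul, zero_add,
    cnt_one, ha, hb, hsq, hbq, Nat.cast_add, Nat.cast_one] at h2
  have hy : (cnt G (p ^ 2 * q) : ZMod q) = 1 := by linear_combination h2 - h1
  rcases hv (p ^ 2 * q) (one_lt_mul'' (Nat.one_lt_pow two_ne_zero hp.one_lt) hq.one_lt) with h | h | h
  · rw [h, Nat.cast_zero] at hy; exact zero_ne_one hy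
  · exact hnota _ (dvd_mul_right _ _) h
  · rw [h, hbq] at hy; exact one_ne_neg_one hq hq2 hy.symm

/-- With exponent `p` at `p` either there is a normal Sylow `q`-subgroup or few `p`-elements. -/
theorem normal_or_le {p q : ℕ} [hp : Fact p.Prime] [hq : Fact q.Prime] (hpq : p ≠ q)
    (hodd : Odd (Nat.card G))
    (hpf : (Nat.card G).primeFactors = {p, q})
    (hexp : ∀ (P : Sylow p G), ∀ x ∈ (P : Subgroup G), x ^ p = 1) :
    (∃ Q : Sylow q G, (Q : Subgroup G).Normal) ∨ q * (1 + cnt G p) ≤ Nat.card G := by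
  classical
  haveI : Group.IsSolvable G := isSolvable_of_two_primeFactors (by rw [hpf]; exact Finset.card_le_two)
  have hps : IsPSolvable p G :=
    Components.isPSolvable_of_isSolvable (Nat.card G) G le_rfl inferInstance
  have hpG : p ∣ Nat.card G := Nat.dvd_of_mem_primeFactors (by rw [hpf]; simp)
  have hpodd : Odd p := hodd.of_dvd_nat hpG
  have hle : PLengthLE p 1 G := by
    refine HallHigman.pLengthLE_exponent (Nat.card G) rfl hps default 1
      (fun x hx => by rw [pow_one]; exact hexp _ x hx) ?_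
    intro n₀ r m hn₀ hr hm hrm R
    haveI := Fact.mk hr
    have h2 : 2 ∣ r ^ m := by
      rw [← hrm, ← even_iff_two_dvd]
      exact Nat.Odd.sub_odd hpodd.pow odd_one
    obtain rfl : r = 2 := ((Nat.prime_dvd_prime_iff_eq Nat.prime_two hr).1
      (Nat.prime_two.dvd_of_dvd_pow h2)).symm
    have hbot : (R : Subgroup G) = ⊥ := by
      rw [← Subgroup.card_eq_one, R.card_eq_multiplicity, Nat.factorization_eq_zero_of_not_dvd
        (fun h => Nat.not_even_iff_odd.2 hodd (even_iff_two_dvd.2 h)), pow_zero]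
    refine ⟨⟨?_⟩⟩
    rintro ⟨x, hx⟩ ⟨y, hy⟩
    apply Subtype.ext
    rw [hbot, Subgroup.mem_bot] at hx hy
    show x * y = y * x
    rw [hx, hy]
  obtain ⟨A, B, hAn, hBn, hA, ⟨k, hk⟩, hB, -, -⟩ := OddLocal.exists_series_of_pLengthLE_one hle
  rcases eq_or_ne B ⊤ with rfl | hBt
  · left
    rw [Subgroup.relIndex_top_right] at hk
    have hAq : IsPGroup q A := IsPGroup.of_card (n := (Nat.card A).factorization q)
      (Nat.eq_pow_of_factorization_eq_single Nat.card_pos.ne' (by
        ext r
        rcases eq_or_ne r q with rfl | hrq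
        · simp
        rw [Finsupp.single_apply, if_neg (Ne.symm hrq)]
        by_contra h0
        have hr : r ∈ (Nat.card A).primeFactors := by
          rw [← Nat.support_factorization]; exact Finsupp.mem_support_iff.2 h0
        have hr' := Nat.primeFactors_mono A.card_subgroup_dvd_card Nat.card_pos.ne' hr
        rw [hpf] at hr'
        simp only [Finset.mem_insert, Finset.mem_singleton] at hr'
        obtain rfl := hr'.resolve_right hrq
        exact (hp.out.coprime_iff_not_dvd.1 hA.symm) (Nat.dvd_of_mem_primeFactors hr)))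
    have hqp : q ≠ p := hpq.symm
    have hndvd : ¬ q ∣ A.index := fun h => hqp
      ((Nat.prime_dvd_prime_iff_eq hq.out hp.out).1 (hq.out.dvd_of_dvd_pow (hk ▸ h)))
    exact ⟨hAq.toSylow hndvd, hAn⟩
  · right
    have hBi : q ∣ B.index := by
      obtain ⟨r, hr, hrB⟩ := Nat.exists_prime_and_dvd (fun h => hBt (Subgroup.index_eq_one.1 h))
      have hr' : r ∈ (Nat.card G).primeFactors := Nat.mem_primeFactors.2
        ⟨hr, hrB.trans B.index_dvd_card, Nat.card_pos.ne'⟩
      rw [hpf] at hr'
      simp only [Finset.mem_insert, Finset.mem_singleton] at hr'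
      rcases hr' with rfl | rfl
      · exact absurd hrB (hr.coprime_iff_not_dvd.1 hB.symm)
      · exact hrB
    have hmem : ∀ g : G, g ^ p = 1 → g ∈ B := fun g hg => (QuotientGroup.eq_one_iff g).1
      (orderOf_eq_one_iff.1 (Nat.eq_one_of_dvd_coprimes hB.symm
        (orderOf_dvd_of_pow_eq_one (by rw [← QuotientGroup.mk_pow, hg, QuotientGroup.mk_one]))
        (orderOf_dvd_natCard _)))
    have h1 : 1 + cnt G p ≤ Nat.card B := by
      have h := sum_cnt (G := G) hp.out.ne_zero
      rw [hp.out.divisors, Finset.sum_insert (by simpa using hp.out.ne_one.symm),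
        Finset.sum_singleton, cnt_one] at h
      rw [← h]
      exact Nat.card_le_card_of_injective (fun g : {g : G // g ^ p = 1} => (⟨g.1, hmem _ g.2⟩ : B))
        fun g g' h => Subtype.ext (congrArg (fun y : B => (y : G)) h)
    calc q * (1 + cnt G p) ≤ B.index * Nat.card B :=
          Nat.mul_le_mul (Nat.le_of_dvd (Nat.pos_of_ne_zero B.index_ne_zero_of_finite) hBi) h1
      _ = Nat.card G := B.index_mul_card

/-- With a normal Sylow `p`-subgroup: a Frobenius complement of order `q`. -/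
theorem normal_case {p q a b : ℕ} [hp : Fact p.Prime] [hq : Fact q.Prime] (hpq : p ≠ q)
    (hp2 : p ≠ 2) (hq2 : q ≠ 2) (hpG : p ∣ Nat.card G) (hqG : q ∣ Nat.card G)
    (hord : ∀ g : G, g ^ (p * q) = 1)
    (hsum : Nat.card G = 1 + a + b + cnt G (p * q))
    (hx : cnt G (p * q) = 0 ∨ cnt G (p * q) = a ∨ cnt G (p * q) = b)
    (ha : cnt G p = a) (hb : cnt G q = b) (P : Sylow p G) (hP : (P : Subgroup G).Normal) :
    ∃ C : Subgroup G, Cfsg.IsFrobeniusComplement C ∧ (Nat.card ↥C).Prime := by
  classical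
  haveI := hP
  haveI := Fintype.ofFinite G
  obtain ⟨Q⟩ : Nonempty (Sylow q G) := inferInstance
  have hp3 : 3 ≤ p := by have := hp.out.two_le; omega
  have hq3 : 3 ≤ q := by have := hq.out.two_le; omega
  have hPQ : (Nat.card P).Coprime (Nat.card Q) := by
    rw [P.card_eq_multiplicity, Q.card_eq_multiplicity]
    exact Nat.Coprime.pow _ _ ((Nat.coprime_primes hp.out hq.out).2 hpq)
  have hPexp : ∀ x ∈ (P : Subgroup G), x ^ p = 1 := fun x hx => by
    obtain ⟨i, hi⟩ := P.2 ⟨x, hx⟩
    refine orderOf_dvd_iff_pow_eq_one.1 ?_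
    have h2 : orderOf x ∣ Nat.gcd (p ^ i) (p * q) := Nat.dvd_gcd
      (orderOf_dvd_of_pow_eq_one (congrArg Subtype.val hi)) (orderOf_dvd_of_pow_eq_one (hord x))
    refine (Nat.Coprime.dvd_of_dvd_mul_right ?_ (h2.trans (Nat.gcd_dvd_right _ _)))
    exact Nat.Coprime.coprime_dvd_left (h2.trans (Nat.gcd_dvd_left _ _))
      (((Nat.coprime_primes hp.out hq.out).2 hpq).pow_left i)
  have hQexp : ∀ x ∈ (Q : Subgroup G), x ^ q = 1 := fun x hx => by
    obtain ⟨i, hi⟩ := Q.2 ⟨x, hx⟩
    refine orderOf_dvd_iff_pow_eq_one.1 ?_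
    have h2 : orderOf x ∣ Nat.gcd (q ^ i) (p * q) := Nat.dvd_gcd
      (orderOf_dvd_of_pow_eq_one (congrArg Subtype.val hi)) (orderOf_dvd_of_pow_eq_one (hord x))
    refine (Nat.Coprime.dvd_of_dvd_mul_left ?_ (h2.trans (Nat.gcd_dvd_right _ _)))
    exact Nat.Coprime.coprime_dvd_left (h2.trans (Nat.gcd_dvd_left _ _))
      (((Nat.coprime_primes hq.out hp.out).2 hpq.symm).pow_left i)
  -- the order of `G`
  haveI : Subsingleton (Sylow p G) := by
    obtain ⟨U⟩ : Nonempty (Unique (Sylow p G)) := ⟨Sylow.unique_of_normal P hP⟩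
    infer_instance
  have hmemP : ∀ g : G, g ^ p = 1 → g ∈ (P : Subgroup G) := fun g hg => by
    obtain ⟨P', hP'⟩ := (show IsPGroup p (Subgroup.zpowers g) from by
      obtain ⟨i, -, hi⟩ := (Nat.dvd_prime_pow hp.out).1
        ((orderOf_dvd_of_pow_eq_one hg).trans (dvd_of_eq (pow_one p).symm))
      exact IsPGroup.of_card (n := i) (by rw [Nat.card_zpowers, hi])).exists_le_sylow
    rw [Subsingleton.elim P P']
    exact hP' (Subgroup.mem_zpowers g)
  have hPcard : Nat.card P = 1 + a := by
    have h := sum_cnt (G := G) hp.out.ne_zero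
    rw [hp.out.divisors, Finset.sum_insert (by simpa using hp.out.ne_one.symm),
      Finset.sum_singleton, cnt_one, ha] at h
    rw [← h]
    exact Nat.card_congr
      { toFun := fun x => ⟨(x : G), hPexp _ x.2⟩
        invFun := fun g => ⟨g.1, hmemP _ g.2⟩
        left_inv := fun x => rfl
        right_inv := fun g => rfl }
  have hmul : Nat.card P * Nat.card Q = Nat.card G := by
    refine Nat.dvd_antisymm (hPQ.mul_dvd_of_dvd_of_dvd (Subgroup.card_subgroup_dvd_card _)
      (Subgroup.card_subgroup_dvd_card _)) ?_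
    rw [P.card_eq_multiplicity, Q.card_eq_multiplicity,
      ← Nat.factorization_le_iff_dvd Nat.card_pos.ne'
        (Nat.mul_ne_zero (pow_ne_zero _ hp.out.ne_zero) (pow_ne_zero _ hq.out.ne_zero))]
    intro r
    rcases eq_or_ne ((Nat.card G).factorization r) 0 with h0 | h0
    · rw [h0]; exact Nat.zero_le _
    have hr : r ∈ (Nat.card G).primeFactors := by
      rw [← Nat.support_factorization]; exact Finsupp.mem_support_iff.2 h0
    haveI := Fact.mk (Nat.prime_of_mem_primeFactors hr)
    obtain ⟨g, hg⟩ := exists_prime_orderOf_dvd_card' r (Nat.dvd_of_mem_primeFactors hr)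
    have hrpq : r ∣ p * q := hg ▸ orderOf_dvd_of_pow_eq_one (hord g)
    rw [Nat.factorization_mul (pow_ne_zero _ hp.out.ne_zero) (pow_ne_zero _ hq.out.ne_zero),
      hp.out.factorization_pow, hq.out.factorization_pow, Finsupp.add_apply]
    rcases (Nat.Prime.dvd_mul (Nat.prime_of_mem_primeFactors hr)).1 hrpq with h | h
    · obtain rfl := (Nat.prime_dvd_prime_iff_eq (Nat.prime_of_mem_primeFactors hr) hp.out).1 h
      rw [Finsupp.single_eq_same]; exact Nat.le_add_right _ _
    · obtain rfl := (Nat.prime_dvd_prime_iff_eq (Nat.prime_of_mem_primeFactors hr) hq.out).1 h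
      rw [Finsupp.single_eq_same]; exact Nat.le_add_left _ _
  have hcompl : Subgroup.IsComplement' (P : Subgroup G) (Q : Subgroup G) :=
    Subgroup.isComplement'_of_coprime hmul hPQ
  have hdec : ∀ g : G, ∃ u : (P : Subgroup G), ∃ w : (Q : Subgroup G), (u : G) * w = g := fun g => by
    obtain ⟨⟨u, w⟩, huw⟩ := hcompl.2 g
    exact ⟨u, w, huw⟩
  -- the orbits of `P` on `Q \ 1`
  set W₀ := (Finset.univ : Finset G).filter (fun w => w ∈ (Q : Subgroup G) ∧ w ≠ 1) with hW₀
  set img : G → Finset G :=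
    fun w => (Finset.univ : Finset (P : Subgroup G)).image (fun u : (P : Subgroup G) => (u : G) * w * (u : G)⁻¹)
    with himg
  set W := W₀.filter (fun w => ∃ c ∈ (P : Subgroup G), c ≠ 1 ∧ c * w = w * c) with hW
  have hn : W₀.card + 1 = Nat.card Q := by
    have h1 : insert 1 W₀ = (Finset.univ : Finset G).filter (fun w => w ∈ (Q : Subgroup G)) := by
      ext w
      simp only [hW₀, Finset.mem_insert, Finset.mem_filter, Finset.mem_univ, true_and]
      constructor
      · rintro (rfl | h)
        · exact one_mem _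
        · exact h.1
      · intro h
        exact or_iff_not_imp_left.2 fun h1 => ⟨h, h1⟩
    rw [← Finset.card_insert_of_notMem (by simp [hW₀] : (1 : G) ∉ W₀), h1, Nat.card_eq_fintype_card,
      Fintype.card_subtype]
  have hb_le : b ≤ ∑ w ∈ W₀, (img w).card := by
    refine le_trans ?_ Finset.card_biUnion_le
    rw [← hb, cnt, Nat.card_eq_fintype_card, Fintype.card_subtype]
    refine Finset.card_le_card fun g hg => ?_
    have hg' : orderOf g = q := (Finset.mem_filter.1 hg).2
    obtain ⟨Q', hQ'⟩ := (IsPGroup.of_card (n := 1)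
      (by rw [Nat.card_zpowers, hg', pow_one] : Nat.card (Subgroup.zpowers g) = q ^ 1)).exists_le_sylow
    obtain ⟨h, rfl⟩ := MulAction.exists_smul_eq G Q Q'
    have hgQ := hQ' (Subgroup.mem_zpowers g)
    rw [Sylow.coe_subgroup_smul, Subgroup.mem_pointwise_smul_iff_inv_smul_mem, ← map_inv,
      MulAut.smul_def, MulAut.conj_apply, inv_inv] at hgQ
    obtain ⟨u, w, rfl⟩ := hdec h
    rw [Finset.mem_biUnion]
    refine ⟨(u : G)⁻¹ * g * u, ?_, ?_⟩
    · simp only [hW₀, Finset.mem_filter, Finset.mem_univ, true_and]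
      refine ⟨?_, fun h1 => hq.out.ne_one ?_⟩
      · have := mul_mem (mul_mem w.2 hgQ) (inv_mem w.2)
        rwa [show (w : G) * (((u : G) * w)⁻¹ * g * ((u : G) * w)) * (w : G)⁻¹ = (u : G)⁻¹ * g * u by
          group] at this
      · rw [← hg', show g = 1 by
          have h2 : g = (u : G) * ((u : G)⁻¹ * g * u) * (u : G)⁻¹ := by group
          rw [h2, h1]; group, orderOf_one]
    · simp only [himg, Finset.mem_image, Finset.mem_univ, true_and]
      exact ⟨u, by group⟩
  have himgle : ∀ w, (img w).card ≤ Nat.card P := fun w => by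
    rw [Nat.card_eq_fintype_card]
    exact Finset.card_image_le
  have himgW : ∀ w ∈ W, p * (img w).card ≤ Nat.card P := by
    intro w hw
    obtain ⟨c, hcP, hc1, hcw⟩ := (Finset.mem_filter.1 hw).2
    have hco : orderOf c = p := orderOf_eq_prime (hPexp c hcP) hc1
    rw [Nat.card_eq_fintype_card, ← Finset.card_univ (α := (P : Subgroup G)),
      Finset.card_eq_sum_card_image (fun u : (P : Subgroup G) => (u : G) * w * (u : G)⁻¹)
        (Finset.univ : Finset (P : Subgroup G)), mul_comm p]
    refine le_trans (le_of_eq ?_) (Finset.card_nsmul_le_sum _ _ p ?_)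
    · rw [smul_eq_mul]
    intro y hy
    obtain ⟨u, -, rfl⟩ := Finset.mem_image.1 hy
    have hcomm : ∀ d ∈ Subgroup.zpowers c, d * w * d⁻¹ = w := fun d hd => by
      obtain ⟨i, rfl⟩ := Subgroup.mem_zpowers_iff.1 hd
      rw [((show Commute c w from hcw).zpow_left i).eq, mul_inv_cancel_right]
    refine le_trans (le_of_eq ?_) (Finset.card_le_card_of_injOn
      (s := (Finset.univ : Finset (Subgroup.zpowers c)))
      (fun d : Subgroup.zpowers c => u * ⟨(d : G), Subgroup.zpowers_le.2 hcP d.2⟩) ?_ ?_)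
    · rw [Finset.card_univ, ← Nat.card_eq_fintype_card, Nat.card_zpowers, hco]
    · intro d _
      simp only [Finset.coe_filter, Finset.mem_univ, true_and, Set.mem_setOf_eq, Subgroup.coe_mul]
      calc (u : G) * (d : G) * w * ((u : G) * (d : G))⁻¹
          = (u : G) * ((d : G) * w * (d : G)⁻¹) * (u : G)⁻¹ := by group
        _ = _ := by rw [hcomm _ d.2]
    · intro d _ d' _ h
      exact Subtype.ext (congrArg (fun y : (P : Subgroup G) => (y : G)) (mul_left_cancel h))
  have hbound : p * b + (p - 1) * (W.card * Nat.card P) ≤ p * (W₀.card * Nat.card P) := by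
    have h1 : ∑ w ∈ W₀, (img w).card =
        ∑ w ∈ W, (img w).card + ∑ w ∈ W₀ \ W, (img w).card := by
      rw [add_comm, Finset.sum_sdiff (Finset.filter_subset _ _)]
    have h2 : p * ∑ w ∈ W, (img w).card ≤ W.card * Nat.card P := by
      rw [Finset.mul_sum]
      exact (Finset.sum_le_card_nsmul _ _ _ himgW).trans (le_of_eq (smul_eq_mul _ _))
    have h3 : ∑ w ∈ W₀ \ W, (img w).card ≤ (W₀ \ W).card * Nat.card P :=
      (Finset.sum_le_card_nsmul _ _ _ fun w _ => himgle w).trans (le_of_eq (smul_eq_mul _ _))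
    have h4 : (W₀ \ W).card + W.card = W₀.card :=
      Finset.card_sdiff_add_card_eq_card (Finset.filter_subset _ _)
    have h5 := Nat.mul_le_mul_left p hb_le
    rw [h1, Nat.mul_add] at h5
    have h6 := Nat.mul_le_mul_left p h3
    obtain ⟨p', rfl⟩ : ∃ p', p = p' + 1 := ⟨p - 1, by omega⟩
    rw [Nat.add_sub_cancel]
    rw [show W₀.card * Nat.card P = (W₀ \ W).card * Nat.card P + W.card * Nat.card P by
      rw [← h4, Nat.add_mul]]
    linarith [h2, h5, h6]
  have hsum' : cnt G (p * q) + b = W₀.card * Nat.card P := by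
    have h1 : Nat.card G = (W₀.card + 1) * Nat.card P := by rw [hn, mul_comm, hmul]
    rw [hsum, add_one_mul, hPcard] at h1
    rw [hPcard]
    linarith
  have hbpos : 0 < b := by
    rw [← hb]; exact Nat.pos_of_ne_zero (cnt_ne_zero_iff.2 (exists_prime_orderOf_dvd_card' q hqG))
  have hapos : 0 < a := by
    rw [← ha]; exact Nat.pos_of_ne_zero (cnt_ne_zero_iff.2 (exists_prime_orderOf_dvd_card' p hpG))
  -- no elements of order `p q`
  have hx0 : W = ∅ := by
    by_contra hne
    obtain ⟨w, hw⟩ := Finset.nonempty_iff_ne_empty.2 hne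
    obtain ⟨hw0, c, hcP, hc1, hcw⟩ := Finset.mem_filter.1 hw
    obtain ⟨hwQ, hw1⟩ := (Finset.mem_filter.1 hw0).2
    have hwo : orderOf w = q := orderOf_eq_prime (hQexp w hwQ) hw1
    have hxne : cnt G (p * q) ≠ 0 := cnt_ne_zero_iff.2 ⟨c * w, by
      rw [(show Commute c w from hcw).orderOf_mul_eq_mul_orderOf_of_coprime]
      · rw [orderOf_eq_prime (hPexp c hcP) hc1, hwo]
      · rw [orderOf_eq_prime (hPexp c hcP) hc1, hwo]
        exact (Nat.coprime_primes hp.out hq.out).2 hpq⟩
    have hW2 : 2 ≤ W.card := by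
      have hinv : w⁻¹ ∈ W := by
        simp only [hW, hW₀, Finset.mem_filter, Finset.mem_univ, true_and]
        exact ⟨⟨inv_mem hwQ, inv_ne_one.2 hw1⟩, c, hcP, hc1, ((show Commute c w from hcw).inv_right).eq⟩
      refine Finset.one_lt_card.2 ⟨w, hw, w⁻¹, hinv, fun h => ?_⟩
      have h2 : w ^ 2 = 1 := by
        rw [pow_two]; nth_rewrite 2 [h]; exact mul_inv_cancel w
      have := Nat.le_of_dvd two_pos (hwo ▸ orderOf_dvd_of_pow_eq_one h2)
      omega
    obtain ⟨p', rfl⟩ : ∃ p', p = p' + 3 := ⟨p - 3, by omega⟩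
    have h9 : p' + 3 - 1 = p' + 2 := by omega
    rw [h9] at hbound
    rcases hx.resolve_left hxne with hxa | hxb
    · rw [hxa] at hsum'
      nlinarith [hbound, hsum', hPcard, Nat.mul_le_mul_right (Nat.card P) hW2]
    · rw [hxb] at hsum'
      rcases Nat.lt_or_ge W.card W₀.card with hlt | hge
      · -- a fixed-point-free element: congruence
        obtain ⟨w₁, hw₁, hw₁W⟩ := Finset.exists_mem_notMem_of_card_lt_card hlt
        obtain ⟨hw₁Q, hw₁1⟩ := (Finset.mem_filter.1 hw₁).2
        have hfix : ∀ u ∈ (P : Subgroup G), u * w₁ = w₁ * u → u = 1 := fun u hu h =>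
          by_contra fun h1 => hw₁W (Finset.mem_filter.2 ⟨hw₁, u, hu, h1, h⟩)
        let φ : Subgroup.zpowers w₁ →* MulAut (P : Subgroup G) :=
          MulAut.conjNormal.comp (Subgroup.zpowers w₁).subtype
        letI := MulAction.compHom (P : Subgroup G) φ
        have hqz : IsPGroup q (Subgroup.zpowers w₁) := IsPGroup.of_card (n := 1)
          (by rw [Nat.card_zpowers, orderOf_eq_prime (hQexp _ hw₁Q) hw₁1, pow_one])
        have h := hqz.card_modEq_card_fixedPoints (P : Subgroup G)
        have hone : Nat.card (MulAction.fixedPoints (Subgroup.zpowers w₁) (P : Subgroup G)) = 1 := by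
          rw [Nat.card_eq_one_iff_unique]
          refine ⟨⟨fun y y' => ?_⟩, ⟨⟨1, fun d => map_one (φ d)⟩⟩⟩
          have key : ∀ y : MulAction.fixedPoints (Subgroup.zpowers w₁) (P : Subgroup G),
              ((y : (P : Subgroup G)) : G) = 1 := fun y => by
            have h3 : φ ⟨w₁, Subgroup.mem_zpowers w₁⟩ (y : (P : Subgroup G)) = (y : (P : Subgroup G)) :=
              y.2 ⟨w₁, Subgroup.mem_zpowers w₁⟩
            have h4 : w₁ * ((y : (P : Subgroup G)) : G) * w₁⁻¹ = ((y : (P : Subgroup G)) : G) :=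
              congrArg Subtype.val h3
            exact hfix _ (y : (P : Subgroup G)).2 (mul_inv_eq_iff_eq_mul.1 h4).symm
          exact Subtype.ext (Subtype.ext ((key y).trans (key y').symm))
        rw [hone, hPcard] at h
        have haq : (a : ZMod q) = 0 := by
          have := (ZMod.natCast_eq_natCast_iff _ _ _).2 h
          push_cast at this
          linear_combination this
        have hbq := cast_cnt_prime hq.out hqG
        rw [hb] at hbq
        have hGq : (Nat.card G : ZMod q) = 0 := (ZMod.natCast_eq_zero_iff _ _).2 hqG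
        rw [hsum, hxb] at hGq
        push_cast at hGq
        rw [haq, hbq] at hGq
        exact neg_ne_zero.2 (one_ne_zero (α := ZMod q)) (by linear_combination hGq)
      · nlinarith [hbound, hsum', hbpos, Nat.mul_le_mul_right (Nat.card P) hge]
  have hfpf : ∀ w ∈ (Q : Subgroup G), w ≠ 1 → ∀ u ∈ (P : Subgroup G), u * w = w * u → u = 1 := by
    intro w hw hw1 u hu h
    by_contra h1
    have hmem : w ∈ W := Finset.mem_filter.2
      ⟨Finset.mem_filter.2 ⟨Finset.mem_univ _, hw, hw1⟩, u, hu, h1, h⟩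
    rw [hx0] at hmem
    exact Finset.notMem_empty _ hmem
  have hPne : (P : Subgroup G) ≠ ⊥ := fun h => by
    have h1 := P.dvd_card_of_dvd_card hpG
    rw [h, Subgroup.card_bot] at h1
    exact hp.out.ne_one (Nat.dvd_one.1 h1)
  have hQne : (Q : Subgroup G) ≠ ⊥ := fun h => by
    have h1 := Q.dvd_card_of_dvd_card hqG
    rw [h, Subgroup.card_bot] at h1
    exact hq.out.ne_one (Nat.dvd_one.1 h1)
  refine ⟨Q, ⟨hQne, fun h => ?_, fun g hg => ?_⟩, ?_⟩
  · have h1 : Nat.card P = 1 := by
      refine hPQ.eq_one_of_dvd ?_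
      rw [h, Subgroup.card_top]
      exact Subgroup.card_subgroup_dvd_card _
    exact hPne (Subgroup.card_eq_one.1 h1)
  · rw [eq_bot_iff]
    intro y hy
    obtain ⟨hy1, hy2⟩ := Subgroup.mem_inf.1 hy
    rw [Subgroup.mem_pointwise_smul_iff_inv_smul_mem, ← map_inv, MulAut.smul_def, MulAut.conj_apply,
      inv_inv] at hy2
    obtain ⟨u, w, rfl⟩ := hdec g
    by_contra hne
    rw [Subgroup.mem_bot] at hne
    have hy3 : (u : G)⁻¹ * y * u ∈ (Q : Subgroup G) := by
      have := mul_mem (mul_mem w.2 hy2) (inv_mem w.2)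
      rwa [show (w : G) * (((u : G) * w)⁻¹ * y * ((u : G) * w)) * (w : G)⁻¹ = (u : G)⁻¹ * y * u by
        group] at this
    have h5 : y⁻¹ * ((u : G)⁻¹ * y * u) ∈ (P : Subgroup G) := by
      rw [show y⁻¹ * ((u : G)⁻¹ * y * u) = (y⁻¹ * (u : G)⁻¹ * y) * u by group]
      refine mul_mem ?_ u.2
      have := hP.conj_mem _ (inv_mem u.2) y⁻¹
      rwa [inv_inv] at this
    have h6 : y⁻¹ * ((u : G)⁻¹ * y * u) = 1 := Subgroup.disjoint_def.1 hcompl.disjoint h5
      (mul_mem (inv_mem hy1) hy3)
    have h7 : (u : G) * y = y * u := by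
      have h8 := (inv_mul_eq_one.1 h6)
      calc (u : G) * y = (u : G) * ((u : G)⁻¹ * y * u) := by rw [← h8]
        _ = y * u := by group
    apply hg
    rw [hfpf y hy1 hne u u.2 h7, one_mul]
    exact w.2
  · -- the complement has order `q`
    haveI : Nontrivial (Q : Subgroup G) := (Subgroup.nontrivial_iff_ne_bot _).2 hQne
    haveI := Q.2.center_nontrivial
    obtain ⟨z, hz⟩ := exists_ne (1 : Subgroup.center (Q : Subgroup G))
    set z' : G := ((z : (Q : Subgroup G)) : G) with hz'
    have hz'1 : z' ≠ 1 := fun h => hz (Subtype.ext (Subtype.ext h))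
    have hz'Q : z' ∈ (Q : Subgroup G) := (z : (Q : Subgroup G)).2
    have hall : (Q : Subgroup G) = Subgroup.zpowers z' := by
      refine le_antisymm (fun w hw => ?_) (Subgroup.zpowers_le.2 hz'Q)
      have hcomm : Commute z' w :=
        (congrArg Subtype.val (Subgroup.mem_center_iff.1 z.2 ⟨w, hw⟩)).symm
      set A := Subgroup.closure ({z', w} : Set G) with hA
      haveI : IsMulCommutative A := Subgroup.isMulCommutative_closure (by
        rintro x (rfl | rfl) y (rfl | rfl) <;> first | rfl | exact hcomm.eq | exact hcomm.symm.eq)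
      have hAQ : A ≤ (Q : Subgroup G) := (Subgroup.closure_le _).2 (by
        rintro x (rfl | rfl) <;> assumption)
      haveI : IsCyclic A := Basics.fpf_abelian_isCyclic A (P : Subgroup G) hPne
        (by rw [Subgroup.normalizer_eq_top]; exact le_top) (fun x hx hx1 => by
          rw [eq_bot_iff]
          intro u hu
          obtain ⟨hu1, hu2⟩ := Subgroup.mem_inf.1 hu
          exact Subgroup.mem_bot.2 (hfpf x (hAQ hx) hx1 u hu1
            (Subgroup.mem_centralizer_singleton_iff.1 hu2)))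
      obtain ⟨d, hd⟩ := IsCyclic.exists_generator (α := A)
      have hdq : Nat.card A ∣ q := by
        rw [← orderOf_eq_card_of_forall_mem_zpowers hd, ← Subgroup.orderOf_coe]
        exact orderOf_dvd_of_pow_eq_one (hQexp _ (hAQ d.2))
      have hzA : Subgroup.zpowers z' ≤ A := Subgroup.zpowers_le.2 (Subgroup.subset_closure (by simp))
      have heq : Subgroup.zpowers z' = A := Subgroup.eq_of_le_of_card_ge hzA (by
        rw [Nat.card_zpowers, orderOf_eq_prime (hQexp _ hz'Q) hz'1]
        exact Nat.le_of_dvd hq.out.pos hdq)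
      rw [heq]
      exact Subgroup.subset_closure (by simp)
    rw [hall, Nat.card_zpowers, orderOf_eq_prime (hQexp _ hz'Q) hz'1]
    exact hq.out

/-- Let G be a finite group of odd order in which the numbers of elements of each order that occurs (the numbers #{g : o(g) = m}, m ranging over the element orders of G) take exactly three different values. Then the order of G has at most two prime divisors; and if it has exactly two, then every Sylow subgroup of G for a prime dividing its order has prime exponent, G is a Frobenius group, and some Frobenius complement of G has prime order. -/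
theorem result {G : Type*} [Group G] [Finite G] (hodd : Odd (Nat.card G)) (h : (((fun m : ℕ => Nat.card {g : G // orderOf g = m}) '' Set.range (orderOf : G → ℕ))).ncard = 3) :
    (Nat.card G).primeFactors.card ≤ 2 ∧
      ((Nat.card G).primeFactors.card = 2 →
        (∀ (p : ℕ) [Fact p.Prime] (P : Sylow p G), p ∣ Nat.card G → Monoid.exponent ↥(P : Subgroup G) = p) ∧
        ∃ C : Subgroup G, Cfsg.IsFrobeniusComplement C ∧ (Nat.card ↥C).Prime) := by
  classical
  set V := (fun m : ℕ => Nat.card {g : G // orderOf g = m}) '' Set.range (orderOf : G → ℕ) with hV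
  have hne2 : ∀ x, x ∣ Nat.card G → x ≠ 2 := fun x hx h => by
    subst h; exact Nat.not_even_iff_odd.2 hodd (even_iff_two_dvd.2 hx)
  have h1V : 1 ∈ V := ⟨1, ⟨1, orderOf_one⟩, cnt_one⟩
  have h2V : (V \ {1}).ncard = 2 := by rw [Set.ncard_sdiff_singleton_of_mem h1V, h]
  obtain ⟨a, b, hab, hVab⟩ := Set.ncard_eq_two.1 h2V
  have hv : ∀ d, 1 < d → cnt G d = 0 ∨ cnt G d = a ∨ cnt G d = b := by
    intro d hd
    rcases eq_or_ne (cnt G d) 0 with h0 | h0
    · exact Or.inl h0
    refine Or.inr ?_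
    obtain ⟨g, hg⟩ := cnt_ne_zero_iff.1 h0
    have hodd' : Odd d := hodd.of_dvd_nat (hg ▸ orderOf_dvd_natCard g)
    have h1 : cnt G d ≠ 1 := fun h1 => by
      have h2 : 2 ∣ d.totient := (Nat.totient_even (by rcases hodd' with ⟨c, rfl⟩; omega)).two_dvd
      have := h2.trans (totient_dvd_cnt (G := G) d)
      omega
    have : cnt G d ∈ V \ {1} := ⟨⟨d, ⟨g, hg⟩, rfl⟩, h1⟩
    rw [hVab] at this
    simpa using this
  have hvo : ∀ d, 1 < d → Odd d → cnt G d = 0 ∨ cnt G d = a ∨ cnt G d = b := fun d h1 _ => hv d h1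
  refine ⟨card_primeFactors_le hodd hvo, fun h2 => ?_⟩
  obtain ⟨p, q, hpq, hpf⟩ := Finset.card_eq_two.1 h2
  have hmemf : ∀ {x : ℕ}, x.Prime → x ∣ Nat.card G → x = p ∨ x = q := fun {x} hx hxG => by
    have := Nat.mem_primeFactors.2 ⟨hx, hxG, Nat.card_pos.ne'⟩
    rw [hpf] at this
    simpa using this
  obtain ⟨hp, hpG, -⟩ := Nat.mem_primeFactors.1 (by rw [hpf]; simp : p ∈ (Nat.card G).primeFactors)
  obtain ⟨hq, hqG, -⟩ := Nat.mem_primeFactors.1 (by rw [hpf]; simp : q ∈ (Nat.card G).primeFactors)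
  haveI := Fact.mk hp
  haveI := Fact.mk hq
  have hval : ∀ {x : ℕ}, x.Prime → x ∣ Nat.card G → cnt G x = a ∨ cnt G x = b := fun {x} hx hxG =>
    (hv x hx.one_lt).resolve_left
      (cnt_ne_zero_iff.2 (exists_prime_orderOf_dvd_card' (hp := ⟨hx⟩) x hxG))
  wlog hcl : cnt G p = a ∧ cnt G q = b generalizing a b
  · rcases hval hp hpG with hpa | hpb <;> rcases hval hq hqG with hqa | hqb
    · exact absurd (not_all_same hodd hvo (fun r hr hrG => by
        rcases hmemf hr hrG with rfl | rfl <;> assumption) hp hq hpq hpG hqG) not_false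
    · exact absurd ⟨hpa, hqb⟩ hcl
    · exact this b a hab.symm (by rw [hVab, Set.pair_comm]) (fun d hd => (hv d hd).imp_right Or.symm)
        (fun d h1 h2 => (hvo d h1 h2).imp_right Or.symm) (fun hx hxG => (hval hx hxG).symm) ⟨hpb, hqa⟩
    · exact absurd (not_all_same hodd (fun d h1 h2 => (hvo d h1 h2).imp_right Or.symm)
        (fun r hr hrG => by
        rcases hmemf hr hrG with rfl | rfl <;> assumption) hp hq hpq hpG hqG) not_false
  obtain ⟨ha, hb⟩ := hcl
  have hp2 := hne2 p hpG
  have hq2 := hne2 q hqG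
  have hsqp : cnt G (p ^ 2) = 0 := sq_absent hp hq hq2 hpq hv hpG hqG ha hb
  have hsqq : cnt G (q ^ 2) = 0 :=
    sq_absent hq hp hp2 hpq.symm (fun d hd => (hv d hd).imp_right Or.symm) hqG hpG hb ha
  have hsq : ∀ r, (r = p ∨ r = q) → ∀ g : G, ¬ r ^ 2 ∣ orderOf g := by
    intro r hr g hd
    refine cnt_ne_zero_iff.2 ⟨g ^ (orderOf g / r ^ 2),
      orderOf_pow_orderOf_div (orderOf_pos g).ne' hd⟩ ?_
    rcases hr with rfl | rfl <;> assumption
  have hord : ∀ g : G, g ^ (p * q) = 1 := by
    intro g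
    rw [← orderOf_dvd_iff_pow_eq_one, ← Nat.factorization_le_iff_dvd (orderOf_pos g).ne'
      (Nat.mul_ne_zero hp.ne_zero hq.ne_zero)]
    intro r
    rcases eq_or_ne ((orderOf g).factorization r) 0 with h0 | h0
    · rw [h0]; exact Nat.zero_le _
    have hr : r ∈ (orderOf g).primeFactors := by
      rw [← Nat.support_factorization]; exact Finsupp.mem_support_iff.2 h0
    have hr' := hmemf (Nat.prime_of_mem_primeFactors hr)
      ((Nat.dvd_of_mem_primeFactors hr).trans (orderOf_dvd_natCard g))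
    have hle : (orderOf g).factorization r ≤ 1 := by
      by_contra h2
      exact hsq r hr' g ((pow_dvd_pow r (by omega)).trans (Nat.ordProj_dvd _ r))
    rw [Nat.factorization_mul hp.ne_zero hq.ne_zero, hp.factorization, hq.factorization,
      Finsupp.add_apply]
    rcases hr' with rfl | rfl <;> rw [Finsupp.single_eq_same] <;> omega
  have hnd : ¬ q ∣ p := fun h => hpq ((Nat.prime_dvd_prime_iff_eq hq hp).1 h).symm
  have hsum : Nat.card G = 1 + a + b + cnt G (p * q) := by
    rw [← Nat.card_congr (Equiv.subtypeUnivEquiv hord), sum_cnt (Nat.mul_ne_zero hp.ne_zero hq.ne_zero),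
      sum_divisors_mul hq hnd, hp.divisors,
      Finset.sum_insert (by simpa using hp.ne_one.symm), Finset.sum_singleton,
      Finset.sum_insert (by simpa using hp.ne_one.symm), Finset.sum_singleton, cnt_one, one_mul, ha, hb]
    ring
  have hexp : ∀ {r : ℕ} [Fact r.Prime], (r = p ∨ r = q) → ∀ (R : Sylow r G), ∀ x ∈ (R : Subgroup G),
      x ^ r = 1 := by
    intro r hrf hr R x hx
    obtain ⟨i, hi⟩ := R.2 ⟨x, hx⟩
    obtain ⟨j, -, hj⟩ := (Nat.dvd_prime_pow hrf.out).1
      (orderOf_dvd_of_pow_eq_one (congrArg Subtype.val hi : x ^ r ^ i = 1))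
    have hj1 : j ≤ 1 := by
      by_contra hj'
      exact hsq r hr x (hj ▸ pow_dvd_pow r (by omega))
    rw [← orderOf_dvd_iff_pow_eq_one, hj]
    exact (pow_dvd_pow r hj1).trans (dvd_of_eq (pow_one r))
  refine ⟨fun r hrf R hrG => ?_, ?_⟩
  · refine ((Nat.dvd_prime hrf.out).1 (Monoid.exponent_dvd_of_forall_pow_eq_one fun x =>
      Subtype.ext (hexp (hmemf hrf.out hrG) R x x.2))).resolve_left fun h1 => ?_
    have hsub := Monoid.exp_eq_one_iff.1 h1
    have h3 := R.dvd_card_of_dvd_card hrG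
    rw [Nat.card_eq_one_iff_unique.2 ⟨hsub, inferInstance⟩] at h3
    exact hrf.out.ne_one (Nat.dvd_one.1 h3)
  have hpf' : (Nat.card G).primeFactors = {q, p} := by rw [hpf, Finset.pair_comm]
  have hx := hv (p * q) (one_lt_mul'' hp.one_lt hq.one_lt)
  rcases normal_or_le (p := p) (q := q) hpq hodd hpf (hexp (Or.inl rfl)) with ⟨Q, hQ⟩ | h1
  · exact normal_case hpq.symm hq2 hp2 hqG hpG (fun g => by rw [mul_comm]; exact hord g)
      (by rw [hsum, mul_comm q p]; ring) (by rw [mul_comm]; exact hx.imp_right Or.symm) hb ha Q hQ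
  rcases normal_or_le (p := q) (q := p) hpq.symm hodd hpf' (hexp (Or.inr rfl)) with ⟨P, hP⟩ | h2
  · exact normal_case hpq hp2 hq2 hpG hqG hord hsum hx ha hb P hP
  exfalso
  rw [ha] at h1
  rw [hb] at h2
  have hp3 : 3 ≤ p := by have := hp.two_le; omega
  have hq3 : 3 ≤ q := by have := hq.two_le; omega
  have h1' : 3 * (1 + a) ≤ Nat.card G := le_trans (Nat.mul_le_mul_right _ hq3) h1
  have h2' : 3 * (1 + b) ≤ Nat.card G := le_trans (Nat.mul_le_mul_right _ hp3) h2
  rcases hx with h | h | h <;> rw [h] at hsum <;> omega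

end Cfsg.Agent.S4004
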