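import Cfsg.Statements.S4005
import Cfsg.Agent.Lib.CT.Integral
import Cfsg.Agent.Lib.Basics.Tools
import Cfsg.Agent.Lib.Basics.FpfAbelian
-- import your own Cfsg.Agent.* helpers here

set_option autoImplicit false
open Cfsg

namespace Cfsg.Agent.S4005

/-- A finite group whose set of element orders is exactly {1, 2, 3} has either a normal elementary abelian 3-subgroup of index 2 or a normal elementary abelian 2-subgroup of index 3. -/
theorem result {G : Type*} [Group G] [Finite G] (h : Set.range (orderOf : G → ℕ) = {k : ℕ | 1 ≤ k ∧ k ≤ 3}) :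
    (∃ N : Subgroup G, N.Normal ∧ Cfsg.IsElementaryAbelian 3 N ∧ N.index = 2) ∨
      (∃ N : Subgroup G, N.Normal ∧ Cfsg.IsElementaryAbelian 2 N ∧ N.index = 3) := by
  classical
  have hord : ∀ g : G, orderOf g = 1 ∨ orderOf g = 2 ∨ orderOf g = 3 := fun g => by
    have h1 : orderOf g ∈ Set.range (orderOf : G → ℕ) := ⟨g, rfl⟩
    rw [h] at h1
    simp only [Set.mem_setOf_eq] at h1
    omega
  have hex : ∀ k : ℕ, 1 ≤ k → k ≤ 3 → ∃ g : G, orderOf g = k := fun k h1 h2 => by
    have : k ∈ {k : ℕ | 1 ≤ k ∧ k ≤ 3} := ⟨h1, h2⟩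
    rw [← h] at this
    exact this
  haveI := Fact.mk Nat.prime_two
  haveI := Fact.mk Nat.prime_three
  have hprimes : ∀ r : ℕ, r.Prime → r ∣ Nat.card G → r = 2 ∨ r = 3 := fun r hr hrd => by
    haveI := Fact.mk hr
    obtain ⟨g, hg⟩ := exists_prime_orderOf_dvd_card' (G := G) r hrd
    rcases hord g with h1 | h1 | h1 <;> rw [hg] at h1
    · exact absurd h1 hr.ne_one
    · exact Or.inl h1
    · exact Or.inr h1
  set a := (Nat.card G).factorization 2
  set b := (Nat.card G).factorization 3
  have hcard : Nat.card G = 2 ^ a * 3 ^ b := by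
    conv_lhs => rw [← Nat.prod_factorization_pow_eq_self (n := Nat.card G) Nat.card_pos.ne']
    rw [Finsupp.prod_of_support_subset _ (s := ({2, 3} : Finset ℕ)) ?_ _ (fun _ _ => pow_zero _)]
    · rw [Finset.prod_pair (by norm_num : (2 : ℕ) ≠ 3)]
    · intro r hr
      rw [Nat.support_factorization, Nat.mem_primeFactors] at hr
      simp only [Finset.mem_insert, Finset.mem_singleton]
      exact hprimes r hr.1 hr.2.1
  haveI : Group.IsSolvable G := CT.isSolvable_of_card_two_primes Nat.prime_two Nat.prime_three _ G a b rfl hcard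
  obtain ⟨t0, ht0⟩ := hex 3 (by norm_num) le_rfl
  obtain ⟨s0, hs0⟩ := hex 2 (by norm_num) (by norm_num)
  haveI : Nontrivial G := ⟨⟨t0, 1, fun h1 => by rw [h1, orderOf_one] at ht0; omega⟩⟩
  -- no element of order six
  have hno : ∀ x y : G, orderOf x = 2 → orderOf y = 3 → ¬ Commute x y := fun x y hx hy hc => by
    have h6 := hc.orderOf_mul_eq_mul_orderOf_of_coprime (by rw [hx, hy]; norm_num)
    rw [hx, hy] at h6
    rcases hord (x * y) with h1 | h1 | h1 <;> omega
  have hexp : ∀ (q : ℕ), q = 2 ∨ q = 3 → ∀ (g : G) (k : ℕ), orderOf g ∣ q ^ k → g ^ q = 1 := by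
    intro q hq g k hk
    rw [← orderOf_dvd_iff_pow_eq_one]
    rcases hord g with h1 | h1 | h1 <;> rw [h1] at hk ⊢
    · exact one_dvd q
    · rcases hq with rfl | rfl
      · exact dvd_rfl
      · exact absurd (Nat.prime_two.dvd_of_dvd_pow hk) (by norm_num)
    · rcases hq with rfl | rfl
      · exact absurd (Nat.prime_three.dvd_of_dvd_pow hk) (by norm_num)
      · exact dvd_rfl
  obtain ⟨p, N, hp, hNn, hN1, hNp⟩ := Basics.exists_normal_pGroup (G := G)
  haveI := hNn
  haveI := Fact.mk hp
  -- a group acting freely on `N` of exponent `q` has order at most `q`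
  have hsmall : ∀ (q : ℕ), (q = 2 ∨ q = 3) → q ≠ p → ∀ T : Subgroup G, IsPGroup q T → Nat.card T ∣ q := by
    intro q hq hqp T hT
    haveI : Fact q.Prime := ⟨by rcases hq with rfl | rfl <;> norm_num⟩
    have hfree : ∀ h ∈ T, h ≠ 1 → N ⊓ Subgroup.centralizer {h} = ⊥ := by
      intro x hx hx1
      rw [Subgroup.eq_bot_iff_forall]
      rintro n ⟨hn, hnx⟩
      by_contra hn1
      have hc : Commute n x := Subgroup.mem_centralizer_singleton_iff.mp hnx
      obtain ⟨k, hk⟩ := IsPGroup.iff_orderOf.mp hT ⟨x, hx⟩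
      obtain ⟨l, hl⟩ := IsPGroup.iff_orderOf.mp hNp ⟨n, hn⟩
      rw [Subgroup.orderOf_mk] at hk hl
      have hxq := hexp q hq x k hk.dvd
      have hox : orderOf x = q := orderOf_eq_prime hxq hx1
      have hnp : n ^ p = 1 := by
        refine hexp p (hprimes p hp ?_) n l hl.dvd
        obtain ⟨m, hm⟩ := hNp.exists_card_eq
        rcases m with _ | m
        · exact absurd (Subgroup.card_eq_one.mp (by rw [hm, pow_zero])) hN1
        · exact (hm ▸ dvd_pow_self p (Nat.succ_ne_zero m)).trans (Subgroup.card_subgroup_dvd_card N)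
      have hon : orderOf n = p := orderOf_eq_prime hnp hn1
      have hp23 : p = 2 ∨ p = 3 := hprimes p hp (hon ▸ _root_.orderOf_dvd_natCard n)
      rcases hq with rfl | rfl <;> rcases hp23 with rfl | rfl
      · exact hqp rfl
      · exact hno x n hox hon hc.symm
      · exact hno n x hon hox hc
      · exact hqp rfl
    obtain ⟨P⟩ : Nonempty (Sylow q T) := inferInstance
    have hPtop : (P : Subgroup T) = ⊤ := P.3 (hT.to_subgroup ⊤) le_top |>.symm
    have hTc : IsCyclic T := by
      rcases Basics.fpf_sylow_cyclic_or_quaternion N T hN1 hfree q P with hc | ⟨hq2, n, ⟨e⟩⟩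
      · exact isCyclic_of_surjective ((Subgroup.topEquiv).toMonoidHom.comp (MulEquiv.subgroupCongr hPtop).toMonoidHom)
          ((Subgroup.topEquiv).surjective.comp (MulEquiv.subgroupCongr hPtop).surjective)
      · exfalso
        haveI : NeZero (2 ^ n) := ⟨pow_ne_zero n two_ne_zero⟩
        have h4 : orderOf (QuaternionGroup.xa (0 : ZMod (2 * 2 ^ n))) = 4 := QuaternionGroup.orderOf_xa 0
        have h5 : orderOf (((e.symm (QuaternionGroup.xa 0) : (P : Subgroup T)) : T) : G) = 4 := by
          rw [Subgroup.orderOf_coe, Subgroup.orderOf_coe, MulEquiv.orderOf_eq, h4]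
        rcases hord (((e.symm (QuaternionGroup.xa 0) : (P : Subgroup T)) : T) : G) with h1 | h1 | h1 <;> omega
    obtain ⟨g, hg⟩ := hTc.exists_ofOrder_eq_natCard
    obtain ⟨k, hk⟩ := IsPGroup.iff_orderOf.mp hT g
    rw [← hg, ← Subgroup.orderOf_coe, orderOf_dvd_iff_pow_eq_one]
    exact hexp q hq g k (by rw [Subgroup.orderOf_coe, hk])
  have hp23 : p = 2 ∨ p = 3 := by
    obtain ⟨m, hm⟩ := hNp.exists_card_eq
    rcases m with _ | m
    · exact absurd (Subgroup.card_eq_one.mp (by rw [hm, pow_zero])) hN1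
    · exact hprimes p hp ((hm ▸ dvd_pow_self p (Nat.succ_ne_zero m)).trans (Subgroup.card_subgroup_dvd_card N))
  obtain ⟨S⟩ : Nonempty (Sylow 2 G) := inferInstance
  obtain ⟨T⟩ : Nonempty (Sylow 3 G) := inferInstance
  rcases hp23 with rfl | rfl
  · right
    have hT3 : Nat.card (T : Subgroup G) = 3 := by
      rcases (Nat.dvd_prime Nat.prime_three).mp (hsmall 3 (Or.inr rfl) (by norm_num) T T.2) with h1 | h1
      · exfalso
        have h3 : 3 ∣ Nat.card (T : Subgroup G) := T.dvd_card_of_dvd_card (ht0 ▸ _root_.orderOf_dvd_natCard t0)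
        rw [h1] at h3; omega
      · exact h1
    haveI : IsCyclic (T : Subgroup G) := isCyclic_of_prime_card hT3
    obtain ⟨t, ht⟩ := IsCyclic.exists_ofOrder_eq_natCard (α := (T : Subgroup G))
    rw [hT3, ← Subgroup.orderOf_coe] at ht
    have hgen : ∀ u ∈ (T : Subgroup G), ∃ j : ℤ, (t : G) ^ j = u := fun u hu => by
      have : Subgroup.zpowers (t : G) = (T : Subgroup G) :=
        Subgroup.eq_of_le_of_card_ge (Subgroup.zpowers_le.mpr t.2) (by rw [Nat.card_zpowers, ht, hT3])
      exact Subgroup.mem_zpowers_iff.mp (this.symm ▸ hu)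
    have hNC : Subgroup.normalizer ((T : Subgroup G) : Set G) ≤ Subgroup.centralizer ((T : Subgroup G) : Set G) := by
      intro x hx
      rw [Subgroup.mem_centralizer_iff]
      intro u hu
      obtain ⟨j, rfl⟩ := hgen u hu
      refine ((?_ : Commute (t : G) x).zpow_left j).eq
      by_contra hne
      obtain ⟨i, hi⟩ := hgen _ ((Subgroup.mem_normalizer_iff.mp hx _).mp t.2)
      rw [← zpow_mod_orderOf, ht] at hi
      have hcases : i % ((3 : ℕ) : ℤ) = 0 ∨ i % ((3 : ℕ) : ℤ) = 1 ∨ i % ((3 : ℕ) : ℤ) = 2 := by omega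
      rcases hcases with h1 | h1 | h1 <;> rw [h1] at hi
      · rw [zpow_zero] at hi
        have : (t : G) = 1 := conj_eq_one_iff.mp hi.symm
        rw [this, orderOf_one] at ht; omega
      · rw [zpow_one] at hi
        exact hne (show (t : G) * x = x * t from (eq_mul_inv_iff_mul_eq.mp hi))
      · have htinv : (t : G) ^ (2 : ℤ) = (t : G)⁻¹ := by
          refine eq_inv_of_mul_eq_one_left ?_
          have h3 : (t : G) ^ 3 = 1 := by have := pow_orderOf_eq_one (t : G); rwa [ht] at this
          rw [show (2 : ℤ) = ((2 : ℕ) : ℤ) from rfl, zpow_natCast, ← pow_succ, h3]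
        rw [htinv] at hi
        have ht1 : (t : G) ≠ (t : G)⁻¹ := fun e => by
          have : orderOf (t : G) ∣ 2 := orderOf_dvd_of_pow_eq_one (by rw [pow_two]; nth_rewrite 2 [e]; rw [mul_inv_cancel])
          rw [ht] at this; omega
        rcases hord x with hx1 | hx1 | hx1
        · rw [orderOf_eq_one_iff] at hx1
          exact hne (by rw [hx1]; exact Commute.one_right _)
        · -- `x` and its conjugate centralize `N`
          have hcN : ∀ y : G, orderOf y = 2 → ∀ n ∈ N, Commute y n := by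
            intro y hy n hn
            have hY : IsPGroup 2 (Subgroup.zpowers y) := IsPGroup.of_card (n := 1) (by rw [Nat.card_zpowers, hy, pow_one])
            have hU : IsPGroup 2 (Subgroup.zpowers y ⊔ N : Subgroup G) := hY.to_sup_of_normal_right hNp
            have hsq : ∀ u ∈ (Subgroup.zpowers y ⊔ N : Subgroup G), u * u = 1 := fun u hu => by
              obtain ⟨k, hk⟩ := IsPGroup.iff_orderOf.mp hU ⟨u, hu⟩
              rw [Subgroup.orderOf_mk] at hk
              rw [← pow_two]; exact hexp 2 (Or.inl rfl) u k hk.dvd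
            have h1 := Subgroup.mem_sup_left (T := N) (Subgroup.mem_zpowers y)
            have h2 := Subgroup.mem_sup_right (S := Subgroup.zpowers y) hn
            have e := hsq _ (mul_mem h1 h2)
            have ey := inv_eq_of_mul_eq_one_right (hsq _ h1)
            have en := inv_eq_of_mul_eq_one_right (hsq _ h2)
            show y * n = n * y
            rw [← inv_eq_of_mul_eq_one_right e, mul_inv_rev, ey, en]
          obtain ⟨n, hn, hn1⟩ := (Subgroup.bot_or_exists_ne_one N).resolve_left hN1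
          have hon : orderOf n = 2 := by
            obtain ⟨k, hk⟩ := IsPGroup.iff_orderOf.mp hNp ⟨n, hn⟩
            rw [Subgroup.orderOf_mk] at hk
            exact orderOf_eq_prime (hexp 2 (Or.inl rfl) n k hk.dvd) hn1
          have hxt : orderOf ((t : G) * x * (t : G)⁻¹) = 2 :=
            (orderOf_injective (MulAut.conj (t : G)).toMonoidHom (MulAut.conj (t : G)).injective x).trans hx1
          have hc := (hcN _ hxt n hn).mul_left (hcN x hx1 n hn)
          have hxx : x * x = 1 := by rw [← pow_two, ← hx1]; exact pow_orderOf_eq_one x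
          have e : (t : G) * x * (t : G)⁻¹ * x = (t : G) * (t : G) := by
            have h7 : x * (t : G)⁻¹ * x⁻¹ = (t : G) := by
              rw [show x * (t : G)⁻¹ * x⁻¹ = (x * t * x⁻¹)⁻¹ by group, ← hi, inv_inv]
            rw [inv_eq_of_mul_eq_one_right hxx] at h7
            rw [mul_assoc (t : G) x, mul_assoc (t : G), h7]
          rw [e] at hc
          have hot : orderOf ((t : G) * (t : G)) = 3 := by
            rw [← pow_two, orderOf_pow' _ two_ne_zero, ht]; rfl
          exact hno n ((t : G) * (t : G)) hon hot hc.symm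
        · have h3 : x ^ 3 = 1 := hx1 ▸ pow_orderOf_eq_one x
          refine ht1 ?_
          have step : x * (t : G)⁻¹ * x⁻¹ = (t : G) := by
            rw [show x * (t : G)⁻¹ * x⁻¹ = (x * t * x⁻¹)⁻¹ by group, ← hi, inv_inv]
          calc (t : G) = x ^ 3 * t * (x ^ 3)⁻¹ := by rw [h3]; group
            _ = x * (x * (x * t * x⁻¹) * x⁻¹) * x⁻¹ := by rw [pow_succ x 2, pow_two]; group
            _ = (t : G)⁻¹ := by rw [← hi, step, ← hi]
    obtain hker := MonoidHom.ker_transferSylow_isComplement' T hNC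
    set M := (MonoidHom.transferSylow T hNC).ker
    have hMi : M.index = 3 := by rw [hker.symm.index_eq_card, hT3]
    refine ⟨M, MonoidHom.normal_ker _, ⟨⟨⟨fun u v => ?_⟩⟩, fun u hu => ?_⟩, hMi⟩
    all_goals
      have hM2 : ∀ u ∈ M, u ^ 2 = 1 := by
        intro u hu
        rcases hord u with h1 | h1 | h1
        · rw [orderOf_eq_one_iff.mp h1, one_pow]
        · exact h1 ▸ pow_orderOf_eq_one u
        · exfalso
          have hd : 3 ∣ Nat.card M := h1 ▸ (Subgroup.orderOf_mk u hu) ▸ _root_.orderOf_dvd_natCard (⟨u, hu⟩ : M)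
          rw [← hker.index_eq_card] at hd
          exact T.not_dvd_index hd
    · refine Subtype.ext ?_
      have e := hM2 _ (mul_mem u.2 v.2)
      rw [pow_two] at e
      have eu := inv_eq_of_mul_eq_one_right (pow_two (u : G) ▸ hM2 _ u.2)
      have ev := inv_eq_of_mul_eq_one_right (pow_two (v : G) ▸ hM2 _ v.2)
      show (u : G) * v = v * u
      rw [← inv_eq_of_mul_eq_one_right e, mul_inv_rev, eu, ev]
    · exact hM2 u hu
  · left
    have hS2 : Nat.card (S : Subgroup G) = 2 := by
      rcases (Nat.dvd_prime Nat.prime_two).mp (hsmall 2 (Or.inl rfl) (by norm_num) S S.2) with h1 | h1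
      · exfalso
        have h3 : 2 ∣ Nat.card (S : Subgroup G) := S.dvd_card_of_dvd_card (hs0 ▸ _root_.orderOf_dvd_natCard s0)
        rw [h1] at h3; omega
      · exact h1
    have hTi : (T : Subgroup G).index = 2 := by
      have h1 := (T : Subgroup G).card_mul_index
      rw [T.card_eq_multiplicity] at h1
      replace h1 := h1.trans (hcard.trans (mul_comm (2 ^ a) (3 ^ b)))
      rw [S.card_eq_multiplicity] at hS2
      have h2 : a = 1 := by
        have : (2 : ℕ) ^ a = 2 ^ 1 := hS2
        exact Nat.pow_right_injective le_rfl this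
      rw [Nat.eq_of_mul_eq_mul_left (pow_pos (by norm_num) _) (show 3 ^ b * (T : Subgroup G).index = 3 ^ b * 2 ^ a from h1), h2, pow_one]
    have hTn : (T : Subgroup G).Normal := Subgroup.normal_of_index_eq_two hTi
    have hT3 : ∀ u ∈ (T : Subgroup G), u ^ 3 = 1 := fun u hu => by
      obtain ⟨k, hk⟩ := IsPGroup.iff_orderOf.mp T.2 ⟨u, hu⟩
      rw [Subgroup.orderOf_mk] at hk
      exact hexp 3 (Or.inr rfl) u k hk.dvd
    refine ⟨T, hTn, ⟨⟨⟨fun u v => ?_⟩⟩, hT3⟩, hTi⟩
    let ψ : (T : Subgroup G) →* (T : Subgroup G) :=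
      MonoidHom.mk' (fun r => ⟨s0 * r * s0⁻¹, hTn.conj_mem r r.2 s0⟩)
        (fun a b => Subtype.ext (by show s0 * ((a : G) * b) * s0⁻¹ = (s0 * a * s0⁻¹) * (s0 * b * s0⁻¹); group))
    refine MonoidHom.FixedPointFree.commute_all_of_involutive (φ := ψ) (fun z hz => ?_) (fun z => Subtype.ext ?_) u v
    · by_contra hz1
      have hz' : s0 * (z : G) * s0⁻¹ = z := congrArg Subtype.val hz
      exact hno s0 z hs0 (orderOf_eq_prime (hT3 z z.2) (fun e => hz1 (Subtype.ext e))) (mul_inv_eq_iff_eq_mul.mp hz')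
    · have hss : s0 * s0 = 1 := by rw [← pow_two, ← hs0]; exact pow_orderOf_eq_one s0
      show s0 * (s0 * (z : G) * s0⁻¹) * s0⁻¹ = z
      rw [show s0 * (s0 * (z : G) * s0⁻¹) * s0⁻¹ = (s0 * s0) * z * (s0 * s0)⁻¹ by group, hss]; group
end Cfsg.Agent.S4005
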