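import Cfsg.Statements.S4006
import Cfsg.Agent.Lib.FGB.EngelTwo
import Cfsg.Agent.Lib.FGB.SameOrderSizes
import Cfsg.Agent.Lib.Basics.Tools
import Cfsg.Agent.Lib.Basics.Cores
import Cfsg.Agent.Lib.Basics.FpfAbelian

set_option autoImplicit false
open Cfsg

namespace Cfsg.Agent.S4006

open scoped commutatorElement

universe u

variable {G : Type u} [Group G] [Finite G]

theorem pow_three_expand {t x : G} (ht : t ^ 3 = 1) :
    (x * t) ^ 3 = x * (t * x * t⁻¹) * (t⁻¹ * x * t) := by
  have h : t * t = t⁻¹ := eq_inv_of_mul_eq_one_left (by rw [← ht, pow_succ, pow_two])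
  calc (x * t) ^ 3 = x * (t * x * t⁻¹) * ((t * t) * x * (t * t)⁻¹) * t ^ 3 := by
        rw [pow_succ, pow_two, pow_succ, pow_two]; group
    _ = _ := by rw [h, ht, inv_inv, mul_one]

/-- An element of order three with all `(x t) ^ 3 = 1` on a normal subgroup: class at most two. -/
theorem class_two_of_three {V : Subgroup G} [V.Normal] {t : G} (ht : t ^ 3 = 1)
    (h1 : ∀ x ∈ V, (x * t) ^ 3 = 1) (h2 : ∀ x ∈ V, (x * t⁻¹) ^ 3 = 1)
    (h3 : ∀ x ∈ V, x ^ 3 = 1 → x = 1) :
    ∀ x ∈ V, ∀ y ∈ V, ∀ z ∈ V, Commute ⁅y, z⁆ x := by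
  have hself : ∀ s : G, s ^ 3 = 1 → (∀ x ∈ V, (x * s) ^ 3 = 1) →
      ∀ x ∈ V, Commute x (s * x * s⁻¹) := by
    intro s hs hx x hxV
    have e1 : s⁻¹ * x * s = (x * (s * x * s⁻¹))⁻¹ := by
      have h := hx x hxV
      rw [pow_three_expand hs] at h
      exact (inv_eq_of_mul_eq_one_right h).symm
    have e2 : s⁻¹ * x * s = ((s * x * s⁻¹) * x)⁻¹ := by
      have h := hx x⁻¹ (inv_mem hxV)
      rw [pow_three_expand hs] at h
      have h' := congrArg (·⁻¹) (inv_eq_of_mul_eq_one_right h)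
      simp only [inv_inv] at h'
      calc s⁻¹ * x * s = (s⁻¹ * x⁻¹ * s)⁻¹ := by group
        _ = x⁻¹ * (s * x⁻¹ * s⁻¹) := h'.symm
        _ = _ := by group
    exact inv_injective (e1.symm.trans e2)
  -- `x` commutes with the twisted conjugates
  have hconj : ∀ s : G, s ^ 3 = 1 → (∀ x ∈ V, (x * s) ^ 3 = 1) →
      ∀ h ∈ V, ∀ x ∈ V, Commute x (s * (h * x * h⁻¹) * s⁻¹) := by
    intro s hs hx h hh x hxV
    have h0 : s * h = (s * h * s⁻¹) * s := by group
    have hmem : s * h * s⁻¹ ∈ V := (inferInstance : V.Normal).conj_mem h hh s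
    have := hself (s * h) (by rw [h0]; exact hx _ hmem) (fun y hy => by
      rw [h0, ← mul_assoc]; exact hx _ (mul_mem hy hmem)) x hxV
    rwa [show s * h * x * (s * h)⁻¹ = s * (h * x * h⁻¹) * s⁻¹ by group] at this
  have heng : ∀ x g : V, Commute x (g * x * g⁻¹) := by
    rintro ⟨x, hx⟩ ⟨g, hg⟩
    refine Subtype.ext (?_ : Commute x (g * x * g⁻¹))
    have hy : g * x * g⁻¹ ∈ V := (inferInstance : V.Normal).conj_mem x hx g
    have h := h1 _ hy
    rw [pow_three_expand ht, mul_assoc] at h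
    rw [eq_inv_of_mul_eq_one_left h]
    refine (Commute.mul_right (hconj t ht h1 g hg x hx) ?_).inv_right
    have := hconj t⁻¹ (by rw [inv_pow, ht, inv_one]) h2 g hg x hx
    rwa [inv_inv] at this
  intro x hx y hy z hz
  exact congrArg Subtype.val (Cfsg.Agent.FGB.EngelTwo.commute_commutator heng
    (fun w hw => Subtype.ext (h3 w w.2 (congrArg Subtype.val hw))) ⟨x, hx⟩ ⟨y, hy⟩ ⟨z, hz⟩)

/-- An involution inverting a fixed-point-free element of order three, with exponent four. -/
theorem sq_eq_one {V : Subgroup G} [V.Normal] {t s : G} (ht : t ^ 3 = 1) (hs : s * s = 1)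
    (hst : s * t * s⁻¹ = t⁻¹) (h1 : ∀ x ∈ V, (x * t) ^ 3 = 1) (h2 : ∀ x ∈ V, (x * t⁻¹) ^ 3 = 1)
    (h3 : ∀ x ∈ V, x ^ 3 = 1 → x = 1) (h4 : ∀ x ∈ V, x ^ 4 = 1)
    (hfix : ∀ x ∈ V, t * x * t⁻¹ = x → x = 1) (hsx : ∀ x ∈ V, (x * s) ^ 4 = 1) :
    ∀ x ∈ V, x ^ 2 = 1 := by
  set Z : Subgroup V := Subgroup.center V with hZ
  have hcl := class_two_of_three ht h1 h2 h3
  have hcom : ∀ a b : V, ⁅a, b⁆ ∈ Z := fun a b => Subgroup.mem_center_iff.2 fun c =>
    Subtype.ext (hcl c c.2 a a.2 b b.2).symm.eq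
  have hcl' : ∀ a b c : V, Commute ⁅a, b⁆ c := fun a b c => (Subgroup.mem_center_iff.1 (hcom a b) c).symm
  let α : MulAut V := MulAut.conjNormal t
  let σ : MulAut V := MulAut.conjNormal s
  have hα : ∀ x : V, ((α x : V) : G) = t * x * t⁻¹ := fun x => MulAut.conjNormal_apply t x
  have hσ : ∀ x : V, ((σ x : V) : G) = s * x * s⁻¹ := fun x => MulAut.conjNormal_apply s x
  have hσσ : ∀ x, σ (σ x) = x := fun x => Subtype.ext (by
    rw [hσ, hσ, show s * (s * (x : G) * s⁻¹) * s⁻¹ = (s * s) * x * (s * s)⁻¹ by group, hs]; group)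
  have hασ : ∀ x, σ (α x) = α (α (σ x)) := fun x => Subtype.ext (by
    rw [hσ, hα, hα, hα, hσ]
    have h5 : t * t = t⁻¹ := eq_inv_of_mul_eq_one_left (by rw [← ht, pow_succ, pow_two])
    rw [show s * (t * (x : G) * t⁻¹) * s⁻¹ = (s * t * s⁻¹) * (s * x * s⁻¹) * (s * t * s⁻¹)⁻¹ by group, hst]
    conv_lhs => rw [← h5]
    group)
  have hα3 : ∀ x, α (α (α x)) = x := fun x => Subtype.ext (by
    rw [hα, hα, hα, show t * (t * (t * (x : G) * t⁻¹) * t⁻¹) * t⁻¹ = t ^ 3 * x * (t ^ 3)⁻¹ by
      rw [pow_succ, pow_two]; group, ht]; group)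
  have hrel : ∀ x, α (α x) = (x * α x)⁻¹ := fun x => Subtype.ext (by
    have h := h1 x x.2
    rw [pow_three_expand ht] at h
    rw [hα, hα, Subgroup.coe_inv, Subgroup.coe_mul, hα, inv_eq_of_mul_eq_one_right h]
    have h5 : t * t = t⁻¹ := eq_inv_of_mul_eq_one_left (by rw [← ht, pow_succ, pow_two])
    rw [show t * (t * (x : G) * t⁻¹) * t⁻¹ = (t * t) * x * (t * t)⁻¹ by group, h5, inv_inv])
  have hself : ∀ x, Commute x (α x) := by
    intro x
    have e1 := hrel x
    have e2 := hrel x⁻¹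
    rw [map_inv, map_inv, e1, inv_inv, mul_inv_rev, inv_inv, inv_inv] at e2
    exact e2
  have hp4 : ∀ x : V, x ^ 4 = 1 := fun x => Subtype.ext (h4 x x.2)
  have hfix' : ∀ x, α x = x → x = 1 := fun x h => Subtype.ext (hfix x x.2 (by rw [← hα, h]))
  let w : V → V := fun v => v * σ v
  have hw2 : ∀ v, w v ^ 2 = 1 := fun v => Subtype.ext (by
    have h := hsx v v.2
    rw [show 4 = 2 * 2 from rfl, pow_mul] at h
    rw [show ((v : G) * s) ^ 2 = (v : G) * (s * v * s⁻¹) * (s * s) by rw [pow_two]; group, hs, mul_one]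
      at h
    rw [SubmonoidClass.coe_pow, Subgroup.coe_mul, hσ]
    exact h)
  -- commutator rules in class two
  have hmulr : ∀ a b c : V, ⁅a, b * c⁆ = ⁅a, b⁆ * ⁅a, c⁆ := fun a b c => by
    calc ⁅a, b * c⁆ = ⁅a, b⁆ * (b * ⁅a, c⁆) * b⁻¹ := by
          simp only [commutatorElement_def]; group
      _ = ⁅a, b⁆ * (⁅a, c⁆ * b) * b⁻¹ := by rw [(hcl' a c b).eq]
      _ = _ := by group
  have hmull : ∀ a b c : V, ⁅a * b, c⁆ = ⁅a, c⁆ * ⁅b, c⁆ := fun a b c => by
    rw [← commutatorElement_inv c (a * b), hmulr, mul_inv_rev, commutatorElement_inv,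
      commutatorElement_inv, (hcl' b c _).eq]
  have hswap : ∀ a b : V, b * a = a * b * ⁅b⁻¹, a⁻¹⁆ := fun a b => by
    rw [commutatorElement_def]; group
  have hpowmul : ∀ a b : V, (a * b) ^ 2 = a ^ 2 * b ^ 2 * ⁅b⁻¹, a⁻¹⁆ := fun a b => by
    calc (a * b) ^ 2 = a * (b * a) * b := by rw [pow_two]; group
      _ = a * a * b * (⁅b⁻¹, a⁻¹⁆ * b) := by rw [hswap a b]; group
      _ = a * a * b * (b * ⁅b⁻¹, a⁻¹⁆) := by rw [(hcl' _ _ b).eq]
      _ = _ := by rw [pow_two, pow_two]; group
  -- squares are central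
  have hsqσ : ∀ v, σ v ^ 2 ∈ Z := by
    intro v
    have hb : α (w v) ^ 2 = 1 := by rw [← map_pow, hw2, map_one]
    have ha := hw2 (α v)
    have heq : w (α v) * α (w v) = α v * (α (α (σ v)) * α v * α (σ v)) := by
      simp only [w, map_mul, hασ]; group
    have hb2 : α (α (σ v)) * α (σ v) = (σ v)⁻¹ := by
      rw [hrel (σ v), (hself (σ v)).eq]; group
    obtain ⟨c, hc, hc'⟩ : ∃ c ∈ Z, w (α v) * α (w v) = α v ^ 2 * (σ v)⁻¹ * c := by
      refine ⟨⁅(α (α (σ v)))⁻¹, (α v)⁻¹⁆, hcom _ _, ?_⟩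
      rw [heq, hswap (α v) (α (α (σ v))), ← hb2, pow_two]
      simp only [mul_assoc]
      rw [(hcl' _ _ (α (σ v))).eq]
    have hc2 : (α v ^ 2 * (σ v)⁻¹ * c) ^ 2 = ⁅(α (w v))⁻¹, (w (α v))⁻¹⁆ := by
      rw [← hc', hpowmul, ha, hb, one_mul, one_mul]
    have hcc : Commute (α v ^ 2 * (σ v)⁻¹) c := Subgroup.mem_center_iff.1 hc _
    rw [hcc.mul_pow, hpowmul, ← pow_mul, hp4, one_mul, inv_pow] at hc2
    have : (σ v ^ 2)⁻¹ ∈ Z := by
      rw [show (σ v ^ 2)⁻¹ = ⁅(α (w v))⁻¹, (w (α v))⁻¹⁆ * (c ^ 2)⁻¹ * ⁅((σ v)⁻¹)⁻¹, (α v ^ 2)⁻¹⁆⁻¹ by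
        rw [← hc2]; group]
      exact mul_mem (mul_mem (hcom _ _) (inv_mem (pow_mem hc 2))) (inv_mem (hcom _ _))
    exact inv_mem_iff.1 this
  have hsqZ : ∀ v : V, v ^ 2 ∈ Z := fun v => by have := hsqσ (σ v); rwa [hσσ] at this
  have hc2 : ∀ a b : V, ⁅a, b⁆ ^ 2 = 1 := fun a b => by
    rw [pow_two, ← hmull, ← pow_two, commutatorElement_eq_one_iff_commute]
    exact (Subgroup.mem_center_iff.1 (hsqZ a) b).symm
  let K : Subgroup V :=
    { carrier := {z | z ∈ Z ∧ z ^ 2 = 1}
      one_mem' := ⟨one_mem _, one_pow _⟩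
      mul_mem' := fun {a b} ha hb => ⟨mul_mem ha.1 hb.1, by
        rw [(show Commute a b from Subgroup.mem_center_iff.1 hb.1 a).mul_pow, ha.2, hb.2, one_mul]⟩
      inv_mem' := fun {a} ha => ⟨inv_mem ha.1, by rw [inv_pow, ha.2, inv_one]⟩ }
  have hKcom : ∀ a b, ⁅a, b⁆ ∈ K := fun a b => ⟨hcom a b, hc2 a b⟩
  have hKsq : ∀ a : V, a ^ 2 ∈ K := fun a => ⟨hsqZ a, by rw [← pow_mul]; exact hp4 a⟩
  -- decomposition
  have hdec : ∀ x : V, ∃ a b : V, ∃ k ∈ K, x = w a * α (w b) * k := by
    intro x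
    set v := σ x with hv
    refine ⟨α v, v, ((α v ^ 2 * (σ v)⁻¹ * ⁅(α (α (σ v)))⁻¹, (α v)⁻¹⁆))⁻¹ * x, ?_, ?_⟩
    · rw [show σ v = x from hσσ x]
      rw [show (α v ^ 2 * x⁻¹ * ⁅(α (α x))⁻¹, (α v)⁻¹⁆)⁻¹ * x =
        ⁅(α (α x))⁻¹, (α v)⁻¹⁆⁻¹ * (x * (α v ^ 2)⁻¹ * x) by group]
      refine mul_mem (inv_mem (hKcom _ _)) ?_
      rw [Subgroup.mem_center_iff.1 (inv_mem (hsqZ (α v))) x, mul_assoc, ← pow_two]
      exact mul_mem (inv_mem (hKsq _)) (hKsq _)
    · have hb2 : α (α (σ v)) * α (σ v) = (σ v)⁻¹ := by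
        rw [hrel (σ v), (hself (σ v)).eq]; group
      have heq : w (α v) * α (w v) = α v ^ 2 * (σ v)⁻¹ * ⁅(α (α (σ v)))⁻¹, (α v)⁻¹⁆ := by
        simp only [w, map_mul, hασ]
        rw [← hb2, pow_two]
        calc α v * α (α (σ v)) * (α v * α (σ v))
            = α v * (α (α (σ v)) * α v) * α (σ v) := by group
          _ = α v * (α v * α (α (σ v)) * ⁅(α (α (σ v)))⁻¹, (α v)⁻¹⁆) * α (σ v) := by rw [← hswap]
          _ = α v * α v * α (α (σ v)) * (⁅(α (α (σ v)))⁻¹, (α v)⁻¹⁆ * α (σ v)) := by group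
          _ = α v * α v * α (α (σ v)) * (α (σ v) * ⁅(α (α (σ v)))⁻¹, (α v)⁻¹⁆) := by rw [(hcl' _ _ _).eq]
          _ = _ := by group
      rw [heq, mul_inv_cancel_left]
  -- the `w` commute
  have hwc : ∀ a b, Commute (w a) (w b) := by
    intro a b
    have h : w a * w b = w (a * b) * ⁅(σ a)⁻¹, b⁻¹⁆ := by
      simp only [w, map_mul]
      calc a * σ a * (b * σ b) = a * (σ a * b) * σ b := by group
        _ = a * (b * σ a * ⁅(σ a)⁻¹, b⁻¹⁆) * σ b := by rw [← hswap]
        _ = a * b * σ a * (⁅(σ a)⁻¹, b⁻¹⁆ * σ b) := by group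
        _ = a * b * σ a * (σ b * ⁅(σ a)⁻¹, b⁻¹⁆) := by rw [(hcl' _ _ _).eq]
        _ = _ := by group
    have h2 : (w a * w b) ^ 2 = 1 := by
      rw [h, (show Commute (w (a * b)) ⁅(σ a)⁻¹, b⁻¹⁆ from (hcl' _ _ _).symm).mul_pow, hw2, hc2, one_mul]
    have ea : (w a)⁻¹ = w a := inv_eq_of_mul_eq_one_right (by rw [← pow_two, hw2])
    have eb : (w b)⁻¹ = w b := inv_eq_of_mul_eq_one_right (by rw [← pow_two, hw2])
    have eab : (w a * w b)⁻¹ = w a * w b := inv_eq_of_mul_eq_one_right (by rw [← pow_two, h2])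
    rw [mul_inv_rev, ea, eb] at eab
    exact eab.symm
  have hinvc : ∀ a b : V, ⁅a, b⁆⁻¹ = ⁅a, b⁆ := fun a b =>
    inv_eq_of_mul_eq_one_right (by rw [← pow_two, hc2])
  have hmap : ∀ a b : V, α ⁅a, b⁆ = ⁅α a, α b⁆ := fun a b => by
    simp only [commutatorElement_def, map_mul, map_inv]
  have hcw : ∀ a b, Commute (w a) (α (w b)) := by
    intro a b
    rw [← commutatorElement_eq_one_iff_commute]
    have hpol : ⁅w a, α (w b)⁆ = ⁅w b, α (w a)⁆ := by
      have h := commutatorElement_eq_one_iff_commute.2 (hself (w a * w b))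
      rw [map_mul, hmull, hmulr, hmulr, commutatorElement_eq_one_iff_commute.2 (hself (w a)),
        commutatorElement_eq_one_iff_commute.2 (hself (w b)), one_mul, mul_one] at h
      rw [eq_inv_of_mul_eq_one_left h, hinvc]
    have hαα : ∀ u v, Commute u v → ⁅u, α (α v)⁆ = ⁅u, α v⁆ := fun u v hc => by
      have h : ⁅u, (v * α v)⁻¹⁆ = (⁅u, v * α v⁆)⁻¹ := by
        have := hmulr u (v * α v) (v * α v)⁻¹
        rw [mul_inv_cancel, commutatorElement_one_right] at this
        exact eq_inv_of_mul_eq_one_right this.symm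
      rw [hrel, h, hmulr, commutatorElement_eq_one_iff_commute.2 hc, one_mul, hinvc]
    refine hfix' _ ?_
    calc α ⁅w a, α (w b)⁆ = α ⁅w b, α (α (w a))⁆ := by rw [hpol, hαα _ _ (hwc b a)]
      _ = ⁅α (w b), w a⁆ := by rw [hmap, hα3]
      _ = ⁅w a, α (w b)⁆ := by rw [← commutatorElement_inv, hinvc]
  intro x hx
  obtain ⟨a, b, k, hk, hxk⟩ := hdec ⟨x, hx⟩
  have : (⟨x, hx⟩ : V) ^ 2 = 1 := by
    rw [hxk, (show Commute (w a * α (w b)) k from Subgroup.mem_center_iff.1 hk.1 _).mul_pow, hk.2,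
      (hcw a b).mul_pow, hw2, ← map_pow, hw2, map_one, one_mul, one_mul]
  exact congrArg Subtype.val this

/-- A finite group whose set of element orders is exactly {1, 2, 3, 4} has a normal subgroup N such that either N is a 2-group of exponent 4 and nilpotency class at most 2 with G/N of order 3, or N is an elementary abelian 2-group with G/N isomorphic to the symmetric group of degree 3, or N is an elementary abelian 3-group with G/N cyclic of order 4 or quaternion of order 8. -/
theorem result {G : Type*} [Group G] [Finite G] (h : Set.range (orderOf : G → ℕ) = {k : ℕ | 1 ≤ k ∧ k ≤ 4}) :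
    ∃ (N : Subgroup G) (_ : N.Normal),
      (IsPGroup 2 ↥N ∧ Monoid.exponent ↥N = 4 ∧ Group.nilpotencyClass ↥N ≤ 2 ∧ N.index = 3) ∨
      (Cfsg.IsElementaryAbelian 2 N ∧ Nonempty (G ⧸ N ≃* Equiv.Perm (Fin 3))) ∨
      (Cfsg.IsElementaryAbelian 3 N ∧ ((IsCyclic (G ⧸ N) ∧ N.index = 4) ∨ Nonempty (G ⧸ N ≃* QuaternionGroup 2))) := by
  classical
  have hord : ∀ g : G, orderOf g = 1 ∨ orderOf g = 2 ∨ orderOf g = 3 ∨ orderOf g = 4 := fun g => by
    have h1 : orderOf g ∈ Set.range (orderOf : G → ℕ) := ⟨g, rfl⟩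
    rw [h] at h1
    simp only [Set.mem_setOf_eq] at h1
    omega
  have hex : ∀ k : ℕ, 1 ≤ k → k ≤ 4 → ∃ g : G, orderOf g = k := fun k h1 h2 => by
    have : k ∈ {k : ℕ | 1 ≤ k ∧ k ≤ 4} := ⟨h1, h2⟩
    rw [← h] at this
    exact this
  haveI := Fact.mk Nat.prime_two
  haveI := Fact.mk Nat.prime_three
  have hprimes : ∀ r : ℕ, r.Prime → r ∣ Nat.card G → r = 2 ∨ r = 3 := fun r hr hrd => by
    haveI := Fact.mk hr
    obtain ⟨g, hg⟩ := exists_prime_orderOf_dvd_card' (G := G) r hrd
    rcases hord g with h1 | h1 | h1 | h1 <;> rw [hg] at h1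
    · exact absurd h1 hr.ne_one
    · exact Or.inl h1
    · exact Or.inr h1
    · exact absurd (h1 ▸ hr) (by norm_num)
  haveI : Group.IsSolvable G := by
    refine Cfsg.Agent.FGB.SameOrd.isSolvable_of_two_primeFactors ((Finset.card_le_card (t := ({2, 3} : Finset ℕ))
      fun r hr => ?_).trans Finset.card_le_two)
    rw [Nat.mem_primeFactors] at hr
    simpa using hprimes r hr.1 hr.2.1
  obtain ⟨t0, ht0⟩ := hex 3 (by norm_num) (by norm_num)
  obtain ⟨f0, hf0⟩ := hex 4 (by norm_num) le_rfl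
  haveI : Nontrivial G := ⟨⟨t0, 1, fun h1 => by rw [h1, orderOf_one] at ht0; omega⟩⟩
  have hexp3 : ∀ {U : Subgroup G}, IsPGroup 3 U → ∀ g ∈ U, g ^ 3 = 1 := by
    intro U hU g hg
    obtain ⟨k, hk⟩ := IsPGroup.iff_orderOf.mp hU ⟨g, hg⟩
    rw [Subgroup.orderOf_mk] at hk
    rw [← orderOf_dvd_iff_pow_eq_one]
    rcases hord g with h1 | h1 | h1 | h1 <;> rw [h1] at hk ⊢
    · exact one_dvd 3
    · exact absurd (Nat.prime_two.dvd_of_dvd_pow hk.dvd) (by norm_num)
    · exact absurd (Nat.prime_two.dvd_of_dvd_pow ((by norm_num : (2 : ℕ) ∣ 4).trans hk.dvd)) (by norm_num)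
  have hexp4 : ∀ {U : Subgroup G}, IsPGroup 2 U → ∀ g ∈ U, g ^ 4 = 1 := by
    intro U hU g hg
    obtain ⟨k, hk⟩ := IsPGroup.iff_orderOf.mp hU ⟨g, hg⟩
    rw [Subgroup.orderOf_mk] at hk
    rw [← orderOf_dvd_iff_pow_eq_one]
    rcases hord g with h1 | h1 | h1 | h1 <;> rw [h1] at hk ⊢
    · exact one_dvd 4
    · norm_num
    · exact absurd (Nat.prime_three.dvd_of_dvd_pow hk.dvd) (by norm_num)
  -- elements of coprime order do not commute
  have hno : ∀ x y : G, x ^ 4 = 1 → y ^ 3 = 1 → x ≠ 1 → y ≠ 1 → ¬ Commute x y := fun x y hx hy hx1 hy1 hc => by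
    have hox : orderOf x = 2 ∨ orderOf x = 4 := by
      have := orderOf_dvd_of_pow_eq_one hx
      rcases hord x with h1 | h1 | h1 | h1
      · exact absurd (orderOf_eq_one_iff.1 h1) hx1
      · exact Or.inl h1
      · rw [h1] at this; norm_num at this
      · exact Or.inr h1
    have hoy : orderOf y = 3 := orderOf_eq_prime hy hy1
    have h6 := hc.orderOf_mul_eq_mul_orderOf_of_coprime
      (by rcases hox with h | h <;> rw [h, hoy] <;> norm_num)
    rw [hoy] at h6
    rcases hox with h | h <;> rw [h] at h6 <;>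
      rcases hord (x * y) with h1 | h1 | h1 | h1 <;> omega
  obtain ⟨S⟩ : Nonempty (Sylow 2 G) := inferInstance
  obtain ⟨T⟩ : Nonempty (Sylow 3 G) := inferInstance
  obtain ⟨p, N, hp, hNn, hN1, hNp⟩ := Basics.exists_normal_pGroup (G := G)
  haveI := hNn
  haveI := Fact.mk hp
  have hp23 : p = 2 ∨ p = 3 := by
    obtain ⟨m, hm⟩ := hNp.exists_card_eq
    rcases m with _ | m
    · exact absurd (Subgroup.card_eq_one.mp (by rw [hm, pow_zero])) hN1
    · exact hprimes p hp ((hm ▸ dvd_pow_self p (Nat.succ_ne_zero m)).trans (Subgroup.card_subgroup_dvd_card N))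
  rcases hp23 with rfl | rfl
  · -- a normal 2-subgroup
    have hfix : ∀ x ∈ (T : Subgroup G), x ≠ 1 → N ⊓ Subgroup.centralizer {x} = ⊥ := by
      intro x hx hx1
      rw [Subgroup.eq_bot_iff_forall]
      rintro n ⟨hn, hnx⟩
      by_contra hn1
      exact hno n x (hexp4 hNp n hn) (hexp3 T.2 x hx) hn1 hx1
        (Subgroup.mem_centralizer_singleton_iff.mp hnx)
    obtain ⟨T'⟩ : Nonempty (Sylow 3 (T : Subgroup G)) := inferInstance
    have hT'top : (T' : Subgroup (T : Subgroup G)) = ⊤ := (T'.3 (T.2.to_subgroup ⊤) le_top).symm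
    haveI hTc : IsCyclic (T : Subgroup G) := by
      rcases Basics.fpf_sylow_cyclic_or_quaternion N T hN1 hfix 3 T' with hc | ⟨h32, -⟩
      · exact isCyclic_of_surjective ((Subgroup.topEquiv).toMonoidHom.comp (MulEquiv.subgroupCongr hT'top).toMonoidHom)
          ((Subgroup.topEquiv).surjective.comp (MulEquiv.subgroupCongr hT'top).surjective)
      · norm_num at h32
    obtain ⟨⟨t, htT⟩, ht'⟩ := IsCyclic.exists_ofOrder_eq_natCard (α := (T : Subgroup G))
    rw [Subgroup.orderOf_mk] at ht'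
    have hT3 : Nat.card (T : Subgroup G) = 3 := by
      have h1 : Nat.card (T : Subgroup G) ∣ 3 := ht' ▸ orderOf_dvd_of_pow_eq_one (hexp3 T.2 t htT)
      rcases (Nat.dvd_prime Nat.prime_three).1 h1 with h2 | h2
      · have h3 := T.dvd_card_of_dvd_card (ht0 ▸ _root_.orderOf_dvd_natCard t0)
        rw [h2] at h3
        norm_num at h3
      · exact h2
    have ht3 : orderOf t = 3 := ht'.trans hT3
    have ht1 : t ≠ 1 := fun e => by rw [e, orderOf_one] at ht3; omega
    have htp : t ^ 3 = 1 := ht3 ▸ pow_orderOf_eq_one t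
    have hgen : ∀ u ∈ (T : Subgroup G), u ∈ Subgroup.zpowers t := fun u hu => by
      rwa [Subgroup.eq_of_le_of_card_ge (Subgroup.zpowers_le.mpr htT) (by rw [Nat.card_zpowers, ht3, hT3])]
    -- cosets of order three
    have hcoset : ∀ (V : Subgroup G) [V.Normal], IsPGroup 2 V → ∀ u : G, u ∉ V → u ^ 3 = 1 →
        ∀ x ∈ V, (x * u) ^ 3 = 1 := by
      intro V _ hV u hu hu3 x hx
      have himg : QuotientGroup.mk' V (x * u) = QuotientGroup.mk' V u := by
        rw [map_mul, show QuotientGroup.mk' V x = 1 from (QuotientGroup.eq_one_iff x).2 hx, one_mul]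
      have hu' : orderOf (QuotientGroup.mk' V u) = 3 := orderOf_eq_prime (by rw [← map_pow, hu3, map_one])
        (fun e => hu ((QuotientGroup.eq_one_iff u).1 e))
      have hd : 3 ∣ orderOf (x * u) := hu' ▸ himg ▸ orderOf_map_dvd (QuotientGroup.mk' V) (x * u)
      rcases hord (x * u) with h1 | h1 | h1 | h1
      · rw [h1] at hd; norm_num at hd
      · rw [h1] at hd; norm_num at hd
      · exact h1 ▸ pow_orderOf_eq_one (x * u)
      · rw [h1] at hd; norm_num at hd
    have htV : ∀ (V : Subgroup G), IsPGroup 2 V → t ∉ V := fun V hV htm => by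
      have := hexp4 hV t htm
      have := orderOf_dvd_of_pow_eq_one this
      rw [ht3] at this
      norm_num at this
    have hV3 : ∀ (V : Subgroup G), IsPGroup 2 V → ∀ x ∈ V, x ^ 3 = 1 → x = 1 := fun V hV x hx h3 => by
      have h4 := hexp4 hV x hx
      rwa [pow_succ, h3, one_mul] at h4
    by_cases hNC : Subgroup.normalizer ((T : Subgroup G) : Set G) ≤
        Subgroup.centralizer ((T : Subgroup G) : Set G)
    · have hker := MonoidHom.ker_transferSylow_isComplement' T hNC
      set M := (MonoidHom.transferSylow T hNC).ker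
      have hMi : M.index = 3 := by rw [hker.symm.index_eq_card, hT3]
      have hM2 : IsPGroup 2 M := by
        intro u
        refine ⟨2, Subtype.ext ?_⟩
        show (u : G) ^ 4 = 1
        rw [← orderOf_dvd_iff_pow_eq_one]
        rcases hord (u : G) with h1 | h1 | h1 | h1 <;> rw [h1]
        · exact one_dvd 4
        · norm_num
        · exfalso
          have hd : 3 ∣ Nat.card M :=
            (dvd_of_eq (h1.symm.trans (Subgroup.orderOf_coe u))).trans (_root_.orderOf_dvd_natCard u)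
          rw [← hker.index_eq_card] at hd
          exact T.not_dvd_index hd
      refine ⟨M, MonoidHom.normal_ker _, Or.inl ⟨hM2, ?_, ?_, hMi⟩⟩
      · refine Nat.dvd_antisymm (Monoid.exponent_dvd_of_forall_pow_eq_one fun u =>
          Subtype.ext (hexp4 hM2 u u.2)) ?_
        have hf0M : f0 ∈ M := by
          refine (QuotientGroup.eq_one_iff f0).1 (orderOf_eq_one_iff.1 (Nat.eq_one_of_dvd_coprimes
            (show Nat.Coprime 4 3 by norm_num) (hf0 ▸ orderOf_map_dvd (QuotientGroup.mk' M) f0) ?_))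
          refine (_root_.orderOf_dvd_natCard _).trans (dvd_of_eq ?_)
          rw [← Subgroup.index_eq_card, hMi]
        exact hf0 ▸ (Subgroup.orderOf_mk f0 hf0M) ▸ Monoid.order_dvd_exponent (⟨f0, hf0M⟩ : M)
      · haveI : M.Normal := MonoidHom.normal_ker _
        haveI := hM2.isNilpotent
        rw [← Subgroup.lowerCentralSeries_eq_bot_iff_nilpotencyClass_le]
        refine Subgroup.lowerCentralSeries_succ_eq_bot _ ?_
        rw [Subgroup.lowerCentralSeries_succ, Subgroup.lowerCentralSeries_zero, Subgroup.commutator_le]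
        intro a _ b _
        rw [Subgroup.mem_center_iff]
        intro c
        exact Subtype.ext (class_two_of_three htp (hcoset M hM2 t (htV M hM2) htp)
          (hcoset M hM2 t⁻¹ (fun e => htV M hM2 (inv_inv t ▸ inv_mem e)) (by rw [inv_pow, htp, inv_one]))
          (hV3 M hM2) c c.2 a a.2 b b.2).symm.eq
    · -- an involution inverting `t`
      obtain ⟨s, hsN, hsC⟩ := SetLike.not_le_iff_exists.1 hNC
      have hsc : ¬ Commute s t := fun hc => hsC (Subgroup.mem_centralizer_iff.2 fun u hu => by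
        obtain ⟨i, rfl⟩ := Subgroup.mem_zpowers_iff.1 (hgen u hu)
        exact (hc.zpow_right i).symm.eq)
      have hst : s * t * s⁻¹ = t⁻¹ := by
        obtain ⟨i, hi⟩ := Subgroup.mem_zpowers_iff.1 (hgen _ ((Subgroup.mem_normalizer_iff.mp hsN _).mp htT))
        rw [← zpow_mod_orderOf, ht3] at hi
        have hcases : i % ((3 : ℕ) : ℤ) = 0 ∨ i % ((3 : ℕ) : ℤ) = 1 ∨ i % ((3 : ℕ) : ℤ) = 2 := by omega
        rcases hcases with h1 | h1 | h1 <;> rw [h1] at hi
        · rw [zpow_zero] at hi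
          exact absurd (conj_eq_one_iff.mp hi.symm) ht1
        · rw [zpow_one] at hi
          exact absurd (mul_inv_eq_iff_eq_mul.mp hi.symm) hsc
        · rw [← hi, show (2 : ℤ) = ((2 : ℕ) : ℤ) from rfl, zpow_natCast]
          exact eq_inv_of_mul_eq_one_left (by rw [← pow_succ, htp])
      have hs2c : Commute (s * s) t := by
        show s * s * t = t * (s * s)
        calc s * s * t = (s * (s * t * s⁻¹) * s⁻¹) * (s * s) := by group
          _ = (s * t⁻¹ * s⁻¹) * (s * s) := by rw [hst]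
          _ = ((s * t * s⁻¹))⁻¹ * (s * s) := by group
          _ = t * (s * s) := by rw [hst, inv_inv]
      have hs1 : s ≠ 1 := fun e => hsc (by rw [e]; exact Commute.one_left t)
      have hs : s * s = 1 := by
        rcases hord s with h1 | h1 | h1 | h1
        · exact absurd (orderOf_eq_one_iff.1 h1) hs1
        · rw [← pow_two, ← h1, pow_orderOf_eq_one]
        · exfalso
          have h3 : s ^ 3 = 1 := h1 ▸ pow_orderOf_eq_one s
          apply hsc
          have : s = (s * s) * (s * s) := by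
            calc s = s ^ 3 * s := by rw [h3, one_mul]
              _ = _ := by rw [pow_succ, pow_two]; group
          rw [this]
          exact hs2c.mul_left hs2c
        · exfalso
          have h4 : s ^ 4 = 1 := h1 ▸ pow_orderOf_eq_one s
          refine hno (s * s) t (by rw [← pow_two, ← pow_mul, show 2 * 4 = 4 * 2 from rfl, pow_mul, h4,
            one_pow]) htp (fun e => ?_) ht1 hs2c
          have := orderOf_dvd_of_pow_eq_one ((pow_two s).trans e)
          rw [h1] at this
          norm_num at this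
      set V := (S : Subgroup G).normalCore with hV
      have hV2 : IsPGroup 2 V := S.2.to_le (Subgroup.normalCore_le _)
      have hsV : s ∉ V := fun e => by
        have hm : s * t * s⁻¹ * t⁻¹ ∈ V := by
          rw [show s * t * s⁻¹ * t⁻¹ = s * (t * s⁻¹ * t⁻¹) by group]
          exact mul_mem e (Subgroup.normalCore_normal (S : Subgroup G) |>.conj_mem _ (inv_mem e) t)
        rw [hst] at hm
        exact htV V hV2 (by
          have := inv_mem hm
          rw [mul_inv_rev, inv_inv] at this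
          have e2 : t = (t * t)⁻¹ := eq_inv_of_mul_eq_one_left (by rw [← mul_assoc, ← pow_two, ← pow_succ, htp])
          have := inv_mem this
          rwa [← e2] at this)
      have hSi : (S : Subgroup G).index = 3 := by
        have hd : (S : Subgroup G).index ∣ 3 := by
          have h1 : ∀ r ∈ ((S : Subgroup G).index).primeFactors, r = 3 := fun r hr => by
            rw [Nat.mem_primeFactors] at hr
            refine (hprimes r hr.1 (hr.2.1.trans (Subgroup.index_dvd_card _))).resolve_left ?_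
            rintro rfl
            exact S.not_dvd_index hr.2.1
          have h2 : (S : Subgroup G).index = 3 ^ ((S : Subgroup G).index).factorization 3 :=
            Nat.eq_pow_of_factorization_eq_single Subgroup.index_ne_zero_of_finite (by
              ext r
              rcases eq_or_ne r 3 with rfl | hr
              · simp
              rw [Finsupp.single_apply, if_neg (Ne.symm hr)]
              by_contra h0
              exact hr (h1 r (by rw [← Nat.support_factorization]; exact Finsupp.mem_support_iff.2 h0)))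
          have h3 : (S : Subgroup G).index.factorization 3 ≤ 1 := by
            by_contra hlt
            have h4 : 3 ^ 2 ∣ Nat.card G :=
              ((pow_dvd_pow 3 (show 2 ≤ (S : Subgroup G).index.factorization 3 by omega)).trans (Nat.ordProj_dvd _ 3)).trans (Subgroup.index_dvd_card _)
            have h5 := (Nat.Prime.pow_dvd_iff_le_factorization Nat.prime_three Nat.card_pos.ne').1 h4
            have h6 := Nat.pow_le_pow_right (n := 3) (by norm_num) h5
            rw [← T.card_eq_multiplicity, hT3] at h6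
            norm_num at h6
          rw [h2]
          exact (pow_dvd_pow 3 h3).trans (dvd_of_eq (pow_one 3))
        rcases (Nat.dvd_prime Nat.prime_three).1 hd with h1 | h1
        · exfalso
          rw [Subgroup.index_eq_one] at h1
          exact htV _ S.2 (h1 ▸ Subgroup.mem_top t)
        · exact h1
      let e : (G ⧸ (S : Subgroup G)) ≃ Fin 3 :=
        (Finite.equivFinOfCardEq (by rw [← Subgroup.index_eq_card, hSi]))
      let f : G →* Equiv.Perm (Fin 3) :=
        (Equiv.permCongrHom e).toMonoidHom.comp (MulAction.toPermHom G (G ⧸ (S : Subgroup G)))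
      have hfk : f.ker = V := by
        rw [hV, Subgroup.normalCore_eq_ker]
        ext g
        exact map_eq_one_iff (Equiv.permCongrHom e) (MulEquiv.injective _)
      have hfs : Function.Surjective f := by
        rw [← MonoidHom.range_eq_top]
        refine Subgroup.eq_top_of_le_card _ ?_
        have hst' : 6 ∣ Nat.card f.range := by
          have h2 : orderOf (f s) = 2 := orderOf_eq_prime (by rw [← map_pow, pow_two, hs, map_one])
            (fun h => hsV (hfk ▸ h))
          have h3 : orderOf (f t) = 3 := orderOf_eq_prime (by rw [← map_pow, htp, map_one])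
            (fun h => htV V hV2 (hfk ▸ h))
          exact Nat.Coprime.mul_dvd_of_dvd_of_dvd (by norm_num : Nat.Coprime 2 3)
            ((dvd_of_eq h2.symm).trans (Subgroup.orderOf_dvd_natCard f.range ⟨s, rfl⟩))
            ((dvd_of_eq h3.symm).trans (Subgroup.orderOf_dvd_natCard f.range ⟨t, rfl⟩))
        rw [Nat.card_eq_fintype_card, Fintype.card_perm, Fintype.card_fin]
        exact Nat.le_of_dvd Nat.card_pos hst'
      have hsq : ∀ x ∈ V, x ^ 2 = 1 := by
        refine sq_eq_one htp hs hst (hcoset V hV2 t (htV V hV2) htp)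
          (hcoset V hV2 t⁻¹ (fun e => htV V hV2 (inv_inv t ▸ inv_mem e)) (by rw [inv_pow, htp, inv_one]))
          (hV3 V hV2) (hexp4 hV2) (fun x hx hxe => ?_) (fun x hx => ?_)
        · by_contra hx1
          exact hno x t (hexp4 hV2 x hx) htp hx1 ht1 (mul_inv_eq_iff_eq_mul.mp hxe).symm
        · rw [← orderOf_dvd_iff_pow_eq_one]
          rcases hord (x * s) with h1 | h1 | h1 | h1 <;> rw [h1]
          · exact one_dvd 4
          · norm_num
          · exfalso
            have h5 : f (x * s) = f s := by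
              rw [map_mul, show f x = 1 by rw [← MonoidHom.mem_ker, hfk]; exact hx, one_mul]
            have h6 := h1 ▸ orderOf_map_dvd f (x * s)
            rw [h5, orderOf_eq_prime (p := 2) (by rw [← map_pow, pow_two, hs, map_one])
              (fun h => hsV (hfk ▸ h))] at h6
            norm_num at h6
      refine ⟨V, inferInstance, Or.inr (Or.inl ⟨⟨⟨⟨fun a b => ?_⟩⟩, hsq⟩, ?_⟩)⟩
      · refine Subtype.ext ?_
        have e := hsq _ (mul_mem a.2 b.2)
        rw [pow_two] at e
        have ea := inv_eq_of_mul_eq_one_right (pow_two (a : G) ▸ hsq _ a.2)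
        have eb := inv_eq_of_mul_eq_one_right (pow_two (b : G) ▸ hsq _ b.2)
        show (a : G) * b = b * a
        rw [← inv_eq_of_mul_eq_one_right e, mul_inv_rev, ea, eb]
      · exact ⟨(QuotientGroup.quotientMulEquivOfEq hfk.symm).trans
          (QuotientGroup.quotientKerEquivOfSurjective f hfs)⟩
  · -- a normal 3-subgroup
    set V := Cfsg.pCore 3 G with hV
    have hV3 : IsPGroup 3 V := Basics.pCore_isPGroup 3
    have hVne : V ≠ ⊥ := fun e => hN1 (le_bot_iff.1 (e ▸ Basics.le_pCore hNp))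
    have hfix : ∀ x ∈ (S : Subgroup G), x ≠ 1 → V ⊓ Subgroup.centralizer {x} = ⊥ := by
      intro x hx hx1
      rw [Subgroup.eq_bot_iff_forall]
      rintro n ⟨hn, hnx⟩
      by_contra hn1
      exact hno x n (hexp4 S.2 x hx) (hexp3 hV3 n hn) hx1 hn1
        (Subgroup.mem_centralizer_singleton_iff.mp hnx).symm
    have hf2 : orderOf (f0 * f0) = 2 := by
      rw [← pow_two, orderOf_pow' _ two_ne_zero, hf0]; rfl
    set z := f0 * f0 with hz
    have hzz : z * z = 1 := by rw [← pow_two, ← hf2, pow_orderOf_eq_one]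
    have hz1 : z ≠ 1 := fun e => by rw [e, orderOf_one] at hf2; omega
    have hz4 : z ^ 4 = 1 := by rw [show 4 = 2 * 2 from rfl, pow_mul, pow_two z, hzz, one_pow]
    have hznot : z ∉ V := fun e => hz1 (by
      have h3 := hexp3 hV3 z e
      rwa [pow_succ, pow_two, hzz, one_mul] at h3)
    -- `z` inverts `V`
    let ψ : V →* V := (MulAut.conjNormal z).toMonoidHom
    have hψfree : MonoidHom.FixedPointFree ψ := fun y hy => by
      by_contra hy1
      have hy' : z * (y : G) * z⁻¹ = y := congrArg Subtype.val hy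
      exact hno z y hz4 (hexp3 hV3 y y.2) hz1 (fun e => hy1 (Subtype.ext e))
        (mul_inv_eq_iff_eq_mul.mp hy')
    have hψinv : Function.Involutive ψ := fun y => Subtype.ext (by
      show z * (z * (y : G) * z⁻¹) * z⁻¹ = y
      rw [show z * (z * (y : G) * z⁻¹) * z⁻¹ = (z * z) * y * (z * z)⁻¹ by group, hzz]; group)
    have hinv : ∀ y ∈ V, z * y * z⁻¹ = y⁻¹ := fun y hy =>
      congrArg Subtype.val (congrFun (hψfree.coe_eq_inv_of_involutive hψinv) ⟨y, hy⟩)
    have hVcomm : ∀ a b : V, a * b = b * a := fun a b =>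
      (hψfree.commute_all_of_involutive hψinv a b).eq
    -- centralizer of `V`
    have hCV : Subgroup.centralizer (V : Set G) ≤ V := by
      refine Basics.le_pCore (hN := inferInstance) fun c => ?_
      refine ⟨1, Subtype.ext ?_⟩
      show (c : G) ^ 3 ^ 1 = 1
      obtain ⟨n, hn, hn1⟩ := (Subgroup.bot_or_exists_ne_one V).resolve_left hVne
      have hcn : Commute (c : G) n := (Subgroup.mem_centralizer_iff.mp c.2 n hn).symm
      rw [pow_one, ← orderOf_dvd_iff_pow_eq_one]
      rcases hord (c : G) with h1 | h1 | h1 | h1 <;> rw [h1]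
      · exact one_dvd 3
      · exfalso
        exact hno c n (orderOf_dvd_iff_pow_eq_one.1 (h1 ▸ (by norm_num : (2 : ℕ) ∣ 4))) (hexp3 hV3 n hn)
          (fun e => by rw [e, orderOf_one] at h1; omega) hn1 hcn
      · exfalso
        exact hno c n (h1 ▸ pow_orderOf_eq_one (c : G)) (hexp3 hV3 n hn)
          (fun e => by rw [e, orderOf_one] at h1; omega) hn1 hcn
    -- the image of `z` is central, so all elements of order three lie in `V`
    have hcen : ∀ g : G, g * z * g⁻¹ * z⁻¹ ∈ V := fun g => hCV <| Subgroup.mem_centralizer_iff.2 fun y hy => by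
      have h1 : g⁻¹ * y * g ∈ V := by
        simpa using (inferInstance : V.Normal).conj_mem y hy g⁻¹
      have e1 : z * y * z⁻¹ = y⁻¹ := hinv y hy
      have e2 : z * (g⁻¹ * y * g) * z⁻¹ = g⁻¹ * y⁻¹ * g := by rw [hinv _ h1]; group
      have e3 : (g * z * g⁻¹) * y * (g * z * g⁻¹)⁻¹ = y⁻¹ := by
        calc (g * z * g⁻¹) * y * (g * z * g⁻¹)⁻¹ = g * (z * (g⁻¹ * y * g) * z⁻¹) * g⁻¹ := by group
          _ = g * (g⁻¹ * y⁻¹ * g) * g⁻¹ := by rw [e2]
          _ = y⁻¹ := by group
      have e4 : z⁻¹ * y * z = y⁻¹ := by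
        have e5 := hinv _ (inv_mem hy)
        rw [inv_inv] at e5
        calc z⁻¹ * y * z = z⁻¹ * (z * y⁻¹ * z⁻¹) * z := by rw [e5]
          _ = y⁻¹ := by group
      calc y * (g * z * g⁻¹ * z⁻¹) = (g * z * g⁻¹ * z⁻¹) *
            (z * ((g * z * g⁻¹)⁻¹ * y * (g * z * g⁻¹)) * z⁻¹) := by group
        _ = _ := by
          have e6 : (g * z * g⁻¹)⁻¹ * y * (g * z * g⁻¹) = y⁻¹ := by
            have e7 := congrArg (·⁻¹) e3
            simp only [inv_inv] at e7
            calc (g * z * g⁻¹)⁻¹ * y * (g * z * g⁻¹) = (g * z * g⁻¹)⁻¹ *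
                  ((g * z * g⁻¹ * y * (g * z * g⁻¹)⁻¹)⁻¹) * (g * z * g⁻¹) := by rw [e7]
              _ = y⁻¹ := by group
          rw [e6]
          have e8 := hinv _ (inv_mem hy)
          rw [inv_inv] at e8
          rw [e8]
    have h3V : ∀ g : G, g ^ 3 = 1 → g ∈ V := by
      intro g hg
      by_contra hgV
      have hcomm : Commute (QuotientGroup.mk' V g) (QuotientGroup.mk' V z) := by
        rw [← commutatorElement_eq_one_iff_commute, ← map_commutatorElement]
        exact (QuotientGroup.eq_one_iff _).2 (hcen g)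
      have h1 : orderOf (QuotientGroup.mk' V g) = 3 := orderOf_eq_prime (by rw [← map_pow, hg, map_one])
        (fun e => hgV ((QuotientGroup.eq_one_iff g).1 e))
      have h2 : orderOf (QuotientGroup.mk' V z) = 2 := orderOf_eq_prime
        (by rw [← map_pow, pow_two, hzz, map_one]) (fun e => hznot ((QuotientGroup.eq_one_iff z).1 e))
      have h6 := hcomm.orderOf_mul_eq_mul_orderOf_of_coprime (by rw [h1, h2]; norm_num)
      rw [h1, h2, ← map_mul] at h6
      have hd := h6 ▸ orderOf_map_dvd (QuotientGroup.mk' V) (g * z)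
      rcases hord (g * z) with h | h | h | h <;> rw [h] at hd <;> norm_num at hd
    -- the Sylow 2-subgroup is a complement
    have hTV : (T : Subgroup G) = V := by
      refine le_antisymm (fun g hg => h3V g (hexp3 T.2 g hg)) (Basics.pCore_le_sylow 3 T)
    have hcop : (Nat.card (S : Subgroup G)).Coprime (Nat.card V) := by
      rw [← hTV, S.card_eq_multiplicity, T.card_eq_multiplicity]
      exact Nat.Coprime.pow _ _ (by norm_num)
    have hmul : Nat.card (S : Subgroup G) * Nat.card V = Nat.card G := by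
      rw [← hTV]
      refine Nat.dvd_antisymm ((hTV ▸ hcop).mul_dvd_of_dvd_of_dvd (Subgroup.card_subgroup_dvd_card _)
        (Subgroup.card_subgroup_dvd_card _)) ?_
      rw [S.card_eq_multiplicity, T.card_eq_multiplicity,
        ← Nat.factorization_le_iff_dvd Nat.card_pos.ne'
          (Nat.mul_ne_zero (pow_ne_zero _ two_ne_zero) (pow_ne_zero _ three_ne_zero))]
      intro r
      rcases eq_or_ne ((Nat.card G).factorization r) 0 with h0 | h0
      · rw [h0]; exact Nat.zero_le _
      have hr : r ∈ (Nat.card G).primeFactors := by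
        rw [← Nat.support_factorization]; exact Finsupp.mem_support_iff.2 h0
      rw [Nat.factorization_mul (pow_ne_zero _ two_ne_zero) (pow_ne_zero _ three_ne_zero),
        Nat.prime_two.factorization_pow, Nat.prime_three.factorization_pow, Finsupp.add_apply]
      rcases hprimes r (Nat.prime_of_mem_primeFactors hr) (Nat.dvd_of_mem_primeFactors hr) with rfl | rfl <;>
        simp
    have hcompl : Subgroup.IsComplement' (S : Subgroup G) V :=
      Subgroup.isComplement'_of_coprime hmul hcop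
    have eq1 : (G ⧸ V) ≃* (S : Subgroup G) := hcompl.QuotientMulEquiv
    have h4S : 4 ∣ Nat.card (S : Subgroup G) := by
      rw [S.card_eq_multiplicity]
      exact pow_dvd_pow 2 ((Nat.Prime.pow_dvd_iff_le_factorization Nat.prime_two Nat.card_pos.ne').1
        (show 2 ^ 2 ∣ Nat.card G from
          (dvd_of_eq (by rw [hf0]; norm_num : (2 : ℕ) ^ 2 = orderOf f0)).trans (_root_.orderOf_dvd_natCard f0)))
    refine ⟨V, inferInstance, Or.inr (Or.inr ⟨⟨⟨⟨hVcomm⟩⟩, hexp3 hV3⟩, ?_⟩)⟩
    obtain ⟨S'⟩ : Nonempty (Sylow 2 (S : Subgroup G)) := inferInstance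
    have hS'top : (S' : Subgroup (S : Subgroup G)) = ⊤ := (S'.3 (S.2.to_subgroup ⊤) le_top).symm
    have eq2 : (S' : Subgroup (S : Subgroup G)) ≃* (S : Subgroup G) :=
      (MulEquiv.subgroupCongr hS'top).trans Subgroup.topEquiv
    have hcyc : IsCyclic (S : Subgroup G) → IsCyclic (G ⧸ V) ∧ V.index = 4 := fun hc => by
      refine ⟨isCyclic_of_surjective eq1.symm eq1.symm.surjective, ?_⟩
      rw [Subgroup.index_eq_card, Nat.card_congr eq1.toEquiv]
      obtain ⟨g, hg⟩ := hc.exists_ofOrder_eq_natCard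
      refine Nat.dvd_antisymm ?_ h4S
      rw [← hg]
      exact orderOf_dvd_of_pow_eq_one (Subtype.ext (hexp4 S.2 g g.2))
    rcases Basics.fpf_sylow_cyclic_or_quaternion V S hVne hfix 2 S' with hc | ⟨-, n, ⟨eq⟩⟩
    · exact Or.inl (hcyc (isCyclic_of_surjective eq2.toMonoidHom eq2.surjective))
    · haveI : NeZero (2 ^ n) := ⟨pow_ne_zero n two_ne_zero⟩
      have ha : orderOf (eq2 (eq.symm (QuaternionGroup.a 1))) = 2 * 2 ^ n := by
        rw [MulEquiv.orderOf_eq, MulEquiv.orderOf_eq, QuaternionGroup.orderOf_a_one]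
      have hb : 2 * 2 ^ n ∣ 4 := ha ▸ orderOf_dvd_of_pow_eq_one (Subtype.ext (hexp4 S.2 _ (SetLike.coe_mem _)))
      rcases n with _ | _ | n
      · left
        apply hcyc
        refine isCyclic_of_orderOf_eq_card (eq2 (eq.symm (QuaternionGroup.xa 0))) ?_
        rw [MulEquiv.orderOf_eq, MulEquiv.orderOf_eq, QuaternionGroup.orderOf_xa,
          ← Nat.card_congr eq2.toEquiv, Nat.card_congr eq.toEquiv, Nat.card_eq_fintype_card, QuaternionGroup.card]
        norm_num
      · exact Or.inr ⟨eq1.trans (eq2.symm.trans eq)⟩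
      · exfalso
        have := Nat.le_of_dvd (by norm_num) hb
        have : 1 ≤ 2 ^ n := Nat.one_le_two_pow
        rw [pow_succ, pow_succ] at *
        omega

end Cfsg.Agent.S4006
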