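import Cfsg.Statements.S4009
import Cfsg.Agent.Lib.FGB.DerivedOrder
-- import your own Cfsg.Agent.* helpers here

set_option autoImplicit false
open Cfsg

namespace Cfsg.Agent.S4009

/-- Let P be a finite p-group of order p^n whose derived length is exactly k + 1 (the k-th derived subgroup is nontrivial and the (k+1)-st is trivial). Then n ≥ 2^k + 2k − 2. -/
theorem result {P : Type*} [Group P] [Finite P] (p : ℕ) [Fact p.Prime] (n k : ℕ) (hcard : Nat.card P = p ^ n) (hk : derivedSeries P k ≠ ⊥) (hk' : derivedSeries P (k + 1) = ⊥) : 2 ^ k + 2 * k ≤ n + 2 := by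
  rcases Nat.eq_zero_or_pos k with rfl | hk1
  · simp
  have hG : IsPGroup p P := IsPGroup.of_card hcard
  have hit : ∀ i, (fun K : Subgroup P => ⁅K, K⁆)^[i] ⊤ = derivedSeries P i := by
    intro i
    induction i with
    | zero => rfl
    | succ i ih => rw [Function.iterate_succ_apply', ih, derivedSeries_succ]
  have h := (FGB.Derived.bound hG k (⊤ : Subgroup P) 1 0 n (by rw [hit]; exact hk) le_top
    (by rw [Subgroup.card_top, hcard]) hk1).2.2 le_rfl
  omega

end Cfsg.Agent.S4009
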