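import Cfsg.Statements.S4010
import Mathlib
import Cfsg.Agent.Lib.FGB.LinearDerived
-- import your own Cfsg.Agent.* helpers here

set_option autoImplicit false
open Cfsg

namespace Cfsg.Agent.S4010

/-- Let F be a field, n ≥ 1, and P a finite p-group (p a prime) admitting an injective homomorphism into the general linear group of degree n over F. Then the derived length of P is at most ⌊log₂ n⌋ + 1: that term of the derived series of P is trivial. -/
theorem result {P : Type*} [Group P] [Finite P] (p : ℕ) [Fact p.Prime] (hP : IsPGroup p P) (F : Type*) [Field F] (n : ℕ) (hn : 1 ≤ n) (ρ : P →* Matrix.GeneralLinearGroup (Fin n) F) (hρ : Function.Injective ρ) : derivedSeries P (Nat.log 2 n + 1) = ⊥ := by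

  classical
  let L := AlgebraicClosure F
  let σ : Matrix.GeneralLinearGroup (Fin n) F →* Matrix.GeneralLinearGroup (Fin n) L :=
    Units.map (RingHom.mapMatrix (algebraMap F L)).toMonoidHom
  let R : Representation L P (Fin n → L) :=
    (Matrix.toLinAlgEquiv' : Matrix (Fin n) (Fin n) L ≃ₐ[L] _).toMonoidHom.comp ((Units.coeHom _).comp (σ.comp ρ))
  have hR : ∀ g, R g = 1 → g = 1 := fun g hg => by
    apply hρ
    rw [map_one]
    have h1 : ((σ (ρ g) : Matrix.GeneralLinearGroup (Fin n) L) : Matrix (Fin n) (Fin n) L) = 1 :=
      (Matrix.toLinAlgEquiv' : Matrix (Fin n) (Fin n) L ≃ₐ[L] _).injective (hg.trans (map_one _).symm)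
    refine Units.ext (Matrix.map_injective (algebraMap F L).injective ?_)
    exact h1.trans (map_one (RingHom.mapMatrix (algebraMap F L))).symm
  have hd := FGB.derived_linear_pgroup hP R
  rw [Module.finrank_fintype_fun_eq_card, Fintype.card_fin] at hd
  exact (Subgroup.eq_bot_iff_forall _).mpr fun g hg => hR g (hd g hg)

end Cfsg.Agent.S4010
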