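import Cfsg.Statements.S4013
-- import your own Cfsg.Agent.* helpers here

set_option autoImplicit false
open Cfsg

namespace Cfsg.Agent.S4013

/-- Let G be a finite p-group (p prime) and N < M normal subgroups of G such that for some g ∈ M ∖ N the conjugacy class of g is exactly M ∖ N. Then p = 2 and N has index 2 in M. -/
theorem result {G : Type*} [Group G] [Finite G] (p : ℕ) [Fact p.Prime] (hG : IsPGroup p G) (N M : Subgroup G) [N.Normal] [M.Normal] (hNM : N < M) (g : G) (hgM : g ∈ M) (hgN : g ∉ N) (hcl : {h : G | IsConj g h} = (M : Set G) \ (N : Set G)) : p = 2 ∧ N.relIndex M = 2 := by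
  classical
  have hp : p.Prime := Fact.out
  obtain ⟨n, hn⟩ := hG.exists_card_eq
  obtain ⟨a, -, ha⟩ := (Nat.dvd_prime_pow hp).mp (hn ▸ N.card_subgroup_dvd_card)
  obtain ⟨b, -, hb⟩ := (Nat.dvd_prime_pow hp).mp (hn ▸ M.card_subgroup_dvd_card)
  have hd : Nat.card M - Nat.card N ∣ Nat.card G := by
    have h1 : ({h : G | IsConj g h}).ncard = Nat.card M - Nat.card N := by
      rw [hcl, Set.ncard_diff hNM.le]
      rfl
    have h2 : ({h : G | IsConj g h}).ncard = (Subgroup.centralizer ({g} : Set G)).index := by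
      have : ({h : G | IsConj g h}) = MulAction.orbit (ConjAct G) g := by
        ext h
        rw [ConjAct.orbit_eq_carrier_conjClasses, ConjClasses.mem_carrier_iff_mk_eq,
          ConjClasses.mk_eq_mk_iff_isConj, Set.mem_setOf_eq]
        exact ⟨IsConj.symm, IsConj.symm⟩
      rw [this, ← MulAction.index_stabilizer, ConjAct.stabilizer_eq_centralizer]
      rfl
    rw [← h1, h2]
    exact Subgroup.index_dvd_card _
  have hab : a < b := by
    by_contra hcon
    exact absurd (Subgroup.eq_of_le_of_card_ge hNM.le (by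
      rw [ha, hb]; exact Nat.pow_le_pow_right hp.pos (not_lt.mp hcon))) hNM.ne
  rw [ha, hb, hn] at hd
  obtain ⟨c, rfl⟩ := Nat.exists_eq_add_of_lt hab
  have e : p ^ (a + c + 1) - p ^ a = p ^ a * (p ^ (c + 1) - 1) := by
    rw [Nat.mul_sub, mul_one, ← pow_add, add_assoc]
  have hd' : p ^ (c + 1) - 1 ∣ p ^ n := (e ▸ hd : _ ∣ p ^ n) |> (dvd_mul_left _ _).trans
  obtain ⟨t, -, ht⟩ := (Nat.dvd_prime_pow hp).mp hd'
  have hone : p ^ (c + 1) - 1 = 1 := by
    rcases Nat.eq_zero_or_pos t with rfl | ht0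
    · exact ht.trans (pow_zero p)
    · exfalso
      have h1 : p ∣ p ^ (c + 1) - 1 := ht ▸ dvd_pow_self p ht0.ne'
      have h2 : p ∣ p ^ (c + 1) := dvd_pow_self p (Nat.succ_ne_zero c)
      have h4 : 1 ≤ p ^ (c + 1) := Nat.one_le_pow _ _ hp.pos
      have h3 := Nat.dvd_sub h2 h1
      rw [Nat.sub_sub_self h4] at h3
      exact hp.not_dvd_one h3
  have h2 : p ^ (c + 1) = 2 := by omega
  have hp2 : p = 2 := by
    have : p ∣ 2 := h2 ▸ dvd_pow_self p (Nat.succ_ne_zero c)
    exact (Nat.prime_dvd_prime_iff_eq hp Nat.prime_two).mp this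
  refine ⟨hp2, ?_⟩
  have h5 := Subgroup.card_mul_index (N.subgroupOf M)
  rw [Nat.card_congr (Subgroup.subgroupOfEquivOfLe hNM.le).toEquiv, ha, hb, add_assoc,
    pow_add, h2] at h5
  exact Nat.eq_of_mul_eq_mul_left (pow_pos hp.pos a) h5

end Cfsg.Agent.S4013
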