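import Cfsg.Statements.S4014
import Mathlib
import Cfsg.Agent.Lib.FGB.SymSylowDerived
-- import your own Cfsg.Agent.* helpers here

set_option autoImplicit false
open Cfsg

namespace Cfsg.Agent.S4014

/-- Let p be a prime, n ≥ 1, and P a Sylow p-subgroup of the symmetric group on n letters. Then the derived length of P is exactly k = ⌊log_p n⌋ (the largest k with p^k ≤ n): the k-th derived subgroup of P is trivial and, when k ≥ 1, the (k−1)-st is not. -/
theorem result (p : ℕ) [Fact p.Prime] (n : ℕ) (hn : 1 ≤ n) (P : Sylow p (Equiv.Perm (Fin n))) : derivedSeries ↥(P : Subgroup (Equiv.Perm (Fin n))) (Nat.log p n) = ⊥ ∧ (1 ≤ Nat.log p n → derivedSeries ↥(P : Subgroup (Equiv.Perm (Fin n))) (Nat.log p n - 1) ≠ ⊥) := by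

  classical
  have hn0 : n ≠ 0 := by omega
  refine ⟨?_, fun hk => ?_⟩
  · rw [Subgroup.eq_bot_iff_forall]
    intro g hg
    refine Subtype.ext (Equiv.ext fun x => ?_)
    have hlt := Nat.lt_pow_succ_log_self (Fact.out : p.Prime).one_lt n
    have hidx : (MulAction.stabilizer ↥(P : Subgroup (Equiv.Perm (Fin n))) x).index ≤ p ^ Nat.log p n := by
      obtain ⟨k, hk⟩ := P.2.index (MulAction.stabilizer ↥(P : Subgroup (Equiv.Perm (Fin n))) x)
      rw [hk]
      refine Nat.pow_le_pow_right (Fact.out : p.Prime).pos ?_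
      have h2 : p ^ k ≤ n := by
        rw [← hk, Subgroup.index_eq_card, ← Nat.card_congr (MulAction.orbitEquivQuotientStabilizer _ x)]
        exact (Nat.card_le_card_of_injective _ Subtype.val_injective).trans (by simp)
      exact Nat.le_log_of_pow_le (Fact.out : p.Prime).one_lt h2
    exact FGB.derived_fix_of_orbit_le _ P.2 x hidx g hg
  · obtain ⟨j, hj⟩ : ∃ j, Nat.log p n = j + 1 := ⟨_, (Nat.sub_add_cancel hk).symm⟩
    obtain ⟨Q, hQ, hQj⟩ := FGB.exists_pgroup_derived p j
    have hle : p ^ (j + 1) ≤ n := hj ▸ Nat.pow_log_le_self p hn0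
    let f := Equiv.Perm.viaEmbeddingHom (Fin.castLEEmb hle)
    have hf : Function.Injective f := Equiv.Perm.viaEmbeddingHom_injective _
    let E := Q.equivMapOfInjective f hf
    obtain ⟨P', hP'⟩ := (hQ.of_equiv E).exists_le_sylow
    rw [hj, Nat.add_sub_cancel]
    intro hbot
    apply hQj
    let g : Q →* (P : Subgroup (Equiv.Perm (Fin n))) := (P'.equiv P).toMonoidHom.comp ((Subgroup.inclusion hP').comp E.toMonoidHom)
    have hg : Function.Injective g := (P'.equiv P).injective.comp ((Subgroup.inclusion_injective hP').comp E.injective)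
    rw [eq_bot_iff]
    intro q hq
    have h1 : g q ∈ derivedSeries ↥(P : Subgroup (Equiv.Perm (Fin n))) j := map_derivedSeries_le_derivedSeries g j ⟨q, hq, rfl⟩
    rw [hbot, Subgroup.mem_bot] at h1
    exact Subgroup.mem_bot.mpr (hg (h1.trans (map_one g).symm))

end Cfsg.Agent.S4014
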