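import Cfsg.Statements.S4015
import Cfsg.Agent.Lib.FGB.GLSylowDerived

set_option autoImplicit false
open Cfsg

namespace Cfsg.Agent.S4015

/-- Let p be an odd prime, F a finite field with q elements where p does not divide q, and e the multiplicative order of q modulo p. Let n ≥ e and write w = ⌊n/e⌋ and k = ⌊log_p w⌋. Then a Sylow p-subgroup of GL(n, F) has derived length exactly k + 1: its (k+1)-st derived subgroup is trivial and its k-th is not. -/
theorem result (p : ℕ) [Fact p.Prime] (hp : p ≠ 2) (F : Type*) [Field F] [Fintype F] (q : ℕ) (hq : Fintype.card F = q) (hpq : ¬ p ∣ q) (n : ℕ) (hn : orderOf (q : ZMod p) ≤ n) (P : Sylow p (Matrix.GeneralLinearGroup (Fin n) F)) : derivedSeries ↥(P : Subgroup (Matrix.GeneralLinearGroup (Fin n) F)) (Nat.log p (n / orderOf (q : ZMod p)) + 1) = ⊥ ∧ derivedSeries ↥(P : Subgroup (Matrix.GeneralLinearGroup (Fin n) F)) (Nat.log p (n / orderOf (q : ZMod p))) ≠ ⊥ := by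
  classical
  have hp' : p.Prime := Fact.out
  set e := orderOf (q : ZMod p) with he
  have he1 : 1 ≤ e := GLOrders.orderOf_pos' hpq
  set w := n / e with hw
  have hw1 : 1 ≤ w := Nat.div_pos hn he1
  set k := Nat.log p w with hk
  constructor
  · rw [eq_bot_iff]
    intro g hg
    let V := Fin n → F
    let f : GL (Fin n) F →* (Module.End F V)ˣ := (Matrix.GeneralLinearGroup.toLin).toMonoidHom
    let ρ : Representation F ↥(P : Subgroup (GL (Fin n) F)) V :=
      (Units.coeHom (Module.End F V)).comp (f.comp (P : Subgroup (GL (Fin n) F)).subtype)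
    have hlt : Module.finrank F V < e * p ^ (k + 1) := by
      rw [Module.finrank_fintype_fun_eq_card, Fintype.card_fin]
      calc n < e * (w + 1) := Nat.lt_mul_div_succ n he1
        _ ≤ _ := Nat.mul_le_mul_left e (Nat.lt_pow_succ_log_self hp'.one_lt w)
    have h1 := FGB.GLDerived.derived_trivial hp hq hpq (k + 1) P.2 ρ hlt g hg
    rw [Subgroup.mem_bot]
    apply Subtype.ext
    apply Matrix.GeneralLinearGroup.toLin.injective
    rw [OneMemClass.coe_one, map_one]
    exact Units.ext h1
  · have hq2 : 2 ≤ q := hq ▸ GLOrders.two_le_card F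
    obtain ⟨t, ht⟩ : ∃ t : GL (Fin e) F, orderOf t = p := by
      refine exists_prime_orderOf_dvd_card' p ?_
      rw [Matrix.card_GL_field, hq]
      refine dvd_trans ?_ (Finset.dvd_prod_of_mem _ (Finset.mem_univ (⟨0, he1⟩ : Fin e)))
      rw [pow_zero, GLOrders.dvd_pow_sub_one_iff (by omega)]
    let L : ∀ d : ℕ, GL (Fin d) F ≃* ((Fin d → F) ≃ₗ[F] (Fin d → F)) := fun d =>
      Matrix.GeneralLinearGroup.toLin.trans (LinearMap.GeneralLinearGroup.generalLinearEquiv F (Fin d → F))
    obtain ⟨Q, hQ, hQk⟩ := FGB.GLDerived.exists_derived_ne_bot hp (L e t) (by rw [MulEquiv.orderOf_eq, ht]) k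
    have hle : e * p ^ k ≤ n :=
      (Nat.mul_le_mul_left e (Nat.pow_log_le_self p (by omega : w ≠ 0))).trans (Nat.mul_div_le n e)
    let ψ : ↥Q →* GL (Fin n) F := ((GLOrders.blockEmbed F hle).comp (L (e * p ^ k)).symm.toMonoidHom).comp Q.subtype
    have hψ : Function.Injective ψ :=
      ((GLOrders.blockEmbed_injective F hle).comp (L (e * p ^ k)).symm.injective).comp Subtype.val_injective
    obtain ⟨R, hR⟩ := (hQ.of_surjective ψ.rangeRestrict ψ.rangeRestrict_surjective).exists_le_sylow
    let ι : ↥Q →* ↥(P : Subgroup (GL (Fin n) F)) :=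
      (R.equiv P).toMonoidHom.comp ((Subgroup.inclusion hR).comp ψ.rangeRestrict)
    have hι : Function.Injective ι := fun a b h =>
      hψ (congrArg Subtype.val (Subgroup.inclusion_injective hR ((R.equiv P).injective h)))
    intro h
    apply hQk
    rw [eq_bot_iff]
    intro x hx
    have h1 := map_derivedSeries_le_derivedSeries ι k ⟨x, hx, rfl⟩
    rw [h, Subgroup.mem_bot] at h1
    exact Subgroup.mem_bot.2 (hι (h1.trans (map_one ι).symm))

end Cfsg.Agent.S4015
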