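import Cfsg.Statements.S4018
import Mathlib
import Cfsg.Agent.Lib.FGB.Basic

set_option autoImplicit false
open Cfsg

namespace Cfsg.Agent.S4018

open Cfsg.Agent.FGB
open scoped Pointwise

/-- Friendship contradiction for a regular graph of degree `k ≥ 3`. -/
theorem friendship_regular {V : Type*} [Fintype V] [Nonempty V] [DecidableEq V] (r : V → V → Prop)
    [DecidableRel r] (hsymm : ∀ a b, r a b → r b a) (hirr : ∀ a, ¬ r a a) (k : ℕ) (hk : 3 ≤ k)
    (hreg : ∀ a, (Finset.univ.filter (r a)).card = k)
    (huniq : ∀ a b, a ≠ b → ∃! c, r a c ∧ r c b) : False := by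
  obtain ⟨p, hp, hpd⟩ := Nat.exists_prime_and_dvd (n := k - 1) (by omega)
  haveI := Fact.mk hp
  have hk1 : (k : ZMod p) = 1 := by
    have : ((k - 1 : ℕ) : ZMod p) = 0 := (CharP.cast_eq_zero_iff (ZMod p) p _).mpr hpd
    rw [Nat.cast_sub (by omega), Nat.cast_one, sub_eq_zero] at this
    exact this
  let A : Matrix V V (ZMod p) := fun a b => if r a b then 1 else 0
  let J : Matrix V V (ZMod p) := fun _ _ => 1
  have hAA : A * A = J := by
    ext a b
    rw [Matrix.mul_apply]
    show ∑ c, (if r a c then (1 : ZMod p) else 0) * (if r c b then 1 else 0) = 1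
    simp only [← ite_and, ite_mul, one_mul, zero_mul]
    rw [Finset.sum_boole]
    by_cases hab : a = b
    · subst hab
      rw [show (Finset.univ.filter fun c => r a c ∧ r c a) = Finset.univ.filter (r a) from
        Finset.filter_congr fun c _ => ⟨fun h => h.1, fun h => ⟨h, hsymm _ _ h⟩⟩, hreg, hk1]
    · obtain ⟨c, hc, hcu⟩ := huniq a b hab
      rw [show (Finset.univ.filter fun c => r a c ∧ r c b) = {c} from ?_]
      · simp
      · ext d
        simp only [Finset.mem_filter, Finset.mem_univ, true_and, Finset.mem_singleton]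
        exact ⟨fun h => hcu d h, fun h => h ▸ hc⟩
  have hAJ : A * J = J := by
    ext a b
    rw [Matrix.mul_apply]
    show ∑ c, (if r a c then (1 : ZMod p) else 0) * 1 = 1
    simp only [mul_one]
    rw [Finset.sum_boole, hreg, hk1]
  have hpow : ∀ m, A ^ (m + 2) = J := by
    intro m
    induction m with
    | zero => rw [pow_two, hAA]
    | succ m ih => rw [show m + 1 + 2 = (m + 2) + 1 from rfl, pow_succ', ih, hAJ]
  have h1 : Matrix.trace J = 0 := by
    obtain ⟨m, hm⟩ : ∃ m, p = m + 2 := ⟨p - 2, by have := hp.two_le; omega⟩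
    rw [← hpow m, ← hm, ZMod.trace_pow_card]
    have : Matrix.trace A = 0 := Finset.sum_eq_zero fun i _ => by
      show (if r i i then (1 : ZMod p) else 0) = 0
      rw [if_neg (hirr i)]
    rw [this, zero_pow hp.ne_zero]
  have h2 : J * J = J := by
    calc J * J = A ^ 2 * A ^ 2 := by rw [hpow 0]
      _ = A ^ (2 + 2) := by rw [pow_add]
      _ = J := hpow 2
  obtain ⟨a⟩ := (inferInstance : Nonempty V)
  have h3 := congrFun (congrFun h2 a) a
  rw [Matrix.mul_apply] at h3
  have h4 : (∑ _c : V, (1 : ZMod p)) = 0 := h1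
  have h5 : (∑ _c : V, (1 : ZMod p) * 1) = 1 := h3
  simp only [mul_one, h4] at h5
  exact zero_ne_one h5

theorem card_mul_relIndex {G : Type*} [Group G] {H K : Subgroup G} (h : H ≤ K) :
    Nat.card H * H.relIndex K = Nat.card K := by
  have := (H.subgroupOf K).card_mul_index
  rwa [Nat.card_congr (Subgroup.subgroupOfEquivOfLe h).toEquiv] at this

theorem commute_conj_iff {G : Type*} [Group G] (g a b : G) :
    Commute (g * a * g⁻¹) (g * b * g⁻¹) ↔ Commute a b := by
  exact ⟨fun h => by simpa [MulAut.conj_apply, mul_assoc] using h.map (MulAut.conj g⁻¹).toMonoidHom,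
    fun h => by simpa [MulAut.conj_apply] using h.map (MulAut.conj g).toMonoidHom⟩

theorem main {G : Type*} [Group G] [Finite G]
    (P : Sylow 3 G) (hab : IsMulCommutative P)
    (hN : Nat.card (Subgroup.normalizer ((P : Subgroup G) : Set G)) = 4 * Nat.card P)
    (hC : Nat.card (Subgroup.centralizer (P : Set G)) = 2 * Nat.card P)
    (hTI : Cfsg.IsTISubset (Subgroup.centralizer (P : Set G) : Set G))
    (heven : ∀ H : Subgroup G, H ≠ ⊤ → 2 ∣ Nat.card H → Nat.card H ∣ 4 * Nat.card P) :
    ¬ IsSimpleGroup G := by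
  intro hS
  classical
  haveI : Fact (Nat.Prime 3) := ⟨Nat.prime_three⟩
  haveI : Fact (Nat.Prime 2) := ⟨Nat.prime_two⟩
  let N := Subgroup.normalizer ((P : Subgroup G) : Set G)
  let C := Subgroup.centralizer (P : Set G)
  let q := Nat.card P
  have hq0 : 0 < q := Nat.card_pos
  obtain ⟨a, hqa⟩ := IsPGroup.iff_card.mp P.2
  have hqa' : q = 3 ^ a := hqa
  have hCN : C ≤ N := Subgroup.centralizer_le_normalizer _
  have hNtop : N ≠ ⊤ := by
    intro hN'
    have hnorm : (P : Subgroup G).Normal := Subgroup.normalizer_eq_top_iff.mp hN'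
    rcases hnorm.eq_bot_or_eq_top with h | h
    · have hC' : C = ⊤ := by
        rw [eq_top_iff]
        intro x _
        rw [Subgroup.mem_centralizer_iff]
        intro y hy
        have : y = 1 := by
          have hy' : y ∈ (P : Subgroup G) := hy
          simpa [h] using hy'
        simp [this]
      change Nat.card N = _ at hN
      change Nat.card C = _ at hC
      rw [hN', Subgroup.card_top] at hN
      rw [hC', Subgroup.card_top] at hC
      omega
    · change Nat.card N = _ at hN
      rw [hN', Subgroup.card_top] at hN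
      have : q = Nat.card G := by
        show Nat.card (P : Subgroup G) = _
        rw [h, Subgroup.card_top]
      omega
  have hPbot : (P : Subgroup G) ≠ ⊥ := by
    intro h
    exact hNtop (Subgroup.normalizer_eq_top_iff.mpr (h ▸ Subgroup.normal_bot : (P : Subgroup G).Normal))
  have hq3 : 3 ≤ q := by
    have h1 : 1 < q := (Subgroup.one_lt_card_iff_ne_bot _).mpr hPbot
    rcases a with _ | a
    · simp at hqa'; omega
    · rw [hqa', pow_succ]; have := Nat.one_le_pow a 3 (by norm_num); omega
  have hqodd : Odd q := hqa' ▸ (Odd.pow (by decide))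
  have hPC : (P : Subgroup G) ≤ C := fun x hx => Subgroup.mem_centralizer_iff.mpr fun y hy =>
    congrArg Subtype.val (hab.is_comm.comm (⟨y, hy⟩ : (P : Subgroup G)) ⟨x, hx⟩)
  have hcard2 : 4 ∣ Nat.card G := (Dvd.intro q hN.symm).trans (Subgroup.card_subgroup_dvd_card N)
  obtain ⟨t, ht, ht2⟩ : ∃ t ∈ C, orderOf t = 2 := by
    obtain ⟨t, ht⟩ := exists_prime_orderOf_dvd_card' (G := C) 2 ⟨q, hC⟩
    exact ⟨t, t.2, by rw [Subgroup.orderOf_coe]; exact ht⟩
  have htt : t * t = 1 := by rw [← pow_two, ← ht2]; exact pow_orderOf_eq_one t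
  have ht1 : t ≠ 1 := fun h => by simp [h] at ht2
  have htP : t ∉ (P : Subgroup G) := by
    intro h
    have := orderOf_dvd_natCard (⟨t, h⟩ : (P : Subgroup G))
    rw [← Subgroup.orderOf_coe, ht2] at this
    exact Nat.not_even_iff_odd.mpr hqodd (even_iff_two_dvd.mpr this)
  -- the elements of C
  have hPidx : (P : Subgroup G).relIndex C = 2 := by
    have h' : (P : Subgroup G).relIndex C * q = 2 * q := by
      rw [mul_comm]
      exact (card_mul_relIndex hPC).trans hC
    exact Nat.eq_of_mul_eq_mul_right hq0 h'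
  have hCform : ∀ c ∈ C, c ∈ (P : Subgroup G) ∨ ∃ x ∈ (P : Subgroup G), c = t * x := by
    intro c hc
    by_cases hcP : c ∈ (P : Subgroup G)
    · exact Or.inl hcP
    · refine Or.inr ⟨t⁻¹ * c, ?_, by group⟩
      have h := Subgroup.mul_mem_iff_of_index_two (H := (P : Subgroup G).subgroupOf C) hPidx
        (a := (⟨t⁻¹, C.inv_mem ht⟩ : C)) (b := ⟨c, hc⟩)
      have : t⁻¹ * c ∈ (P : Subgroup G) ↔ (t⁻¹ ∈ (P : Subgroup G) ↔ c ∈ (P : Subgroup G)) := h
      exact this.mpr ⟨fun h' => absurd (inv_mem_iff.mp h') htP, fun h' => absurd h' hcP⟩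
  have htPcomm : ∀ x ∈ (P : Subgroup G), Commute t x := fun x hx =>
    (Subgroup.mem_centralizer_iff.mp ht x hx).symm
  have hPcomm : ∀ x ∈ (P : Subgroup G), ∀ y ∈ (P : Subgroup G), Commute x y := fun x hx y hy =>
    congrArg Subtype.val (hab.is_comm.comm (⟨x, hx⟩ : (P : Subgroup G)) ⟨y, hy⟩)
  have hCt : ∀ c ∈ C, Commute t c := by
    intro c hc
    rcases hCform c hc with h | ⟨x, hx, rfl⟩
    · exact htPcomm c h
    · exact (Commute.refl t).mul_right (htPcomm x hx)
  -- the centraliser of t
  let Ct := Subgroup.centralizer ({t} : Set G)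
  have hCCt : C ≤ Ct := fun c hc => Subgroup.mem_centralizer_singleton_iff.mpr (hCt c hc).symm
  have hnoc : Subgroup.center G ≠ ⊤ := by
    intro h
    have hC' : C = ⊤ := by
      rw [eq_top_iff, ← h]
      exact Subgroup.center_le_centralizer _
    have : Nat.card N ≤ Nat.card C := Subgroup.card_le_of_le (hC'.symm ▸ le_top)
    change Nat.card N = _ at hN
    change Nat.card C = _ at hC
    omega
  have hcenter : Subgroup.center G = ⊥ :=
    (inferInstance : (Subgroup.center G).Normal).eq_bot_or_eq_top.resolve_right hnoc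
  have hCttop : Ct ≠ ⊤ := by
    intro h
    have := centralizer_singleton_eq_top_iff.mp h
    rw [hcenter, Subgroup.mem_bot] at this
    exact ht1 this
  have hz2 : IsPGroup 2 (Subgroup.zpowers t) := IsPGroup.of_card (n := 1) (by rw [Nat.card_zpowers, ht2, pow_one])
  obtain ⟨S, hS'⟩ := hz2.exists_le_sylow
  have htS : t ∈ (S : Subgroup G) := hS' (Subgroup.mem_zpowers t)
  have hScard : Nat.card (S : Subgroup G) = 4 := by
    obtain ⟨j, hj⟩ := IsPGroup.iff_card.mp S.2
    have h4 : 2 ^ 2 ∣ Nat.card (S : Subgroup G) := S.pow_dvd_card_of_pow_dvd_card hcard2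
    have hStop : (S : Subgroup G) ≠ ⊤ := by
      intro h
      have h3 : 3 ∣ Nat.card (S : Subgroup G) := by
        rw [h, Subgroup.card_top]
        refine dvd_trans ?_ (Subgroup.card_subgroup_dvd_card (P : Subgroup G))
        rw [show Nat.card (P : Subgroup G) = 3 ^ a from hqa']
        refine dvd_pow_self 3 fun ha => ?_
        simp [ha] at hqa'
        omega
      rw [hj] at h3
      exact absurd (Nat.prime_three.dvd_of_dvd_pow h3) (by decide)
    have h2 : 2 ∣ Nat.card (S : Subgroup G) := dvd_trans (by norm_num) h4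
    have := heven _ hStop h2
    rw [hj] at this h4 ⊢
    have hco : (2 ^ j).Coprime q := (Nat.coprime_two_left.mpr hqodd).pow_left j
    have h5 : 2 ^ j ∣ 2 ^ 2 := by
      have h' : 2 ^ j ∣ 4 * q := this
      exact hco.dvd_of_dvd_mul_right h'
    exact Nat.dvd_antisymm h5 h4
  have hScomm : ∀ x ∈ (S : Subgroup G), ∀ y ∈ (S : Subgroup G), Commute x y := fun x hx y hy =>
    congrArg Subtype.val (IsPGroup.commutative_of_card_eq_prime_sq (p := 2) (by rw [hScard]; norm_num)
      (⟨x, hx⟩ : (S : Subgroup G)) ⟨y, hy⟩)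
  have hSCt : (S : Subgroup G) ≤ Ct := fun y hy =>
    Subgroup.mem_centralizer_singleton_iff.mpr (hScomm y hy t htS)
  have hCtcard : Nat.card Ct = 4 * q := by
    have h2 : 2 ∣ Nat.card Ct := ht2 ▸ Subgroup.orderOf_dvd_natCard _ (mem_centralizer_singleton_self t)
    refine Nat.dvd_antisymm (heven Ct hCttop h2) ?_
    exact Nat.Coprime.mul_dvd_of_dvd_of_dvd (Nat.Coprime.pow_left 2 (Nat.coprime_two_left.mpr hqodd))
      (hScard ▸ Subgroup.card_dvd_of_le hSCt) (Subgroup.card_dvd_of_le (hPC.trans hCCt))
  have hCidx : C.relIndex Ct = 2 := by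
    have h' : C.relIndex Ct * Nat.card C = Nat.card Ct := by rw [mul_comm]; exact card_mul_relIndex hCCt
    rw [hCtcard, show Nat.card C = 2 * q from hC] at h'
    nlinarith
  have hpow : ∀ x ∈ C, (x ∈ (P : Subgroup G) ↔ x ^ q = 1) := by
    intro x hx
    constructor
    · intro h
      exact congrArg Subtype.val (pow_card_eq_one' (x := (⟨x, h⟩ : (P : Subgroup G))))
    · intro h
      rcases hCform x hx with h' | ⟨y, hy, rfl⟩
      · exact h'
      · have hyq : y ^ q = 1 := congrArg Subtype.val (pow_card_eq_one' (x := (⟨y, hy⟩ : (P : Subgroup G))))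
        rw [(htPcomm y hy).mul_pow, hyq, mul_one] at h
        obtain ⟨m, hm⟩ := hqodd
        rw [hm, pow_succ, pow_mul, pow_two, htt, one_pow, one_mul] at h
        exact absurd h ht1
  have hNC : Subgroup.normalizer (C : Set G) ≤ N := by
    intro g hg
    rw [Subgroup.mem_normalizer_iff]
    intro x
    rw [Subgroup.mem_normalizer_iff] at hg
    constructor
    · intro hx
      exact (hpow _ ((hg x).mp (hPC hx))).mpr (by rw [conj_pow, (hpow x (hPC hx)).mp hx]; simp)
    · intro hx
      have h1 : g * x * g⁻¹ ∈ C := hPC hx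
      refine (hpow x ((hg x).mpr h1)).mpr ?_
      have := (hpow _ h1).mp hx
      rw [conj_pow] at this
      simpa using this
  have hCtN : Ct = N := by
    refine Subgroup.eq_of_le_of_card_ge (fun g hg => hNC ?_) (by rw [hCtcard]; exact hN.le)
    haveI : (C.subgroupOf Ct).Normal := Subgroup.normal_of_index_eq_two hCidx
    exact (Subgroup.normal_subgroupOf_iff_le_normalizer hCCt).mp this hg
  have hNt : ∀ x, x ∈ N ↔ Commute x t := fun x => by
    rw [← hCtN]; exact Subgroup.mem_centralizer_singleton_iff
  -- all involutions are conjugate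
  have hSconj : ∀ y ∈ (S : Subgroup G), y ≠ 1 → IsConj t y := by
    obtain ⟨g, hgN, hgC⟩ : ∃ g, g ∈ Subgroup.normalizer ((S : Subgroup G) : Set G) ∧
        g ∉ Subgroup.centralizer ((S : Subgroup G) : Set G) := by
      by_contra h
      push Not at h
      have hcompl := MonoidHom.ker_transferSylow_isComplement' S h
      rcases (inferInstance : (MonoidHom.transferSylow S h).ker.Normal).eq_bot_or_eq_top with h' | h'
      · rw [h'] at hcompl
        have hc := hcompl.card_mul
        rw [Subgroup.card_bot, one_mul, hScard] at hc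
        have hNle : Nat.card N ≤ Nat.card G := Nat.le_of_dvd Nat.card_pos (Subgroup.card_subgroup_dvd_card N)
        change Nat.card N = _ at hN
        omega
      · rw [h'] at hcompl
        have hc := hcompl.card_mul
        rw [Subgroup.card_top, hScard] at hc
        have : 0 < Nat.card G := Nat.card_pos
        omega
    let T := Subgroup.centralizer ((S : Subgroup G) : Set G)
    let M := Subgroup.normalizer ((S : Subgroup G) : Set G)
    have hTM : T ≤ M := Subgroup.centralizer_le_normalizer _
    have hST : (S : Subgroup G) ≤ T := fun x hx => Subgroup.mem_centralizer_iff.mpr fun y hy => hScomm y hy x hx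
    have hodd : Odd (T.relIndex M) := by
      rw [← Nat.not_even_iff_odd, even_iff_two_dvd]
      intro h
      exact S.not_dvd_index (h.trans ((Subgroup.relIndex_dvd_index_of_le hTM).trans (Subgroup.index_dvd_of_le hST)))
    let gc : G → G := fun y => g * y * g⁻¹
    intro y hy hy1
    haveI := Fintype.ofFinite ((S : Subgroup G) : Set G)
    obtain ⟨l, hl, hlt, hl1, hlall⟩ : ∃ l, l ∈ (S : Subgroup G) ∧ l ≠ t ∧ l ≠ 1 ∧
        ∀ z ∈ (S : Subgroup G), z = 1 ∨ z = t ∨ z = l ∨ z = t * l := by
      obtain ⟨l, hlS, hl⟩ : ∃ l ∈ (S : Subgroup G), l ∉ Subgroup.zpowers t := by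
        by_contra h
        push Not at h
        have := Subgroup.card_le_of_le (show (S : Subgroup G) ≤ Subgroup.zpowers t from h)
        rw [hScard, Nat.card_zpowers, ht2] at this
        omega
      refine ⟨l, hlS, fun e => hl (e ▸ Subgroup.mem_zpowers t), fun e => hl (e ▸ one_mem _), fun z hz => ?_⟩
      have hset : ({1, t, l, t * l} : Finset G) = ((S : Subgroup G) : Set G).toFinset := by
        refine Finset.eq_of_subset_of_card_le ?_ ?_
        · intro w hw
          simp only [Finset.mem_insert, Finset.mem_singleton] at hw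
          simp only [Set.mem_toFinset, SetLike.mem_coe]
          rcases hw with rfl | rfl | rfl | rfl
          exacts [one_mem _, htS, hlS, mul_mem htS hlS]
        · rw [Set.toFinset_card, ← Nat.card_eq_fintype_card]
          show Nat.card (S : Subgroup G) ≤ _
          rw [hScard]
          have e1 : t ≠ l := fun e => hl (e ▸ Subgroup.mem_zpowers t)
          have e2 : l ≠ 1 := fun e => hl (e ▸ one_mem _)
          have e3 : t * l ≠ 1 := fun e => hl (by
            have : l = t := by calc l = (t * t) * l := by rw [htt, one_mul]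
                                  _ = t := by rw [mul_assoc, e, mul_one]
            exact this ▸ Subgroup.mem_zpowers t)
          rw [Finset.card_insert_of_notMem (by simp [Ne.symm ht1, Ne.symm e2, Ne.symm e3]),
            Finset.card_insert_of_notMem (by simp [e1, e2]),
            Finset.card_insert_of_notMem (by simp [ht1]), Finset.card_singleton]
      have := hset.symm ▸ (Set.mem_toFinset.mpr hz : z ∈ ((S : Subgroup G) : Set G).toFinset)
      simpa using this
    have hgS : ∀ z ∈ (S : Subgroup G), gc z ∈ (S : Subgroup G) := fun z hz =>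
      (Subgroup.mem_normalizer_iff.mp hgN z).mp hz
    have hgc_mul : ∀ x y, gc (x * y) = gc x * gc y := fun x y => by simp only [gc]; group
    have hgc_inj : ∀ x y, gc x = gc y → x = y := fun x y h => by
      simpa [gc] using h
    have hne : ∀ z : G, z ≠ 1 → gc z ≠ 1 := fun z hz h => hz (hgc_inj z 1 (by rw [h]; simp [gc]))
    have hcases : ∀ z ∈ (S : Subgroup G), z ≠ 1 → gc z = t ∨ gc z = l ∨ gc z = t * l := fun z hz hz1 =>
      (hlall _ (hgS z hz)).resolve_left (hne z hz1)
    have htl1 : t * l ≠ 1 := by
      intro e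
      apply hlt
      calc l = (t * t) * l := by rw [htt, one_mul]
        _ = t := by rw [mul_assoc, e, mul_one]
    -- conjugation by g has odd order on S, so it is transitive on the involutions
    have hfix : ∀ z ∈ (S : Subgroup G), z ≠ 1 → gc z ≠ z := by
      intro z hz hz1 hfz
      apply hgC
      -- gc is an involution on S
      have hinv : ∀ w ∈ (S : Subgroup G), gc (gc w) = w := by
        intro w hw
        by_cases hwz : gc w = w
        · rw [hwz, hwz]
        have hw1 : w ≠ 1 := fun e => hwz (by simp [e, gc])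
        have hne' : gc w ≠ z := fun e => hwz (by rw [e, hgc_inj w z (e.trans hfz.symm)])
        have hne2 : gc (gc w) ≠ z := fun e => hne' (hgc_inj _ _ (e.trans hfz.symm))
        have hne3 : gc (gc w) ≠ gc w := fun e => hwz (hgc_inj _ _ e)
        have hgw1 := hne w hw1
        have hggw1 := hne (gc w) hgw1
        have hwz' : w ≠ z := fun e => hwz (by rw [e, hfz])
        rcases (hlall z hz).resolve_left hz1 with e1 | e1 | e1 <;>
        rcases (hlall w hw).resolve_left hw1 with e2 | e2 | e2 <;>
        rcases (hlall _ (hgS w hw)).resolve_left hgw1 with e3 | e3 | e3 <;>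
        rcases (hlall _ (hgS _ (hgS w hw))).resolve_left hggw1 with e4 | e4 | e4 <;>
        first
          | exact absurd (e2.trans e1.symm) hwz'
          | exact absurd (e3.trans e1.symm) hne'
          | exact absurd (e4.trans e1.symm) hne2
          | exact absurd (e3.trans e2.symm) hwz
          | exact absurd (e4.trans e3.symm) hne3
          | exact e4.trans e2.symm
      rw [Subgroup.mem_centralizer_iff]
      intro w hw
      -- g^2 centralises S and the index is odd
      have hg2 : g ^ 2 ∈ T := Subgroup.mem_centralizer_iff.mpr fun w hw => by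
        calc w * g ^ 2 = gc (gc w) * g ^ 2 := by rw [hinv w hw]
          _ = g ^ 2 * w := by simp only [gc, pow_two]; group
      haveI : (T.subgroupOf M).Normal := Subgroup.normal_subgroupOf_centralizer_normalizer _
      have hgm : g ^ T.relIndex M ∈ T := by
        have := Subgroup.pow_index_mem (T.subgroupOf M) (⟨g, hgN⟩ : M)
        exact this
      obtain ⟨m, hm⟩ := hodd
      rw [hm, pow_succ, pow_mul] at hgm
      have : g ∈ T := (T.mul_mem_cancel_left (T.pow_mem hg2 m)).mp hgm
      exact Subgroup.mem_centralizer_iff.mp this w hw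
    have h1 : IsConj t (gc t) := isConj_iff.mpr ⟨g, rfl⟩
    have h2 : IsConj t (gc (gc t)) := h1.trans (isConj_iff.mpr ⟨g, rfl⟩)
    have n1 := hfix t htS ht1
    have n2 := hfix (gc t) (hgS t htS) (hne t ht1)
    have n3 : gc (gc t) ≠ t := by
      intro e
      rcases hcases t htS ht1 with e1 | e1 | e1
      · exact n1 e1
      · exact hfix (t * l) (mul_mem htS hl) htl1 (by rw [hgc_mul, ← e1, e, e1]; exact (hScomm _ hl _ htS).eq)
      · have hl' : l = t * (t * l) := by rw [← mul_assoc, htt, one_mul]
        exact hfix l hl hl1 (by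
          conv_lhs => rw [hl', hgc_mul, ← e1, e, e1]
          rw [(hScomm _ htS _ hl).eq, mul_assoc, htt, mul_one])
    rcases (hlall y hy).resolve_left hy1 with rfl | rfl | rfl
    · exact IsConj.refl _
    all_goals
      rcases hcases t htS ht1 with e1 | e1 | e1 <;>
      rcases hcases (gc t) (hgS t htS) (hne t ht1) with e2 | e2 | e2 <;>
      first
        | exact absurd e1 n1
        | exact absurd e2 n3
        | exact absurd (e2.trans e1.symm) n2
        | exact e1 ▸ h1
        | exact e2 ▸ h2
  have hallconj : ∀ s : G, orderOf s = 2 → IsConj t s := by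
    intro s hs
    have hz : IsPGroup 2 (Subgroup.zpowers s) := IsPGroup.of_card (n := 1) (by rw [Nat.card_zpowers, hs, pow_one])
    obtain ⟨R, hR⟩ := hz.exists_le_sylow
    obtain ⟨g, hg⟩ := MulAction.exists_smul_eq G R S
    have : g * s * g⁻¹ ∈ (S : Subgroup G) := hg ▸ ⟨s, hR (Subgroup.mem_zpowers s), rfl⟩
    refine (hSconj _ this ?_).trans (isConj_iff.mpr ⟨g, rfl⟩).symm
    intro h
    rw [conj_eq_one_iff] at h
    simp [h] at hs
  -- elements of N outside C invert P
  have key : ∀ g : G, ∀ x ∈ C, x ≠ 1 → g * x * g⁻¹ ∈ C → g ∈ N := by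
    intro g x hx hx1 hgx
    by_contra hg
    exact hx1 (hTI g (fun h => hg (hNC h)) x hx hgx)
  haveI hPN : ((P : Subgroup G).subgroupOf N).Normal := Subgroup.normal_in_normalizer
  have hPmem : ∀ x ∈ N, (∃ j, orderOf x = 3 ^ j) → x ∈ (P : Subgroup G) := by
    intro x hx ⟨j, hj⟩
    have hzz : IsPGroup 3 (Subgroup.zpowers (⟨x, hx⟩ : N)) :=
      IsPGroup.of_card (n := j) (by rw [Nat.card_zpowers, ← Subgroup.orderOf_coe]; exact hj)
    let PN : Sylow 3 N := P.subtype (Subgroup.le_normalizer)
    obtain ⟨R, hR⟩ := hzz.exists_le_sylow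
    haveI : (PN : Subgroup N).Normal := hPN
    obtain ⟨g, hg⟩ := MulAction.exists_smul_eq N PN R
    rw [Sylow.smul_eq_of_normal] at hg
    exact (hg.symm ▸ hR (Subgroup.mem_zpowers _) : (⟨x, hx⟩ : N) ∈ (PN : Subgroup N))
  have hinvol : ∀ y ∈ N, y ∉ C → y * y = 1 ∧ ∀ x ∈ (P : Subgroup G), y * x * y⁻¹ = x⁻¹ := by
    obtain ⟨u, huS, huC⟩ : ∃ u ∈ (S : Subgroup G), u ∉ C := by
      by_contra h
      push Not at h
      have hd := Subgroup.card_dvd_of_le (show (S : Subgroup G) ≤ C from h)
      rw [hScard, show Nat.card C = 2 * q from hC] at hd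
      obtain ⟨m, hm⟩ := hqodd
      omega
    have hu1 : u ≠ 1 := fun e => huC (e ▸ one_mem C)
    obtain ⟨g, hg⟩ := isConj_iff.mp (hSconj u huS hu1)
    have huu : u * u = 1 := by
      rw [← hg]
      calc g * t * g⁻¹ * (g * t * g⁻¹) = g * (t * t) * g⁻¹ := by group
        _ = 1 := by rw [htt]; group
    have hut : Commute u t := hScomm u huS t htS
    have huN : u ∈ N := (hNt u).mpr hut
    have hnorm : ∀ x ∈ (P : Subgroup G), u * x * u⁻¹ ∈ (P : Subgroup G) := fun x hx =>
      (Subgroup.mem_normalizer_iff.mp huN x).mp hx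
    have hfree : ∀ x ∈ (P : Subgroup G), Commute u x → x = 1 := by
      intro x hx hux
      by_contra hx1
      have hxg : g⁻¹ * x * g ∈ N := by
        rw [hNt, ← commute_conj_iff g]
        simpa [mul_assoc, hg] using hux.symm
      have hxP : g⁻¹ * x * g ∈ (P : Subgroup G) := by
        refine hPmem _ hxg ?_
        obtain ⟨j, hj⟩ := IsPGroup.iff_orderOf.mp P.2 ⟨x, hx⟩
        rw [← Subgroup.orderOf_coe] at hj
        exact ⟨j, by rw [← hj]; exact orderOf_injective (MulAut.conj g⁻¹).toMonoidHom (MulEquiv.injective _) x |> fun h => by simpa using h⟩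
      have := key g⁻¹ x (hPC hx) hx1 (by simpa using hPC hxP)
      have hgN' : g ∈ N := inv_mem_iff.mp this
      have : u = t := by
        rw [← hg, ((hNt g).mp hgN').eq]; group
      exact huC (this ▸ ht)
    have hinv : ∀ x ∈ (P : Subgroup G), u * x * u⁻¹ = x⁻¹ := by
      intro x hx
      have h := hfree (x * (u * x * u⁻¹)) (mul_mem hx (hnorm x hx)) (by
        show u * _ = _ * u
        have hc := hPcomm x hx _ (hnorm x hx)
        calc u * (x * (u * x * u⁻¹)) = (u * x * u⁻¹) * ((u * u) * x * (u⁻¹ * u⁻¹)) * u := by group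
          _ = (u * x * u⁻¹) * x * u := by rw [huu, show u⁻¹ * u⁻¹ = 1 by rw [← mul_inv_rev, huu, inv_one]]; group
          _ = x * (u * x * u⁻¹) * u := by rw [hc.eq])
      exact (inv_eq_of_mul_eq_one_right h).symm
    intro y hy hyC
    have hidx : C.relIndex N = 2 := hCtN ▸ hCidx
    have hc : u * y ∈ C := by
      have h := Subgroup.mul_mem_iff_of_index_two (H := C.subgroupOf N) hidx (a := (⟨u, huN⟩ : N)) (b := ⟨y, hy⟩)
      exact (show u * y ∈ C ↔ (u ∈ C ↔ y ∈ C) from h).mpr ⟨fun h' => absurd h' huC, fun h' => absurd h' hyC⟩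
    have hyu : y = u * (u * y) := by rw [← mul_assoc, huu, one_mul]
    generalize u * y = c at hc hyu
    subst hyu
    have hcx : ∀ x ∈ (P : Subgroup G), Commute c x := fun x hx => (Subgroup.mem_centralizer_iff.mp hc x hx).symm
    refine ⟨?_, fun x hx => ?_⟩
    · have huc : u * c * u⁻¹ = c⁻¹ := by
        rcases hCform c hc with h | ⟨x, hx, rfl⟩
        · exact hinv c h
        · rw [mul_inv_rev, ← ((htPcomm x hx).inv_right.inv_left).eq]
          calc u * (t * x) * u⁻¹ = (u * t * u⁻¹) * (u * x * u⁻¹) := by group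
            _ = t⁻¹ * x⁻¹ := by rw [hinv x hx, hut.eq, mul_inv_cancel_right, inv_eq_of_mul_eq_one_right htt]
      calc u * c * (u * c) = (u * c * u⁻¹) * (u * u) * c := by group
        _ = 1 := by rw [huc, huu]; group
    · calc u * c * x * (u * c)⁻¹ = u * (c * x * c⁻¹) * u⁻¹ := by group
        _ = x⁻¹ := by rw [(hcx x hx).eq, mul_inv_cancel_right, hinv x hx]
  have hCinvol : ∀ c ∈ C, c * c = 1 → c = 1 ∨ c = t := by
    intro c hc hcc
    have haux : ∀ x ∈ (P : Subgroup G), x * x = 1 → x = 1 := by
      intro x hx hxx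
      have hxq : x ^ q = 1 := congrArg Subtype.val (pow_card_eq_one' (x := (⟨x, hx⟩ : (P : Subgroup G))))
      obtain ⟨m, hm⟩ := hqodd
      rwa [hm, pow_succ, pow_mul, pow_two, hxx, one_pow, one_mul] at hxq
    rcases hCform c hc with h | ⟨x, hx, rfl⟩
    · exact Or.inl (haux c h hcc)
    · refine Or.inr ?_
      have hxx : x * x = 1 := by
        rw [(htPcomm x hx).symm.mul_mul_mul_comm, htt, one_mul] at hcc
        exact hcc
      rw [haux x hx hxx, mul_one]
  -- the commuting graph of involutions
  let V := {s : G // orderOf s = 2}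
  haveI : Nonempty V := ⟨⟨t, ht2⟩⟩
  let r : V → V → Prop := fun a b => a ≠ b ∧ Commute (a : G) b
  haveI := Fintype.ofFinite V
  have hord : ∀ {s : G}, s * s = 1 → s ≠ 1 → orderOf s = 2 := fun h h1 => orderOf_eq_prime (by rw [pow_two, h]) h1
  let σ : G → V ≃ V := fun g => (MulAut.conj g).toEquiv.subtypeEquiv fun s => by
    show orderOf s = 2 ↔ orderOf (g * s * g⁻¹) = 2
    rw [show g * s * g⁻¹ = (MulAut.conj g) s from rfl, MulEquiv.orderOf_eq]
  have hrσ : ∀ g a b, r (σ g a) (σ g b) ↔ r a b := fun g a b => by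
    show (σ g a ≠ σ g b ∧ Commute (g * (a : G) * g⁻¹) (g * (b : G) * g⁻¹)) ↔ r a b
    rw [commute_conj_iff, Ne, (σ g).injective.eq_iff]
  have hto : ∀ b : V, ∃ g, σ g ⟨t, ht2⟩ = b := fun b => by
    obtain ⟨g, hg⟩ := isConj_iff.mp (hallconj b b.2)
    exact ⟨g, Subtype.ext hg⟩
  refine friendship_regular r (fun a b h => ⟨h.1.symm, h.2.symm⟩) (fun a h => h.1 rfl) (2 * q) (by omega) ?_ ?_
  · intro b
    obtain ⟨g, rfl⟩ := hto b
    have h1 : (Finset.univ.filter (r (σ g ⟨t, ht2⟩))).card = (Finset.univ.filter (r ⟨t, ht2⟩)).card :=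
      (Finset.card_equiv (σ g) (fun c => by simp [hrσ])).symm
    rw [h1]
    have h2 : Nat.card {c : V // r ⟨t, ht2⟩ c} = 2 * q := by
      have hcard : Nat.card {y : G // y ∈ N ∧ y ∉ C} = 2 * q := by
        have e : Nat.card ((N : Set G) \ (C : Set G) : Set G) = 2 * q := by
          rw [Nat.card_coe_set_eq, Set.ncard_sdiff hCN, ← Nat.card_coe_set_eq, ← Nat.card_coe_set_eq]
          show Nat.card N - Nat.card C = _
          rw [show Nat.card N = 4 * q from hN, show Nat.card C = 2 * q from hC]
          omega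
        exact e
      rw [← hcard]
      refine Nat.card_congr ((Equiv.subtypeSubtypeEquivSubtypeExists _ _).trans (Equiv.subtypeEquivRight fun y => ?_))
      constructor
      · rintro ⟨hy2, hne, hcomm⟩
        refine ⟨(hNt y).mpr hcomm.symm, fun hyC => ?_⟩
        have hyy : y * y = 1 := by rw [← pow_two, ← hy2]; exact pow_orderOf_eq_one y
        rcases hCinvol y hyC hyy with rfl | rfl
        · simp at hy2
        · exact hne rfl
      · rintro ⟨hyN, hyC⟩
        exact ⟨hord (hinvol y hyN hyC).1 (fun e => hyC (e ▸ one_mem C)),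
          fun e => hyC (by have e' : t = y := congrArg Subtype.val e; rw [← e']; exact ht), ((hNt y).mp hyN).symm⟩
    rw [← h2, Nat.card_eq_fintype_card, Fintype.card_subtype]
  · intro a b hab'
    obtain ⟨g, rfl⟩ := hto a
    obtain ⟨b, rfl⟩ := (σ g).surjective b
    suffices ∃! c, r ⟨t, ht2⟩ c ∧ r c b by
      obtain ⟨c, hc, hcu⟩ := this
      refine ⟨σ g c, ⟨(hrσ _ _ _).mpr hc.1, (hrσ _ _ _).mpr hc.2⟩, fun d hd => ?_⟩
      obtain ⟨d, rfl⟩ := (σ g).surjective d
      rw [hcu d ⟨(hrσ _ _ _).mp hd.1, (hrσ _ _ _).mp hd.2⟩]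
    obtain ⟨s, hs2⟩ := b
    have hss : s * s = 1 := by rw [← pow_two, ← hs2]; exact pow_orderOf_eq_one s
    have hst : s ≠ t := fun e => hab' (by subst e; rfl)
    have hs1 : s ≠ 1 := fun e => by simp [e] at hs2
    have memV : ∀ z : V, r ⟨t, ht2⟩ z → (z : G) ∈ N ∧ (z : G) ∉ C := by
      rintro ⟨z, hz2⟩ ⟨hne, hc⟩
      refine ⟨(hNt z).mpr hc.symm, fun hzC => ?_⟩
      rcases hCinvol z hzC (by rw [← pow_two, ← hz2]; exact pow_orderOf_eq_one z) with rfl | rfl
      · simp at hz2
      · exact hne rfl
    have pairs : ∀ z z' : G, z ∈ N → z ∉ C → z' ∈ N → z' ∉ C → ∃ c ∈ C, z' = z * c := by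
      intro z z' hz hzC hz' hzC'
      have hidx : C.relIndex N = 2 := hCtN ▸ hCidx
      have h := Subgroup.mul_mem_iff_of_index_two (H := C.subgroupOf N) hidx (a := (⟨z, hz⟩ : N)) (b := ⟨z', hz'⟩)
      refine ⟨z * z', (show z * z' ∈ C ↔ (z ∈ C ↔ z' ∈ C) from h).mpr ⟨fun h' => absurd h' hzC, fun h' => absurd h' hzC'⟩, ?_⟩
      rw [← mul_assoc, (hinvol z hz hzC).1, one_mul]
    by_cases hcomm : Commute t s
    · -- s commutes with t
      obtain ⟨hsN, hsC⟩ : s ∈ N ∧ s ∉ C := memV ⟨s, hs2⟩ ⟨fun e => hst (congrArg Subtype.val e).symm, hcomm⟩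
      have hts : orderOf (t * s) = 2 := by
        refine hord ?_ ?_
        · rw [hcomm.symm.mul_mul_mul_comm, htt, hss, one_mul]
        · intro e
          exact hst ((eq_inv_of_mul_eq_one_right e).trans (inv_eq_of_mul_eq_one_right htt))
      refine ⟨⟨t * s, hts⟩, ⟨⟨fun e => hs1 ?_, (Commute.refl t).mul_right hcomm⟩,
        ⟨fun e => ht1 ?_, hcomm.mul_left (Commute.refl s)⟩⟩, ?_⟩
      · have : t * s = t * 1 := by rw [mul_one]; exact (congrArg Subtype.val e).symm
        exact mul_left_cancel this
      · have : t * s = 1 * s := by rw [one_mul]; exact congrArg Subtype.val e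
        exact mul_right_cancel this
      rintro ⟨z, hz2⟩ ⟨hz, hzs⟩
      obtain ⟨hzN, hzC⟩ := memV ⟨z, hz2⟩ hz
      obtain ⟨c, hc, rfl⟩ := pairs s z hsN hsC hzN hzC
      have hsc : Commute s c := by
        have h : Commute s (s * c) := hzs.2.symm
        have := (Commute.refl s).inv_right.mul_right h
        simpa using this
      have hc2 : c * c = 1 := by
        have hzz : (s * c) * (s * c) = 1 := by rw [← pow_two, ← hz2]; exact pow_orderOf_eq_one _
        rw [hsc.symm.mul_mul_mul_comm, hss, one_mul] at hzz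
        exact hzz
      rcases hCinvol c hc hc2 with rfl | rfl
      · exact absurd (Subtype.ext (mul_one s)) hzs.1
      · exact Subtype.ext hcomm.symm.eq
    · -- s does not commute with t
      let d := t * s
      have hd1 : d ≠ 1 := fun e => hst ((eq_inv_of_mul_eq_one_right e).trans (inv_eq_of_mul_eq_one_right htt))
      have htd : t * d * t⁻¹ = d⁻¹ := by
        simp only [d, mul_inv_rev, inv_eq_of_mul_eq_one_right htt, inv_eq_of_mul_eq_one_right hss]
        rw [← mul_assoc, htt, one_mul]
      have hds : s = t * d := by simp only [d]; rw [← mul_assoc, htt, one_mul]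
      have hdd : ¬ (d * d = 1) := by
        intro e
        apply hcomm
        show t * s = s * t
        have : d = d⁻¹ := eq_inv_of_mul_eq_one_left e
        calc t * s = d := rfl
          _ = d⁻¹ := this
          _ = s * t := by simp only [d, mul_inv_rev, inv_eq_of_mul_eq_one_right htt, inv_eq_of_mul_eq_one_right hss]
      -- existence
      have hex : ∃ z : G, orderOf z = 2 ∧ z ≠ t ∧ Commute t z ∧ Commute z d := by
        rcases Nat.even_or_odd (orderOf d) with ⟨m, hm⟩ | hodd
        · have hm0 : m ≠ 0 := by have := orderOf_pos d; omega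
          have hz : orderOf (d ^ m) = 2 := by
            have := orderOf_pow_orderOf_div (x := d) (n := 2) (orderOf_pos d).ne' ⟨m, by omega⟩
            rwa [show orderOf d / 2 = m by omega] at this
          have hzz : d ^ m * d ^ m = 1 := by rw [← pow_add, ← hm, pow_orderOf_eq_one]
          refine ⟨d ^ m, hz, fun e => ?_, ?_, (Commute.refl d).pow_left m⟩
          · have hcd : Commute t d := e ▸ (Commute.refl d).pow_left m
            apply hdd
            have : d = d⁻¹ := by
              conv_lhs => rw [← mul_inv_cancel_right d t, ← hcd.eq]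
              exact htd
            calc d * d = d * d⁻¹ := by rw [← this]
              _ = 1 := mul_inv_cancel d
          · have h : t * d ^ m * t⁻¹ = d ^ m := by
              rw [← conj_pow, htd, inv_pow, inv_eq_of_mul_eq_one_right hzz]
            calc t * d ^ m = t * d ^ m * t⁻¹ * t := by group
              _ = d ^ m * t := by rw [h]
        · have htn : ∀ n : ℤ, t * d ^ n * t⁻¹ = d ^ (-n) := fun n => by rw [← conj_zpow, htd, inv_zpow, zpow_neg]
          have htN : t ∈ Subgroup.normalizer (Subgroup.zpowers d : Set G) := by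
            rw [Subgroup.mem_normalizer_iff]
            intro x
            refine ⟨?_, ?_⟩
            · rintro ⟨n, rfl⟩
              exact ⟨-n, (htn n).symm⟩
            · rintro ⟨n, hn⟩
              refine ⟨-n, ?_⟩
              have : t * x * t⁻¹ = t * d ^ (-n) * t⁻¹ := by rw [htn, neg_neg]; exact hn.symm
              exact (mul_left_cancel (mul_right_cancel this)).symm
          let M := Subgroup.zpowers d ⊔ Subgroup.zpowers t
          have hdM : d ∈ M := (le_sup_left : Subgroup.zpowers d ≤ M) (Subgroup.mem_zpowers d)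
          have htM : t ∈ M := (le_sup_right : Subgroup.zpowers t ≤ M) (Subgroup.mem_zpowers t)
          have hMtop : M ≠ ⊤ := by
            intro hM
            have hdn : (Subgroup.zpowers d).Normal := by
              rw [← Subgroup.normalizer_eq_top_iff, eq_top_iff, ← hM, sup_le_iff]
              exact ⟨Subgroup.le_normalizer, Subgroup.zpowers_le.mpr htN⟩
            rcases hdn.eq_bot_or_eq_top with h | h
            · exact hd1 (Subgroup.zpowers_eq_bot.mp h)
            · have hGd : Nat.card G = orderOf d := by rw [← Subgroup.card_top (G := G), ← h, Nat.card_zpowers]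
              have : 2 ∣ Nat.card G := dvd_trans (by norm_num) hcard2
              rw [hGd] at this
              exact Nat.not_even_iff_odd.mpr hodd (even_iff_two_dvd.mpr this)
          have hM2 : 2 ∣ Nat.card M := ht2 ▸ Subgroup.orderOf_dvd_natCard _ htM
          have hdd4 : orderOf d ∣ 4 * q := (Subgroup.orderOf_dvd_natCard _ hdM).trans (heven M hMtop hM2)
          have hdq : orderOf d ∣ q :=
            (Nat.Coprime.pow_right 2 (Nat.coprime_two_right.mpr hodd) : (orderOf d).Coprime (2 ^ 2)).dvd_of_dvd_mul_left hdd4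
          have hp3 : IsPGroup 3 (Subgroup.zpowers d) := by
            refine IsPGroup.of_card_dvd_pow (n := a) ?_
            rw [Nat.card_zpowers]
            exact hqa' ▸ hdq
          obtain ⟨R, hR⟩ := hp3.exists_le_sylow
          obtain ⟨g, hg⟩ := MulAction.exists_smul_eq G P R
          obtain ⟨x, hx, hxd⟩ : ∃ x ∈ (P : Subgroup G), g * x * g⁻¹ = d := by
            have := hR (Subgroup.mem_zpowers d)
            rw [← hg] at this
            exact this
          refine ⟨g * t * g⁻¹, ?_, ?_, ?_, ?_⟩
          · rw [show g * t * g⁻¹ = (MulAut.conj g) t from rfl, MulEquiv.orderOf_eq, ht2]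
          · intro e
            apply hdd
            have hcd : Commute t d := by rw [← e, ← hxd, commute_conj_iff]; exact htPcomm x hx
            have : d = d⁻¹ := by
              conv_lhs => rw [← mul_inv_cancel_right d t, ← hcd.eq]
              exact htd
            calc d * d = d * d⁻¹ := by rw [← this]
              _ = 1 := mul_inv_cancel d
          · -- TI
            have h1 : g⁻¹ * t * g ∈ N := by
              refine key (g⁻¹ * t * g) x (hPC hx) (fun e => hd1 (by rw [← hxd, e]; group)) ?_
              have : g⁻¹ * t * g * x * (g⁻¹ * t * g)⁻¹ = x⁻¹ := by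
                calc g⁻¹ * t * g * x * (g⁻¹ * t * g)⁻¹ = g⁻¹ * (t * (g * x * g⁻¹) * t⁻¹) * g := by group
                  _ = x⁻¹ := by rw [hxd, htd, ← hxd]; group
              rw [this]
              exact C.inv_mem (hPC hx)
            rw [hNt, ← commute_conj_iff g] at h1
            simpa [mul_assoc] using h1
          · rw [← hxd, commute_conj_iff]; exact htPcomm x hx
      obtain ⟨z, hz2, hzt, hzc, hzd⟩ := hex
      refine ⟨⟨z, hz2⟩, ⟨⟨fun e => hzt (congrArg Subtype.val e).symm, hzc⟩,
        ⟨fun e => hcomm (by have e' : z = s := congrArg Subtype.val e; rw [← e']; exact hzc), (show Commute z s by rw [hds]; exact hzc.symm.mul_right hzd)⟩⟩, ?_⟩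
      rintro ⟨z', hz'2⟩ ⟨hz', hz's⟩
      obtain ⟨hzN, hzC⟩ := memV ⟨z, hz2⟩ ⟨fun e => hzt (congrArg Subtype.val e).symm, hzc⟩
      obtain ⟨hzN', hzC'⟩ := memV ⟨z', hz'2⟩ hz'
      obtain ⟨c, hc, rfl⟩ := pairs z z' hzN hzC hzN' hzC'
      have hz'd : Commute (z * c) d := (hz'.2.symm.mul_right hz's.2)
      have hcd : Commute c d := by
        have := hzd.inv_left.mul_left hz'd
        simpa using this
      rcases hCform c hc with hcP | ⟨x, hx, rfl⟩
      · by_cases hc1 : c = 1
        · exact Subtype.ext (by simp [hc1])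
        exfalso
        have hdN := key d c hc hc1 (by rw [← hcd.eq, mul_inv_cancel_right]; exact hc)
        exact hcomm (hds ▸ (Commute.refl t).mul_right ((hNt d).mp hdN).symm)
      · exfalso
        by_cases hx1 : x = 1
        · subst hx1
          rw [mul_one] at hcd
          apply hdd
          have : d = d⁻¹ := by
            conv_lhs => rw [← mul_inv_cancel_right d t, ← hcd.eq]
            exact htd
          calc d * d = d * d⁻¹ := by rw [← this]
            _ = 1 := mul_inv_cancel d
        have hxd2 : Commute (x * x) d := by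
          have h := hcd.mul_left hcd
          rwa [(htPcomm x hx).symm.mul_mul_mul_comm, htt, one_mul] at h
        have hxx1 : x * x ≠ 1 := by
          intro e
          rcases hCinvol x (hPC hx) e with h | h
          · exact hx1 h
          · exact htP (h ▸ hx)
        have hdN := key d (x * x) (hPC (mul_mem hx hx)) hxx1
          (by rw [← hxd2.eq, mul_inv_cancel_right]; exact hPC (mul_mem hx hx))
        exact hcomm (hds ▸ (Commute.refl t).mul_right ((hNt d).mp hdN).symm)


/-- Let G be a finite group with an abelian Sylow 3-subgroup P such that the normalizer of P has order 4·#P, the centralizer C of P has order 2·#P, C meets each of its conjugates by elements outside its normalizer trivially, and every proper subgroup of G of even order has order dividing 4·#P. Then G is not simple. -/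
theorem result {G : Type*} [Group G] [Finite G]
    (P : Sylow 3 G) (hab : IsMulCommutative P)
    (hN : Nat.card (Subgroup.normalizer ((P : Subgroup G) : Set G)) = 4 * Nat.card P)
    (hC : Nat.card (Subgroup.centralizer (P : Set G)) = 2 * Nat.card P)
    (hTI : Cfsg.IsTISubset (Subgroup.centralizer (P : Set G) : Set G))
    (heven : ∀ H : Subgroup G, H ≠ ⊤ → 2 ∣ Nat.card H → Nat.card H ∣ 4 * Nat.card P) :
    ¬ IsSimpleGroup G := main P hab hN hC hTI heven

end Cfsg.Agent.S4018
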