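import Cfsg.Statements.S4022
import Mathlib
import Cfsg.Agent.Lib.Basics.SchurZassenhaus
import Cfsg.Agent.Lib.Basics.Hall
-- import your own Cfsg.Agent.* helpers here

set_option autoImplicit false
open Cfsg
open scoped Pointwise commutatorElement

namespace Cfsg.Agent.S4022

open Subgroup

universe u

/-- conjugate of a subgroup -/
abbrev cj {G : Type*} [Group G] (g : G) (H : Subgroup G) : Subgroup G := H.map (MulAut.conj g).toMonoidHom

theorem cj_mul {G : Type*} [Group G] (a b : G) (H : Subgroup G) : cj a (cj b H) = cj (a * b) H := by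
  simp only [cj, Subgroup.map_map]
  congr 1
  ext x
  simp [mul_assoc]

theorem cj_one {G : Type*} [Group G] (H : Subgroup G) : cj 1 H = H := by
  ext x; simp [cj]

theorem card_cj {G : Type*} [Group G] (g : G) (H : Subgroup G) : Nat.card (cj g H) = Nat.card H :=
  card_map_of_injective (MulAut.conj g).injective

theorem cj_eq_smul {G : Type*} [Group G] (g : G) (H : Subgroup G) : cj g H = MulAut.conj g • H := rfl

theorem cj_normal {G : Type*} [Group G] [Finite G] (g : G) (N : Subgroup G) [N.Normal] : cj g N = N :=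
  eq_of_le_of_card_ge (by rintro _ ⟨x, hx, rfl⟩; exact Subgroup.Normal.conj_mem ‹_› x hx g) (card_cj g N).ge

/-- conjugacy of p-subgroups of equal order when the Sylow subgroups are cyclic -/
theorem conj_of_cyclic {G : Type*} [Group G] [Finite G] {p : ℕ} [Fact p.Prime]
    (hc : ∀ P : Sylow p G, IsCyclic P) (H K : Subgroup G) (hH : IsPGroup p H) (hK : IsPGroup p K)
    (hcard : Nat.card H = Nat.card K) : ∃ g : G, K = cj g H := by
  obtain ⟨P, hP⟩ := hH.exists_le_sylow
  obtain ⟨P', hP'⟩ := hK.exists_le_sylow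
  obtain ⟨g, hg⟩ := MulAction.exists_smul_eq G P P'
  refine ⟨g, ?_⟩
  have hle : cj g H ≤ (P' : Subgroup G) := by
    rw [← hg]; exact Subgroup.map_mono hP
  haveI := hc P'
  letI : CommGroup (P' : Subgroup G) := IsCyclic.commGroup
  have key : ∀ C : Subgroup (P' : Subgroup G),
      C = (powMonoidHom (Nat.card C) : (P' : Subgroup G) →* (P' : Subgroup G)).ker := fun C => by
    refine Subgroup.eq_of_le_of_card_ge (fun x hx => ?_) ?_
    · rw [MonoidHom.mem_ker, powMonoidHom_apply, ← orderOf_dvd_iff_pow_eq_one]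
      exact Subgroup.orderOf_dvd_natCard C hx
    · rw [IsCyclic.card_powMonoidHom_ker, Nat.gcd_eq_right (Subgroup.card_subgroup_dvd_card C)]
  have h1 : K.subgroupOf (P' : Subgroup G) = (cj g H).subgroupOf (P' : Subgroup G) := by
    rw [key (K.subgroupOf _), key ((cj g H).subgroupOf _),
      Nat.card_congr (subgroupOfEquivOfLe hP').toEquiv, Nat.card_congr (subgroupOfEquivOfLe hle).toEquiv,
      card_cj, hcard]
  have h2 := congrArg (Subgroup.map (P' : Subgroup G).subtype) h1
  rwa [map_subgroupOf_eq_of_le hP', map_subgroupOf_eq_of_le hle] at h2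

/-- existence of an elementary abelian normal subgroup -/
theorem exists_elementary {G : Type*} [Group G] [Finite G] [Group.IsSolvable G] [Nontrivial G] :
    ∃ (N : Subgroup G) (q : ℕ), q.Prime ∧ N.Normal ∧ N ≠ ⊥ ∧ IsMulCommutative N ∧ (∀ a ∈ N, a ^ q = 1) := by
  obtain ⟨n, hn⟩ := (Group.isSolvable_def G).1 ‹_›
  classical
  have hex : ∃ k, derivedSeries G k = ⊥ := ⟨n, hn⟩
  let m := Nat.find hex
  have hm : derivedSeries G m = ⊥ := Nat.find_spec hex
  have hm0 : m ≠ 0 := fun h => top_ne_bot (α := Subgroup G) (by rw [h, derivedSeries_zero] at hm; exact hm)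
  set A := derivedSeries G (m - 1)
  have hA : A ≠ ⊥ := Nat.find_min hex (show m - 1 < m by omega)
  have hAc : ∀ a ∈ A, ∀ b ∈ A, a * b = b * a := by
    intro a ha b hb
    have h1 : ⁅a, b⁆ ∈ derivedSeries G m := by
      rw [show m = m - 1 + 1 by omega, derivedSeries_succ]
      exact commutator_mem_commutator ha hb
    rw [hm, mem_bot] at h1
    exact commutatorElement_eq_one_iff_mul_comm.mp h1
  have hc1 : Nat.card A ≠ 1 := fun h => hA (card_eq_one.mp h)
  set q := (Nat.card A).minFac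
  haveI := Fact.mk (Nat.minFac_prime hc1)
  let N : Subgroup G :=
    { carrier := {a | a ∈ A ∧ a ^ q = 1}
      mul_mem' := fun {a b} ha hb => ⟨A.mul_mem ha.1 hb.1, by
        rw [(show Commute a b from hAc a ha.1 b hb.1).mul_pow, ha.2, hb.2, one_mul]⟩
      one_mem' := ⟨A.one_mem, one_pow _⟩
      inv_mem' := fun {a} ha => ⟨A.inv_mem ha.1, by rw [inv_pow, ha.2, inv_one]⟩ }
  refine ⟨N, q, Fact.out, ⟨fun a ha g => ⟨(derivedSeries_normal G (m-1)).conj_mem a ha.1 g, by
    rw [conj_pow, ha.2, mul_one, mul_inv_cancel]⟩⟩, ?_, ⟨⟨fun a b => Subtype.ext (hAc a a.2.1 b b.2.1)⟩⟩, fun a ha => ha.2⟩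
  intro hN
  obtain ⟨a, ha⟩ := exists_prime_orderOf_dvd_card' q (Nat.minFac_dvd (Nat.card A))
  have : (a : G) ∈ N := ⟨a.2, by rw [← ha, ← Subgroup.orderOf_coe]; exact pow_orderOf_eq_one _⟩
  rw [hN, mem_bot] at this
  rw [← Subgroup.orderOf_coe, this, orderOf_one] at ha
  exact (Fact.out : q.Prime).ne_one ha.symm

theorem main : ∀ (n : ℕ) (G : Type u) [Group G] [Finite G] [Group.IsSolvable G], Nat.card G = n →
    (∀ p : ℕ, p.Prime → ∀ H K : Subgroup G, IsPGroup p H → IsPGroup p K → Nat.card H = Nat.card K →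
      ∃ g : G, K = H.map (MulAut.conj g).toMonoidHom) →
    ∀ r : ℕ, (∀ p : ℕ, p.Prime → p ≠ r → ∀ P : Sylow p G, IsCyclic P) →
    ∀ H K : Subgroup G, Nat.card H = Nat.card K → ∃ g : G, K = H.map (MulAut.conj g).toMonoidHom := by
  intro n
  induction n using Nat.strong_induction_on with
  | _ n IH =>
  intro G _ _ _ hn hD r hcyc H K hcard
  show ∃ g : G, K = cj g H
  rcases subsingleton_or_nontrivial G with hG | hG
  · exact ⟨1, Subsingleton.elim _ _⟩
  obtain ⟨N, q, hq, hNn, hN1, hNc, hNq⟩ := exists_elementary (G := G)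
  haveI := hNn
  haveI := hNc
  haveI hqf := Fact.mk hq
  have hNp : IsPGroup q N := fun a => ⟨1, by rw [pow_one]; exact Subtype.ext (by simpa using hNq a a.2)⟩
  obtain ⟨f, hf⟩ := hNp.exists_card_eq
  have hf0 : f ≠ 0 := fun h => hN1 (card_eq_one.mp (by rw [hf, h, pow_zero]))
  -- q-subgroups and N
  have hsmall : ∀ S : Subgroup G, IsPGroup q S → Nat.card S ≤ q ^ f → S ≤ N := by
    intro S hS hle
    obtain ⟨e, he⟩ := hS.exists_card_eq
    have hef : e ≤ f := (Nat.pow_le_pow_iff_right hq.one_lt).mp (he ▸ hle)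
    obtain ⟨T, hT⟩ := Sylow.exists_subgroup_card_pow_prime (G := N) q (n := e) (by rw [hf]; exact pow_dvd_pow q hef)
    obtain ⟨g, hg⟩ := hD q hq (T.map N.subtype) S ((hNp.to_subgroup T).map _) hS (by
      rw [card_map_of_injective N.subtype_injective, hT, he])
    rw [hg]
    exact (Subgroup.map_mono (map_subtype_le T)).trans (le_of_eq (cj_normal g N))
  have hbig : ∀ S : Subgroup G, IsPGroup q S → q ^ f ≤ Nat.card S → N ≤ S := by
    intro S hS hle
    obtain ⟨e, he⟩ := hS.exists_card_eq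
    have hef : f ≤ e := (Nat.pow_le_pow_iff_right hq.one_lt).mp (he ▸ hle)
    obtain ⟨T, hT⟩ := Sylow.exists_subgroup_card_pow_prime (G := S) q (n := f) (by rw [he]; exact pow_dvd_pow q hef)
    obtain ⟨g, hg⟩ := hD q hq (T.map S.subtype) N ((hS.to_subgroup T).map _) hNp (by
      rw [card_map_of_injective S.subtype_injective, hT, hf])
    have h1 : T.map S.subtype = N := by
      have h2 : cj g⁻¹ N = cj g⁻¹ (cj g (T.map S.subtype)) := by rw [hg]
      rw [cj_normal, cj_mul, inv_mul_cancel, cj_one] at h2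
      exact h2.symm
    exact h1 ▸ map_subtype_le T
  -- the quotient
  set π := QuotientGroup.mk' N
  have hπs : Function.Surjective π := QuotientGroup.mk'_surjective N
  have hker : π.ker = N := QuotientGroup.ker_mk' N
  have hpre : ∀ X : Subgroup (G ⧸ N), (X.comap π).map π = X := fun X => map_comap_eq_self_of_surjective hπs X
  have hpreN : ∀ X : Subgroup (G ⧸ N), N ≤ X.comap π := fun X => hker.symm.le.trans (ker_le_comap π X)
  have hcomm : ∀ g (X : Subgroup G), (cj g X).map π = cj (π g) (X.map π) := by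
    intro g X
    simp only [cj, Subgroup.map_map]
    congr 1
  have hcardpre : ∀ X : Subgroup (G ⧸ N), Nat.card (X.comap π) = Nat.card X * q ^ f := by
    intro X
    have h1 := Basics.card_map_mul_card_inf_ker π (X.comap π)
    rw [hpre, hker, inf_eq_right.mpr (hpreN X), hf] at h1
    exact h1.symm
  have hDQ : ∀ p : ℕ, p.Prime → ∀ X Y : Subgroup (G ⧸ N), IsPGroup p X → IsPGroup p Y → Nat.card X = Nat.card Y →
      ∃ g : G ⧸ N, Y = X.map (MulAut.conj g).toMonoidHom := by
    intro p hp X Y hX hY hXY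
    haveI := Fact.mk hp
    have key : ∀ X : Subgroup (G ⧸ N), IsPGroup p X → ∃ S : Subgroup G, IsPGroup p S ∧ S.map π = X ∧
        Nat.card S = if p = q then Nat.card X * q ^ f else Nat.card X := by
      intro X hX
      by_cases hpq : p = q
      · refine ⟨X.comap π, ?_, hpre X, by rw [if_pos hpq]; exact hcardpre X⟩
        obtain ⟨e, he⟩ := hX.exists_card_eq
        exact IsPGroup.of_card (n := e + f) (by rw [hcardpre, he, hpq, pow_add])
      · obtain ⟨R⟩ := (inferInstance : Nonempty (Sylow p (X.comap π)))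
        set S := (R : Subgroup (X.comap π)).map (X.comap π).subtype
        have hSc : Nat.card S = Nat.card X := by
          rw [card_map_of_injective (subtype_injective _), R.card_eq_multiplicity, hcardpre]
          obtain ⟨e, he⟩ := hX.exists_card_eq
          rw [he, Nat.factorization_mul (pow_ne_zero _ hp.ne_zero) (pow_ne_zero _ hq.ne_zero),
            hp.factorization_pow, hq.factorization_pow]
          simp [Ne.symm hpq]
        refine ⟨S, R.2.map _, ?_, by rw [if_neg hpq]; exact hSc⟩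
        have hdis : S ⊓ π.ker = ⊥ := by
          rw [hker]
          exact disjoint_iff.mp (IsPGroup.disjoint_of_ne p q hpq S N (R.2.map _) hNp)
        refine eq_of_le_of_card_ge ((Subgroup.map_mono (map_subtype_le _)).trans (hpre X).le) ?_
        rw [Basics.card_map_of_inf_ker_eq_bot π hdis, hSc]
    obtain ⟨S, hS, rfl, hSc⟩ := key X hX
    obtain ⟨T, hT, rfl, hTc⟩ := key Y hY
    obtain ⟨g, hg⟩ := hD p hp S T hS hT (by rw [hSc, hTc, hXY])
    exact ⟨π g, by rw [hg]; exact hcomm g S⟩
  have hcycQ : ∀ p : ℕ, p.Prime → p ≠ r → ∀ P : Sylow p (G ⧸ N), IsCyclic P := by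
    intro p hp hpr P
    haveI := Fact.mk hp
    obtain ⟨P₀, rfl⟩ := Sylow.mapSurjective_surjective hπs p P
    haveI := hcyc p hp hpr P₀
    exact isCyclic_of_surjective (π.subgroupMap (P₀ : Subgroup G)) (π.subgroupMap_surjective _)
  have hsmallQ : Nat.card (G ⧸ N) < n := by
    have h1 := N.card_mul_index
    rw [index_eq_card, hf, hn] at h1
    have h2 : 2 ≤ q ^ f := le_trans hq.two_le (Nat.le_self_pow hf0 q)
    have h3 : 0 < Nat.card (G ⧸ N) := Nat.card_pos
    nlinarith
  haveI : Group.IsSolvable (G ⧸ N) := solvable_of_surjective hπs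
  -- the q-part of the common order
  set e := (Nat.card H).factorization q with he
  have hSyl : ∀ X : Subgroup G, Nat.card X = Nat.card H →
      (f ≤ e → N ≤ X) ∧ (e < f → Nat.card (X ⊓ N : Subgroup G) = q ^ e) := by
    intro X hX
    obtain ⟨R⟩ := (inferInstance : Nonempty (Sylow q X))
    set S := (R : Subgroup X).map X.subtype
    have hSc : Nat.card S = q ^ e := by
      rw [card_map_of_injective X.subtype_injective, R.card_eq_multiplicity, hX]
    refine ⟨fun h => (hbig S (R.2.map _) (by rw [hSc]; exact Nat.pow_le_pow_right hq.pos h)).trans (map_subtype_le _),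
      fun h => ?_⟩
    have hSN : S ≤ X ⊓ N := le_inf (map_subtype_le _) (hsmall S (R.2.map _) (by rw [hSc]; exact Nat.pow_le_pow_right hq.pos h.le))
    obtain ⟨i, hi⟩ := (hNp.to_le (inf_le_right : X ⊓ N ≤ N)).exists_card_eq
    refine le_antisymm ?_ (hSc ▸ Subgroup.card_le_of_le hSN)
    rw [hi]
    apply Nat.pow_le_pow_right hq.pos
    rw [he]
    exact (hq.pow_dvd_iff_le_factorization Nat.card_pos.ne').mp
      (hi ▸ hX ▸ Subgroup.card_dvd_of_le (inf_le_left : X ⊓ N ≤ X))
  have hmapc : Nat.card (H.map π) = Nat.card (K.map π) := by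
    have h1 := Basics.card_map_mul_card_inf_ker π H
    have h2 := Basics.card_map_mul_card_inf_ker π K
    rw [hker] at h1 h2
    rcases Nat.lt_or_ge e f with hef | hef
    · rw [(hSyl H rfl).2 hef] at h1; rw [(hSyl K hcard.symm).2 hef, ← hcard, ← h1] at h2
      exact (Nat.eq_of_mul_eq_mul_right (pow_pos hq.pos e) h2).symm
    · rw [inf_eq_right.mpr ((hSyl H rfl).1 hef)] at h1
      rw [inf_eq_right.mpr ((hSyl K hcard.symm).1 hef), ← hcard, ← h1] at h2
      exact (Nat.eq_of_mul_eq_mul_right Nat.card_pos h2).symm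
  obtain ⟨γ, hγ⟩ := IH _ hsmallQ (G ⧸ N) rfl hDQ r hcycQ (H.map π) (K.map π) hmapc
  obtain ⟨g₁, rfl⟩ := hπs γ
  -- replace H by its conjugate
  set H₁ := cj g₁ H with hH₁
  suffices h : ∃ g : G, K = cj g H₁ by
    obtain ⟨g, hg⟩ := h
    exact ⟨g * g₁, by rw [hg, hH₁, cj_mul]⟩
  have hcard₁ : Nat.card H₁ = Nat.card H := card_cj _ _
  have hmap₁ : H₁.map π = K.map π := (hcomm g₁ H).trans hγ.symm
  rcases Nat.lt_or_ge e f with hef | hef
  swap
  · refine ⟨1, ?_⟩
    rw [cj_one, ← comap_map_eq_self (f := π) (H := K) (hker.le.trans ((hSyl K hcard.symm).1 hef)), ← hmap₁,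
      comap_map_eq_self (hker.le.trans ((hSyl H₁ hcard₁).1 hef))]
  -- complements of the q-parts
  have hA : Nat.card (H₁ ⊓ N : Subgroup G) = q ^ e := (hSyl H₁ hcard₁).2 hef
  have hB : Nat.card (K ⊓ N : Subgroup G) = q ^ e := (hSyl K hcard.symm).2 hef
  set m := Nat.card H / q ^ e with hm
  have hHm : Nat.card H = m * q ^ e := (Nat.div_mul_cancel (Nat.ordProj_dvd _ _)).symm
  have hmq : Nat.Coprime m (q ^ e) :=
    ((Nat.Coprime.pow_left e ((hq.coprime_iff_not_dvd).mpr (Nat.not_dvd_ordCompl hq Nat.card_pos.ne')))).symm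
  have hmN : Nat.Coprime (q ^ f) m :=
    Nat.Coprime.pow_left f ((hq.coprime_iff_not_dvd).mpr (Nat.not_dvd_ordCompl hq Nat.card_pos.ne'))
  obtain ⟨L0, hL0⟩ := Basics.exists_hall_of_card (G := H₁) (m := m) (n := q ^ e) (hcard₁.trans hHm) hmq
  obtain ⟨M0, hM0⟩ := Basics.exists_hall_of_card (G := K) (m := m) (n := q ^ e) (hcard.symm.trans hHm) hmq
  set L := L0.map H₁.subtype
  set L' := M0.map K.subtype
  have hLc : Nat.card L = m := by rw [card_map_of_injective H₁.subtype_injective, hL0]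
  have hL'c : Nat.card L' = m := by rw [card_map_of_injective K.subtype_injective, hM0]
  have gen : ∀ (X Y : Subgroup G), Y ≤ X → Nat.card X = Nat.card H → Nat.card Y = m →
      Nat.card (X ⊓ N : Subgroup G) = q ^ e → X = (X ⊓ N) ⊔ Y := by
    intro X Y hYX hX hY hXN
    refine (eq_of_le_of_card_ge (sup_le inf_le_left hYX) (Nat.le_of_dvd Nat.card_pos ?_)).symm
    rw [hX, hHm]
    exact Nat.Coprime.mul_dvd_of_dvd_of_dvd hmq (hY ▸ card_dvd_of_le le_sup_right) (hXN ▸ card_dvd_of_le le_sup_left)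
  have hH₁gen := gen H₁ L (map_subtype_le _) hcard₁ hLc hA
  have hL'le : L' ≤ N ⊔ L := by
    refine (map_subtype_le M0).trans ?_
    rw [sup_comm]
    intro x hx
    have h1 : π x ∈ H₁.map π := hmap₁ ▸ mem_map_of_mem π hx
    obtain ⟨h, hh, hhx⟩ := h1
    have h2 : h⁻¹ * x ∈ N := QuotientGroup.eq.mp hhx
    have h3 : h ∈ L ⊔ N := by
      have : H₁ ≤ L ⊔ N := hH₁gen.le.trans (sup_le (inf_le_right.trans le_sup_right) le_sup_left)
      exact this hh
    simpa using (L ⊔ N).mul_mem h3 ((le_sup_right : N ≤ L ⊔ N) h2)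
  obtain ⟨t, ht, htL⟩ := Basics.exists_conj_eq_of_coprime N L L' (by rw [normalizer_eq_top]; exact le_top)
    (by rw [hf, hLc]; exact hmN) hL'le (by rw [hLc, hL'c]) (Or.inl inferInstance)
  rw [← cj_eq_smul] at htL
  set A := H₁ ⊓ N
  set B := K ⊓ N
  have hnorm : ∀ (X : Subgroup G), X ≤ normalizer ((X ⊓ N : Subgroup G) : Set G) := by
    intro X x hx
    apply mem_normalizer_iff_map_conj_eq.mpr
    refine eq_of_le_of_card_ge ?_ (le_of_eq (card_map_of_injective (MulAut.conj x).injective).symm)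
    rintro _ ⟨a, ha, rfl⟩
    exact ⟨X.mul_mem (X.mul_mem hx ha.1) (X.inv_mem hx), hNn.conj_mem a ha.2 x⟩
  have hgenK := gen K L' (map_subtype_le _) hcard.symm hL'c hB
  -- enough: one element moving both parts
  suffices h : ∃ x : G, cj x A = B ∧ cj x L = L' by
    obtain ⟨x, hx1, hx2⟩ := h
    refine ⟨x, ?_⟩
    conv_lhs => rw [hgenK]
    conv_rhs => rw [hH₁gen]
    show B ⊔ L' = cj x (A ⊔ L)
    simp only [cj, Subgroup.map_sup]
    exact (congrArg₂ (· ⊔ ·) hx1 hx2).symm
  by_cases he0 : e = 0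
  · refine ⟨t, ?_, htL⟩
    have h1 : A = ⊥ := card_eq_one.mp (by rw [hA, he0, pow_zero])
    have h2 : B = ⊥ := card_eq_one.mp (by rw [hB, he0, pow_zero])
    rw [h1, h2]
    exact Subgroup.map_bot _
  have hqr : q = r := by
    by_contra hne
    obtain ⟨P, hP⟩ := hNp.exists_le_sylow
    haveI := hcyc q hq hne P
    haveI : IsCyclic N := isCyclic_of_injective (inclusion hP) (inclusion_injective hP)
    obtain ⟨a, ha⟩ := IsCyclic.exists_generator (α := N)
    have h1 : q ^ f ∣ q := by
      rw [← hf, ← orderOf_eq_card_of_forall_mem_zpowers ha]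
      exact orderOf_dvd_of_pow_eq_one (Subtype.ext (by simpa using hNq a a.2))
    have h2 := Nat.le_of_dvd hq.pos h1
    have : q ^ 2 ≤ q ^ f := Nat.pow_le_pow_right hq.pos (by omega)
    nlinarith [hq.two_le]
  subst hqr
  have hAN : IsPGroup q A := hNp.to_le inf_le_right
  obtain ⟨g, hg⟩ := hD q hq A B hAN (hNp.to_le inf_le_right) (by rw [hA, hB])
  change B = cj g A at hg
  set L₂ := cj g L
  have hL₂B : L₂ ≤ normalizer (B : Set G) := by
    rw [hg]
    have : L ≤ normalizer (A : Set G) := (map_subtype_le _).trans (hnorm H₁)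
    exact (Subgroup.map_mono this).trans (le_normalizer_map _)
  have hL'B : L' ≤ normalizer (B : Set G) := (map_subtype_le _).trans (hnorm K)
  set U := normalizer (B : Set G)
  -- a Hall subgroup of the normalizer
  set c := (Nat.card U).factorization q
  have hcU : Nat.card U = (Nat.card U / q ^ c) * q ^ c := (Nat.div_mul_cancel (Nat.ordProj_dvd _ _)).symm
  have hUq : ¬ q ∣ Nat.card U / q ^ c := Nat.not_dvd_ordCompl hq Nat.card_pos.ne'
  have hUcop : Nat.Coprime (Nat.card U / q ^ c) (q ^ c) := ((Nat.Coprime.pow_left c ((hq.coprime_iff_not_dvd).mpr hUq))).symm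
  obtain ⟨W, hW⟩ := Basics.exists_hall_of_card (G := U) hcU hUcop
  have hWidx := Basics.index_eq_of_card hcU hW
  have hWH : Nat.Coprime (Nat.card W) W.index := by rw [hW, hWidx]; exact hUcop
  have hmU : Nat.Coprime m W.index := by
    rw [hWidx]
    exact (Nat.Coprime.pow_left c ((hq.coprime_iff_not_dvd).mpr (Nat.not_dvd_ordCompl hq Nat.card_pos.ne'))).symm
  have into : ∀ X : Subgroup G, X ≤ U → Nat.card X = m → ∃ u : G, u ∈ U ∧ cj u X ≤ W.map U.subtype := by
    intro X hX hXc
    obtain ⟨u, hu⟩ := Basics.exists_le_conj_hall hWH (K := X.subgroupOf U)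
      (by rw [Nat.card_congr (subgroupOfEquivOfLe hX).toEquiv, hXc]; exact hmU)
    refine ⟨(u⁻¹ : U), (u⁻¹ : U).2, ?_⟩
    rintro _ ⟨x, hx, rfl⟩
    have h1 : (⟨x, hX hx⟩ : U) ∈ MulAut.conj u • W := hu (mem_subgroupOf.mpr hx)
    rw [Subgroup.mem_pointwise_smul_iff_inv_smul_mem] at h1
    exact ⟨_, h1, by simp [MulAut.smul_def]⟩
  obtain ⟨u₂, hu₂, hW₂⟩ := into L₂ hL₂B (by rw [card_cj, hLc])
  obtain ⟨u₁, hu₁, hW₁⟩ := into L' hL'B hL'c
  set W0 := W.map U.subtype
  have hW0c : ¬ q ∣ Nat.card W0 := by rw [card_map_of_injective U.subtype_injective, hW]; exact hUq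
  have hW0lt : Nat.card W0 < n := by
    rw [← hn]
    refine lt_of_le_of_ne (Nat.le_of_dvd Nat.card_pos (card_subgroup_dvd_card _)) fun h => hW0c ?_
    rw [h]
    exact (hA ▸ dvd_pow_self q he0 : q ∣ Nat.card A).trans (card_subgroup_dvd_card _)
  haveI : Group.IsSolvable W0 := inferInstance
  have hcycW : ∀ p : ℕ, p.Prime → ∀ P : Sylow p W0, IsCyclic P := by
    intro p hp P
    haveI := Fact.mk hp
    by_cases hpq : p = q
    · subst hpq
      have : Subsingleton (P : Subgroup W0) := by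
        obtain ⟨i, hi⟩ := P.2.exists_card_eq
        rcases Nat.eq_zero_or_pos i with rfl | hi0
        · exact (Nat.card_eq_one_iff_unique.mp (by rw [hi, pow_zero])).1
        · exact absurd ((hi ▸ dvd_pow_self p hi0.ne' : p ∣ Nat.card (P : Subgroup W0)).trans (card_subgroup_dvd_card _)) hW0c
      infer_instance
    · obtain ⟨P₀, hP₀⟩ := (P.2.map W0.subtype).exists_le_sylow
      haveI := hcyc p hp hpq P₀
      haveI : IsCyclic ((P : Subgroup W0).map W0.subtype) := isCyclic_of_injective (inclusion hP₀) (inclusion_injective hP₀)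
      exact ((P : Subgroup W0).equivMapOfInjective _ W0.subtype_injective).isCyclic.mpr inferInstance
  obtain ⟨⟨w, hw⟩, hwe⟩ := IH _ hW0lt W0 rfl
    (fun p hp X Y hX hY hXY => by haveI := Fact.mk hp; exact conj_of_cyclic (hcycW p hp) X Y hX hY hXY)
    q (fun p hp _ => hcycW p hp) ((cj u₂ L₂).subgroupOf W0) ((cj u₁ L').subgroupOf W0) (by
      rw [Nat.card_congr (subgroupOfEquivOfLe hW₂).toEquiv, Nat.card_congr (subgroupOfEquivOfLe hW₁).toEquiv,
        card_cj, card_cj, card_cj, hLc, hL'c])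
  have hwU : w ∈ U := map_subtype_le W hw
  have hwe' : cj u₁ L' = cj w (cj u₂ L₂) := by
    have := congrArg (Subgroup.map W0.subtype) hwe
    rw [map_subgroupOf_eq_of_le hW₁, Subgroup.map_map] at this
    rw [this]
    show _ = cj w (cj u₂ L₂)
    conv_rhs => rw [← map_subgroupOf_eq_of_le hW₂]
    simp only [cj, Subgroup.map_map]
    congr 1
  refine ⟨u₁⁻¹ * w * u₂ * g, ?_, ?_⟩
  · rw [← cj_mul, ← hg]
    exact mem_normalizer_iff_map_conj_eq.mp (U.mul_mem (U.mul_mem (U.inv_mem hu₁) hwU) hu₂)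
  · rw [← cj_mul, ← cj_mul, ← cj_mul, ← hwe', cj_mul, inv_mul_cancel, cj_one]

/-- Let G be a finite solvable group in which, for every prime p, any two p-subgroups of the same order are conjugate, and suppose the Sylow p-subgroups of G are cyclic for all primes p with at most one exception. Then any two subgroups of G of the same order are conjugate. -/
theorem result {G : Type*} [Group G] [Finite G]
    [Group.IsSolvable G] (hD : ∀ p : ℕ, p.Prime → ∀ H K : Subgroup G, IsPGroup p H → IsPGroup p K → Nat.card H = Nat.card K →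
      ∃ g : G, K = H.map (MulAut.conj g).toMonoidHom)
    (r : ℕ) (hcyc : ∀ p : ℕ, p.Prime → p ≠ r → ∀ P : Sylow p G, IsCyclic P) :
    ∀ H K : Subgroup G, Nat.card H = Nat.card K → ∃ g : G, K = H.map (MulAut.conj g).toMonoidHom := by

  exact main (Nat.card G) G rfl hD r hcyc

end Cfsg.Agent.S4022
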