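import Cfsg.Statements.S4023
import Cfsg.Agent.Lib.InvChar.OneSubgroup
import Cfsg.Agent.Lib.Basics.Tools
import Cfsg.Agent.Lib.OddLocal.Rank
import Cfsg.Agent.Lib.Invol.OddPSmall
-- import your own Cfsg.Agent.* helpers here

set_option autoImplicit false
open Cfsg

namespace Cfsg.Agent.S4023

open scoped commutatorElement

theorem main {G : Type*} [Group G] [Finite G] {p : ℕ} [hp : Fact p.Prime]
    (hC : ∀ H K : Subgroup G, IsPGroup p H → IsPGroup p K → Nat.card H = Nat.card K →
      ∃ g : G, K = H.map (MulAut.conj g).toMonoidHom) (P : Sylow p G) :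
    (∀ x ∈ (P : Subgroup G), x ^ p = 1) ∨ (IsCyclic ↥(P : Subgroup G) ∨
      (p = 2 ∧ ∃ n : ℕ, Nonempty (↥(P : Subgroup G) ≃* QuaternionGroup (2 ^ n)))) := by
  refine or_iff_not_imp_left.mpr fun hexp => ?_
  have hp' : p.Prime := hp.out
  obtain ⟨x, hxP, hx⟩ : ∃ x ∈ (P : Subgroup G), x ^ p ≠ 1 := by
    by_contra hcon
    exact hexp fun x hx => by
      by_contra h
      exact hcon ⟨x, hx, h⟩
  obtain ⟨k, hk⟩ := P.isPGroup' ⟨x, hxP⟩
  obtain ⟨j, -, hj⟩ := (Nat.dvd_prime_pow hp').mp
    (orderOf_dvd_of_pow_eq_one (congrArg Subtype.val hk : x ^ p ^ k = 1))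
  have hj2 : 2 ≤ j := by
    by_contra hj2
    refine hx (orderOf_dvd_iff_pow_eq_one.mp ?_)
    rw [hj]
    calc p ^ j ∣ p ^ 1 := pow_dvd_pow p (by omega)
      _ = p := pow_one p
  set y := x ^ p ^ (j - 2) with hy
  have hyord : orderOf y = p ^ 2 := by
    rw [hy, orderOf_pow' _ (pow_ne_zero _ hp'.ne_zero), hj,
      Nat.gcd_eq_right (pow_dvd_pow p (by omega)), Nat.pow_div (by omega) hp'.pos,
      show j - (j - 2) = 2 by omega]
  refine Cfsg.Agent.InvChar.cyclic_or_quaternion P.isPGroup' ?_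
  haveI : Nontrivial ↥(P : Subgroup G) :=
    ⟨⟨⟨x, hxP⟩, 1, fun h => hx (by rw [show x = 1 from congrArg Subtype.val h, one_pow])⟩⟩
  haveI := P.isPGroup'.center_nontrivial
  obtain ⟨⟨w, hw⟩, hw1⟩ := exists_ne (1 : Subgroup.center ↥(P : Subgroup G))
  obtain ⟨i, hi⟩ := (P.isPGroup').exists_orderOf_eq_pow w
  have hi0 : i ≠ 0 := by
    intro h
    rw [h, pow_zero, orderOf_eq_one_iff] at hi
    exact hw1 (Subtype.ext hi)
  set z := w ^ p ^ (i - 1) with hz
  have hzord : orderOf z = p := by
    rw [hz, orderOf_pow' _ (pow_ne_zero _ hp'.ne_zero), hi,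
      Nat.gcd_eq_right (pow_dvd_pow p (by omega)), Nat.pow_div (by omega) hp'.pos,
      show i - (i - 1) = 1 by omega, pow_one]
  have hzc : z ∈ Subgroup.center ↥(P : Subgroup G) := Subgroup.pow_mem _ hw _
  suffices huniq : ∀ H : Subgroup ↥(P : Subgroup G), Nat.card H = p → H = Subgroup.zpowers z by
    intro H K hH hK
    rw [huniq H hH, huniq K hK]
  intro H hH
  by_contra hne
  haveI : IsCyclic H := isCyclic_of_prime_card hH
  have hinf : Subgroup.zpowers z ⊓ H = ⊥ := by
    have hd := Subgroup.card_dvd_of_le (inf_le_right : Subgroup.zpowers z ⊓ H ≤ H)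
    rw [hH] at hd
    rcases hp'.eq_one_or_self_of_dvd _ hd with h | h
    · exact Subgroup.card_eq_one.mp h
    · exfalso
      have h1 := Subgroup.eq_of_le_of_card_ge (inf_le_right : Subgroup.zpowers z ⊓ H ≤ H)
        (le_of_eq (hH.trans h.symm))
      refine hne (Subgroup.eq_of_le_of_card_ge (h1 ▸ inf_le_left) ?_)
      rw [hH, Nat.card_zpowers, hzord]
  set S := Subgroup.zpowers z ⊔ H with hS
  have hScard : Nat.card S = p ^ 2 := by
    have h := Cfsg.Agent.Basics.card_mul_card_eq_card_sup_mul_card_inf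
      (N := Subgroup.zpowers z) (H := H) (by
        haveI : (Subgroup.zpowers z).Normal := ⟨fun n hn g => by
          have hnc : n ∈ Subgroup.center ↥(P : Subgroup G) :=
            (Subgroup.zpowers_le.mpr hzc) hn
          rw [Subgroup.mem_center_iff.mp hnc g, mul_inv_cancel_right]
          exact hn⟩
        exact Subgroup.le_normalizer_of_normal)
    rw [hinf, Subgroup.card_bot, mul_one, Nat.card_zpowers, hzord, hH] at h
    rw [← h, sq]
  have hSc : IsMulCommutative S := by
    have e : S = Subgroup.closure ({z} ∪ (H : Set ↥(P : Subgroup G))) := by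
      rw [Subgroup.closure_union, Subgroup.closure_eq, ← Subgroup.zpowers_eq_closure]
    rw [e]
    refine Subgroup.isMulCommutative_closure ?_
    rintro a (ha | ha) b (hb | hb)
    · rw [Set.mem_singleton_iff.mp ha, Set.mem_singleton_iff.mp hb]
    · rw [Set.mem_singleton_iff.mp ha]
      exact (Subgroup.mem_center_iff.mp hzc b).symm
    · rw [Set.mem_singleton_iff.mp hb]
      exact Subgroup.mem_center_iff.mp hzc a
    · obtain ⟨g, hg⟩ := IsCyclic.exists_generator (α := H)
      obtain ⟨r, hr⟩ := hg ⟨a, ha⟩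
      obtain ⟨s, hs⟩ := hg ⟨b, hb⟩
      have hr' : (g : ↥(P : Subgroup G)) ^ r = a := congrArg Subtype.val hr
      have hs' : (g : ↥(P : Subgroup G)) ^ s = b := congrArg Subtype.val hs
      rw [← hr', ← hs']
      exact Commute.zpow_zpow_self _ _ _
  haveI : IsMulCommutative S := hSc
  have hSpow : ∀ s ∈ S, s ^ p = 1 := by
    intro s hs
    have e : S ≤ { carrier := {s | s ∈ S ∧ s ^ p = 1}
                   one_mem' := ⟨one_mem S, one_pow p⟩
                   mul_mem' := fun {a b} ha hb => ⟨mul_mem ha.1 hb.1, by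
                     rw [(show Commute a b from congrArg Subtype.val
                       (hSc.is_comm.comm ⟨a, ha.1⟩ ⟨b, hb.1⟩)).mul_pow, ha.2, hb.2, one_mul]⟩
                   inv_mem' := fun {a} ha => ⟨inv_mem ha.1, by rw [inv_pow, ha.2, inv_one]⟩ } := by
      refine sup_le (Subgroup.zpowers_le.mpr
        ⟨Subgroup.mem_sup_left (Subgroup.mem_zpowers z), orderOf_dvd_iff_pow_eq_one.mp (dvd_of_eq hzord)⟩) ?_
      intro h hh
      refine ⟨Subgroup.mem_sup_right hh, ?_⟩
      have h1 : (⟨h, hh⟩ : H) ^ Nat.card H = 1 := pow_card_eq_one'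
      rw [hH] at h1
      exact congrArg Subtype.val h1
    exact (e hs).2
  have hA : IsMulCommutative ↥(S.map (P : Subgroup G).subtype) := by
    refine ⟨⟨?_⟩⟩
    rintro ⟨_, a, ha, rfl⟩ ⟨_, b, hb, rfl⟩
    refine Subtype.ext ?_
    show (a : G) * b = b * a
    exact congrArg (fun t : S => ((t : ↥(P : Subgroup G)) : G))
      (hSc.is_comm.comm ⟨a, ha⟩ ⟨b, hb⟩)
  obtain ⟨g, hg⟩ := hC (S.map (P : Subgroup G).subtype) (Subgroup.zpowers y)
      ((P.isPGroup'.to_subgroup S).map _) (IsPGroup.of_card (n := 2) (by rw [Nat.card_zpowers, hyord])) (by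
    rw [Nat.card_zpowers, hyord, Subgroup.card_map_of_injective (P : Subgroup G).subtype_injective,
      hScard])
  have hy2 : y ∈ (S.map (P : Subgroup G).subtype).map (MulAut.conj g).toMonoidHom := by
    rw [← hg]
    exact Subgroup.mem_zpowers y
  obtain ⟨_, ⟨s, hs, rfl⟩, hsy⟩ := hy2
  have h1 : y ^ p = 1 := by
    rw [← hsy, ← map_pow, ← map_pow, hSpow s hs, map_one, map_one]
  have h2 := orderOf_dvd_of_pow_eq_one h1
  rw [hyord] at h2
  have h3 := Nat.le_of_dvd hp'.pos h2
  nlinarith [hp'.two_le]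

/-- A generalized quaternion group of order at least 16 has two kinds of subgroups of order 8. -/
theorem quat_two_kinds (n : ℕ) (hn : 2 ≤ n) :
    ∃ H K : Subgroup (QuaternionGroup (2 ^ n)),
      Nat.card H = 8 ∧ Nat.card K = 8 ∧ IsCyclic H ∧ ¬ IsCyclic K := by
  haveI : NeZero (2 ^ n) := ⟨pow_ne_zero _ two_ne_zero⟩
  haveI := Fact.mk Nat.prime_two
  have hcardQ : Nat.card (QuaternionGroup (2 ^ n)) = 2 ^ (n + 2) := by
    rw [Nat.card_eq_fintype_card, QuaternionGroup.card]; ring
  set a : QuaternionGroup (2 ^ n) := QuaternionGroup.a 1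
  have hoa : orderOf a = 2 * 2 ^ n := QuaternionGroup.orderOf_a_one
  set s : QuaternionGroup (2 ^ n) := a ^ 2 ^ (n - 2)
  have hos : orderOf s = 8 := by
    rw [orderOf_pow' _ (pow_ne_zero _ two_ne_zero), hoa, ← pow_succ',
      Nat.gcd_eq_right (pow_dvd_pow 2 (by omega)), Nat.pow_div (by omega) two_pos,
      show n + 1 - (n - 2) = 3 by omega]
    norm_num
  set b : QuaternionGroup (2 ^ n) := QuaternionGroup.xa 0
  have hob : orderOf b = 4 := QuaternionGroup.orderOf_xa 0
  obtain ⟨K, hK, hbK⟩ := Sylow.exists_subgroup_card_pow_succ (p := 2) (n := 2) (G := QuaternionGroup (2 ^ n))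
    (by rw [hcardQ]; exact pow_dvd_pow 2 (by omega)) (H := Subgroup.zpowers b)
    (by rw [Nat.card_zpowers, hob]; norm_num)
  refine ⟨Subgroup.zpowers s, K, by rw [Nat.card_zpowers, hos], by rw [hK]; norm_num,
    inferInstance, ?_⟩
  intro hcyc
  obtain ⟨g, hg⟩ := IsCyclic.exists_ofOrder_eq_natCard (α := K)
  rw [hK] at hg
  have hg' : orderOf (g : QuaternionGroup (2 ^ n)) = 8 := by rw [Subgroup.orderOf_coe, hg]; norm_num
  have hgen : b ∈ Subgroup.zpowers (g : QuaternionGroup (2 ^ n)) := by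
    have : Subgroup.zpowers g = ⊤ := Subgroup.eq_top_of_card_eq _ (by rw [Nat.card_zpowers, hg, hK])
    have hb' : (⟨b, hbK (Subgroup.mem_zpowers b)⟩ : K) ∈ Subgroup.zpowers g := by
      rw [this]; exact Subgroup.mem_top _
    obtain ⟨i, hi⟩ := hb'
    exact ⟨i, by simpa using congrArg Subtype.val hi⟩
  rcases hgval : (g : QuaternionGroup (2 ^ n)) with j | j
  · rw [hgval] at hgen
    obtain ⟨i, hi⟩ := (isOfFinOrder_of_finite _).mem_powers_iff_mem_zpowers.2 hgen
    have hpa : ∀ i : ℕ, ∃ k, (QuaternionGroup.a j : QuaternionGroup (2 ^ n)) ^ i = QuaternionGroup.a k := by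
      intro i
      induction i with
      | zero => exact ⟨0, by rw [pow_zero]; exact QuaternionGroup.one_def⟩
      | succ i ih =>
        obtain ⟨k, hk⟩ := ih
        exact ⟨k + j, by rw [pow_succ, hk, QuaternionGroup.a_mul_a]⟩
    obtain ⟨k, hk⟩ := hpa i
    have hab : QuaternionGroup.a k = b := hk.symm.trans hi
    simp only [b] at hab; cases hab
  · rw [hgval, QuaternionGroup.orderOf_xa] at hg'
    omega

/-- A non-abelian group of exponent `p` has a non-abelian subgroup of order `p ^ 3`. -/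
theorem exists_nonabelian {P : Type*} [Group P] [Finite P] {p : ℕ} [hp : Fact p.Prime]
    (hexp : ∀ x : P, x ^ p = 1) (hna : ¬ IsMulCommutative P) :
    ∃ H : Subgroup P, ¬ IsMulCommutative H ∧ Nat.card H = p ^ 3 := by
  have hP : IsPGroup p P := fun x => ⟨1, by rw [pow_one, hexp]⟩
  have hne : Subgroup.center P ≠ ⊤ := fun h => hna ⟨⟨fun u v =>
    (Subgroup.mem_center_iff.1 (h ▸ Subgroup.mem_top u) v).symm⟩⟩
  haveI : Nontrivial (P ⧸ Subgroup.center P) := QuotientGroup.nontrivial_iff.2 hne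
  haveI := (hP.to_quotient (Subgroup.center P)).center_nontrivial
  obtain ⟨⟨q, hq⟩, hq1⟩ := exists_ne (1 : Subgroup.center (P ⧸ Subgroup.center P))
  obtain ⟨c, rfl⟩ := QuotientGroup.mk_surjective q
  have hcZ : c ∉ Subgroup.center P := fun h => hq1 (Subtype.ext ((QuotientGroup.eq_one_iff c).2 h))
  obtain ⟨y, hy⟩ : ∃ y, y * c ≠ c * y := by
    by_contra h
    push Not at h
    exact hcZ (Subgroup.mem_center_iff.2 h)
  have hw : ⁅c, y⁆ ∈ Subgroup.center P := by
    rw [← QuotientGroup.eq_one_iff, ← QuotientGroup.mk'_apply, map_commutatorElement,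
      commutatorElement_eq_one_iff_mul_comm]
    exact (Subgroup.mem_center_iff.1 hq _).symm
  have hwc := Subgroup.mem_center_iff.1 hw
  set W := Subgroup.zpowers ⁅c, y⁆ with hW
  have hn1 : c ∈ Subgroup.normalizer (W : Set P) :=
    Subgroup.centralizer_le_normalizer _ (Subgroup.mem_centralizer_iff.2 fun u hu => by
      obtain ⟨i, rfl⟩ := hu
      exact ((show Commute ⁅c, y⁆ c from (hwc c).symm).zpow_left i).eq)
  have h1 := (Cfsg.Agent.Basics.card_sup_zpowers (p := p) hn1 (by rw [hexp]; exact one_mem _)).1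
  set U := W ⊔ Subgroup.zpowers c with hU
  have hn2 : y ∈ Subgroup.normalizer (U : Set P) := by
    have hconj : ∀ u ∈ U, y * u * y⁻¹ ∈ U := by
      intro u hu
      have : U ≤ U.comap (MulAut.conj y).toMonoidHom := sup_le
        (Subgroup.zpowers_le.2 (by
          show y * ⁅c, y⁆ * y⁻¹ ∈ U
          rw [hwc y, mul_inv_cancel_right]
          exact Subgroup.mem_sup_left (Subgroup.mem_zpowers _)))
        (Subgroup.zpowers_le.2 (by
          show y * c * y⁻¹ ∈ U
          rw [show y * c * y⁻¹ = ⁅c, y⁆⁻¹ * c by simp only [commutatorElement_def]; group]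
          exact mul_mem (inv_mem (Subgroup.mem_sup_left (Subgroup.mem_zpowers _)))
            (Subgroup.mem_sup_right (Subgroup.mem_zpowers _))))
      exact this hu
    refine Subgroup.mem_normalizer_iff.2 fun u => ⟨hconj u, fun h => ?_⟩
    have key : ∀ k : ℕ, ∀ v ∈ U, y ^ k * v * (y ^ k)⁻¹ ∈ U := by
      intro k
      induction k with
      | zero => intro v hv; simpa using hv
      | succ k ih =>
        intro v hv
        rw [pow_succ', show y * y ^ k * v * (y * y ^ k)⁻¹ = y * (y ^ k * v * (y ^ k)⁻¹) * y⁻¹ by group]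
        exact hconj _ (ih v hv)
    have := key (orderOf y - 1) _ h
    have e : y ^ (orderOf y - 1) = y⁻¹ := by
      refine eq_inv_of_mul_eq_one_left ?_
      rw [← pow_succ, Nat.sub_add_cancel (orderOf_pos y), pow_orderOf_eq_one]
    rw [e, inv_inv] at this
    simpa [mul_assoc] using this
  have h2 := (Cfsg.Agent.Basics.card_sup_zpowers (p := p) hn2 (by rw [hexp]; exact one_mem _)).1
  have hw1 : Nat.card W ≤ p := by
    rw [hW, Nat.card_zpowers]
    exact Nat.le_of_dvd hp.out.pos (orderOf_dvd_of_pow_eq_one (hexp _))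
  set H := U ⊔ Subgroup.zpowers y
  have hHna : ¬ IsMulCommutative H := fun h => hy (congrArg Subtype.val
    (h.is_comm.comm ⟨y, Subgroup.mem_sup_right (Subgroup.mem_zpowers y)⟩
      ⟨c, Subgroup.mem_sup_left (Subgroup.mem_sup_right (Subgroup.mem_zpowers c))⟩))
  refine ⟨H, hHna, ?_⟩
  obtain ⟨k, hk⟩ := IsPGroup.iff_card.1 (hP.to_subgroup H)
  rw [hk] at h2 ⊢
  have hle : p ^ k ≤ p ^ 3 := h2.trans (by
    calc p * Nat.card U ≤ p * (p * p) := Nat.mul_le_mul_left _ (h1.trans (Nat.mul_le_mul_left _ hw1))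
      _ = p ^ 3 := by ring)
  rw [Nat.pow_le_pow_iff_right hp.out.one_lt] at hle
  congr 1
  rcases (show k = 3 ∨ k ≤ 2 by omega) with h | h
  · exact h
  · exfalso
    refine hHna ?_
    rcases (show k ≤ 1 ∨ k = 2 by omega) with h | rfl
    · haveI : IsCyclic H := by
        rcases (show k = 0 ∨ k = 1 by omega) with rfl | rfl
        · haveI := (Nat.card_eq_one_iff_unique.1 (by simpa using hk : Nat.card H = 1)).1
          exact isCyclic_of_subsingleton
        · exact isCyclic_of_prime_card (p := p) (by simpa using hk)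
      exact ⟨⟨(IsCyclic.commGroup (α := H)).mul_comm⟩⟩
    · exact IsPGroup.isMulCommutative_of_card_eq_prime_sq hk

/-- A group of exponent `p` and order at least `p ^ 4` has an abelian subgroup of order `p ^ 3`. -/
theorem exists_abelian {P : Type*} [Group P] [Finite P] {p : ℕ} [hp : Fact p.Prime]
    (hexp : ∀ x : P, x ^ p = 1) (hP4 : p ^ 4 ≤ Nat.card P) :
    ∃ A : Subgroup P, IsMulCommutative A ∧ Nat.card A = p ^ 3 := by
  have hP : IsPGroup p P := fun x => ⟨1, by rw [pow_one, hexp]⟩
  obtain ⟨N, hN⟩ := IsPGroup.iff_card.1 hP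
  rw [hN, Nat.pow_le_pow_iff_right hp.out.one_lt] at hP4
  obtain ⟨E, hEn, -, hEc⟩ := Cfsg.Agent.Invol.OddPSmall.exists_normal_card_pow hP N 2 ⊤ inferInstance
    (by rw [Subgroup.card_top, hN]) (by omega)
  haveI := hEn
  have hEe : Cfsg.IsElementaryAbelian p E :=
    ⟨IsPGroup.isMulCommutative_of_card_eq_prime_sq hEc, fun a _ => hexp a⟩
  have hi := Cfsg.Agent.OddLocal.index_centralizer_le hP E hEe hEc.le
  set C := Subgroup.centralizer (E : Set P)
  obtain ⟨v, hvC, hvE⟩ : ∃ v ∈ C, v ∉ E := by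
    by_contra h
    push Not at h
    have h1 : Nat.card C ≤ Nat.card E := Subgroup.card_le_of_le h
    have h2 := C.card_mul_index
    rw [hN] at h2
    have : p ^ N ≤ p ^ 3 := by
      rw [← h2]
      exact (Nat.mul_le_mul h1 hi).trans (le_of_eq (by rw [hEc]; ring))
    rw [Nat.pow_le_pow_iff_right hp.out.one_lt] at this
    omega
  refine ⟨E ⊔ Subgroup.zpowers v, (Cfsg.Agent.OddLocal.ea_sup_zpowers hEe hvC (hexp v)).1, ?_⟩
  rw [(Cfsg.Agent.Basics.card_sup_zpowers (p := p) (Subgroup.centralizer_le_normalizer _ hvC)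
    (by rw [hexp]; exact one_mem _)).2 hvE, hEc]
  ring

/-- Let p be a prime and G a finite group in which any two p-subgroups of the same order are conjugate, with Sylow p-subgroup P. Then P is cyclic, or elementary abelian, or p = 2 and P is a quaternion group of order 8, or p is odd and P is non-abelian of order p³ and exponent p. -/
theorem result {G : Type*} [Group G] [Finite G]
    {p : ℕ} [Fact p.Prime] (hC : ∀ H K : Subgroup G, IsPGroup p H → IsPGroup p K → Nat.card H = Nat.card K →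
      ∃ g : G, K = H.map (MulAut.conj g).toMonoidHom) (P : Sylow p G) :
    IsCyclic P ∨ Cfsg.IsElementaryAbelian p (P : Subgroup G) ∨
      (p = 2 ∧ Nonempty ((P : Subgroup G) ≃* QuaternionGroup 2)) ∨
      (p ≠ 2 ∧ ¬ IsMulCommutative P ∧ Nat.card P = p ^ 3 ∧ Monoid.exponent P = p) := by
  have hp := (Fact.out : p.Prime)
  rcases main hC P with hexp | hcyc | ⟨h2, n, ⟨e⟩⟩
  · by_cases hab : IsMulCommutative ↥(P : Subgroup G)
    · exact Or.inr (Or.inl ⟨hab, hexp⟩)
    have hexp' : ∀ x : ↥(P : Subgroup G), x ^ p = 1 := fun x => Subtype.ext (hexp x x.2)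
    have hp2 : p ≠ 2 := by
      rintro rfl
      refine hab ⟨⟨fun u v => ?_⟩⟩
      have hi : ∀ w : ↥(P : Subgroup G), w⁻¹ = w := fun w =>
        inv_eq_of_mul_eq_one_right (by rw [← sq]; exact hexp' w)
      calc u * v = (u * v)⁻¹ := (hi _).symm
        _ = v * u := by rw [mul_inv_rev, hi, hi]
    obtain ⟨H, hHna, hHc⟩ := exists_nonabelian hexp' hab
    refine Or.inr (Or.inr (Or.inr ⟨hp2, hab, ?_, ?_⟩))
    · refine le_antisymm ?_ (hHc ▸ Subgroup.card_le_card_group H)
      by_contra hlt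
      have hPp := P.isPGroup'
      obtain ⟨N, hN⟩ := IsPGroup.iff_card.1 hPp
      have hN' : Nat.card ↥(P : Subgroup G) = p ^ N := hN
      rw [not_le, hN', Nat.pow_lt_pow_iff_right hp.one_lt] at hlt
      obtain ⟨A, hAab, hAc⟩ := exists_abelian hexp' (by rw [hN']; exact Nat.pow_le_pow_right hp.pos hlt)
      haveI := hAab
      obtain ⟨g, hg⟩ := hC (A.map (P : Subgroup G).subtype) (H.map (P : Subgroup G).subtype)
        ((P.isPGroup'.to_subgroup A).map _) ((P.isPGroup'.to_subgroup H).map _) (by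
          rw [Subgroup.card_map_of_injective (P : Subgroup G).subtype_injective,
            Subgroup.card_map_of_injective (P : Subgroup G).subtype_injective, hAc, hHc])
      haveI : IsMulCommutative ↥(H.map (P : Subgroup G).subtype) := hg ▸ inferInstance
      refine hHna ⟨⟨fun u v => ?_⟩⟩
      have := congrArg Subtype.val ((‹IsMulCommutative ↥(H.map (P : Subgroup G).subtype)›).is_comm.comm
        ⟨_, Subgroup.mem_map_of_mem _ u.2⟩ ⟨_, Subgroup.mem_map_of_mem _ v.2⟩)
      exact Subtype.ext (Subtype.ext this)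
    · refine ((Nat.dvd_prime hp).1 (Monoid.exponent_dvd_of_forall_pow_eq_one hexp')).resolve_left fun h => ?_
      haveI := Monoid.exp_eq_one_iff.1 h
      exact hab ⟨⟨fun u v => Subsingleton.elim _ _⟩⟩
  · exact Or.inl hcyc
  · subst h2
    rcases (show n = 0 ∨ n = 1 ∨ 2 ≤ n by omega) with rfl | rfl | hn
    · refine Or.inl ?_
      exact e.isCyclic.2 (isCyclic_of_orderOf_eq_card (QuaternionGroup.xa 0) (by
        rw [QuaternionGroup.orderOf_xa, Nat.card_eq_fintype_card, QuaternionGroup.card]; norm_num))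
    · exact Or.inr (Or.inr (Or.inl ⟨rfl, ⟨e.trans (MulEquiv.refl _)⟩⟩))
    · exfalso
      obtain ⟨H, K, hH, hK, hHc, hKc⟩ := quat_two_kinds n hn
      let f : QuaternionGroup (2 ^ n) →* G := (P : Subgroup G).subtype.comp e.symm.toMonoidHom
      have hf : Function.Injective f := (P : Subgroup G).subtype_injective.comp e.symm.injective
      obtain ⟨g, hg⟩ := hC (H.map f) (K.map f)
        (IsPGroup.of_card (n := 3) (by rw [Subgroup.card_map_of_injective hf, hH]; norm_num))
        (IsPGroup.of_card (n := 3) (by rw [Subgroup.card_map_of_injective hf, hK]; norm_num))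
        (by rw [Subgroup.card_map_of_injective hf, Subgroup.card_map_of_injective hf, hH, hK])
      have h1 : IsCyclic ↥(H.map f) := (H.equivMapOfInjective f hf).isCyclic.1 hHc
      have h2 : IsCyclic ↥((H.map f).map (MulAut.conj g).toMonoidHom) :=
        ((H.map f).equivMapOfInjective (MulAut.conj g).toMonoidHom (MulAut.conj g).injective).isCyclic.1 h1
      rw [← hg] at h2
      exact hKc ((K.equivMapOfInjective f hf).isCyclic.2 h2)

end Cfsg.Agent.S4023
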