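import Cfsg.Statements.S4024
import Cfsg.Agent.Lib.Basics.Cores
import Cfsg.Agent.Lib.Basics.Tools
import Cfsg.Agent.Lib.InvChar.OneSubgroup

set_option autoImplicit false
open Cfsg

namespace Cfsg.Agent.S4024

/-- Let p be an odd prime and G a finite group in which any two p-subgroups of the same order are conjugate, with Sylow p-subgroup P. If H is a normal p-solvable subgroup of G whose order is divisible by p, then P is abelian, and either P ≤ H or P is cyclic. -/
theorem result {G : Type*} [Group G] [Finite G]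
    {p : ℕ} [Fact p.Prime] (hp : p ≠ 2) (hC : ∀ H K : Subgroup G, IsPGroup p H → IsPGroup p K → Nat.card H = Nat.card K →
      ∃ g : G, K = H.map (MulAut.conj g).toMonoidHom) (P : Sylow p G)
    (H : Subgroup G) [H.Normal] (hsolv : Cfsg.IsPSolvable p H) (hdiv : p ∣ Nat.card H) :
    IsMulCommutative P ∧ ((P : Subgroup G) ≤ H ∨ IsCyclic P) := by
  classical
  have hpp : p.Prime := Fact.out
  -- two subgroups of order `p`
  have hconj : ∀ u v : G, orderOf u = p → orderOf v = p → ∃ g : G, g * u * g⁻¹ ∈ Subgroup.zpowers v := by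
    intro u v hu hv
    obtain ⟨g, hg⟩ := hC (Subgroup.zpowers u) (Subgroup.zpowers v)
      (IsPGroup.of_card (n := 1) (by rw [Nat.card_zpowers, hu, pow_one]))
      (IsPGroup.of_card (n := 1) (by rw [Nat.card_zpowers, hv, pow_one]))
      (by rw [Nat.card_zpowers, Nat.card_zpowers, hu, hv])
    exact ⟨g, hg ▸ ⟨u, Subgroup.mem_zpowers u, rfl⟩⟩
  by_cases hcyc : IsCyclic P
  · exact ⟨inferInstance, Or.inr hcyc⟩
  -- exponent `p`
  have hne : Nontrivial (P : Subgroup G) := by
    rw [Subgroup.nontrivial_iff_ne_bot]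
    intro e
    exact hcyc (e ▸ isCyclic_of_subsingleton)
  haveI := hne
  haveI := P.2.center_nontrivial
  obtain ⟨z, hz⟩ := exists_prime_orderOf_dvd_card' (G := Subgroup.center (P : Subgroup G)) p
    (((P.2.to_subgroup (Subgroup.center (P : Subgroup G))).card_eq_or_dvd).resolve_left Finite.one_lt_card.ne')
  set z' : G := ((z : (P : Subgroup G)) : G) with hz'
  have hz'o : orderOf z' = p := by rw [hz', Subgroup.orderOf_coe, Subgroup.orderOf_coe, hz]
  have hzP : z' ∈ (P : Subgroup G) := (z : (P : Subgroup G)).2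
  have hzc : ∀ y ∈ (P : Subgroup G), Commute z' y := fun y hy =>
    (congrArg Subtype.val (Subgroup.mem_center_iff.1 z.2 ⟨y, hy⟩)).symm
  have hexp : ∀ u ∈ (P : Subgroup G), u ^ p = 1 := by
    by_contra hcon
    push Not at hcon
    obtain ⟨u, hu, hu1⟩ := hcon
    obtain ⟨k, hk⟩ := IsPGroup.iff_orderOf.mp P.2 ⟨u, hu⟩
    rw [Subgroup.orderOf_mk] at hk
    have hk2 : 2 ≤ k := by
      by_contra hlt
      refine hu1 (orderOf_dvd_iff_pow_eq_one.1 ?_)
      rw [hk]
      exact (pow_dvd_pow p (by omega)).trans (dvd_of_eq (pow_one p))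
    have hx : orderOf (u ^ p ^ (k - 2)) = p ^ 2 := by
      rw [orderOf_pow' _ (pow_ne_zero _ hpp.ne_zero), hk, Nat.gcd_eq_right (pow_dvd_pow p (by omega)),
        Nat.pow_div (by omega) hpp.pos, show k - (k - 2) = 2 by omega]
    -- another subgroup of order `p`
    obtain ⟨A, B, hA, hB, hAB⟩ : ∃ A B : Subgroup (P : Subgroup G), Nat.card A = p ∧ Nat.card B = p ∧ A ≠ B := by
      by_contra hc
      push Not at hc
      rcases Cfsg.Agent.InvChar.cyclic_or_quaternion P.2 hc with h | ⟨h, -⟩
      · exact hcyc h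
      · exact hp h
    obtain ⟨y, hy, hyP, hyz⟩ : ∃ y : G, orderOf y = p ∧ y ∈ (P : Subgroup G) ∧ y ∉ Subgroup.zpowers z' := by
      by_contra hc
      push Not at hc
      have hmem : ∀ C : Subgroup (P : Subgroup G), Nat.card C = p →
          C.map (P : Subgroup G).subtype = Subgroup.zpowers z' := fun C hC => by
        refine Subgroup.eq_of_le_of_card_ge ?_ (by
          rw [Nat.card_zpowers, hz'o, Subgroup.card_map_of_injective (P : Subgroup G).subtype_injective, hC])
        rintro _ ⟨c, hc', rfl⟩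
        by_cases hc1 : c = 1
        · rw [hc1, map_one]; exact one_mem _
        refine hc _ ?_ c.2
        rw [Subgroup.subtype_apply, Subgroup.orderOf_coe]
        exact orderOf_eq_prime (orderOf_dvd_iff_pow_eq_one.1
          ((Subgroup.orderOf_dvd_natCard C hc').trans (dvd_of_eq hC))) hc1
      exact hAB (Subgroup.map_injective (P : Subgroup G).subtype_injective ((hmem A hA).trans (hmem B hB).symm))
    have hcomm : Commute z' y := hzc y hyP
    set E := Subgroup.closure ({z', y} : Set G) with hE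
    haveI : IsMulCommutative E := Subgroup.isMulCommutative_closure (by
      rintro a (rfl | rfl) b (rfl | rfl) <;> first | rfl | exact hcomm.eq | exact hcomm.symm.eq)
    have hEexp : ∀ a ∈ E, a ^ p = 1 := by
      intro a ha
      induction ha using Subgroup.closure_induction with
      | mem a ha =>
        rcases ha with rfl | rfl
        · rw [← hz'o]; exact pow_orderOf_eq_one _
        · rw [← hy]; exact pow_orderOf_eq_one _
      | one => exact one_pow _
      | mul a b hac hbc iha ihb =>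
        have hab : Commute a b := congrArg Subtype.val (IsMulCommutative.is_comm.comm (⟨a, hac⟩ : E) ⟨b, hbc⟩)
        rw [hab.mul_pow, iha, ihb, one_mul]
      | inv a _ iha => rw [inv_pow, iha, inv_one]
    have hEp : IsPGroup p E := fun a => ⟨1, Subtype.ext (by rw [pow_one]; exact hEexp a a.2)⟩
    have hEc : p ^ 2 ≤ Nat.card E := by
      obtain ⟨j, hj⟩ := hEp.exists_card_eq
      rw [hj]
      refine Nat.pow_le_pow_right hpp.pos ?_
      have hlt : Subgroup.zpowers z' < E := lt_of_le_of_ne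
        (Subgroup.zpowers_le.2 (Subgroup.subset_closure (by simp)))
        fun e => hyz (e.symm ▸ Subgroup.subset_closure (by simp))
      have := Basics.card_lt_of_lt hlt
      rw [Nat.card_zpowers, hz'o, hj] at this
      have h1 : 1 < j := (Nat.pow_lt_pow_iff_right hpp.one_lt).1 (by rwa [pow_one])
      omega
    obtain ⟨E0, hE0, hE0c⟩ : ∃ E0 : Subgroup G, E0 ≤ E ∧ Nat.card E0 = p ^ 2 := by
      obtain ⟨j, hj⟩ := hEp.exists_card_eq
      obtain ⟨K, hK⟩ := Sylow.exists_subgroup_card_pow_prime (G := E) p (n := 2) (by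
        rw [hj] at hEc ⊢
        exact pow_dvd_pow p ((Nat.pow_le_pow_iff_right hpp.one_lt).1 hEc))
      exact ⟨K.map E.subtype, Subgroup.map_subtype_le _, by
        rw [Subgroup.card_map_of_injective E.subtype_injective, hK]⟩
    obtain ⟨g, hg⟩ := hC E0 (Subgroup.zpowers (u ^ p ^ (k - 2))) (IsPGroup.of_card hE0c)
      (IsPGroup.of_card (n := 2) (by rw [Nat.card_zpowers, hx])) (by rw [hE0c, Nat.card_zpowers, hx])
    obtain ⟨e, he, hee⟩ := hg ▸ Subgroup.mem_zpowers (u ^ p ^ (k - 2))
    have h1 : orderOf (u ^ p ^ (k - 2)) ∣ p := by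
      rw [← hee, MulEquiv.coe_toMonoidHom, MulEquiv.orderOf_eq]
      exact orderOf_dvd_of_pow_eq_one (hEexp e (hE0 he))
    rw [hx] at h1
    have := Nat.le_of_dvd hpp.pos h1
    nlinarith [hpp.two_le]
  have hord : ∀ u ∈ (P : Subgroup G), u ≠ 1 → orderOf u = p := fun u hu hu1 =>
    orderOf_eq_prime (hexp u hu) hu1
  -- `P ≤ H`
  have hPH : (P : Subgroup G) ≤ H := by
    intro u hu
    by_cases hu1 : u = 1
    · rw [hu1]; exact one_mem _
    obtain ⟨v, hv⟩ := exists_prime_orderOf_dvd_card' (G := H) p hdiv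
    obtain ⟨g, hg⟩ := hconj u v (hord u hu hu1) (by rw [Subgroup.orderOf_coe, hv])
    have h1 : g * u * g⁻¹ ∈ H := Subgroup.zpowers_le.2 v.2 hg
    have h2 := (inferInstance : H.Normal).conj_mem _ h1 g⁻¹
    rwa [show g⁻¹ * (g * u * g⁻¹) * g⁻¹⁻¹ = u by group] at h2
  refine ⟨?_, Or.inl hPH⟩
  -- modulo the `p'`-core of `H`
  set K : Subgroup G := (Cfsg.pPrimeCore p H).map H.subtype with hK
  haveI hKn : K.Normal := ConjAct.normal_of_characteristic_of_normal
  have hKcop : (Nat.card K).Coprime p := by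
    rw [hK, Subgroup.card_map_of_injective H.subtype_injective]
    exact Basics.pPrimeCore_coprime p
  set π := QuotientGroup.mk' K with hπ
  have hπs : Function.Surjective π := QuotientGroup.mk'_surjective K
  set HB := H.map π with hHB
  haveI : HB.Normal := Subgroup.Normal.map inferInstance _ hπs
  set M : Subgroup (G ⧸ K) := (Cfsg.pCore p HB).map HB.subtype with hM
  haveI hMn : M.Normal := ConjAct.normal_of_characteristic_of_normal
  have hMp : IsPGroup p M := (Basics.pCore_isPGroup p).map _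
  have hMne : M ≠ ⊥ := by
    obtain ⟨n, S, hS0, hS1, hmono, hSn, hfac⟩ := hsolv
    obtain ⟨i, hi1, hi2⟩ : ∃ i : Fin n, ¬ p ∣ Nat.card (S i.castSucc) ∧ p ∣ Nat.card (S i.succ) := by
      by_contra hc
      push Not at hc
      have hall : ∀ j : Fin (n + 1), ¬ p ∣ Nat.card (S j) := by
        intro j
        induction j using Fin.induction with
        | zero => rw [hS0, Subgroup.card_bot]; exact hpp.not_dvd_one
        | succ j ih => exact hc j ih
      exact hall (Fin.last n) (by rw [hS1, Subgroup.card_top]; exact hdiv)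
    obtain ⟨m, hm⟩ : ∃ m : ℕ, (S i.castSucc).relIndex (S i.succ) = p ^ m := by
      refine (hfac i).resolve_right fun hcop => ?_
      have h1 := Subgroup.relIndex_mul_relIndex ⊥ (S i.castSucc) (S i.succ) bot_le (hmono (Fin.castSucc_le_succ i))
      rw [Subgroup.relIndex_bot_left, Subgroup.relIndex_bot_left] at h1
      rw [← h1] at hi2
      rcases (Nat.Prime.dvd_mul hpp).1 hi2 with h | h
      · exact hi1 h
      · exact (hpp.coprime_iff_not_dvd.1 hcop.symm) h
    let f : H →* HB := π.subgroupMap H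
    have hfs : Function.Surjective f := π.subgroupMap_surjective H
    haveI := hSn i.succ
    haveI := hSn i.castSucc
    have hker : S i.castSucc ≤ f.ker := by
      intro x hx
      rw [MonoidHom.mem_ker]
      refine Subtype.ext ((QuotientGroup.eq_one_iff (x : G)).2 ⟨x, ?_, rfl⟩)
      exact (le_sSup (show S i.castSucc ∈ {N : Subgroup H | N.Normal ∧ (Nat.card N).Coprime p} from
        ⟨hSn i.castSucc, (hpp.coprime_iff_not_dvd.2 hi1).symm⟩) : S i.castSucc ≤ Cfsg.pPrimeCore p H) hx
    set I := (S i.succ).map f with hI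
    haveI : I.Normal := Subgroup.Normal.map inferInstance _ hfs
    have hIp : IsPGroup p I := by
      have hd : Nat.card I ∣ p ^ m := by
        rw [hI, ← Subgroup.relIndex_ker, ← hm]
        exact Subgroup.relIndex_dvd_of_le_left _ hker
      obtain ⟨j, -, hj⟩ := (Nat.dvd_prime_pow hpp).1 hd
      exact IsPGroup.of_card hj
    intro hbot
    rw [hM, Subgroup.map_eq_bot_iff_of_injective _ HB.subtype_injective] at hbot
    have hI1 : I = ⊥ := le_bot_iff.1 (hbot ▸ Basics.le_pCore hIp)
    rw [hI, Subgroup.map_eq_bot_iff] at hI1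
    have hle : S i.succ ≤ Cfsg.pPrimeCore p H := by
      intro x hx
      have h1 := congrArg Subtype.val (hI1 hx : f x = 1)
      obtain ⟨y, hy, hyx⟩ := (QuotientGroup.eq_one_iff (x : G)).1 h1
      exact (Subtype.ext hyx : y = x) ▸ hy
    exact (hpp.coprime_iff_not_dvd.1 (Basics.pPrimeCore_coprime (G := H) p).symm)
      (hi2.trans (Subgroup.card_dvd_of_le hle))
  set PB := P.mapSurjective hπs with hPB
  obtain ⟨m0, hm0, hm1⟩ := (Subgroup.bot_or_exists_ne_one M).resolve_left hMne
  obtain ⟨u0, hu0, hu0m⟩ : ∃ u0 ∈ (P : Subgroup G), π u0 = m0 := IsPGroup.le_sylow_of_normal hMp PB hm0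
  have hu01 : u0 ≠ 1 := fun e => hm1 (by rw [← hu0m, e, map_one])
  have hPM : ∀ u ∈ (P : Subgroup G), π u ∈ M := by
    intro u hu
    by_cases hu1 : u = 1
    · rw [hu1, map_one]; exact one_mem _
    obtain ⟨g, hg⟩ := hconj u u0 (hord u hu hu1) (hord u0 hu0 hu01)
    obtain ⟨i, hi⟩ := Subgroup.mem_zpowers_iff.1 hg
    have h1 : π (g * u * g⁻¹) ∈ M := by rw [← hi, map_zpow, hu0m]; exact zpow_mem hm0 i
    have h2 := hMn.conj_mem _ h1 (π g)⁻¹
    rwa [map_mul, map_mul, map_inv, show (π g)⁻¹ * (π g * π u * (π g)⁻¹) * (π g)⁻¹⁻¹ = π u by group] at h2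
  set Z : Subgroup (G ⧸ K) := (Subgroup.center M).map M.subtype with hZ
  haveI hZn : Z.Normal := ConjAct.normal_of_characteristic_of_normal
  have hzZ : π z' ∈ Z := by
    refine ⟨⟨π z', hPM z' hzP⟩, Subgroup.mem_center_iff.2 fun c => ?_, rfl⟩
    obtain ⟨w, hw, hwc⟩ := IsPGroup.le_sylow_of_normal hMp PB c.2
    refine Subtype.ext ?_
    show (c : G ⧸ K) * π z' = π z' * c
    rw [← hwc, ← map_mul, ← map_mul, (hzc w hw).eq]
  have hPZ : ∀ u ∈ (P : Subgroup G), π u ∈ Z := by
    intro u hu
    by_cases hu1 : u = 1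
    · rw [hu1, map_one]; exact one_mem _
    obtain ⟨g, hg⟩ := hconj u z' (hord u hu hu1) hz'o
    obtain ⟨i, hi⟩ := Subgroup.mem_zpowers_iff.1 hg
    have h1 : π (g * u * g⁻¹) ∈ Z := by rw [← hi, map_zpow]; exact zpow_mem hzZ i
    have h2 := hZn.conj_mem _ h1 (π g)⁻¹
    rwa [map_mul, map_mul, map_inv, show (π g)⁻¹ * (π g * π u * (π g)⁻¹) * (π g)⁻¹⁻¹ = π u by group] at h2
  refine ⟨⟨fun a b => Subtype.ext ?_⟩⟩
  obtain ⟨c, hc, hca⟩ := hPZ a a.2
  have h1 : π ((a : G) * b) = π ((b : G) * a) := by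
    rw [map_mul, map_mul, ← hca]
    exact (congrArg Subtype.val (Subgroup.mem_center_iff.1 hc ⟨π b, hPM b b.2⟩)).symm
  have h2 : ((b : G) * a)⁻¹ * ((a : G) * b) ∈ (P : Subgroup G) :=
    mul_mem (inv_mem (mul_mem b.2 a.2)) (mul_mem a.2 b.2)
  have h3 : ((b : G) * a)⁻¹ * ((a : G) * b) ∈ K := QuotientGroup.eq.1 h1.symm
  show (a : G) * b = (b : G) * a
  refine (inv_mul_eq_one.1 ?_).symm
  refine orderOf_eq_one_iff.1 (Nat.eq_one_of_dvd_coprimes hKcop.symm ?_ (Subgroup.orderOf_dvd_natCard K h3))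
  exact orderOf_dvd_of_pow_eq_one (hexp _ h2)

end Cfsg.Agent.S4024
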