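import Cfsg.Statements.S4025
import Cfsg.Agent.Lib.FGB.SolvTransNormalizer

set_option autoImplicit false
open Cfsg
open scoped IsMulCommutative

namespace Cfsg.Agent.S4025

/-- Let p be a prime and G a finite group in which any two p-subgroups of the same order are conjugate, and suppose a Sylow p-subgroup P of G is elementary abelian of order pⁿ with n ≥ 3. Let N be the normalizer of P and K the largest normal subgroup of N of order prime to p, and assume N/K is solvable. Then either n = 3 and N/K embeds in the one-dimensional semi-affine group over the field with p³ elements (and for p = 2 it is isomorphic to the affine or the semi-affine group over the field with 8 elements), or n = 5, p = 2 and N/K is isomorphic to the one-dimensional semi-affine group over the field with 32 elements. -/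
theorem result {G : Type*} [Group G] [Finite G]
    {p : ℕ} [Fact p.Prime] (hC : ∀ H K : Subgroup G, IsPGroup p H → IsPGroup p K → Nat.card H = Nat.card K →
      ∃ g : G, K = H.map (MulAut.conj g).toMonoidHom) (P : Sylow p G) (n : ℕ) (hn : 3 ≤ n)
    (hel : Cfsg.IsElementaryAbelian p (P : Subgroup G)) (hcard : Nat.card P = p ^ n)
    (N : Subgroup G) (hN : N = Subgroup.normalizer ((P : Subgroup G) : Set G))
    (hsolv : Group.IsSolvable (↥N ⧸ Cfsg.pPrimeCore p ↥N)) :
    (n = 3 ∧ (∃ f : ↥N ⧸ Cfsg.pPrimeCore p ↥N →* ↥(Cfsg.semiaffineGroup (GaloisField p 3)), Function.Injective f) ∧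
      (p = 2 → Nonempty (↥N ⧸ Cfsg.pPrimeCore p ↥N ≃* Cfsg.semiaffineGroup (GaloisField 2 3)) ∨
               Nonempty (↥N ⧸ Cfsg.pPrimeCore p ↥N ≃* Cfsg.affineGroup (GaloisField 2 3)))) ∨
    (n = 5 ∧ p = 2 ∧ Nonempty (↥N ⧸ Cfsg.pPrimeCore p ↥N ≃* Cfsg.semiaffineGroup (GaloisField 2 5))) := by
  classical
  subst hN
  set N := Subgroup.normalizer ((P : Subgroup G) : Set G) with hN
  have hPN : (P : Subgroup G) ≤ N := Subgroup.le_normalizer
  have hab : ∀ a ∈ (P : Subgroup G), ∀ b ∈ (P : Subgroup G), a * b = b * a := fun a ha b hb =>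
    congrArg Subtype.val (hel.1.is_comm.comm ⟨a, ha⟩ ⟨b, hb⟩)
  set K := Cfsg.pPrimeCore p N with hK
  set π := QuotientGroup.mk' K with hπ
  set P' := (P : Subgroup G).subgroupOf N with hP'
  have hP'card : Nat.card P' = p ^ n := by
    rw [← hcard]; exact Nat.card_congr (Subgroup.subgroupOfEquivOfLe hPN).toEquiv
  have hinj : ∀ x ∈ P', π x = 1 → x = 1 := by
    intro x hx h
    refine Subgroup.disjoint_def.1 (Subgroup.disjoint_of_coprime_natCard ?_) hx
      ((QuotientGroup.eq_one_iff x).1 h)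
    rw [hP'card]
    exact ((Cfsg.Agent.Basics.pPrimeCore_coprime (G := N) p).pow_right n).symm
  set W := P'.map π with hW
  haveI : P'.Normal := Subgroup.normal_in_normalizer
  haveI : W.Normal := Subgroup.Normal.map inferInstance π (QuotientGroup.mk'_surjective K)
  have hWcard : Nat.card W = p ^ n := by
    rw [← hP'card]
    refine (Nat.card_eq_of_bijective (fun x : P' => (⟨π x, x.1, x.2, rfl⟩ : W)) ⟨fun x y h => ?_, ?_⟩).symm
    · refine Subtype.ext (inv_mul_eq_one.1 (hinj _ (mul_mem (inv_mem x.2) y.2) ?_))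
      have h' : π x.1 = π y.1 := congrArg Subtype.val h
      rw [map_mul, map_inv, h', inv_mul_cancel]
    · rintro ⟨_, x, hx, rfl⟩
      exact ⟨⟨x, hx⟩, rfl⟩
  have hWab : ∀ a ∈ W, ∀ b ∈ W, a * b = b * a := by
    rintro _ ⟨a, ha, rfl⟩ _ ⟨b, hb, rfl⟩
    rw [← map_mul, ← map_mul]
    exact congrArg π (Subtype.ext (hab a ha b hb))
  have hWexp : ∀ a ∈ W, a ^ p = 1 := by
    rintro _ ⟨a, ha, rfl⟩
    rw [← map_pow, show a ^ p = 1 from Subtype.ext (hel.2 (a : G) ha), map_one]
  have hidx : ¬ p ∣ W.index := by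
    intro hd
    apply P.not_dvd_index
    have h1 : W.index ∣ P'.index :=
      Subgroup.index_map_dvd _ (QuotientGroup.mk'_surjective K)
    exact (hd.trans h1).trans (Subgroup.relIndex_dvd_index_of_le hPN)
  obtain ⟨H, hWH⟩ := Subgroup.exists_right_complement'_of_coprime (N := W) (by
    rw [hWcard]
    exact ((Fact.out : p.Prime).coprime_iff_not_dvd.2 hidx).pow_left n)
  have hHcard : ¬ p ∣ Nat.card H := by
    rwa [← hWH.symm.index_eq_card]
  have hfaith : ∀ h ∈ H, (∀ w ∈ W, h * w = w * h) → h = 1 := by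
    intro h hh hc
    set M := H ⊓ Subgroup.centralizer (W : Set (N ⧸ K)) with hM
    haveI : M.Normal := ⟨fun x hx q => by
      obtain ⟨⟨w, k⟩, rfl⟩ := hWH.2 q
      have hy : (k : N ⧸ K) * x * (k : N ⧸ K)⁻¹ ∈ M := ⟨H.mul_mem (H.mul_mem k.2 hx.1) (H.inv_mem k.2),
        (inferInstance : (Subgroup.centralizer (W : Set (N ⧸ K))).Normal).conj_mem x hx.2 _⟩
      have e : (w : N ⧸ K) * k * x * ((w : N ⧸ K) * k)⁻¹ = k * x * (k : N ⧸ K)⁻¹ := by
        rw [mul_inv_rev,
          show (w : N ⧸ K) * k * x * ((k : N ⧸ K)⁻¹ * (w : N ⧸ K)⁻¹) =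
            (w : N ⧸ K) * (k * x * (k : N ⧸ K)⁻¹) * (w : N ⧸ K)⁻¹ by group,
          Subgroup.mem_centralizer_iff.1 hy.2 w w.2, mul_inv_cancel_right]
      show (w : N ⧸ K) * k * x * ((w : N ⧸ K) * k)⁻¹ ∈ M
      rw [e]
      exact hy⟩
    have hMbot : M = ⊥ := by
      rw [eq_bot_iff, ← Cfsg.Agent.Basics.pPrimeCore_quotient_eq_bot (G := N) p]
      refine Cfsg.Agent.Basics.le_pPrimeCore (Nat.Coprime.symm ?_)
      exact (Fact.out : p.Prime).coprime_iff_not_dvd.2
        fun hd => hHcard (hd.trans (Subgroup.card_dvd_of_le inf_le_left))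
    have : h ∈ M := ⟨hh, Subgroup.mem_centralizer_iff.2 fun w hw => (hc w hw).symm⟩
    rwa [hMbot, Subgroup.mem_bot] at this
  have htrans : ∀ U U' : Subgroup (N ⧸ K), U ≤ W → U' ≤ W → Nat.card U = Nat.card U' →
      ∃ h ∈ H, U' = U.map (MulAut.conj h).toMonoidHom := by
    intro U U' hU hU' he
    have hBmap : ∀ U : Subgroup (N ⧸ K), U ≤ W → (U.comap π ⊓ P').map π = U := by
      intro U hU
      refine le_antisymm ((Subgroup.map_mono inf_le_left).trans (Subgroup.map_comap_le _ _)) ?_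
      intro u hu
      obtain ⟨x, hx, rfl⟩ := hU hu
      exact ⟨x, ⟨hu, hx⟩, rfl⟩
    have hB : ∀ U : Subgroup (N ⧸ K), U ≤ W →
        Nat.card ((U.comap π ⊓ P').map N.subtype) = Nat.card U := by
      intro U hU
      rw [Subgroup.card_map_of_injective N.subtype_injective]
      conv_rhs => rw [← hBmap U hU]
      refine Nat.card_eq_of_bijective (fun x : (U.comap π ⊓ P' : Subgroup N) =>
        (⟨π x, x.1, x.2, rfl⟩ : (U.comap π ⊓ P').map π)) ⟨fun x y h => ?_, ?_⟩
      · refine Subtype.ext (inv_mul_eq_one.1 (hinj _ (mul_mem (inv_mem x.2.2) y.2.2) ?_))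
        have h' : π x.1 = π y.1 := congrArg Subtype.val h
        rw [map_mul, map_inv, h', inv_mul_cancel]
      · rintro ⟨_, x, hx, rfl⟩
        exact ⟨⟨x, hx⟩, rfl⟩
    have hleP : ∀ U : Subgroup (N ⧸ K), (U.comap π ⊓ P').map N.subtype ≤ P := by
      rintro U _ ⟨x, hx, rfl⟩
      exact hx.2
    obtain ⟨g, hg⟩ := hC _ _ (P.isPGroup'.to_le (hleP U)) (P.isPGroup'.to_le (hleP U'))
      (by rw [hB U hU, hB U' hU', he])
    obtain ⟨m, hm, hmm⟩ := Cfsg.Agent.FGB.SolvTrans.burnside_subgroups P hab (hleP U) (hleP U') hg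
    let m' : N := ⟨m, hm⟩
    have hU'eq : U' = U.map (MulAut.conj (π m')).toMonoidHom := by
      conv_lhs => rw [← hBmap U' hU']
      conv_rhs => rw [← hBmap U hU]
      have h1 : U'.comap π ⊓ P' = (U.comap π ⊓ P').map (MulAut.conj m').toMonoidHom := by
        apply Subgroup.map_injective N.subtype_injective
        rw [hmm, Subgroup.map_map, Subgroup.map_map]
        rfl
      rw [h1, Subgroup.map_map, Subgroup.map_map]
      congr 1
    obtain ⟨⟨w, h⟩, hwh⟩ := hWH.2 (π m')
    refine ⟨h, h.2, hU'eq.trans ?_⟩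
    ext y
    have key : ∀ u ∈ U, π m' * u * (π m')⁻¹ = (h : N ⧸ K) * u * (h : N ⧸ K)⁻¹ := by
      intro u hu
      rw [← hwh]
      show (w : N ⧸ K) * h * u * ((w : N ⧸ K) * h)⁻¹ = _
      rw [show (w : N ⧸ K) * h * u * ((w : N ⧸ K) * h)⁻¹ =
          (w : N ⧸ K) * ((h : N ⧸ K) * u * (h : N ⧸ K)⁻¹) * (w : N ⧸ K)⁻¹ by group,
        hWab w w.2 _ ((inferInstance : W.Normal).conj_mem u (hU hu) h), mul_inv_cancel_right]
    constructor
    · rintro ⟨u, hu, rfl⟩
      exact ⟨u, hu, (key u hu).symm⟩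
    · rintro ⟨u, hu, rfl⟩
      exact ⟨u, hu, key u hu⟩
  haveI : IsMulCommutative W := ⟨⟨fun a b => Subtype.ext (hWab a a.2 b b.2)⟩⟩
  letI : Module (ZMod p) (Additive W) := AddCommGroup.zmodModule fun x => by
    apply Additive.toMul.injective
    rw [toMul_nsmul, toMul_zero]
    exact Subtype.ext (by rw [SubmonoidClass.coe_pow, hWexp _ x.toMul.2]; rfl)
  have := hsolv
  exact Cfsg.Agent.FGB.SolvTrans.split_core hn (V := Additive W)
    (fun x => ((x.toMul : W) : N ⧸ K))
    (fun x y h => Additive.toMul.injective (Subtype.ext h)) (fun x y => rfl) W H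
    (fun q => ⟨fun hq => ⟨Additive.ofMul ⟨q, hq⟩, rfl⟩, fun ⟨x, hx⟩ => hx ▸ (x.toMul : W).2⟩)
    hWH hWcard hfaith inferInstance htrans

end Cfsg.Agent.S4025
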