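import Cfsg.Statements.S4027
import Cfsg.Agent.Lib.FGB.RealOdd
-- import your own Cfsg.Agent.* helpers here

set_option autoImplicit false
open Cfsg

namespace Cfsg.Agent.S4027

/-- Let G be a finite group in which every element x of odd order satisfies N_G(⟨x⟩) = C_G(x). Then the Sylow 2-subgroups of G are normal. -/
theorem result {G : Type*} [Group G] [Finite G]
    (hirr : ∀ x : G, (∀ r : ℕ, r.Prime → r ∣ orderOf x → r ≠ 2) →
      Subgroup.normalizer ((Subgroup.zpowers x : Subgroup G) : Set G) ≤ Subgroup.centralizer {x}) (P : Sylow 2 G) :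
    (P : Subgroup G).Normal := by
  classical
  refine Cfsg.Agent.FGB.sylow_two_normal_of_no_real_odd _ G rfl (fun z g hz hgz => ?_) P
  have hodd : ∀ r : ℕ, r.Prime → r ∣ orderOf z → r ≠ 2 := fun r hr hrd h2 =>
    hr.not_dvd_one (hz ▸ Nat.dvd_gcd hrd (h2 ▸ dvd_rfl))
  have hg : g ∈ Subgroup.normalizer ((Subgroup.zpowers z : Subgroup G) : Set G) := by
    have hle : (Subgroup.zpowers z).map (MulAut.conj g).toMonoidHom = Subgroup.zpowers z := by
      rw [MonoidHom.map_zpowers, show (MulAut.conj g).toMonoidHom z = z⁻¹ from hgz, Subgroup.zpowers_inv]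
    rw [Subgroup.mem_normalizer_iff]
    intro w
    refine ⟨fun hw => hle.le ⟨w, hw, rfl⟩, fun hw => ?_⟩
    obtain ⟨v, hv, hvw⟩ := hle.ge hw
    have : v = w := (MulAut.conj g).injective hvw
    exact this ▸ hv
  rw [Subgroup.mem_centralizer_singleton_iff.mp (hirr z hodd hg), mul_inv_cancel_right] at hgz
  have h2 : z ^ 2 = 1 := by
    rw [sq]
    calc z * z = z * z⁻¹ := by rw [← hgz]
      _ = 1 := mul_inv_cancel z
  exact orderOf_eq_one_iff.mp (Nat.eq_one_of_dvd_coprimes hz dvd_rfl (orderOf_dvd_of_pow_eq_one h2))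

end Cfsg.Agent.S4027
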