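import Cfsg.Statements.S4028
import Cfsg.Agent.Lib.FGB.CyclicPowers
import Cfsg.Agent.Lib.Transfer.Fusion
-- import your own Cfsg.Agent.* helpers here

set_option autoImplicit false
open Cfsg

namespace Cfsg.Agent.S4028

/-- Let G be a finite group with Sylow 2-subgroup P. Then N_G(⟨x⟩) = C_G(x) holds for every 2-element x of G if and only if N_P(⟨y⟩) = C_P(y) holds for every y ∈ P (computed inside P). -/
theorem result {G : Type*} [Group G] [Finite G] (P : Sylow 2 G) :
    (∀ x : G, (∀ r : ℕ, r.Prime → r ∣ orderOf x → r = 2) →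
      Subgroup.normalizer ((Subgroup.zpowers x : Subgroup G) : Set G) ≤ Subgroup.centralizer {x}) ↔
    (∀ y : ↥(P : Subgroup G), Subgroup.normalizer ((Subgroup.zpowers y : Subgroup ↥(P : Subgroup G)) : Set ↥(P : Subgroup G)) ≤
        Subgroup.centralizer {y}) := by
  classical
  haveI : Fact (Nat.Prime 2) := ⟨Nat.prime_two⟩
  constructor
  · intro h y g hg
    have hy2 : ∀ r : ℕ, r.Prime → r ∣ orderOf (y : G) → r = 2 := by
      intro r hr hrd
      obtain ⟨k, hk⟩ := IsPGroup.iff_orderOf.mp P.2 y
      rw [Subgroup.orderOf_coe, hk] at hrd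
      exact (Nat.prime_dvd_prime_iff_eq hr Nat.prime_two).mp (hr.dvd_of_dvd_pow hrd)
    have hgN : (g : G) ∈ Subgroup.normalizer ((Subgroup.zpowers (y : G) : Subgroup G) : Set G) := by
      have hmap : (Subgroup.zpowers y).map (P : Subgroup G).subtype = Subgroup.zpowers (y : G) :=
        MonoidHom.map_zpowers _ _
      rw [← hmap]
      exact Subgroup.le_normalizer_map _ ⟨g, hg, rfl⟩
    rw [Subgroup.mem_centralizer_singleton_iff]
    exact Subtype.ext (Subgroup.mem_centralizer_singleton_iff.mp (h _ hy2 hgN))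
  · intro h x hx g hg
    rw [Subgroup.mem_centralizer_singleton_iff]
    obtain ⟨k, hk⟩ : ∃ k, orderOf x = 2 ^ k := by
      refine ⟨(orderOf x).primeFactorsList.length, Nat.eq_prime_pow_of_unique_prime_dvd (orderOf_pos x).ne' ?_⟩
      exact fun hd hdd => hx _ hd hdd
    obtain ⟨a, b, ha, hb, hab, hak, hbc⟩ := Cfsg.Agent.Transfer.exists_pPart_mul (p := 2) g
    set N := Subgroup.normalizer ((Subgroup.zpowers x : Subgroup G) : Set G)
    have haN : a ∈ N := Subgroup.zpowers_le.mpr hg ha
    have hbN : b ∈ N := Subgroup.zpowers_le.mpr hg hb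
    -- the `2`-part
    have hax : Commute a x := by
      obtain ⟨j, hj⟩ := hak
      have hpa : IsPGroup 2 (Subgroup.zpowers a) :=
        IsPGroup.of_card_dvd_pow (n := j) (by rwa [Nat.card_zpowers])
      have hpx : IsPGroup 2 (Subgroup.zpowers x) :=
        IsPGroup.of_card (n := k) (by rw [Nat.card_zpowers, hk])
      obtain ⟨Q, hQ⟩ := (IsPGroup.to_sup_of_normal_right' hpa hpx (Subgroup.zpowers_le.mpr haN)).exists_le_sylow
      obtain ⟨c, hc⟩ := MulAction.exists_smul_eq G Q P
      have hmem : ∀ z ∈ (Q : Subgroup G), c * z * c⁻¹ ∈ (P : Subgroup G) := by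
        intro z hz
        rw [← hc, Sylow.coe_subgroup_smul]
        exact ⟨z, hz, rfl⟩
      set y : (P : Subgroup G) := ⟨c * x * c⁻¹, hmem x (hQ (Subgroup.mem_sup_right (Subgroup.mem_zpowers x)))⟩
      set s : (P : Subgroup G) := ⟨c * a * c⁻¹, hmem a (hQ (Subgroup.mem_sup_left (Subgroup.mem_zpowers a)))⟩
      have hs : s ∈ Subgroup.normalizer ((Subgroup.zpowers y : Subgroup _) : Set (P : Subgroup G)) := by
        have hfin : (Subgroup.zpowers y).map (MulAut.conj s).toMonoidHom ≤ Subgroup.zpowers y := by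
          rw [MonoidHom.map_zpowers, Subgroup.zpowers_le]
          obtain ⟨i, hi⟩ := Subgroup.mem_zpowers_iff.mp
            ((Subgroup.mem_normalizer_iff.mp haN x).mp (Subgroup.mem_zpowers x))
          refine Subgroup.mem_zpowers_iff.mpr ⟨i, Subtype.ext ?_⟩
          show (c * x * c⁻¹) ^ i = (c * a * c⁻¹) * (c * x * c⁻¹) * (c * a * c⁻¹)⁻¹
          rw [conj_zpow, hi]; group
        have heq := Subgroup.eq_of_le_of_card_ge hfin
          (Subgroup.card_map_of_injective (MulAut.conj s).injective).ge
        rw [Subgroup.mem_normalizer_iff]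
        intro z
        refine ⟨fun hz => hfin ⟨z, hz, rfl⟩, fun hz => ?_⟩
        obtain ⟨w, hw, hwz⟩ := heq.ge hz
        have : w = z := (MulAut.conj s).injective hwz
        exact this ▸ hw
      have h2 := congrArg Subtype.val (Subgroup.mem_centralizer_singleton_iff.mp (h y hs))
      have h3 := congrArg (fun t => c⁻¹ * t * c) h2
      simpa [Commute, SemiconjBy, y, s, mul_assoc] using h3
    -- the odd part
    have hbx : Commute b x := by
      obtain ⟨i, hi⟩ := Subgroup.mem_zpowers_iff.mp
        ((Subgroup.mem_normalizer_iff.mp hbN x).mp (Subgroup.mem_zpowers x))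
      rcases k with _ | k
      · have hx1' : x = 1 := orderOf_eq_one_iff.mp (by simpa using hk)
        rw [hx1']; exact Commute.one_right b
      have hi2 : ((2 : ℕ) : ℤ) ∣ i - 1 := by
        by_contra hnd
        have hev : (2 : ℤ) ∣ i := by omega
        obtain ⟨j, rfl⟩ := hev
        have h1 : (b * x * b⁻¹) ^ 2 ^ k = 1 := by
          rw [← hi, ← zpow_natCast, ← zpow_mul,
            show (2 : ℤ) * j * ((2 ^ k : ℕ) : ℤ) = ((2 ^ (k + 1) : ℕ) : ℤ) * j by push_cast; ring,
            zpow_mul, zpow_natCast, ← hk, pow_orderOf_eq_one, one_zpow]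
        rw [conj_pow, conj_eq_one_iff] at h1
        have := Nat.le_of_dvd (by positivity) (orderOf_dvd_of_pow_eq_one h1)
        rw [hk, pow_succ] at this
        have hpos : 0 < 2 ^ k := by positivity
        omega
      have := Cfsg.Agent.FGB.zpow_eq_self_of_coprime (p := 2) (k := k + 1) x b i
        (hk ▸ pow_orderOf_eq_one x) hbc hi.symm hi2
      exact mul_inv_eq_iff_eq_mul.mp this
    rw [← hab]
    exact (hax.mul_left hbx).eq

end Cfsg.Agent.S4028
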