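import Cfsg.Statements.S4029
import Cfsg.Agent.Lib.CT.Tables
import Cfsg.Agent.Lib.CT.Kernel
import Cfsg.Agent.Lib.ClassK.Burnside
-- import your own Cfsg.Agent.* helpers here

set_option autoImplicit false
open Cfsg

namespace Cfsg.Agent.S4029

/-- Let P be a finite 2-group in which N_P(⟨y⟩) = C_P(y) for every y ∈ P. If s is the number of conjugacy classes of involutions of P, then #(P/Φ(P)) ≤ s + 1; in particular the subgroup generated by the involutions of P has order at least #(P/Φ(P)). -/
theorem result {P : Type*} [Group P] [Finite P] (hP : IsPGroup 2 P)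
    (hirr : ∀ y : P, Subgroup.normalizer ((Subgroup.zpowers y : Subgroup P) : Set P) ≤ Subgroup.centralizer {y}) :
    Nat.card (P ⧸ frattini P) ≤ Nat.card {c : ConjClasses P // ∃ y : P, ConjClasses.mk y = c ∧ orderOf y = 2} + 1 ∧
    Nat.card (P ⧸ frattini P) ≤ Nat.card (Subgroup.closure {y : P | orderOf y = 2}) := by
  classical
  haveI := Fintype.ofFinite P
  haveI : Fact (Nat.Prime 2) := ⟨Nat.prime_two⟩
  have hsq : ∀ q : P ⧸ frattini P, q * q = 1 := fun q => by
    induction q using QuotientGroup.induction_on with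
    | H g =>
      rw [← QuotientGroup.mk_mul, QuotientGroup.eq_one_iff]
      exact ClassK.mul_self_mem_frattini hP g
  have hc : ∀ a b : P ⧸ frattini P, a * b = b * a := fun a b => by
    have h1 := hsq (a * b)
    rw [← inv_eq_of_mul_eq_one_right h1, mul_inv_rev, inv_eq_of_mul_eq_one_right (hsq a),
      inv_eq_of_mul_eq_one_right (hsq b)]
  have e1 : Nat.card (IrrCharacter (P ⧸ frattini P)) = Nat.card (P ⧸ frattini P) := by
    rw [CT.card_irr_eq_card_conjClasses]
    refine (Nat.card_eq_of_bijective ConjClasses.mk ⟨fun a b h => ?_, ConjClasses.mk_surjective⟩).symm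
    obtain ⟨c, hcab⟩ := isConj_iff.mp (ConjClasses.mk_eq_mk_iff_isConj.mp h)
    rw [← hcab, hc c a, mul_inv_cancel_right]
  have hreal : ∀ (ψ : IrrCharacter (P ⧸ frattini P)) (g : P),
      ((ψ : P ⧸ frattini P → ℂ) (QuotientGroup.mk g)).im = 0 := by
    intro ψ g
    obtain ⟨lam, hlam⟩ := CT.exists_hom_of_comm hc ψ.2
    rw [hlam]
    have h2 : (lam (QuotientGroup.mk g) : ℂ) * (lam (QuotientGroup.mk g) : ℂ) = 1 := by
      rw [← Units.val_mul, ← map_mul, hsq, map_one, Units.val_one]
    rcases mul_self_eq_one_iff.1 h2 with h | h <;> show ((lam (QuotientGroup.mk g) : ℂ)).im = 0 <;> rw [h] <;> simp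
  let f : IrrCharacter (P ⧸ frattini P) → {χ : IrrCharacter P // ∀ g : P, ((χ : P → ℂ) g).im = 0} :=
    fun ψ => ⟨⟨fun g => (ψ : P ⧸ frattini P → ℂ) (QuotientGroup.mk g),
      CT.isIrr_inflate (frattini P) ψ.2 (fun g => rfl)⟩, hreal ψ⟩
  have hf : Function.Injective f := fun ψ ψ' h => by
    refine Subtype.ext (funext fun q => ?_)
    induction q using QuotientGroup.induction_on with
    | H g => exact congrFun (congrArg (fun χ : {χ : IrrCharacter P // ∀ g : P, ((χ : P → ℂ) g).im = 0} =>
        ((χ.1 : IrrCharacter P) : P → ℂ)) h) g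
  haveI : Finite (ConjClasses P) := Finite.of_surjective _ ConjClasses.mk_surjective
  haveI : Finite (IrrCharacter P) := Nat.finite_of_card_ne_zero
    (by rw [CT.card_irr_eq_card_conjClasses]; exact Nat.card_pos.ne')
  have h1 : Nat.card (P ⧸ frattini P) ≤
      Nat.card {C : ConjClasses P // ∀ g : P, ConjClasses.mk g = C → IsConj g g⁻¹} := by
    rw [← CT.card_real_irr, ← e1]
    exact Nat.card_le_card_of_injective f hf
  have hrc : ∀ g : P, IsConj g g⁻¹ → g = 1 ∨ orderOf g = 2 := by
    intro g hg
    obtain ⟨c, hcg⟩ := isConj_iff.1 hg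
    have hcn : c ∈ Subgroup.normalizer ((Subgroup.zpowers g : Subgroup P) : Set P) := by
      refine Subgroup.mem_normalizer_fintype ?_
      rintro _ ⟨k, rfl⟩
      show c * g ^ k * c⁻¹ ∈ Subgroup.zpowers g
      rw [← conj_zpow, hcg]
      exact zpow_mem (inv_mem (Subgroup.mem_zpowers g)) k
    have hc' := Subgroup.mem_centralizer_singleton_iff.1 (hirr g hcn)
    rw [hc', mul_inv_cancel_right] at hcg
    by_cases h1 : g = 1
    · exact Or.inl h1
    · refine Or.inr (orderOf_eq_prime ?_ h1)
      rw [pow_two]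
      exact mul_eq_one_iff_eq_inv.2 hcg
  let I := {c : ConjClasses P // ∃ y : P, ConjClasses.mk y = c ∧ orderOf y = 2}
  let g0 : {C : ConjClasses P // ∀ g : P, ConjClasses.mk g = C → IsConj g g⁻¹} → Option I :=
    fun C => if h : ∃ y : P, ConjClasses.mk y = C.1 ∧ orderOf y = 2 then some ⟨C.1, h⟩ else none
  have hg0 : Function.Injective g0 := by
    rintro ⟨C, hC⟩ ⟨D, hD⟩ h
    obtain ⟨a, rfl⟩ := ConjClasses.mk_surjective C
    obtain ⟨b, rfl⟩ := ConjClasses.mk_surjective D
    simp only [g0] at h
    split_ifs at h with ha hb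
    · have h' := Option.some.inj h
      have h'' := congrArg Subtype.val h'
      exact Subtype.ext h''
    · rename_i hb
      rcases hrc a (hC a rfl) with rfl | ha'
      · rcases hrc b (hD b rfl) with rfl | hb'
        · rfl
        · exact absurd ⟨b, rfl, hb'⟩ hb
      · exact absurd ⟨a, rfl, ha'⟩ ha
  haveI : Finite I := Subtype.finite
  have h2 : Nat.card {C : ConjClasses P // ∀ g : P, ConjClasses.mk g = C → IsConj g g⁻¹} ≤ Nat.card I + 1 := by
    rw [← Finite.card_option]
    exact Nat.card_le_card_of_injective g0 hg0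
  refine ⟨h1.trans h2, h1.trans (h2.trans ?_)⟩
  let k : Option I → Subgroup.closure {y : P | orderOf y = 2} := fun o =>
    o.elim 1 fun c => ⟨c.2.choose, Subgroup.subset_closure c.2.choose_spec.2⟩
  have hk : Function.Injective k := by
    have hne : ∀ c : I, c.2.choose ≠ 1 := fun c h => by
      have := c.2.choose_spec.2
      rw [h, orderOf_one] at this
      omega
    rintro (_ | c) (_ | d) h
    · rfl
    · exact absurd (congrArg Subtype.val h).symm (hne d)
    · exact absurd (congrArg Subtype.val h) (hne c)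
    · have h' : c.2.choose = d.2.choose := congrArg Subtype.val h
      exact congrArg some (Subtype.ext (by rw [← c.2.choose_spec.1, ← d.2.choose_spec.1, h']))
  rw [← Finite.card_option]
  exact Nat.card_le_card_of_injective k hk

end Cfsg.Agent.S4029
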