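import Cfsg.Statements.S4032
import Cfsg.Agent.Lib.Basics.SchurZassenhaus
-- import your own Cfsg.Agent.* helpers here

set_option autoImplicit false
open Cfsg
open scoped Pointwise

namespace Cfsg.Agent.S4032

/-- Let π be a set of primes and G a finite group in which N_G(⟨x⟩) = C_G(x) for every π-element x. If N is a normal subgroup of G whose order is divisible by no prime of π, then G/N has the same property: N_{G/N}(⟨y⟩) = C_{G/N}(y) for every π-element y of G/N. -/
theorem result {G : Type*} [Group G] [Finite G] (π : Set ℕ)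
    (hirr : ∀ x : G, (∀ r : ℕ, r.Prime → r ∣ orderOf x → r ∈ π) →
      Subgroup.normalizer ((Subgroup.zpowers x : Subgroup G) : Set G) ≤ Subgroup.centralizer {x})
    (N : Subgroup G) [N.Normal] (hN : ∀ r : ℕ, r.Prime → r ∣ Nat.card N → r ∉ π) :
    ∀ y : G ⧸ N, (∀ r : ℕ, r.Prime → r ∣ orderOf y → r ∈ π) →
      Subgroup.normalizer ((Subgroup.zpowers y : Subgroup (G ⧸ N)) : Set (G ⧸ N)) ≤ Subgroup.centralizer {y} := by
  classical
  intro y hy g hg
  obtain ⟨x₀, hx₀⟩ := QuotientGroup.mk_surjective y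
  -- a lift of `π`-order
  obtain ⟨x, hxy, hxπ⟩ : ∃ x : G, (x : G ⧸ N) = y ∧ ∀ r : ℕ, r.Prime → r ∣ orderOf x → r ∈ π := by
    set a := orderOf y with ha
    have hd : a ∣ orderOf x₀ := by
      rw [ha, ← hx₀]; exact orderOf_map_dvd (QuotientGroup.mk' N) x₀
    obtain ⟨b, hb⟩ := hd
    -- the part prime to `π`
    set S := (orderOf x₀).primeFactors.filter (fun r => r ∉ π) with hS
    set u := ∏ r ∈ S, r ^ (orderOf x₀).factorization r with hu
    have hcop : a.Coprime u := by
      refine Nat.Coprime.prod_right fun r hr => Nat.Coprime.pow_right _ ?_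
      have hrp := Nat.prime_of_mem_primeFactors (Finset.mem_filter.mp hr).1
      exact (hrp.coprime_iff_not_dvd.mpr fun h => (Finset.mem_filter.mp hr).2 (hy r hrp h)).symm
    obtain ⟨e, he1, he2⟩ := Nat.chineseRemainder hcop 1 0
    refine ⟨x₀ ^ e, ?_, fun r hr hrd => ?_⟩
    · rw [QuotientGroup.mk_pow, hx₀]
      conv_rhs => rw [← pow_one y]
      exact pow_eq_pow_iff_modEq.mpr he1
    · by_contra hrπ
      have hrx : r ∣ orderOf x₀ := hrd.trans (orderOf_pow_dvd e)
      have hrS : r ∈ S := Finset.mem_filter.mpr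
        ⟨Nat.mem_primeFactors.mpr ⟨hr, hrx, (orderOf_pos x₀).ne'⟩, hrπ⟩
      have hre : r ^ (orderOf x₀).factorization r ∣ e :=
        (Finset.dvd_prod_of_mem _ hrS).trans (Nat.modEq_zero_iff_dvd.mp he2)
      rw [orderOf_pow] at hrd
      set k := (orderOf x₀).factorization r
      have h1 : r ^ k ∣ Nat.gcd (orderOf x₀) e := Nat.dvd_gcd (Nat.ordProj_dvd _ _) hre
      have h2 : r * r ^ k ∣ orderOf x₀ := by
        obtain ⟨c, hc⟩ := hrd
        obtain ⟨d, hd⟩ := h1
        refine ⟨c * d, ?_⟩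
        rw [← Nat.div_mul_cancel (Nat.gcd_dvd_left (orderOf x₀) e), hc, hd]
        ring
      rw [← pow_succ'] at h2
      exact Nat.not_succ_le_self k ((hr.pow_dvd_iff_le_factorization (orderOf_pos x₀).ne').mp h2)
  obtain ⟨g₀, rfl⟩ := QuotientGroup.mk_surjective g
  have hcopx : (Nat.card N).Coprime (orderOf x) := by
    rw [Nat.coprime_iff_gcd_eq_one]
    by_contra hne
    obtain ⟨r, hr, hrd⟩ := Nat.exists_prime_and_dvd hne
    exact hN r hr (hrd.trans (Nat.gcd_dvd_left _ _)) (hxπ r hr (hrd.trans (Nat.gcd_dvd_right _ _)))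
  have hK : g₀ * x * g₀⁻¹ ∈ N ⊔ Subgroup.zpowers x := by
    rw [Subgroup.mem_normalizer_iff] at hg
    have h1 := (hg y).mp (Subgroup.mem_zpowers y)
    obtain ⟨i, hi⟩ := Subgroup.mem_zpowers_iff.mp h1
    have h2 : g₀ * x * g₀⁻¹ * (x ^ i)⁻¹ ∈ N := by
      rw [← QuotientGroup.eq_one_iff, QuotientGroup.mk_mul, QuotientGroup.mk_inv, QuotientGroup.mk_zpow,
        QuotientGroup.mk_mul, QuotientGroup.mk_mul, QuotientGroup.mk_inv, hxy, hi, mul_inv_cancel]
    have h3 := Subgroup.mul_mem_sup h2 (Subgroup.zpow_mem _ (Subgroup.mem_zpowers x) i)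
    simpa using h3
  obtain ⟨n, hn, hnK⟩ := Cfsg.Agent.Basics.exists_conj_eq_of_coprime N (Subgroup.zpowers x)
    (Subgroup.zpowers (g₀ * x * g₀⁻¹)) (fun z _ => by rw [Subgroup.normalizer_eq_top]; exact Subgroup.mem_top z)
    (by rwa [Nat.card_zpowers]) (Subgroup.zpowers_le.mpr hK)
    (by
      rw [Nat.card_zpowers, Nat.card_zpowers]
      exact orderOf_injective (MulAut.conj g₀).toMonoidHom (MulAut.conj g₀).injective x)
    (Or.inr inferInstance)
  have hnorm : n⁻¹ * g₀ ∈ Subgroup.normalizer ((Subgroup.zpowers x : Subgroup G) : Set G) := by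
    have hmap : (Subgroup.zpowers x).map (MulAut.conj (n⁻¹ * g₀)).toMonoidHom = Subgroup.zpowers x := by
      have h1 : (Subgroup.zpowers x).map (MulAut.conj g₀).toMonoidHom = Subgroup.zpowers (g₀ * x * g₀⁻¹) := by
        rw [MonoidHom.map_zpowers]; rfl
      have h2 : MulAut.conj (n⁻¹ * g₀) • Subgroup.zpowers x = Subgroup.zpowers x := by
        rw [map_mul, mul_smul, show MulAut.conj g₀ • Subgroup.zpowers x = Subgroup.zpowers (g₀ * x * g₀⁻¹) from h1,
          ← hnK, map_inv, inv_smul_smul]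
      exact h2
    rw [Subgroup.mem_normalizer_iff]
    intro z
    constructor
    · intro hz; exact hmap.le ⟨z, hz, rfl⟩
    · intro hz
      obtain ⟨w, hw, hwz⟩ := hmap.ge hz
      have : w = z := (MulAut.conj (n⁻¹ * g₀)).injective hwz
      exact this ▸ hw
  have hc := Subgroup.mem_centralizer_singleton_iff.mp (hirr x hxπ hnorm)
  rw [Subgroup.mem_centralizer_singleton_iff, ← hxy]
  have := congrArg (QuotientGroup.mk' N) hc
  simpa [(QuotientGroup.eq_one_iff n).mpr hn] using this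

end Cfsg.Agent.S4032
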