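import Cfsg.Statements.S4034
import Mathlib
import Cfsg.Agent.Lib.FGB.PRegularClasses

set_option autoImplicit false
open Cfsg

namespace Cfsg.Agent.S4034

open Cfsg.Agent.FGB
open scoped Pointwise

/-- For a prime p, every p-regular element of a finite group G has conjugacy class of p-power size if and only if G has an abelian p-complement. -/
theorem result {G : Type*} [Group G] [Finite G] {p : ℕ} (hp : p.Prime) :
    (∀ x : G, (orderOf x).Coprime p → ∃ k : ℕ, (ConjClasses.mk x).carrier.ncard = p ^ k) ↔
    (∃ H : Subgroup G, IsMulCommutative H ∧ ¬ p ∣ Nat.card H ∧ ∃ k : ℕ, H.index = p ^ k) := by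
  simp_rw [ncard_carrier_eq_index_centralizer]
  constructor
  · intro h
    haveI := isSolvable_of_pRegClassPow hp G h
    set v := (Nat.card G).factorization p
    have hco : (Nat.card G / p ^ v).Coprime p :=
      (Nat.coprime_ordCompl hp Nat.card_pos.ne').symm
    have hG : Nat.card G = Nat.card G / p ^ v * p ^ v :=
      (Nat.div_mul_cancel (Nat.ordProj_dvd _ _)).symm
    obtain ⟨H, hH⟩ := Basics.exists_hall_of_card hG (hco.pow_right v)
    have hcomm := commute_of_pRegClassPow hp G h H (hH ▸ hco)
    exact ⟨H, ⟨⟨fun a b => Subtype.ext (hcomm a a.2 b b.2)⟩⟩,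
      fun hd => hp.one_lt.ne' (Nat.eq_one_of_dvd_coprimes (hH ▸ hco) hd dvd_rfl),
      v, Basics.index_eq_of_card hG hH⟩
  · rintro ⟨H, hab, hpH, k, hk⟩ x hx
    have hab' : ∀ a ∈ H, ∀ b ∈ H, a * b = b * a := fun a ha b hb =>
      congrArg Subtype.val (mul_comm' (⟨a, ha⟩ : H) ⟨b, hb⟩)
    haveI := isSolvable_of_abelian_prime_pow_index hp G H hab' hk
    obtain ⟨g, hg⟩ := Basics.exists_le_conj_hall (H := H) (K := Subgroup.zpowers x)
      (by rw [hk]; exact ((hp.coprime_iff_not_dvd.mpr hpH).symm).pow_right k)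
      (by rw [hk, Nat.card_zpowers]; exact hx.pow_right k)
    have hle : MulAut.conj g • H ≤ Subgroup.centralizer ({x} : Set G) := by
      intro y hy
      rw [Subgroup.mem_centralizer_singleton_iff]
      have hxH := hg (Subgroup.mem_zpowers x)
      rw [Subgroup.mem_pointwise_smul_iff_inv_smul_mem] at hy hxH
      have := hab' _ hy _ hxH
      rwa [← smul_mul', ← smul_mul', smul_left_cancel_iff] at this
    have hidx : (MulAut.conj g • H).index = p ^ k := by
      rw [← hk]
      exact Subgroup.index_map_of_bijective (f := (MulAut.conj g).toMonoidHom)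
        (MulEquiv.bijective _) H
    obtain ⟨i, -, hi⟩ := (Nat.dvd_prime_pow hp).mp (hidx ▸ Subgroup.index_dvd_of_le hle)
    exact ⟨i, hi⟩

end Cfsg.Agent.S4034
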