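import Cfsg.Statements.S4036
-- import your own Cfsg.Agent.* helpers here

set_option autoImplicit false
open Cfsg

namespace Cfsg.Agent.S4036

/-- Let P be a finite abelian p-group and K a group of automorphisms of P (a subgroup of Aut P) whose order is divisible by p. If all non-identity elements of K have the same fixed-point subgroup on P, then K has no non-trivial normal subgroup of order prime to p. -/
theorem result {P : Type*} [CommGroup P] [Finite P] {p : ℕ}
    [Fact p.Prime] (hP : IsPGroup p P) (K : Subgroup (MulAut P)) (hK : p ∣ Nat.card K)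
    (hfix : ∀ x y : MulAut P, x ∈ K → y ∈ K → x ≠ 1 → y ≠ 1 → ∀ v : P, x v = v ↔ y v = v) :
    ∀ N : Subgroup ↥K, N.Normal → ¬ p ∣ Nat.card N → N = ⊥ := by
  classical
  intro N hNn hNp
  by_contra hN1
  haveI := hNn
  haveI := Fintype.ofFinite N
  obtain ⟨⟨⟨n, hnK⟩, hnN⟩, hn1⟩ : ∃ n : N, n ≠ 1 := by
    haveI : Nontrivial N := N.nontrivial_iff_ne_bot.mpr hN1
    exact exists_ne 1
  obtain ⟨x, hx⟩ := exists_prime_orderOf_dvd_card' (G := K) p hK
  have hx1 : (x : MulAut P) ≠ 1 := fun h => by
    rw [← Subgroup.orderOf_coe, h, orderOf_one] at hx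
    exact (Fact.out : p.Prime).ne_one hx.symm
  have hn1' : n ≠ 1 := fun h => hn1 (Subtype.ext (Subtype.ext h))
  -- the norm map of `N`
  let φ : P → P := fun v => ∏ m : N, ((m : K) : MulAut P) v
  have hφinv : ∀ (m : N) v, φ (((m : K) : MulAut P) v) = φ v := fun m v =>
    Fintype.prod_equiv (Equiv.mulRight m) _ _ fun _ => rfl
  have hφx : ∀ v, φ ((x : MulAut P) v) = (x : MulAut P) (φ v) := by
    intro v
    show ∏ m : N, _ = (x : MulAut P) (∏ m : N, _)
    rw [map_prod]
    exact Fintype.prod_equiv ((MulAut.conjNormal (x⁻¹ : K)).toEquiv) _ _ fun m => by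
      show ((m : K) : MulAut P) ((x : MulAut P) v) =
        (x : MulAut P) (((MulAut.conjNormal (x⁻¹ : K) m : N) : K).1 v)
      rw [MulAut.conjNormal_apply, inv_inv]
      simp only [Subgroup.coe_mul, Subgroup.coe_inv, MulAut.mul_apply, MulAut.apply_inv_self]
  -- the kernel meets the fixed points trivially
  have hker : ∀ v, φ v = 1 → n v = v → v = 1 := by
    intro v h1 h2
    have hfixall : ∀ m : N, ((m : K) : MulAut P) v = v := by
      intro m
      rcases eq_or_ne ((m : K) : MulAut P) 1 with h | h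
      · rw [h]; rfl
      · exact (hfix n _ hnK (m : K).2 hn1' h v).mp h2
    have h3 : v ^ Nat.card N = 1 := by
      rw [Nat.card_eq_fintype_card, ← Finset.card_univ, ← Finset.prod_const, ← h1]
      exact Finset.prod_congr rfl fun m _ => (hfixall m).symm
    obtain ⟨k, hk⟩ := hP v
    exact orderOf_eq_one_iff.mp (Nat.eq_one_of_dvd_coprimes
      ((Fact.out : p.Prime).coprime_iff_not_dvd.mpr hNp |>.pow_left k)
      (orderOf_dvd_of_pow_eq_one hk) (orderOf_dvd_of_pow_eq_one h3))
  obtain ⟨v, hv⟩ : ∃ v, n v ≠ v := by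
    by_contra hcon
    push Not at hcon
    exact hn1' (MulEquiv.ext hcon)
  set w := v⁻¹ * n v with hw
  have hφw : φ w = 1 := by
    have hmul : ∀ a b, φ (a * b) = φ a * φ b := fun a b => by
      show ∏ m : N, _ = (∏ m : N, _) * ∏ m : N, _
      rw [← Finset.prod_mul_distrib]
      exact Finset.prod_congr rfl fun m _ => map_mul _ a b
    have h1 : φ v⁻¹ * φ v = 1 := by
      rw [← hmul, inv_mul_cancel]
      show ∏ m : N, _ = 1
      exact Finset.prod_eq_one fun m _ => map_one _
    rw [hw, hmul, hφinv ⟨⟨n, hnK⟩, hnN⟩ v, h1]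
  have hw1 : w ≠ 1 := fun h => hv (inv_mul_eq_one.mp h).symm
  -- a fixed point of `x` in the kernel
  let W : Subgroup P :=
    { carrier := {u | φ u = 1}
      one_mem' := Finset.prod_eq_one fun m _ => map_one _
      mul_mem' := fun {a b} (ha : φ a = 1) (hb : φ b = 1) => by
        show ∏ m : N, _ = 1
        simp only [map_mul, Finset.prod_mul_distrib]
        rw [show ∏ m : N, ((m : K) : MulAut P) a = 1 from ha, show ∏ m : N, ((m : K) : MulAut P) b = 1 from hb, one_mul]
      inv_mem' := fun {a} (ha : φ a = 1) => by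
        show ∏ m : N, _ = 1
        simp only [map_inv, Finset.prod_inv_distrib]
        rw [show ∏ m : N, ((m : K) : MulAut P) a = 1 from ha, inv_one] }
  have hX : ∀ g : Subgroup.zpowers (x : MulAut P), ∀ u ∈ W, (g : MulAut P) u ∈ W := by
    rintro ⟨g, hg⟩ u hu
    rw [← mem_powers_iff_mem_zpowers, Submonoid.mem_powers_iff] at hg
    obtain ⟨i, rfl⟩ := hg
    suffices h : φ (((x : MulAut P) ^ i) u) = 1 from h
    clear * - i hu hφx
    induction i with
    | zero => exact hu
    | succ j ih =>
      show φ (((x : MulAut P) ^ (j + 1)) u) = 1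
      rw [pow_succ', MulAut.mul_apply, hφx, show φ (((x : MulAut P) ^ j) u) = 1 from ih, map_one]
  letI : MulAction (Subgroup.zpowers (x : MulAut P)) W :=
    { smul := fun g u => ⟨(g : MulAut P) u, hX g u u.2⟩
      one_smul := fun u => Subtype.ext rfl
      mul_smul := fun g h u => Subtype.ext rfl }
  have hpW : p ∣ Nat.card W := by
    obtain ⟨k, hk⟩ := (hP.to_subgroup W).exists_card_eq
    rcases Nat.eq_zero_or_pos k with rfl | hk0
    · haveI : Subsingleton W := (Nat.card_eq_one_iff_unique.mp (hk.trans (pow_zero p))).1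
      exact absurd (congrArg Subtype.val (Subsingleton.elim (⟨w, hφw⟩ : W) 1)) hw1
    · exact hk ▸ dvd_pow_self p hk0.ne'
  have hone : (1 : W) ∈ MulAction.fixedPoints (Subgroup.zpowers (x : MulAut P)) W :=
    fun g => Subtype.ext (map_one _)
  obtain ⟨u, hu, hu1⟩ := (IsPGroup.of_card (p := p) (n := 1) (G := Subgroup.zpowers (x : MulAut P))
    (by rw [Nat.card_zpowers, Subgroup.orderOf_coe, hx, pow_one])).exists_fixed_point_of_prime_dvd_card_of_fixed_point
      W hpW hone
  have hxu : (x : MulAut P) (u : P) = u := congrArg Subtype.val (hu ⟨x, Subgroup.mem_zpowers _⟩)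
  exact hu1 (Subtype.ext (hker u u.2 ((hfix x n x.2 hnK hx1 hn1' u).mp hxu)).symm)

end Cfsg.Agent.S4036
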