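import Cfsg.Statements.S4039
import Cfsg.Agent.Lib.FGB.NilpotentMaximal2
-- import your own Cfsg.Agent.* helpers here

set_option autoImplicit false
open Cfsg

namespace Cfsg.Agent.S4039

/-- A finite group possessing a maximal subgroup that is nilpotent of class at most 2 is solvable. -/
theorem result {G : Type*} [Group G] [Finite G]
    (M : Subgroup G) (hmax : IsCoatom M) (hnil : Group.IsNilpotent M) (hcl : Group.nilpotencyClass ↥M ≤ 2) :
    Group.IsSolvable G := by
  refine Cfsg.Agent.FGB.isSolvable_of_classTwo_coatom _ G rfl M hmax hnil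
    fun x hx y hy z hz _ _ _ => ?_
  haveI := hnil
  have h2 : upperCentralSeries M 2 = ⊤ :=
    Subgroup.upperCentralSeries_eq_top_iff_nilpotencyClass_le.mpr hcl
  have h1 : (⟨x, hx⟩ : M) ∈ upperCentralSeries M 2 := h2 ▸ Subgroup.mem_top _
  have h3 := mem_upperCentralSeries_succ_iff.mp h1 ⟨y, hy⟩
  rw [upperCentralSeries_one, Subgroup.mem_center_iff] at h3
  exact (congrArg Subtype.val (h3 ⟨z, hz⟩)).symm

end Cfsg.Agent.S4039
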