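import Cfsg.Statements.S4040
import Cfsg.Agent.Lib.FGS.NilpotentMaximal

set_option autoImplicit false
open Cfsg

open scoped Pointwise

namespace Cfsg.Agent.S4040

/-- A finite group possessing a maximal subgroup that is nilpotent of odd order is solvable. -/
theorem result {G : Type*} [Group G] [Finite G]
    (M : Subgroup G) (hmax : IsCoatom M) (hnil : Group.IsNilpotent M) (hodd : Odd (Nat.card M)) :
    Group.IsSolvable G := by
  refine Cfsg.Agent.FGS.isSolvable_of_nilpotent_coatom _ G rfl M hmax hnil fun x hx y hy hx2 _ => ?_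
  obtain ⟨k, hk⟩ := hx2
  have h1 : orderOf x ∣ Nat.card M := by
    rw [← Subgroup.orderOf_mk x hx]; exact orderOf_dvd_natCard _
  have h2 : orderOf x = 1 := Nat.eq_one_of_dvd_coprimes (hodd.coprime_two_right.pow_right k) h1 hk
  rw [orderOf_eq_one_iff.mp h2]
  exact Commute.one_left y

end Cfsg.Agent.S4040
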