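import Cfsg.Statements.S4043
import Cfsg.Agent.Lib.Basics.SchurZassenhaus
-- import your own Cfsg.Agent.* helpers here

set_option autoImplicit false
open Cfsg
open scoped Pointwise

namespace Cfsg.Agent.S4043

/-- Let G be a finite group that is the semidirect product of a normal p-subgroup N by a subgroup A, and also of N by a subgroup A₁, where p is a prime and A and A₁ both have normal p-complements. If C_N(A) = C_N(A₁) = 1, then A₁ is conjugate to A by an element of N. -/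
theorem result {G : Type*} [Group G] [Finite G] {p : ℕ}
    [Fact p.Prime] (N : Subgroup G) [N.Normal] (hN : IsPGroup p N) (A A₁ : Subgroup G)
    (hA : A.IsComplement' N) (hA₁ : A₁.IsComplement' N)
    (hAp : Cfsg.HasNormalPComplement p A) (hA₁p : Cfsg.HasNormalPComplement p A₁)
    (hC : ∀ n : G, n ∈ N → (∀ a : G, a ∈ A → a * n * a⁻¹ = n) → n = 1)
    (hC₁ : ∀ n : G, n ∈ N → (∀ a : G, a ∈ A₁ → a * n * a⁻¹ = n) → n = 1) :
    ∃ n : G, n ∈ N ∧ A₁ = A.map (MulAut.conj n).toMonoidHom := by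
  classical
  have hp : p.Prime := Fact.out
  have hC₁' := hC₁
  clear hC₁'
  obtain ⟨Q, K0, hK0n, hK0⟩ := hAp
  obtain ⟨Q1, K10, hK10n, hK10⟩ := hA₁p
  haveI := hK0n
  haveI := hK10n
  set K := K0.map A.subtype with hK
  set K1 := K10.map A₁.subtype with hK1
  have hKcard : Nat.card K = (Q : Subgroup A).index := by
    rw [hK, Subgroup.card_map_of_injective A.subtype_injective, hK0.index_eq_card]
  have hK1card : Nat.card K1 = (Q1 : Subgroup A₁).index := by
    rw [hK1, Subgroup.card_map_of_injective A₁.subtype_injective, hK10.index_eq_card]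
  have hAA : Nat.card A = Nat.card A₁ := by rw [← hA.index_eq_card, ← hA₁.index_eq_card]
  have hKK1 : Nat.card K1 = Nat.card K := by
    rw [hKcard, hK1card]
    have h1 := (Q : Subgroup A).card_mul_index
    have h2 := (Q1 : Subgroup A₁).card_mul_index
    rw [Q.card_eq_multiplicity] at h1
    rw [Q1.card_eq_multiplicity, ← hAA] at h2
    exact Nat.eq_of_mul_eq_mul_left (pow_pos hp.pos _) (h2.trans h1.symm)
  have hpK : ¬ p ∣ Nat.card K := hKcard ▸ Q.not_dvd_index
  have hdis : ∀ x, x ∈ A → x ∈ N → x = 1 := fun x hx hx' =>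
    Subgroup.mem_bot.mp (hA.disjoint.le_bot ⟨hx, hx'⟩)
  -- `A` is the normalizer of `K`
  set D := N ⊓ Subgroup.centralizer (K : Set G) with hD
  have hAK : ∀ a ∈ A, ∀ k ∈ K, a * k * a⁻¹ ∈ K := by
    rintro a ha _ ⟨k, hk, rfl⟩
    exact ⟨_, hK0n.conj_mem k hk ⟨a, ha⟩, rfl⟩
  have hDA : ∀ a ∈ A, ∀ d ∈ D, a * d * a⁻¹ ∈ D := by
    intro a ha d hd
    refine ⟨(inferInstance : N.Normal).conj_mem d hd.1 a, Subgroup.mem_centralizer_iff.mpr fun k hk => ?_⟩
    have h1 : a⁻¹ * k * a ∈ K := by simpa using hAK a⁻¹ (inv_mem ha) k hk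
    have h2 := Subgroup.mem_centralizer_iff.mp hd.2 _ h1
    calc k * (a * d * a⁻¹) = a * ((a⁻¹ * k * a) * d) * a⁻¹ := by group
      _ = a * (d * (a⁻¹ * k * a)) * a⁻¹ := by rw [h2]
      _ = _ := by group
  have hD1 : D = ⊥ := by
    letI : MulAction (Q : Subgroup A) D :=
      { smul := fun q d => ⟨((q : A) : G) * d * ((q : A) : G)⁻¹, hDA _ (q : A).2 d d.2⟩
        one_smul := fun d => Subtype.ext (by show ((1 : A) : G) * d * ((1 : A) : G)⁻¹ = d; simp)
        mul_smul := fun q r d => Subtype.ext (by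
          show (((q : A) * (r : A) : A) : G) * d * (((q : A) * (r : A) : A) : G)⁻¹ = (q : A) * ((r : A) * d * ((r : A) : G)⁻¹) * ((q : A) : G)⁻¹
          rw [Subgroup.coe_mul]; group) }
    by_contra hne
    have hDp : IsPGroup p D := hN.to_le inf_le_left
    obtain ⟨n, hn⟩ := hDp.exists_card_eq
    have hpD : p ∣ Nat.card D := by
      rcases n with _ | n
      · exact absurd (Subgroup.card_eq_one.mp (by rw [hn, pow_zero])) hne
      · exact hn ▸ dvd_pow_self p (Nat.succ_ne_zero n)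
    obtain ⟨d, hd, hd1⟩ := Q.2.exists_fixed_point_of_prime_dvd_card_of_fixed_point D hpD (a := (1 : D))
      (fun q => Subtype.ext (by show ((q : A) : G) * (1 : G) * ((q : A) : G)⁻¹ = 1; group))
    refine hd1 (Subtype.ext (hC d d.2.1 fun a ha => ?_).symm)
    obtain ⟨⟨⟨k, hk⟩, ⟨q, hq⟩⟩, hkq, -⟩ := hK0.existsUnique ⟨a, ha⟩
    have hkq' : (k : G) * q = a := congrArg Subtype.val hkq
    have h1 : ((q : A) : G) * d * ((q : A) : G)⁻¹ = d := congrArg Subtype.val (hd ⟨q, hq⟩)
    rw [← hkq', show (k : G) * q * (d : G) * ((k : G) * q)⁻¹ = k * (q * d * (q : G)⁻¹) * (k : G)⁻¹ by group, h1,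
      Subgroup.mem_centralizer_iff.mp d.2.2 k ⟨k, hk, rfl⟩, mul_inv_cancel_right]
  have hnorm : Subgroup.normalizer (K : Set G) ≤ A := by
    intro g hg
    obtain ⟨⟨⟨a, ha⟩, ⟨n, hn⟩⟩, han, -⟩ := hA.existsUnique g
    have hnK : n ∈ D := by
      refine ⟨hn, Subgroup.mem_centralizer_iff_commutator_eq_one.mpr fun k hk => ?_⟩
      have hnN : n ∈ Subgroup.normalizer (K : Set G) := by
        have hn' : n = a⁻¹ * g := by rw [← han]; group
        rw [hn']
        refine mul_mem (inv_mem ?_) hg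
        rw [Subgroup.mem_normalizer_iff]
        exact fun k => ⟨hAK a ha k, fun h => by simpa [mul_assoc] using hAK a⁻¹ (inv_mem ha) _ h⟩
      have h1 : k * n * k⁻¹ * n⁻¹ ∈ N :=
        mul_mem ((inferInstance : N.Normal).conj_mem n hn k) (inv_mem hn)
      have h2 : k * n * k⁻¹ * n⁻¹ ∈ K := by
        rw [mul_assoc k, mul_assoc k]
        exact mul_mem hk ((Subgroup.mem_normalizer_iff.mp hnN _).mp (inv_mem hk))
      rw [commutatorElement_def]
      exact hdis _ (Subgroup.map_subtype_le K0 h2) h1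
    rw [hD1, Subgroup.mem_bot] at hnK
    rw [← han]
    simpa [hnK] using ha
  -- the two complements lie in `N K`
  have hle : K1 ≤ N ⊔ K := by
    rintro _ ⟨x, hx, rfl⟩
    obtain ⟨⟨⟨a, ha⟩, ⟨n, hn⟩⟩, han, -⟩ := hA.existsUnique (x : G)
    have hmk : ((x : G) : G ⧸ N) = (a : G ⧸ N) := by
      rw [← han, QuotientGroup.mk_mul, (QuotientGroup.eq_one_iff n).mpr hn, mul_one]
    have haK : (⟨a, ha⟩ : A) ∈ K0 := by
      have hinj : orderOf (a : G ⧸ N) = orderOf (⟨a, ha⟩ : A) :=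
        orderOf_injective ((QuotientGroup.mk' N).comp A.subtype) (fun u v huv => by
          refine Subtype.ext (inv_mul_eq_one.mp (hdis _ (mul_mem (inv_mem u.2) v.2) (QuotientGroup.eq.mp huv)))) ⟨a, ha⟩
      rw [← QuotientGroup.eq_one_iff, ← orderOf_eq_one_iff]
      refine Nat.eq_one_of_dvd_coprimes (Q : Sylow p A).card_coprime_index ((_root_.orderOf_dvd_natCard _).trans ?_)
        ((orderOf_map_dvd (QuotientGroup.mk' K0) _).trans ?_)
      · rw [← Subgroup.index_eq_card, hK0.symm.index_eq_card]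
      · rw [← hinj, ← hmk, ← hKcard, ← hKK1]
        refine (orderOf_map_dvd (QuotientGroup.mk' N) _).trans ?_
        rw [← Subgroup.orderOf_mk (x : G) (show (x : G) ∈ K1 from ⟨x, hx, rfl⟩)]
        exact _root_.orderOf_dvd_natCard _
    show (x : G) ∈ N ⊔ K
    rw [← han]
    exact mul_mem (Subgroup.mem_sup_right ⟨⟨a, ha⟩, haK, rfl⟩) (Subgroup.mem_sup_left hn)
  have hKN : K ≤ Subgroup.normalizer (N : Set G) := by
    rw [Subgroup.normalizer_eq_top_iff.mpr inferInstance]; exact le_top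
  haveI : Group.IsNilpotent N := hN.isNilpotent
  obtain ⟨n, hn, hnK⟩ := Basics.exists_conj_eq_of_coprime N K K1 hKN (by
    obtain ⟨e, he⟩ := hN.exists_card_eq
    rw [he]; exact Nat.Coprime.pow_left _ (hp.coprime_iff_not_dvd.mpr hpK)) hle hKK1
    (Or.inl IsNilpotent.to_isSolvable)
  refine ⟨n, hn, Subgroup.eq_of_le_of_card_ge (fun b hb => ?_) (by
    rw [Subgroup.card_map_of_injective (MulAut.conj n).injective, hAA])⟩
  refine ⟨n⁻¹ * b * n, hnorm ?_, by simp [mul_assoc]⟩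
  have hbK : ∀ k ∈ K, n⁻¹ * b * n * k * (n⁻¹ * b * n)⁻¹ ∈ K := by
    intro k hk
    have h1 : n * k * n⁻¹ ∈ K1 := hnK ▸ Subgroup.smul_mem_pointwise_smul k (MulAut.conj n) K hk
    obtain ⟨k1, hk1, hk1e⟩ := h1
    have h2 : b * (n * k * n⁻¹) * b⁻¹ ∈ K1 := ⟨_, hK10n.conj_mem k1 hk1 ⟨b, hb⟩, by rw [← hk1e]; rfl⟩
    rw [← hnK] at h2
    have h3 := Subgroup.mem_pointwise_smul_iff_inv_smul_mem.mp h2
    rw [MulAut.smul_def, MulAut.inv_apply, MulAut.conj_symm_apply] at h3
    convert h3 using 1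
    group
  haveI : Finite K := inferInstance
  rw [Subgroup.mem_normalizer_iff]
  refine fun k => ⟨hbK k, fun h => ?_⟩
  have : K.map (MulAut.conj (n⁻¹ * b * n)).toMonoidHom = K := Subgroup.eq_of_le_of_card_ge
    (by rintro _ ⟨k, hk, rfl⟩; exact hbK k hk)
    (Subgroup.card_map_of_injective (MulAut.conj (n⁻¹ * b * n)).injective).ge
  obtain ⟨k', hk', hkk⟩ := this.ge h
  exact (MulAut.conj (n⁻¹ * b * n)).injective hkk ▸ hk'

end Cfsg.Agent.S4043
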