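import Cfsg.Statements.S4049
import Cfsg.Agent.Lib.FGB.RealOdd
-- import your own Cfsg.Agent.* helpers here

set_option autoImplicit false
open Cfsg

namespace Cfsg.Agent.S4049

/-- Let G be a finite group such that N_G(H)/C_G(H) has odd order for every nontrivial subgroup H of odd order. Then the Sylow 2-subgroups of G are normal. -/
theorem result {G : Type*} [Group G] [Finite G]
    (hhom : ∀ H : Subgroup G, H ≠ ⊥ → ¬ 2 ∣ Nat.card ↥H →
        ¬ 2 ∣ (Subgroup.centralizer (H : Set G)).relIndex (Subgroup.normalizer (H : Set G))) (P : Sylow 2 G) :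
    (P : Subgroup G).Normal := by
  classical
  refine Cfsg.Agent.FGB.sylow_two_normal_of_no_real_odd _ G rfl (fun z g hz hgz => ?_) P
  by_contra hz1
  set H := Subgroup.zpowers z with hH
  have hHodd : ¬ 2 ∣ Nat.card H := by
    rw [hH, Nat.card_zpowers]
    exact fun h2 => Nat.prime_two.not_dvd_one (hz ▸ Nat.dvd_gcd h2 dvd_rfl)
  have hH1 : H ≠ ⊥ := fun h => hz1 (Subgroup.zpowers_eq_bot.mp h)
  set N := Subgroup.normalizer (H : Set G)
  set C := Subgroup.centralizer (H : Set G)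
  have hgN : g ∈ N := by
    have hle : H.map (MulAut.conj g).toMonoidHom = H := by
      rw [hH, MonoidHom.map_zpowers, show (MulAut.conj g).toMonoidHom z = z⁻¹ from hgz, Subgroup.zpowers_inv]
    rw [Subgroup.mem_normalizer_iff]
    intro w
    refine ⟨fun hw => hle.le ⟨w, hw, rfl⟩, fun hw => ?_⟩
    obtain ⟨v, hv, hvw⟩ := hle.ge hw
    have : v = w := (MulAut.conj g).injective hvw
    exact this ▸ hv
  have hgz2 : g * z⁻¹ * g⁻¹ = z := by
    have := congrArg Inv.inv hgz
    rwa [mul_inv_rev, mul_inv_rev, inv_inv, inv_inv, ← mul_assoc] at this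
  have hg2 : g ^ 2 ∈ C := by
    rw [Subgroup.mem_centralizer_iff]
    intro w hw
    obtain ⟨i, rfl⟩ := Subgroup.mem_zpowers_iff.mp hw
    have h1 : Commute (g ^ 2) z := by
      refine mul_inv_eq_iff_eq_mul.mp ?_
      calc g ^ 2 * z * (g ^ 2)⁻¹ = g * (g * z * g⁻¹) * g⁻¹ := by rw [sq, mul_inv_rev]; simp only [mul_assoc]
        _ = z := by rw [hgz, hgz2]
    exact (h1.zpow_right i).symm.eq
  haveI : (C.subgroupOf N).Normal := by
    simp only [C, N]
    rw [← Subgroup.normalizerMonoidHom_ker]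
    exact MonoidHom.normal_ker _
  have hidx := hhom H hH1 hHodd
  have hq : ((⟨g, hgN⟩ : N) : N ⧸ C.subgroupOf N) = 1 := by
    refine orderOf_eq_one_iff.mp (Nat.eq_one_of_dvd_coprimes
      (Nat.prime_two.coprime_iff_not_dvd.mpr hidx) (orderOf_dvd_of_pow_eq_one ?_)
      ((orderOf_dvd_natCard _).trans (dvd_of_eq (Subgroup.index_eq_card _).symm)))
    rw [← QuotientGroup.mk_pow, QuotientGroup.eq_one_iff]
    exact hg2
  have hgC := Subgroup.mem_centralizer_iff.mp (Subgroup.mem_subgroupOf.mp ((QuotientGroup.eq_one_iff _).mp hq)) z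
    (Subgroup.mem_zpowers z)
  rw [show ((⟨g, hgN⟩ : N) : G) = g from rfl] at hgC
  rw [← hgC, mul_inv_cancel_right] at hgz
  have h2 : z ^ 2 = 1 := by
    rw [sq]
    calc z * z = z * z⁻¹ := by rw [← hgz]
      _ = 1 := mul_inv_cancel z
  exact hz1 (orderOf_eq_one_iff.mp (Nat.eq_one_of_dvd_coprimes hz dvd_rfl (orderOf_dvd_of_pow_eq_one h2)))

end Cfsg.Agent.S4049
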