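import Cfsg.Statements.S4050
import Cfsg.Agent.Lib.FGB.PiClosed
-- import your own Cfsg.Agent.* helpers here

set_option autoImplicit false
open Cfsg

namespace Cfsg.Agent.S4050

/-- Let π be a set of primes and G a finite group. The π-elements of G (elements whose order is divisible only by primes of π) form a subgroup if and only if G is π-separable (it has a chain of normal subgroups from 1 to G with each successive index divisible only by primes in π or only by primes outside π) and N_G(H)/C_G(H) is a π'-group for every nontrivial π'-subgroup H of G. -/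
theorem result {G : Type*} [Group G] [Finite G] (π : Set ℕ)
    (hπ : ∀ p ∈ π, p.Prime) :
    (∃ K : Subgroup G, ∀ x : G, x ∈ K ↔ ∀ p : ℕ, p.Prime → p ∣ orderOf x → p ∈ π) ↔
    ((∃ (n : ℕ) (H : Fin (n + 1) → Subgroup G), H 0 = ⊥ ∧ H (Fin.last n) = ⊤ ∧ Monotone H ∧ (∀ i, (H i).Normal) ∧
      ∀ i : Fin n, (∀ q : ℕ, q.Prime → q ∣ (H i.castSucc).relIndex (H i.succ) → q ∈ π) ∨
        (∀ q : ℕ, q.Prime → q ∣ (H i.castSucc).relIndex (H i.succ) → q ∉ π)) ∧
     (∀ H : Subgroup G, H ≠ ⊥ → (∀ p : ℕ, p.Prime → p ∣ Nat.card ↥H → p ∉ π) →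
        ∀ p : ℕ, p.Prime → p ∣ (Subgroup.centralizer (H : Set G)).relIndex (Subgroup.normalizer (H : Set G)) → p ∉ π)) := by
  classical
  constructor
  · rintro ⟨K, hK⟩
    haveI : K.Normal := ⟨fun x hx g => (hK _).mpr fun p hp hd => (hK x).mp hx p hp
      (hd.trans (dvd_of_eq (orderOf_injective (MulAut.conj g).toMonoidHom (MulAut.conj g).injective x)))⟩
    refine ⟨⟨2, ![⊥, K, ⊤], rfl, rfl, ?_, ?_, ?_⟩, ?_⟩
    · refine Fin.monotone_iff_le_succ.mpr fun i => ?_
      fin_cases i
      · exact bot_le
      · exact le_top
    · intro i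
      fin_cases i
      · exact inferInstanceAs (⊥ : Subgroup G).Normal
      · exact inferInstanceAs K.Normal
      · exact inferInstanceAs (⊤ : Subgroup G).Normal
    · intro i
      fin_cases i
      · left
        intro q hq hd
        have hd' : q ∣ (⊥ : Subgroup G).relIndex K := hd
        rw [Subgroup.relIndex_bot_left] at hd'
        haveI := Fact.mk hq
        obtain ⟨t, ht⟩ := exists_prime_orderOf_dvd_card' (G := K) q hd'
        exact (hK t).mp t.2 q hq (by rw [Subgroup.orderOf_coe, ht])
      · right
        intro q hq hd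
        have hd' : q ∣ K.relIndex ⊤ := hd
        rw [Subgroup.relIndex_top_right, Subgroup.index_eq_card] at hd'
        haveI := Fact.mk hq
        obtain ⟨t, ht⟩ := exists_prime_orderOf_dvd_card' (G := G ⧸ K) q hd'
        induction t using QuotientGroup.induction_on with
        | H g => exact FGB.dvd_orderOf_not_mem (fun y _ hy => (hK y).mpr hy) hq (dvd_of_eq ht.symm)
    · intro H _ hH p hp hd
      set N := Subgroup.normalizer (H : Set G)
      set C := Subgroup.centralizer (H : Set G)
      haveI : (C.subgroupOf N).Normal := by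
        simp only [C, N]
        rw [← Subgroup.normalizerMonoidHom_ker]
        exact MonoidHom.normal_ker _
      haveI := Fact.mk hp
      have hd' : p ∣ Nat.card (N ⧸ C.subgroupOf N) := by rwa [← Subgroup.index_eq_card]
      obtain ⟨t, ht⟩ := exists_prime_orderOf_dvd_card' (G := N ⧸ C.subgroupOf N) p hd'
      induction t using QuotientGroup.induction_on with
      | H n =>
        refine FGB.dvd_orderOf_not_mem (fun y _ hy => ?_) hp (dvd_of_eq ht.symm)
        rw [Subgroup.mem_subgroupOf, Subgroup.mem_centralizer_iff_commutator_eq_one]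
        intro h hh
        have hyK : (y : G) ∈ K := (hK _).mpr fun q hq hqd => hy q hq (by rwa [Subgroup.orderOf_coe] at hqd)
        have h1 : h * (y : G) * h⁻¹ * (y : G)⁻¹ ∈ K :=
          mul_mem ((inferInstance : K.Normal).conj_mem _ hyK h) (inv_mem hyK)
        have h2 : h * (y : G) * h⁻¹ * (y : G)⁻¹ ∈ H := by
          rw [mul_assoc h, mul_assoc h]
          exact mul_mem hh ((Subgroup.mem_normalizer_iff.mp y.2 _).mp (inv_mem hh))
        rw [← orderOf_eq_one_iff]
        by_contra hne
        obtain ⟨q, hq, hqd⟩ := Nat.exists_prime_and_dvd hne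
        refine hH q hq (hqd.trans ?_) ((hK _).mp h1 q hq hqd)
        rw [commutatorElement_def, ← Subgroup.orderOf_mk _ h2]
        exact _root_.orderOf_dvd_natCard _
  · rintro ⟨⟨n, H, h0, hlast, hmono, hnorm, hstep⟩, hhom⟩
    have hh : FGB.PiHom G π := FGB.piHom_of_index hhom
    have key : ∀ i : Fin (n + 1), FGB.PiClosed (H i) π := by
      intro i
      induction i using Fin.induction with
      | zero =>
        refine ⟨⊤, fun x => ⟨fun _ p hp hd => ?_, fun _ => trivial⟩⟩
        have hx : (x : G) = 1 := Subgroup.mem_bot.mp (h0 ▸ x.2)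
        rw [← Subgroup.orderOf_coe, hx, orderOf_one] at hd
        exact absurd hd hp.not_dvd_one
      | succ i ih =>
        haveI := hnorm i.castSucc
        have hle : H i.castSucc ≤ H i.succ := hmono (Fin.castSucc_lt_succ).le
        have hcard : ∀ x : H i.succ ⧸ (H i.castSucc).subgroupOf (H i.succ),
            orderOf x ∣ (H i.castSucc).relIndex (H i.succ) := fun x => by
          rw [Subgroup.relIndex, Subgroup.index_eq_card]
          exact _root_.orderOf_dvd_natCard x
        refine FGB.piClosed_of_normal (hh.subgroup _) _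
          (FGB.PiClosed.of_mulEquiv (Subgroup.subgroupOfEquivOfLe hle).symm ih) ?_
        rcases hstep i with hs | hs
        · exact Or.inl fun x p hp hd => hs p hp (hd.trans (hcard x))
        · refine Or.inr fun x hx => ?_
          rw [← orderOf_eq_one_iff]
          by_contra hne
          obtain ⟨p, hp, hpd⟩ := Nat.exists_prime_and_dvd hne
          exact hs p hp (hpd.trans (hcard x)) (hx p hp hpd)
    have h := key (Fin.last n)
    rw [hlast] at h
    exact FGB.PiClosed.of_mulEquiv Subgroup.topEquiv h
end Cfsg.Agent.S4050
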