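import Cfsg.Statements.S4051
import Cfsg.Agent.Lib.FGB.PiClosed
-- import your own Cfsg.Agent.* helpers here

set_option autoImplicit false
open Cfsg

namespace Cfsg.Agent.S4051

/-- Let π be a set of primes and G a finite group such that N_G(H)/C_G(H) is a π'-group for every nontrivial π'-subgroup H of G. If K is a normal subgroup of G such that the π-elements of K form a subgroup and the π-elements of G/K form a subgroup, then the π-elements of G form a subgroup. -/
theorem result {G : Type*} [Group G] [Finite G] (π : Set ℕ)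
    (hπ : ∀ p ∈ π, p.Prime) (hhom : (∀ H : Subgroup G, H ≠ ⊥ → (∀ p : ℕ, p.Prime → p ∣ Nat.card ↥H → p ∉ π) →
        ∀ p : ℕ, p.Prime → p ∣ (Subgroup.centralizer (H : Set G)).relIndex (Subgroup.normalizer (H : Set G)) → p ∉ π))
    (K : Subgroup G) [K.Normal]
    (hK : ∃ L : Subgroup ↥K, ∀ x : ↥K, x ∈ L ↔ ∀ p : ℕ, p.Prime → p ∣ orderOf x → p ∈ π)
    (hQ : ∃ L : Subgroup (G ⧸ K), ∀ x : G ⧸ K, x ∈ L ↔ ∀ p : ℕ, p.Prime → p ∣ orderOf x → p ∈ π) :
    (∃ K : Subgroup G, ∀ x : G, x ∈ K ↔ ∀ p : ℕ, p.Prime → p ∣ orderOf x → p ∈ π) := by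
  classical
  have hh : FGB.PiHom G π := FGB.piHom_of_index hhom
  obtain ⟨L, hL⟩ := hQ
  haveI hLn : L.Normal := ⟨fun x hx g => (hL _).mpr fun p hp hd => (hL x).mp hx p hp
    (hd.trans (dvd_of_eq (orderOf_injective (MulAut.conj g).toMonoidHom (MulAut.conj g).injective x)))⟩
  set M := L.comap (QuotientGroup.mk' K) with hM
  have hKM : K ≤ M := fun x hx => by
    show ((x : G) : G ⧸ K) ∈ L
    rw [(QuotientGroup.eq_one_iff x).mpr hx]
    exact one_mem L
  have hMc : FGB.PiClosed M π := by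
    refine FGB.piClosed_of_normal (hh.subgroup M) (K.subgroupOf M)
      (FGB.PiClosed.of_mulEquiv (Subgroup.subgroupOfEquivOfLe hKM).symm hK) (Or.inl ?_)
    intro x p hp hd
    induction x using QuotientGroup.induction_on with
    | H m =>
      refine (hL _).mp (show ((m : G) : G ⧸ K) ∈ L from m.2) p hp (hd.trans ?_)
      refine orderOf_dvd_of_pow_eq_one ?_
      rw [← QuotientGroup.mk_pow, QuotientGroup.eq_one_iff, Subgroup.mem_subgroupOf,
        Subgroup.coe_pow, ← QuotientGroup.eq_one_iff, QuotientGroup.mk_pow]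
      exact pow_orderOf_eq_one _
  haveI : M.Normal := hLn.comap _
  refine FGB.piClosed_of_normal hh M hMc (Or.inr ?_)
  intro x hx
  induction x using QuotientGroup.induction_on with
  | H g =>
    rw [QuotientGroup.eq_one_iff]
    show ((g : G) : G ⧸ K) ∈ L
    rw [← QuotientGroup.eq_one_iff, ← orderOf_eq_one_iff]
    by_contra hne
    obtain ⟨p, hp, hpd⟩ := Nat.exists_prime_and_dvd hne
    refine FGB.dvd_orderOf_not_mem (fun y _ hy => (hL y).mpr hy) hp hpd (hx p hp (hpd.trans ?_))
    refine orderOf_dvd_of_pow_eq_one ?_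
    rw [← QuotientGroup.mk_pow, QuotientGroup.eq_one_iff, ← QuotientGroup.mk_pow]
    show g ^ orderOf (g : G ⧸ M) ∈ M
    rw [← QuotientGroup.eq_one_iff, QuotientGroup.mk_pow]
    exact pow_orderOf_eq_one _
end Cfsg.Agent.S4051
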