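import Cfsg.Statements.S4056
import Cfsg.Agent.Lib.LocalEvenA.FrattiniP
-- import your own Cfsg.Agent.* helpers here

set_option autoImplicit false
open Cfsg

namespace Cfsg.Agent.S4056

/-- In a finite 2-group of nilpotency class at most 2 and exponent dividing 4, the Frattini subgroup lies in the centre and is elementary abelian. -/
theorem result {P : Type*} [Group P] [Finite P] (hP : IsPGroup 2 P)
    (hcl : Group.nilpotencyClass P ≤ 2) (hexp : Monoid.exponent P ∣ 4) :
    frattini P ≤ Subgroup.center P ∧ Cfsg.IsElementaryAbelian 2 (frattini P) := by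
  classical
  haveI : Fact (Nat.Prime 2) := ⟨Nat.prime_two⟩
  haveI := hP.isNilpotent
  have hc : ∀ x y : P, x * y * x⁻¹ * y⁻¹ ∈ Subgroup.center P := by
    intro x y
    have h2 := Subgroup.upperCentralSeries_eq_top_iff_nilpotencyClass_le.mpr hcl
    have h1 : x ∈ Subgroup.upperCentralSeries P 2 := h2 ▸ Subgroup.mem_top _
    have := Subgroup.mem_upperCentralSeries_succ_iff.mp h1 y
    rwa [Subgroup.upperCentralSeries_one] at this
  have h4 : ∀ x : P, x ^ 4 = 1 := fun x => Monoid.exponent_dvd_iff_forall_pow_eq_one.mp hexp x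
  -- commutators square to one
  have hsq : ∀ x y : P, (x * y * x⁻¹ * y⁻¹) ^ 2 = 1 := by
    intro x y
    obtain ⟨c, hcdef⟩ : ∃ c, c = x * y * x⁻¹ * y⁻¹ := ⟨_, rfl⟩
    rw [← hcdef]
    have hcc : ∀ z, Commute c z := fun z =>
      (Subgroup.mem_center_iff.mp (hcdef ▸ hc x y) z).symm
    have hxy : x * y = c * y * x := by rw [hcdef]; group
    have key : ∀ n : ℕ, ∃ e : ℕ, 2 * e + n = n * n ∧ (y * x) ^ n = c ^ e * y ^ n * x ^ n := by
      intro n
      induction n with
      | zero => exact ⟨0, by simp, by simp⟩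
      | succ k ih =>
        obtain ⟨e, he, hk⟩ := ih
        have hcol : ∀ j : ℕ, x ^ j * y = c ^ j * y * x ^ j := by
          intro j
          induction j with
          | zero => simp
          | succ i hi =>
            calc x ^ (i + 1) * y = x ^ i * (x * y) := by rw [pow_succ, mul_assoc]
              _ = c * (x ^ i * y) * x := by
                rw [hxy, mul_assoc c y x, ← mul_assoc, (hcc (x ^ i)).symm.eq]
                simp only [mul_assoc]
              _ = c ^ (i + 1) * y * x ^ (i + 1) := by
                rw [hi, pow_succ' c, pow_succ x]; simp only [mul_assoc]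
        refine ⟨e + k, by nlinarith, ?_⟩
        calc (y * x) ^ (k + 1) = c ^ e * y ^ k * (x ^ k * y) * x := by
              rw [pow_succ, hk]; simp only [mul_assoc]
          _ = c ^ e * (y ^ k * c ^ k) * y * x ^ k * x := by rw [hcol k]; simp only [mul_assoc]
          _ = _ := by
            rw [← ((hcc (y ^ k)).pow_left k).eq, pow_add, pow_succ y, pow_succ x]
            simp only [mul_assoc]
    obtain ⟨e, he, h⟩ := key 4
    have he' : e = 6 := by omega
    rw [h4, h4, h4, mul_one, mul_one, he'] at h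
    have h42 : c ^ 6 = c ^ 4 * c ^ 2 := by rw [← pow_add]
    rw [h42, h4, one_mul] at h
    exact h.symm
  have hpowc : ∀ x : P, x ^ 2 ∈ Subgroup.center P := by
    intro x
    rw [Subgroup.mem_center_iff]
    intro y
    obtain ⟨c, hcdef⟩ : ∃ c, c = x * y * x⁻¹ * y⁻¹ := ⟨_, rfl⟩
    have hcc : ∀ z, Commute c z := fun z =>
      (Subgroup.mem_center_iff.mp (hcdef ▸ hc x y) z).symm
    have hxy : x * y = c * y * x := by rw [hcdef]; group
    have : x ^ 2 * y = y * x ^ 2 := by
      have e1 : x ^ 2 * y = x * (c * y * x) := by rw [sq, mul_assoc, hxy]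
      have e2 : x * (c * y * x) = c * (x * y) * x := by
        simp only [← mul_assoc, (hcc x).symm.eq]
      rw [e1, e2, hxy]
      have e3 : c * (c * y * x) * x = c ^ 2 * y * x ^ 2 := by simp only [sq, mul_assoc]
      rw [e3, hcdef, hsq, one_mul]
    exact this.symm
  let K : Subgroup P :=
    { carrier := {z | z ∈ Subgroup.center P ∧ z ^ 2 = 1}
      one_mem' := ⟨one_mem _, one_pow 2⟩
      mul_mem' := fun {a b} ha hb => ⟨mul_mem ha.1 hb.1, by
        rw [Commute.mul_pow (show Commute a b from Subgroup.mem_center_iff.mp hb.1 a), ha.2, hb.2, one_mul]⟩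
      inv_mem' := fun {a} ha => ⟨inv_mem ha.1, by rw [inv_pow, ha.2, inv_one]⟩ }
  have hK : frattini P ≤ K := by
    refine (LocalEvenA.frattini_le_commutator_sup_pow (p := 2)).trans (sup_le ?_ ?_)
    · rw [commutator_def, Subgroup.commutator_le]
      exact fun x _ y _ => ⟨hc x y, hsq x y⟩
    · rw [Subgroup.closure_le]
      rintro _ ⟨x, rfl⟩
      exact ⟨hpowc x, by rw [← pow_mul]; exact h4 x⟩
  exact ⟨fun x hx => (hK hx).1, ⟨⟨fun a b => Subtype.ext (Subgroup.mem_center_iff.mp (hK b.2).1 a)⟩⟩,
    fun a ha => (hK ha).2⟩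

end Cfsg.Agent.S4056
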