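import Cfsg.Statements.S4057
import Cfsg.Agent.Lib.FGB.RankBound
import Cfsg.Agent.S0130
-- import your own Cfsg.Agent.* helpers here

set_option autoImplicit false
open Cfsg

namespace Cfsg.Agent.S4057

/-- Let p be an odd prime and P a finite p-group in which every normal abelian subgroup can be generated by k elements. Then every subgroup of P can be generated by at most ⌊k(k+4)/4⌋ elements. -/
theorem result {P : Type*} [Group P] [Finite P] {p : ℕ} [Fact p.Prime]
    (hp : p ≠ 2) (hP : IsPGroup p P) (k : ℕ)
    (hab : ∀ A : Subgroup P, A.Normal → IsMulCommutative A → ∃ S : Finset P, S.card ≤ k ∧ Subgroup.closure (S : Set P) = A) :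
    ∀ H : Subgroup P, ∃ S : Finset P, S.card ≤ k * (k + 4) / 4 ∧ Subgroup.closure (S : Set P) = H := by
  exact fun H => FGB.RankBound.exists_generators hp hP k hab
    (fun A hAn hA hAe hmax x hx hxn =>
      S0130.result hP 1 (by rw [pow_one]; exact hp) A hA hAe hmax x hx hxn) H

end Cfsg.Agent.S4057
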