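import Cfsg.Statements.S4058
import Cfsg.Agent.Lib.FGB.InvolutionCount
import Cfsg.Agent.Lib.FGB.PGroupBasic
import Cfsg.Agent.Lib.CT.Integral

set_option autoImplicit false
universe u
open Cfsg

namespace Cfsg.Agent.S4058

open Cfsg.Agent.FGB Cfsg.Agent.CT
open scoped ComplexConjugate

theorem card_sign_hom {G : Type u} [Group G] [Finite G] (hG : IsPGroup 2 G) :
    Nat.card (G ⧸ frattini G) ≤ Nat.card {l : G →* ℂˣ // ∀ g, l (g * g) = 1} := by
  let Q := G ⧸ frattini G
  let cg : CommGroup Q := { (inferInstance : Group Q) with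
    mul_comm := by
      intro a b
      induction a using QuotientGroup.induction_on with | _ x => ?_
      induction b using QuotientGroup.induction_on with | _ y => ?_
      have h := commutatorElement_mem_frattini hG x y
      rw [← QuotientGroup.eq_one_iff] at h
      simp only [QuotientGroup.mk_mul, QuotientGroup.mk_inv] at h
      calc (x : Q) * y = ((x : Q) * y * (x : Q)⁻¹ * (y : Q)⁻¹) * ((y : Q) * x) := by group
        _ = (y : Q) * x := by rw [h, one_mul] }
  have hc : Nat.card (Q →* ℂˣ) = Nat.card Q :=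
    letI := cg; CommGroup.card_monoidHom_of_hasEnoughRootsOfUnity Q ℂ
  rw [← hc]
  haveI : Finite {l : G →* ℂˣ // ∀ g, l (g * g) = 1} := by
    refine Finite.of_injective (fun l => (linIrr l.1 : IrrCharacter G)) ?_ |> fun h => h
    intro a b hab
    apply Subtype.ext
    ext g
    exact congrFun (congrArg Subtype.val hab) g
  refine Nat.card_le_card_of_injective (fun f => ⟨f.comp (QuotientGroup.mk' _), fun g => ?_⟩) ?_
  · have : ((g * g : G) : Q) = 1 := (QuotientGroup.eq_one_iff _).mpr (pow_two g ▸ pow_mem_frattini hG g)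
    simp only [MonoidHom.comp_apply, QuotientGroup.mk'_apply]
    exact (congrArg f this).trans (map_one f)
  · intro a b hab
    exact MonoidHom.ext fun q => by
      induction q using QuotientGroup.induction_on with
      | _ x => exact DFunLike.congr_fun (congrArg Subtype.val hab) x

theorem orbit_sum_dvd {E : Type*} [Group E] {X : Type*} [Fintype X] [MulAction E X] (F : X → ℤ)
    (hF : ∀ (e : E) (x : X), F (e • x) = F x) (d : ℤ)
    (h : ∀ x, d ∣ (Nat.card (MulAction.orbit E x) : ℤ) * F x) : d ∣ ∑ x, F x := by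
  classical
  rw [← Finset.sum_fiberwise Finset.univ (fun x => (Quotient.mk (MulAction.orbitRel E X) x)) F]
  refine Finset.dvd_sum fun o _ => ?_
  induction o using Quotient.inductionOn with
  | h x =>
    have hmem : ∀ y, Quotient.mk (MulAction.orbitRel E X) y = Quotient.mk (MulAction.orbitRel E X) x ↔
        y ∈ MulAction.orbit E x := fun y => by rw [Quotient.eq]; exact MulAction.orbitRel_apply
    rw [Finset.sum_congr rfl (g := fun _ => F x) (fun y hy => by
      obtain ⟨e, rfl⟩ := (hmem y).mp (Finset.mem_filter.mp hy).2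
      exact hF e x), Finset.sum_const, nsmul_eq_mul]
    have hcard : (Finset.univ.filter fun y => Quotient.mk (MulAction.orbitRel E X) y = Quotient.mk (MulAction.orbitRel E X) x).card = Nat.card (MulAction.orbit E x) := by
      rw [Nat.card_eq_fintype_card, ← Set.toFinset_card]
      congr 1
      ext y
      simp [hmem]
    rw [hcard]
    exact h x

theorem main {G : Type u} [Group G] [Finite G] (hG : IsPGroup 2 G) (k : ℕ)
    (hgen : 2 ^ (2 * k + 1) ≤ Nat.card (G ⧸ frattini G)) :
    2 ^ (k + 1) ∣ Nat.card {x : G // x ^ 2 = 1} := by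
  classical
  haveI := Fintype.ofFinite G
  let E : Subgroup (G →* ℂˣ) :=
    { carrier := {l | ∀ g, l (g * g) = 1}
      one_mem' := fun g => rfl
      mul_mem' := fun ha hb g => by rw [MonoidHom.mul_apply, ha, hb, one_mul]
      inv_mem' := fun ha g => by rw [MonoidHom.inv_apply, ha, inv_one] }
  have hE : 2 ^ (2 * k + 1) ≤ Nat.card E := hgen.trans (card_sign_hom hG)
  haveI : Finite E := Nat.finite_of_card_ne_zero (by
    have := Nat.one_le_two_pow (n := 2 * k + 1)
    omega)
  have hEp : IsPGroup 2 E := fun l => ⟨1, by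
    ext g
    have := l.2 g
    rw [map_mul] at this
    simp only [pow_one, pow_two, Subgroup.coe_mul, MonoidHom.mul_apply, Subgroup.coe_one, MonoidHom.one_apply]
    rw [this]⟩
  have hsq : ∀ (l : E) (g : G), ((l : G →* ℂˣ) g : ℂ) * ((l : G →* ℂˣ) g : ℂ) = 1 := fun l g => by
    rw [← Units.val_mul, ← map_mul, l.2 g, Units.val_one]
  have hconj : ∀ (l : E) (g : G), conj ((l : G →* ℂˣ) g : ℂ) = ((l : G →* ℂˣ) g : ℂ) := fun l g => by
    rcases mul_self_eq_one_iff.mp (hsq l g) with h | h <;> simp [h]
  have hmul : ∀ (l : E) (χ : IrrCharacter G),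
      IsIrrCharacter G ((fun g => ((l : G →* ℂˣ) g : ℂ)) * (χ : G → ℂ)) := by
    intro l χ
    refine isIrr_of_inner_self (isCharacter_mul (isCharacter_lin _) (isCharacter_of_isIrr χ.2)) ?_
    rw [← irr_inner_self χ.2]
    simp only [classInner, Pi.mul_apply, map_mul, hconj]
    congr 1
    refine Finset.sum_congr rfl fun g _ => ?_
    rw [mul_mul_mul_comm, hsq, one_mul]
  letI : MulAction E (IrrCharacter G) :=
    { smul := fun l χ => ⟨_, hmul l χ⟩
      one_smul := fun χ => Subtype.ext (funext fun g => show ((1 : ℂˣ) : ℂ) * (χ : G → ℂ) g = _ by simp)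
      mul_smul := fun a b χ => Subtype.ext (funext fun g =>
        show (((a : G →* ℂˣ) g * (b : G →* ℂˣ) g : ℂˣ) : ℂ) * (χ : G → ℂ) g =
          ((a : G →* ℂˣ) g : ℂ) * (((b : G →* ℂˣ) g : ℂ) * (χ : G → ℂ) g) by
            rw [Units.val_mul, mul_assoc]) }
  have hsmul : ∀ (l : E) (χ : IrrCharacter G) (g : G),
      ((l • χ : IrrCharacter G) : G → ℂ) g = ((l : G →* ℂˣ) g : ℂ) * (χ : G → ℂ) g := fun _ _ _ => rfl
  choose ν hν using fun χ : IrrCharacter G => exists_int_avg_square (isCharacter_of_isIrr χ.2)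
  let F : IrrCharacter G → ℤ := fun χ => ν χ * (deg (χ : G → ℂ) : ℤ)
  have hF : ∀ (l : E) (χ : IrrCharacter G), F (l • χ) = F χ := by
    intro l χ
    have h1 : ν (l • χ) = ν χ := by
      apply Int.cast_injective (α := ℂ)
      rw [← hν, ← hν]
      refine congrArg _ (Finset.sum_congr rfl fun g _ => ?_)
      rw [hsmul, show ((l : G →* ℂˣ) (g * g)) = 1 from l.2 g, Units.val_one, one_mul]
    have h2 : deg ((l • χ : IrrCharacter G) : G → ℂ) = deg (χ : G → ℂ) := by
      simp only [deg, hsmul, map_one, Units.val_one, one_mul]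
    simp only [F, h1, h2]
  have hcount : ((Nat.card {x : G // x ^ 2 = 1} : ℤ)) = ∑ χ, F χ := by
    apply Int.cast_injective (α := ℂ)
    rw [Nat.card_congr (Equiv.subtypeEquivRight (q := fun x : G => x * x = 1) fun x => by rw [pow_two])]
    push_cast
    rw [card_square_eq_one]
    refine Finset.sum_congr rfl fun χ _ => ?_
    rw [hν]
    simp only [F, Int.cast_mul, Int.cast_natCast]
    rw [← deg_eq (isCharacter_of_isIrr χ.2)]
  have hd : ((2 ^ (k + 1) : ℕ) : ℤ) ∣ ∑ χ, F χ := by
    refine orbit_sum_dvd F hF _ fun χ => ?_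
    have hdiv : 2 ^ (k + 1) ∣ Nat.card (MulAction.orbit E χ) * deg (χ : G → ℂ) := by
      obtain ⟨j, hj⟩ : ∃ j, deg (χ : G → ℂ) = 2 ^ j := by
        obtain ⟨m, hm⟩ := IsPGroup.iff_card.mp hG
        obtain ⟨n, ρ, hirr, hρ⟩ := χ.2
        have := finrank_dvd_card ρ
        rw [hm] at this
        obtain ⟨j, -, hj⟩ := (Nat.dvd_prime_pow Nat.prime_two).mp this
        exact ⟨j, by rw [← hρ, deg_eq_finrank, hj]⟩
      rcases Nat.lt_or_ge k j with hkj | hkj
      · rw [hj]; exact dvd_mul_of_dvd_right (pow_dvd_pow 2 hkj) _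
      obtain ⟨e, he⟩ := IsPGroup.iff_card.mp hEp
      have horb : Nat.card (MulAction.orbit E χ) * Nat.card (MulAction.stabilizer E χ) = 2 ^ e := by
        rw [← he, ← Nat.card_prod]
        exact Nat.card_congr (MulAction.orbitProdStabilizerEquivGroup E χ)
      obtain ⟨o, -, ho⟩ := (Nat.dvd_prime_pow Nat.prime_two).mp (Dvd.intro _ horb)
      obtain ⟨s, -, hs⟩ := (Nat.dvd_prime_pow Nat.prime_two).mp (Dvd.intro_left _ horb)
      have hoe : o + s = e := by
        rw [ho, hs, ← pow_add] at horb
        exact Nat.pow_right_injective le_rfl horb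
      have hs2 : Nat.card (MulAction.stabilizer E χ) ≤ deg (χ : G → ℂ) * deg (χ : G → ℂ) := by
        let θ : G → ℂ := (χ : G → ℂ) * fun g => conj ((χ : G → ℂ) g)
        have hθ : IsCharacter G θ :=
          isCharacter_mul (isCharacter_of_isIrr χ.2) (isCharacter_conj (isCharacter_of_isIrr χ.2))
        have hm1 : ∀ l : MulAction.stabilizer E χ, mult θ (linIrr ((l : E) : G →* ℂˣ) : G → ℂ) = 1 := by
          intro l
          have : classInner θ (linIrr ((l : E) : G →* ℂˣ) : G → ℂ) = 1 := by
            rw [← irr_inner_self χ.2]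
            simp only [classInner, θ, Pi.mul_apply]
            congr 1
            refine Finset.sum_congr rfl fun g _ => ?_
            conv_rhs => rw [← l.2]
            conv_rhs => rw [hsmul, map_mul, hconj]
            show (χ : G → ℂ) g * conj ((χ : G → ℂ) g) * conj (((l : E) : G →* ℂˣ) g : ℂ) = _
            rw [hconj]
            have hl : (χ : G → ℂ) g = ((((l : E) • χ : IrrCharacter G)) : G → ℂ) g := by rw [l.2]
            rw [hsmul] at hl
            linear_combination (conj ((χ : G → ℂ) g) * (((l : E) : G →* ℂˣ) g : ℂ)) * hl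
          have h2 := mult_spec hθ (isCharacter_of_isIrr (linIrr ((l : E) : G →* ℂˣ)).2)
          rw [this] at h2
          exact_mod_cast h2.symm
        have hdeg : deg θ = deg (χ : G → ℂ) * deg (χ : G → ℂ) := by
          apply Nat.cast_injective (R := ℂ)
          rw [← deg_eq hθ, Nat.cast_mul]
          simp only [θ, Pi.mul_apply, deg_eq (isCharacter_of_isIrr χ.2), map_natCast]
        rw [← hdeg]
        have hsum : deg θ = ∑ c : IrrCharacter G, mult θ c * deg (c : G → ℂ) := by
          have h := congrFun (character_eq_sum hθ) 1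
          rw [deg_eq hθ, Finset.sum_apply] at h
          simp only [Pi.smul_apply, smul_eq_mul] at h
          rw [Finset.sum_congr rfl fun c _ => by rw [deg_eq (isCharacter_of_isIrr c.2)]] at h
          exact_mod_cast h
        rw [hsum]
        let φ : MulAction.stabilizer E χ ↪ IrrCharacter G := ⟨fun l => linIrr ((l : E) : G →* ℂˣ),
          fun a b hab => Subtype.ext (Subtype.ext (MonoidHom.ext fun g => Units.ext
            (congrFun (congrArg Subtype.val hab) g)))⟩
        haveI := Fintype.ofFinite (MulAction.stabilizer E χ)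
        refine le_trans ?_ (Finset.sum_le_sum_of_subset (Finset.subset_univ (Finset.univ.map φ)))
        rw [Finset.sum_map, Nat.card_eq_fintype_card, ← Finset.card_univ, Finset.card_eq_sum_ones]
        refine Finset.sum_le_sum fun l _ => ?_
        show 1 ≤ mult θ (linIrr ((l : E) : G →* ℂˣ) : G → ℂ) * deg (linIrr ((l : E) : G →* ℂˣ) : G → ℂ)
        rw [hm1 l, one_mul]
        exact deg_pos (linIrr ((l : E) : G →* ℂˣ)).2
      rw [hs, hj, ← pow_add] at hs2
      have hsj := (Nat.pow_le_pow_iff_right (le_refl 2)).mp hs2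
      rw [he] at hE
      have hek := (Nat.pow_le_pow_iff_right (le_refl 2)).mp hE
      rw [ho, hj, ← pow_add]
      exact pow_dvd_pow 2 (by omega)
    have h2 : ((2 ^ (k + 1) : ℕ) : ℤ) ∣ ((Nat.card (MulAction.orbit E χ) * deg (χ : G → ℂ) : ℕ) : ℤ) :=
      Int.natCast_dvd_natCast.mpr hdiv
    push_cast at h2 ⊢
    simp only [F]
    rw [mul_left_comm]
    exact dvd_mul_of_dvd_right h2 _
  rw [← hcount] at hd
  exact Int.natCast_dvd_natCast.mp hd


/-- Let G be a finite 2-group with #(G/Φ(G)) ≥ 2^(2k+1). Then the number of elements x of G with x² = 1 is divisible by 2^(k+1). -/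
theorem result {G : Type*} [Group G] [Finite G] (hG : IsPGroup 2 G) (k : ℕ)
    (hgen : 2 ^ (2 * k + 1) ≤ Nat.card (G ⧸ frattini G)) :
    2 ^ (k + 1) ∣ Nat.card {x : G // x ^ 2 = 1} := main hG k hgen

end Cfsg.Agent.S4058
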