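import Cfsg.Statements.S4059
import Cfsg.Agent.Lib.Transfer.Fusion
-- import your own Cfsg.Agent.* helpers here

set_option autoImplicit false
open Cfsg

namespace Cfsg.Agent.S4059

/-- Let G be a finite group in which every element is conjugate to its inverse. Then: every non-identity element commuting with all elements of some Sylow 2-subgroup is an involution; the centre of G is an elementary abelian 2-group; the commutator quotient G/G' is an elementary abelian 2-group; and G is generated by its 2-elements. -/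
theorem result {G : Type*} [Group G] [Finite G] (hamb : ∀ x : G, IsConj x x⁻¹) :
    (∀ (S : Sylow 2 G) (x : G), x ∈ Subgroup.centralizer ((S : Subgroup G) : Set G) → x ≠ 1 → orderOf x = 2) ∧
    (∀ z : G, z ∈ Subgroup.center G → z ^ 2 = 1) ∧
    (∀ x : G, x ^ 2 ∈ commutator G) ∧
    Subgroup.closure {x : G | ∃ k : ℕ, orderOf x = 2 ^ k} = ⊤ := by
  classical
  haveI : Fact (Nat.Prime 2) := ⟨Nat.prime_two⟩
  have hconj : ∀ x : G, ∃ g : G, g * x * g⁻¹ = x⁻¹ := fun x => isConj_iff.mp (hamb x)
  have hz : ∀ z : G, z ∈ Subgroup.center G → z ^ 2 = 1 := by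
    intro z hz
    obtain ⟨g, hg⟩ := hconj z
    rw [Subgroup.mem_center_iff.mp hz g, mul_inv_cancel_right] at hg
    rw [sq]
    calc z * z = z * z⁻¹ := by rw [← hg]
      _ = 1 := mul_inv_cancel z
  refine ⟨fun S x hx hx1 => ?_, hz, fun x => ?_, ?_⟩
  · obtain ⟨g, hg⟩ := hconj x
    obtain ⟨a, b, ha, hb, hab, hak, hbc⟩ := Cfsg.Agent.Transfer.exists_pPart_mul (p := 2) g
    set C := Subgroup.centralizer ({x} : Set G) with hC
    set N := Subgroup.normalizer (C : Set G) with hN
    have hgN : g ∈ N := by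
      have hfix : ∀ d, d ∈ C → g * d * g⁻¹ ∈ C := by
        intro d hd
        rw [hC, Subgroup.mem_centralizer_singleton_iff] at hd ⊢
        have h2 : g * d * g⁻¹ * (g * x * g⁻¹) = g * x * g⁻¹ * (g * d * g⁻¹) := by
          calc g * d * g⁻¹ * (g * x * g⁻¹) = g * (d * x) * g⁻¹ := by group
            _ = _ := by rw [hd]; group
        rw [hg] at h2
        exact (show Commute (g * d * g⁻¹) x from
          by simpa using (show Commute (g * d * g⁻¹) x⁻¹ from h2).inv_right).eq
      have hmap : C.map (MulAut.conj g).toMonoidHom = C := Subgroup.eq_of_le_of_card_ge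
        (by rintro _ ⟨d, hd, rfl⟩; exact hfix d hd) (Subgroup.card_map_of_injective (MulAut.conj g).injective).ge
      rw [hN, Subgroup.mem_normalizer_iff]
      intro d
      refine ⟨hfix d, fun hd => ?_⟩
      obtain ⟨w, hw, hwd⟩ := hmap.ge hd
      have : w = d := (MulAut.conj g).injective hwd
      exact this ▸ hw
    -- `C` has odd index in its normalizer, and `g ^ 2` lies in it
    haveI : (C.subgroupOf N).Normal := Subgroup.normal_in_normalizer
    have hg2 : g ^ 2 ∈ C := by
      rw [hC, Subgroup.mem_centralizer_singleton_iff]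
      have hgg : g * x⁻¹ * g⁻¹ = x := by
        have := congrArg Inv.inv hg
        rwa [mul_inv_rev, mul_inv_rev, inv_inv, inv_inv, ← mul_assoc] at this
      refine mul_inv_eq_iff_eq_mul.mp ?_
      calc g ^ 2 * x * (g ^ 2)⁻¹ = g * (g * x * g⁻¹) * g⁻¹ := by rw [sq, mul_inv_rev]; simp only [mul_assoc]
        _ = x := by rw [hg, hgg]
    have hSC : (S : Subgroup G) ≤ C := fun s hs => Subgroup.mem_centralizer_singleton_iff.mpr
      (Subgroup.mem_centralizer_iff.mp hx s hs)
    have hq : ((⟨g, hgN⟩ : N) : N ⧸ C.subgroupOf N) = 1 := by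
      refine orderOf_eq_one_iff.mp (Nat.eq_one_of_dvd_coprimes (k := orderOf ((⟨g, hgN⟩ : N) : N ⧸ C.subgroupOf N)) ?_
        (orderOf_dvd_of_pow_eq_one (x := ((⟨g, hgN⟩ : N) : N ⧸ C.subgroupOf N)) (n := 2) ?_)
        ((orderOf_dvd_natCard _).trans ((dvd_of_eq (Subgroup.index_eq_card _).symm).trans
          ((Subgroup.relIndex_dvd_index_of_le Subgroup.le_normalizer).trans (Subgroup.index_dvd_of_le hSC)))))
      · exact Nat.prime_two.coprime_iff_not_dvd.mpr S.not_dvd_index
      · rw [← QuotientGroup.mk_pow, QuotientGroup.eq_one_iff]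
        exact hg2
    have hgC : g ∈ C := Subgroup.mem_subgroupOf.mp ((QuotientGroup.eq_one_iff _).mp hq)
    rw [hC, Subgroup.mem_centralizer_singleton_iff] at hgC
    rw [hgC, mul_inv_cancel_right] at hg
    refine orderOf_eq_prime ?_ hx1
    rw [sq]
    calc x * x = x * x⁻¹ := by rw [← hg]
      _ = 1 := mul_inv_cancel x
  · obtain ⟨g, hg⟩ := hconj x
    have h := Subgroup.commutator_mem_commutator (Subgroup.mem_top g) (Subgroup.mem_top x)
    rw [commutatorElement_def, hg] at h
    rw [commutator_def]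
    have h2 := Subgroup.inv_mem _ h
    rwa [mul_inv_rev, inv_inv, ← sq] at h2
  · set K := Subgroup.closure {x : G | ∃ k : ℕ, orderOf x = 2 ^ k} with hK
    haveI hKn : K.Normal := by
      refine ⟨fun n hn g => ?_⟩
      have hle : K ≤ K.comap (MulAut.conj g).toMonoidHom := by
        rw [hK, Subgroup.closure_le]
        rintro y ⟨k, hk⟩
        exact Subgroup.subset_closure ⟨k, (orderOf_injective (MulAut.conj g).toMonoidHom (MulAut.conj g).injective y).trans hk⟩
      exact hle hn
    have hodd : ∀ g : G, (orderOf (g : G ⧸ K)).Coprime 2 := by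
      intro g
      obtain ⟨a, b, ha, hb, hab, hak, hbc⟩ := Cfsg.Agent.Transfer.exists_pPart_mul (p := 2) g
      have haK : a ∈ K := by
        obtain ⟨j, hj⟩ := hak
        obtain ⟨i, -, hi⟩ := (Nat.dvd_prime_pow Nat.prime_two).mp hj
        exact Subgroup.subset_closure ⟨i, hi⟩
      rw [← hab, QuotientGroup.mk_mul, (QuotientGroup.eq_one_iff a).mpr haK, one_mul]
      exact hbc.coprime_dvd_left (orderOf_map_dvd (QuotientGroup.mk' K) b)
    rw [eq_top_iff]
    intro x _
    rw [← QuotientGroup.eq_one_iff]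
    obtain ⟨g, hg⟩ := hconj x
    obtain ⟨u, hu⟩ : ∃ u : G ⧸ K, u = (g : G ⧸ K) := ⟨_, rfl⟩
    obtain ⟨y, hy⟩ : ∃ y : G ⧸ K, y = (x : G ⧸ K) := ⟨_, rfl⟩
    have h1 : u * y * u⁻¹ = y⁻¹ := by
      rw [hu, hy, ← QuotientGroup.mk_inv, ← QuotientGroup.mk_inv, ← QuotientGroup.mk_mul, ← QuotientGroup.mk_mul, hg]
    have h1' : u * y⁻¹ * u⁻¹ = y := by
      have := congrArg Inv.inv h1
      rwa [mul_inv_rev, mul_inv_rev, inv_inv, inv_inv, ← mul_assoc] at this
    have h2 : Commute (u ^ 2) y := by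
      refine mul_inv_eq_iff_eq_mul.mp ?_
      calc u ^ 2 * y * (u ^ 2)⁻¹ = u * (u * y * u⁻¹) * u⁻¹ := by rw [sq, mul_inv_rev]; simp only [mul_assoc]
        _ = y := by rw [h1, h1']
    have hmem : u ∈ Subgroup.zpowers (u ^ 2) := by
      rw [mem_zpowers_pow_iff]
      exact Nat.Coprime.symm (hu ▸ hodd g)
    obtain ⟨j, hj⟩ := Subgroup.mem_zpowers_iff.mp hmem
    have h3 := (h2.zpow_left j).eq
    rw [hj] at h3
    rw [h3, mul_inv_cancel_right] at h1
    have h4 : y ^ 2 = 1 := by
      rw [sq]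
      calc y * y = y * y⁻¹ := by rw [← h1]
        _ = 1 := mul_inv_cancel y
    rw [← hy]
    exact orderOf_eq_one_iff.mp (Nat.eq_one_of_dvd_coprimes (hy ▸ hodd x) dvd_rfl (orderOf_dvd_of_pow_eq_one h4))

end Cfsg.Agent.S4059
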