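import Cfsg.Statements.S4060
import Cfsg.Agent.Lib.Basics.Tools
-- import your own Cfsg.Agent.* helpers here

set_option autoImplicit false
open Cfsg

namespace Cfsg.Agent.S4060

/-- Let G be a finite solvable group with Sylow 2-subgroup S, and let x ≠ 1 be an element of odd order normalizing S. Then x is not conjugate to its inverse in G. -/
theorem result {G : Type*} [Group G] [Finite G] [Group.IsSolvable G]
    (S : Sylow 2 G) (x : G) (hx : x ≠ 1) (hodd : Odd (orderOf x))
    (hnorm : x ∈ Subgroup.normalizer ((S : Subgroup G) : Set G)) : ¬ IsConj x x⁻¹ := by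
  suffices H : ∀ (n : ℕ) (G : Type _) [Group G] [Finite G] [Group.IsSolvable G], Nat.card G = n →
      ∀ (S : Sylow 2 G) (x : G), x ≠ 1 → Odd (orderOf x) →
        x ∈ Subgroup.normalizer ((S : Subgroup G) : Set G) → ¬ IsConj x x⁻¹ from
    H _ G rfl S x hx hodd hnorm
  clear! G
  intro n
  induction n using Nat.strong_induction_on with
  | _ n ih =>
  intro G _ _ _ hn S x hx hodd hnorm hconj
  classical
  haveI : Nontrivial G := ⟨⟨x, 1, hx⟩⟩
  obtain ⟨p, N, hp, hNn, hN1, hNp⟩ := Basics.exists_normal_pGroup (G := G)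
  haveI := hNn
  haveI := Fact.mk hp
  by_cases hxN : x ∈ N
  · have hp2 : p ≠ 2 := by
      rintro rfl
      obtain ⟨k, hk⟩ := IsPGroup.iff_orderOf.mp hNp ⟨x, hxN⟩
      rw [Subgroup.orderOf_mk] at hk
      rcases k with _ | k
      · exact hx (orderOf_eq_one_iff.mp (by rw [hk, pow_zero]))
      · rw [hk, pow_succ, Nat.odd_mul] at hodd
        exact absurd hodd.2 (by decide)
    have hdisj : ∀ a, a ∈ N → a ∈ (S : Subgroup G) → a = 1 := fun a ha ha' => by
      have := (IsPGroup.disjoint_of_ne _ _ hp2 _ _ hNp S.2).le_bot (show a ∈ N ⊓ (S : Subgroup G) from ⟨ha, ha'⟩)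
      exact Subgroup.mem_bot.mp this
    set C := Subgroup.centralizer ({x} : Set G) with hC
    have hSC : (S : Subgroup G) ≤ C := by
      intro s hs
      rw [hC, Subgroup.mem_centralizer_singleton_iff]
      have h1 : x * s * x⁻¹ * s⁻¹ ∈ (S : Subgroup G) :=
        mul_mem ((Subgroup.mem_normalizer_iff.mp hnorm s).mp hs) (inv_mem hs)
      have h2 : x * s * x⁻¹ * s⁻¹ ∈ N := by
        rw [mul_assoc, mul_assoc]
        exact mul_mem hxN (by simpa [mul_assoc] using hNn.conj_mem _ (inv_mem hxN) s)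
      have h3 := hdisj _ h2 h1
      calc s * x = (x * s * x⁻¹ * s⁻¹) * (s * x) := by rw [h3, one_mul]
        _ = x * s := by group
    obtain ⟨g, hg⟩ := isConj_iff.mp hconj
    have hgC : g ∈ Subgroup.normalizer (C : Set G) := by
      rw [Subgroup.mem_normalizer_iff]
      intro z
      have h1 : ∀ z, z ∈ C ↔ z * x * z⁻¹ = x := fun z => by
        rw [hC, Subgroup.mem_centralizer_singleton_iff, mul_inv_eq_iff_eq_mul]
      have hgi : g⁻¹ * x * g = x⁻¹ := by
        have h2 := congrArg (fun a => g⁻¹ * a⁻¹ * g) hg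
        simp only [inv_inv, mul_inv_rev] at h2
        rw [← h2]; group
      have h2 : g * z * g⁻¹ * x * (g * z * g⁻¹)⁻¹ = g * (z * x⁻¹ * z⁻¹) * g⁻¹ := by
        rw [← hgi]; group
      rw [h1, h1, h2]
      constructor
      · intro hz
        rw [show z * x⁻¹ * z⁻¹ = (z * x * z⁻¹)⁻¹ by group, hz, ← conj_inv, hg, inv_inv]
      · intro hz
        have h3 : z * x⁻¹ * z⁻¹ = g⁻¹ * x * g := by
          conv_rhs => rw [← hz]
          group
        rw [hgi] at h3
        calc z * x * z⁻¹ = (z * x⁻¹ * z⁻¹)⁻¹ := by group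
          _ = x := by rw [h3, inv_inv]
    set T := Subgroup.normalizer (C : Set G)
    haveI : (C.subgroupOf T).Normal := Subgroup.normal_in_normalizer
    set q : T ⧸ C.subgroupOf T := ((⟨g, hgC⟩ : T) : T ⧸ C.subgroupOf T) with hq
    have hidx : ¬ 2 ∣ C.relIndex T := fun hd => S.not_dvd_index
      (hd.trans (((Subgroup.relIndex_mul_index (Subgroup.le_normalizer (H := C))) ▸ dvd_mul_right _ _ :
        C.relIndex T ∣ C.index).trans (Subgroup.index_dvd_of_le hSC)))
    have hodd' : Odd (orderOf q) := by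
      rw [← Nat.not_even_iff_odd, even_iff_two_dvd]
      exact fun hd => hidx (hd.trans (by
        rw [Subgroup.relIndex, Subgroup.index_eq_card]; exact _root_.orderOf_dvd_natCard q))
    have hgk : g ^ orderOf q ∈ C := by
      have := pow_orderOf_eq_one q
      rw [hq, ← QuotientGroup.mk_pow, QuotientGroup.eq_one_iff, Subgroup.mem_subgroupOf] at this
      exact this
    have hinv : ∀ k : ℕ, g ^ k * x * (g ^ k)⁻¹ = if Even k then x else x⁻¹ := by
      intro k
      induction k with
      | zero => simp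
      | succ k ihk =>
        rw [pow_succ', show g * g ^ k * x * (g * g ^ k)⁻¹ = g * (g ^ k * x * (g ^ k)⁻¹) * g⁻¹ by group, ihk]
        by_cases hk : Even k
        · simp [hk, Nat.even_add_one, hg]
        · simp [hk, Nat.even_add_one, ← conj_inv, hg]
    have h1 := hinv (orderOf q)
    rw [if_neg (Nat.not_even_iff_odd.mpr hodd')] at h1
    replace hgk := Subgroup.mem_centralizer_singleton_iff.mp hgk
    rw [hgk, mul_inv_cancel_right] at h1
    refine hx (orderOf_eq_one_iff.mp ?_)
    have h2 : orderOf x ∣ 2 := orderOf_dvd_of_pow_eq_one (by rw [pow_two]; nth_rewrite 2 [h1]; rw [mul_inv_cancel])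
    rcases (Nat.dvd_prime Nat.prime_two).mp h2 with h | h
    · exact h
    · rw [h] at hodd; exact absurd hodd (by decide)
  · set φ := QuotientGroup.mk' N
    refine ih (Nat.card (G ⧸ N)) ?_ (G ⧸ N) rfl (S.mapSurjective (QuotientGroup.mk'_surjective N)) (φ x) ?_ ?_ ?_ ?_
    · rw [← hn, Subgroup.card_eq_card_quotient_mul_card_subgroup N]
      exact lt_mul_of_one_lt_right Nat.card_pos ((Subgroup.one_lt_card_iff_ne_bot _).mpr hN1)
    · exact fun h => hxN ((QuotientGroup.eq_one_iff x).mp h)
    · exact hodd.of_dvd_nat (orderOf_map_dvd φ x)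
    · rw [Sylow.coe_mapSurjective]
      exact Subgroup.le_normalizer_map φ ⟨x, hnorm, rfl⟩
    · have := φ.map_isConj hconj
      rwa [map_inv] at this
end Cfsg.Agent.S4060
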