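import Cfsg.Statements.S4061
import Cfsg.Agent.Lib.InvChar.OneSubgroup
import Cfsg.Agent.Lib.Basics.Cores
import Cfsg.Agent.Lib.Basics.Tools
-- import your own Cfsg.Agent.* helpers here

set_option autoImplicit false
open Cfsg

namespace Cfsg.Agent.S4061

open Subgroup

theorem eq_one_of_real {H : Type*} [Group H] [Finite H] (hodd : Odd (Nat.card H)) {g x : H}
    (h : g * x * g⁻¹ = x⁻¹) : x = 1 := by
  have hx : g ^ 2 * x * (g ^ 2)⁻¹ = x := by
    rw [sq, show g * g * x * (g * g)⁻¹ = g * (g * x * g⁻¹) * g⁻¹ by group, h,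
      show g * x⁻¹ * g⁻¹ = (g * x * g⁻¹)⁻¹ by group, h, inv_inv]
  have hc : Commute (g ^ 2) x := mul_inv_eq_iff_eq_mul.1 hx
  obtain ⟨j, hj⟩ := exists_pow_eq_self_of_coprime (x := g) (n := 2)
    (Nat.Coprime.coprime_dvd_right (orderOf_dvd_natCard g) hodd.coprime_two_left)
  have hgx : Commute g x := hj ▸ hc.pow_left j
  rw [hgx.eq, mul_inv_cancel_right] at h
  refine orderOf_eq_one_iff.1 (Nat.eq_one_of_dvd_coprimes hodd.coprime_two_left
    (orderOf_dvd_of_pow_eq_one ?_) (orderOf_dvd_natCard x))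
  rw [sq]; nth_rw 2 [h]; exact mul_inv_cancel x

theorem two_dvd_of_real {H : Type*} [Group H] [Finite H] [Nontrivial H]
    (hamb : ∀ x : H, IsConj x x⁻¹) : 2 ∣ Nat.card H := by
  by_contra h
  obtain ⟨x, hx⟩ := exists_ne (1 : H)
  obtain ⟨g, hg⟩ := isConj_iff.1 (hamb x)
  exact hx (eq_one_of_real (Nat.odd_iff.2 (Nat.two_dvd_ne_zero.1 h)) hg)

theorem no_four {X : Type*} [Group X] [Finite X] [Group.IsSolvable X] (hO : Cfsg.oddCore X = ⊥)
    (hamb : ∀ x : X, IsConj x x⁻¹) (hone : ∀ s t : X, orderOf s = 2 → orderOf t = 2 → IsConj s t)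
    {s t : X} (hs : orderOf s = 2) (ht : orderOf t = 2) : s = t := by
  haveI := Fact.mk Nat.prime_two
  haveI : Nontrivial X := ⟨⟨s, 1, fun h => by rw [h, orderOf_one] at hs; omega⟩⟩
  obtain ⟨p, E, hp, hEn, -, hEne, hEab, hEexp⟩ :=
    Cfsg.Agent.Basics.exists_elementary_normal (N := (⊤ : Subgroup X)) top_ne_bot inferInstance
  haveI := hEn
  haveI := Fact.mk hp
  have hp2 : p = 2 := by
    by_contra h2
    refine hEne (le_bot_iff.1 (hO ▸ Cfsg.Agent.Basics.le_pPrimeCore ?_))
    obtain ⟨k, hk⟩ := IsPGroup.iff_card.1 (Cfsg.Agent.Basics.isPGroup_of_pow_eq_one hEexp : IsPGroup p E)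
    rw [hk]
    exact ((Nat.coprime_primes hp Nat.prime_two).2 h2).pow_left k
  subst hp2
  obtain ⟨e, he, he1⟩ : ∃ e ∈ E, e ≠ 1 := by
    by_contra h
    push Not at h
    exact hEne (eq_bot_iff.2 fun x hx => Subgroup.mem_bot.2 (h x hx))
  have hoe : orderOf e = 2 := orderOf_eq_prime (hEexp e he) he1
  have hall : ∀ u : X, orderOf u = 2 → u ∈ E := fun u hu => by
    obtain ⟨g, hg⟩ := isConj_iff.1 (hone e u hoe hu)
    exact hg ▸ hEn.conj_mem e he g
  by_contra hst
  set K := centralizer (E : Set X) with hK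
  haveI : K.Normal := inferInstance
  -- `E` acts with a single orbit, so a normal subgroup fixing one involution fixes all
  have horb : ∀ M : Subgroup X, M.Normal → ∀ v ∈ E, v ≠ 1 → (∀ m ∈ M, m * v = v * m) → M ≤ K := by
    intro M hM v hv hv1 hcom m hm
    refine mem_centralizer_iff.2 fun w hw => ?_
    by_cases hw1 : w = 1
    · rw [hw1, one_mul, mul_one]
    obtain ⟨g, hg⟩ := isConj_iff.1 (hone v w (orderOf_eq_prime (hEexp v hv) hv1)
      (orderOf_eq_prime (hEexp w hw) hw1))
    have h1 := hcom _ (hM.conj_mem m hm g⁻¹)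
    rw [inv_inv] at h1
    rw [← hg]
    calc g * v * g⁻¹ * m = g * (v * (g⁻¹ * m * g)) * g⁻¹ := by group
      _ = g * (g⁻¹ * m * g * v) * g⁻¹ := by rw [← h1]
      _ = m * (g * v * g⁻¹) := by group
  have hKtop : K ≠ ⊤ := by
    intro h
    refine hst ?_
    obtain ⟨g, hg⟩ := isConj_iff.1 (hone s t hs ht)
    have hgK : g ∈ K := h ▸ Subgroup.mem_top g
    rw [← hg, ← mem_centralizer_iff.1 hgK s (hall s hs), mul_inv_cancel_right]
  haveI : Nontrivial (X ⧸ K) := QuotientGroup.nontrivial_iff.2 hKtop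
  set π := QuotientGroup.mk' K with hπ
  have hπs := QuotientGroup.mk'_surjective K
  have hQ2 : 2 ∣ Nat.card (X ⧸ K) := two_dvd_of_real fun q => by
    obtain ⟨x, rfl⟩ := hπs q
    rw [← map_inv]
    exact π.map_isConj (hamb x)
  obtain ⟨q, Eq, hq, hEqn, hEqne, hEqp⟩ := Cfsg.Agent.Basics.exists_normal_pGroup (G := X ⧸ K)
  haveI := hEqn
  haveI := Fact.mk hq
  set M := Eq.comap π with hM
  haveI hMn : M.Normal := Subgroup.Normal.comap hEqn π
  have hKM : K ≤ M := fun k hk => by
    show π k ∈ Eq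
    rw [hπ, QuotientGroup.mk'_apply, (QuotientGroup.eq_one_iff k).2 hk]
    exact one_mem _
  have hMK : ¬ M ≤ K := by
    intro h
    refine hEqne (eq_bot_iff.2 fun x hx => ?_)
    obtain ⟨y, rfl⟩ := hπs x
    exact Subgroup.mem_bot.2 ((QuotientGroup.eq_one_iff y).2 (h hx))
  -- a Sylow subgroup of `M` covers `M / K`
  obtain ⟨P⟩ : Nonempty (Sylow q M) := inferInstance
  set P' := (P : Subgroup M).map M.subtype with hP'
  have hP'M : P' ≤ M := map_subtype_le _
  have hsupM : K ⊔ P' = M := by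
    have hidx : (K.subgroupOf M ⊔ P).index = 1 := by
      have h1 : (K.subgroupOf M ⊔ P).index ∣ Nat.card Eq := by
        refine (Subgroup.index_dvd_of_le le_sup_left).trans (dvd_of_eq ?_)
        show K.relIndex M = Nat.card Eq
        have e : K.relIndex M = π.ker.relIndex M := by rw [hπ, QuotientGroup.ker_mk']
        rw [e, Subgroup.relIndex_ker, hM, Subgroup.map_comap_eq_self_of_surjective hπs]
      have h2 : (K.subgroupOf M ⊔ P).index ∣ (P : Subgroup M).index := Subgroup.index_dvd_of_le le_sup_right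
      obtain ⟨k, hk⟩ := IsPGroup.iff_card.1 hEqp
      rw [hk] at h1
      refine Nat.eq_one_of_dvd_coprimes ?_ h1 h2
      exact ((Fact.out : q.Prime).coprime_iff_not_dvd.2 P.not_dvd_index).pow_left k
    have := congrArg (Subgroup.map M.subtype) (Subgroup.index_eq_one.1 hidx)
    rwa [Subgroup.map_sup, map_subgroupOf_eq_of_le hKM, ← MonoidHom.range_eq_map, range_subtype] at this
  have hfix : ∀ v ∈ E, v ≠ 1 → ¬ (∀ x ∈ P', x * v = v * x) := by
    intro v hv hv1 hc
    refine hMK (horb M hMn v hv hv1 ?_)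
    have hle : K ⊔ P' ≤ centralizer {v} := sup_le
      (fun k hk => mem_centralizer_singleton_iff.2 (mem_centralizer_iff.1 hk v hv).symm)
      (fun x hx => mem_centralizer_singleton_iff.2 (hc x hx))
    rw [hsupM] at hle
    exact fun m hm => mem_centralizer_singleton_iff.1 (hle hm)
  have hP'p : IsPGroup q P' := P.isPGroup'.map _
  rcases eq_or_ne q 2 with rfl | hq2
  · obtain ⟨T, hT⟩ := hP'p.exists_le_sylow
    have hET : E ≤ (T : Subgroup X) := (Cfsg.Agent.Basics.le_pCore
      (Cfsg.Agent.Basics.isPGroup_of_pow_eq_one hEexp : IsPGroup 2 E)).trans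
      (Cfsg.Agent.Basics.pCore_le_sylow 2 T)
    have hne : E.subgroupOf (T : Subgroup X) ≠ ⊥ := fun h => he1 (by
      have : (⟨e, hET he⟩ : (T : Subgroup X)) ∈ E.subgroupOf (T : Subgroup X) := he
      rw [h, Subgroup.mem_bot] at this
      exact congrArg Subtype.val this)
    obtain ⟨z, hzE, hzc, hz1⟩ := Cfsg.Agent.InvChar.exists_mem_center_of_normal T.isPGroup' _ hne
    exact hfix (z : X) hzE (fun h => hz1 (Subtype.ext h))
      fun x hx => congrArg Subtype.val (Subgroup.mem_center_iff.1 hzc ⟨x, hT hx⟩)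
  · -- Frattini
    set N := normalizer (P' : Set X) with hN
    have hfr : N ⊔ M = ⊤ := Sylow.normalizer_sup_eq_top P
    have hNK : N ⊔ K = ⊤ := top_le_iff.1 (hfr.ge.trans (sup_le le_sup_left
      (hsupM.ge.trans (sup_le le_sup_right (Subgroup.le_normalizer.trans le_sup_left)))))
    have hmap : N.map π = ⊤ := by
      have := congrArg (Subgroup.map π) hNK
      rwa [Subgroup.map_sup, (Subgroup.map_eq_bot_iff K (f := π)).2 (by rw [hπ, QuotientGroup.ker_mk']),
        sup_bot_eq, Subgroup.map_top_of_surjective π hπs] at this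
    have hN2 : 2 ∣ Nat.card N := by
      refine dvd_trans ?_ (Subgroup.card_map_dvd (H := N) π)
      rwa [hmap, Subgroup.card_top]
    obtain ⟨u, hu⟩ := exists_prime_orderOf_dvd_card' 2 hN2
    have hu' : orderOf (u : X) = 2 := by rw [Subgroup.orderOf_coe, hu]
    refine hfix (u : X) (hall _ hu') (fun h => by rw [h, orderOf_one] at hu'; omega) fun x hx => ?_
    -- the commutator lies in `P' ⊓ E`
    have h1 : (u : X) * x * (u : X)⁻¹ * x⁻¹ ∈ P' :=
      mul_mem ((Subgroup.mem_normalizer_iff.1 u.2 x).1 hx) (inv_mem hx)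
    have h2 : (u : X) * x * (u : X)⁻¹ * x⁻¹ ∈ E := by
      rw [mul_assoc, mul_assoc]
      exact mul_mem (hall _ hu') (by rw [← mul_assoc]; exact hEn.conj_mem _ (inv_mem (hall _ hu')) x)
    obtain ⟨k, hk⟩ := IsPGroup.iff_orderOf.1 hP'p ⟨_, h1⟩
    have h3 : orderOf ((u : X) * x * (u : X)⁻¹ * x⁻¹) = q ^ k := by rw [← hk, Subgroup.orderOf_mk]
    have h4 := orderOf_dvd_of_pow_eq_one (hEexp _ h2)
    have h5 : (u : X) * x * (u : X)⁻¹ * x⁻¹ = 1 := orderOf_eq_one_iff.1
      (Nat.eq_one_of_dvd_coprimes (((Nat.coprime_primes hq Nat.prime_two).2 hq2).pow_left k)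
        (dvd_of_eq h3) h4)
    rw [mul_inv_eq_one, mul_inv_eq_iff_eq_mul] at h5
    exact h5.symm

theorem cyclic_case {G : Type*} [Group G] [Finite G] (hamb : ∀ x : G, IsConj x x⁻¹)
    (heven : 2 ∣ Nat.card G) (S : Sylow 2 G) [IsCyclic (S : Subgroup G)] :
    Nat.card S = 2 ∧ (S : Subgroup G).IsComplement' (Cfsg.oddCore G) ∧ Cfsg.oddCore G = commutator G ∧
        ∀ t : G, t ∈ S → t ≠ 1 → ∀ x : G, x ∈ Cfsg.oddCore G → t * x * t⁻¹ = x⁻¹ := by
  haveI := Fact.mk Nat.prime_two
  have hmin : (Nat.card G).minFac = 2 := (Nat.minFac_eq_two_iff _).2 heven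
  have hnc := IsCyclic.normalizer_le_centralizer (P := S) hmin inferInstance
  set f := MonoidHom.transferSylow S hnc with hf
  have hcomp : f.ker.IsComplement' (S : Subgroup G) := MonoidHom.ker_transferSylow_isComplement' S hnc
  have hfab : ∀ a b : G, f (a * b) = f (b * a) := fun a b => by
    rw [map_mul, map_mul]; exact (IsCyclic.commGroup (α := (S : Subgroup G))).mul_comm _ _
  have hsqker : ∀ x : G, x * x ∈ f.ker := by
    intro x
    obtain ⟨g, hg⟩ := isConj_iff.1 (hamb x)
    have h1 : f x = f x⁻¹ := by rw [← hg, mul_assoc, hfab g, mul_assoc, inv_mul_cancel, mul_one]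
    rw [MonoidHom.mem_ker, map_mul]
    nth_rw 2 [h1]
    rw [← map_mul, mul_inv_cancel, map_one]
  have hScard : Nat.card S = 2 := by
    have h2 : 2 ∣ Nat.card S := by
      rw [S.card_eq_multiplicity]
      exact dvd_pow_self 2 (Nat.Prime.factorization_pos_of_dvd Nat.prime_two Nat.card_pos.ne' heven).ne'
    obtain ⟨g, hg⟩ := IsCyclic.exists_ofOrder_eq_natCard (α := (S : Subgroup G))
    have hg2 : g ^ 2 = 1 := by
      refine Subtype.ext (Subgroup.disjoint_def.1 hcomp.disjoint ?_ (g ^ 2).2)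
      rw [Subgroup.coe_pow, sq]
      exact hsqker _
    refine Nat.dvd_antisymm ?_ h2
    show Nat.card (S : Subgroup G) ∣ 2
    rw [← hg]
    exact orderOf_dvd_of_pow_eq_one hg2
  have hidx : f.ker.index = 2 := by rw [hcomp.symm.index_eq_card]; exact hScard
  have hodd : Odd (Nat.card f.ker) := by
    rw [Nat.odd_iff, ← Nat.two_dvd_ne_zero, ← hcomp.index_eq_card]
    exact S.not_dvd_index
  have hN : Cfsg.oddCore G = f.ker := by
    refine le_antisymm (fun x hx => ?_) (Cfsg.Agent.Basics.le_pPrimeCore hodd.coprime_two_right)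
    have h1 : orderOf (f x) ∣ Nat.card (Cfsg.oddCore G) :=
      (orderOf_map_dvd f x).trans (by rw [← Subgroup.orderOf_mk x hx]; exact orderOf_dvd_natCard _)
    have h2 : orderOf (f x) ∣ 2 := by
      have := orderOf_dvd_natCard (f x)
      rwa [show Nat.card ↥(S : Subgroup G) = 2 from hScard] at this
    exact orderOf_eq_one_iff.1 (Nat.eq_one_of_dvd_coprimes (Cfsg.Agent.Basics.pPrimeCore_coprime 2) h1 h2)
  refine ⟨hScard, hN ▸ hcomp.symm, ?_, ?_⟩
  · rw [hN]
    refine le_antisymm (fun x hx => ?_) ?_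
    · have hsq : ∀ y : G, y * y ∈ commutator G := by
        intro y
        obtain ⟨g, hg⟩ := isConj_iff.1 (hamb y)
        have h1 : Abelianization.of y = Abelianization.of y⁻¹ := by
          rw [← hg, map_mul, map_mul, mul_comm (Abelianization.of g), mul_assoc, ← map_mul, mul_inv_cancel,
            map_one, mul_one]
        rw [← Abelianization.ker_of G, MonoidHom.mem_ker, map_mul]
        nth_rw 2 [h1]
        rw [← map_mul, mul_inv_cancel, map_one]
      obtain ⟨j, hj⟩ := exists_pow_eq_self_of_coprime (x := x) (n := 2)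
        (Nat.Coprime.coprime_dvd_right (Subgroup.orderOf_dvd_natCard _ hx) hodd.coprime_two_left)
      rw [← hj, sq]
      exact pow_mem (hsq x) j
    · rw [commutator_def, commutator_le]
      intro a _ b _
      rw [MonoidHom.mem_ker, map_commutatorElement, commutatorElement_eq_one_iff_mul_comm]
      exact (IsCyclic.commGroup (α := (S : Subgroup G))).mul_comm _ _
  · intro t htS ht1 x hx
    rw [hN] at hx
    have hNn : f.ker.Normal := inferInstance
    have ht2 : t * t = 1 := by
      have h1 : (⟨t, htS⟩ : (S : Subgroup G)) ^ Nat.card (S : Subgroup G) = 1 := pow_card_eq_one'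
      rw [show Nat.card (S : Subgroup G) = 2 from hScard, sq] at h1
      exact congrArg Subtype.val h1
    let φ : f.ker →* f.ker :=
      { toFun := fun y => ⟨t * y * t⁻¹, hNn.conj_mem y y.2 t⟩
        map_one' := Subtype.ext (by simp)
        map_mul' := fun a b => Subtype.ext (by simp [mul_assoc]) }
    have hfpf : MonoidHom.FixedPointFree φ := by
      intro c hc
      have hct : Commute t (c : G) := mul_inv_eq_iff_eq_mul.1 (congrArg Subtype.val hc)
      obtain ⟨g, hg⟩ := isConj_iff.1 (hamb (t * c))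
      set m := Nat.card f.ker
      have hcm : (c : G) ^ m = 1 := congrArg Subtype.val (pow_card_eq_one' (x := c))
      have htm : t ^ m = t := by
        obtain ⟨r, hr⟩ := hodd
        rw [show m = 2 * r + 1 from hr, pow_succ, pow_mul, sq, ht2, one_pow, one_mul]
      have htinv : t⁻¹ = t := inv_eq_of_mul_eq_one_right ht2
      have h2 : g * t * g⁻¹ = t := by
        have := congrArg (· ^ m) hg
        simp only [conj_pow, inv_pow, hct.mul_pow, hcm, htm, mul_one, htinv] at this
        exact this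
      have h3 : g * c * g⁻¹ = (c : G)⁻¹ := by
        have h4 : g * (t * c) * g⁻¹ = t * (g * c * g⁻¹) := by
          rw [show g * (t * c) * g⁻¹ = (g * t * g⁻¹) * (g * c * g⁻¹) by group, h2]
        rw [h4, mul_inv_rev, htinv, ← hct.inv_right.eq] at hg
        exact mul_left_cancel hg
      obtain ⟨n, hn, hnc⟩ : ∃ n ∈ f.ker, n * c * n⁻¹ = (c : G)⁻¹ := by
        by_cases hgN : g ∈ f.ker
        · exact ⟨g, hgN, h3⟩
        · refine ⟨g * t, (Subgroup.mul_mem_iff_of_index_two hidx).2 (iff_of_false hgN fun htN => ht1 ?_), ?_⟩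
          · exact Subgroup.disjoint_def.1 hcomp.disjoint htN htS
          · rw [show g * t * c * (g * t)⁻¹ = g * (t * c * t⁻¹) * g⁻¹ by group, hct.eq, mul_inv_cancel_right, h3]
      exact eq_one_of_real hodd (g := ⟨n, hn⟩) (Subtype.ext hnc)
    have hinv : Function.Involutive φ := fun y => Subtype.ext (by
      show t * (t * (y : G) * t⁻¹) * t⁻¹ = y
      rw [show t * (t * (y : G) * t⁻¹) * t⁻¹ = (t * t) * y * (t * t)⁻¹ by group, ht2]
      simp)
    exact congrArg Subtype.val (congrFun (hfpf.coe_eq_inv_of_involutive hinv) ⟨x, hx⟩)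

/-- Let G be a finite solvable group of even order in which every element is conjugate to its inverse and all involutions are conjugate. Then a Sylow 2-subgroup S of G has order 2 or is a generalized quaternion group (of order at least 8). Moreover, if S has order 2, then G is the semidirect product of its largest normal subgroup of odd order O(G) by S, O(G) equals the derived subgroup of G, and the involution of S inverts every element of O(G). -/
theorem result {G : Type*} [Group G] [Finite G] [Group.IsSolvable G]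
    (hamb : ∀ x : G, IsConj x x⁻¹) (heven : 2 ∣ Nat.card G) (hone : ∀ s t : G, orderOf s = 2 → orderOf t = 2 → IsConj s t) (S : Sylow 2 G) :
    (Nat.card S = 2 ∨ ∃ n : ℕ, Nonempty ((S : Subgroup G) ≃* QuaternionGroup (2 ^ (n + 1)))) ∧
    (Nat.card S = 2 → (S : Subgroup G).IsComplement' (Cfsg.oddCore G) ∧ Cfsg.oddCore G = commutator G ∧
        ∀ t : G, t ∈ S → t ≠ 1 → ∀ x : G, x ∈ Cfsg.oddCore G → t * x * t⁻¹ = x⁻¹) := by
  haveI := Fact.mk Nat.prime_two
  by_cases hcyc : IsCyclic (S : Subgroup G)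
  · obtain ⟨h1, h2⟩ := cyclic_case hamb heven S
    exact ⟨Or.inl h1, fun _ => h2⟩
  have h2 : Nat.card S ≠ 2 := fun h => hcyc (isCyclic_of_prime_card (p := 2) h)
  refine ⟨?_, fun h => absurd h h2⟩
  set N := Cfsg.oddCore G with hN
  haveI : N.Normal := inferInstance
  have hker : ∀ x : G, x ∈ (S : Subgroup G) → x ∈ N → x = 1 := by
    intro x hxS hxN
    obtain ⟨k, hk⟩ := IsPGroup.iff_orderOf.1 S.isPGroup' ⟨x, hxS⟩
    rw [Subgroup.orderOf_mk] at hk
    have h1 : orderOf x ∣ Nat.card N := by rw [← Subgroup.orderOf_mk x hxN]; exact orderOf_dvd_natCard _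
    exact orderOf_eq_one_iff.1 (Nat.eq_one_of_dvd_coprimes
      ((Cfsg.Agent.Basics.pPrimeCore_coprime (G := G) 2).pow_right k) h1 (dvd_of_eq hk))
  have hlift : ∀ q : G ⧸ N, orderOf q = 2 → ∃ g : G, orderOf g = 2 ∧ QuotientGroup.mk g = q := by
    intro q hq
    obtain ⟨g, rfl⟩ := QuotientGroup.mk_surjective q
    refine ⟨g ^ Nat.card N, ?_, ?_⟩
    · refine orderOf_eq_prime ?_ fun h => ?_
      · rw [← pow_mul, mul_comm, pow_mul]
        have hm : g ^ 2 ∈ N := by
          rw [← QuotientGroup.eq_one_iff, QuotientGroup.mk_pow, ← hq, pow_orderOf_eq_one]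
        exact congrArg Subtype.val (pow_card_eq_one' (x := (⟨g ^ 2, hm⟩ : N)))
      · have h1 : (QuotientGroup.mk g : G ⧸ N) ^ Nat.card N = 1 := by
          rw [← QuotientGroup.mk_pow, h, QuotientGroup.mk_one]
        have := orderOf_dvd_of_pow_eq_one h1
        rw [hq] at this
        exact Nat.prime_two.coprime_iff_not_dvd.1 (Cfsg.Agent.Basics.pPrimeCore_coprime (G := G) 2).symm this
    · rw [QuotientGroup.mk_pow]
      obtain ⟨r, hr⟩ := Nat.coprime_two_right.1 (Cfsg.Agent.Basics.pPrimeCore_coprime (G := G) 2)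
      rw [show Nat.card N = 2 * r + 1 from hr, pow_succ, pow_mul, ← hq, pow_orderOf_eq_one, one_pow, one_mul]
  have huniq : ∀ x y : (S : Subgroup G), orderOf x = 2 → orderOf y = 2 → x = y := by
    intro x y hx hy
    have hord : ∀ z : (S : Subgroup G), orderOf z = 2 → orderOf (QuotientGroup.mk (z : G) : G ⧸ N) = 2 := by
      intro z hz
      refine orderOf_eq_prime ?_ fun h => ?_
      · rw [← QuotientGroup.mk_pow, ← Subgroup.coe_pow, orderOf_dvd_iff_pow_eq_one.1 (dvd_of_eq hz),
          Subgroup.coe_one, QuotientGroup.mk_one]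
      · have := hker z z.2 ((QuotientGroup.eq_one_iff _).1 h)
        rw [← Subgroup.orderOf_coe, this, orderOf_one] at hz
        omega
    have heq : (QuotientGroup.mk (x : G) : G ⧸ N) = QuotientGroup.mk (y : G) := by
      refine no_four (Cfsg.Agent.Basics.pPrimeCore_quotient_eq_bot 2) ?_ ?_ (hord x hx) (hord y hy)
      · intro q
        obtain ⟨g, rfl⟩ := QuotientGroup.mk_surjective q
        rw [← QuotientGroup.mk_inv]
        exact (QuotientGroup.mk' N).map_isConj (hamb g)
      · intro a b ha hb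
        obtain ⟨a', ha', rfl⟩ := hlift a ha
        obtain ⟨b', hb', rfl⟩ := hlift b hb
        exact (QuotientGroup.mk' N).map_isConj (hone a' b' ha' hb')
    exact Subtype.ext (inv_mul_eq_one.1 (hker _ (mul_mem (inv_mem x.2) y.2) (QuotientGroup.eq.1 heq)))
  have hHK : ∀ H K : Subgroup (S : Subgroup G), Nat.card H = 2 → Nat.card K = 2 → H = K := by
    intro H K hH hK
    obtain ⟨a, ha⟩ := exists_prime_orderOf_dvd_card' (G := H) 2 (by rw [hH])
    obtain ⟨b, hb⟩ := exists_prime_orderOf_dvd_card' (G := K) 2 (by rw [hK])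
    have hab : (a : (S : Subgroup G)) = b := huniq _ _ (by rw [Subgroup.orderOf_coe, ha]) (by rw [Subgroup.orderOf_coe, hb])
    have hHz : Subgroup.zpowers (a : (S : Subgroup G)) = H := Subgroup.eq_of_le_of_card_ge  (Subgroup.zpowers_le.2 a.2) (by rw [Nat.card_zpowers, Subgroup.orderOf_coe, ha, hH])
    have hKz : Subgroup.zpowers (b : (S : Subgroup G)) = K := Subgroup.eq_of_le_of_card_ge  (Subgroup.zpowers_le.2 b.2) (by rw [Nat.card_zpowers, Subgroup.orderOf_coe, hb, hK])
    rw [← hHz, ← hKz, hab]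
  rcases Cfsg.Agent.InvChar.cyclic_or_quaternion S.isPGroup' hHK with hc | ⟨-, n, ⟨e⟩⟩
  · exact absurd hc hcyc
  · rcases n with _ | n
    · refine absurd (e.isCyclic.2 (isCyclic_of_orderOf_eq_card (QuaternionGroup.xa 0) ?_)) hcyc
      rw [QuaternionGroup.orderOf_xa, Nat.card_eq_fintype_card, QuaternionGroup.card]; norm_num
    · exact Or.inr ⟨n, ⟨e⟩⟩

end Cfsg.Agent.S4061
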