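import Cfsg.Statements.S4064
import Cfsg.Agent.Lib.Recog.TICentralizer.Final
import Cfsg.Agent.Lib.RankOne.Inverted

set_option autoImplicit false
open Cfsg

namespace Cfsg.Agent.S4064

/-- Let G be a finite group in which the centralizer of every element meets each of its conjugates by elements outside its normalizer trivially. Then G is nilpotent; or G is a Frobenius group with a complement that is cyclic or isomorphic to the direct product of a cyclic group of odd order and the quaternion group of order 8; or G is isomorphic to PSL₂(2ⁿ) for some n ≥ 2. -/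
theorem result {G : Type*} [Group G] [Finite G] (hTI : ∀ x : G, Cfsg.IsTISubset (Subgroup.centralizer ({x} : Set G) : Set G)) :
    Group.IsNilpotent G ∨
    (∃ H : Subgroup G, Cfsg.IsFrobeniusComplement H ∧
      (IsCyclic H ∨ ∃ m : ℕ, Odd m ∧ Nonempty (H ≃* Multiplicative (ZMod m) × QuaternionGroup 2))) ∨
    (∃ n : ℕ, 2 ≤ n ∧ Nonempty (G ≃* Matrix.ProjectiveSpecialLinearGroup (Fin 2) (GaloisField 2 n))) := by
  haveI : Fact (Nat.Prime 2) := ⟨Nat.prime_two⟩
  have h : Cfsg.Agent.Recog.TICent.AllTI G := hTI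
  by_cases hs : Group.IsSolvable G
  swap
  · exact Or.inr (Or.inr (Cfsg.Agent.Recog.TICent.classify h hs))
  have hCN := Cfsg.Agent.Recog.TICent.isCN h
  rcases S1476.result hCN with hnil | ⟨K, H, -, -, hH, hcase⟩ | ⟨p, hp, hne, A, hA1, -, -, hcop, -, hlt, ⟨n, hn⟩, -, -⟩
  · exact Or.inl hnil
  · refine Or.inr (Or.inl ⟨H, hH, ?_⟩)
    rcases hcase with hc | ⟨C, Q, hCQ, hcomm, hCc, hodd, k, ⟨e⟩⟩
    · exact Or.inl hc
    have hQcard : Nat.card Q = 4 * 2 ^ k := by
      rw [Nat.card_congr e.toEquiv, Nat.card_eq_fintype_card, QuaternionGroup.card]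
    have hdisj : ∀ a ∈ C, a ∈ Q → a = 1 := fun a ha haQ => by
      have h1 := Subgroup.orderOf_dvd_natCard C ha
      have h2 := Subgroup.orderOf_dvd_natCard Q haQ
      rw [hQcard, show 4 * 2 ^ k = 2 ^ (k + 2) by ring] at h2
      have hcop : Nat.Coprime (Nat.card C) (2 ^ (k + 2)) :=
        (Nat.coprime_two_right.2 hodd).pow_right _
      exact orderOf_eq_one_iff.1 (Nat.eq_one_of_dvd_coprimes hcop h1 h2)
    -- the internal direct product
    let f : C × Q →* H :=
      { toFun := fun z => ⟨z.1 * z.2, hCQ ▸ mul_mem (Subgroup.mem_sup_left z.1.2) (Subgroup.mem_sup_right z.2.2)⟩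
        map_one' := Subtype.ext (by simp)
        map_mul' := fun a b => Subtype.ext (by
          show (a.1 : G) * b.1 * (a.2 * b.2) = a.1 * a.2 * (b.1 * b.2)
          rw [mul_assoc, ← mul_assoc (b.1 : G), hcomm _ b.1.2 _ a.2.2]; group) }
    have hf : Function.Bijective f := by
      refine ⟨(injective_iff_map_eq_one f).2 fun z hz => ?_, fun y => ?_⟩
      · have e1 : (z.1 : G) * z.2 = 1 := congrArg Subtype.val hz
        have h2 : (z.1 : G) = 1 := hdisj _ z.1.2 (by rw [eq_inv_of_mul_eq_one_left e1]; exact inv_mem z.2.2)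
        rw [h2, one_mul] at e1
        exact Prod.ext (Subtype.ext h2) (Subtype.ext e1)
      · have hle : C ⊔ Q ≤ f.range.map H.subtype := sup_le
          (fun a ha => ⟨f (⟨a, ha⟩, 1), ⟨_, rfl⟩, mul_one a⟩)
          (fun a ha => ⟨f (1, ⟨a, ha⟩), ⟨_, rfl⟩, one_mul a⟩)
        obtain ⟨w, ⟨z, rfl⟩, hw⟩ := hle (hCQ.ge y.2)
        exact ⟨z, Subtype.ext hw⟩
    let ef : C × Q ≃* H := MulEquiv.ofBijective f hf
    rcases lt_trichotomy k 1 with hk | rfl | hk
    · obtain rfl : k = 0 := by omega
      haveI : IsCyclic Q := by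
        have h4 : orderOf (QuaternionGroup.xa (0 : ZMod (2 * 2 ^ 0))) = 4 := by
          haveI : NeZero (2 ^ 0 : ℕ) := ⟨one_ne_zero⟩
          exact QuaternionGroup.orderOf_xa 0
        refine isCyclic_of_orderOf_eq_card (e.symm (QuaternionGroup.xa 0)) ?_
        rw [MulEquiv.orderOf_eq, h4, hQcard]
        norm_num
      haveI := hCc
      haveI : IsCyclic (C × Q) := Group.isCyclic_prod_iff.2 ⟨inferInstance, inferInstance, by
        rw [hQcard, show 4 * 2 ^ 0 = 2 ^ 2 by norm_num]
        exact (Nat.coprime_two_right.2 hodd).pow_right _⟩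
      exact Or.inl (isCyclic_of_surjective ef.toMonoidHom ef.surjective)
    · refine Or.inr ⟨Nat.card C, hodd, ⟨ef.symm.trans (MulEquiv.prodCongr (zmodCyclicMulEquiv hCc).symm e)⟩⟩
    · exfalso
      haveI : NeZero (2 ^ k : ℕ) := ⟨by positivity⟩
      have hk2 : 4 ≤ 2 ^ k := le_trans (by norm_num) (Nat.pow_le_pow_right (by norm_num) hk)
      set z : QuaternionGroup (2 ^ k) := QuaternionGroup.a ((2 ^ k : ℕ) : ZMod (2 * 2 ^ k)) with hz
      set x : QuaternionGroup (2 ^ k) := QuaternionGroup.xa 0 with hx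
      set r : QuaternionGroup (2 ^ k) := QuaternionGroup.a 1 with hr
      have hkk : ((2 ^ k : ℕ) : ZMod (2 * 2 ^ k)) + ((2 ^ k : ℕ) : ZMod (2 * 2 ^ k)) = 0 := by
        rw [← Nat.cast_add, ← two_mul, ZMod.natCast_self]
      have hzc : ∀ w, Commute w z := by
        rintro (i | i)
        · show _ = _
          rw [hz, QuaternionGroup.a_mul_a, QuaternionGroup.a_mul_a, add_comm]
        · show _ = _
          rw [hz, QuaternionGroup.a_mul_xa, QuaternionGroup.xa_mul_a]
          exact congrArg QuaternionGroup.xa (by linear_combination hkk)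
      let ι : QuaternionGroup (2 ^ k) →* G := Q.subtype.comp e.symm.toMonoidHom
      have hι : Function.Injective ι := Subtype.val_injective.comp e.symm.injective
      have hz1 : z ≠ 1 := fun e1 => by
        rw [hz, ← QuaternionGroup.a_zero] at e1
        injection e1 with e1
        rw [ZMod.natCast_eq_zero_iff] at e1
        have := Nat.le_of_dvd (by positivity) e1
        omega
      have hg := Cfsg.Agent.Recog.TICent.normalizes_of_commute h (x := ι x) (y := ι z) (g := ι r)
        ((hzc x).symm.map ι) (fun e1 => hz1 (hι (e1.trans (map_one ι).symm))) ((hzc r).map ι)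
      have hc := Cfsg.Agent.Recog.TICent.conj_commute (H := ⊤) (Subgroup.mem_top (ι x)) hg
      rw [← map_inv, ← map_mul, ← map_mul, Commute, SemiconjBy, ← map_mul, ← map_mul] at hc
      have := hι hc
      rw [hr, hx, show (QuaternionGroup.a (1 : ZMod (2 * 2 ^ k)))⁻¹ = QuaternionGroup.a (-1) from rfl,
        QuaternionGroup.a_mul_xa, QuaternionGroup.xa_mul_a, QuaternionGroup.xa_mul_xa,
        QuaternionGroup.xa_mul_xa] at this
      injection this with this
      have h4 : ((4 : ℕ) : ZMod (2 * 2 ^ k)) = 0 := by push_cast; linear_combination this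
      rw [ZMod.natCast_eq_zero_iff] at h4
      have := Nat.le_of_dvd (by norm_num) h4
      omega
  · exfalso
    haveI : Fact p.Prime := ⟨hp⟩
    obtain ⟨P⟩ : Nonempty (Sylow p G) := inferInstance
    have hUp : IsPGroup p (Cfsg.pCore p G) := Cfsg.Agent.Basics.pCore_isPGroup p
    have hUP : Cfsg.pCore p G ≤ P := Cfsg.Agent.Basics.pCore_le_sylow p P
    -- a central element of the Sylow subgroup in the core
    haveI : ((Cfsg.pCore p G).subgroupOf (P : Subgroup G)).Normal :=
      Subgroup.normal_subgroupOf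
    haveI : Group.IsNilpotent (P : Subgroup G) := P.2.isNilpotent
    have hU1 : Nontrivial ((Cfsg.pCore p G).subgroupOf (P : Subgroup G)) := by
      obtain ⟨u, hu, hu1⟩ := (Subgroup.bot_or_exists_ne_one _).resolve_left hne
      exact ⟨⟨⟨u, hUP hu⟩, hu⟩, 1, fun e => hu1 (congrArg (fun v => ((v : (P : Subgroup G)) : G)) (congrArg Subtype.val e))⟩
    obtain ⟨⟨z, hzP⟩, hzU, hz1, hzC⟩ := Cfsg.Agent.RankOne.exists_central_mem
      ((Cfsg.pCore p G).subgroupOf (P : Subgroup G)) ((Subgroup.nontrivial_iff_ne_bot _).1 hU1)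
    have hz1' : z ≠ 1 := fun e => hz1 (Subtype.ext e)
    have hPC : (P : Subgroup G) ≤ Subgroup.centralizer ({z} : Set G) := fun s hs =>
      Subgroup.mem_centralizer_singleton_iff.2 (congrArg Subtype.val (Subgroup.mem_center_iff.1 hzC ⟨s, hs⟩))
    have hPn : (P : Subgroup G).Normal := by
      refine ⟨fun s hs g => ?_⟩
      have hg := Cfsg.Agent.Recog.TICent.normalizes h (x := z) (y := z) (Commute.refl z) hz1' (g := g)
        (Subgroup.mem_centralizer_singleton_iff.1 (hPC (hUP
          ((Cfsg.Agent.Basics.pCore_normal (p := p) (G := G)).conj_mem z hzU g))))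
      obtain ⟨j, hj⟩ := P.2 ⟨s, hs⟩
      have hs' : s ^ p ^ j = 1 := congrArg Subtype.val hj
      obtain ⟨i, -, hi⟩ := (Nat.dvd_prime_pow hp).1
        (orderOf_dvd_of_pow_eq_one (show (g * s * g⁻¹) ^ p ^ j = 1 by rw [conj_pow, hs']; simp))
      exact Cfsg.Agent.OddLocal.pGroup_le_sylow_of_nilpotent (hCN z hz1') P hPC
        (Subgroup.zpowers_le.2 ((Subgroup.mem_normalizer_iff.1 hg s).1 (hPC hs)))
        (IsPGroup.of_card (n := i) (by rw [Nat.card_zpowers, hi])) (Subgroup.mem_zpowers _)
    have hPU : (P : Subgroup G) ≤ Cfsg.pCore p G := Cfsg.Agent.Basics.le_pCore P.2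
    have hdvd : p ^ n ∣ (P : Subgroup G).index :=
      hn ▸ Subgroup.index_dvd_of_le (hPU.trans le_sup_left)
    rcases Nat.eq_zero_or_pos n with rfl | hn0
    · exact hlt (Subgroup.index_eq_one.1 (by rw [hn, pow_zero]))
    · exact P.not_dvd_index ((dvd_pow_self p hn0.ne').trans hdvd)

end Cfsg.Agent.S4064
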