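import Cfsg.Statements.S4065
-- import your own Cfsg.Agent.* helpers here

set_option autoImplicit false
open Cfsg

namespace Cfsg.Agent.S4065

open Subgroup Matrix

theorem commute_of_nonscalar {K : Type*} [Field K] (M A B : Matrix (Fin 2) (Fin 2) K)
    (hM : ¬ (M 0 1 = 0 ∧ M 1 0 = 0 ∧ M 0 0 = M 1 1)) (hA : A * M = M * A) (hB : B * M = M * B) :
    A * B = B * A := by
  have a1 := congrFun (congrFun hA 0) 0
  have a2 := congrFun (congrFun hA 0) 1
  have a3 := congrFun (congrFun hA 1) 0
  have b1 := congrFun (congrFun hB 0) 0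
  have b2 := congrFun (congrFun hB 0) 1
  have b3 := congrFun (congrFun hB 1) 0
  simp only [Matrix.mul_apply, Fin.sum_univ_two] at a1 a2 a3 b1 b2 b3
  have key : A 0 1 * B 1 0 = B 0 1 * A 1 0 ∧ A 0 1 * (B 1 1 - B 0 0) = B 0 1 * (A 1 1 - A 0 0) ∧
      A 1 0 * (B 1 1 - B 0 0) = B 1 0 * (A 1 1 - A 0 0) := by
    by_cases h1 : M 0 1 = 0
    · by_cases h2 : M 1 0 = 0
      · have h3 : M 1 1 - M 0 0 ≠ 0 := sub_ne_zero.2 fun h => hM ⟨h1, h2, h.symm⟩
        have e1 : A 0 1 = 0 := by
          rw [h1, zero_mul, mul_zero, zero_add] at a2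
          exact (mul_eq_zero.1 (show A 0 1 * (M 1 1 - M 0 0) = 0 by linear_combination a2)).resolve_right h3
        have e2 : A 1 0 = 0 := by
          rw [h2, zero_mul, mul_zero, add_zero] at a3
          exact (mul_eq_zero.1 (show A 1 0 * (M 1 1 - M 0 0) = 0 by linear_combination -a3)).resolve_right h3
        have f1 : B 0 1 = 0 := by
          rw [h1, zero_mul, mul_zero, zero_add] at b2
          exact (mul_eq_zero.1 (show B 0 1 * (M 1 1 - M 0 0) = 0 by linear_combination b2)).resolve_right h3
        have f2 : B 1 0 = 0 := by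
          rw [h2, zero_mul, mul_zero, add_zero] at b3
          exact (mul_eq_zero.1 (show B 1 0 * (M 1 1 - M 0 0) = 0 by linear_combination -b3)).resolve_right h3
        simp [e1, e2, f1, f2]
      · have e1 : A 0 1 = 0 := by
          rw [h1, zero_mul] at a1
          exact (mul_eq_zero.1 (show A 0 1 * M 1 0 = 0 by linear_combination a1)).resolve_right h2
        have f1 : B 0 1 = 0 := by
          rw [h1, zero_mul] at b1
          exact (mul_eq_zero.1 (show B 0 1 * M 1 0 = 0 by linear_combination b1)).resolve_right h2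
        refine ⟨by rw [e1, f1]; ring, by rw [e1, f1]; ring, mul_left_cancel₀ h2 ?_⟩
        linear_combination A 1 0 * b3 - B 1 0 * a3
    · have k : A 0 1 * B 1 0 = B 0 1 * A 1 0 := mul_left_cancel₀ h1 (by
        linear_combination B 0 1 * a1 - A 0 1 * b1)
      refine ⟨k, mul_left_cancel₀ h1 ?_, mul_left_cancel₀ h1 ?_⟩
      · linear_combination B 0 1 * a2 - A 0 1 * b2
      · linear_combination B 1 0 * a2 - A 1 0 * b2 - (M 1 1 - M 0 0) * k
  obtain ⟨k1, k2, k3⟩ := key
  ext i j
  fin_cases i <;> fin_cases j <;> simp [Matrix.mul_apply, Fin.sum_univ_two]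
  · linear_combination k1
  · linear_combination k2
  · linear_combination -k3
  · linear_combination -k1

/-- Centralizers of non-trivial elements of `PSL₂` in characteristic two are commutative. -/
theorem comm_of_centralizes {K : Type*} [Field K] [CharP K 2]
    (x y z : Matrix.ProjectiveSpecialLinearGroup (Fin 2) K) (hx : x ≠ 1)
    (hy : y * x = x * y) (hz : z * x = x * z) : y * z = z * y := by
  have hc : Subgroup.center (Matrix.SpecialLinearGroup (Fin 2) K) = ⊥ := by
    rw [eq_bot_iff]
    intro A hA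
    obtain ⟨r, hr, hr'⟩ := Matrix.SpecialLinearGroup.mem_center_iff.1 hA
    rw [Fintype.card_fin] at hr
    have h1 : r = 1 := by
      have : (r - 1) * (r - 1) = 0 := by
        linear_combination hr + (1 - r) * CharP.ofNat_eq_zero K 2
      exact sub_eq_zero.1 (mul_self_eq_zero.1 this)
    rw [mem_bot]
    apply Subtype.ext
    rw [← hr', h1, map_one]
    rfl
  have hinj : Function.Injective (QuotientGroup.mk :
      Matrix.SpecialLinearGroup (Fin 2) K → Matrix.ProjectiveSpecialLinearGroup (Fin 2) K) := by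
    intro a b hab
    rw [QuotientGroup.eq, hc, mem_bot, inv_mul_eq_one] at hab
    exact hab
  obtain ⟨X, rfl⟩ := QuotientGroup.mk_surjective x
  obtain ⟨Y, rfl⟩ := QuotientGroup.mk_surjective y
  obtain ⟨Z, rfl⟩ := QuotientGroup.mk_surjective z
  rw [← QuotientGroup.mk_mul, ← QuotientGroup.mk_mul] at hy hz ⊢
  congr 1
  apply Subtype.ext
  refine commute_of_nonscalar (X : Matrix (Fin 2) (Fin 2) K) _ _ ?_ (congrArg Subtype.val (hinj hy))
    (congrArg Subtype.val (hinj hz))
  rintro ⟨h1, h2, h3⟩
  apply hx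
  have hmem : X ∈ Subgroup.center (Matrix.SpecialLinearGroup (Fin 2) K) := by
    rw [Matrix.SpecialLinearGroup.mem_center_iff]
    refine ⟨(X : Matrix (Fin 2) (Fin 2) K) 0 0, ?_, ?_⟩
    · have := X.2
      rw [Matrix.det_fin_two, h1, h2] at this
      rw [Fintype.card_fin]
      linear_combination this + (X : Matrix (Fin 2) (Fin 2) K) 0 0 * h3
    · ext i j
      fin_cases i <;> fin_cases j <;> simp [h1, h2, h3]
  exact (QuotientGroup.eq_one_iff X).2 hmem

/-- Let F be a finite field with 2ⁿ elements, n ≥ 2. In PSL₂(F) the centralizer of every element meets each of its conjugates by elements outside its normalizer trivially. -/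
theorem result (n : ℕ) (hn : 2 ≤ n)
    (x : Matrix.ProjectiveSpecialLinearGroup (Fin 2) (GaloisField 2 n)) :
    Cfsg.IsTISubset (Subgroup.centralizer ({x} : Set (Matrix.ProjectiveSpecialLinearGroup (Fin 2) (GaloisField 2 n))) :
      Set (Matrix.ProjectiveSpecialLinearGroup (Fin 2) (GaloisField 2 n))) := by
  intro g hg z hz hgz
  by_contra hz1
  simp only [SetLike.mem_coe, mem_centralizer_singleton_iff] at hz hgz
  apply hg
  by_cases hx : x = 1
  · subst hx
    rw [show Subgroup.centralizer ({1} : Set (Matrix.ProjectiveSpecialLinearGroup (Fin 2) (GaloisField 2 n)))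
      = ⊤ from eq_top_iff.2 fun u _ => mem_centralizer_singleton_iff.2 (by rw [mul_one, one_mul]),
      Subgroup.normalizer_eq_top]
    exact mem_top _
  have hgz1 : g * z * g⁻¹ ≠ 1 := fun h => hz1 (conj_eq_one_iff.1 h)
  have hC : ∀ w, w ≠ 1 → w * x = x * w → ∀ u, (u * x = x * u ↔ u * w = w * u) := fun w hw hwx u =>
    ⟨fun h => comm_of_centralizes x u w hx h hwx, fun h => comm_of_centralizes w u x hw h hwx.symm⟩
  rw [mem_normalizer_iff]
  intro u
  simp only [mem_centralizer_singleton_iff]
  rw [hC z hz1 hz u, hC _ hgz1 hgz (g * u * g⁻¹)]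
  constructor
  · intro h
    calc g * u * g⁻¹ * (g * z * g⁻¹) = g * (u * z) * g⁻¹ := by group
      _ = g * z * g⁻¹ * (g * u * g⁻¹) := by rw [h]; group
  · intro h
    calc u * z = g⁻¹ * (g * u * g⁻¹ * (g * z * g⁻¹)) * g := by group
      _ = z * u := by rw [h]; group

end Cfsg.Agent.S4065
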