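import Cfsg.Statements.S4066
-- import your own Cfsg.Agent.* helpers here

set_option autoImplicit false
open Cfsg

namespace Cfsg.Agent.S4066

/-- Let G be a finite group in which the centralizer of every element meets each of its conjugates by elements outside its normalizer trivially. Then any two distinct Sylow p-subgroups of G, for any prime p, intersect trivially. -/
theorem result {G : Type*} [Group G] [Finite G] (hTI : ∀ x : G, Cfsg.IsTISubset (Subgroup.centralizer ({x} : Set G) : Set G))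
    {p : ℕ} [Fact p.Prime] (P Q : Sylow p G) (hPQ : P ≠ Q) : (P : Subgroup G) ⊓ (Q : Subgroup G) = ⊥ := by
  classical
  by_contra hne
  obtain ⟨x, ⟨hxP, hxQ⟩, hx1⟩ := (Subgroup.bot_or_exists_ne_one _).resolve_left hne
  haveI : Nontrivial (P : Subgroup G) := ⟨⟨⟨x, hxP⟩, 1, fun h => hx1 (congrArg Subtype.val h)⟩⟩
  haveI : Nontrivial (Subgroup.center (P : Subgroup G)) := P.2.center_nontrivial
  obtain ⟨z, hz⟩ := exists_ne (1 : Subgroup.center (P : Subgroup G))
  haveI : Nontrivial (Q : Subgroup G) := ⟨⟨⟨x, hxQ⟩, 1, fun h => hx1 (congrArg Subtype.val h)⟩⟩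
  haveI : Nontrivial (Subgroup.center (Q : Subgroup G)) := Q.2.center_nontrivial
  obtain ⟨w, hw⟩ := exists_ne (1 : Subgroup.center (Q : Subgroup G))
  set z' : G := ((z : (P : Subgroup G)) : G) with hz'
  set w' : G := ((w : (Q : Subgroup G)) : G) with hw'
  have hz1 : z' ≠ 1 := fun h => hz (Subtype.ext (Subtype.ext h))
  have hw1 : w' ≠ 1 := fun h => hw (Subtype.ext (Subtype.ext h))
  have hzc : ∀ u ∈ (P : Subgroup G), u * z' = z' * u := fun u hu =>
    congrArg Subtype.val (Subgroup.mem_center_iff.mp z.2 ⟨u, hu⟩)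
  have hwc : ∀ u ∈ (Q : Subgroup G), u * w' = w' * u := fun u hu =>
    congrArg Subtype.val (Subgroup.mem_center_iff.mp w.2 ⟨u, hu⟩)
  -- an element normalizes a centralizer as soon as it centralizes one of its non-trivial elements
  have hkey : ∀ u c g : G, c ≠ 1 → c * u = u * c → g * c = c * g →
      g ∈ Subgroup.normalizer (Subgroup.centralizer ({u} : Set G) : Set G) := by
    intro u c g hc1 hcu hgc
    by_contra hg
    refine hc1 (hTI u g hg c (Subgroup.mem_centralizer_singleton_iff.mpr hcu) ?_)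
    rw [hgc, mul_inv_cancel_right]
    exact Subgroup.mem_centralizer_singleton_iff.mpr hcu
  set C := Subgroup.centralizer ({z'} : Set G) with hC
  have hPC : (P : Subgroup G) ≤ C := fun u hu => Subgroup.mem_centralizer_singleton_iff.mpr (hzc u hu)
  -- every `p`-element normalizing `C` lies in it
  have hpC : ∀ g ∈ Subgroup.normalizer (C : Set G), (∃ k, orderOf g = p ^ k) → g ∈ C := by
    intro g hg hk
    set N := Subgroup.normalizer (C : Set G)
    haveI : (C.subgroupOf N).Normal := Subgroup.normal_in_normalizer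
    refine Subgroup.mem_subgroupOf (h := (⟨g, hg⟩ : N)) |>.mp ?_
    rw [← QuotientGroup.eq_one_iff]
    obtain ⟨k, hk⟩ := hk
    refine orderOf_eq_one_iff.mp (Nat.eq_one_of_dvd_coprimes
      ((Nat.Prime.coprime_iff_not_dvd Fact.out).mpr ?_ |>.pow_left k)
      ((orderOf_map_dvd (QuotientGroup.mk' (C.subgroupOf N)) (⟨g, hg⟩ : N)).trans
        (by rw [Subgroup.orderOf_mk, hk]))
      ((orderOf_dvd_natCard _).trans (dvd_of_eq (Subgroup.index_eq_card _).symm)))
    intro hd
    exact P.not_dvd_index (hd.trans ((Subgroup.relIndex_dvd_index_of_le Subgroup.le_normalizer).trans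
      (Subgroup.index_dvd_of_le hPC)))
  have hpel : ∀ (R : Sylow p G) u, u ∈ (R : Subgroup G) → ∃ k, orderOf u = p ^ k := fun R u hu => by
    obtain ⟨k, hk⟩ := IsPGroup.iff_orderOf.mp R.2 ⟨u, hu⟩
    exact ⟨k, by rwa [Subgroup.orderOf_mk] at hk⟩
  have hwC : w' ∈ C := hpC w' (hkey z' x w' hx1 (hzc x hxP) (hwc x hxQ).symm) (hpel Q _ (w : (Q : Subgroup G)).2)
  have hQC : ∀ g ∈ (Q : Subgroup G), g ∈ C := fun g hg =>
    hpC g (hkey z' w' g hw1 (Subgroup.mem_centralizer_singleton_iff.mp hwC) (hwc g hg)) (hpel Q g hg)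
  -- so every element of `P` lies in `Q`
  refine hPQ (Sylow.ext (Subgroup.eq_of_le_of_card_ge (fun u hu => ?_)
    (Q.card_eq_multiplicity.trans P.card_eq_multiplicity.symm).le))
  set D := Subgroup.centralizer ({u} : Set G) with hD
  have hQD : ∀ g ∈ (Q : Subgroup G), g ∈ Subgroup.normalizer (D : Set G) := fun g hg =>
    hkey u z' g hz1 (hzc u hu).symm (Subgroup.mem_centralizer_singleton_iff.mp (hQC g hg))
  let S : Subgroup G :=
    { carrier := {y | y ∈ D ∧ (∀ d ∈ D, d * y = y * d) ∧ ∃ k, y ^ p ^ k = 1}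
      one_mem' := ⟨one_mem _, fun d _ => by simp, 0, one_pow _⟩
      mul_mem' := fun {a b} ⟨ha, ha2, i, hi⟩ ⟨hb, hb2, j, hj⟩ => ⟨mul_mem ha hb,
        fun d hd => ((show Commute d a from ha2 d hd).mul_right (hb2 d hd)).eq, i + j, by
          rw [Commute.mul_pow (show Commute a b from hb2 a ha), pow_add, pow_mul, hi, one_pow, mul_comm, pow_mul, hj,
            one_pow, one_mul]⟩
      inv_mem' := fun {a} ⟨ha, ha2, i, hi⟩ => ⟨inv_mem ha,
        fun d hd => ((show Commute d a from ha2 d hd).inv_right).eq, i, by rw [inv_pow, hi, inv_one]⟩ }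
  have hS : IsPGroup p S := fun y => by
    obtain ⟨-, -, k, hk⟩ := y.2
    exact ⟨k, Subtype.ext hk⟩
  have hQS : (Q : Subgroup G) ≤ Subgroup.normalizer (S : Set G) := by
    have hfwd : ∀ g ∈ (Q : Subgroup G), ∀ y ∈ S, g * y * g⁻¹ ∈ S := by
      rintro g hg y ⟨hy, hy2, k, hk⟩
      refine ⟨(Subgroup.mem_normalizer_iff.mp (hQD g hg) y).mp hy, fun d hd => ?_, k, ?_⟩
      · have hd' : g⁻¹ * d * g ∈ D := by
          simpa using (Subgroup.mem_normalizer_iff.mp (hQD g⁻¹ (inv_mem hg)) d).mp hd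
        have h2 := hy2 _ hd'
        calc d * (g * y * g⁻¹) = g * ((g⁻¹ * d * g) * y) * g⁻¹ := by group
          _ = _ := by rw [h2]; group
      · rw [conj_pow, hk, mul_one, mul_inv_cancel]
    intro g hg
    rw [Subgroup.mem_normalizer_iff]
    exact fun y => ⟨hfwd g hg y, fun h => by simpa [mul_assoc] using hfwd g⁻¹ (inv_mem hg) _ h⟩
  have hsup : S ⊔ (Q : Subgroup G) = (Q : Subgroup G) :=
    Q.3 (IsPGroup.to_sup_of_normal_left' hS Q.2 hQS) le_sup_right
  refine hsup.le (Subgroup.mem_sup_left ?_)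
  obtain ⟨k, hk⟩ := hpel P u hu
  exact ⟨Subgroup.mem_centralizer_singleton_iff.mpr rfl,
    fun d hd => Subgroup.mem_centralizer_singleton_iff.mp hd, k, orderOf_dvd_iff_pow_eq_one.mp hk.dvd⟩

end Cfsg.Agent.S4066
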