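import Cfsg.Statements.S4067
import Cfsg.Agent.Lib.Transfer.ClassTwo

set_option autoImplicit false
open Cfsg

namespace Cfsg.Agent.S4067

open MulAction

variable {G : Type*} [Group G] [Finite G]

/-- Counting orbits from lower bounds on orbit lengths. -/
theorem orbit_count (Z R : Set G) (hdisj : Disjoint Z R) (p q : ℕ) (hp : 0 < p) (hq : 0 < q)
    (h1 : ∀ x, x ∉ Z → p ≤ Nat.card (orbit (MulAut G) x))
    (h2 : ∀ x ∈ R, q ≤ Nat.card (orbit (MulAut G) x)) :
    p * q * Nat.card (orbitRel.Quotient (MulAut G) G) + q * (Z.ncard + R.ncard) ≤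
      p * q * Z.ncard + q * Nat.card G + p * R.ncard := by
  classical
  haveI := Fintype.ofFinite G
  haveI : Fintype (orbitRel.Quotient (MulAut G) G) := Fintype.ofFinite _
  let wt : G → ℕ := fun x => if x ∈ Z then p * q else if x ∈ R then p else q
  have key : ∀ o : orbitRel.Quotient (MulAut G) G,
      p * q ≤ ∑ x ∈ Finset.univ.filter (fun x => Quotient.mk'' x = o), wt x := by
    intro o
    set F := Finset.univ.filter (fun x : G => (Quotient.mk'' x : orbitRel.Quotient (MulAut G) G) = o) with hF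
    have hcard : ∀ x ∈ F, Nat.card (orbit (MulAut G) x) = F.card := by
      intro x hx
      rw [hF, Finset.mem_filter] at hx
      rw [Nat.card_coe_set_eq, ← Set.ncard_coe_finset]
      congr 1
      ext y
      simp only [hF, Finset.coe_filter, Finset.mem_univ, true_and, Set.mem_setOf_eq, ← hx.2]
      rw [Quotient.eq'']
      rfl
    have hne : F.Nonempty := by
      obtain ⟨x, rfl⟩ := Quotient.exists_rep o
      exact ⟨x, by rw [hF, Finset.mem_filter]; exact ⟨Finset.mem_univ _, rfl⟩⟩
    have hle : ∀ x ∈ F, p * q ≤ wt x * F.card := by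
      intro x hx
      simp only [wt]
      split_ifs with hxZ hxR
      · exact Nat.le_mul_of_pos_right _ hne.card_pos
      · exact Nat.mul_le_mul_left p ((h2 x hxR).trans_eq (hcard x hx))
      · rw [mul_comm p q]
        exact Nat.mul_le_mul_left q ((h1 x hxZ).trans_eq (hcard x hx))
    have h := Finset.card_nsmul_le_sum F (fun x => wt x * F.card) (p * q) hle
    rw [smul_eq_mul, ← Finset.sum_mul, mul_comm F.card] at h
    exact Nat.le_of_mul_le_mul_right h hne.card_pos
  have hsum : p * q * Nat.card (orbitRel.Quotient (MulAut G) G) ≤ ∑ x, wt x := by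
    rw [Nat.card_eq_fintype_card, ← Finset.sum_fiberwise Finset.univ
      (fun x : G => (Quotient.mk'' x : orbitRel.Quotient (MulAut G) G)) wt, mul_comm, ← smul_eq_mul,
      ← Finset.card_univ]
    exact Finset.card_nsmul_le_sum _ _ _ fun o _ => key o
  have hpt : ∀ x, wt x + (if x ∈ Z then q else 0) + (if x ∈ R then q else 0) =
      (if x ∈ Z then p * q else 0) + q + (if x ∈ R then p else 0) := by
    intro x
    simp only [wt]
    by_cases hxZ : x ∈ Z
    · have hxR : x ∉ R := fun h => hdisj.le_bot ⟨hxZ, h⟩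
      simp [hxZ, hxR]
    · by_cases hxR : x ∈ R
      · simp [hxZ, hxR]; ring
      · simp [hxZ, hxR]
  have hind : ∀ (A : Set G) (k : ℕ), ∑ x : G, (if x ∈ A then k else 0) = k * A.ncard := by
    intro A k
    rw [← Finset.sum_filter, Finset.sum_const, smul_eq_mul, mul_comm, Set.ncard_eq_toFinset_card']
    congr 2
    ext; simp
  have htot := Finset.sum_congr rfl (fun x (_ : x ∈ (Finset.univ : Finset G)) => hpt x)
  simp only [Finset.sum_add_distrib, hind, Finset.sum_const, Finset.card_univ, smul_eq_mul] at htot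
  rw [Nat.card_eq_fintype_card (α := G)]
  rw [mul_comm (Fintype.card G) q] at htot
  rw [mul_add]
  omega

theorem card_class_le_orbit (x : G) :
    (Subgroup.centralizer ({x} : Set G)).index ≤ Nat.card (orbit (MulAut G) x) := by
  change (Subgroup.centralizer ({ConjAct.toConjAct x} : Set (ConjAct G))).index ≤ _
  rw [← ConjAct.stabilizer_eq_centralizer, MulAction.index_stabilizer, ← Nat.card_coe_set_eq]
  refine Nat.card_mono (Set.toFinite _) ?_
  rintro _ ⟨g, rfl⟩
  exact ⟨MulAut.conj (ConjAct.ofConjAct g), rfl⟩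

/-- The twisting automorphism. -/
theorem orbit_twist {p : ℕ} [hp : Fact p.Prime] (c : G) (hc : c ∈ Subgroup.center G)
    (hcls : ∀ x : G, x ∉ Subgroup.center G → (x * c) ∈ orbit (MulAut G) x)
    (hcp : orderOf c = p) (i : G →* Multiplicative (ZMod p)) (hiZ : Subgroup.center G ≤ i.ker)
    (Q : ℤ → G) (hQp : ∀ k, Q (k + p) = Q k) (hQ0 : Q 0 = 1)
    (hQmul : ∀ x y : G, ∀ k l : ℤ, i x = Multiplicative.ofAdd (k : ZMod p) →
      i y = Multiplicative.ofAdd (l : ZMod p) → x * Q k * (y * Q l) = x * y * Q (k + l))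
    (hQker : ∀ k, i (Q k) = 1) (hQpow : ∀ k, Q k ^ p ∈ Subgroup.zpowers c) (hQc : ∀ k : ℤ, ¬ (p : ℤ) ∣ k → Q k ∉ Subgroup.zpowers c)
    (x : G) (hx : i x ≠ 1) : p * p ≤ Nat.card (orbit (MulAut G) x) := by
  have hQper : ∀ k l : ℤ, (k : ZMod p) = (l : ZMod p) → Q k = Q l := by
    intro k l hkl
    obtain ⟨t, ht⟩ := (ZMod.intCast_eq_intCast_iff_dvd_sub k l p).mp hkl
    have hnat : ∀ (n : ℕ) (k : ℤ), Q (k + n * p) = Q k := by
      intro n
      induction n with
      | zero => intro k; simp
      | succ n ih =>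
        intro k
        rw [show k + ((n + 1 : ℕ) : ℤ) * p = (k + n * p) + p by push_cast; ring, hQp, ih]
    rcases Int.eq_nat_or_neg t with ⟨n, rfl | rfl⟩
    · rw [show l = k + n * p by linarith [ht], hnat]
    · rw [show k = l + n * p by linarith [ht], hnat]
  let e : G → ℤ := fun x => ((Multiplicative.toAdd (i x)).val : ℤ)
  have he : ∀ x, i x = Multiplicative.ofAdd (e x : ZMod p) := fun x => by
    simp only [e, Int.cast_natCast, ZMod.natCast_zmod_val, ofAdd_toAdd]
  let φ : G →* G := MonoidHom.mk' (fun x => x * Q (e x)) (fun x y => by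
    rw [hQmul x y _ _ (he x) (he y)]
    congr 1
    refine hQper _ _ ?_
    apply Multiplicative.ofAdd.injective
    rw [← he, map_mul, he x, he y, ← ofAdd_add, Int.cast_add])
  have hφi : ∀ x, i (φ x) = i x := fun x => by simp [φ, hQker]
  have hφinj : Function.Injective φ := by
    refine (injective_iff_map_eq_one _).mpr fun y hy => ?_
    have h : i y = 1 := by rw [← hφi, hy, map_one]
    have hQ1 : Q (e y) = 1 := by
      rw [hQper (e y) 0 ?_, hQ0]
      apply Multiplicative.ofAdd.injective
      rw [← he, h, Int.cast_zero, ofAdd_zero]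
    change y * Q (e y) = 1 at hy
    rwa [hQ1, mul_one] at hy
  let Φ : MulAut G := MulEquiv.ofBijective φ (Finite.injective_iff_bijective.mp hφinj)
  have hpow : ∀ k : ℕ, (Φ ^ k) x = x * Q (e x) ^ k := by
    intro k
    have hker : φ (Q (e x)) = Q (e x) := by
      change Q (e x) * Q (e (Q (e x))) = Q (e x)
      rw [hQper (e (Q (e x))) 0 ?_, hQ0, mul_one]
      apply Multiplicative.ofAdd.injective
      rw [← he, hQker, Int.cast_zero, ofAdd_zero]
    induction k with
    | zero => simp
    | succ k ih =>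
      rw [pow_succ', MulAut.mul_apply, ih]
      change φ (x * Q (e x) ^ k) = _
      rw [map_mul, map_pow, hker]
      change x * Q (e x) * Q (e x) ^ k = _
      rw [pow_succ', mul_assoc]
  have hne : ¬ (p : ℤ) ∣ e x := by
    intro h
    apply hx
    rw [he, (ZMod.intCast_zmod_eq_zero_iff_dvd _ _).mpr h, ofAdd_zero]
  set u := Q (e x) with hu
  have hunot : u ∉ Subgroup.zpowers c := hQc _ hne
  have hiu : ∀ k : ℕ, i (x * u ^ k) ≠ 1 := fun k => by rw [map_mul, map_pow, hQker, one_pow, mul_one]; exact hx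
  have hmem : ∀ k j : ℕ, x * u ^ k * c ^ j ∈ orbit (MulAut G) x := by
    intro k j
    induction j with
    | zero => rw [pow_zero, mul_one, ← hpow]; exact ⟨Φ ^ k, rfl⟩
    | succ j ih =>
      have hnc : x * u ^ k * c ^ j ∉ Subgroup.center G := fun h => hiu k (by
        have := hiZ h
        rw [MonoidHom.mem_ker, map_mul, MonoidHom.mem_ker.mp (hiZ ((Subgroup.center G).pow_mem hc j)), mul_one]
          at this
        exact this)
      have h := hcls _ hnc
      rw [mul_assoc _ (c ^ j), ← pow_succ] at h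
      rwa [MulAction.orbit_eq_iff.mpr ih] at h
  let f : Fin p × Fin p → orbit (MulAut G) x := fun a => ⟨x * u ^ (a.1 : ℕ) * c ^ (a.2 : ℕ), hmem _ _⟩
  have hf : Function.Injective f := by
    have hlt : ∀ k k' : ℕ, k ≤ k' → k' < p → ∀ j j' : ℕ, u ^ k * c ^ j = u ^ k' * c ^ j' → k = k' := by
      intro k k' hkk hk' j j' h
      by_contra hne'
      have h2 : u ^ (k' - k) ∈ Subgroup.zpowers c := by
        have : u ^ (k' - k) = c ^ j * (c ^ j')⁻¹ := by
          rw [eq_mul_inv_iff_mul_eq]
          apply mul_left_cancel (a := u ^ k)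
          rw [h, ← mul_assoc, ← pow_add, show k + (k' - k) = k' by omega]
        rw [this]
        exact mul_mem (Subgroup.npow_mem_zpowers c j) (inv_mem (Subgroup.npow_mem_zpowers c j'))
      set C := Subgroup.zpowers c
      haveI : C.Normal := ⟨fun n hn g => by
        rw [Subgroup.mem_center_iff.mp ((Subgroup.zpowers_le.mpr hc) hn) g, mul_inv_cancel_right]; exact hn⟩
      have h3 : ((u : G ⧸ C)) ^ (k' - k) = 1 := by rw [← QuotientGroup.mk_pow]; exact (QuotientGroup.eq_one_iff _).mpr h2
      have h4 : ((u : G ⧸ C)) ^ p = 1 := by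
        rw [← QuotientGroup.mk_pow]
        refine (QuotientGroup.eq_one_iff _).mpr ?_
        exact hQpow _
      have hcop : (k' - k).Coprime p :=
        (Nat.coprime_comm.mp ((Nat.Prime.coprime_iff_not_dvd hp.out).mpr
          (fun hd => by have := Nat.le_of_dvd (by omega) hd; omega)))
      have h5 : (u : G ⧸ C) = 1 := by
        have := pow_gcd_eq_one.mpr ⟨h3, h4⟩
        rwa [hcop.gcd_eq_one, pow_one] at this
      exact hunot ((QuotientGroup.eq_one_iff u).mp h5)
    rintro ⟨k, j⟩ ⟨k', j'⟩ h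
    have h' : u ^ (k : ℕ) * c ^ (j : ℕ) = u ^ (k' : ℕ) * c ^ (j' : ℕ) := by
      have := congrArg Subtype.val h
      simp only [f, mul_assoc, mul_right_inj] at this
      exact this
    have hk : (k : ℕ) = k' := by
      rcases le_total (k : ℕ) k' with hle | hle
      · exact hlt _ _ hle k'.2 _ _ h'
      · exact (hlt _ _ hle k.2 _ _ h'.symm).symm
    rw [hk, mul_right_inj] at h'
    have hj : (j : ℕ) = j' := pow_injOn_Iio_orderOf (Set.mem_Iio.mpr (hcp.symm ▸ j.2))
      (Set.mem_Iio.mpr (hcp.symm ▸ j'.2)) h'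
    exact Prod.ext (Fin.ext hk) (Fin.ext hj)
  have := Nat.card_le_card_of_injective f hf
  rwa [Nat.card_prod, Nat.card_fin] at this

open scoped commutatorElement

/-- Commutation with a fixed element, when commutators are central. -/
noncomputable def ad (hc2 : ∀ x y : G, ⁅x, y⁆ ∈ Subgroup.center G) (x : G) : G →* G :=
  MonoidHom.mk' (fun y => ⁅x, y⁆) fun y z => by
    have h := Subgroup.mem_center_iff.mp (hc2 x z) y
    calc ⁅x, y * z⁆ = ⁅x, y⁆ * (y * ⁅x, z⁆ * y⁻¹) := by simp only [commutatorElement_def]; group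
      _ = ⁅x, y⁆ * ⁅x, z⁆ := by rw [h, mul_inv_cancel_right]

theorem ad_apply (hc2 : ∀ x y : G, ⁅x, y⁆ ∈ Subgroup.center G) (x y : G) : ad hc2 x y = ⁅x, y⁆ := rfl

theorem ad_ker (hc2 : ∀ x y : G, ⁅x, y⁆ ∈ Subgroup.center G) (x : G) :
    (ad hc2 x).ker = Subgroup.centralizer ({x} : Set G) := by
  ext y
  rw [MonoidHom.mem_ker, ad_apply, commutatorElement_eq_one_iff_mul_comm,
    Subgroup.mem_centralizer_singleton_iff, eq_comm]

theorem comm_mul_left (hc2 : ∀ x y : G, ⁅x, y⁆ ∈ Subgroup.center G) (x y z : G) :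
    ⁅x * y, z⁆ = ⁅x, z⁆ * ⁅y, z⁆ := by
  have h := Subgroup.mem_center_iff.mp (hc2 y z)
  calc ⁅x * y, z⁆ = (x * ⁅y, z⁆ * x⁻¹) * ⁅x, z⁆ := by simp only [commutatorElement_def]; group
    _ = ⁅y, z⁆ * ⁅x, z⁆ := by rw [h x, mul_inv_cancel_right]
    _ = ⁅x, z⁆ * ⁅y, z⁆ := (h _).symm

theorem eq_of_common {p : ℕ} [hp : Fact p.Prime] {A B : Subgroup G} (hA : Nat.card A = p) (hB : Nat.card B = p)
    {v : G} (hvA : v ∈ A) (hvB : v ∈ B) (hv : v ≠ 1) : A = B := by
  have ho : orderOf v = p := ((Nat.dvd_prime hp.out).mp (hA ▸ Subgroup.orderOf_dvd_natCard A hvA)).resolve_left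
    fun h => hv (orderOf_eq_one_iff.mp h)
  rw [← Subgroup.eq_of_le_of_card_ge (Subgroup.zpowers_le.mpr hvA) (by rw [hA, Nat.card_zpowers, ho]),
    ← Subgroup.eq_of_le_of_card_ge (Subgroup.zpowers_le.mpr hvB) (by rw [hB, Nat.card_zpowers, ho])]

theorem index_data {p : ℕ} [hp : Fact p.Prime] (hpmin : ∀ d, d ∣ Nat.card G → d ≠ 1 → p ≤ d) (g : G)
    (hg : g ∉ Subgroup.center G) :
    p ≤ (Subgroup.centralizer ({g} : Set G)).index ∧
      (Subgroup.centralizer ({g} : Set G)).index * p * Nat.card (Subgroup.center G) ≤ Nat.card G := by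
  set C := Subgroup.centralizer ({g} : Set G) with hC
  have hne : C.index ≠ 1 := fun h => hg (Subgroup.mem_center_iff.mpr fun y =>
    Subgroup.mem_centralizer_singleton_iff.mp ((Subgroup.index_eq_one.mp h).ge (Subgroup.mem_top y)))
  refine ⟨hpmin _ (Subgroup.index_dvd_card C) hne, ?_⟩
  have hZC : Subgroup.center G ≤ C := fun z hz => Subgroup.mem_centralizer_singleton_iff.mpr
    ((Subgroup.mem_center_iff.mp hz g).symm)
  obtain ⟨k, hk⟩ := Subgroup.card_dvd_of_le hZC
  have hk1 : k ≠ 1 := fun h => hg ((Subgroup.eq_of_le_of_card_ge hZC (by rw [hk, h, mul_one])).ge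
    (Subgroup.mem_centralizer_singleton_iff.mpr rfl))
  have hkp : p ≤ k := hpmin k ((Dvd.intro_left _ hk.symm).trans (Subgroup.card_subgroup_dvd_card C)) hk1
  calc C.index * p * Nat.card (Subgroup.center G)
      ≤ C.index * k * Nat.card (Subgroup.center G) := by gcongr
    _ = Nat.card G := by rw [mul_assoc, mul_comm k, ← hk, mul_comm, Subgroup.card_mul_index]

theorem small_class {p : ℕ} [hp : Fact p.Prime] (hpG : p = (Nat.card G).minFac)
    (hpmin : ∀ d, d ∣ Nat.card G → d ≠ 1 → p ≤ d) (u : G)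
    (hu : (Subgroup.centralizer ({u} : Set G)).index ≤ p) :
    (∀ g : G, Commute (g ^ p) u) ∧ ∀ g h : G, Commute ⁅g, h⁆ u := by
  set C := Subgroup.centralizer ({u} : Set G) with hC
  by_cases h1 : C.index = 1
  · have hall : ∀ y, Commute y u := fun y =>
      Subgroup.mem_centralizer_singleton_iff.mp ((Subgroup.index_eq_one.mp h1).ge (Subgroup.mem_top y))
    exact ⟨fun g => hall _, fun g h => hall _⟩
  have hidx : C.index = p := le_antisymm hu (hpmin _ (Subgroup.index_dvd_card C) h1)
  haveI hn : C.Normal := Subgroup.normal_of_index_eq_minFac_card (hidx.trans hpG)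
  refine ⟨fun g => Subgroup.mem_centralizer_singleton_iff.mp (hidx ▸ Subgroup.pow_index_mem C g),
    fun g h => Subgroup.mem_centralizer_singleton_iff.mp ?_⟩
  rw [← QuotientGroup.eq_one_iff (N := C)]
  change QuotientGroup.mk' C ⁅g, h⁆ = 1
  haveI : IsCyclic (G ⧸ C) := isCyclic_of_prime_card (p := p) (by rw [← Subgroup.index_eq_card, hidx])
  rw [map_commutatorElement, commutatorElement_eq_one_iff_commute]
  obtain ⟨q, hq⟩ := IsCyclic.exists_generator (α := G ⧸ C)
  obtain ⟨i, hi⟩ := Subgroup.mem_zpowers_iff.mp (hq (QuotientGroup.mk' C g))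
  obtain ⟨j, hj⟩ := Subgroup.mem_zpowers_iff.mp (hq (QuotientGroup.mk' C h))
  rw [← hi, ← hj]
  exact (Commute.refl q).zpow_zpow i j

theorem coord {p : ℕ} [hp : Fact p.Prime] (hc2 : ∀ x y : G, ⁅x, y⁆ ∈ Subgroup.center G) (c : G)
    (hcp : orderOf c = p) (hall : ∀ x y : G, ⁅x, y⁆ ∈ Subgroup.zpowers c) (b : G) :
    ∃ i : G →* Multiplicative (ZMod p), (∀ y, ∀ k : ℤ, i y = Multiplicative.ofAdd (k : ZMod p) ↔ ⁅b, y⁆ = c ^ k) := by
  have hiff : ∀ k l : ℤ, c ^ k = c ^ l ↔ (k : ZMod p) = (l : ZMod p) := fun k l => by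
    rw [zpow_eq_zpow_iff_modEq, hcp, ZMod.intCast_eq_intCast_iff]
  choose n hn using fun y => Subgroup.mem_zpowers_iff.mp (hall b y)
  refine ⟨MonoidHom.mk' (fun y => Multiplicative.ofAdd (n y : ZMod p)) (fun y z => ?_), fun y k => ?_⟩
  · rw [← ofAdd_add, ← Int.cast_add, Multiplicative.ofAdd.apply_eq_iff_eq, ← hiff, zpow_add, hn, hn, hn]
    exact map_mul (ad hc2 b) y z
  · rw [MonoidHom.mk'_apply, Multiplicative.ofAdd.apply_eq_iff_eq, ← hiff, hn]

/-- `k (k - 1) / 2`. -/
def tri (k : ℤ) : ℤ := k * (k - 1) / 2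

theorem two_tri (k : ℤ) : 2 * tri k = k * (k - 1) :=
  Int.mul_ediv_cancel' (Int.even_mul_pred_self k).two_dvd

theorem pow_mul_center {p : ℕ} (hc2 : ∀ x y : G, ⁅x, y⁆ ∈ Subgroup.center G) (x y : G) :
    (x * y) ^ p = x ^ p * y ^ p * ⁅y, x⁆ ^ p.choose 2 :=
  Agent.Transfer.mul_pow_of_commute ((Subgroup.mem_center_iff.mp (hc2 y x) x).symm)
    ((Subgroup.mem_center_iff.mp (hc2 y x) y).symm) p

/-- The element `v` used for twisting. -/
theorem exists_twister {p : ℕ} [hp : Fact p.Prime] (hc2 : ∀ x y : G, ⁅x, y⁆ ∈ Subgroup.center G)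
    (hpz : ∀ x : G, x ^ p ∈ Subgroup.center G) (c : G) (hcp : orderOf c = p) (hcZ : c ∈ Subgroup.center G)
    (hall : ∀ x y : G, ⁅x, y⁆ ∈ Subgroup.zpowers c)
    (hΩ : ∀ z ∈ Subgroup.center G, z ^ p = 1 → z ∈ Subgroup.zpowers c)
    (a b : G) (hab : ⁅a, b⁆ ≠ 1) :
    ∃ v : G, v ∉ Subgroup.center G ∧ v ^ p * c ^ p.choose 2 = 1 := by
  let Z := Subgroup.center G
  let π : Z →* Z := MonoidHom.mk' (fun z => z ^ p) fun z w => Commute.mul_pow (show Commute z w from Subtype.ext (Subgroup.mem_center_iff.mp w.2 z)) p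
  set P := π.range with hP
  have hker : Nat.card π.ker = p := by
    have hle : π.ker.map Z.subtype = Subgroup.zpowers c := by
      refine le_antisymm ?_ (Subgroup.zpowers_le.mpr ⟨⟨c, hcZ⟩, Subtype.ext (show c ^ p = 1 by rw [← hcp, pow_orderOf_eq_one]), rfl⟩)
      rintro _ ⟨z, hz, rfl⟩
      exact hΩ _ z.2 (congrArg Subtype.val (MonoidHom.mem_ker.mp hz))
    rw [← Subgroup.card_map_of_injective Z.subtype_injective, hle, Nat.card_zpowers, hcp]
  have hidx : Nat.card (Z ⧸ P) = p := by
    have h1 := Subgroup.card_eq_card_quotient_mul_card_subgroup P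
    have h2 := Subgroup.card_eq_card_quotient_mul_card_subgroup π.ker
    rw [Nat.card_congr (QuotientGroup.quotientKerEquivRange π).toEquiv, hker, mul_comm] at h2
    rw [h2] at h1
    exact (Nat.eq_of_mul_eq_mul_right Nat.card_pos h1).symm
  have hanc : a ∉ Z := fun h => hab (commutatorElement_eq_one_iff_mul_comm.mpr
    ((Subgroup.mem_center_iff.mp h b).symm))
  have hbnc : b ∉ Z := fun h => hab (commutatorElement_eq_one_iff_mul_comm.mpr
    (Subgroup.mem_center_iff.mp h a))
  have hnc : ∀ x : G, ⁅a, x⁆ ≠ 1 → x ∉ Z := fun x hx h => hx (commutatorElement_eq_one_iff_mul_comm.mpr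
    (Subgroup.mem_center_iff.mp h a))
  set t : Z := (⟨c, hcZ⟩ : Z) ^ p.choose 2 with ht
  -- correcting by a central element
  have hfix : ∀ x : G, x ∉ Z → (⟨x ^ p, hpz x⟩ : Z) * t ∈ P → ∃ v : G, v ∉ Z ∧ v ^ p * c ^ p.choose 2 = 1 := by
    intro x hx hmem
    obtain ⟨r, hr⟩ := hmem
    refine ⟨x * (r : G)⁻¹, fun h => hx ((mul_mem_cancel_right (Z.inv_mem r.2)).mp h), ?_⟩
    have hr' : (r : G) ^ p = x ^ p * c ^ p.choose 2 := congrArg Subtype.val hr
    rw [(show Commute x (r : G)⁻¹ from (Subgroup.mem_center_iff.mp (Z.inv_mem r.2) x)).mul_pow, inv_pow, hr',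
      mul_inv_rev]
    have hcc : ∀ y, Commute (c ^ p.choose 2) y := fun y =>
      (Subgroup.mem_center_iff.mp (Z.pow_mem hcZ _) y).symm
    rw [← mul_assoc, (hcc (x ^ p)).inv_left.symm.eq, mul_assoc, mul_assoc, ← mul_assoc (x ^ p),
      mul_inv_cancel, one_mul, inv_mul_cancel]
  by_cases htP : t ∈ P
  · -- `x ↦ x ^ p` is linear modulo `P`
    let f : G →* Z ⧸ P := MonoidHom.mk' (fun x => QuotientGroup.mk (⟨x ^ p, hpz x⟩ : Z)) (fun x y => by
      obtain ⟨k, hk⟩ := Subgroup.mem_zpowers_iff.mp (hall y x)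
      have : (⟨(x * y) ^ p, hpz _⟩ : Z) = ⟨x ^ p, hpz x⟩ * ⟨y ^ p, hpz y⟩ * t ^ k := by
        refine Subtype.ext ?_
        change (x * y) ^ p = x ^ p * y ^ p * ((t ^ k : Z) : G)
        rw [pow_mul_center hc2, Subgroup.coe_zpow, ht, Subgroup.coe_pow, ← hk, ← zpow_natCast (c ^ k),
          ← zpow_natCast c (p.choose 2), ← zpow_mul, ← zpow_mul, mul_comm k]
      rw [this, QuotientGroup.mk_mul, QuotientGroup.mk_mul, (QuotientGroup.eq_one_iff (t ^ k)).mpr
        (P.zpow_mem htP k), mul_one])
    have hmem : ∀ x : G, f x = 1 → (⟨x ^ p, hpz x⟩ : Z) * t ∈ P := fun x hx =>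
      P.mul_mem ((QuotientGroup.eq_one_iff _).mp hx) htP
    by_cases hfa : f a = 1
    · exact hfix a hanc (hmem a hfa)
    obtain ⟨k, hk⟩ := Subgroup.mem_zpowers_iff.mp (mem_zpowers_of_prime_card hidx hfa (g' := f b))
    refine hfix (b * (a ^ k)⁻¹) (hnc _ ?_) (hmem _ (by rw [map_mul, map_inv, map_zpow, hk, mul_inv_cancel]))
    rw [← ad_apply hc2, map_mul, map_inv, map_zpow, ad_apply, ad_apply, commutatorElement_self, one_zpow,
      inv_one, mul_one]
    exact hab
  · have hp2 : p = 2 := by
      by_contra hne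
      obtain ⟨d, hd⟩ : p ∣ p.choose 2 :=
        hp.out.dvd_choose_self two_ne_zero (lt_of_le_of_ne hp.out.two_le (Ne.symm hne))
      refine htP ?_
      have ht1 : t = 1 := Subtype.ext (by
        rw [ht, Subgroup.coe_pow, hd, pow_mul, show c ^ p = 1 by rw [← hcp, pow_orderOf_eq_one], one_pow]
        rfl)
      rw [ht1]
      exact one_mem P
    have h2idx : P.index = 2 := by rw [Subgroup.index_eq_card, hidx, hp2]
    have hout : ∀ x : G, (⟨x ^ p, hpz x⟩ : Z) ∉ P → (⟨x ^ p, hpz x⟩ : Z) * t ∈ P := fun x hx =>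
      (Subgroup.mul_mem_iff_of_index_two h2idx).mpr ⟨fun h => absurd h hx, fun h => absurd h htP⟩
    by_cases ha : (⟨a ^ p, hpz a⟩ : Z) ∈ P
    · by_cases hb : (⟨b ^ p, hpz b⟩ : Z) ∈ P
      · refine hfix (a * b) (hnc _ ?_) (hout _ ?_)
        · rw [← ad_apply hc2, map_mul, ad_apply, ad_apply, commutatorElement_self, one_mul]
          exact hab
        · intro h
          obtain ⟨k, hk⟩ := Subgroup.mem_zpowers_iff.mp (hall b a)
          have hba : ⁅b, a⁆ = c := by
            have hne : ⁅b, a⁆ ≠ 1 := fun h0 => hab (by rw [← commutatorElement_inv, h0, inv_one])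
            have hkodd : ¬ (2 : ℤ) ∣ k := by
              intro hd
              obtain ⟨j, hj⟩ := hd
              apply hne
              rw [← hk, hj, zpow_mul, zpow_ofNat, ← hp2, ← hcp, pow_orderOf_eq_one, one_zpow]
            rw [← hk]
            conv_rhs => rw [← zpow_one c]
            rw [zpow_eq_zpow_iff_modEq, hcp, hp2]
            exact (Int.odd_iff.mp (Int.not_even_iff_odd.mp fun he => hkodd (even_iff_two_dvd.mp he)))
          refine htP ?_
          have he : t = (⟨a ^ p, hpz a⟩ * ⟨b ^ p, hpz b⟩ : Z)⁻¹ * ⟨(a * b) ^ p, hpz _⟩ := by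
            refine Subtype.ext ?_
            change c ^ p.choose 2 = (a ^ p * b ^ p)⁻¹ * (a * b) ^ p
            rw [pow_mul_center hc2, hba, inv_mul_cancel_left]
          rw [he]
          exact P.mul_mem (P.inv_mem (P.mul_mem ha hb)) h
      · exact hfix b hbnc (hout b hb)
    · exact hfix a hanc (hout a ha)

theorem bound_class_two {p : ℕ} [hp : Fact p.Prime] (hpmin : ∀ d, d ∣ Nat.card G → d ≠ 1 → p ≤ d)
    (hna : ¬ IsMulCommutative G) (hc2 : ∀ x y : G, ⁅x, y⁆ ∈ Subgroup.center G)
    (hpz : ∀ x : G, x ^ p ∈ Subgroup.center G)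
    (hsmall : ∀ x : G, (Subgroup.centralizer ({x} : Set G)).index ≤ p) :
    p * Nat.card (orbitRel.Quotient (MulAut G) G) ≤ Nat.card G := by
  have hr : ∀ x, x ∉ Subgroup.center G → Nat.card (ad hc2 x).range = p := fun x hx => by
    rw [← Subgroup.index_ker, ad_ker]
    exact le_antisymm (hsmall x) (index_data hpmin x hx).1
  have hr' : ∀ x, Nat.card (ad hc2 x).range ≤ p := fun x => by
    rw [← Subgroup.index_ker, ad_ker]
    exact hsmall x
  have hncomm : ∀ x y : G, ⁅x, y⁆ ≠ 1 → x ∉ Subgroup.center G := fun x y h hx =>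
    h (commutatorElement_eq_one_iff_mul_comm.mpr ((Subgroup.mem_center_iff.mp hx y).symm))
  have hsame : ∀ a b, a ∉ Subgroup.center G → b ∉ Subgroup.center G → (ad hc2 a).range = (ad hc2 b).range := by
    intro a b ha hb
    by_contra hne
    obtain ⟨g, hag, hbg⟩ : ∃ g : G, ⁅a, g⁆ ≠ 1 ∧ ⁅b, g⁆ ≠ 1 := by
      by_contra hno
      push Not at hno
      obtain ⟨g1, hg1⟩ : ∃ g : G, ⁅a, g⁆ ≠ 1 := by
        by_contra h0
        push Not at h0
        exact ha (Subgroup.mem_center_iff.mpr fun y => (commutatorElement_eq_one_iff_mul_comm.mp (h0 y)).symm)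
      obtain ⟨g2, hg2⟩ : ∃ g : G, ⁅b, g⁆ ≠ 1 := by
        by_contra h0
        push Not at h0
        exact hb (Subgroup.mem_center_iff.mpr fun y => (commutatorElement_eq_one_iff_mul_comm.mp (h0 y)).symm)
      have h1 : ⁅a, g1 * g2⁆ ≠ 1 := by
        rw [← ad_apply hc2, map_mul, ad_apply, ad_apply]
        rw [show ⁅a, g2⁆ = 1 from by_contra fun h => hg2 (hno g2 h), mul_one]
        exact hg1
      have h2 := hno (g1 * g2) h1
      rw [← ad_apply hc2, map_mul, ad_apply, ad_apply, hno g1 hg1, one_mul] at h2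
      exact hg2 h2
    have hg : g ∉ Subgroup.center G := fun h => hag (commutatorElement_eq_one_iff_mul_comm.mpr
      (Subgroup.mem_center_iff.mp h a))
    have hin : ∀ x : G, ⁅g, x⁆ ∈ (ad hc2 x).range := fun x => by
      rw [← commutatorElement_inv]
      exact inv_mem ⟨g, rfl⟩
    have hne1 : ∀ x : G, ⁅x, g⁆ ≠ 1 → ⁅g, x⁆ ≠ 1 := fun x h h0 => h (by rw [← commutatorElement_inv, h0, inv_one])
    exact hne ((eq_of_common (hr a ha) (hr g hg) (hin a) ⟨a, rfl⟩ (hne1 a hag)).trans
      (eq_of_common (hr b hb) (hr g hg) (hin b) ⟨b, rfl⟩ (hne1 b hbg)).symm)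
  obtain ⟨a, b, hab⟩ : ∃ a b : G, ⁅a, b⁆ ≠ 1 := by
    by_contra h0
    push Not at h0
    exact hna ⟨⟨fun x y => commutatorElement_eq_one_iff_mul_comm.mp (h0 x y)⟩⟩
  set c := ⁅a, b⁆ with hc
  have haZ := hncomm a b hab
  have hca : Subgroup.zpowers c = (ad hc2 a).range := by
    have ho : orderOf c = p := ((Nat.dvd_prime hp.out).mp
      (hr a haZ ▸ Subgroup.orderOf_dvd_natCard (ad hc2 a).range ⟨b, rfl⟩)).resolve_left
      fun h => hab (orderOf_eq_one_iff.mp h)
    exact Subgroup.eq_of_le_of_card_ge (Subgroup.zpowers_le.mpr ⟨b, rfl⟩) (by rw [hr a haZ, Nat.card_zpowers, ho])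
  have hcp : orderOf c = p := by rw [← Nat.card_zpowers, hca, hr a haZ]
  have hall : ∀ x y : G, ⁅x, y⁆ ∈ Subgroup.zpowers c := by
    intro x y
    by_cases h : ⁅x, y⁆ = 1
    · rw [h]; exact one_mem _
    · rw [hca, hsame a x haZ (hncomm x y h)]
      exact ⟨y, rfl⟩
  have hcZ : c ∈ Subgroup.center G := hc2 a b
  have hcls : ∀ x : G, x ∉ Subgroup.center G → x * c ∈ orbit (MulAut G) x := by
    intro x hx
    have hx' : x⁻¹ ∉ Subgroup.center G := fun h => hx (by simpa using inv_mem h)
    have : c ∈ (ad hc2 x⁻¹).range := by rw [← hsame a x⁻¹ haZ hx', ← hca]; exact Subgroup.mem_zpowers c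
    obtain ⟨g, hg⟩ := this
    refine ⟨MulAut.conj g, ?_⟩
    change g * x * g⁻¹ = x * c
    rw [← hg, ad_apply, commutatorElement_def]
    group
  obtain ⟨i, Q, hiZ, hine, hQp, hQ0, hQmul, hQker, hQpow, hQc⟩ : ∃ (i : G →* Multiplicative (ZMod p)) (Q : ℤ → G),
      Subgroup.center G ≤ i.ker ∧ (∃ y, i y ≠ 1) ∧ (∀ k, Q (k + p) = Q k) ∧ Q 0 = 1 ∧
      (∀ x y : G, ∀ k l : ℤ, i x = Multiplicative.ofAdd (k : ZMod p) →
        i y = Multiplicative.ofAdd (l : ZMod p) → x * Q k * (y * Q l) = x * y * Q (k + l)) ∧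
      (∀ k, i (Q k) = 1) ∧ (∀ k, Q k ^ p ∈ Subgroup.zpowers c) ∧
      (∀ k : ℤ, ¬ (p : ℤ) ∣ k → Q k ∉ Subgroup.zpowers c) := by
    by_cases hΩ : ∀ z ∈ Subgroup.center G, z ^ p = 1 → z ∈ Subgroup.zpowers c
    · obtain ⟨v, hv, hvp⟩ := exists_twister hc2 hpz c hcp hcZ hall hΩ a b hab
      obtain ⟨i, hi⟩ := coord hc2 c hcp hall v
      have hiZ : Subgroup.center G ≤ i.ker := fun z hz => by
        have h1 : ⁅v, z⁆ = c ^ (0 : ℤ) := by
          rw [zpow_zero]
          exact commutatorElement_eq_one_iff_mul_comm.mpr (Subgroup.mem_center_iff.mp hz v)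
        rw [MonoidHom.mem_ker, (hi z 0).mpr h1]
        rw [Int.cast_zero, ofAdd_zero]
      have hcen : ∀ (k : ℤ) (g : G), Commute (c ^ k) g := fun k g =>
        (Subgroup.mem_center_iff.mp ((Subgroup.center G).zpow_mem hcZ k) g).symm
      have hiv : i v = 1 := by
        rw [(hi v 0).mpr (by rw [zpow_zero, commutatorElement_self]), Int.cast_zero, ofAdd_zero]
      have hivc : ∀ k : ℤ, i (v ^ k * c ^ tri k) = 1 := fun k => by
        rw [map_mul, map_zpow, map_zpow, hiv, MonoidHom.mem_ker.mp (hiZ hcZ), one_zpow, one_zpow, one_mul]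
      refine ⟨i, fun k => v ^ k * c ^ tri k, hiZ, ?_, ?_, ?_, ?_, hivc, ?_, ?_⟩
      · by_contra h0
        push Not at h0
        refine hv (Subgroup.mem_center_iff.mpr fun y => (commutatorElement_eq_one_iff_mul_comm.mp ?_).symm)
        rw [← zpow_zero c]
        exact (hi y 0).mp (by rw [h0, Int.cast_zero, ofAdd_zero])
      · intro k
        have ht : tri (k + p) = tri k + (p.choose 2 : ℕ) + k * p := by
          have h1 := two_tri k
          have h2 := two_tri (k + p)
          have h3 : (2 : ℤ) * (p.choose 2 : ℕ) = (p : ℤ) * ((p : ℤ) - 1) := by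
            rw [Nat.choose_two_right]
            have h : 2 * (p * (p - 1) / 2) = p * (p - 1) := Nat.mul_div_cancel' (Nat.even_mul_pred_self p).two_dvd
            have h' : ((2 * (p * (p - 1) / 2) : ℕ) : ℤ) = ((p * (p - 1) : ℕ) : ℤ) := by rw [h]
            push_cast [Nat.cast_sub hp.out.one_le] at h' ⊢
            exact h'
          nlinarith [h1, h2, h3]
        have hck : c ^ (k * (p : ℤ)) = 1 := by
          rw [mul_comm, zpow_mul, zpow_natCast, ← hcp, pow_orderOf_eq_one, one_zpow]
        show v ^ (k + p) * c ^ tri (k + p) = v ^ k * c ^ tri k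
        rw [ht, zpow_add, zpow_natCast, zpow_add (a := c), hck, mul_one, zpow_add (a := c), (hcen _ _).eq, zpow_natCast,
          mul_assoc, ← mul_assoc (v ^ p), hvp, one_mul]
      · show v ^ (0 : ℤ) * c ^ tri 0 = 1
        rw [show tri 0 = 0 from rfl, zpow_zero, zpow_zero, one_mul]
      · intro x y k l _ hy
        have hconj : y⁻¹ * v * y = v * c ^ l := by
          rw [← (hi y l).mp hy]
          have h1 : ⁅v, y⁆ = ⁅v⁻¹, y⁻¹⁆ := by
            have e1 : ⁅v⁻¹, y⁻¹⁆ = ⁅v, y⁻¹⁆⁻¹ := by
              rw [eq_inv_iff_mul_eq_one, ← comm_mul_left hc2, inv_mul_cancel, commutatorElement_one_left]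
            rw [e1, ← ad_apply hc2 v y⁻¹, map_inv, inv_inv, ad_apply]
          rw [h1, commutatorElement_def]
          group
        have hconjk : y⁻¹ * v ^ k * y = v ^ k * c ^ (l * k) := by
          have h := congrArg (fun g => g ^ k) hconj
          rw [(show Commute v (c ^ l) from (hcen l v).symm).mul_zpow, ← zpow_mul] at h
          rw [← h]
          have := conj_zpow (a := y⁻¹) (b := v) (i := k)
          rw [inv_inv] at this
          exact this.symm
        have ht : tri (k + l) = tri k + tri l + l * k := by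
          have h1 := two_tri k
          have h2 := two_tri l
          have h3 := two_tri (k + l)
          nlinarith [h1, h2, h3]
        have hvk : v ^ k * y = y * (v ^ k * c ^ (l * k)) := by
          rw [← hconjk]; group
        show x * (v ^ k * c ^ tri k) * (y * (v ^ l * c ^ tri l)) = x * y * (v ^ (k + l) * c ^ tri (k + l))
        calc x * (v ^ k * c ^ tri k) * (y * (v ^ l * c ^ tri l))
            = x * (v ^ k * y) * (c ^ tri k * v ^ l) * c ^ tri l := by
              simp only [← mul_assoc]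
              rw [mul_assoc (x * v ^ k) (c ^ tri k) y, (hcen _ y).eq, ← mul_assoc]
          _ = x * y * (v ^ k * (c ^ (l * k) * v ^ l) * c ^ tri k * c ^ tri l) := by
              rw [hvk, (hcen _ (v ^ l)).eq]; simp only [mul_assoc]
          _ = x * y * (v ^ (k + l) * c ^ tri (k + l)) := by
              rw [(hcen _ (v ^ l)).eq, ht, zpow_add v, zpow_add c, zpow_add c]
              simp only [mul_assoc]
              rw [← mul_assoc (c ^ (l * k)), (hcen (l * k) (c ^ tri k)).eq, mul_assoc (c ^ tri k),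
                (hcen (l * k) (c ^ tri l)).eq]
      · intro k
        show (v ^ k * c ^ tri k) ^ p ∈ Subgroup.zpowers c
        rw [(hcen _ (v ^ k)).symm.mul_pow, ← zpow_natCast, ← zpow_mul, mul_comm, zpow_mul, zpow_natCast]
        refine mul_mem (Subgroup.zpow_mem _ ?_ k) (pow_mem (zpow_mem (Subgroup.mem_zpowers c) _) _)
        rw [eq_inv_of_mul_eq_one_left hvp]
        exact inv_mem (Subgroup.npow_mem_zpowers c _)
      · intro k hk hmem
        have hvkC : v ^ k ∈ Subgroup.zpowers c :=
          (Subgroup.mul_mem_cancel_right _ (zpow_mem (Subgroup.mem_zpowers c) (tri k))).mp hmem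
        obtain ⟨s, t, hst⟩ : ∃ s t : ℤ, (p : ℤ) * s + k * t = 1 := by
          obtain ⟨s, t, h⟩ := (Prime.coprime_iff_not_dvd (Nat.prime_iff_prime_int.mp hp.out)).mpr hk
          exact ⟨s, t, by rw [mul_comm _ s, mul_comm k t]; exact h⟩
        refine hv ?_
        rw [← zpow_one v, ← hst, zpow_add, zpow_mul, zpow_mul, zpow_natCast]
        exact mul_mem ((Subgroup.center G).zpow_mem (hpz v) s)
          ((Subgroup.center G).zpow_mem (Subgroup.zpowers_le.mpr hcZ hvkC) t)
    · push Not at hΩ
      obtain ⟨z0, hz0Z, hz0p, hz0c⟩ := hΩ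
      obtain ⟨i, hi⟩ := coord hc2 c hcp hall a
      have hiZ : Subgroup.center G ≤ i.ker := fun z hz => by
        have h1 : ⁅a, z⁆ = c ^ (0 : ℤ) := by
          rw [zpow_zero]
          exact commutatorElement_eq_one_iff_mul_comm.mpr (Subgroup.mem_center_iff.mp hz a)
        rw [MonoidHom.mem_ker, (hi z 0).mpr h1]
        rw [Int.cast_zero, ofAdd_zero]
      refine ⟨i, fun k => z0 ^ k, hiZ, ⟨b, ?_⟩, ?_, ?_, ?_, ?_, ?_, ?_⟩
      · intro h
        refine hab ?_
        rw [← zpow_zero c]
        exact (hi b 0).mp (by rw [h, Int.cast_zero, ofAdd_zero])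
      · intro k
        show z0 ^ (k + p) = z0 ^ k
        rw [zpow_add, zpow_natCast, hz0p, mul_one]
      · exact zpow_zero z0
      · intro x y k l _ _
        show x * z0 ^ k * (y * z0 ^ l) = x * y * z0 ^ (k + l)
        rw [zpow_add, ← mul_assoc (x * z0 ^ k), mul_assoc x (z0 ^ k) y,
          ← Subgroup.mem_center_iff.mp ((Subgroup.center G).zpow_mem hz0Z k) y]
        group
      · intro k
        exact MonoidHom.mem_ker.mp (hiZ ((Subgroup.center G).zpow_mem hz0Z k))
      · intro k
        show (z0 ^ k) ^ p ∈ Subgroup.zpowers c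
        rw [← zpow_natCast, ← zpow_mul, mul_comm, zpow_mul, zpow_natCast, hz0p, one_zpow]
        exact one_mem _
      · intro k hk hmem
        obtain ⟨s, t, hst⟩ := (Prime.coprime_iff_not_dvd (Nat.prime_iff_prime_int.mp hp.out)).mpr hk
        refine hz0c ?_
        rw [← zpow_one z0, ← hst, zpow_add, mul_comm s, mul_comm t, zpow_mul, zpow_mul, zpow_natCast, hz0p,
          one_zpow, one_mul]
        exact zpow_mem hmem t
  -- counting
  set R : Set G := {x | i x ≠ 1} with hR
  have hdisj : Disjoint (Subgroup.center G : Set G) R :=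
    Set.disjoint_left.mpr fun x hxZ hxR => hxR (hiZ hxZ)
  have h := orbit_count (Subgroup.center G : Set G) R hdisj p (p * p) hp.out.pos (Nat.mul_pos hp.out.pos hp.out.pos)
    (fun x hx => (index_data hpmin x hx).1.trans (card_class_le_orbit x))
    (fun x hx => orbit_twist c hcZ hcls hcp i hiZ Q hQp hQ0 hQmul hQker hQpow hQc x hx)
  obtain ⟨y, hy⟩ := hine
  have hrange : Nat.card i.range = p := by
    haveI : NeZero p := ⟨hp.out.ne_zero⟩
    have hd := Subgroup.card_subgroup_dvd_card i.range
    rw [Nat.card_congr Multiplicative.toAdd, Nat.card_zmod] at hd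
    refine ((Nat.dvd_prime hp.out).mp hd).resolve_left fun h1 => hy ?_
    exact Subgroup.mem_bot.mp (Subgroup.card_eq_one.mp h1 ▸ ⟨y, rfl⟩)
  have hm : Nat.card G = p * Nat.card i.ker := by
    rw [← Subgroup.card_mul_index i.ker, Subgroup.index_ker, hrange, mul_comm]
  have hR' : Nat.card i.ker + R.ncard = Nat.card G := by
    have : R = (i.ker : Set G)ᶜ := rfl
    rw [this, ← Set.ncard_add_ncard_compl (i.ker : Set G), ← Nat.card_coe_set_eq (i.ker : Set G)]
    rfl
  have hz := (index_data hpmin a haZ).2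
  have hidxa := (index_data hpmin a haZ).1
  set z := Nat.card (Subgroup.center G)
  have hzc : (Subgroup.center G : Set G).ncard = z := (Nat.card_coe_set_eq _).symm
  rw [hzc] at h
  set m := Nat.card i.ker
  set O := Nat.card (orbitRel.Quotient (MulAut G) G)
  set n := Nat.card G
  set r := R.ncard
  have hp2 := hp.out.two_le
  have hzm : p * z ≤ m := by
    have h1 : p * p * z ≤ p * m := by rw [← hm]; exact le_trans (by gcongr) hz
    rw [mul_assoc] at h1
    exact Nat.le_of_mul_le_mul_left h1 hp.out.pos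
  refine le_of_mul_le_mul_left (a := p * p) ?_ (Nat.mul_pos hp.out.pos hp.out.pos)
  zify at h hR' hm hzm hp2 ⊢
  nlinarith [mul_le_mul_of_nonneg_left hzm (show (0:ℤ) ≤ ((p:ℤ) - 1) from by linarith),
    mul_nonneg (show (0:ℤ) ≤ ((p:ℤ) - 1) * ((p:ℤ) - 2) from mul_nonneg (by linarith) (by linarith)) (Int.natCast_nonneg m)]

theorem bound_large {p : ℕ} [hp : Fact p.Prime] (hpG : p = (Nat.card G).minFac)
    (hpmin : ∀ d, d ∣ Nat.card G → d ≠ 1 → p ≤ d)
    (g : G) (hg : p < (Subgroup.centralizer ({g} : Set G)).index) :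
    p * Nat.card (orbitRel.Quotient (MulAut G) G) ≤ Nat.card G := by
  set R : Set G := {x | p < (Subgroup.centralizer ({x} : Set G)).index} with hR
  have hRZ : ∀ x ∈ R, x ∉ Subgroup.center G := by
    intro x hx hxZ
    have : Subgroup.centralizer ({x} : Set G) = ⊤ := eq_top_iff.mpr fun y _ =>
      Subgroup.mem_centralizer_singleton_iff.mpr (Subgroup.mem_center_iff.mp hxZ y)
    have hx' : p < (Subgroup.centralizer ({x} : Set G)).index := hx
    rw [this, Subgroup.index_top] at hx'
    exact absurd hx' (not_lt.mpr hp.out.one_lt.le)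
  have hdisj : Disjoint (Subgroup.center G : Set G) R :=
    Set.disjoint_left.mpr fun x hxZ hxR => hRZ x hxR hxZ
  have hzc : (Subgroup.center G : Set G).ncard = Nat.card (Subgroup.center G) := (Nat.card_coe_set_eq _).symm
  set z := Nat.card (Subgroup.center G) with hz
  have hp1 : ∀ x, x ∉ (Subgroup.center G : Set G) → p ≤ Nat.card (orbit (MulAut G) x) :=
    fun x hx => (index_data hpmin x hx).1.trans (card_class_le_orbit x)
  have hgd := (index_data hpmin g (hRZ g hg)).2
  have hp2 := hp.out.two_le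
  set H := Subgroup.closure {x : G | (Subgroup.centralizer ({x} : Set G)).index ≤ p} with hH
  by_cases htop : H = ⊤
  · have hcen : ∀ w : G, (∀ u : G, (Subgroup.centralizer ({u} : Set G)).index ≤ p → Commute w u) →
        w ∈ Subgroup.center G := by
      intro w hw
      have hle : H ≤ Subgroup.centralizer ({w} : Set G) := (Subgroup.closure_le _).mpr fun u hu =>
        Subgroup.mem_centralizer_singleton_iff.mpr (hw u hu).symm
      rw [htop] at hle
      exact Subgroup.mem_center_iff.mpr fun y => Subgroup.mem_centralizer_singleton_iff.mp (hle (Subgroup.mem_top y))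
    have hpz : ∀ x : G, x ^ p ∈ Subgroup.center G := fun x => hcen _ fun u hu => (small_class hpG hpmin u hu).1 x
    have hQ : IsPGroup p (G ⧸ Subgroup.center G) := by
      intro q
      obtain ⟨x, rfl⟩ := QuotientGroup.mk_surjective q
      exact ⟨1, by rw [pow_one, ← QuotientGroup.mk_pow]; exact (QuotientGroup.eq_one_iff _).mpr (hpz x)⟩
    have hbig : ∀ x ∈ R, p * p ≤ (Subgroup.centralizer ({x} : Set G)).index := by
      intro x hx
      have hle : Subgroup.center G ≤ Subgroup.centralizer ({x} : Set G) := fun w hw =>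
        Subgroup.mem_centralizer_singleton_iff.mpr ((Subgroup.mem_center_iff.mp hw x).symm)
      obtain ⟨k, hk⟩ := IsPGroup.iff_card.mp hQ
      have hd := Subgroup.index_dvd_of_le hle
      rw [Subgroup.index_eq_card (Subgroup.center G), hk] at hd
      obtain ⟨j, -, hj⟩ := (Nat.dvd_prime_pow hp.out).mp hd
      have hx' : p < (Subgroup.centralizer ({x} : Set G)).index := hx
      rw [hj] at hx' ⊢
      rw [← sq]
      refine Nat.pow_le_pow_right hp.out.pos ?_
      by_contra h
      have : p ^ j ≤ p := by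
        rcases (show j = 0 ∨ j = 1 by omega) with rfl | rfl <;> simp [hp.out.one_lt.le]
      omega
    -- a further element of large class
    have hgen : ∀ (j : ℕ) (w : G), w ∈ Subgroup.center G → ¬ p ∣ j → g ^ j * w ∈ R := by
      intro j w hw hpj
      have heq : Subgroup.centralizer ({g ^ j * w} : Set G) ≤ Subgroup.centralizer ({g} : Set G) := by
        intro y hy
        rw [Subgroup.mem_centralizer_singleton_iff] at hy ⊢
        have hyj : Commute y (g ^ j) := by
          have h1 : Commute y (g ^ j * w) := hy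
          have h2 := h1.mul_right (show Commute y w⁻¹ from Subgroup.mem_center_iff.mp (inv_mem hw) y)
          rwa [mul_inv_cancel_right] at h2
        have hyp : Commute y (g ^ p) := Subgroup.mem_center_iff.mp (hpz g) y
        obtain ⟨s, t, hst⟩ := (Nat.Coprime.isCoprime ((Nat.Prime.coprime_iff_not_dvd hp.out).mpr hpj))
        have h3 := (hyp.zpow_right s).mul_right (hyj.zpow_right t)
        rwa [← zpow_natCast g p, ← zpow_natCast g j, ← zpow_mul, ← zpow_mul, ← zpow_add, mul_comm _ s, mul_comm _ t,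
          hst, zpow_one] at h3
      exact lt_of_lt_of_le hg (Nat.le_of_dvd (Nat.pos_of_ne_zero Subgroup.index_ne_zero_of_finite)
        (Subgroup.index_dvd_of_le heq))
    obtain ⟨h', hh'R, hh'n⟩ : ∃ h' ∈ R, ∀ j : ℕ, ∀ w ∈ Subgroup.center G, h' ≠ g ^ j * w := by
      by_contra hno
      push Not at hno
      set C := Subgroup.centralizer ({g} : Set G) with hC
      have hCle : ∀ u : G, (Subgroup.centralizer ({u} : Set G)).index ≤ p → C ≤ Subgroup.centralizer ({u} : Set G) := by
        intro u hu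
        by_cases hform : ∃ j : ℕ, ∃ w ∈ Subgroup.center G, u = g ^ j * w
        · obtain ⟨j, w, hw, rfl⟩ := hform
          intro y hy
          rw [Subgroup.mem_centralizer_singleton_iff] at hy ⊢
          exact (show Commute y g from hy).pow_right j |>.mul_right (Subgroup.mem_center_iff.mp hw y)
        push Not at hform
        have hgu : (Subgroup.centralizer ({g * u} : Set G)).index ≤ p := by
          by_contra hgu
          obtain ⟨j, w, hw, hj⟩ := hno _ (not_le.mp hgu)
          obtain ⟨j', hj'⟩ : ∃ j' : ℕ, g⁻¹ * g ^ j = g ^ j' :=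
            (mem_powers_iff_mem_zpowers.mpr (mul_mem (inv_mem (Subgroup.mem_zpowers g))
              (Subgroup.npow_mem_zpowers g j))).imp fun _ h => h.symm
          exact hform j' w hw (by rw [← hj', mul_assoc, ← hj, inv_mul_cancel_left])
        set D := Subgroup.centralizer ({u} : Set G) ⊓ Subgroup.centralizer ({g * u} : Set G) with hD
        have hDC : D ≤ C := by
          intro y hy
          obtain ⟨h1, h2⟩ := Subgroup.mem_inf.mp hy
          rw [Subgroup.mem_centralizer_singleton_iff] at h1 h2 ⊢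
          have h3 := (show Commute y (g * u) from h2).mul_right (show Commute y u from h1).inv_right
          rwa [mul_inv_cancel_right] at h3
        have hDidx : D.index ≤ p * p := (Subgroup.index_inf_le).trans (Nat.mul_le_mul hu hgu)
        have hDeq : D = C := by
          refine Subgroup.eq_of_le_of_card_ge hDC ?_
          have h1 := Subgroup.card_mul_index C
          rw [← Subgroup.card_mul_index D] at h1
          have h2 := hbig g hg
          rw [← hC] at h2
          refine Nat.le_of_mul_le_mul_right ?_ (Nat.pos_of_ne_zero (Subgroup.index_ne_zero_of_finite (H := C)))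
          rw [h1]
          exact Nat.mul_le_mul_left _ (hDidx.trans h2)
        exact hDeq ▸ inf_le_left
      refine hRZ g hg (hcen g fun u hu => ?_)
      exact Subgroup.mem_centralizer_singleton_iff.mp (hCle u hu (Subgroup.mem_centralizer_singleton_iff.mpr rfl))
    have hcard : p * z ≤ R.ncard := by
      let f : Fin p × Subgroup.center G → R := fun q =>
        if hq : (q.1 : ℕ) = 0 then ⟨h' * q.2, by
          have : Subgroup.centralizer ({h' * (q.2 : G)} : Set G) ≤ Subgroup.centralizer ({h'} : Set G) := by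
            intro y hy
            rw [Subgroup.mem_centralizer_singleton_iff] at hy ⊢
            have h2 := (show Commute y (h' * q.2) from hy).mul_right
              (show Commute y (q.2 : G)⁻¹ from Subgroup.mem_center_iff.mp (inv_mem q.2.2) y)
            rwa [mul_inv_cancel_right] at h2
          exact lt_of_lt_of_le hh'R (Nat.le_of_dvd (Nat.pos_of_ne_zero Subgroup.index_ne_zero_of_finite)
            (Subgroup.index_dvd_of_le this))⟩
        else ⟨g ^ (q.1 : ℕ) * q.2, hgen _ _ q.2.2 fun hd => by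
          have h1 := Nat.le_of_dvd (Nat.pos_of_ne_zero hq) hd
          have h2 := q.1.2
          omega⟩
      have hf : Function.Injective f := by
        rintro ⟨j, w⟩ ⟨j', w'⟩ h
        have hv := congrArg Subtype.val h
        simp only [f] at hv
        by_cases h0 : (j : ℕ) = 0 <;> by_cases h0' : (j' : ℕ) = 0
        · rw [dif_pos h0, dif_pos h0'] at hv
          exact Prod.ext (Fin.ext (h0.trans h0'.symm)) (Subtype.ext (mul_left_cancel hv))
        · rw [dif_pos h0, dif_neg h0'] at hv
          exact absurd (eq_mul_inv_of_mul_eq hv) (fun e => hh'n j' _ (mul_mem w'.2 (inv_mem w.2)) (e.trans (mul_assoc _ _ _)))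
        · rw [dif_neg h0, dif_pos h0'] at hv
          exact absurd (eq_mul_inv_of_mul_eq hv.symm) (fun e => hh'n j _ (mul_mem w.2 (inv_mem w'.2)) (e.trans (mul_assoc _ _ _)))
        · rw [dif_neg h0, dif_neg h0'] at hv
          have key : ∀ a b : ℕ, a < b → b < p → ∀ u ∈ Subgroup.center G, ∀ u' ∈ Subgroup.center G,
              g ^ a * u ≠ g ^ b * u' := by
            intro a b hab hbp u hu u' hu' heq
            have hmem : g ^ (b - a) * (u' * u⁻¹) = 1 := by
              apply mul_left_cancel (a := g ^ a)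
              rw [← mul_assoc, ← pow_add, show a + (b - a) = b by omega, mul_one, ← mul_assoc, ← heq,
                mul_inv_cancel_right]
            have h1 := hgen (b - a) _ (mul_mem hu' (inv_mem hu)) (fun hd => by
              have := Nat.le_of_dvd (by omega) hd; omega)
            rw [hmem] at h1
            exact hRZ _ h1 (one_mem _)
          have hv' : g ^ (j : ℕ) * (w : G) = g ^ (j' : ℕ) * (w' : G) := hv
          have hjj : (j : ℕ) = j' := by
            rcases lt_trichotomy (j : ℕ) j' with hlt | heq | hgt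
            · exact absurd hv' (key _ _ hlt j'.2 _ w.2 _ w'.2)
            · exact heq
            · exact absurd hv'.symm (key _ _ hgt j.2 _ w'.2 _ w.2)
          rw [hjj] at hv'
          exact Prod.ext (Fin.ext hjj) (Subtype.ext (mul_left_cancel hv'))
      have := Nat.card_le_card_of_injective f hf
      rwa [Nat.card_prod, Nat.card_fin, Nat.card_coe_set_eq] at this
    have h := orbit_count (Subgroup.center G : Set G) R hdisj p (p * p) hp.out.pos (Nat.mul_pos hp.out.pos hp.out.pos)
      hp1 (fun x hx => (hbig x hx).trans (card_class_le_orbit x))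
    rw [hzc] at h
    set O := Nat.card (orbitRel.Quotient (MulAut G) G)
    set n := Nat.card G
    set r := R.ncard
    refine le_of_mul_le_mul_left (a := p * p) ?_ (Nat.mul_pos hp.out.pos hp.out.pos)
    zify at h hcard hp2 ⊢
    nlinarith [mul_le_mul_of_nonneg_left hcard
      (show (0:ℤ) ≤ (p:ℤ) * ((p:ℤ) - 1) from mul_nonneg (by linarith) (by linarith))]
  · have hsub : Nat.card G ≤ R.ncard + Nat.card H := by
      rw [← Set.ncard_univ G, ← Nat.card_coe_set_eq (R), show Nat.card H = (H : Set G).ncard from Nat.card_coe_set_eq _,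
        Nat.card_coe_set_eq]
      refine (Set.ncard_le_ncard ?_).trans (Set.ncard_union_le R (H : Set G))
      intro x _
      by_cases hx : p < (Subgroup.centralizer ({x} : Set G)).index
      · exact Or.inl hx
      · exact Or.inr (Subgroup.subset_closure (not_lt.mp hx))
    have hHidx : p * Nat.card H ≤ Nat.card G := by
      rw [← Subgroup.card_mul_index H, mul_comm]
      exact Nat.mul_le_mul_left _ (hpmin _ (Subgroup.index_dvd_card H) fun h => htop (Subgroup.index_eq_one.mp h))
    have hgz : (p + 1) * p * z ≤ Nat.card G := le_trans (by gcongr; exact hg) hgd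
    have h := orbit_count (Subgroup.center G : Set G) R hdisj p (p + 1) hp.out.pos (Nat.succ_pos p) hp1
      (fun x hx => (Nat.succ_le_of_lt (show p < _ from hx)).trans (card_class_le_orbit x))
    rw [hzc] at h
    set O := Nat.card (orbitRel.Quotient (MulAut G) G)
    set n := Nat.card G
    set r := R.ncard
    set hc := Nat.card H
    refine le_of_mul_le_mul_left (a := p + 1) ?_ (Nat.succ_pos p)
    have hkey : ((p:ℤ) * (p:ℤ) - 1) * z ≤ r := by
      zify at hsub hHidx hgz hp2
      refine le_of_mul_le_mul_left ?_ (show (0:ℤ) < p by linarith)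
      nlinarith [mul_le_mul_of_nonneg_left hgz (show (0:ℤ) ≤ (p:ℤ) - 1 by linarith)]
    zify at h hp2 ⊢
    nlinarith [hkey]

/-- Let G be a finite non-abelian group and p the least prime dividing its order. Then the automorphism group of G has at most #G/p orbits on G. -/
theorem result {G : Type*} [Group G] [Finite G] (hna : ¬ IsMulCommutative G) :
    Nat.card (MulAction.orbitRel.Quotient (MulAut G) G) ≤ Nat.card G / (Nat.card G).minFac := by
  classical
  set p := (Nat.card G).minFac with hp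
  have hne : Nat.card G ≠ 1 := fun h => hna (by
    haveI : Subsingleton G := (Nat.card_eq_one_iff_unique.mp h).1
    exact ⟨⟨fun x y => Subsingleton.elim _ _⟩⟩)
  haveI : Fact p.Prime := ⟨Nat.minFac_prime hne⟩
  have hpmin : ∀ d, d ∣ Nat.card G → d ≠ 1 → p ≤ d := fun d hd h1 =>
    Nat.minFac_le_of_dvd (by have := Nat.pos_of_dvd_of_pos hd Nat.card_pos; omega) hd
  rw [Nat.le_div_iff_mul_le (Fact.out : p.Prime).pos, mul_comm]
  by_cases hbig : ∃ g : G, p < (Subgroup.centralizer ({g} : Set G)).index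
  · obtain ⟨g, hg⟩ := hbig
    exact bound_large hp hpmin g hg
  · push Not at hbig
    refine bound_class_two hpmin hna (fun x y => Subgroup.mem_center_iff.mpr fun u => ?_)
      (fun x => Subgroup.mem_center_iff.mpr fun u => ?_) hbig
    · exact ((small_class hp hpmin u (hbig u)).2 x y).symm
    · exact ((small_class hp hpmin u (hbig u)).1 x).symm

end Cfsg.Agent.S4067
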