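import Cfsg.Statements.S4068
import Mathlib
import Cfsg.Agent.S1230
import Cfsg.Agent.S0183
import Cfsg.Agent.Lib.CT.Integral
import Cfsg.Agent.Lib.SmallSimple.Alternating
import Cfsg.Agent.Lib.LinearGroups.PSL
import Cfsg.Agent.Lib.PermGp.ZassenhausEven.Iso
-- import your own Cfsg.Agent.* helpers here

set_option autoImplicit false
open Cfsg

namespace Cfsg.Agent.S4068

open Subgroup

/-- all non-identity elements have prime order -/
def PrimeOrders (G : Type*) [Group G] : Prop := ∀ g : G, g ≠ 1 → (orderOf g).Prime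

theorem three_primes {G : Type*} [Group G] [Finite G] (hns : ¬ Group.IsSolvable G) :
    3 ≤ (Nat.card G).primeFactors.card := by
  by_contra h
  apply hns
  have hn : Nat.card G ≠ 0 := Nat.card_pos.ne'
  have hprod := Nat.prod_factorization_pow_eq_self hn
  rw [Finsupp.prod, Nat.support_factorization] at hprod
  rcases Nat.lt_or_ge (Nat.card G).primeFactors.card 1 with h0 | h0
  · rw [Finset.card_eq_zero.mp (by omega : (Nat.card G).primeFactors.card = 0), Finset.prod_empty] at hprod
    exact CT.isSolvable_of_card_two_primes Nat.prime_two Nat.prime_two _ G 0 0 rfl (by rw [← hprod]; norm_num)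
  rcases Nat.lt_or_ge (Nat.card G).primeFactors.card 2 with h1 | h1
  · obtain ⟨p, hp⟩ := Finset.card_eq_one.mp (by omega : (Nat.card G).primeFactors.card = 1)
    have hpp : p.Prime := Nat.prime_of_mem_primeFactors (by rw [hp]; exact Finset.mem_singleton_self p)
    rw [hp, Finset.prod_singleton] at hprod
    exact CT.isSolvable_of_card_two_primes hpp hpp _ G ((Nat.card G).factorization p) 0 rfl
      (by rw [pow_zero, mul_one]; exact hprod.symm)
  · obtain ⟨p, q, hpq, hset⟩ := Finset.card_eq_two.mp (by omega : (Nat.card G).primeFactors.card = 2)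
    have hpp : p.Prime := Nat.prime_of_mem_primeFactors (by rw [hset]; simp)
    have hqp : q.Prime := Nat.prime_of_mem_primeFactors (by rw [hset]; simp)
    rw [hset, Finset.prod_pair hpq] at hprod
    exact CT.isSolvable_of_card_two_primes hpp hqp _ G _ _ rfl hprod.symm

theorem centralizer_exponent {G : Type*} [Group G] (hP : PrimeOrders G) {t : G} (ht : t ≠ 1) {c : G}
    (hc : c ∈ centralizer ({t} : Set G)) : c ^ orderOf t = 1 := by
  by_cases hc1 : c = 1
  · rw [hc1, one_pow]
  rw [← orderOf_dvd_iff_pow_eq_one]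
  have hpc := hP c hc1
  have hpt := hP t ht
  by_contra hne
  have hcop : Nat.Coprime (orderOf c) (orderOf t) := hpc.coprime_iff_not_dvd.mpr hne
  have hct : Commute c t := mem_centralizer_singleton_iff.mp hc
  have hmul := hct.orderOf_mul_eq_mul_orderOf_of_coprime hcop
  by_cases h1 : c * t = 1
  · rw [h1, orderOf_one] at hmul
    exact hpc.ne_one (Nat.eq_one_of_mul_eq_one_right hmul.symm)
  · exact Nat.not_prime_mul hpc.ne_one hpt.ne_one (hmul ▸ hP _ h1)

theorem isCN {G : Type*} [Group G] [Finite G] (hP : PrimeOrders G) : Cfsg.IsCNGroup G := by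
  intro g hg
  haveI := Fact.mk (hP g hg)
  have : IsPGroup (orderOf g) (centralizer ({g} : Set G)) := fun c =>
    ⟨1, by rw [pow_one]; exact Subtype.ext (by simpa using centralizer_exponent hP hg c.2)⟩
  exact this.isNilpotent

theorem odd_solvable {G : Type*} [Group G] [Finite G] (hodd : Odd (Nat.card G)) (hP : PrimeOrders G) :
    Group.IsSolvable G :=
  S0183.result hodd (isCN hP)

/-- the diagonal element -/
theorem exists_torus {F : Type*} [Field F] [Fintype F] :
    ∃ M : Matrix.SpecialLinearGroup (Fin 2) F, orderOf M = Fintype.card F - 1 := by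
  classical
  obtain ⟨u, hu⟩ := IsCyclic.exists_generator (α := Fˣ)
  have huo : orderOf u = Fintype.card F - 1 := by
    rw [orderOf_eq_card_of_forall_mem_zpowers hu, Nat.card_eq_fintype_card, Fintype.card_units]
  let D : Fˣ →* Matrix.SpecialLinearGroup (Fin 2) F :=
    { toFun := fun a => ⟨!![(a : F), 0; 0, ((a⁻¹ : Fˣ) : F)], by simp [Matrix.det_fin_two]⟩
      map_one' := Matrix.SpecialLinearGroup.ext _ _ fun i j => by fin_cases i <;> fin_cases j <;> simp
      map_mul' := fun a b => Matrix.SpecialLinearGroup.ext _ _ fun i j => by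
        show (!![((a * b : Fˣ) : F), 0; 0, (((a * b)⁻¹ : Fˣ) : F)] : Matrix (Fin 2) (Fin 2) F) i j =
          ((!![(a : F), 0; 0, ((a⁻¹ : Fˣ) : F)] : Matrix (Fin 2) (Fin 2) F) * !![(b : F), 0; 0, ((b⁻¹ : Fˣ) : F)]) i j
        fin_cases i <;> fin_cases j <;>
          simp [Matrix.mul_apply, Fin.sum_univ_two, mul_comm] }
  have hD : Function.Injective D := fun a b hab => Units.ext (by
    have := congrArg (fun M : Matrix.SpecialLinearGroup (Fin 2) F => M.1 0 0) hab
    exact this)
  exact ⟨D u, by rw [orderOf_injective D hD, huo]⟩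

/-- an element of order nine over the field with eight elements -/
theorem exists_nine {F : Type*} [Field F] [Fintype F] (h8 : Fintype.card F = 8) :
    ∃ M : Matrix.SpecialLinearGroup (Fin 2) F, orderOf M = 9 := by
  classical
  have h2 : (2 : F) = 0 := by
    have h8' : (8 : F) = 0 := by
      have := FiniteField.cast_card_eq_zero F
      rw [h8] at this; exact_mod_cast this
    have : (2 : F) ^ 3 = 0 := by rw [← h8']; norm_num
    exact pow_eq_zero_iff (n := 3) (by norm_num) |>.mp this
  obtain ⟨t, ht⟩ : ∃ t : F, t ^ 3 + t + 1 = 0 := by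
    obtain ⟨a, ha0, ha1⟩ : ∃ a : F, a ≠ 0 ∧ a ≠ 1 := by
      by_contra hc
      push_neg at hc
      have hsub : (Finset.univ : Finset F) ⊆ {0, 1} := fun a _ => by
        rw [Finset.mem_insert, Finset.mem_singleton]
        exact (em (a = 0)).imp_right (hc a)
      have := Finset.card_le_card hsub
      rw [Finset.card_univ, h8, Finset.card_pair zero_ne_one] at this
      omega
    have h7 : a ^ 7 = 1 := by
      have := FiniteField.pow_card_sub_one_eq_one a ha0
      rwa [h8] at this
    have hprod : (a - 1) * (a ^ 3 + a + 1) * (a ^ 3 + a ^ 2 + 1) = 0 := by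
      linear_combination h7 + (a ^ 4 - a ^ 3) * h2
    rcases mul_eq_zero.mp hprod with h | h
    · rcases mul_eq_zero.mp h with h' | h'
      · exact absurd (sub_eq_zero.mp h') ha1
      · exact ⟨a, h'⟩
    · refine ⟨a + 1, ?_⟩
      linear_combination h + (a ^ 2 + 2 * a + 1) * h2
  let M : Matrix.SpecialLinearGroup (Fin 2) F := ⟨!![t, 1; 1, 0], by
    rw [Matrix.det_fin_two_of]; linear_combination (-1 : F) * h2⟩
  have h3 : (M ^ 3 : Matrix.SpecialLinearGroup (Fin 2) F).1 = !![t + 1, t ^ 2 + 1; t ^ 2 + 1, t] := by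
    simp only [pow_succ, pow_zero, one_mul, Matrix.SpecialLinearGroup.coe_mul]
    ext i j
    fin_cases i <;> fin_cases j <;> simp [M, Matrix.mul_apply, Fin.sum_univ_two]
    · linear_combination ht - h2
    all_goals ring
  refine ⟨M, orderOf_eq_prime_pow (p := 3) (n := 1) ?_ ?_⟩
  · rw [pow_one]
    intro h
    have e : (M ^ 3 : Matrix.SpecialLinearGroup (Fin 2) F).1 0 1 = (1 : Matrix.SpecialLinearGroup (Fin 2) F).1 0 1 := by rw [h]
    have e' : (M ^ 3 : Matrix.SpecialLinearGroup (Fin 2) F).1 1 1 = (1 : Matrix.SpecialLinearGroup (Fin 2) F).1 1 1 := by rw [h]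
    rw [h3] at e e'
    simp at e e'
    rw [e'] at ht
    have : (1 : F) = 0 := by linear_combination ht - h2
    exact one_ne_zero this
  · rw [show 3 ^ (1 + 1) = 3 + 3 + 3 by norm_num, pow_add, pow_add]
    apply Matrix.SpecialLinearGroup.ext
    intro i j
    rw [Matrix.SpecialLinearGroup.coe_mul, Matrix.SpecialLinearGroup.coe_mul, h3]
    fin_cases i <;> fin_cases j <;> simp [Matrix.mul_apply, Fin.sum_univ_two]
    · linear_combination ((4 : F) * t ^ 0 + (2 : F) * t ^ 1 + (3 : F) * t ^ 2) * ht + ((-1 : F) * t ^ 0 + (1 : F) * t ^ 2) * h2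
    · linear_combination ((2 : F) * t ^ 0 + (5 : F) * t ^ 1 + (1 : F) * t ^ 3) * ht + ((-2 : F) * t ^ 1 + (1 : F) * t ^ 2) * h2
    · linear_combination ((2 : F) * t ^ 0 + (5 : F) * t ^ 1 + (1 : F) * t ^ 3) * ht + ((-2 : F) * t ^ 1 + (1 : F) * t ^ 2) * h2
    · linear_combination ((4 : F) * t ^ 0 + (1 : F) * t ^ 1 + (3 : F) * t ^ 2) * ht + ((-2 : F) * t ^ 0 + (-1 : F) * t ^ 1 + (-1 : F) * t ^ 2) * h2

theorem main {G : Type*} [Group G] [Finite G] (hns : ¬ Group.IsSolvable G)
    (h4 : Nat.card (MulAction.orbitRel.Quotient (MulAut G) G) = 4) : Nonempty (G ≃* alternatingGroup (Fin 5)) := by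
  classical
  -- element orders
  set O := Set.range (orderOf : G → ℕ) with hO
  have hOfin : O.Finite := Set.toFinite _
  have hOle : O.ncard ≤ 4 := by
    rw [← h4]
    let φ : MulAction.orbitRel.Quotient (MulAut G) G → O := Quotient.lift (fun g => (⟨orderOf g, g, rfl⟩ : O))
      (fun a b hab => by
        obtain ⟨σ, hσ⟩ := hab
        apply Subtype.ext
        show orderOf a = orderOf b
        rw [← hσ]
        exact σ.orderOf_eq b)
    rw [← Nat.card_coe_set_eq]
    refine Nat.card_le_card_of_surjective φ ?_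
    rintro ⟨_, g, rfl⟩
    exact ⟨Quotient.mk _ g, rfl⟩
  set π := (Nat.card G).primeFactors
  have h3 : 3 ≤ π.card := three_primes hns
  have hsub : insert 1 π ⊆ hOfin.toFinset := by
    intro d hd
    rw [Set.Finite.mem_toFinset]
    rcases Finset.mem_insert.mp hd with rfl | hd
    · exact ⟨1, orderOf_one⟩
    · obtain ⟨hp, hpd, -⟩ := Nat.mem_primeFactors.mp hd
      haveI := Fact.mk hp
      obtain ⟨g, hg⟩ := exists_prime_orderOf_dvd_card' d hpd
      exact ⟨g, hg⟩
  have hins : (insert 1 π).card = π.card + 1 := Finset.card_insert_of_notMem fun h => by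
    exact Nat.not_prime_one (Nat.prime_of_mem_primeFactors h)
  have hcardO : hOfin.toFinset.card = O.ncard := (Set.ncard_eq_toFinset_card O hOfin).symm
  have hle := Finset.card_le_card hsub
  have hπ : π.card = 3 := by omega
  have heq : insert 1 π = hOfin.toFinset := Finset.eq_of_subset_of_card_le hsub (by omega)
  have hP : PrimeOrders G := by
    intro g hg
    have : orderOf g ∈ insert 1 π := by rw [heq, Set.Finite.mem_toFinset]; exact ⟨g, rfl⟩
    rcases Finset.mem_insert.mp this with h | h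
    · exact absurd (orderOf_eq_one_iff.mp h) hg
    · exact Nat.prime_of_mem_primeFactors h
  -- even order
  have h2G : 2 ∣ Nat.card G := by
    by_contra h
    exact hns (odd_solvable (Nat.not_even_iff_odd.mp fun he => h (even_iff_two_dvd.mp he)) hP)
  haveI := Fact.mk Nat.prime_two
  obtain ⟨T⟩ := (inferInstance : Nonempty (Sylow 2 G))
  have hexp : ∀ x ∈ (T : Subgroup G), x ^ 2 = 1 := by
    intro x hx
    by_cases hx1 : x = 1
    · rw [hx1, one_pow]
    obtain ⟨k, hk⟩ := (IsPGroup.iff_orderOf.mp T.2) ⟨x, hx⟩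
    rw [Subgroup.orderOf_mk] at hk
    have := hP x hx1
    rw [hk] at this
    have hk1 := Nat.Prime.eq_one_of_pow this
    rw [hk1, pow_one] at hk
    rw [← hk, pow_orderOf_eq_one]
  have hpo : ∀ {K : Subgroup G}, PrimeOrders K := fun {K} x hx => by
    rw [← Subgroup.orderOf_coe]; exact hP _ fun h => hx (Subtype.ext h)
  have hTc : ¬ IsCyclic (T : Subgroup G) := by
    intro hc
    have hmin : (Nat.card G).minFac = 2 := by rwa [Nat.minFac_eq_two_iff]
    have hN := IsCyclic.normalizer_le_centralizer hmin hc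
    have hK := MonoidHom.not_dvd_card_ker_transferSylow T hN
    set f := MonoidHom.transferSylow T hN
    haveI : Group.IsSolvable f.ker := odd_solvable (Nat.not_even_iff_odd.mp fun he => hK (even_iff_two_dvd.mp he)) hpo
    haveI : Group.IsSolvable (T : Subgroup G) := by haveI := T.2.isNilpotent; infer_instance
    exact hns (solvable_of_ker_le_range f.ker.subtype f (by rw [range_subtype]))
  have hTn : ¬ (T : Subgroup G).Normal := by
    intro hn
    haveI := hn
    haveI : Group.IsSolvable (T : Subgroup G) := by haveI := T.2.isNilpotent; infer_instance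
    have hodd : Odd (Nat.card (G ⧸ (T : Subgroup G))) := by
      rw [← index_eq_card]
      exact Nat.not_even_iff_odd.mp fun he => T.not_dvd_index (even_iff_two_dvd.mp he)
    haveI : Group.IsSolvable (G ⧸ (T : Subgroup G)) := odd_solvable hodd (fun x hx => by
      induction x using QuotientGroup.induction_on with
      | _ g =>
        have hg : g ≠ 1 := fun h => hx (by rw [h]; rfl)
        exact (((hP g hg).eq_one_or_self_of_dvd _ (orderOf_map_dvd (QuotientGroup.mk' (T : Subgroup G)) g)).resolve_left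
          fun h => hx (orderOf_eq_one_iff.mp h)).symm ▸ hP g hg)
    exact hns (solvable_of_ker_le_range (T : Subgroup G).subtype (QuotientGroup.mk' (T : Subgroup G))
      (by rw [QuotientGroup.ker_mk', range_subtype]))
  obtain ⟨F, _, _, hFc, ⟨e⟩⟩ := S1230.result T hTc hTn fun t ht => by
    have ht1 : t ≠ 1 := fun h => by rw [h, orderOf_one] at ht; norm_num at ht
    have hex : ∀ c ∈ centralizer ({t} : Set G), c ^ 2 = 1 := fun c hc => ht ▸ centralizer_exponent hP ht1 hc
    refine ⟨⟨⟨fun a b => Subtype.ext ?_⟩⟩, hex⟩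
    have hinv : ∀ c ∈ centralizer ({t} : Set G), c⁻¹ = c := fun c hc =>
      inv_eq_of_mul_eq_one_right (by rw [← pow_two]; exact hex c hc)
    show (a : G) * b = b * a
    rw [← hinv _ (mul_mem a.2 b.2), mul_inv_rev, hinv _ a.2, hinv _ b.2]
  -- the field
  obtain ⟨f, hf⟩ := T.2.exists_card_eq
  rw [hf] at hFc
  have hf2 : 2 ≤ f := by
    by_contra hc
    interval_cases f
    · exact absurd (hFc.symm ▸ Fintype.one_lt_card (α := F)) (by norm_num)
    · exact hTc (isCyclic_of_prime_card (by simpa using hf))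
  have hq4 : 4 ≤ 2 ^ f := le_trans (by norm_num) (Nat.pow_le_pow_right (show 1 ≤ 2 by norm_num) hf2)
  have hSL := PermGp.ZEven.natCard_SL_two_field F
  rw [hFc] at hSL
  have hPSL := LinGrp.natCard_PSL_mul (n := Fin 2) (F := F)
  rw [Fintype.card_fin, Nat.card_eq_fintype_card (α := F), hFc,
    show Nat.gcd 2 (2 ^ f - 1) = 1 from (Nat.prime_two.coprime_iff_not_dvd).2 (fun hd => by
      have : 2 ∣ 2 ^ f := dvd_pow_self 2 (by omega)
      omega), one_mul] at hPSL
  have hcardG : Nat.card G = (2 ^ f + 1) * 2 ^ f * (2 ^ f - 1) := by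
    rw [Nat.card_congr e.toEquiv, hPSL, hSL]
  have hmk : Function.Bijective (QuotientGroup.mk' (center (Matrix.SpecialLinearGroup (Fin 2) F))) := by
    exact (Nat.bijective_iff_surjective_and_card _).mpr ⟨QuotientGroup.mk'_surjective _, hPSL.symm⟩
  let eSL : Matrix.SpecialLinearGroup (Fin 2) F ≃* G := (MulEquiv.ofBijective _ hmk).trans e.symm
  obtain ⟨M, hM⟩ := exists_torus (F := F)
  rw [hFc] at hM
  have hr : (2 ^ f - 1).Prime := by
    rw [← hM, ← eSL.orderOf_eq]
    refine hP _ fun h => ?_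
    rw [← eSL.orderOf_eq, h, orderOf_one] at hM
    omega
  -- the third prime
  obtain ⟨s, hs, hsd⟩ := Nat.exists_prime_and_dvd (show 2 ^ f + 1 ≠ 1 by omega)
  have hs2 : s ≠ 2 := fun h => by
    have : 2 ∣ 2 ^ f := dvd_pow_self 2 (by omega)
    subst h; omega
  have hsr : s ≠ 2 ^ f - 1 := fun h => by
    have h2 : s ∣ 2 := by
      have := Nat.dvd_sub hsd (h ▸ dvd_refl s : s ∣ 2 ^ f - 1)
      rwa [show 2 ^ f + 1 - (2 ^ f - 1) = 2 by omega] at this
    exact hs2 ((Nat.prime_dvd_prime_iff_eq hs Nat.prime_two).mp h2)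
  have hr2 : (2 ^ f - 1) ≠ 2 := by omega
  have hmem : ∀ {t : ℕ}, t.Prime → t ∣ 2 ^ f + 1 → t = s := by
    intro t ht htd
    have hG0 : Nat.card G ≠ 0 := Nat.card_pos.ne'
    have m : ∀ {u : ℕ}, u.Prime → u ∣ Nat.card G → u ∈ π := fun hu hd => Nat.mem_primeFactors.mpr ⟨hu, hd, hG0⟩
    have hs' : ∀ u : ℕ, u ∣ 2 ^ f + 1 → u ∣ Nat.card G := fun u hu => hcardG ▸ (hu.mul_right _).mul_right _
    have hsub3 : ({2, 2 ^ f - 1, s} : Finset ℕ) ⊆ π := by
      intro u hu
      simp only [Finset.mem_insert, Finset.mem_singleton] at hu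
      rcases hu with rfl | rfl | rfl
      · exact m Nat.prime_two h2G
      · exact m hr (hcardG ▸ dvd_mul_left _ _)
      · exact m hs (hs' _ hsd)
    have he : ({2, 2 ^ f - 1, s} : Finset ℕ) = π := Finset.eq_of_subset_of_card_le hsub3 (by
      rw [hπ, Finset.card_insert_of_notMem (by simp [Ne.symm hr2, Ne.symm hs2]), Finset.card_pair (Ne.symm hsr)])
    have := m ht (hs' _ htd)
    rw [← he] at this
    simp only [Finset.mem_insert, Finset.mem_singleton] at this
    rcases this with h | h | h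
    · subst h
      have : 2 ∣ 2 ^ f := dvd_pow_self 2 (by omega)
      omega
    · exfalso
      have h2 : t ∣ 2 := by
        have := Nat.dvd_sub htd (h ▸ dvd_refl t : t ∣ 2 ^ f - 1)
        rwa [show 2 ^ f + 1 - (2 ^ f - 1) = 2 by omega] at this
      have := Nat.le_of_dvd (by norm_num) h2
      omega
    · exact h
  by_cases hf2' : f = 2
  · subst hf2'
    haveI : IsSimpleGroup G := by
      haveI := LinGrp.isSimpleGroup_PSL_fin (F := F) 2 le_rfl (fun _ => by
        rw [Nat.card_eq_fintype_card, hFc]; norm_num)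
      haveI : Nontrivial G := Finite.one_lt_card_iff_nontrivial.mp (by rw [hcardG]; norm_num)
      exact IsSimpleGroup.isSimpleGroup_of_surjective e.symm.toMonoidHom e.symm.surjective
    exact SmallSimple.mulEquiv_alternating_five (by rw [hcardG]; norm_num)
  exfalso
  -- f is odd, so three is the only prime divisor of 2 ^ f + 1
  have hfodd : Odd f := by
    rw [← Nat.not_even_iff_odd]
    rintro ⟨a, ha⟩
    subst ha
    have ha2 : 2 ≤ a := by omega
    have h4a : 4 ≤ 2 ^ a := le_trans (by norm_num) (Nat.pow_le_pow_right (show 1 ≤ 2 by norm_num) ha2)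
    have e1 : 2 ^ (a + a) - 1 = (2 ^ a + 1) * (2 ^ a - 1) := by
      rw [pow_add, ← Nat.sq_sub_sq, one_pow, pow_two]
    rw [e1] at hr
    exact Nat.not_prime_mul (by omega) (by omega) hr
  have h3 : 3 ∣ 2 ^ f + 1 := by
    obtain ⟨k, rfl⟩ := hfodd
    have h41 : 4 ^ k % 3 = 1 := by rw [Nat.pow_mod]; norm_num
    rw [pow_succ, pow_mul, show (2 : ℕ) ^ 2 = 4 by norm_num]
    omega
  have hs3 : s = 3 := (hmem (by norm_num) h3).symm
  subst hs3
  obtain ⟨b, hb⟩ : ∃ b, 2 ^ f + 1 = 3 ^ b := ⟨_, Nat.eq_prime_pow_of_unique_prime_dvd (by omega) (fun {d} hd hdd => hmem hd hdd)⟩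
  have hf3 : 3 ≤ f := by omega
  have hb2 : Even b := by
    rw [← Nat.not_odd_iff_even]
    rintro ⟨c, rfl⟩
    have h9 : 9 ^ c % 8 = 1 := by rw [Nat.pow_mod]; norm_num
    have h8 : 8 ∣ 2 ^ f := (show (8 : ℕ) = 2 ^ 3 by norm_num) ▸ pow_dvd_pow 2 hf3
    rw [pow_succ, pow_mul, show (3 : ℕ) ^ 2 = 9 by norm_num] at hb
    omega
  obtain ⟨c, rfl⟩ := hb2
  have e2 : 2 ^ f = (3 ^ c + 1) * (3 ^ c - 1) := by
    rw [← Nat.sq_sub_sq, one_pow, pow_two, ← pow_add, ← hb]; omega
  obtain ⟨i, -, hi⟩ := (Nat.dvd_prime_pow Nat.prime_two).mp (Dvd.intro _ e2.symm : 3 ^ c + 1 ∣ 2 ^ f)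
  obtain ⟨j, -, hj⟩ := (Nat.dvd_prime_pow Nat.prime_two).mp (Dvd.intro_left _ e2.symm : 3 ^ c - 1 ∣ 2 ^ f)
  have hc0 : c ≠ 0 := fun h => by
    subst h
    have : 8 ≤ 2 ^ f := (show (8 : ℕ) = 2 ^ 3 by norm_num) ▸ Nat.pow_le_pow_right (by norm_num) hf3
    simp at hb
  have h3c : 3 ≤ 3 ^ c := Nat.le_self_pow hc0 3
  have hj1 : j = 1 := by
    rcases Nat.lt_or_ge j 2 with hlt | hge
    · interval_cases j
      · rw [pow_zero] at hj; omega
      · rfl
    · exfalso
      have h4j : 4 ∣ 2 ^ j := (show (4 : ℕ) = 2 ^ 2 by norm_num) ▸ pow_dvd_pow 2 hge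
      have h2i : 2 ≤ i := by
        by_contra hc
        interval_cases i <;> omega
      have h4i : 4 ∣ 2 ^ i := (show (4 : ℕ) = 2 ^ 2 by norm_num) ▸ pow_dvd_pow 2 h2i
      omega
  subst hj1
  have h8 : 2 ^ f = 8 := by
    rw [e2]
    have : 3 ^ c = 3 := by omega
    rw [this]
  obtain ⟨N, hN⟩ := exists_nine (F := F) (hFc.trans h8)
  have hprime : (orderOf (eSL N)).Prime := hP _ fun h => by
    rw [← eSL.orderOf_eq, h, orderOf_one] at hN; norm_num at hN
  rw [eSL.orderOf_eq, hN] at hprime
  norm_num at hprime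

/-- A finite non-solvable group on which its automorphism group has exactly four orbits is isomorphic to the alternating group of degree 5. -/
theorem result {G : Type*} [Group G] [Finite G] (hns : ¬ Group.IsSolvable G)
    (h4 : Nat.card (MulAction.orbitRel.Quotient (MulAut G) G) = 4) : Nonempty (G ≃* alternatingGroup (Fin 5)) := by

  exact main hns h4

end Cfsg.Agent.S4068
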