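import Cfsg.Statements.S4073
import Mathlib
import Cfsg.Agent.S1230
import Cfsg.Agent.S2475
import Cfsg.Agent.S4065
import Cfsg.Agent.Lib.SmallSimple.RecognizeEven
import Cfsg.Agent.Lib.FGB.SelfNormCount
import Cfsg.Agent.Lib.FGB.SelfNormPSL

set_option autoImplicit false
open Cfsg

namespace Cfsg.Agent.S4073

open Subgroup FGB.SelfNorm

/-- Two commuting non-involutory elements of `SL₂` with equal trace are equal or inverse
(characteristic two). -/
theorem eq_or_adjugate {K : Type*} [Field K] [CharP K 2] (A B : Matrix (Fin 2) (Fin 2) K)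
    (hA : A.det = 1) (hB : B.det = 1) (htr : B 0 0 + B 1 1 = A 0 0 + A 1 1)
    (hT : A 0 0 + A 1 1 ≠ 0) (hc : B * A = A * B) :
    B = A ∨ (B 0 0 = A 1 1 ∧ B 0 1 = A 0 1 ∧ B 1 0 = A 1 0 ∧ B 1 1 = A 0 0) := by
  have h2 : (2 : K) = 0 := CharP.ofNat_eq_zero K 2
  have a2 := congrFun (congrFun hc 0) 1
  have a3 := congrFun (congrFun hc 1) 0
  simp only [Matrix.mul_apply, Fin.sum_univ_two] at a2 a3
  rw [Matrix.det_fin_two] at hA hB
  have e1 : B 0 1 = A 0 1 := mul_right_cancel₀ hT (by
    linear_combination a2 + A 0 1 * htr + (B 0 1 * A 0 0 - A 0 1 * B 0 0) * h2)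
  have e2 : B 1 0 = A 1 0 := mul_right_cancel₀ hT (by
    linear_combination a3 + A 1 0 * htr + (B 1 0 * A 1 1 - A 1 0 * B 1 1) * h2)
  rw [e1, e2] at hB
  have e3 : (B 0 0 - A 0 0) * (B 0 0 - A 1 1) = 0 := by
    linear_combination hA - hB + B 0 0 * htr
  rcases mul_eq_zero.1 e3 with h | h <;> rw [sub_eq_zero] at h
  · refine Or.inl ?_
    have e4 : B 1 1 = A 1 1 := by linear_combination htr - h
    ext i j
    fin_cases i <;> fin_cases j <;> assumption
  · exact Or.inr ⟨h, e1, e2, by linear_combination htr - h⟩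

theorem psl_inv {K : Type*} [Field K] [CharP K 2]
    (x h : Matrix.ProjectiveSpecialLinearGroup (Fin 2) K) (hx : x * x ≠ 1)
    (hc : h * x * h⁻¹ * x = x * (h * x * h⁻¹)) :
    h * x * h⁻¹ = x ∨ h * x * h⁻¹ = x⁻¹ := by
  have hcb : Subgroup.center (Matrix.SpecialLinearGroup (Fin 2) K) = ⊥ := by
    rw [eq_bot_iff]
    intro A hA
    obtain ⟨r, hr, hr'⟩ := Matrix.SpecialLinearGroup.mem_center_iff.1 hA
    rw [Fintype.card_fin] at hr
    have h1 : r = 1 := by
      have : (r - 1) * (r - 1) = 0 := by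
        linear_combination hr + (1 - r) * CharP.ofNat_eq_zero K 2
      exact sub_eq_zero.1 (mul_self_eq_zero.1 this)
    rw [mem_bot]
    apply Subtype.ext
    rw [← hr', h1, map_one]
    rfl
  have hinj : Function.Injective (QuotientGroup.mk :
      Matrix.SpecialLinearGroup (Fin 2) K → Matrix.ProjectiveSpecialLinearGroup (Fin 2) K) := by
    intro a b hab
    rw [QuotientGroup.eq, hcb, mem_bot, inv_mul_eq_one] at hab
    exact hab
  obtain ⟨X, rfl⟩ := QuotientGroup.mk_surjective x
  obtain ⟨W, rfl⟩ := QuotientGroup.mk_surjective h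
  rw [← QuotientGroup.mk_inv, ← QuotientGroup.mk_mul, ← QuotientGroup.mk_mul, ← QuotientGroup.mk_mul,
    ← QuotientGroup.mk_mul] at hc
  rw [← QuotientGroup.mk_inv, ← QuotientGroup.mk_inv, ← QuotientGroup.mk_mul, ← QuotientGroup.mk_mul]
  set Y := W * X * W⁻¹ with hY
  have hTeq : (Y : Matrix (Fin 2) (Fin 2) K).trace = (X : Matrix (Fin 2) (Fin 2) K).trace := by
    rw [hY, Matrix.SpecialLinearGroup.coe_mul, Matrix.SpecialLinearGroup.coe_mul,
      Matrix.trace_mul_cycle, ← Matrix.SpecialLinearGroup.coe_mul, inv_mul_cancel,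
      Matrix.SpecialLinearGroup.coe_one, Matrix.one_mul]
  rw [Matrix.trace_fin_two, Matrix.trace_fin_two] at hTeq
  have hT : (X : Matrix (Fin 2) (Fin 2) K) 0 0 + (X : Matrix (Fin 2) (Fin 2) K) 1 1 ≠ 0 := by
    intro h0
    apply hx
    rw [← QuotientGroup.mk_mul, show X * X = 1 from ?_, QuotientGroup.mk_one]
    have hd := X.2
    rw [Matrix.det_fin_two] at hd
    have h2 : (2 : K) = 0 := CharP.ofNat_eq_zero K 2
    apply Subtype.ext
    rw [Matrix.SpecialLinearGroup.coe_mul, Matrix.SpecialLinearGroup.coe_one]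
    set A := (X : Matrix (Fin 2) (Fin 2) K) with hAdef
    ext i j
    fin_cases i <;> fin_cases j <;> simp [Matrix.mul_apply, Fin.sum_univ_two]
    · linear_combination A 0 0 * h0 - hd - h2
    · linear_combination A 0 1 * h0
    · linear_combination A 1 0 * h0
    · linear_combination A 1 1 * h0 - hd - h2
  rcases eq_or_adjugate _ _ X.2 Y.2 hTeq hT (congrArg Subtype.val (hinj hc)) with h | ⟨h1, h2, h3, h4⟩
  · exact Or.inl (congrArg _ (Subtype.ext h))
  · refine Or.inr (congrArg _ (Subtype.ext ?_))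
    rw [Matrix.SpecialLinearGroup.coe_inv, Matrix.adjugate_fin_two]
    ext i j
    fin_cases i <;> fin_cases j <;> simp [h1, h2, h3, h4, CharTwo.neg_eq]

theorem model {G : Type*} [Group G] [Finite G] [IsSimpleGroup G] (hna : ¬ IsMulCommutative G)
    {n : ℕ} (hn : 2 ≤ n) (hp : (2 ^ n - 1).Prime)
    (e : G ≃* Matrix.ProjectiveSpecialLinearGroup (Fin 2) (GaloisField 2 n)) : Model G n := by
  classical
  haveI : Fintype (GaloisField 2 n) := Fintype.ofFinite _
  have hF : Fintype.card (GaloisField 2 n) = 2 ^ n := by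
    rw [← Nat.card_eq_fintype_card]; exact GaloisField.card 2 n (by omega)
  have h2 : 2 ∣ 2 ^ n := dvd_pow_self 2 (by omega)
  have h4 : 4 ≤ 2 ^ n := by simpa using Nat.pow_le_pow_right (show 1 ≤ 2 by norm_num) hn
  have hgcd : Nat.gcd 2 (Fintype.card (GaloisField 2 n) - 1) = 1 := by
    rw [hF]; exact (Nat.Prime.coprime_iff_not_dvd Nat.prime_two).mpr (by omega)
  have hcard : Nat.card G = 2 ^ n * ((2 ^ n - 1) * (2 ^ n + 1)) := by
    have h := SL2.card_psl (F := GaloisField 2 n)
    rw [hgcd, one_mul, hF] at h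
    rw [Nat.card_congr e.toEquiv, h]
  have hcm : ∀ {x y : G}, y ∈ centralizer ({x} : Set G) → e y * e x = e x * e y := fun h => by
    rw [← map_mul, ← map_mul, mem_centralizer_singleton_iff.mp h]
  refine ⟨hn, hp, hcard, hna, inferInstance, ?_, ?_, ?_⟩
  · intro z hz a ha b hb
    exact e.injective (by
      rw [map_mul, map_mul]
      exact S4065.comm_of_centralizes (e z) (e a) (e b)
        (fun h => hz (e.injective (by rw [h, map_one]))) (hcm ha) (hcm hb))
  · intro t c ht hc
    have hspec := S2475.result (F := GaloisField 2 n) 2 (by rw [hF]; exact h4)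
    rw [hgcd, Nat.div_one, Nat.div_one, hF] at hspec
    have hmem : ∀ g : G, orderOf g ∣ 2 ∨ orderOf g ∣ 2 ^ n - 1 ∨ orderOf g ∣ 2 ^ n + 1 := fun g => by
      have : orderOf g ∈ Set.range (orderOf : Matrix.ProjectiveSpecialLinearGroup (Fin 2) (GaloisField 2 n) → ℕ) :=
        ⟨e g, e.orderOf_eq g⟩
      rw [hspec] at this
      exact this
    rcases hmem c with h | h
    · exact orderOf_dvd_iff_pow_eq_one.mp h
    have hodd : ¬ 2 ∣ orderOf c := fun hd => by
      rcases h with h | h
      · have := hd.trans h; omega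
      · have := hd.trans h; omega
    have ho : orderOf (c * t) = orderOf c * 2 := by
      rw [Commute.orderOf_mul_eq_mul_orderOf_of_coprime (mem_centralizer_singleton_iff.mp hc)
        (by rw [ht]; exact (Nat.coprime_comm.mp ((Nat.prime_two.coprime_iff_not_dvd).mpr hodd))), ht]
    have h2o : 2 ∣ orderOf (c * t) := ho ▸ dvd_mul_left 2 _
    rcases hmem (c * t) with h' | h' | h'
    · have h1 : orderOf c ∣ 1 := Nat.dvd_of_mul_dvd_mul_right two_pos (by rwa [one_mul, ← ho])
      rw [Nat.dvd_one, orderOf_eq_one_iff] at h1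
      simp [h1]
    · have := h2o.trans h'; omega
    · have := h2o.trans h'; omega
  · intro g h hg hmem
    have := psl_inv (e g) (e h) (fun he => hg (e.injective (by rw [map_mul, he, map_one])))
      (by simpa [mul_assoc] using hcm hmem)
    rcases this with h' | h'
    · exact Or.inl (e.injective (by rw [map_mul, map_mul, map_inv, h']))
    · exact Or.inr (e.injective (by rw [map_mul, map_mul, map_inv, map_inv, h']))

theorem forward {G : Type*} [Group G] [Finite G] [IsSimpleGroup G] (hna : ¬ IsMulCommutative G)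
    (hG : Hyp G) :
    ∃ n : ℕ, 2 ≤ n ∧ (2 ^ n - 1).Prime ∧
      Nonempty (G ≃* Matrix.ProjectiveSpecialLinearGroup (Fin 2) (GaloisField 2 n)) := by
  classical
  haveI : Fact (Nat.Prime 2) := ⟨Nat.prime_two⟩
  haveI : Nontrivial G := IsSimpleGroup.toNontrivial
  have hCA := isCA_of_hyp hG hna
  have heven : 2 ∣ Nat.card G := by
    by_contra h
    have hodd : Odd (Nat.card G) := Nat.odd_iff.mpr (by omega)
    haveI : Group.IsSolvable (⊤ : Subgroup G) := hCA.isSolvable_of_odd (by rwa [card_top])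
    haveI : Group.IsSolvable G := solvable_of_solvable_injective
      (f := (topEquiv (G := G)).symm.toMonoidHom) (MulEquiv.injective _)
    exact hna ⟨⟨fun a b => (IsSimpleGroup.comm_iff_isSolvable.mpr inferInstance) a b⟩⟩
  obtain ⟨t, ht⟩ := exists_prime_orderOf_dvd_card' 2 heven
  obtain ⟨helem, p, hp, hp3, hcard⟩ := invol_cent hG hna ht
  set A := centralizer ({t} : Set G) with hA
  have htA : t ∈ A := mem_centralizer_singleton_iff.mpr rfl
  obtain ⟨T, hT⟩ := (IsPGroup.of_card (n := 1) (by rw [Nat.card_zpowers, ht, pow_one]) :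
    IsPGroup 2 (zpowers t)).exists_le_sylow
  have htT : t ∈ (T : Subgroup G) := hT (mem_zpowers t)
  have hTA : (T : Subgroup G) ≤ A := fun y hy =>
    mem_centralizer_singleton_iff.mpr (sylow_comm hG hna T y hy t htT)
  have heq : A = (T : Subgroup G) := T.3 (fun c => ⟨1, Subtype.ext (by simpa using helem c c.2)⟩) hTA
  have hTcard : Nat.card (T : Subgroup G) = p + 1 := by rw [← heq]; exact hcard
  have hnc : ¬ IsCyclic (T : Subgroup G) := fun hc => by
    obtain ⟨y, hy⟩ := IsCyclic.exists_ofOrder_eq_natCard (α := (T : Subgroup G))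
    have h1 : orderOf y ∣ 2 := orderOf_dvd_of_pow_eq_one (Subtype.ext (by
      simpa using helem y (heq.symm ▸ y.2)))
    have := Nat.le_of_dvd two_pos h1
    omega
  have hnn : ¬ (T : Subgroup G).Normal := fun h => by
    rcases h.eq_bot_or_eq_top with h | h
    · rw [h, card_bot] at hTcard; omega
    · exact hna ⟨⟨fun a b => sylow_comm hG hna T a (h ▸ mem_top a) b (h ▸ mem_top b)⟩⟩
  obtain ⟨F, _, _, hF, ⟨e⟩⟩ := S1230.result T hnc hnn fun s hs =>
    ⟨comm_iff.mpr (hCA s (Invol.ne_one_of_orderOf_two hs)), (invol_cent hG hna hs).1⟩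
  obtain ⟨n, hn⟩ := IsPGroup.iff_card.mp T.2
  have hn2 : 2 ≤ n := by
    rcases n with _ | _ | n
    · have := hTcard.symm.trans (hn.trans (pow_zero 2)); omega
    · have := hTcard.symm.trans (hn.trans (pow_one 2)); omega
    · omega
  refine ⟨n, hn2, ?_, ?_⟩
  · rw [show 2 ^ n - 1 = p by omega]; exact hp
  · haveI : Fintype (GaloisField 2 n) := Fintype.ofFinite _
    have hK : Fintype.card (GaloisField 2 n) = Fintype.card F := by
      rw [hF, hn, ← Nat.card_eq_fintype_card]; exact GaloisField.card 2 n (by omega)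
    obtain ⟨e'⟩ := RecognizeEven.psl_congr (FiniteField.ringEquivOfCardEq (K := F) (K' := GaloisField 2 n) hK.symm)
    exact ⟨e.trans e'⟩

/-- Let G be a finite non-abelian simple group. Every non-abelian subgroup of G is self-normalizing if and only if G is isomorphic to PSL₂(2ⁿ) for some n ≥ 2 with 2ⁿ − 1 prime (this includes the alternating group of degree 5 as PSL₂(4)). -/
theorem result {G : Type*} [Group G] [Finite G] [IsSimpleGroup G]
    (hna : ¬ IsMulCommutative G) :
    (∀ H : Subgroup G, ¬ IsMulCommutative H → Subgroup.normalizer (H : Set G) = H) ↔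
    ∃ n : ℕ, 2 ≤ n ∧ (2 ^ n - 1).Prime ∧ Nonempty (G ≃* Matrix.ProjectiveSpecialLinearGroup (Fin 2) (GaloisField 2 n)) := by
  constructor
  · intro h
    exact forward hna h
  · rintro ⟨n, hn, hp, ⟨e⟩⟩
    exact (model hna hn hp e).hyp

end Cfsg.Agent.S4073
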