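import Cfsg.Statements.S4074
import Mathlib
-- import your own Cfsg.Agent.* helpers here

set_option autoImplicit false
open Cfsg

namespace Cfsg.Agent.S4074

/-- For n > 2, every non-abelian subgroup of the dihedral group of order 2n is self-normalizing if and only if n = 4 or n is odd. -/
theorem result (n : ℕ) (hn : 2 < n) :
    (∀ H : Subgroup (DihedralGroup n), ¬ IsMulCommutative H → Subgroup.normalizer (H : Set (DihedralGroup n)) = H) ↔
    (n = 4 ∨ Odd n) := by
  classical
  haveI : NeZero n := ⟨by omega⟩
  constructor
  · intro h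
    by_contra hcon
    rw [not_or, Nat.not_odd_iff_even] at hcon
    obtain ⟨hn4, hev⟩ := hcon
    have h2n : 2 ∣ n := hev.two_dvd
    let f : DihedralGroup n → Multiplicative (ZMod 2) := fun g => match g with
      | .r i => Multiplicative.ofAdd (ZMod.castHom h2n (ZMod 2) i)
      | .sr i => Multiplicative.ofAdd (ZMod.castHom h2n (ZMod 2) i)
    let φ : DihedralGroup n →* Multiplicative (ZMod 2) := MonoidHom.mk' f (by
      rintro (i | i) (j | j)
      · show Multiplicative.ofAdd _ = Multiplicative.ofAdd _ * Multiplicative.ofAdd _
        rw [← ofAdd_add, map_add]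
      · show Multiplicative.ofAdd _ = Multiplicative.ofAdd _ * Multiplicative.ofAdd _
        rw [← ofAdd_add, map_sub, CharTwo.sub_eq_add, add_comm]
      · show Multiplicative.ofAdd _ = Multiplicative.ofAdd _ * Multiplicative.ofAdd _
        rw [← ofAdd_add, map_add]
      · show Multiplicative.ofAdd _ = Multiplicative.ofAdd _ * Multiplicative.ofAdd _
        rw [← ofAdd_add, map_sub, CharTwo.sub_eq_add, add_comm])
    have hr2 : DihedralGroup.r (2 : ZMod n) ∈ φ.ker := by
      rw [MonoidHom.mem_ker]
      show Multiplicative.ofAdd _ = (1 : Multiplicative (ZMod 2))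
      rw [map_ofNat, show (2 : ZMod 2) = 0 from rfl]
      rfl
    have hs : DihedralGroup.sr (0 : ZMod n) ∈ φ.ker := by
      rw [MonoidHom.mem_ker]
      show Multiplicative.ofAdd _ = (1 : Multiplicative (ZMod 2))
      rw [map_zero]
      rfl
    have hna : ¬ IsMulCommutative φ.ker := by
      intro hc
      have := congrArg Subtype.val (hc.is_comm.comm ⟨_, hr2⟩ ⟨_, hs⟩)
      simp only [Subgroup.coe_mul, DihedralGroup.r_mul_sr, DihedralGroup.sr_mul_r,
        DihedralGroup.sr.injEq, zero_sub, zero_add] at this
      have h4 : ((4 : ℕ) : ZMod n) = 0 := by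
        push_cast
        linear_combination -this
      have := (ZMod.natCast_eq_zero_iff _ _).mp h4
      have := Nat.le_of_dvd (by norm_num) this
      interval_cases n <;> simp_all [Nat.even_iff]
    have hN := h φ.ker hna
    rw [Subgroup.normalizer_eq_top_iff.mpr (MonoidHom.normal_ker φ)] at hN
    have h1 : DihedralGroup.r (1 : ZMod n) ∈ φ.ker := hN ▸ Subgroup.mem_top _
    rw [MonoidHom.mem_ker] at h1
    have h1' : Multiplicative.ofAdd ((ZMod.castHom h2n (ZMod 2)) 1) = (1 : Multiplicative (ZMod 2)) := h1
    rw [map_one, ofAdd_eq_one] at h1'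
    exact one_ne_zero h1'
  · rintro (rfl | hodd) H hH
    · have : H = ⊤ := by
        by_contra hne
        apply hH
        have hd : Nat.card H ∣ 2 ^ 3 := by
          have := Subgroup.card_subgroup_dvd_card H
          rwa [DihedralGroup.nat_card] at this
        obtain ⟨k, hk, hk'⟩ := (Nat.dvd_prime_pow Nat.prime_two).mp hd
        have hk3 : k ≠ 3 := fun h => hne (Subgroup.eq_top_of_card_eq H (by
          rw [hk', h, DihedralGroup.nat_card]; rfl))
        haveI := Fact.mk Nat.prime_two
        interval_cases k
        · haveI : Subsingleton H := (Nat.card_eq_one_iff_unique.mp (by simpa using hk')).1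
          exact ⟨⟨fun a b => Subsingleton.elim _ _⟩⟩
        · haveI : IsCyclic H := isCyclic_of_prime_card (p := 2) (by simpa using hk')
          exact ⟨⟨fun a b => IsCyclic.commGroup.mul_comm a b⟩⟩
        · exact ⟨⟨(IsPGroup.commGroupOfCardEqPrimeSq (p := 2) hk').mul_comm⟩⟩
        · exact absurd rfl hk3
      subst this
      exact Subgroup.normalizer_eq_top_iff.mpr inferInstance
    · refine le_antisymm (fun g hg => ?_) Subgroup.le_normalizer
      obtain ⟨j, hj⟩ : ∃ j, DihedralGroup.sr j ∈ H := by
        by_contra hcon
        push Not at hcon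
        refine hH ⟨⟨fun a b => ?_⟩⟩
        obtain ⟨a, ha⟩ := a
        obtain ⟨b, hb⟩ := b
        rcases a with i | i
        · rcases b with k | k
          · exact Subtype.ext (by show _ * _ = _ * _; rw [DihedralGroup.r_mul_r, DihedralGroup.r_mul_r, add_comm])
          · exact absurd hb (hcon k)
        · exact absurd ha (hcon i)
      have key : ∀ k, DihedralGroup.r k ∈ Subgroup.normalizer (H : Set (DihedralGroup n)) → DihedralGroup.r k ∈ H := by
        intro k hk
        have h1 := mul_mem hj ((Subgroup.mem_normalizer_iff.mp hk _).mp hj)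
        simp only [DihedralGroup.inv_r, DihedralGroup.r_mul_sr, DihedralGroup.sr_mul_r,
          DihedralGroup.sr_mul_sr] at h1
        rw [show j - k + -k - j = -(k + k) by ring, ← DihedralGroup.inv_r, inv_mem_iff] at h1
        obtain ⟨m, hm⟩ := hodd
        have h2 := pow_mem h1 (m + 1)
        rw [DihedralGroup.r_pow] at h2
        convert h2 using 2
        have : ((2 * m + 1 : ℕ) : ZMod n) = 0 := by rw [← hm]; exact ZMod.natCast_self n
        push_cast at this ⊢
        linear_combination -k * this
      rcases g with k | k
      · exact key k hg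
      · have h1 := key (k - j) (by
          have := mul_mem (Subgroup.le_normalizer hj) hg
          rwa [DihedralGroup.sr_mul_sr] at this)
        have h2 := mul_mem hj h1
        rwa [DihedralGroup.sr_mul_r, add_sub_cancel] at h2
end Cfsg.Agent.S4074
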