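import Cfsg.Statements.S4079
import Cfsg.Agent.Lib.FGB.MaxClassCentralizer
import Cfsg.Agent.Lib.FGB.CyclicDerivedRegular
import Cfsg.Agent.Lib.OddLocal.MetacyclicAction
import Cfsg.Agent.Lib.PGroup23.NormalSq
import Cfsg.Agent.S0644

set_option autoImplicit false
open Cfsg

namespace Cfsg.Agent.S4079

open scoped commutatorElement

universe u

variable {L : Type u} [Group L] [Finite L] {p : ℕ} [hp : Fact p.Prime]

abbrev SD (a : MulAut L) : Type u :=
  SemidirectProduct L ↥(Subgroup.zpowers a) (Subgroup.zpowers a).subtype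

theorem finite_sd (a : MulAut L) : Finite (SD a) := Finite.of_equiv _ SemidirectProduct.equivProd.symm

theorem card_sd (a : MulAut L) : Nat.card (SD a) = Nat.card L * orderOf a := by
  rw [Nat.card_congr SemidirectProduct.equivProd, Nat.card_prod, Nat.card_zpowers]

theorem isPGroup_sd (a : MulAut L) (ha : orderOf a = p) (hL : IsPGroup p L) : IsPGroup p (SD a) := by
  obtain ⟨n, hn⟩ := IsPGroup.iff_card.mp hL
  exact IsPGroup.of_card (n := n + 1) (by rw [card_sd, ha, hn, pow_succ])

theorem inr_inl (a : MulAut L) (g : L) :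
    (SemidirectProduct.inl (a g) : SD a) =
      SemidirectProduct.inr ⟨a, Subgroup.mem_zpowers a⟩ * SemidirectProduct.inl g *
        (SemidirectProduct.inr ⟨a, Subgroup.mem_zpowers a⟩)⁻¹ := by
  rw [← map_inv]
  exact SemidirectProduct.inl_aut (φ := (Subgroup.zpowers a).subtype) ⟨a, Subgroup.mem_zpowers a⟩ g

theorem fixed_of_inl_central (a : MulAut L) (g : L)
    (h : (SemidirectProduct.inl g : SD a) ∈ Subgroup.center (SD a)) :
    a g = g ∧ ∀ l : L, Commute g l := by
  refine ⟨SemidirectProduct.inl_injective (φ := (Subgroup.zpowers a).subtype) ?_, fun l => ?_⟩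
  · rw [inr_inl, Subgroup.mem_center_iff.mp h, mul_inv_cancel_right]
  · refine SemidirectProduct.inl_injective (φ := (Subgroup.zpowers a).subtype) ?_
    rw [map_mul, map_mul]
    exact (Subgroup.mem_center_iff.mp h _).symm

theorem eq_center_of_commute {a : MulAut L} (N : Subgroup (SD a)) [N.Normal] (g : L)
    (hl : ∀ l : L, (SemidirectProduct.inl (l * g * l⁻¹ * g⁻¹) : SD a) ∈ N)
    (haN : (SemidirectProduct.inl (a g * g⁻¹) : SD a) ∈ N) :
    (QuotientGroup.mk (SemidirectProduct.inl g : SD a) : SD a ⧸ N) ∈ Subgroup.center (SD a ⧸ N) := by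
  set f := QuotientGroup.mk' N with hf
  have key : ∀ t : SD a, t * SemidirectProduct.inl g * t⁻¹ * (SemidirectProduct.inl g)⁻¹ ∈ N →
      Commute (f t) (f (SemidirectProduct.inl g)) := by
    intro t ht
    have h1 : f (t * SemidirectProduct.inl g * t⁻¹ * (SemidirectProduct.inl g)⁻¹) = 1 :=
      (QuotientGroup.eq_one_iff _).mpr ht
    rw [map_mul, map_mul, map_mul, map_inv, map_inv, mul_inv_eq_one, mul_inv_eq_iff_eq_mul] at h1
    exact h1
  refine Subgroup.mem_center_iff.mpr fun q => ?_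
  obtain ⟨t, rfl⟩ := QuotientGroup.mk_surjective q
  change Commute (f t) (f (SemidirectProduct.inl g))
  rw [← SemidirectProduct.inl_left_mul_inr_right t, map_mul]
  refine Commute.mul_left (key _ ?_) ?_
  · rw [← map_inv, ← map_mul, ← map_mul, ← map_inv, ← map_mul]
    exact hl t.left
  · obtain ⟨k, hk⟩ := Subgroup.mem_zpowers_iff.mp t.right.2
    have : t.right = (⟨a, Subgroup.mem_zpowers a⟩ : Subgroup.zpowers a) ^ k :=
      Subtype.ext (by rw [Subgroup.coe_zpow]; exact hk.symm)
    rw [this, map_zpow, map_zpow]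
    refine (key _ ?_).zpow_left k
    rw [← inr_inl, ← map_inv, ← map_mul]
    exact haN

theorem isCyclic_commutator (hmc : Cfsg.IsMetacyclic L) : IsCyclic (commutator L) := by
  obtain ⟨N, hN, h1, h2⟩ := hmc
  haveI := hN
  haveI := h1
  haveI := h2
  have hle : commutator L ≤ N := by
    rw [commutator_def, Subgroup.commutator_le]
    intro x _ y _
    rw [← QuotientGroup.eq_one_iff]
    change (QuotientGroup.mk' N) ⁅x, y⁆ = 1
    rw [map_commutatorElement, commutatorElement_eq_one_iff_commute]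
    obtain ⟨q, hq⟩ := IsCyclic.exists_generator (α := L ⧸ N)
    obtain ⟨i, hi⟩ := Subgroup.mem_zpowers_iff.mp (hq (QuotientGroup.mk' N x))
    obtain ⟨j, hj⟩ := Subgroup.mem_zpowers_iff.mp (hq (QuotientGroup.mk' N y))
    rw [← hi, ← hj]
    exact (Commute.refl q).zpow_zpow i j
  exact isCyclic_of_injective (Subgroup.inclusion hle) (Subgroup.inclusion_injective _)

variable (hp2 : p ≠ 2) (hL : IsPGroup p L) (hmc : Cfsg.IsMetacyclic L)
  (hnc : ∀ C : Subgroup L, IsCyclic C → C.index ≠ p)

include hp2 hL hmc in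
theorem regular_L : Cfsg.IsRegularPGroup p L :=
  FGB.CyclicDerived.regular hp2 hL (isCyclic_commutator hmc)

include hp2 hL hmc hnc in
theorem omega_data (hreg : Cfsg.IsRegularPGroup p L) (m : ℕ) (hm : Nat.card L = p ^ m) (hm1 : m ≠ 0) :
    Nat.card (FGB.CyclicDerived.omegaOne hreg) = p ^ 2 ∧ 3 ≤ m ∧
      ∀ e : L, e ^ p = 1 → ∃ x : L, x ^ p = e := by
  set E := FGB.CyclicDerived.omegaOne hreg with hE
  have hppos := hp.out.pos
  -- `L` is not cyclic
  have hncL : ¬ IsCyclic L := by
    intro hc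
    obtain ⟨g, hg⟩ := hc.exists_generator
    refine hnc (Subgroup.zpowers (g ^ p)) inferInstance ?_
    have hcard : orderOf g = Nat.card L := orderOf_eq_card_of_forall_mem_zpowers hg
    have hdvd : p ∣ orderOf g := by rw [hcard, hm]; exact dvd_pow_self p hm1
    have h := Subgroup.card_mul_index (Subgroup.zpowers (g ^ p))
    rw [Nat.card_zpowers, orderOf_pow' g hp.out.ne_zero, Nat.gcd_eq_right hdvd, ← hcard] at h
    obtain ⟨c, hc⟩ := hdvd
    rw [hc, Nat.mul_div_cancel_left c hppos, mul_comm] at h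
    exact Nat.eq_of_mul_eq_mul_right (Nat.pos_of_ne_zero fun h0 => (orderOf_pos g).ne' (by rw [hc, h0, mul_zero])) h
  have hle := OddLocal.card_le_sq_of_metacyclic hmc E fun w hw => hw
  obtain ⟨E1, -, hE1, -, hE1p⟩ := PGroup23.exists_normal_elementary_sq hp2 hL hncL
  have hEeq : E1 = E := Subgroup.eq_of_le_of_card_ge (fun g hg => hE1p g hg) (hle.trans hE1.ge)
  have hcardE : Nat.card E = p ^ 2 := hEeq ▸ hE1
  have hm3 : 3 ≤ m := by
    by_contra hm3
    have hm2 : m = 2 := by
      have h := Nat.le_of_dvd Nat.card_pos (Subgroup.card_subgroup_dvd_card E)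
      rw [hcardE, hm, Nat.pow_le_pow_iff_right hp.out.one_lt] at h
      omega
    haveI : Nontrivial E := Finite.one_lt_card_iff_nontrivial.mp
      (by rw [hcardE]; exact one_lt_pow₀ hp.out.one_lt two_ne_zero)
    obtain ⟨e, he⟩ := exists_ne (1 : E)
    refine hnc (Subgroup.zpowers (e : L)) inferInstance ?_
    have horder : orderOf (e : L) = p :=
      orderOf_eq_prime e.2 fun h => he (Subtype.ext h)
    have h := Subgroup.card_mul_index (Subgroup.zpowers (e : L))
    rw [Nat.card_zpowers, horder, hm, hm2, sq] at h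
    exact Nat.eq_of_mul_eq_mul_left hppos h
  refine ⟨hcardE, hm3, ?_⟩
  obtain ⟨P, hP⟩ : ∃ P : Subgroup L, (P : Set L) = {y : L | ∃ x, y = x ^ p} := by
    refine ⟨Cfsg.powerClosure p 1 (⊤ : Subgroup L), ?_⟩
    rw [← (S0644.result hreg ⊤ 1).1]
    simp
  have hmemP : ∀ y, y ∈ P ↔ ∃ x, y = x ^ p := fun y => Set.ext_iff.mp hP y
  have hPnc : ¬ IsCyclic P := by
    intro hc
    obtain ⟨u, hu⟩ := hc.exists_generator
    obtain ⟨g, hg⟩ := (hmemP _).mp u.2
    have hcover : ∀ x : L, ∃ i : ℤ, x * (g ^ i)⁻¹ ∈ E := by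
      intro x
      obtain ⟨i, hi⟩ := Subgroup.mem_zpowers_iff.mp (hu ⟨x ^ p, (hmemP _).mpr ⟨x, rfl⟩⟩)
      refine ⟨i, ?_⟩
      have hi' : (g ^ i) ^ p = x ^ p := by
        rw [← zpow_natCast, ← zpow_mul, mul_comm, zpow_mul, zpow_natCast, ← hg]
        exact congrArg Subtype.val hi
      have h := (FGS.RegularPow.pow_eq_iff hreg x (g ^ i) 1).mp (by rw [pow_one, hi'])
      rw [pow_one] at h
      exact h
    haveI := FGB.CyclicDerived.omegaOne_normal hreg
    haveI hnE : (FGB.CyclicDerived.omegaOne hreg).Normal := FGB.CyclicDerived.omegaOne_normal hreg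
    set C := Subgroup.zpowers g with hC
    have hmap : C.map (QuotientGroup.mk' E) = ⊤ := by
      refine eq_top_iff.mpr fun q _ => ?_
      obtain ⟨x, rfl⟩ := QuotientGroup.mk_surjective q
      obtain ⟨i, hi⟩ := hcover x
      refine ⟨g ^ i, zpow_mem (Subgroup.mem_zpowers g) i, ?_⟩
      refine QuotientGroup.eq.mpr ?_
      have h2 := hnE.conj_mem _ hi (g ^ i)⁻¹
      rw [inv_inv] at h2
      rw [show (g ^ i)⁻¹ * x = (g ^ i)⁻¹ * (x * (g ^ i)⁻¹) * g ^ i by group]
      exact h2
    have h := Basics.card_map_mul_card_inf_ker (QuotientGroup.mk' E) C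
    rw [hmap, Subgroup.card_top, QuotientGroup.ker_mk'] at h
    have hLE := Subgroup.card_eq_card_quotient_mul_card_subgroup E
    rw [hcardE, hm] at hLE
    have hg1 : g ≠ 1 := by
      intro hg1
      have htop : (⊤ : Subgroup (L ⧸ E)) = ⊥ := by
        rw [← hmap, hC, hg1, Subgroup.zpowers_one_eq_bot, Subgroup.map_bot]
      have h1 : Nat.card (L ⧸ E) = 1 := by rw [← Subgroup.card_top, htop, Subgroup.card_bot]
      rw [h1, one_mul] at hLE
      have := Nat.pow_right_injective hp.out.two_le hLE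
      omega
    obtain ⟨k, hk⟩ := IsPGroup.iff_orderOf.mp hL g
    have hk0 : k ≠ 0 := fun h0 => hg1 (orderOf_eq_one_iff.mp (by rw [hk, h0, pow_zero]))
    have hinf : p ≤ Nat.card (C ⊓ E : Subgroup L) := by
      have hmem : g ^ p ^ (k - 1) ∈ C ⊓ E := by
        refine ⟨pow_mem (Subgroup.mem_zpowers g) _, ?_⟩
        change (g ^ p ^ (k - 1)) ^ p = 1
        rw [← pow_mul, ← pow_succ, show k - 1 + 1 = k by omega, ← hk, pow_orderOf_eq_one]
      have hord : orderOf (g ^ p ^ (k - 1)) = p := by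
        refine orderOf_eq_prime ?_ ?_
        · rw [← pow_mul, ← pow_succ, show k - 1 + 1 = k by omega, ← hk, pow_orderOf_eq_one]
        · exact pow_ne_one_of_lt_orderOf (pow_ne_zero _ hp.out.ne_zero)
            (by rw [hk]; exact Nat.pow_lt_pow_right hp.out.one_lt (by omega))
      have h := Nat.le_of_dvd Nat.card_pos (Subgroup.orderOf_dvd_natCard _ hmem)
      rwa [hord] at h
    obtain ⟨q, hq⟩ := IsPGroup.iff_card.mp (hL.to_quotient E)
    rw [hq, ← pow_add] at hLE
    have hqm : m = q + 2 := Nat.pow_right_injective hp.out.two_le hLE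
    have hCle : p ^ (m - 1) ≤ Nat.card C := by
      rw [← h, hq, show m - 1 = q + 1 by omega, pow_succ]
      exact Nat.mul_le_mul_left _ hinf
    rw [hC, Nat.card_zpowers, hk, Nat.pow_le_pow_iff_right hp.out.one_lt] at hCle
    have hkm : k ≤ m := by
      have := Nat.le_of_dvd Nat.card_pos (orderOf_dvd_natCard g)
      rwa [hk, hm, Nat.pow_le_pow_iff_right hp.out.one_lt] at this
    rcases hkm.eq_or_lt with hkm' | hkm'
    · exact hncL (isCyclic_of_orderOf_eq_card g (by rw [hk, hm, hkm']))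
    · refine hnc C inferInstance ?_
      have h := Subgroup.card_mul_index C
      rw [hC, Nat.card_zpowers, hk, hm, show m = k + 1 by omega, pow_succ] at h
      exact Nat.eq_of_mul_eq_mul_left (pow_pos hppos _) h
  intro e he
  obtain ⟨E2, -, hE2, -, hE2p⟩ := PGroup23.exists_normal_elementary_sq hp2 (hL.to_subgroup P) hPnc
  have hEP : E2.map P.subtype = E := by
    refine Subgroup.eq_of_le_of_card_ge ?_ ?_
    · rintro _ ⟨v, hv, rfl⟩
      exact congrArg Subtype.val (hE2p v hv)
    · rw [Subgroup.card_map_of_injective P.subtype_injective, hE2, hcardE]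
  obtain ⟨v, -, hv⟩ := hEP.ge (show e ∈ E from he)
  obtain ⟨x, hx⟩ := (hmemP _).mp v.2
  exact ⟨x, hx.symm.trans hv⟩

include hp2 in
theorem forward_calc (a : MulAut L) (ha : orderOf a = p) (x y e1 z' : L)
    (hax : a x = x * y) (hay : a y = y * e1) (hae : a e1 = e1 * z') (haz : a z' = z')
    (h1 : Commute e1 y) (h2 : ∀ l, Commute z' l) (he1 : e1 ^ p = 1) (hz' : z' ^ p = 1) :
    y ^ p = 1 ∨ (p = 3 ∧ y ^ p * z' = 1) := by
  have key : ∀ k : ℕ, (a ^ k) x = x * (y ^ k * e1 ^ k.choose 2 * z' ^ k.choose 3) := by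
    intro k
    induction k with
    | zero => simp
    | succ k ih =>
      have c2 : (k + 1).choose 2 = k + k.choose 2 := by rw [Nat.choose_succ_succ', Nat.choose_one_right]
      have c3 : (k + 1).choose 3 = k.choose 2 + k.choose 3 := Nat.choose_succ_succ' k 2
      rw [pow_succ' a k, MulAut.mul_apply, ih, map_mul, map_mul, map_mul, map_pow, map_pow, map_pow, hax, hay, hae,
        haz, h1.symm.mul_pow, (h2 e1).symm.mul_pow, c2, c3, pow_add e1, pow_add z', pow_succ' y k]
      simp only [mul_assoc]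
  have hp_ := hp.out
  have h := key p
  rw [show a ^ p = 1 by rw [← ha, pow_orderOf_eq_one], MulAut.one_apply, left_eq_mul] at h
  obtain ⟨c, hc⟩ : p ∣ p.choose 2 :=
    hp.out.dvd_choose_self two_ne_zero (lt_of_le_of_ne hp.out.two_le (Ne.symm hp2))
  rw [hc, pow_mul, he1, one_pow, mul_one] at h
  by_cases h3 : p = 3
  · right
    refine ⟨h3, ?_⟩
    rw [show p.choose 3 = 1 by rw [h3]; rfl, pow_one] at h
    exact h
  · left
    have h2le := hp.out.two_le
    obtain ⟨c, hc⟩ : p ∣ p.choose 3 := hp.out.dvd_choose_self (by norm_num) (by omega)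
    rw [hc, pow_mul, hz', one_pow, mul_one] at h
    exact h

include hp2 hL hmc hnc in
theorem forward (a : MulAut L) (ha : orderOf a = p) (m : ℕ) (hm : Nat.card L = p ^ m)
    (hmove : ∃ x : L, orderOf x = p ∧ a x ≠ x) :
    p = 3 ∧ Group.nilpotencyClass (SD a) = m := by
  haveI := finite_sd a
  have hS := isPGroup_sd a ha hL
  have hreg := regular_L hp2 hL hmc
  obtain ⟨e0, he0, he0a⟩ := hmove
  have hm1 : m ≠ 0 := by
    intro h0
    rw [h0, pow_zero] at hm
    haveI : Subsingleton L := (Nat.card_eq_one_iff_unique.mp hm).1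
    exact he0a (Subsingleton.elim _ _)
  obtain ⟨hcardE, hm3, hroot⟩ := omega_data hp2 hL hmc hnc hreg m hm hm1
  set E := FGB.CyclicDerived.omegaOne hreg with hE
  have hmemE : ∀ g, g ∈ E ↔ g ^ p = 1 := fun g => Iff.rfl
  let inl : L →* SD a := SemidirectProduct.inl
  haveI hEn : (E.map inl).Normal := by
    refine ⟨?_⟩
    rintro _ ⟨e, he, rfl⟩ t
    have hr : t * inl e * t⁻¹ ∈ (inl : L →* SD a).range := by
      change _ ∈ (SemidirectProduct.inl : L →* SD a).range
      rw [SemidirectProduct.range_inl_eq_ker_rightHom]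
      refine Subgroup.Normal.conj_mem inferInstance _ ?_ t
      rw [MonoidHom.mem_ker]
      exact SemidirectProduct.rightHom_inl e
    obtain ⟨e', he'⟩ := hr
    refine ⟨e', ?_, he'⟩
    refine (hmemE e').mpr (SemidirectProduct.inl_injective (φ := (Subgroup.zpowers a).subtype) ?_)
    rw [map_pow, map_one]
    change (inl e') ^ p = 1
    rw [he', conj_pow, ← map_pow, (hmemE e).mp he, map_one, mul_one, mul_inv_cancel]
  -- the fixed line
  let F : Subgroup L :=
    { carrier := {e | e ^ p = 1 ∧ a e = e}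
      one_mem' := ⟨one_pow p, map_one a⟩
      mul_mem' := fun {u v} hu hv => ⟨E.mul_mem hu.1 hv.1, by rw [map_mul, hu.2, hv.2]⟩
      inv_mem' := fun {u} hu => ⟨E.inv_mem hu.1, by rw [map_inv, hu.2]⟩ }
  have hdelta : ∀ e ∈ E, ∀ t : SD a, ∃ v ∈ E, inl v = inl e * t * (inl e)⁻¹ * t⁻¹ ∧
      a v = v ∧ ∀ l, Commute v l := by
    intro e he t
    have hmem : ⁅inl e, t⁆ ∈ E.map inl ⊓ Subgroup.center (SD a) :=
      OddLocal.commutator_top_le_center hS (E.map inl)
        (by rw [Subgroup.card_map_of_injective SemidirectProduct.inl_injective, hcardE])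
        (Subgroup.commutator_mem_commutator (Subgroup.mem_map_of_mem inl he) (Subgroup.mem_top t))
    obtain ⟨v, hv, hv'⟩ := hmem.1
    have := fixed_of_inl_central a v (by rw [show SemidirectProduct.inl v = ⁅inl e, t⁆ from hv']; exact hmem.2)
    exact ⟨v, hv, hv', this.1, this.2⟩
  have hd : ∀ e ∈ E, e⁻¹ * a e ∈ F ∧ ∀ l, Commute (e⁻¹ * a e) l := by
    intro e he
    obtain ⟨v, hv, hveq, hva, hvc⟩ := hdelta e he (SemidirectProduct.inr ⟨a, Subgroup.mem_zpowers a⟩)
    have hae : a e = v⁻¹ * e := by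
      refine SemidirectProduct.inl_injective (φ := (Subgroup.zpowers a).subtype) ?_
      rw [map_mul, map_inv, inr_inl]
      change _ = (inl v)⁻¹ * inl e
      rw [hveq]
      group
      rfl
    have hd : e⁻¹ * a e = v⁻¹ := by rw [hae, ← mul_assoc, (hvc e⁻¹).inv_left.symm.eq, mul_assoc, inv_mul_cancel, mul_one]
    rw [hd]
    exact ⟨⟨E.inv_mem hv, by rw [map_inv, hva]⟩, fun l => (hvc l).inv_left⟩
  have he0E : e0 ∈ E := (hmemE e0).mpr (he0 ▸ pow_orderOf_eq_one e0)
  set z := e0⁻¹ * a e0 with hz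
  have hz1 : z ≠ 1 := fun h => he0a (by rw [hz, inv_mul_eq_one] at h; exact h.symm)
  have hzF : z ∈ F := (hd e0 he0E).1
  have hFE : F ≤ E := fun g hg => hg.1
  have hcardF : Nat.card F = p := by
    obtain ⟨j, hjle, hj⟩ := (Nat.dvd_prime_pow hp.out).mp (hcardE ▸ Subgroup.card_dvd_of_le hFE)
    have hj0 : j ≠ 0 := by
      intro h0
      rw [h0, pow_zero, Subgroup.card_eq_one] at hj
      exact hz1 (Subgroup.mem_bot.mp (hj ▸ hzF))
    have hj2 : j ≠ 2 := by
      intro h2
      have hFeq : F = E := Subgroup.eq_of_le_of_card_ge hFE (by rw [hj, h2, hcardE])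
      exact he0a (hFeq.ge he0E).2
    rw [hj, show j = 1 by omega, pow_one]
  have hzgen : Subgroup.zpowers z = F := by
    refine Subgroup.eq_of_le_of_card_ge (Subgroup.zpowers_le.mpr hzF) ?_
    rw [hcardF, Nat.card_zpowers, orderOf_eq_prime ((hmemE z).mp (hFE hzF)) hz1]
  have hdc : ∀ g : L, ∀ e ∈ E, Commute e (g⁻¹ * a g) := by
    intro g e he
    obtain ⟨v, hv, hveq, hva, hvc⟩ := hdelta e he (inl g)
    have hveq' : v = e * g * e⁻¹ * g⁻¹ := SemidirectProduct.inl_injective (φ := (Subgroup.zpowers a).subtype)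
      (hveq.trans (by simp [inl]))
    obtain ⟨-, hdcen⟩ := hd e he
    set d := e⁻¹ * a e with hd'
    have hae : a e = e * d := by rw [hd', mul_inv_cancel_left]
    have h1 : e * g * e⁻¹ * g⁻¹ = e * a g * e⁻¹ * (a g)⁻¹ := by
      conv_lhs => rw [← hveq', ← hva, hveq', map_mul, map_mul, map_mul, map_inv, map_inv, hae]
      rw [mul_inv_rev, mul_assoc e d (a g), (hdcen (a g)).eq]
      group
    refine (?_ : e * (g⁻¹ * a g) = g⁻¹ * a g * e)
    calc e * (g⁻¹ * a g)
        = g⁻¹ * (e * g * e⁻¹ * g⁻¹)⁻¹ * (e * a g * e⁻¹ * (a g)⁻¹) * (a g * e) := by group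
      _ = g⁻¹ * (e * g * e⁻¹ * g⁻¹)⁻¹ * (e * g * e⁻¹ * g⁻¹) * (a g * e) := by rw [h1]
      _ = g⁻¹ * a g * e := by group
  obtain ⟨x, hx⟩ := hroot e0 ((hmemE e0).mp he0E)
  set y := x⁻¹ * a x with hy
  have hax : a x = x * y := by rw [hy, mul_inv_cancel_left]
  have hyp : y ^ p = z := by
    have h := FGB.CyclicDerived.mul_pow_of_commute_pow hreg x y (hx ▸ hdc x e0 he0E)
    rw [← hax, ← map_pow, hx] at h
    rw [hz, h, inv_mul_cancel_left]
  set e1 := y⁻¹ * a y with he1
  have hay : a y = y * e1 := by rw [he1, mul_inv_cancel_left]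
  have he1E : a y * y⁻¹ ∈ E := by
    have h := (FGS.RegularPow.pow_eq_iff hreg (a y) y 1).mp
      (by rw [pow_one, ← map_pow, hyp]; exact hzF.2)
    rw [pow_one] at h
    exact h
  have he1' : e1 = a y * y⁻¹ := by
    have hcm : Commute (a y * y⁻¹) y := hdc x _ he1E
    rw [he1]
    calc y⁻¹ * a y = y⁻¹ * (a y * y⁻¹ * y) := by group
      _ = y⁻¹ * (y * (a y * y⁻¹)) := by rw [hcm.eq]
      _ = a y * y⁻¹ := by group
  have he1mem : e1 ∈ E := he1' ▸ he1E
  set z' := e1⁻¹ * a e1 with hz'
  have hae1 : a e1 = e1 * z' := by rw [hz', mul_inv_cancel_left]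
  obtain ⟨hz'F, hz'c⟩ := hd e1 he1mem
  rcases forward_calc hp2 a ha x y e1 z' hax hay hae1 hz'F.2 (hdc x e1 he1mem) hz'c
    ((hmemE e1).mp he1mem) hz'F.1 with h | ⟨h3, h⟩
  · exact absurd (hyp ▸ h) hz1
  refine ⟨h3, ?_⟩
  rw [hyp] at h
  have hz'1 : z' ≠ 1 := fun h0 => hz1 (by rw [h0, mul_one] at h; exact h)
  -- fixed points of `a`
  have hkey : ∀ g : L, a g = g → g ^ p ^ 2 = 1 → g ^ p = 1 := by
    intro g hga hg2
    have hu : g ^ p ∈ F := ⟨by rw [← pow_mul, ← sq]; exact hg2, by rw [map_pow, hga]⟩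
    rw [← hzgen] at hu
    obtain ⟨i, hi⟩ := mem_powers_iff_mem_zpowers.mpr hu
    change z ^ i = g ^ p at hi
    by_cases hpi : p ∣ i
    · obtain ⟨c, rfl⟩ := hpi
      rw [← hi, pow_mul, (hmemE z).mp (hFE hzF), one_pow]
    exfalso
    have hf : g * (y ^ i)⁻¹ ∈ E := by
      have h := (FGS.RegularPow.pow_eq_iff hreg g (y ^ i) 1).mp
        (by rw [pow_one, ← pow_mul, mul_comm, pow_mul, hyp, hi])
      rw [pow_one] at h
      exact h
    set f := g * (y ^ i)⁻¹ with hfdef
    obtain ⟨hdF, hdC⟩ := hd f hf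
    set d := f⁻¹ * a f with hd'
    have haf : a f = f * d := by rw [hd', mul_inv_cancel_left]
    have hg : g = f * y ^ i := by rw [hfdef, inv_mul_cancel_right]
    have h1 : f * d * (y * e1) ^ i = f * y ^ i := by
      rw [← haf, ← hay, ← map_pow, ← map_mul, ← hg, hga]
    rw [(hdc x e1 he1mem).symm.mul_pow, mul_assoc, mul_right_inj, ← mul_assoc, (hdC (y ^ i)).eq, mul_assoc,
      mul_eq_left] at h1
    have h2 : e1 ^ i ∈ F := by rw [eq_inv_of_mul_eq_one_right h1]; exact F.inv_mem hdF
    have hcop : (orderOf e1).Coprime i := by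
      refine Nat.Coprime.coprime_dvd_left (orderOf_dvd_of_pow_eq_one ((hmemE e1).mp he1mem)) ?_
      exact (Nat.Prime.coprime_iff_not_dvd hp.out).mpr hpi
    obtain ⟨n, hn⟩ := exists_pow_eq_self_of_coprime hcop.symm
    have h3 : e1 ∈ F := hn ▸ pow_mem h2 n
    exact hz'1 (by rw [hz', h3.2, inv_mul_cancel])
  have hfix : ∀ g : L, a g = g → g ∈ F := by
    have : ∀ j : ℕ, ∀ g : L, a g = g → g ^ p ^ j = 1 → g ^ p = 1 := by
      intro j
      induction j with
      | zero => intro g _ hg; rw [pow_zero, pow_one] at hg; rw [hg, one_pow]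
      | succ j ih =>
        intro g hga hg
        refine hkey g hga ?_
        rw [sq, pow_mul]
        exact ih (g ^ p) (by rw [map_pow, hga]) (by rw [← pow_mul, ← pow_succ']; exact hg)
    intro g hga
    obtain ⟨j, hj⟩ := hL g
    exact ⟨this j g hga hj, hga⟩
  -- the centralizer of `a`
  set s : SD a := SemidirectProduct.inr ⟨a, Subgroup.mem_zpowers a⟩ with hs
  have hC : Nat.card (Subgroup.centralizer ({s} : Set (SD a))) = p ^ 2 := by
    have hiff : ∀ t : SD a, t ∈ Subgroup.centralizer ({s} : Set (SD a)) ↔ t.left ∈ F := by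
      intro t
      rw [Subgroup.mem_centralizer_singleton_iff]
      constructor
      · intro h
        refine hfix _ ?_
        have h1 := congrArg SemidirectProduct.left h
        simp [hs] at h1
        exact h1.symm
      · intro h
        refine SemidirectProduct.ext ?_ ?_
        · simp [hs, h.2]
        · simp only [SemidirectProduct.mul_right]
          exact mul_comm' _ _
    let eqv : Subgroup.centralizer ({s} : Set (SD a)) ≃ F × Subgroup.zpowers a :=
      { toFun := fun t => (⟨t.1.left, (hiff t.1).mp t.2⟩, t.1.right)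
        invFun := fun q => ⟨⟨q.1.1, q.2⟩, (hiff _).mpr q.1.2⟩
        left_inv := fun t => rfl
        right_inv := fun q => rfl }
    rw [Nat.card_congr eqv, Nat.card_prod, hcardF, Nat.card_zpowers, ha, sq]
  have := FGB.MaxClass.class_of_centralizer hS (n := m + 1) (by rw [card_sd, ha, hm, pow_succ]) s hC
  omega

include hp2 hL hmc hnc in
theorem backward (a : MulAut L) (ha : orderOf a = p) (m : ℕ) (hm : Nat.card L = p ^ m)
    (hcl : Group.nilpotencyClass (SD a) = m) : ∃ x : L, orderOf x = p ∧ a x ≠ x := by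
  haveI := finite_sd a
  have hS := isPGroup_sd a ha hL
  have hreg := regular_L hp2 hL hmc
  have hm1 : m ≠ 0 := by
    intro h0
    rw [h0, pow_zero] at hm
    haveI : Subsingleton L := (Nat.card_eq_one_iff_unique.mp hm).1
    have ha1 : a = 1 := MulEquiv.ext fun g => Subsingleton.elim _ _
    rw [ha1, orderOf_one] at ha
    exact hp.out.one_lt.ne ha
  obtain ⟨hcardE, hm3, hroot⟩ := omega_data hp2 hL hmc hnc hreg m hm hm1
  set E := FGB.CyclicDerived.omegaOne hreg with hE
  haveI : E.Normal := FGB.CyclicDerived.omegaOne_normal hreg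
  have hmemE : ∀ g, g ∈ E ↔ g ^ p = 1 := fun g => Iff.rfl
  by_contra hcon
  push Not at hcon
  have hEfix : ∀ e ∈ E, a e = e := by
    intro e he
    by_cases h1 : e = 1
    · rw [h1, map_one]
    · exact hcon e (orderOf_eq_prime ((hmemE e).mp he) h1)
  have hcardS : Nat.card (SD a) = p ^ (m + 1) := by rw [card_sd, ha, hm, pow_succ]
  obtain ⟨hZ, hQ, hclQ⟩ := FGB.MaxClass.center_data hS hcardS (by omega) (by omega)
  obtain ⟨hZ2, -, -⟩ := FGB.MaxClass.center_data (hS.to_quotient _) hQ (by omega) hclQ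
  set Z := Subgroup.center (SD a) with hZdef
  let inl : L →* SD a := SemidirectProduct.inl
  -- `E` is not central in `L`
  obtain ⟨e, he, l, hel⟩ : ∃ e ∈ E, ∃ l : L, ¬ Commute e l := by
    by_contra hall
    push Not at hall
    have hle : E.map inl ≤ Z := by
      rintro _ ⟨e, he, rfl⟩
      refine Subgroup.mem_center_iff.mpr fun t => ?_
      rw [← SemidirectProduct.inl_left_mul_inr_right t]
      refine (Commute.mul_left ?_ ?_ : Commute _ (inl e))
      · exact ((hall e he t.left).symm.map inl)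
      · obtain ⟨k, hk⟩ := Subgroup.mem_zpowers_iff.mp t.right.2
        have : t.right = (⟨a, Subgroup.mem_zpowers a⟩ : Subgroup.zpowers a) ^ k :=
          Subtype.ext (by rw [Subgroup.coe_zpow]; exact hk.symm)
        rw [this, map_zpow]
        refine Commute.zpow_left ?_ k
        have h := inr_inl a e
        rw [hEfix e he] at h
        exact mul_inv_eq_iff_eq_mul.mp h.symm
    have := Nat.le_of_dvd Nat.card_pos (Subgroup.card_dvd_of_le hle)
    rw [Subgroup.card_map_of_injective SemidirectProduct.inl_injective, hcardE, hZ, sq] at this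
    have := hp.out.one_lt
    nlinarith
  set T := E ⊓ commutator L with hT
  haveI := isCyclic_commutator hmc
  haveI hTc : IsCyclic T :=
    isCyclic_of_injective (Subgroup.inclusion (inf_le_right : T ≤ commutator L)) (Subgroup.inclusion_injective _)
  have hTcard : Nat.card T ≤ p := by
    rw [← IsCyclic.exponent_eq_card]
    exact Nat.le_of_dvd hp.out.pos
      (Monoid.exponent_dvd_of_forall_pow_eq_one fun w => Subtype.ext ((hmemE _).mp w.2.1))
  have hTcen := OddLocal.le_center_of_card_le hL T hTcard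
  have hTZ : T.map inl ≤ Z := by
    rintro _ ⟨v, hv, rfl⟩
    refine Subgroup.mem_center_iff.mpr fun t => ?_
    rw [← SemidirectProduct.inl_left_mul_inr_right t]
    refine (Commute.mul_left ?_ ?_ : Commute _ (inl v))
    · exact (show Commute t.left v from Subgroup.mem_center_iff.mp (hTcen hv) t.left).map inl
    · obtain ⟨k, hk⟩ := Subgroup.mem_zpowers_iff.mp t.right.2
      have : t.right = (⟨a, Subgroup.mem_zpowers a⟩ : Subgroup.zpowers a) ^ k :=
        Subtype.ext (by rw [Subgroup.coe_zpow]; exact hk.symm)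
      rw [this, map_zpow]
      refine Commute.zpow_left ?_ k
      have h := inr_inl a v
      rw [hEfix v hv.1] at h
      exact mul_inv_eq_iff_eq_mul.mp h.symm
  have hle_el : l * e * l⁻¹ * e⁻¹ ∈ T := by
    refine ⟨E.mul_mem (Subgroup.Normal.conj_mem inferInstance e he l) (E.inv_mem he), ?_⟩
    rw [← commutatorElement_def]
    exact Subgroup.commutator_mem_commutator (Subgroup.mem_top l) (Subgroup.mem_top e)
  have hTne : T ≠ ⊥ := by
    intro h
    rw [h, Subgroup.mem_bot, mul_inv_eq_one, mul_inv_eq_iff_eq_mul] at hle_el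
    exact hel hle_el.symm
  have hZT : Z = T.map inl := by
    refine (Subgroup.eq_of_le_of_card_ge hTZ ?_).symm
    rw [Subgroup.card_map_of_injective SemidirectProduct.inl_injective, hZ]
    obtain ⟨j, hj⟩ := IsPGroup.iff_card.mp (hL.to_subgroup T)
    have hj0 : j ≠ 0 := fun h0 => hTne (Subgroup.card_eq_one.mp (by rw [hj, h0, pow_zero]))
    rw [hj]
    exact Nat.le_self_pow hj0 p
  haveI hZn : Z.Normal := inferInstance
  obtain ⟨w, hw⟩ := hroot e ((hmemE e).mp he)
  set c := l * w * l⁻¹ * w⁻¹ with hc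
  have hcD : c ∈ commutator L := by
    rw [hc, ← commutatorElement_def]
    exact Subgroup.commutator_mem_commutator (Subgroup.mem_top l) (Subgroup.mem_top w)
  have hc1 : c ∉ E := by
    intro hcE
    have h := (FGS.RegularPow.pow_eq_iff hreg (l * w * l⁻¹) w 1).mpr
      (by rw [pow_one]; exact (hmemE _).mp hcE)
    rw [pow_one, conj_pow, hw, mul_inv_eq_iff_eq_mul] at h
    exact hel h.symm
  have hc2 : c ^ p ∈ T := by
    refine ⟨(hmemE _).mpr ?_, pow_mem hcD p⟩
    have h := (FGS.RegularPow.pow_eq_iff hreg (l * w * l⁻¹) w 2).mp (by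
      rw [conj_pow, sq, pow_mul, hw, (hmemE e).mp he, mul_one, mul_inv_cancel])
    rw [← hc] at h
    rw [← pow_mul, ← sq]
    exact h
  have hccentral : (QuotientGroup.mk (inl c) : SD a ⧸ Z) ∈ Subgroup.center (SD a ⧸ Z) := by
    refine eq_center_of_commute Z c (fun g => ?_) ?_
    · rw [hZT]
      refine Subgroup.mem_map_of_mem inl ⟨(hmemE _).mpr ?_, ?_⟩
      · have h := (FGS.RegularPow.pow_eq_iff hreg (g * c * g⁻¹) c 1).mp (by
          rw [pow_one, conj_pow, Subgroup.mem_center_iff.mp (hTcen hc2) g, mul_inv_cancel_right])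
        rw [pow_one] at h
        exact h
      · rw [← commutatorElement_def]
        exact Subgroup.commutator_mem_commutator (Subgroup.mem_top g) (Subgroup.mem_top c)
    · rw [hZT]
      refine Subgroup.mem_map_of_mem inl ⟨(hmemE _).mpr ?_, ?_⟩
      · have h := (FGS.RegularPow.pow_eq_iff hreg (a c) c 1).mp
          (by rw [pow_one, ← map_pow, hEfix _ hc2.1])
        rw [pow_one] at h
        exact h
      · refine (commutator L).mul_mem ?_ ((commutator L).inv_mem hcD)
        have hchar : (commutator L).comap a.toMonoidHom = commutator L :=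
          Subgroup.characteristic_iff_comap_eq.mp inferInstance a
        exact hchar.ge hcD
  have hecentral : (QuotientGroup.mk (inl e) : SD a ⧸ Z) ∈ Subgroup.center (SD a ⧸ Z) := by
    refine eq_center_of_commute Z e (fun g => ?_) ?_
    · rw [hZT]
      refine Subgroup.mem_map_of_mem inl
        ⟨E.mul_mem (Subgroup.Normal.conj_mem inferInstance e he g) (E.inv_mem he), ?_⟩
      rw [← commutatorElement_def]
      exact Subgroup.commutator_mem_commutator (Subgroup.mem_top g) (Subgroup.mem_top e)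
    · rw [hEfix e he, mul_inv_cancel, map_one]
      exact Z.one_mem
  have heZ : (QuotientGroup.mk (inl e) : SD a ⧸ Z) ≠ 1 := by
    intro h
    exact hel ((fixed_of_inl_central a e ((QuotientGroup.eq_one_iff _).mp h)).2 l)
  haveI := Fact.mk hp.out
  obtain ⟨k, hk⟩ := Subgroup.mem_zpowers_iff.mp
    (mem_zpowers_of_prime_card hZ2 (g := ⟨_, hecentral⟩) (g' := ⟨_, hccentral⟩)
      (fun h => heZ (congrArg Subtype.val h)))
  have hk' : (QuotientGroup.mk (inl (e ^ k)) : SD a ⧸ Z) = QuotientGroup.mk (inl c) := by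
    rw [map_zpow, QuotientGroup.mk_zpow]
    exact congrArg Subtype.val hk
  have hmem : (inl (e ^ k))⁻¹ * inl c ∈ T.map inl := hZT ▸ QuotientGroup.eq.mp hk'
  rw [← map_inv, ← map_mul] at hmem
  obtain ⟨v, hv, hveq⟩ := hmem
  have hv' : v = (e ^ k)⁻¹ * c := SemidirectProduct.inl_injective hveq
  have : c = e ^ k * v := by rw [hv', mul_inv_cancel_left]
  exact hc1 (this ▸ E.mul_mem (E.zpow_mem he k) hv.1)


/-- Let p be an odd prime and L a finite metacyclic p-group with no cyclic subgroup of index p, and let a be an automorphism of L of order p. Then a moves some element of order p of L if and only if p = 3 and the semidirect product L ⋊ ⟨a⟩ (of order 3·#L) has maximal class, i.e. nilpotency class m where #L = 3^m. -/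
theorem result {L : Type*} [Group L] [Finite L] {p : ℕ} [Fact p.Prime]
    (hp : p ≠ 2) (hL : IsPGroup p L) (hmc : Cfsg.IsMetacyclic L) (hnc : ∀ C : Subgroup L, IsCyclic C → C.index ≠ p)
    (a : MulAut L) (ha : orderOf a = p) (m : ℕ) (hm : Nat.card L = p ^ m) :
    (∃ x : L, orderOf x = p ∧ a x ≠ x) ↔
    (p = 3 ∧ Group.nilpotencyClass (SemidirectProduct L ↥(Subgroup.zpowers a) (Subgroup.zpowers a).subtype) = m) := by
  refine ⟨fun h => forward hp hL hmc hnc a ha m hm h, ?_⟩
  rintro ⟨-, h⟩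
  exact backward hp hL hmc hnc a ha m hm h

end Cfsg.Agent.S4079
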