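import Cfsg.Statements.S4080
import Mathlib
-- import your own Cfsg.Agent.* helpers here

set_option autoImplicit false
open Cfsg

namespace Cfsg.Agent.S4080

/-- An automorphism of order `p > 3` of a group of exponent `p²` with small `p`-torsion inside
the multiples of `p` fixes that torsion. -/
theorem fixed_of_pow_eq_one {L : Type*} [AddCommGroup L] [Finite L] {p : ℕ} [Fact p.Prime] (hp : 3 < p)
    (A : AddMonoid.End L) (hAp : A ^ p = 1) (hpp : ∀ v : L, p • (p • v) = 0)
    (hsmall : ∀ V : AddSubgroup L, (∀ v ∈ V, p • v = 0) → Nat.card V < p ^ 3)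
    (hdiv : ∀ v : L, p • v = 0 → ∃ w : L, p • w = v) (u : L) (hu : p • u = 0) : A u = u := by
  classical
  have hp' : p.Prime := Fact.out
  set n : AddMonoid.End L := A - 1 with hn
  have hAn : A = n + 1 := (sub_add_cancel A 1).symm
  have hA1 : ∀ w, A w = n w + w := fun w => congrArg (fun f : AddMonoid.End L => f w) hAn
  set V : AddSubgroup L := (nsmulAddMonoidHom (α := L) p).ker with hV
  have hmemV : ∀ v, v ∈ V ↔ p • v = 0 := fun v => by rw [hV, AddMonoidHom.mem_ker]; rfl
  have hVcard := hsmall V fun v hv => (hmemV v).mp hv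
  let nh : L →+ L := n
  have hnh : ∀ v, nh v = n v := fun v => rfl
  -- `n` is nilpotent on `V`
  have hnV : ∀ v ∈ V, (n ^ p) v = 0 := by
    intro v hv
    obtain ⟨r, hr⟩ := (Commute.one_right n).exists_add_pow_prime_eq hp'
    rw [← hAn, hAp, one_pow, mul_one] at hr
    have h2 : v = (n ^ p) v + v + p • n (r v) := congrArg (fun f : AddMonoid.End L => f v) hr
    have h3 : p • n (r v) = 0 := by
      rw [← map_nsmul n, ← map_nsmul r, (hmemV v).mp hv, map_zero, map_zero]
    rw [h3, add_zero] at h2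
    exact add_eq_right.mp h2.symm
  have hexp : ∀ w : L, p ^ 2 • w = 0 := fun w => by rw [pow_two, mul_nsmul, hpp]
  have hstep : ∀ W : AddSubgroup L, W ≤ V → W ≠ ⊥ → W.map nh ≤ W → Nat.card (W.map nh) * p ≤ Nat.card W := by
    intro W hWV hW hle
    have hne : W.map nh ≠ W := by
      intro heq
      apply hW
      have key : ∀ k : ℕ, ∀ w ∈ W, ∃ w' ∈ W, (n ^ k) w' = w := by
        intro k
        induction k with
        | zero => exact fun w hw => ⟨w, hw, rfl⟩
        | succ k ih =>
          intro w hw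
          obtain ⟨w1, hw1, rfl⟩ := ih w hw
          obtain ⟨w2, hw2, rfl⟩ := (heq.symm ▸ hw1 : w1 ∈ W.map nh)
          exact ⟨w2, hw2, by rw [pow_succ, AddMonoid.End.coe_mul]; rfl⟩
      rw [eq_bot_iff]
      intro w hw
      obtain ⟨w', hw', rfl⟩ := key p w hw
      exact AddSubgroup.mem_bot.mpr (hnV w' (hWV hw'))
    obtain ⟨c, hc⟩ := AddSubgroup.card_dvd_of_le hle
    rw [hc]
    refine Nat.mul_le_mul_left _ ?_
    have hc1 : c ≠ 1 := fun h => hne (AddSubgroup.eq_of_le_of_card_ge hle (by rw [hc, h, mul_one]))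
    obtain ⟨q, hq, hqc⟩ := Nat.exists_prime_and_dvd hc1
    haveI := Fact.mk hq
    obtain ⟨z, hz⟩ := exists_prime_addOrderOf_dvd_card' (G := W) q (hqc.trans (Dvd.intro_left _ hc.symm))
    have hqp : q ∣ p := by
      rw [← hz]
      exact addOrderOf_dvd_of_nsmul_eq_zero (Subtype.ext ((hmemV _).mp (hWV z.2)))
    rw [(Nat.prime_dvd_prime_iff_eq hq hp').mp hqp] at hqc
    exact Nat.le_of_dvd (Nat.pos_of_ne_zero fun h => Nat.card_pos.ne' (hc.trans (by rw [h, mul_zero]))) hqc
  have hn2 : ∀ v ∈ V, n (n v) = 0 := by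
    intro v hv
    have hVn : V.map nh ≤ V := by
      rintro _ ⟨w, hw, rfl⟩
      rw [hmemV, ← map_nsmul nh, (hmemV w).mp hw, map_zero]
    by_contra hne
    have hW1 : (V.map nh).map nh ≠ ⊥ := by
      intro hb
      have : n (n v) ∈ (V.map nh).map nh := ⟨n v, ⟨v, hv, rfl⟩, rfl⟩
      rw [hb] at this
      exact hne (AddSubgroup.mem_bot.mp this)
    have hV1 : V.map nh ≠ ⊥ := fun h => hW1 (by rw [h, AddSubgroup.map_bot])
    have hVb : V ≠ ⊥ := fun h => hV1 (by rw [h, AddSubgroup.map_bot])
    have e1 := hstep V le_rfl hVb hVn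
    have e2 := hstep (V.map nh) hVn hV1 (AddSubgroup.map_mono hVn)
    have e3 := hstep ((V.map nh).map nh) ((AddSubgroup.map_mono hVn).trans hVn) hW1
      (AddSubgroup.map_mono (AddSubgroup.map_mono hVn))
    have e4 : 1 ≤ Nat.card (((V.map nh).map nh).map nh) := Nat.card_pos
    have : p ^ 3 ≤ Nat.card V := by
      calc p ^ 3 = 1 * p * p * p := by ring
        _ ≤ Nat.card (((V.map nh).map nh).map nh) * p * p * p := by gcongr
        _ ≤ Nat.card ((V.map nh).map nh) * p * p := by gcongr
        _ ≤ Nat.card (V.map nh) * p := by gcongr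
        _ ≤ Nat.card V := e1
    omega
  have hpn2 : ∀ v, p • n (n v) = 0 := fun v => by
    rw [← map_nsmul n, ← map_nsmul n]
    exact hn2 _ ((hmemV _).mpr (hpp v))
  have h4 : ∀ v, n (n (n (n v))) = 0 := fun v => hn2 _ ((hmemV _).mpr (hpn2 v))
  have hbin : ∀ (k : ℕ) (v : L), (A ^ k) v =
      v + k • n v + k.choose 2 • n (n v) + k.choose 3 • n (n (n v)) := by
    intro k
    induction k with
    | zero => intro v; simp
    | succ k ih =>
      intro v
      rw [pow_succ' A k, AddMonoid.End.coe_mul, Function.comp_apply, ih]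
      rw [hA1, map_add, map_add, map_add, map_nsmul, map_nsmul, map_nsmul, h4, nsmul_zero,
        Nat.choose_succ_succ', Nat.choose_succ_succ' k 2, Nat.choose_one_right, succ_nsmul, add_nsmul, add_nsmul]
      abel
  have hpn : ∀ v, p • n v = 0 := by
    intro v
    obtain ⟨c2, hc2⟩ := hp'.dvd_choose_self (k := 2) (by norm_num) (by omega)
    obtain ⟨c3, hc3⟩ := hp'.dvd_choose_self (k := 3) (by norm_num) (by omega)
    have h : v = v + p • n v + p.choose 2 • n (n v) + p.choose 3 • n (n (n v)) := by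
      rw [← hbin p v, hAp]; rfl
    rw [hc2, hc3, mul_nsmul, mul_nsmul, hpn2, hpn2, nsmul_zero, nsmul_zero, add_zero, add_zero] at h
    exact add_eq_left.mp h.symm
  obtain ⟨w, rfl⟩ := hdiv u hu
  rw [hA1, map_nsmul n, hpn, zero_add]

/-- Let p > 3 be a prime and L the direct product of two cyclic groups of order p². Every automorphism of L of order p fixes every element of order p of L. -/
theorem result {p : ℕ} [Fact p.Prime] (hp : 3 < p)
    (a : MulAut (Multiplicative (ZMod (p ^ 2) × ZMod (p ^ 2)))) (ha : orderOf a = p)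
    (x : Multiplicative (ZMod (p ^ 2) × ZMod (p ^ 2))) (hx : orderOf x = p) : a x = x := by
  classical
  have hp' : p.Prime := Fact.out
  haveI : NeZero (p ^ 2) := ⟨pow_ne_zero _ hp'.ne_zero⟩
  have hone : Nat.card ((nsmulAddMonoidHom (α := ZMod (p ^ 2)) p).ker) = p := by
    rw [IsAddCyclic.card_nsmulAddMonoidHom_ker, Nat.card_zmod, Nat.gcd_eq_right (dvd_pow_self p two_ne_zero)]
  let A : AddMonoid.End (ZMod (p ^ 2) × ZMod (p ^ 2)) :=
    { toFun := fun v => Multiplicative.toAdd (a (Multiplicative.ofAdd v))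
      map_zero' := by simp
      map_add' := fun u v => by simp [ofAdd_add] }
  have hA : ∀ (k : ℕ) v, (A ^ k) v = Multiplicative.toAdd ((a ^ k) (Multiplicative.ofAdd v)) := by
    intro k
    induction k with
    | zero => intro v; simp
    | succ k ih =>
      intro v
      rw [pow_succ' A k, pow_succ' a k, AddMonoid.End.coe_mul, Function.comp_apply, ih, MulAut.mul_apply]
      rfl
  have hap : a ^ p = 1 := by
    have := pow_orderOf_eq_one a
    rwa [ha] at this
  have hzero : ∀ z : ZMod (p ^ 2), p • (p • z) = 0 := fun z => by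
    rw [← mul_nsmul', ← pow_two, nsmul_eq_mul, ZMod.natCast_self, zero_mul]
  have h1 : ∀ z : ZMod (p ^ 2), p • z = 0 → ∃ w : ZMod (p ^ 2), p • w = z := by
    intro z hz
    rw [nsmul_eq_mul, ← ZMod.natCast_zmod_val z, ← Nat.cast_mul, ZMod.natCast_eq_zero_iff] at hz
    replace hz := (dvd_of_eq (pow_two p).symm).trans hz
    obtain ⟨c, hc⟩ := Nat.dvd_of_mul_dvd_mul_left hp'.pos hz
    exact ⟨(c : ZMod (p ^ 2)), by rw [nsmul_eq_mul, ← Nat.cast_mul, ← hc, ZMod.natCast_zmod_val]⟩
  have hxV : p • Multiplicative.toAdd x = 0 := by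
    have h1 : x ^ p = 1 := by
      have := pow_orderOf_eq_one x
      rwa [hx] at this
    have := congrArg Multiplicative.toAdd h1
    rwa [toAdd_pow, toAdd_one] at this
  have hAu := fixed_of_pow_eq_one hp A
    (AddMonoidHom.ext fun v => by
      show (A ^ p) v = v
      rw [hA, hap]
      simp)
    (fun v => Prod.ext (hzero v.1) (hzero v.2))
    (fun V hV => by
      let f : V → (nsmulAddMonoidHom (α := ZMod (p ^ 2)) p).ker × (nsmulAddMonoidHom (α := ZMod (p ^ 2)) p).ker :=
        fun v => (⟨_, congrArg Prod.fst (hV _ v.2)⟩, ⟨_, congrArg Prod.snd (hV _ v.2)⟩)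
      have hf : Function.Injective f := fun u v h => Subtype.ext (Prod.ext
        (congrArg Subtype.val (congrArg Prod.fst h)) (congrArg Subtype.val (congrArg Prod.snd h)))
      refine (Nat.card_le_card_of_injective f hf).trans_lt ?_
      rw [Nat.card_prod, hone, pow_succ, pow_two]
      exact lt_mul_of_one_lt_right (Nat.mul_pos hp'.pos hp'.pos) hp'.one_lt)
    (fun v hv => by
      obtain ⟨w1, hw1⟩ := h1 v.1 (congrArg Prod.fst hv)
      obtain ⟨w2, hw2⟩ := h1 v.2 (congrArg Prod.snd hv)
      exact ⟨(w1, w2), Prod.ext hw1 hw2⟩)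
    (Multiplicative.toAdd x) hxV
  exact congrArg Multiplicative.ofAdd hAu
end Cfsg.Agent.S4080
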