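import Cfsg.Statements.S4081
import Mathlib
import Cfsg.Agent.Lib.FGB.CyclotomicModule
import Cfsg.Agent.Lib.CT.Integral

set_option autoImplicit false
open Cfsg

namespace Cfsg.Agent.S4081

open Cfsg.Agent.FGB
open scoped Pointwise IsMulCommutative

universe u

section
variable {G : Type u} [Group G] {N : Subgroup G} [N.Normal] {p : ℕ} [IsMulCommutative N]

/-- Conjugation by `x`, as an additive endomorphism of `N`. -/
noncomputable def conjEnd [Module (ZMod p) (Additive N)] (x : G) : Module.End (ZMod p) (Additive N) :=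
  AddMonoidHom.toZModLinearMap p (MonoidHom.toAdditive (MulAut.conjNormal x : MulAut N).toMonoidHom)

theorem conjEnd_apply [Module (ZMod p) (Additive N)] (x : G) (v : Additive N) :
    ((conjEnd (p := p) x v).toMul : G) = x * (v.toMul : G) * x⁻¹ :=
  MulAut.conjNormal_apply x v.toMul

theorem conjEnd_one [Module (ZMod p) (Additive N)] : conjEnd (p := p) (N := N) (1 : G) = 1 := by
  apply LinearMap.ext; intro v
  apply Additive.toMul.injective; apply Subtype.ext
  rw [conjEnd_apply]; simp

theorem conjEnd_mul [Module (ZMod p) (Additive N)] (x y : G) :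
    conjEnd (p := p) (N := N) (x * y) = conjEnd x * conjEnd y := by
  apply LinearMap.ext; intro v
  apply Additive.toMul.injective; apply Subtype.ext
  rw [Module.End.mul_apply, conjEnd_apply, conjEnd_apply, conjEnd_apply]; group

theorem conjEnd_pow [Module (ZMod p) (Additive N)] (x : G) (k : ℕ) :
    conjEnd (p := p) (N := N) (x ^ k) = conjEnd x ^ k := by
  induction k with
  | zero => rw [pow_zero, pow_zero, conjEnd_one]
  | succ k ih => rw [pow_succ, pow_succ, conjEnd_mul, ih]

theorem conjEnd_of_mem [Module (ZMod p) (Additive N)] {m : G} (hm : m ∈ N) :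
    conjEnd (p := p) (N := N) m = 1 := by
  apply LinearMap.ext; intro v
  apply Additive.toMul.injective; apply Subtype.ext
  rw [conjEnd_apply, Module.End.one_apply]
  have := congrArg Subtype.val ((IsMulCommutative.is_comm (M := N)).comm ⟨m, hm⟩ v.toMul)
  simp only [Subgroup.coe_mul] at this
  rw [this]; group

theorem geom_sum_conjEnd_eq_zero [Module (ZMod p) (Additive N)] {q : ℕ} (x : G) (hx : x ^ q = 1)
    (hfree : ∀ n ∈ N, x * n * x⁻¹ = n → n = 1) :
    ∑ i ∈ Finset.range q, conjEnd (p := p) (N := N) x ^ i = 0 := by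
  apply LinearMap.ext; intro v
  rw [LinearMap.zero_apply]
  set S := ∑ i ∈ Finset.range q, conjEnd (p := p) (N := N) x ^ i
  have h1 : conjEnd (p := p) x (S v) = S v := by
    rw [← Module.End.mul_apply]
    congr 1
    have := mul_geom_sum (conjEnd (p := p) (N := N) x) q
    rw [← conjEnd_pow, hx, conjEnd_one, sub_self, sub_mul, one_mul, sub_eq_zero] at this
    exact this
  have h2 := congrArg (fun w : Additive N => (w.toMul : G)) h1
  simp only [conjEnd_apply] at h2
  exact Additive.toMul.injective (Subtype.ext (hfree _ (S v).toMul.2 h2))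

theorem exists_aut [Finite G] [Module (ZMod p) (Additive N)] {q : ℕ} [hq : Fact q.Prime] (hidx : N.index = q)
    (hco : ¬ q ∣ Nat.card N) {x y : G} (hx : orderOf x = q) (hy : orderOf y = q)
    (ψ : Additive N ≃+ Additive N)
    (hψ : ∀ v, ψ (conjEnd (p := p) x v) = conjEnd (p := p) y (ψ v)) :
    ∃ α : MulAut G, α x = y ∧ ∀ n : N, α n = ((ψ (Additive.ofMul n)).toMul : G) := by
  have hout : ∀ z : G, orderOf z = q → z ∉ N := fun z hz hzN =>
    hco (hz ▸ Subgroup.orderOf_dvd_natCard N hzN)
  have hcomp : N.IsComplement' (Subgroup.zpowers x) := by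
    refine Subgroup.isComplement'_of_coprime ?_ ?_
    · rw [Nat.card_zpowers, hx, ← hidx, N.card_mul_index]
    · rw [Nat.card_zpowers, hx]
      exact (hq.out.coprime_iff_not_dvd.mpr hco).symm
  let f1 : N →* G :=
    { toFun := fun n => ((ψ (Additive.ofMul n)).toMul : G)
      map_one' := by simp
      map_mul' := fun a b => by simp }
  have hgen : ∀ z : Subgroup.zpowers x, z ∈ Subgroup.zpowers (⟨x, Subgroup.mem_zpowers x⟩ : Subgroup.zpowers x) := by
    rintro ⟨z, k, rfl⟩
    exact ⟨k, rfl⟩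
  let f2 : Subgroup.zpowers x →* G := monoidHomOfForallMemZpowers hgen (g' := y) (by
    rw [hy, ← Subgroup.orderOf_coe, hx])
  have hf2x : f2 ⟨x, Subgroup.mem_zpowers x⟩ = y := monoidHomOfForallMemZpowers_apply_gen _ _
  have hf2 : ∀ z : Subgroup.zpowers x, ∃ k : ℕ, k < q ∧ (z : G) = x ^ k ∧ f2 z = y ^ k := by
    rintro ⟨z, hz⟩
    obtain ⟨k, hk⟩ := (Submonoid.mem_powers_iff z x).mp ((mem_powers_iff_mem_zpowers).mpr hz)
    refine ⟨k % q, Nat.mod_lt _ hq.out.pos, ?_, ?_⟩
    · show z = _
      conv_rhs => rw [← hx, pow_mod_orderOf, hk]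
    · rw [show (⟨z, hz⟩ : Subgroup.zpowers x) = ⟨x, Subgroup.mem_zpowers x⟩ ^ k from Subtype.ext hk.symm,
        map_pow, hf2x, ← hy, pow_mod_orderOf]
  have hψk : ∀ (k : ℕ) v, ψ (conjEnd (p := p) (x ^ k) v) = conjEnd (p := p) (y ^ k) (ψ v) := by
    intro k
    induction k with
    | zero => intro v; rw [pow_zero, pow_zero, conjEnd_one]; rfl
    | succ k ih => intro v; rw [pow_succ, pow_succ, conjEnd_mul, conjEnd_mul, Module.End.mul_apply, Module.End.mul_apply, ih, hψ]
  let φ := SemidirectProduct.lift (φ := N.normalizerMonoidHom.comp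
      (Subgroup.inclusion (N.normalizer_eq_top ▸ (le_top : Subgroup.zpowers x ≤ ⊤)))) f1 f2 (fun z => by
    obtain ⟨k, -, hzk, hk⟩ := hf2 z
    ext n
    simp only [MonoidHom.coe_comp, Function.comp_apply, MulEquiv.coe_toMonoidHom, MulAut.conj_apply, hk]
    show ((ψ (Additive.ofMul _)).toMul : G) = y ^ k * ((ψ (Additive.ofMul n)).toMul : G) * (y ^ k)⁻¹
    rw [← conjEnd_apply (p := p), ← hψk]
    refine congrArg (fun w : Additive N => ((ψ w).toMul : G)) ?_
    apply Additive.toMul.injective
    apply Subtype.ext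
    rw [conjEnd_apply]
    show (z : G) * (n : G) * (z : G)⁻¹ = _
    rw [hzk]
    rfl)
  let e := SemidirectProduct.mulEquivSubgroup hcomp
  have hinj : Function.Injective φ := by
    rw [injective_iff_map_eq_one]
    intro a ha
    obtain ⟨k, hkq, hzk, hk⟩ := hf2 a.right
    have h1 : ((ψ (Additive.ofMul a.left)).toMul : G) * y ^ k = 1 := hk ▸ ha
    have hyk : y ^ k ∈ N := by
      rw [← inv_eq_of_mul_eq_one_right h1]
      exact N.inv_mem (ψ (Additive.ofMul a.left)).toMul.2
    have hk0 : k = 0 := by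
      by_contra hne
      refine hout (y ^ k) ?_ hyk
      rw [Nat.Coprime.orderOf_pow, hy]
      rw [hy, hq.out.coprime_iff_not_dvd]
      exact fun h => absurd (Nat.le_of_dvd (Nat.pos_of_ne_zero hne) h) (by omega)
    subst hk0
    rw [pow_zero, mul_one] at h1
    have h2 : ψ (Additive.ofMul a.left) = 0 := Additive.toMul.injective (Subtype.ext h1)
    have h3 : a.left = 1 := by
      have := ψ.map_eq_zero_iff.mp h2
      exact this
    exact SemidirectProduct.ext h3 (Subtype.ext (by rw [hzk, pow_zero]; rfl))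
  haveI : Finite (N ⋊[N.normalizerMonoidHom.comp
      (Subgroup.inclusion (N.normalizer_eq_top ▸ (le_top : Subgroup.zpowers x ≤ ⊤)))] Subgroup.zpowers x) :=
    Finite.of_equiv _ e.symm.toEquiv
  have hbij : Function.Bijective φ := by
    refine ⟨hinj, ?_⟩
    have h := (Finite.injective_iff_surjective (f := φ ∘ e.symm)).mp (hinj.comp e.symm.injective)
    exact h.of_comp
  refine ⟨e.symm.trans (MulEquiv.ofBijective φ hbij), ?_, fun n => ?_⟩
  · show φ (e.symm x) = y
    rw [show e.symm x = SemidirectProduct.inr ⟨x, Subgroup.mem_zpowers x⟩ from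
      e.symm_apply_eq.mpr (one_mul x).symm]
    exact (SemidirectProduct.lift_inr f1 f2 _ _).trans hf2x
  · show φ (e.symm n) = _
    rw [show e.symm (n : G) = SemidirectProduct.inl n from e.symm_apply_eq.mpr (mul_one (n : G)).symm]
    exact SemidirectProduct.lift_inl f1 f2 _ _

end

theorem order_classes {G : Type u} [Group G] [Finite G] (hnpp : ¬ IsPrimePow (Nat.card G)) (hnt : Nat.card G ≠ 1)
    (h3 : Nat.card (MulAction.orbitRel.Quotient (MulAut G) G) = 3) :
    ∃ p q : ℕ, p.Prime ∧ q.Prime ∧ p ≠ q ∧ p ∣ Nat.card G ∧ q ∣ Nat.card G ∧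
      (∀ g : G, orderOf g = 1 ∨ orderOf g = p ∨ orderOf g = q) ∧
      ∀ g g' : G, orderOf g = orderOf g' → ∃ α : MulAut G, α g = g' := by
  classical
  let o : MulAction.orbitRel.Quotient (MulAut G) G → ℕ :=
    Quotient.lift orderOf (fun a b (hab : (MulAction.orbitRel (MulAut G) G) a b) => by
      obtain ⟨α, rfl⟩ := MulAction.orbitRel_apply.mp hab
      exact MulEquiv.orderOf_eq α b)
  obtain ⟨p, hp, hpd⟩ := Nat.exists_prime_and_dvd hnt
  obtain ⟨q, hq, hqd, hqp⟩ : ∃ q, q.Prime ∧ q ∣ Nat.card G ∧ q ≠ p := by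
    by_contra h
    push Not at h
    apply hnpp
    exact isPrimePow_iff_unique_prime_dvd.mpr ⟨p, ⟨hp, hpd⟩, fun r hr => h r hr.1 hr.2⟩
  haveI := Fact.mk hp
  haveI := Fact.mk hq
  obtain ⟨a, ha⟩ := exists_prime_orderOf_dvd_card' (G := G) p hpd
  obtain ⟨b, hb⟩ := exists_prime_orderOf_dvd_card' (G := G) q hqd
  let three : Fin 3 → MulAction.orbitRel.Quotient (MulAut G) G := ![Quotient.mk _ (1 : G), Quotient.mk _ a, Quotient.mk _ b]
  have ho : ∀ i, o (three i) = ![1, p, q] i := by
    intro i; fin_cases i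
    · exact orderOf_one
    · exact ha
    · exact hb
  have hinj' : Function.Injective ![1, p, q] := by
    intro i j
    fin_cases i <;> fin_cases j <;> simp [hp.one_lt.ne, hp.one_lt.ne', hq.one_lt.ne, hq.one_lt.ne', hqp, Ne.symm hqp]
  have hinj : Function.Injective three := fun i j hij => hinj' (by rw [← ho i, ← ho j, hij])
  have hsurj : Function.Surjective three := by
    haveI : Finite (MulAction.orbitRel.Quotient (MulAut G) G) := Nat.finite_of_card_ne_zero (by omega)
    haveI := Fintype.ofFinite (MulAction.orbitRel.Quotient (MulAut G) G)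
    exact ((Fintype.bijective_iff_injective_and_card three).mpr ⟨hinj, by
      rw [Fintype.card_fin, ← Nat.card_eq_fintype_card, h3]⟩).2
  refine ⟨p, q, hp, hq, hqp.symm, hpd, hqd, fun g => ?_, fun g g' hgg => ?_⟩
  · obtain ⟨i, hi⟩ := hsurj (Quotient.mk _ g)
    have h := ho i
    rw [hi] at h
    have h' : orderOf g = ![1, p, q] i := h
    fin_cases i
    · exact Or.inl h'
    · exact Or.inr (Or.inl h')
    · exact Or.inr (Or.inr h')
  · obtain ⟨i, hi⟩ := hsurj (Quotient.mk _ g)
    obtain ⟨j, hj⟩ := hsurj (Quotient.mk _ g')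
    have hij : i = j := hinj' (by
      rw [← ho i, ← ho j, hi, hj]
      exact hgg)
    have : (MulAction.orbitRel (MulAut G) G) g' g := Quotient.exact (by rw [← hi, ← hj, hij])
    obtain ⟨α, hα⟩ := MulAction.orbitRel_apply.mp this
    exact ⟨α, hα⟩

theorem exists_char_abelian {G : Type u} [Group G] [Group.IsSolvable G] [Nontrivial G] :
    ∃ N : Subgroup G, N.Characteristic ∧ N ≠ ⊥ ∧ IsMulCommutative N := by
  have hex : ∃ n, derivedSeries G n = ⊥ := (Group.isSolvable_def G).mp inferInstance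
  classical
  have hn := Nat.find_spec hex
  obtain ⟨k, hk⟩ : ∃ k, Nat.find hex = k + 1 := by
    refine ⟨Nat.find hex - 1, ?_⟩
    have : Nat.find hex ≠ 0 := fun h => by
      rw [h, derivedSeries_zero] at hn
      exact top_ne_bot hn
    omega
  refine ⟨derivedSeries G k, inferInstance, Nat.find_min hex (by omega), ⟨⟨fun a b => Subtype.ext ?_⟩⟩⟩
  rw [hk, derivedSeries_succ, Subgroup.commutator_eq_bot_iff_le_centralizer] at hn
  exact ((Subgroup.mem_centralizer_iff.mp (hn b.2) a a.2))

theorem forward {G : Type u} [Group G] [Finite G] (hnpp : ¬ IsPrimePow (Nat.card G)) (hnt : Nat.card G ≠ 1)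
    (h3 : Nat.card (MulAction.orbitRel.Quotient (MulAut G) G) = 3) :
    ∃ (p q n : ℕ) (_ : Fact p.Prime) (_ : Fact q.Prime), p ≠ q ∧ 1 ≤ n ∧ Nat.card G = p ^ n * q ∧
      (∀ P : Sylow p G, (P : Subgroup G).Normal ∧ Cfsg.IsElementaryAbelian p (P : Subgroup G)) ∧
      orderOf (p : ZMod q) = q - 1 ∧
      ∀ x y : G, orderOf x = q → orderOf y = p → x * y * x⁻¹ ≠ y := by
  classical
  obtain ⟨p0, q0, hp0, hq0, hpq0, hpd0, hqd0, hord0, htr⟩ := order_classes hnpp hnt h3
  have honly : ∀ r : ℕ, r.Prime → r ∣ Nat.card G → r = p0 ∨ r = q0 := by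
    intro r hr hrd
    haveI := Fact.mk hr
    obtain ⟨g, hg⟩ := exists_prime_orderOf_dvd_card' (G := G) r hrd
    rcases hord0 g with h | h | h <;> rw [hg] at h
    exacts [absurd h hr.one_lt.ne', Or.inl h, Or.inr h]
  haveI : Nontrivial G := Finite.one_lt_card_iff_nontrivial.mp (by
    have : 0 < Nat.card G := Nat.card_pos
    omega)
  haveI : Group.IsSolvable G :=
    Cfsg.Agent.CT.isSolvable_of_card_two_primes hp0 hq0 _ G ((Nat.card G).factorization p0) ((Nat.card G).factorization q0) rfl (by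
      have hG0 : Nat.card G ≠ 0 := Nat.card_pos.ne'
      have hsupp : (Nat.card G).primeFactors = {p0, q0} := by
        ext r
        simp only [Nat.mem_primeFactors, Finset.mem_insert, Finset.mem_singleton]
        constructor
        · rintro ⟨hr, hrd, -⟩; exact honly r hr hrd
        · rintro (rfl | rfl)
          · exact ⟨hp0, hpd0, hG0⟩
          · exact ⟨hq0, hqd0, hG0⟩
      conv_lhs => rw [← Nat.prod_factorization_pow_eq_self hG0]
      rw [Finsupp.prod, Nat.support_factorization, hsupp, Finset.prod_pair hpq0])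
  obtain ⟨N, hNchar, hNbot, hNab⟩ := exists_char_abelian (G := G)
  haveI := hNchar
  haveI := hNab
  obtain ⟨n0, hn0, hn01⟩ := (Subgroup.bot_or_exists_ne_one N).resolve_left hNbot
  have hne1 : orderOf n0 ≠ 1 := fun h => hn01 (orderOf_eq_one_iff.mp h)
  -- choose the names of the two primes
  obtain ⟨p, q, hp, hq, hpq, hn0p, hord, hqd, hdiv⟩ : ∃ p q, p.Prime ∧ q.Prime ∧ p ≠ q ∧ orderOf n0 = p ∧
      (∀ g : G, orderOf g = 1 ∨ orderOf g = p ∨ orderOf g = q) ∧ q ∣ Nat.card G ∧
      (∀ r : ℕ, r.Prime → r ∣ Nat.card G → r = p ∨ r = q) := by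
    rcases (hord0 n0).resolve_left hne1 with h | h
    · exact ⟨p0, q0, hp0, hq0, hpq0, h, hord0, hqd0, honly⟩
    · exact ⟨q0, p0, hq0, hp0, hpq0.symm, h, fun g => (hord0 g).imp_right Or.symm, hpd0,
        fun r hr hrd => (honly r hr hrd).symm⟩
  haveI := Fact.mk hp
  haveI := Fact.mk hq
  have hNmem : ∀ g : G, orderOf g = p → g ∈ N := by
    intro g hg
    obtain ⟨α, rfl⟩ := htr n0 g (by rw [hg, hn0p])
    exact Subgroup.characteristic_iff_map_le.mp hNchar α ⟨n0, hn0, rfl⟩
  have hnopq : ∀ x y : G, orderOf x = q → orderOf y = p → ¬ Commute x y := by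
    intro x y hx hy hc
    have h := hc.orderOf_mul_eq_mul_orderOf_of_coprime (by rw [hx, hy]; exact (Nat.coprime_primes hq hp).mpr hpq.symm)
    rw [hx, hy] at h
    rcases hord (x * y) with h' | h' | h' <;> rw [h] at h'
    · exact hq.one_lt.ne' (Nat.eq_one_of_mul_eq_one_right h')
    · exact hq.one_lt.ne' ((Nat.mul_eq_right hp.ne_zero).mp h')
    · exact hp.one_lt.ne' ((Nat.mul_eq_left hq.ne_zero).mp h')
  have hNord : ∀ g ∈ N, g ≠ 1 → orderOf g = p := by
    intro g hg hg1
    rcases (hord g).resolve_left (fun h => hg1 (orderOf_eq_one_iff.mp h)) with h | h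
    · exact h
    · exact absurd (congrArg Subtype.val ((IsMulCommutative.is_comm (M := N)).comm ⟨g, hg⟩ ⟨n0, hn0⟩))
        (hnopq g n0 h hn0p)
  have hfpf : ∀ x y : G, orderOf x = q → orderOf y = p → x * y * x⁻¹ ≠ y := by
    intro x y hx hy h
    exact hnopq x y hx hy (by
      show x * y = y * x
      calc x * y = x * y * x⁻¹ * x := by group
        _ = y * x := by rw [h])
  have hNp : IsPGroup p N := fun g => by
    by_cases hg : (g : G) = 1
    · exact ⟨0, by simp [Subtype.ext_iff, hg]⟩
    · exact ⟨1, Subtype.ext (by simp only [pow_one, SubmonoidClass.coe_pow, Subgroup.coe_one]; rw [← hNord g g.2 hg]; exact pow_orderOf_eq_one _)⟩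
  obtain ⟨P0, hP0⟩ := hNp.exists_le_sylow
  have hP0N : (P0 : Subgroup G) = N := by
    refine le_antisymm (fun g hg => ?_) hP0
    by_cases hg1 : g = 1
    · rw [hg1]; exact one_mem N
    obtain ⟨k, hk⟩ := IsPGroup.iff_orderOf.mp P0.2 ⟨g, hg⟩
    rw [← Subgroup.orderOf_coe] at hk
    rcases hord g with h | h | h
    · exact absurd (orderOf_eq_one_iff.mp h) hg1
    · exact hNmem g h
    · rw [hk] at h
      exact absurd ((Nat.prime_dvd_prime_iff_eq hq hp).mp (hq.dvd_of_dvd_pow (show q ∣ p ^ k by rw [h]))) hpq.symm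
  obtain ⟨n, hn⟩ := IsPGroup.iff_card.mp hNp
  have hn1 : 1 ≤ n := by
    by_contra h
    rw [show n = 0 by omega, pow_zero] at hn
    exact hNbot (Subgroup.eq_bot_of_card_eq _ hn)
  have hpcard : ∀ P : Sylow p G, (P : Subgroup G) = N := by
    intro P
    haveI : (P0 : Subgroup G).Normal := hP0N ▸ (inferInstance : N.Normal)
    obtain ⟨g, hg⟩ := MulAction.exists_smul_eq G P0 P
    rw [← hg, Sylow.smul_eq_of_normal, hP0N]
  have hexp : ∀ a ∈ N, a ^ p = 1 := fun a ha => by
    by_cases h1 : a = 1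
    · rw [h1, one_pow]
    · rw [← hNord a ha h1, pow_orderOf_eq_one]
  haveI instMod : Module (ZMod p) (Additive N) := @AddCommGroup.zmodModule p (Additive N) _ (fun v => by
    apply Additive.toMul.injective
    apply Subtype.ext
    simpa using hexp _ v.toMul.2)
  haveI : Nontrivial N := (Subgroup.nontrivial_iff_ne_bot N).mpr hNbot
  have hfree : ∀ x : G, orderOf x = q → ∀ m ∈ N, x * m * x⁻¹ = m → m = 1 := fun x hx m hm h =>
    by_contra fun hm1 => hfpf x m hx (hNord m hm hm1) h
  obtain ⟨x, hx⟩ := exists_prime_orderOf_dvd_card' (G := G) q hqd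
  obtain ⟨v0, hv0⟩ := exists_ne (0 : Additive N)
  -- the index of N is q
  obtain ⟨Q⟩ := (inferInstance : Nonempty (Sylow q G))
  have hQexp : ∀ g ∈ (Q : Subgroup G), g ≠ 1 → orderOf g = q := by
    intro g hg hg1
    obtain ⟨k, hk⟩ := IsPGroup.iff_orderOf.mp Q.2 ⟨g, hg⟩
    rw [← Subgroup.orderOf_coe] at hk
    rcases hord g with h | h | h
    · exact absurd (orderOf_eq_one_iff.mp h) hg1
    · rw [hk] at h
      exact absurd ((Nat.prime_dvd_prime_iff_eq hp hq).mp (hp.dvd_of_dvd_pow (show p ∣ q ^ k by rw [h]))) hpq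
    · exact h
  have hQcard : Nat.card (Q : Subgroup G) = q := by
    haveI : Nontrivial (Q : Subgroup G) := (Subgroup.nontrivial_iff_ne_bot _).mpr (Q.ne_bot_of_dvd_card hqd)
    haveI := Q.2.center_nontrivial
    obtain ⟨b0, hb0⟩ := exists_ne (1 : Subgroup.center (Q : Subgroup G))
    let b : G := ((b0 : (Q : Subgroup G)) : G)
    have hb : orderOf b = q := hQexp b (b0 : (Q : Subgroup G)).2 (by simpa [b] using hb0)
    by_contra hne
    obtain ⟨a, haQ, hab⟩ : ∃ a ∈ (Q : Subgroup G), a ∉ Subgroup.zpowers b := by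
      by_contra h
      push Not at h
      apply hne
      have h1 : (Q : Subgroup G) = Subgroup.zpowers b := le_antisymm h (Subgroup.zpowers_le.mpr (b0 : (Q : Subgroup G)).2)
      rw [h1, Nat.card_zpowers, hb]
    have hcomm : Commute a b := congrArg Subtype.val (Subgroup.mem_center_iff.mp b0.2 ⟨a, haQ⟩)
    have hS : ∀ j : ℕ, ∑ i ∈ Finset.range q, conjEnd (p := p) (N := N) (a * b ^ j) ^ i = 0 := by
      intro j
      have hne' : a * b ^ j ≠ 1 := fun e => hab (by
        rw [eq_inv_of_mul_eq_one_left e]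
        exact inv_mem (Subgroup.npow_mem_zpowers b j))
      have ho := hQexp _ (mul_mem haQ (pow_mem (b0 : (Q : Subgroup G)).2 j)) hne'
      exact geom_sum_conjEnd_eq_zero _ (by rw [← ho]; exact pow_orderOf_eq_one _) (hfree _ ho)
    have h1 : (q : Module.End (ZMod p) (Additive N)) = 0 := by
      have h2 : ∑ j ∈ Finset.range q, ∑ i ∈ Finset.range q, conjEnd (p := p) (N := N) (a * b ^ j) ^ i = 0 :=
        Finset.sum_eq_zero fun j _ => hS j
      rw [Finset.sum_comm, Finset.sum_eq_single 0] at h2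
      · simpa using h2
      · intro i hi hi0
        have e : ∀ j : ℕ, conjEnd (p := p) (N := N) (a * b ^ j) ^ i = conjEnd (a ^ i) * conjEnd (b ^ i) ^ j := by
          intro j
          rw [← conjEnd_pow, ← conjEnd_pow, ← conjEnd_mul, (hcomm.pow_right j).mul_pow, ← pow_mul, ← pow_mul, mul_comm j i]
        simp only [e, ← Finset.mul_sum]
        have hbi : orderOf (b ^ i) = q := by
          rw [Nat.Coprime.orderOf_pow, hb]
          rw [hb, hq.coprime_iff_not_dvd]
          exact fun h => absurd (Nat.le_of_dvd (Nat.pos_of_ne_zero hi0) h) (by have := Finset.mem_range.mp hi; omega)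
        rw [geom_sum_conjEnd_eq_zero _ (by rw [← hbi]; exact pow_orderOf_eq_one _) (hfree _ hbi), mul_zero]
      · intro h; exact absurd (Finset.mem_range.mpr hq.pos) h
    have h3 : (q : ZMod p) • v0 = 0 := by
      have := LinearMap.congr_fun h1 v0
      rw [Module.End.natCast_apply, LinearMap.zero_apply] at this
      rw [Nat.cast_smul_eq_nsmul]
      exact this
    rcases smul_eq_zero.mp h3 with h | h
    · exact hpq ((Nat.prime_dvd_prime_iff_eq hp hq).mp ((ZMod.natCast_eq_zero_iff _ _).mp h))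
    · exact hv0 h
  have hGcard : Nat.card G = p ^ n * q := by
    have hG0 : Nat.card G ≠ 0 := Nat.card_pos.ne'
    have e1 : (Nat.card G).factorization p = n := by
      have := (P0.card_eq_multiplicity).symm.trans ((congrArg (fun H : Subgroup G => Nat.card H) hP0N).trans hn)
      exact Nat.pow_right_injective hp.two_le this
    have e2 : (Nat.card G).factorization q = 1 := by
      have h := (Q.card_eq_multiplicity).symm.trans hQcard
      exact Nat.pow_right_injective hq.two_le (h.trans (pow_one q).symm)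
    have hsupp : (Nat.card G).primeFactors = {p, q} := by
      ext r
      simp only [Nat.mem_primeFactors, Finset.mem_insert, Finset.mem_singleton]
      constructor
      · rintro ⟨hr, hrd, -⟩; exact hdiv r hr hrd
      · rintro (rfl | rfl)
        · exact ⟨hp, hn0p ▸ orderOf_dvd_natCard n0, hG0⟩
        · exact ⟨hq, hqd, hG0⟩
    conv_lhs => rw [← Nat.prod_factorization_pow_eq_self hG0]
    rw [Finsupp.prod, Nat.support_factorization, hsupp, Finset.prod_pair hpq, e1, e2, pow_one]
  have hidx : N.index = q := by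
    have := N.card_mul_index
    rw [hn, hGcard] at this
    exact Nat.eq_of_mul_eq_mul_left (pow_pos hp.pos n) this
  refine ⟨p, q, n, ⟨hp⟩, ⟨hq⟩, hpq, hn1, hGcard, fun P => ?_, ?_, hfpf⟩
  · rw [hpcard P]
    exact ⟨inferInstance, hNab, hexp⟩
  -- primitive root
  let T := conjEnd (p := p) (N := N) x
  have hxN : x ∉ N := fun h => hpq (((hNord x h fun e => by simp [e] at hx; exact hq.one_lt.ne hx).symm.trans hx))
  have hcoset : ∀ y : G, ∃ i : ℕ, conjEnd (p := p) (N := N) y = T ^ i := by
    intro y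
    haveI : IsCyclic (G ⧸ N) := isCyclic_of_prime_card (p := q) ((Subgroup.index_eq_card N).symm.trans hidx)
    have hx' : (x : G ⧸ N) ≠ 1 := fun h => hxN ((QuotientGroup.eq_one_iff x).mp h)
    have := mem_powers_of_prime_card (p := q) ((Subgroup.index_eq_card N).symm.trans hidx) hx' (g' := (y : G ⧸ N))
    obtain ⟨i, hi⟩ := (Submonoid.mem_powers_iff _ _).mp this
    refine ⟨i, ?_⟩
    have hm : (x ^ i)⁻¹ * y ∈ N := QuotientGroup.eq.mp hi
    calc conjEnd (p := p) (N := N) y = conjEnd (x ^ i * ((x ^ i)⁻¹ * y)) := by rw [mul_inv_cancel_left]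
      _ = T ^ i := by rw [conjEnd_mul, conjEnd_of_mem hm, mul_one, conjEnd_pow]
  have hres : ∀ α : MulAut G, ∃ β : Additive N ≃+ Additive N,
      (∀ v, ((β v).toMul : G) = α (v.toMul : G)) ∧ ∀ v, β (T v) = conjEnd (p := p) (α x) (β v) := by
    intro α
    have hmap : N.map α.toMonoidHom = N := Subgroup.characteristic_iff_map_eq.mp hNchar α
    let e := (α.subgroupMap N).trans (MulEquiv.subgroupCongr hmap)
    refine ⟨MulEquiv.toAdditive e, fun v => rfl, fun v => ?_⟩
    apply Additive.toMul.injective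
    apply Subtype.ext
    show α ((T v).toMul : G) = _
    rw [conjEnd_apply, conjEnd_apply]
    show α (x * (v.toMul : G) * x⁻¹) = α x * α (v.toMul : G) * (α x)⁻¹
    simp only [map_mul, map_inv]
  refine orderOf_eq_of_annihilators hpq T
    (geom_sum_conjEnd_eq_zero x (hx ▸ pow_orderOf_eq_one x) (hfree x hx)) ?_ ?_ ?_
  · intro h
    have h' := congrArg (fun w : Additive N => (w.toMul : G)) (LinearMap.congr_fun h v0)
    simp only [T, conjEnd_apply, Module.End.one_apply] at h'
    exact hv0 (Additive.toMul.injective (Subtype.ext (hfree x hx _ v0.toMul.2 h')))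
  · intro v w hv hw
    have ov : ∀ z : Additive N, z ≠ 0 → orderOf (z.toMul : G) = p := fun z hz =>
      hNord _ z.toMul.2 fun e => hz (Additive.toMul.injective (Subtype.ext e))
    obtain ⟨α, hα⟩ := htr (v.toMul : G) (w.toMul : G) (by rw [ov v hv, ov w hw])
    obtain ⟨β, hβ, hβT⟩ := hres α
    obtain ⟨i, hi⟩ := hcoset (α x)
    exact ⟨i, β, Additive.toMul.injective (Subtype.ext ((hβ v).trans hα)), fun z => by rw [hβT, hi]⟩
  · intro i hi
    obtain ⟨α, hα⟩ := htr x (x ^ i) (by rw [Nat.Coprime.orderOf_pow]; rw [hx]; exact hq.coprime_iff_not_dvd.mpr hi)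
    obtain ⟨β, -, hβT⟩ := hres α
    exact ⟨β, fun z => by rw [hβT, hα, conjEnd_pow]⟩

theorem backward {G : Type u} [Group G] [Finite G] (p q n : ℕ) [hp : Fact p.Prime] [hq : Fact q.Prime]
    (hpq : p ≠ q) (hn : 1 ≤ n) (hG : Nat.card G = p ^ n * q)
    (hP : ∀ P : Sylow p G, (P : Subgroup G).Normal ∧ Cfsg.IsElementaryAbelian p (P : Subgroup G))
    (hord : orderOf (p : ZMod q) = q - 1)
    (hfpf : ∀ x y : G, orderOf x = q → orderOf y = p → x * y * x⁻¹ ≠ y) :
    Nat.card (MulAction.orbitRel.Quotient (MulAut G) G) = 3 := by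
  classical
  obtain ⟨P⟩ := (inferInstance : Nonempty (Sylow p G))
  obtain ⟨hPn, hNab, hexp⟩ := hP P
  set N : Subgroup G := (P : Subgroup G) with hNdef
  haveI := hPn
  haveI := hNab
  have hcardN : Nat.card N = p ^ n := by
    rw [hNdef, P.card_eq_multiplicity, hG, Nat.factorization_mul (pow_ne_zero _ hp.out.ne_zero) hq.out.ne_zero,
      Finsupp.add_apply, hp.out.factorization_pow, hq.out.factorization, Finsupp.single_eq_same,
      Finsupp.single_eq_of_ne hpq, add_zero]
  have hidx : N.index = q := by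
    have := N.card_mul_index
    rw [hcardN, hG] at this
    exact Nat.eq_of_mul_eq_mul_left (pow_pos hp.out.pos n) this
  have hco : ¬ q ∣ Nat.card N := fun h => hpq
    (((Nat.prime_dvd_prime_iff_eq hq.out hp.out).mp (hq.out.dvd_of_dvd_pow (hcardN ▸ h))).symm)
  haveI : Nontrivial N := Finite.one_lt_card_iff_nontrivial.mp
    (hcardN ▸ Nat.one_lt_pow (by omega) hp.out.one_lt)
  have hNord : ∀ g ∈ N, g ≠ 1 → orderOf g = p := fun g hg h1 => orderOf_eq_prime (hexp g hg) h1
  have hord' : ∀ g : G, g ∉ N → orderOf g = q := by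
    intro g hg
    have h1 : g ^ q ∈ N := hidx ▸ N.pow_index_mem g
    have hg1 : g ≠ 1 := fun e => hg (e ▸ one_mem N)
    by_cases hgq : g ^ q = 1
    · exact orderOf_eq_prime hgq hg1
    exfalso
    have hpo : orderOf (g ^ q) = p := hNord _ h1 hgq
    have hqo : orderOf (g ^ p) = q := by
      refine orderOf_eq_prime ?_ fun e => hg ?_
      · rw [← pow_mul, mul_comm, pow_mul]; exact hexp _ h1
      · have hgp : orderOf g = p := orderOf_eq_prime e hg1
        obtain ⟨R, hR⟩ := (IsPGroup.of_card (n := 1) (p := p) (G := Subgroup.zpowers g)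
          (by rw [Nat.card_zpowers, hgp, pow_one])).exists_le_sylow
        obtain ⟨c, hc⟩ := MulAction.exists_smul_eq G P R
        rw [← hc, Sylow.smul_eq_of_normal] at hR
        exact hR (Subgroup.mem_zpowers g)
    apply hfpf (g ^ p) (g ^ q) hqo hpo
    rw [← pow_add, add_comm, pow_add, mul_inv_cancel_right]
  have hfree : ∀ x : G, orderOf x = q → ∀ m ∈ N, x * m * x⁻¹ = m → m = 1 := fun x hx m hm h =>
    by_contra fun hm1 => hfpf x m hx (hNord m hm hm1) h
  haveI instMod : Module (ZMod p) (Additive N) := @AddCommGroup.zmodModule p (Additive N) _ (fun v => by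
    apply Additive.toMul.injective
    apply Subtype.ext
    simpa using hexp _ v.toMul.2)
  have hirr := cyclotomic_irreducible_of_primitiveRoot hpq hord
  have hT : ∀ x : G, orderOf x = q → ∑ i ∈ Finset.range q, conjEnd (p := p) (N := N) x ^ i = 0 :=
    fun x hx => geom_sum_conjEnd_eq_zero x (hx ▸ pow_orderOf_eq_one x) (hfree x hx)
  have trans : ∀ (x y : G) (u w : Additive N), orderOf x = q → orderOf y = q → u ≠ 0 → w ≠ 0 →
      ∃ α : MulAut G, α x = y ∧ α (u.toMul : G) = (w.toMul : G) := by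
    intro x y u w hx hy hu hw
    obtain ⟨ψ, hψu, hψ⟩ := exists_intertwine hirr _ _ (hT x hx) (hT y hy) u w hu hw
    obtain ⟨α, hαx, hαn⟩ := exists_aut hidx hco hx hy ψ hψ
    exact ⟨α, hαx, by rw [hαn u.toMul, ofMul_toMul, hψu]⟩
  obtain ⟨x, hx⟩ := exists_prime_orderOf_dvd_card' (G := G) q ⟨p ^ n, by rw [hG, mul_comm]⟩
  obtain ⟨v0, hv0⟩ := exists_ne (0 : Additive N)
  have hall : ∀ g : G, g = 1 ∨ (∃ α : MulAut G, α (v0.toMul : G) = g) ∨ ∃ α : MulAut G, α x = g := by
    intro g
    by_cases hgN : g ∈ N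
    · rcases eq_or_ne g 1 with h | h
      · exact Or.inl h
      · obtain ⟨α, -, hα⟩ := trans x x v0 (Additive.ofMul ⟨g, hgN⟩) hx hx hv0
          (fun e => h (congrArg (fun w : Additive N => (w.toMul : G)) e))
        exact Or.inr (Or.inl ⟨α, hα⟩)
    · obtain ⟨α, hα, -⟩ := trans x g v0 v0 hx (hord' g hgN) hv0 hv0
      exact Or.inr (Or.inr ⟨α, hα⟩)
  let three : Fin 3 → MulAction.orbitRel.Quotient (MulAut G) G :=
    ![Quotient.mk _ (1 : G), Quotient.mk _ (v0.toMul : G), Quotient.mk _ x]
  let o : MulAction.orbitRel.Quotient (MulAut G) G → ℕ :=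
    Quotient.lift orderOf (fun a b (hab : (MulAction.orbitRel (MulAut G) G) a b) => by
      obtain ⟨α, rfl⟩ := MulAction.orbitRel_apply.mp hab
      exact MulEquiv.orderOf_eq α b)
  have ho : ∀ i, o (three i) = ![1, p, q] i := by
    intro i; fin_cases i
    · exact orderOf_one
    · exact hNord _ v0.toMul.2 fun e => hv0 (Additive.toMul.injective (Subtype.ext e))
    · exact hx
  have hinj' : Function.Injective ![1, p, q] := by
    intro i j
    fin_cases i <;> fin_cases j <;> simp [hp.out.one_lt.ne, hp.out.one_lt.ne', hq.out.one_lt.ne, hq.out.one_lt.ne', hpq, Ne.symm hpq]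
  have hbij : Function.Bijective three := by
    refine ⟨fun i j hij => hinj' (by rw [← ho i, ← ho j, hij]), fun c => ?_⟩
    induction c using Quotient.inductionOn with
    | h g =>
      rcases hall g with rfl | ⟨α, hα⟩ | ⟨α, hα⟩
      · exact ⟨0, rfl⟩
      · exact ⟨1, (Quotient.sound (MulAction.orbitRel_apply.mpr ⟨α, hα⟩)).symm⟩
      · exact ⟨2, (Quotient.sound (MulAction.orbitRel_apply.mpr ⟨α, hα⟩)).symm⟩
  rw [← Nat.card_congr (Equiv.ofBijective three hbij), Nat.card_fin]


/-- Let G be a finite group whose order is not a prime power. Then the automorphism group of G has exactly three orbits on G if and only if there are distinct primes p, q with #G = pⁿ·q (n ≥ 1) such that G has a normal elementary abelian Sylow p-subgroup P, p is a primitive root modulo q (the multiplicative order of p mod q is q − 1), and every element of order q of G acts on P without non-identity fixed points. -/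
theorem result {G : Type*} [Group G] [Finite G] (hnpp : ¬ IsPrimePow (Nat.card G)) (hnt : Nat.card G ≠ 1) :
    Nat.card (MulAction.orbitRel.Quotient (MulAut G) G) = 3 ↔
    ∃ (p q n : ℕ) (_ : Fact p.Prime) (_ : Fact q.Prime), p ≠ q ∧ 1 ≤ n ∧ Nat.card G = p ^ n * q ∧
      (∀ P : Sylow p G, (P : Subgroup G).Normal ∧ Cfsg.IsElementaryAbelian p (P : Subgroup G)) ∧
      orderOf (p : ZMod q) = q - 1 ∧
      ∀ x y : G, orderOf x = q → orderOf y = p → x * y * x⁻¹ ≠ y := by
  constructor
  · exact forward hnpp hnt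
  · rintro ⟨p, q, n, hp, hq, hpq, hn, hG, hP, hord, hfpf⟩
    exact backward p q n hpq hn hG hP hord hfpf

end Cfsg.Agent.S4081
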