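import Cfsg.Statements.S4082
import Mathlib
import Cfsg.Agent.Lib.Invol.Dihedral
import Cfsg.Agent.Lib.Basics.FpfAbelian
-- import your own Cfsg.Agent.* helpers here

set_option autoImplicit false
open Cfsg
open scoped Pointwise commutatorElement

namespace Cfsg.Agent.S4082

open Subgroup

variable {G : Type*} [Group G] [Finite G] {p : ℕ} [Fact p.Prime]

/-- the two parts of an element -/
theorem parts (g : G) : ∃ x u : G, g = x * u ∧ x ∈ zpowers g ∧ u ∈ zpowers g ∧ ¬ p ∣ orderOf x ∧
    ∃ k, orderOf u = p ^ k := by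
  have hp : p.Prime := Fact.out
  set a := p ^ (orderOf g).factorization p
  set b := orderOf g / a
  have hab : a * b = orderOf g := Nat.mul_div_cancel' (Nat.ordProj_dvd _ _)
  have hb : ¬ p ∣ b := Nat.not_dvd_ordCompl hp (orderOf_pos g).ne'
  have hcop : Nat.gcd a b = 1 := Nat.Coprime.pow_left _ ((hp.coprime_iff_not_dvd).mpr hb)
  have hbez := Nat.gcd_eq_gcd_ab a b
  rw [hcop, Nat.cast_one] at hbez
  refine ⟨g ^ ((a : ℤ) * Nat.gcdA a b), g ^ ((b : ℤ) * Nat.gcdB a b), ?_,
    zpow_mem (mem_zpowers g) _, zpow_mem (mem_zpowers g) _, ?_, ?_⟩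
  · rw [← zpow_add, ← hbez, zpow_one]
  · intro hd
    apply hb
    refine hd.trans (orderOf_dvd_of_pow_eq_one ?_)
    rw [← zpow_natCast, ← zpow_mul, mul_assoc, mul_comm (Nat.gcdA a b), ← mul_assoc, ← Nat.cast_mul, hab,
      zpow_mul, zpow_natCast, pow_orderOf_eq_one, one_zpow]
  · obtain ⟨k, -, hk⟩ := (Nat.dvd_prime_pow hp).mp (show orderOf (g ^ ((b : ℤ) * Nat.gcdB a b)) ∣ a from
      orderOf_dvd_of_pow_eq_one (by
        rw [← zpow_natCast, ← zpow_mul, mul_assoc, mul_comm (Nat.gcdB a b), ← mul_assoc, ← Nat.cast_mul,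
          mul_comm b a, hab, zpow_mul, zpow_natCast, pow_orderOf_eq_one, one_zpow]))
    exact ⟨k, hk⟩

theorem eq_one_of_inv {a : G} (h : a = a⁻¹) {k : ℕ} (hk : orderOf a = p ^ k) (hp2 : p ≠ 2) : a = 1 := by
  have h2 : orderOf a ∣ 2 := orderOf_dvd_of_pow_eq_one (by rw [pow_two]; nth_rewrite 2 [h]; exact mul_inv_cancel a)
  rw [← orderOf_eq_one_iff]
  rcases (Nat.dvd_prime Nat.prime_two).mp h2 with h1 | h1
  · exact h1
  · rw [h1] at hk
    have hp : p.Prime := Fact.out
    rcases Nat.eq_zero_or_pos k with rfl | hk0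
    · norm_num at hk
    · exact absurd ((Nat.prime_dvd_prime_iff_eq hp Nat.prime_two).mp (hk ▸ dvd_pow_self p hk0.ne')) hp2

theorem pgroup_zpowers {u : G} {k : ℕ} (hk : orderOf u = p ^ k) : IsPGroup p (zpowers u) :=
  IsPGroup.of_card (n := k) (by rw [Nat.card_zpowers, hk])

theorem cyclic_pgroup (P : Sylow p G) (hP : IsCyclic P) (Q : Subgroup G) (hQ : IsPGroup p Q) : IsCyclic Q := by
  obtain ⟨P', hP'⟩ := hQ.exists_le_sylow
  haveI : IsCyclic P' := (P.equiv P').isCyclic.mp hP
  exact isCyclic_of_injective (inclusion hP') (inclusion_injective hP')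

theorem comm_of_pgroup (P : Sylow p G) (hP : IsCyclic P) {Q : Subgroup G} (hQ : IsPGroup p Q) {a b : G}
    (ha : a ∈ Q) (hb : b ∈ Q) : a * b = b * a := by
  haveI := cyclic_pgroup P hP Q hQ
  exact congrArg Subtype.val ((IsCyclic.commutative (α := Q)).is_comm.comm ⟨a, ha⟩ ⟨b, hb⟩)

theorem forward (hp2 : p ≠ 2) (P : Sylow p G)
    (R : ∀ H : Subgroup G, (∀ S : Sylow p ↥H, (S : Subgroup ↥H).Normal) →
        (∀ (S : Sylow p ↥H) [(S : Subgroup ↥H).Normal], IsCyclic (↥H ⧸ (S : Subgroup ↥H))) →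
        IsCyclic H ∨ (∃ n : ℕ, Nonempty (H ≃* DihedralGroup (p ^ n)))) :
    IsCyclic P ∧
      (normalizer ((P : Subgroup G) : Set G) = centralizer ((P : Subgroup G) : Set G) ∨
       ((centralizer ((P : Subgroup G) : Set G)).relIndex (normalizer ((P : Subgroup G) : Set G)) = 2 ∧
        ∀ Q : Subgroup G, Q ≤ P → Nat.card Q = p →
          IsMulCommutative ↥(centralizer (Q : Set G)) ∧
          ∀ x : G, x ∈ normalizer (Q : Set G) → x ∉ centralizer (Q : Set G) →
            orderOf x = 2 ∧ ∀ c : G, c ∈ centralizer (Q : Set G) → x * c * x⁻¹ = c⁻¹)) := by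
  classical
  have hp : p.Prime := Fact.out
  have hP : IsCyclic P := by
    have hS : ∀ S : Sylow p (P : Subgroup G), (S : Subgroup (P : Subgroup G)) = ⊤ := fun S =>
      (S.3 (P.2.to_subgroup ⊤) le_top).symm
    rcases R P (fun S => by rw [hS S]; infer_instance) (fun S _ => by
        haveI : Subsingleton ((P : Subgroup G) ⧸ (S : Subgroup (P : Subgroup G))) := by
          rw [hS S]; exact QuotientGroup.subsingleton_quotient_top
        infer_instance) with h | ⟨n, ⟨e⟩⟩
    · exact h
    · exfalso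
      obtain ⟨k, hk⟩ := P.2.exists_card_eq
      have hc := Nat.card_congr e.toEquiv
      rw [hk, DihedralGroup.nat_card] at hc
      have : 2 ∣ p ^ k := ⟨_, hc⟩
      exact hp2 ((Nat.prime_dvd_prime_iff_eq Nat.prime_two hp).mp (Nat.prime_two.dvd_of_dvd_pow this)).symm
  -- dihedral action
  have dih : ∀ (Q : Subgroup G), IsPGroup p Q → ∀ x : G, x ∈ normalizer (Q : Set G) → ¬ p ∣ orderOf x →
      (∃ a ∈ Q, x * a ≠ a * x) → orderOf x = 2 ∧ ∀ a ∈ Q, x * a * x⁻¹ = a⁻¹ := by
    rintro Q hQ x hxN hxp ⟨a₀, ha₀, hne⟩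
    set H := Q ⊔ zpowers x with hH
    have hQH : Q ≤ H := le_sup_left
    have hxH : x ∈ H := (le_sup_right : zpowers x ≤ H) (mem_zpowers x)
    set Q' := Q.subgroupOf H with hQ'
    haveI : Q'.Normal := (normal_subgroupOf_iff_le_normalizer hQH).mpr
      (sup_le le_normalizer (zpowers_le.mpr hxN))
    let θ : zpowers x →* H ⧸ Q' := (QuotientGroup.mk' Q').comp (inclusion (le_sup_right : zpowers x ≤ H))
    have hθ : Function.Surjective θ := by
      intro y
      induction y using QuotientGroup.induction_on with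
      | _ h =>
        obtain ⟨h, hh⟩ := h
        have hh2 : h ∈ ((Q : Set G) * (zpowers x : Set G)) := by
          rw [← coe_mul_of_right_le_normalizer_left Q _ (zpowers_le.mpr hxN)]; exact hh
        obtain ⟨q, hq, u, hu, rfl⟩ := hh2
        refine ⟨⟨u, hu⟩, ?_⟩
        show QuotientGroup.mk' Q' _ = QuotientGroup.mk' Q' _
        rw [QuotientGroup.mk'_eq_mk']
        refine ⟨⟨u⁻¹ * q * u, H.mul_mem (H.mul_mem (H.inv_mem ((le_sup_right : zpowers x ≤ H) hu)) (hQH hq))
          ((le_sup_right : zpowers x ≤ H) hu)⟩, ?_, Subtype.ext (by simp [mul_assoc])⟩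
        rw [hQ', mem_subgroupOf]
        exact (mem_normalizer_iff''.mp ((zpowers_le.mpr hxN) hu) q).mp hq
    have hidx : ¬ p ∣ Q'.index := by
      intro hd
      apply hxp
      rw [← Nat.card_zpowers]
      rw [index_eq_card] at hd
      exact hd.trans (card_dvd_of_surjective θ hθ)
    set S0 : Sylow p H := (hQ.comap_subtype).toSylow hidx with hS0
    have hS : ∀ S : Sylow p H, (S : Subgroup H) = Q' := fun S => by
      haveI : (S0 : Subgroup H).Normal := ‹Q'.Normal›
      haveI := Sylow.unique_of_normal S0 ‹_›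
      rw [Subsingleton.elim S S0]; rfl
    have hcyc : ∀ (S : Sylow p H) [(S : Subgroup H).Normal], IsCyclic (H ⧸ (S : Subgroup H)) := by
      intro S _
      exact (QuotientGroup.quotientMulEquivOfEq (hS S).symm).isCyclic.mp (isCyclic_of_surjective θ hθ)
    rcases R H (fun S => by rw [hS S]; infer_instance) hcyc with h | ⟨n, ⟨e⟩⟩
    · exact absurd (congrArg Subtype.val ((h.commutative).is_comm.comm (⟨x, hxH⟩ : H) ⟨a₀, hQH ha₀⟩)) hne
    · have hx1 : x ≠ 1 := fun h => hne (by rw [h, one_mul, mul_one])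
      set x' := e ⟨x, hxH⟩ with hx'
      have hox : orderOf x' = orderOf x := by rw [hx', e.orderOf_eq, Subgroup.orderOf_mk]
      cases hxc : x' with
      | r i =>
        exfalso
        have hd : orderOf x' ∣ p ^ n := by
          rw [hxc]
          have hmem : DihedralGroup.r i ∈ zpowers (DihedralGroup.r (1 : ZMod (p ^ n))) := by
            obtain ⟨k, rfl⟩ := ZMod.intCast_surjective i
            exact ⟨k, by simp⟩
          exact (orderOf_dvd_of_mem_zpowers hmem).trans (dvd_of_eq DihedralGroup.orderOf_r_one)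
        rw [hox] at hd
        obtain ⟨j, -, hj⟩ := (Nat.dvd_prime_pow hp).mp hd
        rcases Nat.eq_zero_or_pos j with rfl | hj0
        · rw [pow_zero] at hj; exact hx1 (orderOf_eq_one_iff.mp hj)
        · exact hxp (hj ▸ dvd_pow_self p hj0.ne')
      | sr i =>
        refine ⟨by rw [← hox, hxc, DihedralGroup.orderOf_sr], fun a ha => ?_⟩
        set a' := e ⟨a, hQH ha⟩ with ha'
        have hoa : orderOf a' = orderOf a := by rw [ha', e.orderOf_eq, Subgroup.orderOf_mk]
        obtain ⟨j, hj⟩ : ∃ j, a' = DihedralGroup.r j := by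
          cases hac : a' with
          | r j => exact ⟨j, rfl⟩
          | sr j =>
            exfalso
            rw [hac, DihedralGroup.orderOf_sr] at hoa
            obtain ⟨k, hk⟩ := hQ.exists_card_eq
            have h2 : 2 ∣ p ^ k := by
              rw [← hk, hoa]; exact Subgroup.orderOf_dvd_natCard Q ha
            exact hp2 ((Nat.prime_dvd_prime_iff_eq Nat.prime_two hp).mp (Nat.prime_two.dvd_of_dvd_pow h2)).symm
        have key : e (⟨x, hxH⟩ * ⟨a, hQH ha⟩ * (⟨x, hxH⟩ : H)⁻¹) = e (⟨a, hQH ha⟩ : H)⁻¹ := by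
          rw [map_mul, map_mul, map_inv, map_inv, ← hx', ← ha', hxc, hj]
          simp
        exact congrArg Subtype.val (e.injective key)
  refine ⟨hP, ?_⟩
  by_cases hNC : normalizer ((P : Subgroup G) : Set G) = centralizer ((P : Subgroup G) : Set G)
  · exact Or.inl hNC
  refine Or.inr ?_
  have hinv : ∀ g ∈ normalizer ((P : Subgroup G) : Set G), g ∉ centralizer ((P : Subgroup G) : Set G) →
      ∀ a ∈ (P : Subgroup G), g * a * g⁻¹ = a⁻¹ := by
    intro g hgN hgC
    obtain ⟨x, u, hxu, hx, hu, hxp, k, hk⟩ := parts (p := p) g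
    have huN : u ∈ normalizer ((P : Subgroup G) : Set G) := zpowers_le.mpr hgN hu
    have huP : u ∈ (P : Subgroup G) := by
      have hle := le_of_eq (P.3 (P.2.to_sup_of_normal_left' (pgroup_zpowers (p := p) hk) (zpowers_le.mpr huN))
        le_sup_left)
      exact hle ((le_sup_right : zpowers u ≤ _) (mem_zpowers u))
    have huc : ∀ a ∈ (P : Subgroup G), u * a = a * u := fun a ha => comm_of_pgroup P hP P.2 huP ha
    have hne : ∃ a ∈ (P : Subgroup G), x * a ≠ a * x := by
      by_contra hc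
      push_neg at hc
      apply hgC
      rw [hxu]
      exact mul_mem (mem_centralizer_iff.mpr fun a ha => (hc a ha).symm)
        (mem_centralizer_iff.mpr fun a ha => (huc a ha).symm)
    intro a ha
    have h1 := (dih P P.2 x (zpowers_le.mpr hgN hx) hxp hne).2 a ha
    rw [hxu, mul_inv_rev]
    calc x * u * a * (u⁻¹ * x⁻¹) = x * (u * a) * u⁻¹ * x⁻¹ := by group
      _ = x * (a * u) * u⁻¹ * x⁻¹ := by rw [huc a ha]
      _ = x * a * x⁻¹ := by group
      _ = a⁻¹ := h1
  obtain ⟨t, htN, htC⟩ : ∃ t ∈ normalizer ((P : Subgroup G) : Set G), t ∉ centralizer ((P : Subgroup G) : Set G) := by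
    by_contra hc
    push_neg at hc
    exact hNC (le_antisymm hc (centralizer_le_normalizer _))
  constructor
  · rw [relIndex, index_eq_two_iff]
    refine ⟨⟨t, htN⟩, fun b => ?_⟩
    simp only [mem_subgroupOf, Subgroup.coe_mul]
    by_cases hb : (b : G) ∈ centralizer ((P : Subgroup G) : Set G)
    · exact Or.inr ⟨hb, fun h => htC (by simpa using mul_mem (inv_mem hb) h)⟩
    · refine Or.inl ⟨mem_centralizer_iff.mpr fun a ha => ?_, hb⟩
      have h1 := hinv t htN htC a ha
      have h2 := hinv b b.2 hb a⁻¹ (inv_mem ha)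
      rw [inv_inv, ← h1] at h2
      calc a * ((b : G) * t) = (b : G) * (t * a * t⁻¹) * (b : G)⁻¹ * ((b : G) * t) := by rw [h2]
        _ = (b : G) * t * a := by group
  intro Q hQP hQc
  have hQp : IsPGroup p Q := IsPGroup.of_card (n := 1) (by rw [pow_one]; exact hQc)
  have hinv1 : ∀ x : G, x ∈ normalizer (Q : Set G) → x ∉ centralizer (Q : Set G) → orderOf x = 2 := by
    intro g hgN hgC
    obtain ⟨x, u, hxu, hx, hu, hxp, k, hk⟩ := parts (p := p) g
    have huN : u ∈ normalizer (Q : Set G) := zpowers_le.mpr hgN hu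
    have hQu : IsPGroup p (Q ⊔ zpowers u : Subgroup G) := hQp.to_sup_of_normal_left' (pgroup_zpowers (p := p) hk) (zpowers_le.mpr huN)
    have huc : ∀ a ∈ Q, u * a = a * u := fun a ha =>
      comm_of_pgroup P hP hQu ((le_sup_right : zpowers u ≤ _) (mem_zpowers u)) ((le_sup_left : Q ≤ _) ha)
    have hne : ∃ a ∈ Q, x * a ≠ a * x := by
      by_contra hc
      push_neg at hc
      apply hgC
      rw [hxu]
      exact mul_mem (mem_centralizer_iff.mpr fun a ha => (hc a ha).symm)
        (mem_centralizer_iff.mpr fun a ha => (huc a ha).symm)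
    obtain ⟨hx2, hxi⟩ := dih Q hQp x (zpowers_le.mpr hgN hx) hxp hne
    suffices hu1 : u = 1 by rw [hxu, hu1, mul_one]; exact hx2
    by_contra hu1
    obtain ⟨a, ha, hna⟩ := hne
    apply hna
    -- Q lies in the group generated by u
    have hk0 : k ≠ 0 := fun h => hu1 (orderOf_eq_one_iff.mp (by rw [hk, h, pow_zero]))
    have hz : orderOf (u ^ (orderOf u / p)) = p :=
      orderOf_pow_orderOf_div (orderOf_pos u).ne' (hk ▸ dvd_pow_self p hk0)
    haveI := cyclic_pgroup P hP _ hQu
    have hle : zpowers (u ^ (orderOf u / p)) ≤ Q ⊔ zpowers u :=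
      zpowers_le.mpr ((le_sup_right : zpowers u ≤ _) (pow_mem (mem_zpowers u) _))
    have heq := Basics.cyclic_subgroup_eq_of_card_eq (A := Q.subgroupOf (Q ⊔ zpowers u))
      (B := (zpowers (u ^ (orderOf u / p))).subgroupOf (Q ⊔ zpowers u)) (by
        rw [Nat.card_congr (subgroupOfEquivOfLe (le_sup_left : Q ≤ Q ⊔ zpowers u)).toEquiv,
          Nat.card_congr (subgroupOfEquivOfLe hle).toEquiv, hQc, Nat.card_zpowers, hz])
    have hau : (⟨a, (le_sup_left : Q ≤ _) ha⟩ : (Q ⊔ zpowers u : Subgroup G)) ∈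
        (zpowers (u ^ (orderOf u / p))).subgroupOf (Q ⊔ zpowers u) := heq ▸ mem_subgroupOf.mpr ha
    have hau' : a ∈ zpowers u := zpowers_le.mpr (pow_mem (mem_zpowers u) _) (mem_subgroupOf.mp hau)
    have hcomm : Commute x u := by
      obtain ⟨i, rfl⟩ := mem_zpowers_iff.mp hx
      obtain ⟨j, rfl⟩ := mem_zpowers_iff.mp hu
      exact Commute.zpow_zpow (Commute.refl g) i j
    obtain ⟨j, rfl⟩ := mem_zpowers_iff.mp hau'
    exact hcomm.zpow_right j
  have htinv : ∀ a ∈ Q, t * a * t⁻¹ = a⁻¹ := fun a ha => hinv t htN htC a (hQP ha)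
  have htQ : t ∈ normalizer (Q : Set G) := by
    apply mem_normalizer_iff_map_conj_eq.mpr
    refine eq_of_le_of_card_ge ?_ (le_of_eq (card_map_of_injective (MulAut.conj t).injective).symm)
    rintro _ ⟨a, ha, rfl⟩
    show t * a * t⁻¹ ∈ Q
    rw [htinv a ha]; exact inv_mem ha
  have htQC : t ∉ centralizer (Q : Set G) := by
    intro h
    have : Q = ⊥ := (eq_bot_iff_forall Q).mpr fun a ha => by
      have h1 := htinv a ha
      rw [← mem_centralizer_iff.mp h a ha, mul_inv_cancel_right] at h1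
      obtain ⟨k, hk⟩ := (IsPGroup.iff_orderOf.mp hQp) ⟨a, ha⟩
      rw [Subgroup.orderOf_mk] at hk
      exact eq_one_of_inv h1 hk hp2
    rw [this, card_bot] at hQc
    exact hp.ne_one hQc.symm
  have hsq : ∀ {z : G}, orderOf z = 2 → z⁻¹ = z := fun {z} hz => inv_eq_of_mul_eq_one_right (by
    rw [← pow_two, ← hz]; exact pow_orderOf_eq_one z)
  have hCinv : ∀ x : G, x ∈ normalizer (Q : Set G) → x ∉ centralizer (Q : Set G) →
      ∀ c : G, c ∈ centralizer (Q : Set G) → x * c * x⁻¹ = c⁻¹ := by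
    intro x hx hxc c hc
    have h1 : x * c ∈ normalizer (Q : Set G) := mul_mem hx (centralizer_le_normalizer _ hc)
    have h2 : x * c ∉ centralizer (Q : Set G) := fun h => hxc (by simpa using mul_mem h (inv_mem hc))
    have h3 := hsq (hinv1 _ h1 h2)
    have h4 := hsq (hinv1 _ hx hxc)
    rw [mul_inv_rev, h4] at h3
    rw [h4, ← h3, mul_assoc]
    have h5 : x * x = 1 := by nth_rewrite 2 [← h4]; exact mul_inv_cancel x
    rw [h5, mul_one]
  refine ⟨⟨⟨fun a b => Subtype.ext ?_⟩⟩, fun x hx hxc => ⟨hinv1 x hx hxc, hCinv x hx hxc⟩⟩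
  have ha := hCinv t htQ htQC a a.2
  have hb := hCinv t htQ htQC b b.2
  have hab := hCinv t htQ htQC _ (mul_mem a.2 b.2)
  rw [mul_inv_rev, ← ha, ← hb] at hab
  have h6 : t * ((a : G) * b) * t⁻¹ = t * ((b : G) * a) * t⁻¹ := hab.trans (by group)
  exact mul_left_cancel (mul_right_cancel h6)

theorem backward (hp2 : p ≠ 2) (P : Sylow p G) (hP : IsCyclic P)
    (hcases : normalizer ((P : Subgroup G) : Set G) = centralizer ((P : Subgroup G) : Set G) ∨
       ((centralizer ((P : Subgroup G) : Set G)).relIndex (normalizer ((P : Subgroup G) : Set G)) = 2 ∧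
        ∀ Q : Subgroup G, Q ≤ P → Nat.card Q = p →
          IsMulCommutative ↥(centralizer (Q : Set G)) ∧
          ∀ x : G, x ∈ normalizer (Q : Set G) → x ∉ centralizer (Q : Set G) →
            orderOf x = 2 ∧ ∀ c : G, c ∈ centralizer (Q : Set G) → x * c * x⁻¹ = c⁻¹)) :
    ∀ H : Subgroup G, (∀ S : Sylow p ↥H, (S : Subgroup ↥H).Normal) →
        (∀ (S : Sylow p ↥H) [(S : Subgroup ↥H).Normal], IsCyclic (↥H ⧸ (S : Subgroup ↥H))) →
        IsCyclic H ∨ (∃ n : ℕ, Nonempty (H ≃* DihedralGroup (p ^ n))) := by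
  classical
  have hp : p.Prime := Fact.out
  intro H hSn hSc
  obtain ⟨S⟩ := (inferInstance : Nonempty (Sylow p H))
  haveI := hSn S
  haveI hScyc : IsCyclic (S : Subgroup H) := by
    haveI := cyclic_pgroup P hP ((S : Subgroup H).map H.subtype) (S.2.map _)
    exact ((S : Subgroup H).equivMapOfInjective _ H.subtype_injective).isCyclic.mpr inferInstance
  obtain ⟨⟨d, hdS⟩, hd⟩ := IsCyclic.exists_generator (α := (S : Subgroup H))
  have hSd : ∀ a ∈ (S : Subgroup H), a ∈ zpowers d := fun a ha => by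
    obtain ⟨i, hi⟩ := mem_zpowers_iff.mp (hd ⟨a, ha⟩)
    exact ⟨i, congrArg Subtype.val hi⟩
  obtain ⟨γ, hγ⟩ := (hSc S).exists_generator
  obtain ⟨g, rfl⟩ := QuotientGroup.mk'_surjective (S : Subgroup H) γ
  obtain ⟨x, u, hgxu, -, hu, hxp, k, hk⟩ := parts (p := p) g
  have huS : u ∈ (S : Subgroup H) := by
    have hle := le_of_eq (S.3 (S.2.to_sup_of_normal_left (pgroup_zpowers (p := p) hk)) le_sup_left)
    exact hle ((le_sup_right : zpowers u ≤ _) (mem_zpowers u))
  have hgen : ∀ h : H, h ∈ closure ({x, d} : Set H) := by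
    intro h
    obtain ⟨i, hi⟩ := mem_zpowers_iff.mp (hγ (QuotientGroup.mk' (S : Subgroup H) h))
    have h1 : (g ^ i)⁻¹ * h ∈ (S : Subgroup H) := QuotientGroup.eq.mp (by
      rw [← map_zpow] at hi; exact hi)
    have hxS : x ∈ closure ({x, d} : Set H) := subset_closure (by simp)
    have hdC : ∀ a ∈ (S : Subgroup H), a ∈ closure ({x, d} : Set H) := fun a ha =>
      zpowers_le.mpr (subset_closure (by simp)) (hSd a ha)
    have hgC : g ∈ closure ({x, d} : Set H) := by rw [hgxu]; exact mul_mem hxS (hdC u huS)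
    have := mul_mem (zpow_mem hgC i) (hdC _ h1)
    rwa [mul_inv_cancel_left] at this
  have hdp : ∃ n, orderOf d = p ^ n := by
    obtain ⟨n, hn⟩ := (IsPGroup.iff_orderOf.mp S.2) ⟨d, hdS⟩
    exact ⟨n, by rwa [Subgroup.orderOf_mk] at hn⟩
  obtain ⟨n, hn⟩ := hdp
  by_cases hc : x * d = d * x
  · left
    have hcop : Nat.Coprime (orderOf d) (orderOf x) := by
      rw [hn]; exact Nat.Coprime.pow_left _ ((hp.coprime_iff_not_dvd).mpr hxp)
    have hxd : ∀ (a b : H), Commute a b → Nat.Coprime (orderOf b) (orderOf a) → a ∈ zpowers (a * b) := by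
      intro a b hab hcop
      obtain ⟨m, hm⟩ := exists_pow_eq_self_of_coprime hcop
      refine ⟨((orderOf b * m : ℕ) : ℤ), ?_⟩
      show (a * b) ^ ((orderOf b * m : ℕ) : ℤ) = a
      rw [zpow_natCast, pow_mul, hab.mul_pow, pow_orderOf_eq_one, mul_one, hm]
    refine ⟨⟨x * d, fun h => ?_⟩⟩
    have : closure ({x, d} : Set H) ≤ zpowers (x * d) := by
      rw [closure_le]
      rintro a (rfl | rfl)
      · exact hxd a d hc hcop
      · rw [show x * a = a * x from hc]; exact hxd a x hc.symm hcop.symm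
    exact this (hgen h)
  right
  refine ⟨n, ?_⟩
  have hd1 : d ≠ 1 := fun h => hc (by rw [h, mul_one, one_mul])
  -- x inverts d
  have key : orderOf x = 2 ∧ x * d * x⁻¹ = d⁻¹ := by
    rcases hcases with hNC | ⟨-, h2⟩
    · exfalso
      have hKc := MonoidHom.ker_transferSylow_isComplement' P (le_of_eq hNC)
      set f := MonoidHom.transferSylow P (le_of_eq hNC)
      have hxK : (x : G) ∈ f.ker := by
        rw [MonoidHom.mem_ker, ← orderOf_eq_one_iff]
        obtain ⟨j, hj⟩ := (IsPGroup.iff_orderOf.mp P.2) (f (x : G))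
        have h1 : orderOf (f (x : G)) ∣ orderOf x := Subgroup.orderOf_coe x ▸ orderOf_map_dvd f (x : G)
        rcases Nat.eq_zero_or_pos j with rfl | hj0
        · rw [hj, pow_zero]
        · exact absurd ((hj ▸ dvd_pow_self p hj0.ne').trans h1) hxp
      apply hc
      have h1 : x * d * x⁻¹ * d⁻¹ ∈ (S : Subgroup H) :=
        (S : Subgroup H).mul_mem (Subgroup.Normal.conj_mem ‹_› d hdS x) ((S : Subgroup H).inv_mem hdS)
      have h2 : ((x * d * x⁻¹ * d⁻¹ : H) : G) ∈ f.ker := by
        simp only [Subgroup.coe_mul, Subgroup.coe_inv]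
        have h3 := (MonoidHom.normal_ker f).conj_mem _ (inv_mem hxK) (d : G)
        rw [show (x : G) * d * (x : G)⁻¹ * (d : G)⁻¹ = (x : G) * ((d : G) * (x : G)⁻¹ * (d : G)⁻¹) by group]
        exact f.ker.mul_mem hxK h3
      have h4 : x * d * x⁻¹ * d⁻¹ = 1 := by
        obtain ⟨j, hj⟩ := (IsPGroup.iff_orderOf.mp S.2) ⟨_, h1⟩
        rw [Subgroup.orderOf_mk] at hj
        rw [← orderOf_eq_one_iff]
        rcases Nat.eq_zero_or_pos j with rfl | hj0
        · rw [hj, pow_zero]
        · exfalso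
          apply MonoidHom.not_dvd_card_ker_transferSylow P (le_of_eq hNC)
          refine (hj ▸ dvd_pow_self p hj0.ne' : p ∣ orderOf (x * d * x⁻¹ * d⁻¹)).trans ?_
          rw [← Subgroup.orderOf_coe]
          exact Subgroup.orderOf_dvd_natCard _ h2
      exact commutatorElement_eq_one_iff_mul_comm.mp h4
    · obtain ⟨P', hP'⟩ := (S.2.map H.subtype).exists_le_sylow
      obtain ⟨w, hw⟩ := MulAction.exists_smul_eq G P' P
      have hSP : ∀ a ∈ (S : Subgroup H), w * (a : G) * w⁻¹ ∈ (P : Subgroup G) := by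
        intro a ha
        rw [← hw]
        exact ⟨(a : G), hP' (mem_map_of_mem _ ha), rfl⟩
      have hn0 : n ≠ 0 := fun h => hd1 (orderOf_eq_one_iff.mp (by rw [hn, h, pow_zero]))
      set q := d ^ (orderOf d / p) with hq
      have hqo : orderOf q = p := orderOf_pow_orderOf_div (orderOf_pos d).ne' (hn ▸ dvd_pow_self p hn0)
      have hqS : q ∈ (S : Subgroup H) := (S : Subgroup H).pow_mem hdS _
      have hxq : x * q * x⁻¹ ∈ zpowers q := by
        have heq := Basics.cyclic_subgroup_eq_of_card_eq (A := zpowers (⟨x * q * x⁻¹, Subgroup.Normal.conj_mem ‹_› q hqS x⟩ : (S : Subgroup H)))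
          (B := zpowers (⟨q, hqS⟩ : (S : Subgroup H))) (by
            rw [Nat.card_zpowers, Nat.card_zpowers, ← Subgroup.orderOf_coe, ← Subgroup.orderOf_coe ⟨q, hqS⟩]
            exact (MulAut.conj x).orderOf_eq q)
        obtain ⟨i, hi⟩ := mem_zpowers_iff.mp (heq ▸ mem_zpowers _ :
          (⟨x * q * x⁻¹, Subgroup.Normal.conj_mem ‹_› q hqS x⟩ : (S : Subgroup H)) ∈ zpowers (⟨q, hqS⟩ : (S : Subgroup H)))
        exact ⟨i, congrArg Subtype.val hi⟩
      set z := w * (q : G) * w⁻¹ with hz
      set x0 := w * (x : G) * w⁻¹ with hx0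
      have hQP : zpowers z ≤ (P : Subgroup G) := zpowers_le.mpr (hSP q hqS)
      have hQc : Nat.card (zpowers z) = p := by
        rw [Nat.card_zpowers, hz, show w * (q : G) * w⁻¹ = MulAut.conj w (q : G) from rfl,
          (MulAut.conj w).orderOf_eq, Subgroup.orderOf_coe, hqo]
      obtain ⟨hCab, hinv⟩ := h2 (zpowers z) hQP hQc
      have hx0N : x0 ∈ normalizer ((zpowers z : Subgroup G) : Set G) := by
        apply mem_normalizer_iff_map_conj_eq.mpr
        refine eq_of_le_of_card_ge ?_ (le_of_eq (card_map_of_injective (MulAut.conj x0).injective).symm)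
        rw [MonoidHom.map_zpowers, zpowers_le]
        obtain ⟨i, hi⟩ := mem_zpowers_iff.mp hxq
        refine ⟨i, ?_⟩
        have h9 : x0 * z * x0⁻¹ = w * ((x * q * x⁻¹ : H) : G) * w⁻¹ := by
          simp only [hx0, hz, Subgroup.coe_mul, Subgroup.coe_inv]; group
        show z ^ i = x0 * z * x0⁻¹
        rw [h9, hz, conj_zpow, ← hi, Subgroup.coe_zpow]
      have hdC : w * (d : G) * w⁻¹ ∈ centralizer ((zpowers z : Subgroup G) : Set G) :=
        mem_centralizer_iff.mpr fun a ha => comm_of_pgroup P hP P.2 (hQP ha) (hSP d hdS)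
      have hx0C : x0 ∉ centralizer ((zpowers z : Subgroup G) : Set G) := by
        intro h
        apply hc
        have h5 := congrArg Subtype.val (hCab.is_comm.comm (⟨x0, h⟩ : centralizer ((zpowers z : Subgroup G) : Set G)) ⟨_, hdC⟩)
        apply Subtype.ext
        show (x : G) * d = d * x
        have h6 : MulAut.conj w ((x : G) * d) = MulAut.conj w ((d : G) * x) := by
          simpa only [map_mul, MulAut.conj_apply, hx0, Subgroup.coe_mul] using h5
        exact (MulAut.conj w).injective h6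
      obtain ⟨ho, hi⟩ := hinv x0 hx0N hx0C
      refine ⟨?_, ?_⟩
      · rw [← Subgroup.orderOf_coe]
        rw [hx0, show w * (x : G) * w⁻¹ = MulAut.conj w (x : G) from rfl, (MulAut.conj w).orderOf_eq] at ho
        exact ho
      · have h7 := hi _ hdC
        apply Subtype.ext
        simp only [Subgroup.coe_mul, Subgroup.coe_inv]
        apply (MulAut.conj w).injective
        simp only [map_mul, map_inv, MulAut.conj_apply]
        rw [hx0] at h7
        exact h7
  have hxnd : x ∉ zpowers d := fun h => hc (by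
    obtain ⟨i, rfl⟩ := mem_zpowers_iff.mp h
    exact ((Commute.refl d).zpow_left i).eq)
  obtain ⟨e⟩ := Invol.nonempty_dihedralEquiv (t := x) (d := d)
    (by rw [← pow_two, ← key.1]; exact pow_orderOf_eq_one x) key.2 hxnd
  rw [hn] at e
  exact ⟨((e.trans (MulEquiv.subgroupCongr ((eq_top_iff' _).mpr hgen))).trans topEquiv).symm⟩

/-- Let p be an odd prime and G a finite group with Sylow p-subgroup P. Say that G has restricted p-by-cyclic subgroups when every subgroup H of G whose Sylow p-subgroup is normal in H with cyclic quotient is itself cyclic or dihedral of order 2pⁿ for some n. Then G has restricted p-by-cyclic subgroups if and only if P is cyclic and one of the following holds: (1) N_G(P) = C_G(P); or (2) N_G(P)/C_G(P) has order 2 and, for the subgroup Q of order p of P, the centralizer C_G(Q) is abelian and every element of N_G(Q) outside C_G(Q) is an involution inverting every element of C_G(Q). -/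
theorem result {G : Type*} [Group G] [Finite G] {p : ℕ}
    [Fact p.Prime] (hp : p ≠ 2) (P : Sylow p G) :
    (∀ H : Subgroup G, (∀ S : Sylow p ↥H, (S : Subgroup ↥H).Normal) →
        (∀ (S : Sylow p ↥H) [(S : Subgroup ↥H).Normal], IsCyclic (↥H ⧸ (S : Subgroup ↥H))) →
        IsCyclic H ∨ (∃ n : ℕ, Nonempty (H ≃* DihedralGroup (p ^ n)))) ↔
    (IsCyclic P ∧
      (Subgroup.normalizer ((P : Subgroup G) : Set G) = Subgroup.centralizer ((P : Subgroup G) : Set G) ∨
       ((Subgroup.centralizer ((P : Subgroup G) : Set G)).relIndex (Subgroup.normalizer ((P : Subgroup G) : Set G)) = 2 ∧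
        ∀ Q : Subgroup G, Q ≤ P → Nat.card Q = p →
          IsMulCommutative ↥(Subgroup.centralizer (Q : Set G)) ∧
          ∀ x : G, x ∈ Subgroup.normalizer (Q : Set G) → x ∉ Subgroup.centralizer (Q : Set G) →
            orderOf x = 2 ∧ ∀ c : G, c ∈ Subgroup.centralizer (Q : Set G) → x * c * x⁻¹ = c⁻¹))) := by

  constructor
  · exact forward hp P
  · rintro ⟨hP, hcases⟩
    exact backward hp P hP hcases

end Cfsg.Agent.S4082
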