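import Cfsg.Statements.S4083
import Cfsg.Agent.Lib.Invol.Dihedral
import Cfsg.Agent.Lib.Invol.RankAut
import Cfsg.Agent.Lib.InvChar.Aut2
import Cfsg.Agent.Lib.Basics.Frattini
import Cfsg.Agent.Lib.OddLocal.Rank
import Cfsg.Agent.S0228
-- import your own Cfsg.Agent.* helpers here

set_option autoImplicit false
open Cfsg

namespace Cfsg.Agent.S4083

open Subgroup

theorem dcast {a b : ℕ} (h : a = b) : Nonempty (DihedralGroup a ≃* DihedralGroup b) := h ▸ ⟨MulEquiv.refl _⟩

theorem sylow_top {H : Type*} [Group H] (h : IsPGroup 2 H) (S : Sylow 2 H) : (S : Subgroup H) = ⊤ :=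
  (S.is_maximal' (h.of_equiv Subgroup.topEquiv.symm) le_top).symm

theorem le_of_normal_sylow {H : Type*} [Group H] [Finite H] (S : Sylow 2 H) [(S : Subgroup H).Normal]
    {A : Subgroup H} (hA : IsPGroup 2 A) : A ≤ (S : Subgroup H) := by
  haveI := Fact.mk Nat.prime_two
  obtain ⟨T, hT⟩ := hA.exists_le_sylow
  haveI := Sylow.unique_of_normal S inferInstance
  rw [Subsingleton.elim T S] at hT
  exact hT

theorem conj_fix {H : Type*} [Group H] [Finite H] (S : Sylow 2 H) [(S : Subgroup H).Normal]
    (hab : ∀ a b : (S : Subgroup H), a * b = b * a) (h : H) :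
    MulAut.conjNormal (H := (S : Subgroup H)) h ^ (S : Subgroup H).index = 1 := by
  rw [← map_pow]
  refine MulEquiv.ext fun s => Subtype.ext ?_
  rw [MulAut.conjNormal_apply]
  show _ = (s : H)
  have hm : h ^ (S : Subgroup H).index ∈ (S : Subgroup H) := Subgroup.pow_index_mem _ h
  rw [show h ^ (S : Subgroup H).index * (s : H) = (s : H) * h ^ (S : Subgroup H).index from
    congrArg Subtype.val (hab ⟨_, hm⟩ s), mul_inv_cancel_right]

theorem cyclicH {H : Type*} [Group H] [Finite H] (S : Sylow 2 H) [(S : Subgroup H).Normal]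
    (hS : IsCyclic (S : Subgroup H)) (hQ : IsCyclic (H ⧸ (S : Subgroup H))) : IsCyclic H := by
  haveI := Fact.mk Nat.prime_two
  haveI := hS
  have hcent : ∀ (h : H) (s : (S : Subgroup H)), Commute h (s : H) := by
    intro h s
    obtain ⟨k, hk⟩ := IsPGroup.iff_orderOf.1 (Cfsg.Agent.InvChar.isPGroup_mulAut_of_isCyclic S.isPGroup')
      (MulAut.conjNormal (H := (S : Subgroup H)) h)
    have h2 := conj_fix S (IsCyclic.commGroup (α := (S : Subgroup H))).mul_comm h
    have h3 := orderOf_dvd_of_pow_eq_one h2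
    have h1 : MulAut.conjNormal (H := (S : Subgroup H)) h = 1 := orderOf_eq_one_iff.1
      (Nat.eq_one_of_dvd_coprimes ((Nat.prime_two.coprime_iff_not_dvd.2 S.not_dvd_index).pow_left k)
        (dvd_of_eq hk) h3)
    have h4 := congrArg Subtype.val (DFunLike.congr_fun h1 s)
    rw [MulAut.conjNormal_apply] at h4
    exact mul_inv_eq_iff_eq_mul.1 h4
  obtain ⟨q, hq⟩ := IsCyclic.exists_ofOrder_eq_natCard (α := H ⧸ (S : Subgroup H))
  obtain ⟨g, rfl⟩ := QuotientGroup.mk_surjective q
  obtain ⟨s, hs⟩ := IsCyclic.exists_ofOrder_eq_natCard (α := (S : Subgroup H))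
  set m := Nat.card (H ⧸ (S : Subgroup H)) with hm
  have hco : Nat.Coprime (Nat.card (S : Subgroup H)) m := by
    rw [hm, show Nat.card (H ⧸ (S : Subgroup H)) = (S : Subgroup H).index from rfl]
    exact S.card_coprime_index
  set g' := g ^ Nat.card (S : Subgroup H)
  have hog : orderOf g' = m := by
    refine Nat.dvd_antisymm (orderOf_dvd_of_pow_eq_one ?_) ?_
    · rw [← pow_mul, mul_comm, pow_mul]
      have hgm : g ^ m ∈ (S : Subgroup H) := Subgroup.pow_index_mem _ g
      exact congrArg Subtype.val (pow_card_eq_one' (x := (⟨_, hgm⟩ : (S : Subgroup H))))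
    · have h1 : orderOf (QuotientGroup.mk g' : H ⧸ (S : Subgroup H)) = m := by
        rw [QuotientGroup.mk_pow, orderOf_pow, hq, Nat.Coprime.gcd_eq_one hco.symm, Nat.div_one]
      exact h1 ▸ orderOf_map_dvd (QuotientGroup.mk' (S : Subgroup H)) g'
  refine isCyclic_of_orderOf_eq_card ((s : H) * g') ?_
  rw [(hcent g' s).symm.orderOf_mul_eq_mul_orderOf_of_coprime (by rw [Subgroup.orderOf_coe, hs, hog]; exact hco),
    Subgroup.orderOf_coe, hs, hog]
  exact (S : Subgroup H).card_mul_index

theorem dih_sub {n : ℕ} (T : Subgroup (DihedralGroup (2 ^ n))) (hT : ¬ IsCyclic T) :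
    ∃ j : ℕ, 1 ≤ j ∧ Nonempty (T ≃* DihedralGroup (2 ^ j)) := by
  haveI : NeZero (2 ^ n) := ⟨pow_ne_zero _ two_ne_zero⟩
  set R := zpowers (DihedralGroup.r 1 : DihedralGroup (2 ^ n)) with hR
  have hr : ∀ i, DihedralGroup.r i ∈ R := fun i => ⟨(i.cast : ℤ), by simp⟩
  haveI : IsCyclic R := inferInstance
  haveI : IsCyclic (T ⊓ R : Subgroup _) :=
    isCyclic_of_injective (inclusion inf_le_right) (inclusion_injective inf_le_right)
  obtain ⟨d, hd⟩ := (Subgroup.isCyclic_iff_exists_zpowers_eq_top (T ⊓ R)).1 inferInstance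
  have hdTR : d ∈ T ⊓ R := hd ▸ mem_zpowers d
  obtain ⟨i, hi⟩ : ∃ i, DihedralGroup.sr i ∈ T := by
    by_contra h
    push Not at h
    have hle : T ≤ T ⊓ R := fun x hx => ⟨hx, by
      cases x with
      | r k => exact hr k
      | sr k => exact absurd hx (h k)⟩
    exact hT (isCyclic_of_injective (inclusion hle) (inclusion_injective hle))
  set t : DihedralGroup (2 ^ n) := DihedralGroup.sr i
  have ht : t * t = 1 := by simp [t]
  have hinv : t * d * t⁻¹ = d⁻¹ := by
    obtain ⟨k, hk⟩ := hdTR.2
    have hk' : d = DihedralGroup.r (k : ZMod (2 ^ n)) := by rw [← hk]; simp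
    rw [hk', inv_eq_of_mul_eq_one_right ht]
    simp [t]
  have hnm : t ∉ zpowers d := by
    intro h
    obtain ⟨k, hk⟩ := (Subgroup.zpowers_le.2 hdTR.2) h
    simp [t] at hk
  obtain ⟨e⟩ := Cfsg.Agent.Invol.nonempty_dihedralEquiv ht hinv hnm
  have hclo : closure ({t, d} : Set (DihedralGroup (2 ^ n))) = T := by
    refine le_antisymm ((closure_le T).2 (by rintro x (rfl | rfl); exacts [hi, hdTR.1])) fun x hx => ?_
    have hdle : T ⊓ R ≤ closure ({t, d} : Set (DihedralGroup (2 ^ n))) :=
      hd ▸ zpowers_le.2 (subset_closure (by simp))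
    cases x with
    | r k => exact hdle ⟨hx, hr k⟩
    | sr k =>
      have h1 : t * DihedralGroup.sr k ∈ T ⊓ R := ⟨mul_mem hi hx, by simp only [t, DihedralGroup.sr_mul_sr]; exact hr _⟩
      have h2 := mul_mem (subset_closure (by simp) : t ∈ closure ({t, d} : Set (DihedralGroup (2 ^ n)))) (hdle h1)
      rwa [← mul_assoc, ht, one_mul] at h2
  have hD : IsPGroup 2 (DihedralGroup (2 ^ n)) :=
    IsPGroup.of_card (n := n + 1) (by rw [DihedralGroup.nat_card, pow_succ, mul_comm])
  obtain ⟨j, hj⟩ := IsPGroup.iff_orderOf.1 hD d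
  rcases Nat.eq_zero_or_pos j with rfl | hj0
  · exfalso
    rw [pow_zero, orderOf_eq_one_iff] at hj
    refine hT ?_
    have hle : T ≤ zpowers t := hclo ▸ (closure_le _).2
      (by rintro x (rfl | rfl); exacts [mem_zpowers _, hj ▸ one_mem _])
    exact isCyclic_of_injective (inclusion hle) (inclusion_injective hle)
  · obtain ⟨ec⟩ := dcast hj
    exact ⟨j, hj0, ⟨(MulEquiv.subgroupCongr hclo.symm).trans (e.symm.trans ec)⟩⟩

theorem dih_four {n : ℕ} (hn : 1 ≤ n) :
    ∃ K : Subgroup (DihedralGroup (2 ^ n)), Nat.card K = 4 ∧ ∀ k ∈ K, k ^ 2 = 1 := by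
  haveI := Fact.mk Nat.prime_two
  haveI : NeZero (2 ^ n) := ⟨pow_ne_zero _ two_ne_zero⟩
  set z : DihedralGroup (2 ^ n) := DihedralGroup.r 1 ^ 2 ^ (n - 1)
  have hoz : orderOf z = 2 := by
    rw [orderOf_pow' _ (pow_ne_zero _ two_ne_zero), DihedralGroup.orderOf_r_one,
      Nat.gcd_eq_right (pow_dvd_pow 2 (by omega)), Nat.pow_div (by omega) two_pos, show n - (n - 1) = 1 by omega,
      pow_one]
  set t : DihedralGroup (2 ^ n) := DihedralGroup.sr 0
  have hot : t ^ 2 = 1 := by rw [sq]; simp [t]
  have hc : t ∈ centralizer ((zpowers z : Subgroup _) : Set (DihedralGroup (2 ^ n))) := by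
    refine mem_centralizer_iff.2 fun y hy => ?_
    obtain ⟨k, rfl⟩ := hy
    refine ((show Commute z t from ?_).zpow_left k).eq
    show z * t = t * z
    have hz' : z⁻¹ = z := inv_eq_of_mul_eq_one_right (by
      rw [← sq]; exact orderOf_dvd_iff_pow_eq_one.1 (dvd_of_eq hoz))
    have hzr : z = DihedralGroup.r ((2 ^ (n - 1) : ℕ) : ZMod (2 ^ n)) := by simp [z]
    have hneg : -((2 ^ (n - 1) : ℕ) : ZMod (2 ^ n)) = ((2 ^ (n - 1) : ℕ) : ZMod (2 ^ n)) := by
      have := hz'
      rw [hzr, DihedralGroup.inv_r, DihedralGroup.r.injEq] at this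
      exact this
    rw [hzr]
    simp only [t, DihedralGroup.r_mul_sr, DihedralGroup.sr_mul_r, zero_sub, zero_add, hneg]
  have hnm : t ∉ zpowers z := by
    rintro ⟨k, hk⟩
    simp [t, z, ← zpow_natCast, ← zpow_mul] at hk
  have hea : Cfsg.IsElementaryAbelian 2 (zpowers z) := ⟨inferInstance, by
    rintro _ ⟨k, rfl⟩
    show (z ^ k) ^ 2 = 1
    rw [← zpow_natCast, ← zpow_mul, mul_comm, zpow_mul, zpow_natCast, orderOf_dvd_iff_pow_eq_one.1 (dvd_of_eq hoz), one_zpow]⟩
  refine ⟨zpowers z ⊔ zpowers t, ?_, (Cfsg.Agent.OddLocal.ea_sup_zpowers hea hc hot).2⟩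
  rw [(Cfsg.Agent.Basics.card_sup_zpowers (p := 2) (centralizer_le_normalizer _ hc)
    (by rw [hot]; exact one_mem _)).2 hnm, Nat.card_zpowers, hoz]

theorem dih_aut {j : ℕ} (hj : 2 ≤ j) : IsPGroup 2 (MulAut (DihedralGroup (2 ^ j))) := by
  haveI : NeZero (2 ^ j) := ⟨pow_ne_zero _ two_ne_zero⟩
  have hr : ∀ k, (DihedralGroup.r k : DihedralGroup (2 ^ j)) ∈ zpowers (DihedralGroup.r 1) :=
    fun k => ⟨(k.cast : ℤ), by simp⟩
  refine Cfsg.Agent.InvChar.isPGroup_mulAut_of_cyclic_index_two j (by omega) (DihedralGroup.r 1)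
    (DihedralGroup.sr 0) DihedralGroup.orderOf_r_one ?_ ?_ ?_
  · intro z
    cases z with
    | r k => exact Or.inl (hr k)
    | sr k => exact Or.inr ⟨DihedralGroup.r (-k), hr _, by simp⟩
  · intro z hz
    cases z with
    | r k => exact hr k
    | sr k =>
      rw [DihedralGroup.orderOf_sr] at hz
      have := Nat.pow_le_pow_right two_pos hj
      omega
  · rintro ⟨k, hk⟩
    simp at hk

theorem card_aut_four : Nat.card (MulAut (DihedralGroup 2)) ≤ 6 := by
  let P := {q : DihedralGroup 2 × DihedralGroup 2 // q.1 ≠ 1 ∧ q.2 ≠ 1 ∧ q.1 ≠ q.2}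
  have h6 : Nat.card P = 6 := by rw [Nat.card_eq_fintype_card]; decide
  refine h6 ▸ Nat.card_le_card_of_injective
    (fun φ => (⟨(φ (DihedralGroup.r 1), φ (DihedralGroup.sr 0)),
      fun h => (by decide : DihedralGroup.r (1 : ZMod 2) ≠ 1) (φ.injective (h.trans (map_one φ).symm)),
      fun h => (by decide : DihedralGroup.sr (0 : ZMod 2) ≠ 1) (φ.injective (h.trans (map_one φ).symm)),
      fun h => (by decide : DihedralGroup.r (1 : ZMod 2) ≠ DihedralGroup.sr 0) (φ.injective h)⟩ : P)) ?_
  intro φ ψ h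
  simp only [P, Subtype.mk.injEq, Prod.mk.injEq] at h
  refine MulEquiv.ext fun x => ?_
  have hx : x = 1 ∨ x = DihedralGroup.r 1 ∨ x = DihedralGroup.sr 0 ∨
      x = DihedralGroup.r 1 * DihedralGroup.sr 0 := by revert x; decide
  rcases hx with rfl | rfl | rfl | rfl
  · simp
  · exact h.1
  · exact h.2
  · rw [map_mul, map_mul, h.1, h.2]

theorem four_case {H : Type*} [Group H] [Finite H] (S : Sylow 2 H) [(S : Subgroup H).Normal]
    (hC : centralizer ((S : Subgroup H) : Set H) ≤ (S : Subgroup H))
    (e : (S : Subgroup H) ≃* DihedralGroup 2) :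
    (S : Subgroup H) = ⊤ ∨ Nonempty (H ≃* alternatingGroup (Fin 4)) := by
  haveI := Fact.mk Nat.prime_two
  have hab : ∀ a b : (S : Subgroup H), a * b = b * a := fun a b => e.injective (by
    rw [map_mul, map_mul]
    have : ∀ x y : DihedralGroup 2, x * y = y * x := by decide
    exact this _ _)
  have hS4 : Nat.card (S : Subgroup H) = 4 := by rw [Nat.card_congr e.toEquiv, DihedralGroup.nat_card]
  set c : H →* MulAut (S : Subgroup H) := MulAut.conjNormal with hc
  set m := (S : Subgroup H).index with hm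
  have hodd : ¬ 2 ∣ m := S.not_dvd_index
  have hker : c.ker = (S : Subgroup H) := by
    refine le_antisymm (fun h hh => hC (mem_centralizer_iff.2 fun s hs => ?_)) fun s hs => ?_
    · have h4 := congrArg Subtype.val (DFunLike.congr_fun (MonoidHom.mem_ker.1 hh) ⟨s, hs⟩)
      rw [hc, MulAut.conjNormal_apply] at h4
      exact (mul_inv_eq_iff_eq_mul.1 h4).symm
    · refine MonoidHom.mem_ker.2 (MulEquiv.ext fun u => Subtype.ext ?_)
      rw [hc, MulAut.conjNormal_apply]
      show _ = (u : H)
      rw [show s * (u : H) = u * s from congrArg Subtype.val (hab ⟨s, hs⟩ u), mul_inv_cancel_right]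
  have hrange : Nat.card c.range = m := by rw [← Subgroup.index_ker, hker]
  haveI : Finite (MulAut (S : Subgroup H)) :=
    Finite.of_injective (fun φ : MulAut (S : Subgroup H) => (φ : _ → _)) DFunLike.coe_injective
  have hle : m ≤ 6 := by
    rw [← hrange]
    calc Nat.card c.range ≤ Nat.card (MulAut (S : Subgroup H)) := Subgroup.card_le_card_group _
      _ = Nat.card (MulAut (DihedralGroup 2)) := Nat.card_congr (MulAut.congr e).toEquiv
      _ ≤ 6 := card_aut_four
  have hm5 : m ≠ 5 := by
    intro h5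
    haveI := Fact.mk (show Nat.Prime 5 by norm_num)
    obtain ⟨τ, hτ⟩ := exists_prime_orderOf_dvd_card' (G := c.range) 5 (by rw [hrange, h5])
    have h1 : (τ : MulAut (S : Subgroup H)) = 1 := Cfsg.Agent.Invol.RankAut.mulAut_eq_one (p := 2) (r := 2)
      Nat.prime_two hS4 _ (by rw [Subgroup.orderOf_coe, hτ]; decide)
      (fun i h1 h2 => by rw [Subgroup.orderOf_coe, hτ]; interval_cases i <;> decide)
    rw [← Subgroup.orderOf_coe, h1, orderOf_one] at hτ
    omega
  have hm0 : m ≠ 0 := Subgroup.index_ne_zero_of_finite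
  rcases (show m = 1 ∨ m = 3 by omega) with h1 | h3
  · exact Or.inl (Subgroup.index_eq_one.1 h1)
  refine Or.inr (Cfsg.Agent.S0228.result ?_ fun z hz hzZ => ?_)
  · rw [← (S : Subgroup H).card_mul_index, hS4, ← hm, h3]
  -- a central involution would make the action trivial
  have hzS : z ∈ (S : Subgroup H) := le_of_normal_sylow S
    (IsPGroup.of_card (n := 1) (by rw [Nat.card_zpowers, hz, pow_one])) (mem_zpowers z)
  have hbot : ∀ h : H, c h = 1 := by
    intro h
    set φ := c h
    set z' : (S : Subgroup H) := ⟨z, hzS⟩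
    have hzfix : φ z' = z' := Subtype.ext (by
      show ((c h) z' : H) = z
      rw [hc, MulAut.conjNormal_apply]
      show h * z * h⁻¹ = z
      rw [Subgroup.mem_center_iff.1 hzZ h, mul_inv_cancel_right])
    have hz1 : z' ≠ 1 := fun e1 => by
      rw [show z = 1 from congrArg Subtype.val e1, orderOf_one] at hz; omega
    have key : ∀ w a b : DihedralGroup 2, w ≠ 1 → a ≠ 1 → a ≠ w → b ≠ 1 → b ≠ w → b ≠ a → b = w * a := by
      decide
    have hex : ∀ v : (S : Subgroup H), φ (φ v) = v := by
      intro v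
      by_cases hv1 : v = 1
      · simp [hv1]
      by_cases hvz : v = z'
      · rw [hvz, hzfix, hzfix]
      by_cases hfv : φ v = v
      · rw [hfv, hfv]
      have hne1 : φ v ≠ 1 := fun e1 => hv1 (φ.injective (e1.trans (map_one φ).symm))
      have hnez : φ v ≠ z' := fun e1 => hvz (φ.injective (e1.trans hzfix.symm))
      have h2 : φ v = z' * v := e.injective (by
        rw [map_mul]
        exact key _ _ _ (fun e1 => hz1 (e.injective (e1.trans (map_one e).symm)))
          (fun e1 => hv1 (e.injective (e1.trans (map_one e).symm))) (fun e1 => hvz (e.injective e1))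
          (fun e1 => hne1 (e.injective (e1.trans (map_one e).symm))) (fun e1 => hnez (e.injective e1))
          (fun e1 => hfv (e.injective e1)))
      rw [h2, map_mul, hzfix, h2, ← mul_assoc]
      have : z' * z' = 1 := Subtype.ext (by
        show z * z = 1
        rw [← sq]; exact orderOf_dvd_iff_pow_eq_one.1 (dvd_of_eq hz))
      rw [this, one_mul]
    have h2 : φ ^ 2 = 1 := MulEquiv.ext fun v => by rw [sq]; exact hex v
    refine orderOf_eq_one_iff.1 (Nat.eq_one_of_dvd_coprimes (show Nat.Coprime 2 3 by decide)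
      (orderOf_dvd_of_pow_eq_one h2) (orderOf_dvd_of_pow_eq_one ?_))
    rw [← h3]
    exact conj_fix S hab h
  have : c.range = ⊥ := (eq_bot_iff_forall _).2 (by rintro _ ⟨h, rfl⟩; exact hbot h)
  rw [this, Subgroup.card_bot] at hrange
  omega

/-- Let G be a finite group with Sylow 2-subgroup P. Every subgroup H of G whose Sylow 2-subgroup is normal in H with cyclic quotient is cyclic, dihedral of 2-power order, or isomorphic to the alternating group of degree 4, if and only if either P is cyclic, or P is dihedral (of order at least 4) and every elementary abelian subgroup K of order 4 of P satisfies C_G(K) = K. -/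
theorem result {G : Type*} [Group G] [Finite G] (P : Sylow 2 G) :
    (∀ H : Subgroup G, (∀ S : Sylow 2 ↥H, (S : Subgroup ↥H).Normal) →
        (∀ (S : Sylow 2 ↥H) [(S : Subgroup ↥H).Normal], IsCyclic (↥H ⧸ (S : Subgroup ↥H))) →
        IsCyclic H ∨ (∃ n : ℕ, Nonempty (H ≃* DihedralGroup (2 ^ n))) ∨ Nonempty (H ≃* alternatingGroup (Fin 4))) ↔
    (IsCyclic P ∨
      ((∃ n : ℕ, 1 ≤ n ∧ Nonempty ((P : Subgroup G) ≃* DihedralGroup (2 ^ n))) ∧
        ∀ K : Subgroup G, K ≤ P → Nat.card K = 4 → (∀ k ∈ K, k ^ 2 = 1) → Subgroup.centralizer (K : Set G) = K)) := by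
  haveI := Fact.mk Nat.prime_two
  constructor
  · intro hH
    have hP : IsCyclic ↥(P : Subgroup G) ∨ (∃ n : ℕ, Nonempty ((P : Subgroup G) ≃* DihedralGroup (2 ^ n))) ∨
        Nonempty ((P : Subgroup G) ≃* alternatingGroup (Fin 4)) := by
      refine hH P ?_ ?_
      · intro S
        rw [sylow_top P.isPGroup' S]
        infer_instance
      · intro S hS
        have hsub : Subsingleton (↥(P : Subgroup G) ⧸ (S : Subgroup ↥(P : Subgroup G))) :=
          QuotientGroup.subsingleton_iff.2 (sylow_top P.isPGroup' S)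
        exact isCyclic_of_subsingleton
    rcases hP with h | ⟨n, ⟨e⟩⟩ | hA4
    · exact Or.inl h
    · rcases Nat.eq_zero_or_pos n with rfl | hn
      · refine Or.inl (isCyclic_of_prime_card (p := 2) ?_)
        rw [Nat.card_congr e.toEquiv, DihedralGroup.nat_card, pow_zero, mul_one]
      · refine Or.inr ⟨⟨n, hn, ⟨e⟩⟩, fun K hKP hK hK2 => ?_⟩
        refine le_antisymm (fun x hx => ?_) ?_
        swap
        · haveI : IsMulCommutative K := IsPGroup.isMulCommutative_of_card_eq_prime_sq (p := 2) (by rw [hK]; norm_num)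
          exact le_centralizer_iff_isMulCommutative.2 inferInstance
        haveI hKc : IsMulCommutative K := IsPGroup.isMulCommutative_of_card_eq_prime_sq (p := 2) (by rw [hK]; norm_num)
        set H := K ⊔ zpowers x with hHdef
        have hHc : IsMulCommutative H := by
          have e1 : H = closure ((K : Set G) ∪ {x}) := by rw [Subgroup.closure_union, Subgroup.closure_eq, ← zpowers_eq_closure]
          rw [e1]
          refine isMulCommutative_closure ?_
          rintro a (ha | ha) b (hb | hb)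
          · exact congrArg Subtype.val (hKc.is_comm.comm ⟨a, ha⟩ ⟨b, hb⟩)
          · rw [Set.mem_singleton_iff.1 hb]; exact mem_centralizer_iff.1 hx a ha
          · rw [Set.mem_singleton_iff.1 ha]; exact (mem_centralizer_iff.1 hx b hb).symm
          · rw [Set.mem_singleton_iff.1 ha, Set.mem_singleton_iff.1 hb]
        have hHcomm : ∀ a b : H, a * b = b * a := hHc.is_comm.comm
        have hKnc : ¬ IsCyclic K := fun h => by
          obtain ⟨g, hg⟩ := h.exists_ofOrder_eq_natCard
          have := orderOf_dvd_of_pow_eq_one (show g ^ 2 = 1 from Subtype.ext (hK2 g g.2))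
          rw [hg, hK] at this
          omega
        have hquot : ∀ (S : Sylow 2 H) [(S : Subgroup H).Normal], IsCyclic (H ⧸ (S : Subgroup H)) := by
          intro S hS
          haveI := hS
          set x' : H := ⟨x, mem_sup_right (mem_zpowers x)⟩
          set A := (zpowers (QuotientGroup.mk x' : H ⧸ (S : Subgroup H))).comap (QuotientGroup.mk' (S : Subgroup H))
          have hKS : K.subgroupOf H ≤ (S : Subgroup H) := le_of_normal_sylow S
            (IsPGroup.of_card (n := 2) (by rw [Nat.card_congr (subgroupOfEquivOfLe (le_sup_left : K ≤ H)).toEquiv, hK]; norm_num))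
          have hle : H ≤ A.map H.subtype := sup_le
            (fun u hu => ⟨⟨u, mem_sup_left hu⟩, by
              show (QuotientGroup.mk _ : H ⧸ (S : Subgroup H)) ∈ zpowers (QuotientGroup.mk x')
              rw [(QuotientGroup.eq_one_iff _).2 (hKS (show (⟨u, mem_sup_left hu⟩ : H) ∈ K.subgroupOf H from hu))]
              exact one_mem _, rfl⟩)
            (zpowers_le.2 ⟨x', mem_zpowers _, rfl⟩)
          refine ⟨⟨QuotientGroup.mk x', fun q => ?_⟩⟩
          obtain ⟨y, rfl⟩ := QuotientGroup.mk_surjective q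
          obtain ⟨w, hw, hwy⟩ := hle y.2
          rwa [Subtype.ext hwy] at hw
        rcases hH H (fun S => ⟨fun a ha g => by rw [hHcomm g a, mul_inv_cancel_right]; exact ha⟩) hquot
          with h | ⟨k, ⟨e'⟩⟩ | hA4
        · exact absurd (isCyclic_of_injective (inclusion (le_sup_left : K ≤ H)) (inclusion_injective _)) hKnc
        · have hk1 : k ≤ 1 := by
            by_contra hk
            haveI : NeZero (2 ^ k) := ⟨pow_ne_zero _ two_ne_zero⟩
            have h1 : DihedralGroup.r (1 : ZMod (2 ^ k)) * DihedralGroup.sr 0 =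
                DihedralGroup.sr 0 * DihedralGroup.r 1 := by
              obtain ⟨a, ha⟩ := e'.surjective (DihedralGroup.r (1 : ZMod (2 ^ k)))
              obtain ⟨b, hb⟩ := e'.surjective (DihedralGroup.sr (0 : ZMod (2 ^ k)))
              rw [← ha, ← hb, ← map_mul, ← map_mul, hHcomm]
            rw [DihedralGroup.r_mul_sr, DihedralGroup.sr_mul_r, DihedralGroup.sr.injEq, zero_sub, zero_add,
              neg_eq_iff_add_eq_zero, one_add_one_eq_two] at h1
            have h2 : ((2 : ℕ) : ZMod (2 ^ k)) = 0 := by exact_mod_cast h1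
            rw [ZMod.natCast_eq_zero_iff] at h2
            have h4 := Nat.le_of_dvd two_pos h2
            have := Nat.pow_le_pow_right two_pos (show 2 ≤ k by omega)
            omega
          have hle : Nat.card H ≤ Nat.card K := by
            rw [Nat.card_congr e'.toEquiv, DihedralGroup.nat_card, hK]
            have := Nat.pow_le_pow_right two_pos hk1
            omega
          rw [eq_of_le_of_card_ge le_sup_left hle]
          exact mem_sup_right (mem_zpowers x)
        · exfalso
          obtain ⟨e'⟩ := hA4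
          have h1 : ∀ a b : alternatingGroup (Fin 4), a * b = b * a := fun a b => by
            obtain ⟨u, rfl⟩ := e'.surjective a
            obtain ⟨v, rfl⟩ := e'.surjective b
            rw [← map_mul, ← map_mul, hHcomm]
          revert h1
          decide
    · exfalso
      obtain ⟨e⟩ := hA4
      obtain ⟨k, hk⟩ := IsPGroup.iff_card.1 P.isPGroup'
      rw [Nat.card_congr e.toEquiv, show Nat.card (alternatingGroup (Fin 4)) = 12 by
        rw [Nat.card_eq_fintype_card]; decide] at hk
      have h3 : 3 ∣ 2 ^ k := hk ▸ (by norm_num)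
      have := (Nat.prime_dvd_prime_iff_eq Nat.prime_three Nat.prime_two).1 (Nat.prime_three.dvd_of_dvd_pow h3)
      omega
  · intro hP H hN hQ
    obtain ⟨S⟩ : Nonempty (Sylow 2 H) := inferInstance
    haveI := hN S
    have hQc := hQ S
    by_cases hSc : IsCyclic (S : Subgroup H)
    · exact Or.inl (cyclicH S hSc hQc)
    -- move `S` into `P`
    obtain ⟨T, hT⟩ := (S.isPGroup'.map H.subtype).exists_le_sylow
    obtain ⟨g, rfl⟩ := MulAction.exists_smul_eq G P T
    let f : H →* G := (MulAut.conj g⁻¹).toMonoidHom.comp H.subtype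
    have hf : Function.Injective f := (MulAut.conj g⁻¹).injective.comp H.subtype_injective
    have hfS : ∀ s ∈ (S : Subgroup H), f s ∈ (P : Subgroup G) := by
      intro s hs
      have h1 := hT (mem_map_of_mem H.subtype hs)
      rw [Sylow.coe_subgroup_smul] at h1
      rw [Subgroup.mem_pointwise_smul_iff_inv_smul_mem] at h1
      show MulAut.conj g⁻¹ (s : G) ∈ _
      rw [map_inv]
      simpa using h1
    let fS : (S : Subgroup H) →* (P : Subgroup G) := (f.comp (S : Subgroup H).subtype).codRestrict _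
      (fun s => hfS s s.2)
    have hfSinj : Function.Injective fS := fun a b h => Subtype.ext (hf (congrArg Subtype.val h))
    rcases hP with hc | ⟨⟨n, hn, ⟨e⟩⟩, hfour⟩
    · exact absurd (isCyclic_of_injective fS hfSinj) hSc
    let fD : (S : Subgroup H) →* DihedralGroup (2 ^ n) := e.toMonoidHom.comp fS
    have hfDinj : Function.Injective fD := e.injective.comp hfSinj
    obtain ⟨j, hj, ⟨eD⟩⟩ := dih_sub fD.range fun h => hSc ((MonoidHom.ofInjective hfDinj).isCyclic.2 h)
    let eS : (S : Subgroup H) ≃* DihedralGroup (2 ^ j) := (MonoidHom.ofInjective hfDinj).trans eD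
    obtain ⟨K, hK4, hK2⟩ := dih_four hj
    let fK : DihedralGroup (2 ^ j) →* G := (f.comp (S : Subgroup H).subtype).comp eS.symm.toMonoidHom
    have hfK : Function.Injective fK :=
      (hf.comp (S : Subgroup H).subtype_injective).comp eS.symm.injective
    have hCK : centralizer ((K.map fK : Subgroup G) : Set G) = K.map fK := by
      refine hfour _ ?_ ?_ ?_
      · rintro _ ⟨u, -, rfl⟩
        exact hfS _ (eS.symm u).2
      · rw [card_map_of_injective hfK, hK4]
      · rintro _ ⟨u, hu, rfl⟩
        rw [← map_pow, hK2 u hu, map_one]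
    have hC : centralizer ((S : Subgroup H) : Set H) ≤ (S : Subgroup H) := by
      intro h hh
      have h1 : f h ∈ centralizer ((K.map fK : Subgroup G) : Set G) := by
        rw [mem_centralizer_iff]
        rintro _ ⟨u, -, rfl⟩
        show f _ * f h = f h * f _
        rw [← map_mul, ← map_mul]
        exact congrArg f (mem_centralizer_iff.1 hh _ (eS.symm u).2)
      rw [hCK] at h1
      obtain ⟨u, -, hu⟩ := h1
      exact hf hu ▸ (eS.symm u).2
    have hfin : ∀ h : (S : Subgroup H) = ⊤, Nonempty (H ≃* DihedralGroup (2 ^ j)) := fun h =>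
      ⟨Subgroup.topEquiv.symm.trans ((MulEquiv.subgroupCongr h.symm).trans eS)⟩
    rcases (show j = 1 ∨ 2 ≤ j by omega) with rfl | hj2
    · rcases four_case S hC (eS.trans (dcast (pow_one 2)).some) with h | h
      · exact Or.inr (Or.inl ⟨1, hfin h⟩)
      · exact Or.inr (Or.inr h)
    · refine Or.inr (Or.inl ⟨j, hfin ?_⟩)
      have hH2 : IsPGroup 2 H := Cfsg.Agent.InvChar.isPGroup_of_normal_selfCentralizing (S : Subgroup H)
        S.isPGroup' hC ((dih_aut hj2).of_equiv (MulAut.congr eS).symm)
      exact sylow_top hH2 S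

end Cfsg.Agent.S4083
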