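import Cfsg.Statements.S4084
import Mathlib
-- import your own Cfsg.Agent.* helpers here

set_option autoImplicit false
open Cfsg

namespace Cfsg.Agent.S4084

theorem key {G H : Type*} [Group G] [Finite G] [Group H] [Finite H] {p q : ℕ} (hp : p.Prime) (hq : q.Prime)
    (hpq : p ≠ q) (e : G ≃ H) (he : ∀ x y : G, Commute x y ↔ Commute (e x) (e y)) :
    (∃ g : G, orderOf g = p * q) → ∃ h : H, orderOf h = p * q := by
  classical
  rintro ⟨g, hg⟩
  obtain ⟨A, ⟨hgA, hA⟩, hmax⟩ := Set.Finite.exists_maximal
    (Set.toFinite {A : Set G | g ∈ A ∧ ∀ x ∈ A, ∀ y ∈ A, Commute x y})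
    ⟨{g}, rfl, fun x hx y hy => by rw [hx, hy]⟩
  have hAc : ∀ z, (∀ x ∈ A, Commute x z) → z ∈ A := by
    intro z hz
    exact hmax (y := insert z A) ⟨Set.mem_insert_of_mem _ hgA, by
      rintro x (rfl | hx) y (rfl | hy)
      · exact Commute.refl _
      · exact (hz y hy).symm
      · exact hz x hx
      · exact hA x hx y hy⟩ (Set.subset_insert _ _) (Set.mem_insert z A)
  set B := Subgroup.centralizer (e '' A) with hB
  have hBA : (B : Set H) = e '' A := by
    ext z
    constructor
    · intro hz
      refine ⟨e.symm z, hAc _ fun x hx => (he _ _).mpr ?_, e.apply_symm_apply z⟩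
      rw [e.apply_symm_apply]
      exact Subgroup.mem_centralizer_iff.mp hz (e x) ⟨x, hx, rfl⟩
    · rintro ⟨x, hx, rfl⟩
      rw [SetLike.mem_coe, hB, Subgroup.mem_centralizer_iff]
      rintro _ ⟨y, hy, rfl⟩
      exact ((he y x).mp (hA y hy x hx)).eq
  have hAeq : (Subgroup.centralizer A : Set G) = A := by
    ext z
    exact ⟨fun hz => hAc z fun x hx => Subgroup.mem_centralizer_iff.mp hz x hx,
      fun hz => Subgroup.mem_centralizer_iff.mpr fun x hx => (hA x hx z hz).eq⟩
  have hcard : Nat.card B = Nat.card (Subgroup.centralizer A) := by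
    show Nat.card (B : Set H) = Nat.card (Subgroup.centralizer A : Set G)
    rw [hBA, hAeq, Nat.card_image_of_injective e.injective]
  have hdvd : p * q ∣ Nat.card B := by
    rw [hcard, ← hg, ← Subgroup.orderOf_mk g (show g ∈ Subgroup.centralizer A from
      (show g ∈ (Subgroup.centralizer A : Set G) by rw [hAeq]; exact hgA))]
    exact orderOf_dvd_natCard _
  haveI := Fact.mk hp
  haveI := Fact.mk hq
  obtain ⟨u, hu⟩ := exists_prime_orderOf_dvd_card' (G := B) p ((dvd_mul_right p q).trans hdvd)
  obtain ⟨v, hv⟩ := exists_prime_orderOf_dvd_card' (G := B) q ((dvd_mul_left q p).trans hdvd)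
  refine ⟨(u : H) * v, ?_⟩
  have hcomm : Commute (u : H) v := by
    obtain ⟨x, hx, hxu⟩ := hBA.le u.2
    obtain ⟨y, hy, hyv⟩ := hBA.le v.2
    rw [← hxu, ← hyv]
    exact (he x y).mp (hA x hx y hy)
  rw [← Subgroup.orderOf_coe] at hu hv
  rw [hcomm.orderOf_mul_eq_mul_orderOf_of_coprime (by
    rw [hu, hv]; exact (Nat.coprime_primes hp hq).mpr hpq), hu, hv]

/-- Let G and H be finite groups whose commuting graphs are isomorphic: there is a bijection e : G → H with x, y commuting exactly when e(x), e(y) commute. Then G and H have the same prime graph: for distinct primes p, q, G has an element of order pq if and only if H does (and #G = #H, so the prime divisors agree). -/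
theorem result {G H : Type*} [Group G] [Finite G] [Group H] [Finite H] (e : G ≃ H)
    (he : ∀ x y : G, Commute x y ↔ Commute (e x) (e y))
    {p q : ℕ} (hp : p.Prime) (hq : q.Prime) (hpq : p ≠ q) :
    (∃ g : G, orderOf g = p * q) ↔ (∃ h : H, orderOf h = p * q) := by
  classical
  exact ⟨key hp hq hpq e he, key hp hq hpq e.symm fun x y => by simpa using (he (e.symm x) (e.symm y)).symm⟩

end Cfsg.Agent.S4084
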