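import Cfsg.Statements.S4085
import Mathlib
-- import your own Cfsg.Agent.* helpers here

set_option autoImplicit false
open Cfsg

namespace Cfsg.Agent.S4085

open Subgroup

variable {G H : Type*} [Group G] [Group H]

/-- adjacency in the power graph, reflexive version -/
def Adj (x y : G) : Prop := x ∈ zpowers y ∨ y ∈ zpowers x

theorem adj_symm {x y : G} (h : Adj x y) : Adj y x := h.symm

/-- generator of a maximal cyclic subgroup -/
def IsTop (x : G) : Prop := ∀ y : G, x ∈ zpowers y → y ∈ zpowers x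

theorem IsTop.adj_iff {x : G} (hx : IsTop x) (y : G) : Adj x y ↔ y ∈ zpowers x :=
  ⟨fun h => h.elim (hx y) id, fun h => Or.inr h⟩

variable [Finite G] [Finite H]

theorem mem_iff_dvd {w a b : G} (ha : a ∈ zpowers w) (hb : b ∈ zpowers w) :
    a ∈ zpowers b ↔ orderOf a ∣ orderOf b := by
  classical
  refine ⟨fun h => orderOf_dvd_of_mem_zpowers h, fun h => ?_⟩
  haveI := Fintype.ofFinite (zpowers w)
  set S := (Finset.univ.filter fun x : zpowers w => x ^ orderOf b = 1) with hS
  have h1 : S.card ≤ orderOf b := IsCyclic.card_pow_eq_one_le (orderOf_pos b)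
  set T := (Finset.univ.filter fun x : zpowers w => x ∈ zpowers (⟨b, hb⟩ : zpowers w)) with hT
  have h2 : T.card = orderOf b := by
    rw [← Subgroup.orderOf_mk b hb, ← Nat.card_zpowers, Nat.card_eq_fintype_card, hT,
      ← Fintype.card_subtype]
  have h3 : T ⊆ S := by
    intro x hx
    rw [hT, Finset.mem_filter] at hx
    rw [hS, Finset.mem_filter]
    refine ⟨Finset.mem_univ _, orderOf_dvd_iff_pow_eq_one.mp ?_⟩
    rw [← Subgroup.orderOf_mk b hb]
    exact orderOf_dvd_of_mem_zpowers hx.2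
  have h4 : (⟨a, ha⟩ : zpowers w) ∈ T := by
    rw [Finset.eq_of_subset_of_card_le h3 (by omega)]
    rw [hS, Finset.mem_filter]
    refine ⟨Finset.mem_univ _, Subtype.ext ?_⟩
    simpa using orderOf_dvd_iff_pow_eq_one.mp h
  rw [hT, Finset.mem_filter] at h4
  obtain ⟨i, hi⟩ := h4.2
  exact ⟨i, by simpa using congrArg Subtype.val hi⟩

theorem exists_order_in {w : G} {d : ℕ} (hd : d ∣ orderOf w) : ∃ z ∈ zpowers w, orderOf z = d := by
  refine ⟨w ^ (orderOf w / d), pow_mem (mem_zpowers w) _, ?_⟩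
  have hn := orderOf_pos w
  obtain ⟨c, hc⟩ := hd
  have hd0 : 0 < d := Nat.pos_of_ne_zero fun h => by rw [h, zero_mul] at hc; omega
  have hc0 : c ≠ 0 := fun h => by rw [h, mul_zero] at hc; omega
  rw [orderOf_pow' _ (by rw [hc, Nat.mul_div_cancel_left _ hd0]; exact hc0)]
  rw [hc, Nat.mul_div_cancel_left _ hd0, Nat.gcd_mul_left_left,
    Nat.mul_div_cancel _ (Nat.pos_of_ne_zero hc0)]

theorem exists_other_prime {m t : ℕ} (hm : 1 < m) (hpp : ¬ IsPrimePow m) (ht : t.Prime) :
    ∃ u : ℕ, u.Prime ∧ u ∣ m ∧ u ≠ t := by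
  by_contra h
  push_neg at h
  have := Nat.eq_prime_pow_of_unique_prime_dvd (show m ≠ 0 by omega) (fun {d} hd hdd => h d hd hdd)
  apply hpp
  rw [isPrimePow_nat_iff]
  refine ⟨t, _, ht, Nat.pos_of_ne_zero fun h0 => ?_, this.symm⟩
  rw [h0, pow_zero] at this
  omega

/-- every proper nontrivial element of a cyclic group of non prime power order misses an edge -/
theorem exists_not_adj {w k : G} (hk : k ∈ zpowers w) (hk1 : k ≠ 1) (hne : orderOf k ≠ orderOf w)
    (hpp : ¬ IsPrimePow (orderOf w)) :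
    ∃ z ∈ zpowers w, ¬ Adj k z ∧ IsPrimePow (orderOf z) := by
  set d := orderOf k with hd
  set m := orderOf w with hm
  have hdm : d ∣ m := orderOf_dvd_of_mem_zpowers hk
  have hd1 : d ≠ 1 := fun h => hk1 (orderOf_eq_one_iff.mp h)
  have hd0 : d ≠ 0 := (orderOf_pos k).ne'
  have hm0 : m ≠ 0 := (orderOf_pos w).ne'
  have hm1 : 1 < m := by
    rcases Nat.lt_or_ge 1 m with h | h
    · exact h
    · exfalso; exact hd1 (Nat.dvd_one.mp ((show m = 1 by omega) ▸ hdm))
  obtain ⟨t, ht, htf⟩ : ∃ t : ℕ, t.Prime ∧ d.factorization t < m.factorization t := by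
    by_contra h
    push_neg at h
    apply hne
    refine Nat.dvd_antisymm hdm ((Nat.factorization_le_iff_dvd hm0 hd0).mp ?_)
    intro t
    by_cases ht : t.Prime
    · exact h t ht
    · rw [Nat.factorization_eq_zero_of_not_prime _ ht]; exact Nat.zero_le _
  have hcomp : ∀ z ∈ zpowers w, Adj k z → (d ∣ orderOf z ∨ orderOf z ∣ d) := fun z hz h =>
    h.imp (mem_iff_dvd hk hz).mp (mem_iff_dvd hz hk).mp
  by_cases hdt : d ∣ t ^ m.factorization t
  · obtain ⟨u, hu, hum, hut⟩ := exists_other_prime hm1 hpp ht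
    obtain ⟨z, hz, hzo⟩ := exists_order_in hum
    refine ⟨z, hz, fun ha => ?_, hzo ▸ hu.isPrimePow⟩
    rcases hcomp z hz ha with h | h <;> rw [hzo] at h
    · rcases (Nat.dvd_prime hu).mp h with h1 | h1
      · exact hd1 h1
      · exact hut ((Nat.prime_dvd_prime_iff_eq hu ht).mp (hu.dvd_of_dvd_pow (h1 ▸ hdt)))
    · exact hut ((Nat.prime_dvd_prime_iff_eq hu ht).mp (hu.dvd_of_dvd_pow (h.trans hdt)))
  · obtain ⟨z, hz, hzo⟩ := exists_order_in (w := w) (Nat.ordProj_dvd m t)
    refine ⟨z, hz, fun ha => ?_, hzo ▸ ht.isPrimePow.pow (by omega)⟩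
    rcases hcomp z hz ha with h | h <;> rw [hzo] at h
    · exact hdt h
    · exact absurd ((ht.pow_dvd_iff_le_factorization hd0).mp h) (by omega)

theorem exists_top_above (x : G) : ∃ w : G, x ∈ zpowers w ∧ IsTop w := by
  haveI : Nonempty {y : G // x ∈ zpowers y} := ⟨⟨x, mem_zpowers x⟩⟩
  obtain ⟨⟨w, hw⟩, hmax⟩ := Finite.exists_max (fun y : {y : G // x ∈ zpowers y} => orderOf y.1)
  refine ⟨w, hw, fun y hy => ?_⟩
  have hle : zpowers w ≤ zpowers y := zpowers_le.mpr hy
  have h1 := hmax ⟨y, hle hw⟩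
  have := Subgroup.eq_of_le_of_card_ge hle (by rw [Nat.card_zpowers, Nat.card_zpowers]; exact h1)
  rw [this]; exact mem_zpowers y

theorem card_gens (w : G) :
    Nat.card {y : G // y ∈ zpowers w ∧ orderOf y = orderOf w} = (orderOf w).totient := by
  classical
  haveI := Fintype.ofFinite (zpowers w)
  have hc : Fintype.card (zpowers w) = orderOf w := by rw [← Nat.card_eq_fintype_card, Nat.card_zpowers]
  let eqv : {y : G // y ∈ zpowers w ∧ orderOf y = orderOf w} ≃ {y : zpowers w // orderOf y = orderOf w} :=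
    { toFun := fun y => ⟨⟨y.1, y.2.1⟩, by rw [Subgroup.orderOf_mk]; exact y.2.2⟩
      invFun := fun y => ⟨y.1.1, y.1.2, by rw [Subgroup.orderOf_coe]; exact y.2⟩
      left_inv := fun y => rfl
      right_inv := fun y => rfl }
  rw [Nat.card_congr eqv, Nat.card_eq_fintype_card, Fintype.card_subtype]
  exact IsCyclic.card_orderOf_eq_totient (dvd_of_eq hc.symm)

theorem zpowers_eq_of {w y : G} (hy : y ∈ zpowers w) (ho : orderOf y = orderOf w) : zpowers y = zpowers w :=
  Subgroup.eq_of_le_of_card_ge (zpowers_le.mpr hy) (by rw [Nat.card_zpowers, Nat.card_zpowers, ho])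

/-- a universal element other than the identity generates -/
theorem universal_gen {x : G} (hx1 : x ≠ 1) (hu : ∀ y : G, Adj x y) (hpp : ¬ IsPrimePow (Nat.card G)) :
    zpowers x = ⊤ := by
  by_contra hne
  obtain ⟨y, hy⟩ : ∃ y : G, y ∉ zpowers x := by
    by_contra h; push_neg at h; exact hne ((eq_top_iff' _).mpr h)
  have hnd : ¬ IsPrimePow (orderOf x) := by
    intro hp
    obtain ⟨r, a, hr, ha, hra⟩ := (isPrimePow_nat_iff _).mp hp
    have hone : 1 < Nat.card G := by
      haveI : Nontrivial G := ⟨⟨x, 1, hx1⟩⟩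
      exact Finite.one_lt_card
    obtain ⟨t, ht, htd, htr⟩ := exists_other_prime hone hpp hr
    haveI := Fact.mk ht
    obtain ⟨z, hz⟩ := exists_prime_orderOf_dvd_card' t htd
    have key : r ∣ orderOf x := by rw [← hra]; exact dvd_pow_self r (by omega)
    rcases hu z with h | h
    · exact htr ((Nat.prime_dvd_prime_iff_eq hr ht).mp (key.trans (hz ▸ orderOf_dvd_of_mem_zpowers h))).symm
    · have := orderOf_dvd_of_mem_zpowers h
      rw [hz, ← hra] at this
      exact htr ((Nat.prime_dvd_prime_iff_eq ht hr).mp (ht.dvd_of_dvd_pow this))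
  have hxy : x ∈ zpowers y := (hu y).resolve_right hy
  have hne' : orderOf x ≠ orderOf y := fun h => hy ((zpowers_eq_of hxy h).symm ▸ mem_zpowers y)
  obtain ⟨z, -, hz, -⟩ := exists_not_adj hxy hx1 hne' fun hh =>
    hnd (hh.dvd (orderOf_dvd_of_mem_zpowers hxy) (fun h => hx1 (orderOf_eq_one_iff.mp h)))
  exact hz (hu z)

theorem card_dvd_of_stable (K : Subgroup G) (S : Set G) (hS : ∀ y ∈ S, ∀ v ∈ K, y * v ∈ S) :
    Nat.card K ∣ Nat.card S := by
  have : S = (QuotientGroup.mk : G → G ⧸ K) ⁻¹' ((QuotientGroup.mk : G → G ⧸ K) '' S) := by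
    ext x
    refine ⟨fun hx => ⟨x, hx, rfl⟩, ?_⟩
    rintro ⟨y, hy, hxy⟩
    have := hS y hy _ (QuotientGroup.eq.mp hxy)
    rwa [mul_inv_cancel_left] at this
  rw [this, Nat.card_congr (QuotientGroup.preimageMkEquivSubgroupProdSet K _), Nat.card_prod]
  exact dvd_mul_right _ _

theorem card_adj_eq (e : G ≃ H) (he : ∀ x y, Adj x y ↔ Adj (e x) (e y)) (g : G) (h : H) (hgh : e g = h)
    (ht : IsTop h) : Nat.card {y : G // Adj g y} = orderOf h := by
  rw [← Nat.card_zpowers]
  exact Nat.card_congr (e.subtypeEquiv fun y => by rw [he, hgh, ht.adj_iff])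

/-- the class of a non-top preimage of a top element -/
theorem class_lemma (e : G ≃ H) (he : ∀ x y, Adj x y ↔ Adj (e x) (e y)) (he1 : e 1 = 1)
    (g : G) (h : H) (hgh : e g = h) (ht : IsTop h) (hm : ¬ IsPrimePow (orderOf h)) (hh1 : h ≠ 1)
    (hg : ¬ IsTop g) :
    ∃ (r s : ℕ) (u : G), r.Prime ∧ 1 ≤ s ∧ orderOf u = r ^ s ∧ r ^ s - 1 = (orderOf h).totient ∧ r ≠ 2 ∧
      ¬ r ^ 2 ∣ orderOf h ∧ (∀ z, Adj u z ↔ Adj g z) ∧
      (∀ y : G, u ∈ zpowers y → y ∉ zpowers u → orderOf (e y) ≠ orderOf h) := by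
  have hne : ∀ {y : G}, y ≠ 1 → e y ≠ 1 := fun {y} hy h0 => hy (e.injective (h0.trans he1.symm))
  have hg1 : g ≠ 1 := fun h0 => hh1 (by rw [← hgh, h0, he1])
  -- inside N g the elements adjacent to all go to generators
  have hgen : ∀ y : G, y ≠ 1 → Adj g y → (∀ z, Adj g z → Adj y z) → orderOf (e y) = orderOf h := by
    intro y hy hgy hall
    by_contra hne'
    have hmem : e y ∈ zpowers h := by rw [← ht.adj_iff, ← hgh, ← he]; exact hgy
    obtain ⟨z, hz, hnz, -⟩ := exists_not_adj hmem (hne hy) hne' hm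
    apply hnz
    have hgz : Adj g (e.symm z) := by rw [he, hgh, e.apply_symm_apply, ht.adj_iff]; exact hz
    have := (he _ _).mp (hall _ hgz)
    rwa [e.apply_symm_apply] at this
  have hsame : ∀ y : G, Adj g y → orderOf (e y) = orderOf h → ∀ z, Adj y z ↔ Adj g z := by
    intro y hgy hord z
    have hmem : e y ∈ zpowers h := by rw [← ht.adj_iff, ← hgh, ← he]; exact hgy
    have hz := zpowers_eq_of hmem hord
    have ht' : IsTop (e y) := fun w hw => by
      rw [hz]; exact ht w (zpowers_le.mpr hw (by rw [hz]; exact mem_zpowers h))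
    rw [he, he g z, hgh, ht'.adj_iff, ht.adj_iff, hz]
  -- g has prime power order
  have hd : IsPrimePow (orderOf g) := by
    by_contra hd
    have hgd : ∀ y : G, g ∈ zpowers y → y ∉ zpowers g → ¬ IsPrimePow (orderOf y) ∧ orderOf g ≠ orderOf y :=
      fun y h1 h2 => ⟨fun hh => hd (hh.dvd (orderOf_dvd_of_mem_zpowers h1)
          (fun h => hg1 (orderOf_eq_one_iff.mp h))), fun h => h2 ((zpowers_eq_of h1 h).symm ▸ mem_zpowers y)⟩
    -- colour: below g
    let Low : H → Prop := fun k => e.symm k ∈ zpowers g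
    have hcol : ∀ k k' : H, k ∈ zpowers h → k' ∈ zpowers h → ¬ Adj k k' → (Low k ↔ Low k') := by
      intro k k' hk hk' hna
      have a1 : Adj g (e.symm k) := by rw [he, hgh, e.apply_symm_apply, ht.adj_iff]; exact hk
      have a2 : Adj g (e.symm k') := by rw [he, hgh, e.apply_symm_apply, ht.adj_iff]; exact hk'
      have hna' : ¬ Adj (e.symm k) (e.symm k') := by
        rw [he, e.apply_symm_apply, e.apply_symm_apply]; exact hna
      constructor
      · intro hl
        by_contra hl'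
        exact hna' (Or.inl (zpowers_le.mpr (a2.resolve_right hl') hl))
      · intro hl'
        by_contra hl
        exact hna' (Or.inr (zpowers_le.mpr (a1.resolve_right hl) hl'))
    have hm1 : 1 < orderOf h := by
      have := orderOf_pos h
      have : orderOf h ≠ 1 := fun h0 => hh1 (orderOf_eq_one_iff.mp h0)
      omega
    -- full prime power elements all have the same colour
    set t0 := (orderOf h).minFac
    have ht0 : t0.Prime := Nat.minFac_prime (by omega)
    obtain ⟨T, hT, hTo⟩ := exists_order_in (w := h) (Nat.ordProj_dvd (orderOf h) t0)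
    have hf0 : 1 ≤ (orderOf h).factorization t0 :=
      ht0.factorization_pos_of_dvd (by omega) (Nat.minFac_dvd _)
    have hall : ∀ k ∈ zpowers h, k ≠ 1 → orderOf k ≠ orderOf h → (Low k ↔ Low T) := by
      intro k hk hk1 hkm
      have hko : orderOf k ∣ orderOf h := orderOf_dvd_of_mem_zpowers hk
      have hk0 : orderOf k ≠ 0 := (orderOf_pos k).ne'
      have hk1' : orderOf k ≠ 1 := fun h0 => hk1 (orderOf_eq_one_iff.mp h0)
      -- an incomparable prime power element
      obtain ⟨z, hz, hnz, hzp⟩ := exists_not_adj hk hk1 hkm hm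
      rw [hcol k z hk hz hnz]
      obtain ⟨t, a, htp, ha, hta⟩ := (isPrimePow_nat_iff _).mp hzp
      by_cases hzT : Adj z T
      · -- then t = t0 and another prime joins them
        have htt : t = t0 := by
          rcases hzT with h' | h' <;> have h'' := orderOf_dvd_of_mem_zpowers h' <;> rw [hTo, ← hta] at h''
          · exact (Nat.prime_dvd_prime_iff_eq htp ht0).mp (htp.dvd_of_dvd_pow ((dvd_pow_self t (by omega)).trans h''))
          · exact ((Nat.prime_dvd_prime_iff_eq ht0 htp).mp (ht0.dvd_of_dvd_pow ((dvd_pow_self t0 (by omega)).trans h''))).symm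
        obtain ⟨u, hu, hum, hut⟩ := exists_other_prime hm1 hm ht0
        obtain ⟨y, hy, hyo⟩ := exists_order_in hum
        have hny : ∀ x ∈ zpowers h, ∀ b, 0 < b → orderOf x = t0 ^ b → ¬ Adj x y := by
          intro x hx b hb hxo ha'
          rcases ha' with h' | h' <;> have h'' := orderOf_dvd_of_mem_zpowers h' <;> rw [hxo, hyo] at h''
          · exact hut ((Nat.prime_dvd_prime_iff_eq ht0 hu).mp ((dvd_pow_self t0 (by omega)).trans h'')).symm
          · exact hut ((Nat.prime_dvd_prime_iff_eq hu ht0).mp (hu.dvd_of_dvd_pow h''))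
        rw [hcol z y hz hy (hny z hz a ha (by rw [← hta, htt])), hcol T y hT hy (hny T hT _ hf0 hTo)]
      · exact hcol z T hz hT hzT
    -- a lower element
    obtain ⟨r, hr, hrd⟩ := Nat.exists_prime_and_dvd (show orderOf g ≠ 1 from fun h0 => hg1 (orderOf_eq_one_iff.mp h0))
    obtain ⟨l, hl, hlo⟩ := exists_order_in hrd
    have hl1 : l ≠ 1 := fun h0 => by rw [h0, orderOf_one] at hlo; exact hr.ne_one hlo.symm
    have hlne : orderOf l ≠ orderOf g := fun h0 => hd (h0 ▸ hlo ▸ hr.isPrimePow)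
    have hlem : e l ∈ zpowers h := by rw [← ht.adj_iff, ← hgh, ← he]; exact Or.inr hl
    have hlm : orderOf (e l) ≠ orderOf h := fun h0 => by
      obtain ⟨z, hz, hnz, -⟩ := exists_not_adj hl hl1 hlne hd
      exact hnz (((hsame l (Or.inr hl) h0) z).mpr (Or.inr hz))
    -- an upper element
    obtain ⟨y, hy1, hy2⟩ : ∃ y, g ∈ zpowers y ∧ y ∉ zpowers g := by
      by_contra hc; push_neg at hc; exact hg hc
    have hy0 : y ≠ 1 := fun h0 => hy2 (h0 ▸ one_mem _)
    have hyem : e y ∈ zpowers h := by rw [← ht.adj_iff, ← hgh, ← he]; exact Or.inl hy1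
    have hym : orderOf (e y) ≠ orderOf h := fun h0 => by
      obtain ⟨z, hz, hnz, -⟩ := exists_not_adj hy1 hg1 (hgd y hy1 hy2).2 (hgd y hy1 hy2).1
      exact hnz (((hsame y (Or.inl hy1) h0) z).mp (Or.inr hz))
    have := ((hall _ hlem (hne hl1) hlm).trans (hall _ hyem (hne hy0) hym).symm).mp
      (by show e.symm (e l) ∈ _; rw [e.symm_apply_apply]; exact hl)
    change e.symm (e y) ∈ _ at this
    rw [e.symm_apply_apply] at this
    exact hy2 this
  obtain ⟨r, a, hr, ha, hra⟩ := (isPrimePow_nat_iff _).mp hd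
  -- elements of the class have r-power order
  have hclass : ∀ y : G, (∀ z, Adj y z ↔ Adj g z) → y ≠ 1 → ∃ i, orderOf y = r ^ i := by
    intro y hy hy1
    refine ⟨(orderOf y).primeFactorsList.length, Nat.eq_prime_pow_of_unique_prime_dvd (orderOf_pos y).ne' fun {t} htp htd => ?_⟩
    by_contra htr
    obtain ⟨z, hz, hzo⟩ := exists_order_in htd
    rcases (hy z).mp (Or.inr hz) with h' | h' <;> have h'' := orderOf_dvd_of_mem_zpowers h' <;> rw [hzo, ← hra] at h''
    · exact htr ((Nat.prime_dvd_prime_iff_eq hr htp).mp ((dvd_pow_self r (by omega)).trans h'')).symm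
    · exact htr ((Nat.prime_dvd_prime_iff_eq htp hr).mp (htp.dvd_of_dvd_pow h''))
  haveI : Nonempty {y : G // y ≠ 1 ∧ ∀ z, Adj y z ↔ Adj g z} := ⟨⟨g, hg1, fun z => Iff.rfl⟩⟩
  obtain ⟨⟨u, hu1, hu⟩, humax⟩ :=
    Finite.exists_max (fun y : {y : G // y ≠ 1 ∧ ∀ z, Adj y z ↔ Adj g z} => orderOf y.1)
  obtain ⟨s, hs⟩ := hclass u hu hu1
  have hs1 : 1 ≤ s := by
    rcases Nat.eq_zero_or_pos s with h0 | h0
    · exact absurd (orderOf_eq_one_iff.mp (by rw [hs, h0, pow_zero])) hu1
    · exact h0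
  have hgu : Adj g u := adj_symm ((hu g).mpr (Or.inr (mem_zpowers g)))
  have hR : ∀ y : G, (∀ z, Adj y z ↔ Adj g z) → y ≠ 1 → y ∈ zpowers u := by
    intro y hy hy1
    rcases (hy u).mpr hgu with h' | h'
    · exact h'
    · have := humax ⟨y, hy1, hy⟩
      rw [Subgroup.eq_of_le_of_card_ge (zpowers_le.mpr h') (by rw [Nat.card_zpowers, Nat.card_zpowers]; exact this)]
      exact mem_zpowers y
  have hchain : ∀ v ∈ zpowers u, ∀ z ∈ zpowers u, Adj v z := by
    intro v hv z hz
    obtain ⟨i, -, hi⟩ := (Nat.dvd_prime_pow hr).mp (hs ▸ orderOf_dvd_of_mem_zpowers hv)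
    obtain ⟨j, -, hj⟩ := (Nat.dvd_prime_pow hr).mp (hs ▸ orderOf_dvd_of_mem_zpowers hz)
    rcases le_total i j with hij | hij
    · exact Or.inl ((mem_iff_dvd hv hz).mpr (by rw [hi, hj]; exact pow_dvd_pow r hij))
    · exact Or.inr ((mem_iff_dvd hz hv).mpr (by rw [hi, hj]; exact pow_dvd_pow r hij))
  have hv : ∀ v ∈ zpowers u, v ≠ 1 → orderOf (e v) = orderOf h := by
    intro v hv hv1
    refine hgen v hv1 ((hu v).mp (Or.inr hv)) fun z hz => ?_
    rcases (hu z).mpr hz with h' | h'
    · exact Or.inl (zpowers_le.mpr h' hv)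
    · exact hchain v hv z h'
  have hcount : Nat.card {v : G // v ∈ zpowers u ∧ v ≠ 1} = (orderOf h).totient := by
    rw [← card_gens h]
    refine Nat.card_congr (e.subtypeEquiv fun v => ⟨fun hh => ⟨?_, hv v hh.1 hh.2⟩, fun hh => ?_⟩)
    · rw [← ht.adj_iff, ← hgh, ← he]; exact (hu v).mp (Or.inr hh.1)
    · have hv1 : v ≠ 1 := fun h0 => by
        rw [h0, he1, orderOf_one] at hh; exact hh1 (orderOf_eq_one_iff.mp hh.2.symm)
      have hgv : Adj g v := by rw [he, hgh, ht.adj_iff]; exact hh.1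
      exact ⟨hR v (hsame v hgv hh.2) hv1, hv1⟩
  have hcount2 : Nat.card {v : G // v ∈ zpowers u ∧ v ≠ 1} = r ^ s - 1 := by
    have h1 : Nat.card {v : G // v ∈ zpowers u ∧ v ≠ 1} = ((zpowers u : Set G) \ {1}).ncard := by
      rw [← Nat.card_coe_set_eq]; exact Nat.card_congr (Equiv.subtypeEquivRight fun v => by simp)
    rw [h1, Set.ncard_sdiff_singleton_of_mem (one_mem (zpowers u)), ← Nat.card_coe_set_eq,
      SetLike.coe_sort_coe, Nat.card_zpowers, hs]
  have heq : r ^ s - 1 = (orderOf h).totient := hcount2.symm.trans hcount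
  have hpos : 1 ≤ r ^ s := Nat.one_le_pow _ _ hr.pos
  have hm2 : 2 < orderOf h := by
    have h0 := orderOf_pos h
    have h1 : orderOf h ≠ 1 := fun h0 => hh1 (orderOf_eq_one_iff.mp h0)
    have h2 : orderOf h ≠ 2 := fun h0 => hm (h0 ▸ Nat.prime_two.isPrimePow)
    omega
  refine ⟨r, s, u, hr, hs1, hs, heq, ?_, ?_, hu, ?_⟩
  · intro h2
    have he2 := Nat.totient_even hm2
    rw [← heq] at he2
    subst h2
    obtain ⟨k, hk⟩ := he2
    obtain ⟨s', rfl⟩ : ∃ s', s = s' + 1 := ⟨s - 1, by omega⟩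
    rw [pow_succ] at hk
    have := Nat.one_le_pow s' 2 (by norm_num)
    omega
  · intro h2
    have h3 := Nat.totient_dvd_of_dvd h2
    rw [Nat.totient_prime_pow hr (by norm_num), ← heq] at h3
    have h4 : r ∣ r ^ s - 1 := (by simp : r ∣ r ^ (2 - 1) * (r - 1)).trans h3
    have h5 := Nat.dvd_sub (dvd_pow_self r (show s ≠ 0 by omega)) h4
    rw [Nat.sub_sub_self hpos] at h5
    exact hr.ne_one (Nat.dvd_one.mp h5)
  · intro y hy1 hy2 hord
    have hy0 : y ≠ 1 := fun h0 => hy2 (h0 ▸ one_mem _)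
    exact hy2 (hR y (hsame y ((hu y).mp (Or.inl hy1)) hord) hy0)

/-- a preimage of a top element of non prime power order is a top element -/
theorem top_of_top (e : G ≃ H) (he : ∀ x y, Adj x y ↔ Adj (e x) (e y)) (he1 : e 1 = 1)
    (g : G) (h : H) (hgh : e g = h) (ht : IsTop h) (hm : ¬ IsPrimePow (orderOf h)) (hh1 : h ≠ 1) :
    IsTop g := by
  classical
  by_contra hg
  obtain ⟨r, s, u, hr, hs1, hs, heq, hr2, hrsq, hu, hupp⟩ := class_lemma e he he1 g h hgh ht hm hh1 hg
  set m := orderOf h with hmdef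
  have hr3 : 3 ≤ r := by have := hr.two_le; omega
  set Up : Set G := {y | u ∈ zpowers y ∧ y ∉ zpowers u} with hUp
  have hsplit : m = r ^ s + Nat.card Up := by
    rw [hmdef, ← card_adj_eq e he g h hgh ht, ← hs, ← Nat.card_zpowers]
    rw [← Nat.card_sum]
    refine Nat.card_congr (Equiv.trans (Equiv.subtypeEquivRight (q := fun y => y ∈ zpowers u ∨ y ∈ Up) fun y => ?_) ?_)
    · rw [← hu]
      constructor
      · rintro (h' | h')
        · by_cases hy : y ∈ zpowers u
          · exact Or.inl hy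
          · exact Or.inr ⟨h', hy⟩
        · exact Or.inl h'
      · rintro (h' | h')
        · exact Or.inr h'
        · exact Or.inl h'.1
    · exact Equiv.Set.union (s := (zpowers u : Set G)) (t := Up)
        (Set.disjoint_left.mpr fun y h1 h2 => h2.2 h1)
  have hUpne : Up.Nonempty := by
    by_contra hne
    rw [Set.not_nonempty_iff_eq_empty] at hne
    rw [hne] at hsplit
    simp at hsplit
    exact hm ((isPrimePow_nat_iff _).mpr ⟨r, s, hr, hs1, hsplit.symm⟩)
  -- generators of an upper element are upper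
  have hgens : ∀ y ∈ Up, {z : G | z ∈ zpowers y ∧ orderOf z = orderOf y} ⊆ Up := by
    rintro y ⟨h1, h2⟩ z ⟨hz, hzo⟩
    have := zpowers_eq_of hz hzo
    exact ⟨this.symm ▸ h1, fun hh => h2 (zpowers_le.mpr hh (this.symm ▸ mem_zpowers y))⟩
  have hgcard : ∀ y : G, {z : G | z ∈ zpowers y ∧ orderOf z = orderOf y}.ncard = (orderOf y).totient :=
    fun y => by rw [← Nat.card_coe_set_eq]; exact card_gens y
  have hUpdvd : ∀ y ∈ Up, r ^ s ∣ orderOf y ∧ orderOf y ≠ r ^ s := by
    rintro y ⟨h1, h2⟩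
    exact ⟨hs ▸ orderOf_dvd_of_mem_zpowers h1,
      fun h0 => h2 ((zpowers_eq_of h1 (hs.trans h0.symm)).symm ▸ mem_zpowers y)⟩
  have two_r : ∀ n : ℕ, r ∣ n → n.totient = r - 1 → ¬ r ^ 2 ∣ n → ¬ IsPrimePow n → n = 2 * r := by
    intro n hn htot hsq hnp
    obtain ⟨n', rfl⟩ := hn
    have hcop : Nat.Coprime r n' := (hr.coprime_iff_not_dvd).mpr fun hd =>
      hsq (by rw [pow_two]; exact mul_dvd_mul_left r hd)
    rw [Nat.totient_mul hcop, Nat.totient_prime hr] at htot
    have hn' : n'.totient = 1 := by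
      have h0 : (r - 1) * n'.totient = (r - 1) * 1 := by omega
      exact Nat.eq_of_mul_eq_mul_left (by omega) h0
    rcases Nat.totient_eq_one_iff.mp hn' with h' | h'
    · rw [h', mul_one] at hnp; exact absurd hr.isPrimePow hnp
    · rw [h', mul_comm]
  by_cases hnpp : ∃ y ∈ Up, ¬ IsPrimePow (orderOf y)
  · obtain ⟨y, hy, hyp⟩ := hnpp
    obtain ⟨w, hw, hwt⟩ := exists_top_above y
    have hwU : w ∈ Up := ⟨zpowers_le.mpr hw hy.1, fun hh => hyp (by
      have hd := (orderOf_dvd_of_mem_zpowers hw).trans (orderOf_dvd_of_mem_zpowers hh)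
      rw [hs] at hd
      have hp : IsPrimePow (r ^ s) := hr.isPrimePow.pow (by omega)
      exact hp.dvd hd fun h1 => hy.2 ((orderOf_eq_one_iff.mp h1) ▸ one_mem _))⟩
    have hwp : ¬ IsPrimePow (orderOf w) := fun hh => hyp (hh.dvd (orderOf_dvd_of_mem_zpowers hw)
      fun h1 => hy.2 ((orderOf_eq_one_iff.mp h1) ▸ one_mem _))
    have hw1 : w ≠ 1 := fun h0 => hwU.2 (h0 ▸ one_mem _)
    set k := e w with hk
    have hkh : k ∈ zpowers h := by rw [hk, ← ht.adj_iff, ← hgh, ← he]; exact (hu w).mp (Or.inl hwU.1)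
    have hktop : ¬ IsTop k := fun hkt => hupp w hwU.1 hwU.2
      (Nat.dvd_antisymm (orderOf_dvd_of_mem_zpowers hkh) (orderOf_dvd_of_mem_zpowers (hkt h hkh)))
    have he' : ∀ x y, Adj x y ↔ Adj (e.symm x) (e.symm y) := fun x y => by
      rw [he (e.symm x), e.apply_symm_apply, e.apply_symm_apply]
    obtain ⟨t, s', v, htp, hs', hv, heq', ht2, htsq, hvk, -⟩ :=
      class_lemma e.symm he' (e.symm_apply_eq.mpr he1.symm) k w (by simp [hk]) hwt hwp hw1 hktop
    have hvm : t ^ s' ∣ m := by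
      rw [← hv]
      apply orderOf_dvd_of_mem_zpowers
      rw [← ht.adj_iff]
      exact adj_symm ((hvk h).mpr (Or.inl hkh))
    set c := orderOf w with hc
    have hrc : r ^ s ∣ c := (hUpdvd w hwU).1
    by_cases hrt : r = t
    · subst hrt
      have es : s = 1 := by
        by_contra hne
        exact htsq ((pow_dvd_pow r (show 2 ≤ s by omega)).trans hrc)
      have es' : s' = 1 := by
        by_contra hne
        exact hrsq ((pow_dvd_pow r (show 2 ≤ s' by omega)).trans hvm)
      subst es es'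
      rw [pow_one] at heq heq' hvm hrc hs hsplit
      have em := two_r m hvm heq.symm hrsq hm
      have ec := two_r c hrc heq'.symm htsq hwp
      have hsub := hgens w hwU
      have hlt : {z : G | z ∈ zpowers w ∧ orderOf z = c}.ncard < Up.ncard := by
        rw [hgcard, ← hc, ec, ← Nat.card_coe_set_eq]
        rw [Nat.totient_mul ((Nat.coprime_primes Nat.prime_two hr).mpr (Ne.symm hr2)), Nat.totient_two, one_mul, Nat.totient_prime hr]
        omega
      obtain ⟨y', hy', hy'n⟩ := Set.exists_mem_notMem_of_ncard_lt_ncard hlt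
      have hdis : Disjoint {z : G | z ∈ zpowers w ∧ orderOf z = c} {z : G | z ∈ zpowers y' ∧ orderOf z = orderOf y'} := by
        rw [Set.disjoint_left]
        rintro z ⟨hz1, hz2⟩ ⟨hz3, hz4⟩
        apply hy'n
        have e1 := zpowers_eq_of hz1 hz2
        have e2 := zpowers_eq_of hz3 hz4
        refine ⟨?_, by rw [← hz4, hz2]⟩
        rw [← e1, e2]; exact mem_zpowers y'
      have h1 := Set.ncard_union_eq hdis
      have h2 := Set.ncard_le_ncard (Set.union_subset hsub (hgens y' hy')) (Set.toFinite _)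
      rw [h1, hgcard, hgcard, ← hc, ec, Nat.totient_mul ((Nat.coprime_primes Nat.prime_two hr).mpr (Ne.symm hr2)),
        Nat.totient_two, one_mul, Nat.totient_prime hr, ← Nat.card_coe_set_eq] at h2
      have hd := Nat.totient_dvd_of_dvd (hUpdvd y' hy').1
      rw [pow_one, Nat.totient_prime hr] at hd
      have hle := Nat.le_of_dvd (Nat.totient_pos.mpr (orderOf_pos y')) hd
      omega
    · have ht3 : 3 ≤ t := by have := htp.two_le; omega
      obtain ⟨A, hA⟩ := Nat.totient_dvd_of_dvd hvm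
      obtain ⟨B, hB⟩ := Nat.totient_dvd_of_dvd hrc
      obtain ⟨s0, rfl⟩ : ∃ s0, s = s0 + 1 := ⟨s - 1, by omega⟩
      obtain ⟨s0', rfl⟩ : ∃ s0', s' = s0' + 1 := ⟨s' - 1, by omega⟩
      rw [← heq, Nat.totient_prime_pow_succ htp] at hA
      rw [← heq', Nat.totient_prime_pow_succ hr] at hB
      rw [pow_succ] at hA hB
      set R := r ^ s0
      set T := t ^ s0'
      have hR1 : 1 ≤ R := Nat.one_le_pow _ _ hr.pos
      have hT1 : 1 ≤ T := Nat.one_le_pow _ _ htp.pos
      have p1 : 1 ≤ R * r := Nat.one_le_iff_ne_zero.mpr (Nat.mul_ne_zero (by omega) (by omega))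
      have p2 : 1 ≤ T * t := Nat.one_le_iff_ne_zero.mpr (Nat.mul_ne_zero (by omega) (by omega))
      have q1 : 3 ≤ R * r := le_trans (by omega) (Nat.mul_le_mul hR1 hr3)
      have q2 : 3 ≤ T * t := le_trans (by omega) (Nat.mul_le_mul hT1 ht3)
      have hA1 : 1 ≤ A := Nat.one_le_iff_ne_zero.mpr fun h0 => by
        rw [h0, mul_zero] at hA; omega
      have hB1 : 1 ≤ B := Nat.one_le_iff_ne_zero.mpr fun h0 => by
        rw [h0, mul_zero] at hB; omega
      have hA' : R * r = T * (t - 1) * A + 1 := by omega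
      have hB' : T * t = R * (r - 1) * B + 1 := by omega
      obtain ⟨a, rfl⟩ : ∃ a, r = a + 1 := ⟨r - 1, by omega⟩
      obtain ⟨b, rfl⟩ : ∃ b, t = b + 1 := ⟨t - 1, by omega⟩
      simp only [Nat.add_sub_cancel] at hA' hB'
      have hAB : A * B = 1 := by
        by_contra hne
        have h2 : 2 ≤ A * B := by
          have h1 : 1 ≤ A * B := Nat.one_le_iff_ne_zero.mpr (Nat.mul_ne_zero (by omega) (by omega))
          omega
        have hprod : (T * b * A + 1) * (R * a * B + 1) = (R * T) * ((a + 1) * (b + 1)) := by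
          rw [← hA', ← hB']; ring
        have hab : (a + 1) * (b + 1) ≤ 2 * (a * b) := by
          have a2 : 2 ≤ a := by omega
          have b2 : 2 ≤ b := by omega
          rcases lt_or_gt_of_ne hrt with hl | hl
          · have b3 : 3 ≤ b := by omega
            nlinarith [Nat.mul_le_mul a2 b3]
          · have a3 : 3 ≤ a := by omega
            nlinarith [Nat.mul_le_mul a3 b2]
        have : (T * b * A) * (R * a * B) < (R * T) * ((a + 1) * (b + 1)) := by rw [← hprod]; nlinarith
        have h3 : (R * T) * (2 * (a * b)) ≤ (R * T) * ((A * B) * (a * b)) :=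
          Nat.mul_le_mul_left _ (Nat.mul_le_mul_right _ h2)
        have h4 : (R * T) * ((a + 1) * (b + 1)) ≤ (R * T) * (2 * (a * b)) := Nat.mul_le_mul_left _ hab
        nlinarith
      obtain ⟨rfl, rfl⟩ : A = 1 ∧ B = 1 :=
        ⟨Nat.eq_one_of_mul_eq_one_right hAB, Nat.eq_one_of_mul_eq_one_left hAB⟩
      simp only [mul_one] at hA' hB'
      have hR0 : R = 1 := by nlinarith
      have hT0 : T = 1 := by nlinarith
      rw [hR0, hT0, one_mul, one_mul] at hA'
      exact hrt (by omega)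
  · push_neg at hnpp
    have hrpow : ∀ y ∈ Up, ∃ j, s < j ∧ orderOf y = r ^ j := by
      intro y hy
      obtain ⟨t, j, htp, hj, htj⟩ := (isPrimePow_nat_iff _).mp (hnpp y hy)
      obtain ⟨h1, h2⟩ := hUpdvd y hy
      rw [← htj] at h1 h2
      have : r = t := (Nat.prime_dvd_prime_iff_eq hr htp).mp
        (hr.dvd_of_dvd_pow ((dvd_pow_self r (by omega)).trans h1))
      subst this
      refine ⟨j, lt_of_le_of_ne ((Nat.pow_dvd_pow_iff_le_right hr.one_lt).mp h1) (fun h0 => h2 (by rw [h0])), htj.symm⟩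
    have hdvd : r ^ s ∣ Nat.card Up := by
      rw [← hs, ← Nat.card_zpowers]
      refine card_dvd_of_stable _ _ ?_
      rintro y hy v hv
      obtain ⟨j, hj, hjo⟩ := hrpow y hy
      have hvy : y * v ∈ zpowers y := mul_mem (mem_zpowers y) (zpowers_le.mpr hy.1 hv)
      have hnot : y * v ∉ zpowers u := fun hh => hy.2 (by
        have := mul_mem hh (inv_mem hv); rwa [mul_inv_cancel_right] at this)
      refine ⟨?_, hnot⟩
      obtain ⟨i, -, hi⟩ := (Nat.dvd_prime_pow hr).mp (hjo ▸ orderOf_dvd_of_mem_zpowers hvy)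
      rcases le_total s i with hsi | hsi
      · exact (mem_iff_dvd hy.1 hvy).mpr (by rw [hs, hi]; exact pow_dvd_pow r hsi)
      · exact absurd ((mem_iff_dvd hvy hy.1).mpr (by rw [hs, hi]; exact pow_dvd_pow r hsi)) hnot
    have hrsm : r ^ s ∣ m := by rw [hsplit]; exact dvd_add dvd_rfl hdvd
    have es : s = 1 := by
      by_contra hne
      exact hrsq ((pow_dvd_pow r (show 2 ≤ s by omega)).trans hrsm)
    subst es
    rw [pow_one] at heq hrsm hsplit
    have em := two_r m hrsm heq.symm hrsq hm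
    obtain ⟨y, hy⟩ := hUpne
    obtain ⟨j, hj, hjo⟩ := hrpow y hy
    have h2 := Set.ncard_le_ncard (hgens y hy) (Set.toFinite _)
    rw [hgcard, hjo, Nat.totient_prime_pow hr (by omega), ← Nat.card_coe_set_eq] at h2
    have h3 : r ≤ r ^ (j - 1) := Nat.le_self_pow (by omega) r
    have h4 : r * 2 ≤ r ^ (j - 1) * (r - 1) := Nat.mul_le_mul h3 (by omega)
    omega

theorem not_ppow {n p q : ℕ} (hp : p.Prime) (hq : q.Prime) (hpq : p ≠ q) (h : p * q ∣ n) : ¬ IsPrimePow n := by
  intro hn
  obtain ⟨r, k, hr, hk, hrk⟩ := (isPrimePow_nat_iff _).mp hn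
  subst hrk
  exact hpq (((Nat.prime_dvd_prime_iff_eq hp hr).mp (hp.dvd_of_dvd_pow ((dvd_mul_right p q).trans h))).trans
    ((Nat.prime_dvd_prime_iff_eq hq hr).mp (hq.dvd_of_dvd_pow ((dvd_mul_left q p).trans h))).symm)

theorem main (e : G ≃ H) (he : ∀ x y, Adj x y ↔ Adj (e x) (e y)) {p q : ℕ} (hp : p.Prime) (hq : q.Prime)
    (hpq : p ≠ q) (hH : ∃ h : H, orderOf h = p * q) : ∃ g : G, orderOf g = p * q := by
  obtain ⟨h0, hh0⟩ := hH
  have hdvd : p * q ∣ Nat.card G := by
    rw [Nat.card_congr e, ← hh0]; exact orderOf_dvd_natCard h0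
  have hppG : ¬ IsPrimePow (Nat.card G) := not_ppow hp hq hpq hdvd
  suffices hs : ∃ g : G, p * q ∣ orderOf g by
    obtain ⟨g, hg⟩ := hs
    obtain ⟨z, -, hz⟩ := exists_order_in hg
    exact ⟨z, hz⟩
  by_cases hcyc : ∃ g : G, zpowers g = ⊤
  · obtain ⟨g, hg⟩ := hcyc
    refine ⟨g, ?_⟩
    rw [← Nat.card_zpowers, hg, Subgroup.card_top]; exact hdvd
  push_neg at hcyc
  have huniv : ∀ x : G, (∀ y, Adj x y) → x = 1 := fun x hx => by
    by_contra hx1; exact hcyc x (universal_gen hx1 hx hppG)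
  have he1 : e 1 = 1 := by
    have : e.symm 1 = 1 := huniv _ fun y => by
      rw [he, e.apply_symm_apply]; exact Or.inl (one_mem _)
    conv_lhs => rw [← this, e.apply_symm_apply]
  obtain ⟨h, hh, ht⟩ := exists_top_above h0
  have hd : p * q ∣ orderOf h := hh0 ▸ orderOf_dvd_of_mem_zpowers hh
  have hh1 : h ≠ 1 := fun h1 => by
    rw [h1, orderOf_one] at hd
    exact hp.ne_one (Nat.eq_one_of_mul_eq_one_right (Nat.dvd_one.mp hd))
  have hg := top_of_top e he he1 (e.symm h) h (e.apply_symm_apply h) ht (not_ppow hp hq hpq hd) hh1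
  refine ⟨e.symm h, ?_⟩
  have hcard := card_adj_eq e he (e.symm h) h (e.apply_symm_apply h) ht
  rw [← hcard] at hd
  rwa [Nat.card_congr (Equiv.subtypeEquivRight hg.adj_iff), Nat.card_zpowers] at hd

/-- Let G and H be finite groups whose power graphs are isomorphic: there is a bijection e : G → H such that, for all x, y, one of x, y is a power of the other exactly when one of e(x), e(y) is a power of the other. Then G and H have the same prime graph: for distinct primes p, q, G has an element of order pq if and only if H does. -/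
theorem result {G H : Type*} [Group G] [Finite G] [Group H] [Finite H] (e : G ≃ H)
    (he : ∀ x y : G, (x ∈ Subgroup.zpowers y ∨ y ∈ Subgroup.zpowers x) ↔
      (e x ∈ Subgroup.zpowers (e y) ∨ e y ∈ Subgroup.zpowers (e x)))
    {p q : ℕ} (hp : p.Prime) (hq : q.Prime) (hpq : p ≠ q) :
    (∃ g : G, orderOf g = p * q) ↔ (∃ h : H, orderOf h = p * q) := by

  constructor
  · exact fun hh => main e.symm (fun x y => by
      have := (he (e.symm x) (e.symm y)).symm; simpa [Adj] using this) hp hq hpq hh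
  · exact fun hh => main e (fun x y => he x y) hp hq hpq hh

end Cfsg.Agent.S4085
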