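import Cfsg.Statements.S4086
-- import your own Cfsg.Agent.* helpers here

set_option autoImplicit false
open Cfsg

namespace Cfsg.Agent.S4086

/-- For a finite group G the following are equivalent: every non-identity element has prime-power order; whenever two elements generate a cyclic subgroup, one of them is a power of the other (the enhanced power graph of G coincides with its power graph). -/
theorem result {G : Type*} [Group G] [Finite G] :
    (∀ g : G, g ≠ 1 → IsPrimePow (orderOf g)) ↔
    (∀ x y : G, IsCyclic ↥(Subgroup.closure ({x, y} : Set G)) → (x ∈ Subgroup.zpowers y ∨ y ∈ Subgroup.zpowers x)) := by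
  classical
  constructor
  · intro h x y hc
    set C := Subgroup.closure ({x, y} : Set G) with hC
    obtain ⟨g, hg⟩ := IsCyclic.exists_generator (α := C)
    have hxC : x ∈ C := Subgroup.subset_closure (by simp)
    have hyC : y ∈ C := Subgroup.subset_closure (by simp)
    obtain ⟨p, hp, hpow⟩ : ∃ p : ℕ, p.Prime ∧ ∀ z ∈ C, ∃ i, orderOf z = p ^ i := by
      have hdvd : ∀ z ∈ C, orderOf z ∣ orderOf (g : G) := by
        intro z hz
        obtain ⟨i, hi⟩ := Subgroup.mem_zpowers_iff.mp (hg ⟨z, hz⟩)
        refine orderOf_dvd_of_pow_eq_one ?_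
        have hi' : z = (g : G) ^ i := (congrArg Subtype.val hi).symm
        rw [hi', ← zpow_natCast, ← zpow_mul, mul_comm, zpow_mul, zpow_natCast, pow_orderOf_eq_one,
          one_zpow]
      by_cases hg1 : (g : G) = 1
      · refine ⟨2, Nat.prime_two, fun z hz => ⟨0, ?_⟩⟩
        simpa [hg1] using hdvd z hz
      obtain ⟨p, k, hp, -, hpk⟩ := (isPrimePow_nat_iff _).mp (h g hg1)
      refine ⟨p, hp, fun z hz => ?_⟩
      obtain ⟨i, -, hi⟩ := (Nat.dvd_prime_pow hp).mp (hpk ▸ hdvd z hz)
      exact ⟨i, hi⟩
    have key : ∀ a b, a ∈ C → b ∈ C → orderOf a ∣ orderOf b → a ∈ Subgroup.zpowers b := by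
      intro a b ha hb hd
      have hn : 0 < orderOf b := orderOf_pos b
      haveI := Fintype.ofFinite C
      have hle := IsCyclic.card_pow_eq_one_le (α := C) hn
      have hsub : ((Subgroup.zpowers (⟨b, hb⟩ : C)) : Set C).toFinset =
          Finset.univ.filter (fun z : C => z ^ orderOf b = 1) := by
        refine Finset.eq_of_subset_of_card_le ?_ (hle.trans ?_)
        · intro z hz
          rw [Set.mem_toFinset] at hz
          obtain ⟨i, rfl⟩ := Subgroup.mem_zpowers_iff.mp hz
          rw [Finset.mem_filter]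
          refine ⟨Finset.mem_univ _, ?_⟩
          rw [← Subgroup.orderOf_mk b hb, ← zpow_natCast, ← zpow_mul, mul_comm, zpow_mul,
            zpow_natCast, pow_orderOf_eq_one, one_zpow]
        · rw [← Set.ncard_eq_toFinset_card', ← Nat.card_coe_set_eq]
          refine le_of_eq (Eq.trans ?_ (Nat.card_zpowers (⟨b, hb⟩ : C)).symm)
          rw [Subgroup.orderOf_mk]
      have hmem : (⟨a, ha⟩ : C) ∈ ((Subgroup.zpowers (⟨b, hb⟩ : C)) : Set C).toFinset := by
        rw [hsub, Finset.mem_filter]
        exact ⟨Finset.mem_univ _, Subtype.ext (orderOf_dvd_iff_pow_eq_one.mp hd)⟩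
      rw [Set.mem_toFinset] at hmem
      obtain ⟨i, hi⟩ := Subgroup.mem_zpowers_iff.mp hmem
      exact Subgroup.mem_zpowers_iff.mpr ⟨i, congrArg Subtype.val hi⟩
    obtain ⟨i, hi⟩ := hpow x hxC
    obtain ⟨j, hj⟩ := hpow y hyC
    rcases le_total i j with hij | hij
    · exact Or.inl (key x y hxC hyC (by rw [hi, hj]; exact pow_dvd_pow p hij))
    · exact Or.inr (key y x hyC hxC (by rw [hi, hj]; exact pow_dvd_pow p hij))
  · intro h g hg
    by_contra hnp
    have ho : orderOf g ≠ 1 := fun h1 => hg (orderOf_eq_one_iff.mp h1)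
    obtain ⟨p, hp, hpd⟩ := Nat.exists_prime_and_dvd ho
    obtain ⟨q, hq, hqd, hqp⟩ : ∃ q, q.Prime ∧ q ∣ orderOf g ∧ q ≠ p := by
      by_contra hcon
      push Not at hcon
      refine hnp ((isPrimePow_nat_iff _).mpr ⟨p, (orderOf g).factorization p, hp,
        hp.factorization_pos_of_dvd (orderOf_pos g).ne' hpd, ?_⟩)
      exact (Nat.eq_prime_pow_of_unique_prime_dvd (orderOf_pos g).ne' fun {d} hd hdd => hcon d hd hdd) ▸
        by rw [Nat.factorization_pow, Finsupp.smul_apply, hp.factorization_self, smul_eq_mul, mul_one]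
    set x := g ^ (orderOf g / p) with hx
    set y := g ^ (orderOf g / q) with hy
    have hxo : orderOf x = p := orderOf_pow_orderOf_div (orderOf_pos g).ne' hpd
    have hyo : orderOf y = q := orderOf_pow_orderOf_div (orderOf_pos g).ne' hqd
    have hle : Subgroup.closure ({x, y} : Set G) ≤ Subgroup.zpowers g := by
      rw [Subgroup.closure_le]
      intro z hz
      rcases hz with rfl | rfl
      · exact Subgroup.pow_mem _ (Subgroup.mem_zpowers g) _
      · exact Subgroup.pow_mem _ (Subgroup.mem_zpowers g) _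
    have hcyc : IsCyclic ↥(Subgroup.closure ({x, y} : Set G)) :=
      isCyclic_of_injective (Subgroup.inclusion hle) (Subgroup.inclusion_injective hle)
    rcases h x y hcyc with h1 | h1
    · have := orderOf_dvd_of_mem_zpowers h1
      rw [hxo, hyo] at this
      exact hqp ((Nat.prime_dvd_prime_iff_eq hp hq).mp this).symm
    · have := orderOf_dvd_of_mem_zpowers h1
      rw [hxo, hyo] at this
      exact hqp ((Nat.prime_dvd_prime_iff_eq hq hp).mp this)

end Cfsg.Agent.S4086
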