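import Cfsg.Statements.S4089
import Cfsg.Agent.Lib.Basics.Cores
import Cfsg.Agent.Lib.Components.Subnormal
import Cfsg.Agent.Lib.OddLocal.FitFacts
import Cfsg.Agent.Lib.OddLocal.HighLow
-- import your own Cfsg.Agent.* helpers here

set_option autoImplicit false
open Cfsg
open scoped Pointwise

namespace Cfsg.Agent.S4089

/-- Let G be a finite group, p a prime and H a p-subgroup of G. Then the set of elements g of G such that H is subnormal in the subgroup generated by H and g is the union of the normalizers N_G(R) over the subgroups R of G containing H with R = O_p(N_G(R)); and this set does not change when H is replaced by the intersection of all Sylow p-subgroups of G containing H. -/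
theorem result {G : Type*} [Group G] [Finite G] (p : ℕ) [Fact p.Prime]
    (H : Subgroup G) (hH : IsPGroup p H) :
    {g : G | ((H).subgroupOf (H ⊔ Subgroup.zpowers g)).IsSubnormal} =
      {g : G | ∃ R : Subgroup G, H ≤ R ∧ (Cfsg.pCore p (Subgroup.normalizer (R : Set G))).map (Subgroup.normalizer (R : Set G)).subtype = R ∧ g ∈ Subgroup.normalizer (R : Set G)} ∧
    ∀ g : G, (((H).subgroupOf (H ⊔ Subgroup.zpowers g)).IsSubnormal ↔
      (((sInf {K : Subgroup G | ∃ Q : Sylow p G, H ≤ (Q : Subgroup G) ∧ K = (Q : Subgroup G)})).subgroupOf ((sInf {K : Subgroup G | ∃ Q : Sylow p G, H ≤ (Q : Subgroup G) ∧ K = (Q : Subgroup G)}) ⊔ Subgroup.zpowers g)).IsSubnormal) := by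
  classical
  have hsn : ∀ (A M : Subgroup G), A ≤ M → IsPGroup p M → (A.subgroupOf M).IsSubnormal := by
    intro A M _ hM
    haveI : Group.IsNilpotent M := hM.isNilpotent
    exact OddLocal.isSubnormal_of_isNilpotent _
  have hsub : ∀ (n : ℕ) (X : Subgroup G), Nat.card X = n → ∀ A : Subgroup G, A ≤ X → IsPGroup p A →
      (A.subgroupOf X).IsSubnormal → A ≤ (Cfsg.pCore p X).map X.subtype := by
    intro n
    induction n using Nat.strong_induction_on with
    | _ n ih =>
    intro X hn A hAX hA hAsn a ha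
    rcases eq_or_ne (A.subgroupOf X) ⊤ with htop | hne
    · have hXA : X ≤ A := Subgroup.subgroupOf_eq_top.mp htop
      have hX : IsPGroup p X := hA.to_le hXA
      exact ⟨⟨a, hAX ha⟩, Basics.le_pCore (N := (⊤ : Subgroup X)) (hX.to_subgroup ⊤) trivial, rfl⟩
    obtain ⟨K, hKn, hAK, hK⟩ := hAsn.exists_normal_and_le_and_lt_top_of_ne hne
    haveI := hKn
    set K' := K.map X.subtype with hK'
    have hK'X : K' ≤ X := Subgroup.map_subtype_le K
    have hlt : Nat.card K' < n := by
      rw [hK', Subgroup.card_map_of_injective X.subtype_injective, ← hn]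
      exact Components.card_lt_of_ne_top hK.ne
    have hAK' : A ≤ K' := fun u hu => ⟨⟨u, hAX hu⟩, hAK hu, rfl⟩
    have hsn' : (A.subgroupOf K').IsSubnormal :=
      hAsn.comap (Subgroup.inclusion hK'X)
    have h1 := ih _ hlt K' rfl A hAK' hA hsn' ha
    set Q := ((Cfsg.pCore p K').map K'.subtype).subgroupOf X with hQ
    have hQX : (Cfsg.pCore p K').map K'.subtype ≤ X := (Subgroup.map_subtype_le _).trans hK'X
    have hQp : IsPGroup p Q := ((Basics.pCore_isPGroup p).map _).comap_subtype
    haveI : Q.Normal := by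
      refine (Subgroup.normal_subgroupOf_iff_le_normalizer hQX).mpr ?_
      refine le_trans ?_ (OddLocal.normalizer_le_normalizer_map_characteristic (Cfsg.pCore p K'))
      exact (Subgroup.normal_subgroupOf_iff_le_normalizer hK'X).mp
        (by rwa [hK', Subgroup.subgroupOf, Subgroup.comap_map_eq_self_of_injective X.subtype_injective])
    exact ⟨⟨a, hAX ha⟩, Basics.le_pCore hQp (show (⟨a, hAX ha⟩ : X) ∈ Q from h1), rfl⟩
  have hnorm : ∀ R : Subgroup G,
      Subgroup.normalizer (R : Set G) ≤ Subgroup.normalizer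
        (((Cfsg.pCore p (Subgroup.normalizer (R : Set G))).map (Subgroup.normalizer (R : Set G)).subtype : Subgroup G) : Set G) :=
    fun R => le_trans Subgroup.le_normalizer (OddLocal.normalizer_le_normalizer_map_characteristic _)
  have hgrow : ∀ R : Subgroup G, IsPGroup p R →
      R ≤ (Cfsg.pCore p (Subgroup.normalizer (R : Set G))).map (Subgroup.normalizer (R : Set G)).subtype := by
    intro R hR r hr
    haveI : (R.subgroupOf (Subgroup.normalizer (R : Set G))).Normal := Subgroup.normal_in_normalizer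
    exact ⟨⟨r, Subgroup.le_normalizer hr⟩, Basics.le_pCore (N := R.subgroupOf _) hR.comap_subtype hr, rfl⟩
  set Good : Subgroup G → G → Prop := fun A g => ∃ R : Subgroup G, A ≤ R ∧
    (Cfsg.pCore p (Subgroup.normalizer (R : Set G))).map (Subgroup.normalizer (R : Set G)).subtype = R ∧
    g ∈ Subgroup.normalizer (R : Set G) with hGood
  have hfwd : ∀ A : Subgroup G, IsPGroup p A → ∀ g : G,
      ((A.subgroupOf (A ⊔ Subgroup.zpowers g)).IsSubnormal ↔ Good A g) := by
    intro A hA g
    constructor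
    · intro h
      set X := A ⊔ Subgroup.zpowers g with hX
      set Q0 := (Cfsg.pCore p X).map X.subtype with hQ0
      obtain ⟨R, hQR, ⟨hRp, hgR⟩, hmax⟩ := Finite.exists_le_maximal
        (p := fun R : Subgroup G => IsPGroup p R ∧ g ∈ Subgroup.normalizer (R : Set G)) (a := Q0)
        ⟨(Basics.pCore_isPGroup p).map _, OddLocal.normalizer_le_normalizer_map_characteristic (Cfsg.pCore p X)
          (Subgroup.le_normalizer (Subgroup.mem_sup_right (Subgroup.mem_zpowers g)))⟩
      refine ⟨R, (hsub _ X rfl A le_sup_left hA h).trans hQR, ?_, hgR⟩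
      exact le_antisymm (hmax ⟨(Basics.pCore_isPGroup p).map _, hnorm R hgR⟩ (hgrow R hRp)) (hgrow R hRp)
    · rintro ⟨R, hAR, hR, hgR⟩
      have hRp : IsPGroup p R := hR ▸ (Basics.pCore_isPGroup p).map _
      set Y := R ⊔ Subgroup.zpowers g with hY
      have hle : A ⊔ Subgroup.zpowers g ≤ Y := sup_le_sup_right hAR _
      haveI : (R.subgroupOf Y).Normal := (Subgroup.normal_subgroupOf_iff_le_normalizer le_sup_left).mpr
        (sup_le Subgroup.le_normalizer (Subgroup.zpowers_le.mpr hgR))
      have h1 : (A.subgroupOf Y).IsSubnormal := by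
        refine Subgroup.IsSubnormal.trans (K := R.subgroupOf Y) (fun u hu => hAR hu) ?_
          (Subgroup.Normal.isSubnormal inferInstance)
        have h2 := (hsn A R hAR hRp).map (f := (Subgroup.subgroupOfEquivOfLe (le_sup_left : R ≤ Y)).symm.toMonoidHom)
          (MulEquiv.surjective _)
        have h3 : (A.subgroupOf R).map (Subgroup.subgroupOfEquivOfLe (le_sup_left : R ≤ Y)).symm.toMonoidHom =
            (A.subgroupOf Y).subgroupOf (R.subgroupOf Y) := by
          ext z
          rw [Subgroup.mem_map_equiv]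
          rfl
        rwa [h3] at h2
      exact h1.comap (Subgroup.inclusion hle)
  -- radical subgroups are intersections of Sylow subgroups
  set Hs := sInf {K : Subgroup G | ∃ Q : Sylow p G, H ≤ (Q : Subgroup G) ∧ K = (Q : Subgroup G)} with hHs
  have hHHs : H ≤ Hs := le_sInf fun K hK => by obtain ⟨Q, hQ, rfl⟩ := hK; exact hQ
  have hHsp : IsPGroup p Hs := by
    obtain ⟨Q, hQ⟩ := hH.exists_le_sylow
    exact Q.2.to_le (sInf_le ⟨Q, hQ, rfl⟩)
  have hkey : ∀ R : Subgroup G,
      (Cfsg.pCore p (Subgroup.normalizer (R : Set G))).map (Subgroup.normalizer (R : Set G)).subtype = R →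
      H ≤ R → Hs ≤ R := by
    intro R hR hHR
    have hRp : IsPGroup p R := hR ▸ (Basics.pCore_isPGroup p).map _
    set D := sInf {K : Subgroup G | ∃ Q : Sylow p G, R ≤ (Q : Subgroup G) ∧ K = (Q : Subgroup G)} with hD
    have hHD : Hs ≤ D := le_sInf fun K hK => by
      obtain ⟨Q, hQ, rfl⟩ := hK; exact sInf_le ⟨Q, hHR.trans hQ, rfl⟩
    refine hHD.trans ?_
    have hRD : R ≤ D := le_sInf fun K hK => by obtain ⟨Q, hQ, rfl⟩ := hK; exact hQ
    have hDp : IsPGroup p D := by
      obtain ⟨Q, hQ⟩ := hRp.exists_le_sylow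
      exact Q.2.to_le (sInf_le ⟨Q, hQ, rfl⟩)
    have hND : ∀ n ∈ Subgroup.normalizer (R : Set G), ∀ d ∈ D, n * d * n⁻¹ ∈ D := by
      intro n hn d hd
      rw [hD, Subgroup.mem_sInf]
      rintro K ⟨Q, hQ, rfl⟩
      have hQ' : R ≤ ((n⁻¹ • Q : Sylow p G) : Subgroup G) := by
        intro r hr
        rw [Sylow.coe_subgroup_smul]
        refine Subgroup.mem_pointwise_smul_iff_inv_smul_mem.mpr ?_
        rw [MulAut.smul_def, map_inv, inv_inv, MulAut.conj_apply]
        exact hQ ((Subgroup.mem_normalizer_iff.mp hn r).mp hr)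
      have h1 : d ∈ ((n⁻¹ • Q : Sylow p G) : Subgroup G) := Subgroup.mem_sInf.mp hd _ ⟨_, hQ', rfl⟩
      rw [Sylow.coe_subgroup_smul] at h1
      have h2 := Subgroup.mem_pointwise_smul_iff_inv_smul_mem.mp h1
      rwa [MulAut.smul_def, map_inv, inv_inv, MulAut.conj_apply] at h2
    by_contra hne
    have hlt : R.subgroupOf D < ⊤ := lt_top_iff_ne_top.mpr (by rwa [Ne, Subgroup.subgroupOf_eq_top])
    haveI : Group.IsNilpotent D := hDp.isNilpotent
    obtain ⟨d, hd, hdR⟩ := SetLike.exists_of_lt (Group.normalizerCondition_of_isNilpotent _ hlt)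
    apply hdR
    set N := Subgroup.normalizer (R : Set G)
    have hdN : (d : G) ∈ N := by
      rw [Subgroup.mem_normalizer_iff]
      intro q
      constructor
      · intro hq
        exact (Subgroup.mem_normalizer_iff.mp hd ⟨q, hRD hq⟩).mp hq
      · intro hq
        have hqD : q ∈ D := by
          have := mul_mem (mul_mem (inv_mem d.2) (hRD hq)) d.2
          simpa [mul_assoc] using this
        exact (Subgroup.mem_normalizer_iff.mp hd ⟨q, hqD⟩).mpr hq
    haveI : (D.subgroupOf N).Normal := ⟨fun z hz m => hND m m.2 z hz⟩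
    have hmem : (⟨d, hdN⟩ : N) ∈ Cfsg.pCore p N := Basics.le_pCore (N := D.subgroupOf N) hDp.comap_subtype (show (d : G) ∈ D from d.2)
    have h3 : (d : G) ∈ (Cfsg.pCore p N).map N.subtype := ⟨⟨d, hdN⟩, hmem, rfl⟩
    rw [hR] at h3
    exact h3
  refine ⟨Set.ext fun g => hfwd H hH g, fun g => ?_⟩
  rw [hfwd H hH g, hfwd Hs hHsp g]
  exact ⟨fun ⟨R, h1, h2, h3⟩ => ⟨R, hkey R h2 h1, h2, h3⟩, fun ⟨R, h1, h2, h3⟩ => ⟨R, hHHs.trans h1, h2, h3⟩⟩
end Cfsg.Agent.S4089
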