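import Cfsg.Statements.S4090
import Mathlib
import Cfsg.Agent.Lib.FGB.SubnormalizerSolvable
-- import your own Cfsg.Agent.* helpers here

set_option autoImplicit false
open scoped BigOperators
open Cfsg

namespace Cfsg.Agent.S4090

/-- Let G be a finite p-solvable group, H a p-subgroup of G and P a Sylow p-subgroup, and fix a chain of normal subgroups 1 = M₀ ≤ M₁ ≤ ⋯ ≤ Mₙ = G of G each of whose factors is a p-group or a p'-group. Then the number of elements g of G such that H is subnormal in the subgroup generated by H and g equals the order of P times the product, over the factors Mᵢ₊₁/Mᵢ of order prime to p, of the order of the centralizer of H in Mᵢ₊₁/Mᵢ (counted as the number of u ∈ Mᵢ₊₁ with [h, u] ∈ Mᵢ for all h ∈ H, divided by the order of Mᵢ). -/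
theorem result {G : Type*} [Group G] [Finite G] (p : ℕ) [Fact p.Prime]
    (hG : Cfsg.IsPSolvable p G) (H : Subgroup G) (hH : IsPGroup p H) (P : Sylow p G)
    (n : ℕ) (M : Fin (n + 1) → Subgroup G) (h0 : M 0 = ⊥) (hn : M (Fin.last n) = ⊤) (hmono : Monotone M)
    (hnormal : ∀ i, (M i).Normal)
    (hfac : ∀ i : Fin n, (∃ m : ℕ, (M i.castSucc).relIndex (M i.succ) = p ^ m) ∨ ((M i.castSucc).relIndex (M i.succ)).Coprime p) :
    Nat.card {g : G // ((H).subgroupOf (H ⊔ Subgroup.zpowers g)).IsSubnormal} =
      Nat.card (P : Subgroup G) *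
        ∏ i : Fin n, (if ((M i.castSucc).relIndex (M i.succ)).Coprime p then
          Nat.card {u : G // u ∈ M i.succ ∧ ∀ h ∈ H, h * u * h⁻¹ * u⁻¹ ∈ M i.castSucc} / Nat.card (M i.castSucc)
          else 1) := by
  classical
  have hiff : ∀ g : G, ((H).subgroupOf (H ⊔ Subgroup.zpowers g)).IsSubnormal ↔ FGB.OverP p H ⊥ g := fun g =>
    (FGB.subnormal_in_sup_iff p H hH g).trans (FGB.overP_bot p H g).symm
  rw [Nat.card_congr (Equiv.subtypeEquivRight hiff)]
  have hp : p.Prime := Fact.out
  let c : Fin n → ℕ := fun i =>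
    Nat.card {u : G // u ∈ M i.succ ∧ ∀ h ∈ H, h * u * h⁻¹ * u⁻¹ ∈ M i.castSucc} / Nat.card (M i.castSucc)
  let rel : Fin n → ℕ := fun i => (M i.castSucc).relIndex (M i.succ)
  let a : Fin n → ℕ := fun i => if (rel i).Coprime p then rel i else 1
  let b : Fin n → ℕ := fun i => if (rel i).Coprime p then c i else 1
  let d : Fin n → ℕ := fun i => if (rel i).Coprime p then 1 else rel i
  have hle : ∀ i : Fin n, M i.castSucc ≤ M i.succ := fun i => hmono (Fin.castSucc_le_succ i)
  have hstep : ∀ i : Fin n, Nat.card {g : G // FGB.OverP p H (M i.castSucc) g} * a i =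
      Nat.card {g : G // FGB.OverP p H (M i.succ) g} * b i := by
    intro i
    haveI := hnormal i.castSucc
    haveI := hnormal i.succ
    set K := M i.castSucc with hK
    set L := M i.succ with hL
    by_cases hco : (rel i).Coprime p
    · simp only [a, b, if_pos hco]
      set π := QuotientGroup.mk' K with hπ
      haveI : (L.map π).Normal := (hnormal i.succ).map _ (QuotientGroup.mk'_surjective K)
      have hLc : Nat.card (L.map π) = rel i := by
        have h1 := (π.comp L.subtype).ker.card_mul_index
        rw [Subgroup.index_ker, MonoidHom.range_comp, Subgroup.range_subtype, ← MonoidHom.comap_ker, hπ, QuotientGroup.ker_mk'] at h1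
        have h2 := (K.subgroupOf L).card_mul_index
        exact Nat.eq_of_mul_eq_mul_left Nat.card_pos (h1.trans h2.symm)
      have hmain := FGB.card_overP_pPrime p (H.map π) (hH.map π) (L.map π) (by rw [hLc]; exact hco)
      rw [hLc] at hmain
      have hU : c i = Nat.card (L.map π ⊓ Subgroup.centralizer ((H.map π : Subgroup (G ⧸ K)) : Set (G ⧸ K)) : Subgroup (G ⧸ K)) := by
        set T := L.map π ⊓ Subgroup.centralizer ((H.map π : Subgroup (G ⧸ K)) : Set (G ⧸ K)) with hT
        refine Nat.div_eq_of_eq_mul_left Nat.card_pos ?_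
        rw [← Nat.card_prod]
        refine Nat.card_congr ((((Subgroup.groupEquivQuotientProdSubgroup (s := K)).subtypeEquiv
          (q := fun z : (G ⧸ K) × K => z.1 ∈ T) fun u => ?_)).trans
          { toFun := fun z => (⟨z.1.1, z.2⟩, z.1.2), invFun := fun z => ⟨(z.1.1, z.2), z.1.2⟩,
            left_inv := fun z => rfl, right_inv := fun z => rfl })
        show _ ↔ π u ∈ T
        constructor
        · rintro ⟨huL, hu⟩
          refine ⟨⟨u, huL, rfl⟩, Subgroup.mem_centralizer_iff.mpr ?_⟩
          rintro _ ⟨h, hh, rfl⟩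
          have h1 : π (h * u * h⁻¹ * u⁻¹) = 1 := (QuotientGroup.eq_one_iff _).mpr (hu h hh)
          simp only [map_mul, map_inv] at h1
          rw [mul_inv_eq_one, mul_inv_eq_iff_eq_mul] at h1
          exact h1
        · rintro ⟨⟨l, hl, hlu⟩, hc⟩
          have huL : u ∈ L := by
            have h1 : l⁻¹ * u ∈ K := QuotientGroup.eq.mp hlu
            have := mul_mem hl (hle i h1)
            rwa [mul_inv_cancel_left] at this
          refine ⟨huL, fun h hh => (QuotientGroup.eq_one_iff _).mp ?_⟩
          show π (h * u * h⁻¹ * u⁻¹) = 1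
          simp only [map_mul, map_inv]
          rw [mul_inv_eq_one, mul_inv_eq_iff_eq_mul]
          exact Subgroup.mem_centralizer_iff.mp hc (π h) ⟨h, hh, rfl⟩
      rw [hU, FGB.card_overP_mk p H (le_refl K), FGB.card_overP_mk p H (hle i)]
      have hbot : K.map π = ⊥ := by rw [Subgroup.map_eq_bot_iff, hπ, QuotientGroup.ker_mk']
      rw [hbot, mul_assoc, hmain, mul_assoc]
    · simp only [a, b, if_neg hco, mul_one]
      obtain ⟨m, hm⟩ := (hfac i).resolve_right hco
      refine Nat.card_congr (Equiv.subtypeEquivRight fun g => ⟨?_, ?_⟩)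
      · rintro ⟨R, h1, h2, h3, k, hk⟩
        have hnormg : g ∈ Subgroup.normalizer ((L ⊔ R : Subgroup G) : Set G) := by
          rw [Subgroup.mem_normalizer_iff_map_conj_eq, Subgroup.map_sup,
            Subgroup.mem_normalizer_iff_map_conj_eq.mp h3,
            Subgroup.mem_normalizer_iff_map_conj_eq.mp (Subgroup.le_normalizer_of_normal (H := L) (K := ⊤) (Subgroup.mem_top g))]
        refine ⟨L ⊔ R, h1.trans le_sup_right, le_sup_left, hnormg, ?_⟩
        have h4 : L.relIndex (L ⊔ R) ∣ p ^ k := by
          rw [sup_comm, Subgroup.relIndex_sup_right]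
          have h5 := Subgroup.relIndex_mul_relIndex (K ⊓ R) (L ⊓ R) R (inf_le_inf_right R (hle i)) inf_le_right
          rw [Subgroup.inf_relIndex_right, Subgroup.inf_relIndex_right, hk] at h5
          exact dvd_of_mul_left_eq _ h5
        obtain ⟨j, -, hj⟩ := (Nat.dvd_prime_pow hp).mp h4
        exact ⟨j, hj⟩
      · rintro ⟨R, h1, h2, h3, k, hk⟩
        refine ⟨R, h1, (hle i).trans h2, h3, m + k, ?_⟩
        rw [← Subgroup.relIndex_mul_relIndex K L R (hle i) h2, hk, pow_add]
        exact congrArg (· * p ^ k) hm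
  have htel := FGB.telescope n (fun i => Nat.card {g : G // FGB.OverP p H (M i) g}) a b hstep
  simp only [h0, hn] at htel
  have htop : Nat.card {g : G // FGB.OverP p H ⊤ g} = Nat.card G :=
    Nat.card_congr (Equiv.subtypeUnivEquiv fun g => ⟨⊤, le_top, le_rfl, by rw [Subgroup.normalizer_eq_top]; exact Subgroup.mem_top g, 0, by rw [Subgroup.relIndex_top_right, Subgroup.index_top, pow_zero]⟩)
  rw [htop] at htel
  -- the order of the group
  have hcardG : Nat.card G = (∏ i, a i) * ∏ i, d i := by
    have h1 := FGB.telescope n (fun i => Nat.card (M i)) (fun i => a i * d i) (fun _ => 1) (fun i => by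
      show Nat.card (M i.castSucc) * (a i * d i) = Nat.card (M i.succ) * 1
      have e : a i * d i = rel i := by simp only [a, d]; split_ifs <;> simp
      rw [e, mul_one, ← Subgroup.relIndex_bot_left, ← Subgroup.relIndex_bot_left]
      exact Subgroup.relIndex_mul_relIndex ⊥ _ _ bot_le (hle i))
    simp only [h0, hn, Subgroup.card_bot, Subgroup.card_top, one_mul, Finset.prod_const_one, mul_one] at h1
    rw [← h1, Finset.prod_mul_distrib]
  have hPd : Nat.card (P : Subgroup G) = ∏ i, d i := by
    have ha : (∏ i, a i).Coprime p := Nat.Coprime.prod_left fun i _ => by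
      simp only [a]; split_ifs with h; exacts [h, Nat.coprime_one_left p]
    have hd : ∀ q, q.Prime → q ∣ ∏ i, d i → q = p := by
      intro q hq hqd
      obtain ⟨i, -, hi⟩ := (hq.prime.dvd_finsetProd_iff _).mp hqd
      simp only [d] at hi
      split_ifs at hi with h
      · exact absurd hi hq.not_dvd_one
      · obtain ⟨m, hm⟩ := (hfac i).resolve_right h
        change q ∣ rel i at hi
        rw [show rel i = p ^ m from hm] at hi
        exact (Nat.prime_dvd_prime_iff_eq hq hp).mp (hq.dvd_of_dvd_pow hi)
    have hd0 : ∏ i, d i ≠ 0 := fun h => Nat.card_pos.ne' (by rw [hcardG, h, mul_zero])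
    have hds := Nat.eq_prime_pow_of_unique_prime_dvd hd0 (fun {q} => hd q)
    obtain ⟨e, he⟩ := IsPGroup.iff_card.mp P.2
    refine Nat.dvd_antisymm ?_ ?_
    · refine Nat.Coprime.dvd_of_dvd_mul_left ?_ (hcardG ▸ Subgroup.card_subgroup_dvd_card _)
      rw [he]; exact Nat.Coprime.pow_left _ ha.symm
    · refine Nat.Coprime.dvd_of_dvd_mul_right ?_ (Dvd.intro_left (∏ i, a i) (hcardG.symm.trans (P : Subgroup G).card_mul_index.symm))
      rw [hds]
      exact Nat.Coprime.pow_left _ (hp.coprime_iff_not_dvd.mpr P.not_dvd_index)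
  rw [hPd]
  have ha0 : 0 < ∏ i, a i := Nat.pos_of_ne_zero fun h => Nat.card_pos.ne' (by rw [hcardG, h, zero_mul])
  refine Nat.eq_of_mul_eq_mul_right ha0 ?_
  rw [htel, hcardG]
  show _ = (∏ i, d i) * (∏ i, b i) * _
  ring

end Cfsg.Agent.S4090
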