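import Cfsg.Statements.S4091
import Cfsg.Agent.S4090
import Cfsg.Agent.Lib.FGB.CoprimeFixedGroup
-- import your own Cfsg.Agent.* helpers here

set_option autoImplicit false
open Cfsg

namespace Cfsg.Agent.S4091

/-- The displayed count is the fixed-point count in the quotient. -/
theorem card_fix_quotient {G : Type*} [Group G] [Finite G] {K L : Subgroup G} [K.Normal] (hKL : K ≤ L)
    (H : Subgroup G) :
    Nat.card {u : G // u ∈ L ∧ ∀ h ∈ H, h * u * h⁻¹ * u⁻¹ ∈ K} / Nat.card K =
      FGB.fixCard (L.map (QuotientGroup.mk' K)) (H.map (QuotientGroup.mk' K)) := by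
  classical
  set π := QuotientGroup.mk' K with hπ
  set T := L.map π ⊓ Subgroup.centralizer ((H.map π : Subgroup (G ⧸ K)) : Set (G ⧸ K)) with hT
  show _ = Nat.card T
  refine Nat.div_eq_of_eq_mul_left Nat.card_pos ?_
  rw [← Nat.card_prod]
  refine Nat.card_congr ((((Subgroup.groupEquivQuotientProdSubgroup (s := K)).subtypeEquiv
    (q := fun z : (G ⧸ K) × K => z.1 ∈ T) fun u => ?_)).trans
    { toFun := fun z => (⟨z.1.1, z.2⟩, z.1.2), invFun := fun z => ⟨(z.1.1, z.2), z.1.2⟩,
      left_inv := fun z => rfl, right_inv := fun z => rfl })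
  show _ ↔ π u ∈ T
  constructor
  · rintro ⟨huL, hu⟩
    refine ⟨⟨u, huL, rfl⟩, Subgroup.mem_centralizer_iff.mpr ?_⟩
    rintro _ ⟨h, hh, rfl⟩
    have h1 : π (h * u * h⁻¹ * u⁻¹) = 1 := (QuotientGroup.eq_one_iff _).mpr (hu h hh)
    simp only [map_mul, map_inv] at h1
    rw [mul_inv_eq_one, mul_inv_eq_iff_eq_mul] at h1
    exact h1
  · rintro ⟨⟨l, hl, hlu⟩, hc⟩
    have huL : u ∈ L := by
      have h1 : l⁻¹ * u ∈ K := QuotientGroup.eq.mp hlu
      have := mul_mem hl (hKL h1)
      rwa [mul_inv_cancel_left] at this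
    refine ⟨huL, fun h hh => (QuotientGroup.eq_one_iff _).mp ?_⟩
    show π (h * u * h⁻¹ * u⁻¹) = 1
    simp only [map_mul, map_inv]
    rw [mul_inv_eq_one, mul_inv_eq_iff_eq_mul]
    exact Subgroup.mem_centralizer_iff.mp hc (π h) ⟨h, hh, rfl⟩

/-- Let G be a finite p-solvable group, P a Sylow p-subgroup of G, u the number of p-elements of G (elements of p-power order, the identity included) and n the number of Sylow p-subgroups of G. Then u/#P ≥ n^((p−1)/p), stated as u^p ≥ #P^p · n^(p−1). -/
theorem result {G : Type*} [Group G] [Finite G] (p : ℕ) [Fact p.Prime]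
    (hG : Cfsg.IsPSolvable p G) (P : Sylow p G) :
    Nat.card (P : Subgroup G) ^ p * Nat.card (Sylow p G) ^ (p - 1) ≤ Nat.card {g : G // ∃ k : ℕ, orderOf g = p ^ k} ^ p := by
  classical
  have hp : p.Prime := Fact.out
  obtain ⟨m, M, h0, hm, hmono, hnormal, hfac⟩ := hG
  have hPs : IsPGroup p (P : Subgroup G) := P.isPGroup'
  let rel : Fin m → ℕ := fun i => (M i.castSucc).relIndex (M i.succ)
  let c : Fin m → Subgroup G → ℕ := fun i H => if (rel i).Coprime p then
    Nat.card {u : G // u ∈ M i.succ ∧ ∀ h ∈ H, h * u * h⁻¹ * u⁻¹ ∈ M i.castSucc} /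
      Nat.card (M i.castSucc) else 1
  let cnt : Subgroup G → ℕ := fun H => Nat.card {Q : Sylow p G // H ≤ (Q : Subgroup G)}
  set Np := Nat.card (Subgroup.normalizer ((P : Subgroup G) : Set G))
  set o := Nat.card (P : Subgroup G)
  have hcount : ∀ H : Subgroup G, IsPGroup p H → cnt H * Np = o * ∏ i, c i H := by
    intro H hH
    have h := S4090.result p ⟨m, M, h0, hm, hmono, hnormal, hfac⟩ H hH P m M h0 hm hmono hnormal hfac
    rw [Nat.card_congr (Equiv.subtypeEquivRight fun g => FGB.subnormal_in_sup_iff p H hH g),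
      FGB.card_normalizing_overgroup p H hH P] at h
    exact h
  set n := Nat.card (Sylow p G) with hn
  have hbot : cnt ⊥ = n := Nat.card_congr (Equiv.subtypeUnivEquiv fun Q => bot_le)
  have hP1 : cnt (P : Subgroup G) = 1 := by
    refine Nat.card_eq_one_iff_exists.mpr ⟨⟨P, le_rfl⟩, fun Q => Subtype.ext (Sylow.ext ?_)⟩
    exact P.is_maximal' Q.1.isPGroup' Q.2
  haveI : Fintype (P : Subgroup G) := Fintype.ofFinite _
  have hstep : ∀ i, ∏ x : (P : Subgroup G), c i (Subgroup.zpowers (x : G)) ^ p ≤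
      c i ⊥ ^ o * c i (P : Subgroup G) ^ ((p - 1) * o) := by
    intro i
    haveI := hnormal i.castSucc
    by_cases hco : (rel i).Coprime p
    swap
    · simp [c, hco]
    have hKL : M i.castSucc ≤ M i.succ := hmono (Fin.castSucc_le_succ i)
    simp only [c, if_pos hco, card_fix_quotient hKL]
    set π := QuotientGroup.mk' (M i.castSucc)
    set L := (M i.succ).map π
    haveI : L.Normal := (hnormal i.succ).map _ (QuotientGroup.mk'_surjective _)
    have hL : (Nat.card L).Coprime p := by
      rw [show Nat.card L = (M i.castSucc).relIndex (M i.succ) by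
        rw [← Subgroup.relIndex_ker, QuotientGroup.ker_mk']]
      exact hco
    have h := Nat.le_of_dvd (Nat.mul_pos (pow_pos Nat.card_pos _) (pow_pos Nat.card_pos _))
      (FGB.fixed_product hPs (π.comp (P : Subgroup G).subtype) L
        (fun g _ => by rw [Subgroup.normalizer_eq_top]; trivial) hL)
    rw [MonoidHom.range_comp, Subgroup.range_subtype] at h
    refine le_trans (le_of_eq (Finset.prod_congr rfl fun x _ => ?_)) (h.trans (le_of_eq ?_))
    · rw [MonoidHom.map_zpowers]; rfl
    · rw [Subgroup.map_bot, FGB.fixCard, FGB.fixCard, Subgroup.coe_bot]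
      congr 2
      refine congrArg (fun S : Subgroup (G ⧸ M i.castSucc) => Nat.card S) (inf_eq_left.mpr ?_).symm
      exact fun y _ z hz => by rw [Set.mem_singleton_iff.mp hz, one_mul, mul_one]
  have hgeo : (∏ x : (P : Subgroup G), cnt (Subgroup.zpowers (x : G))) ^ p ≤ n ^ o := by
    have h1 : (∏ x : (P : Subgroup G), cnt (Subgroup.zpowers (x : G)) * Np) ^ p ≤
        (n * Np) ^ o * Np ^ ((p - 1) * o) := by
      calc (∏ x : (P : Subgroup G), cnt (Subgroup.zpowers (x : G)) * Np) ^ p
          = o ^ (o * p) * ∏ i, ∏ x : (P : Subgroup G), c i (Subgroup.zpowers (x : G)) ^ p := by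
            rw [Finset.prod_congr rfl (fun (x : (P : Subgroup G)) _ => hcount _
              (hPs.to_le (Subgroup.zpowers_le.mpr x.2))), Finset.prod_mul_distrib, Finset.prod_const,
              Finset.card_univ, ← Nat.card_eq_fintype_card, mul_pow, ← pow_mul, Finset.prod_comm,
              ← Finset.prod_pow]
            simp only [Finset.prod_pow]
            rfl
        _ ≤ o ^ (o * p) * ∏ i, (c i ⊥ ^ o * c i (P : Subgroup G) ^ ((p - 1) * o)) :=
            Nat.mul_le_mul_left _ (Finset.prod_le_prod' fun i _ => hstep i)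
        _ = (n * Np) ^ o * Np ^ ((p - 1) * o) := by
            have h2 := hcount ⊥ IsPGroup.of_bot
            have h3 := hcount _ hPs
            rw [hbot] at h2
            rw [hP1, one_mul] at h3
            rw [Finset.prod_mul_distrib, Finset.prod_pow, Finset.prod_pow, h2]
            conv_rhs => rw [h3]
            have hexp : o + (p - 1) * o = o * p := by
              obtain ⟨r, hr⟩ : ∃ r, p = r + 1 := ⟨p - 1, by have := hp.pos; omega⟩
              rw [show p - 1 = r by omega, show o * p = o * (r + 1) by rw [← hr]]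
              ring
            rw [mul_pow, mul_pow, mul_mul_mul_comm, ← pow_add, hexp]
    rw [Finset.prod_mul_distrib, Finset.prod_const, Finset.card_univ, ← Nat.card_eq_fintype_card,
      mul_pow, ← pow_mul, mul_pow, mul_assoc, ← pow_add] at h1
    obtain ⟨r, hr⟩ : ∃ r, p = r + 1 := ⟨p - 1, by have := hp.pos; omega⟩
    rw [show o + (p - 1) * o = o * p by rw [hr, Nat.add_sub_cancel]; ring] at h1
    exact Nat.le_of_mul_le_mul_right h1 (pow_pos Nat.card_pos _)
  -- double counting
  let w : G → ℝ := fun x => ((cnt (Subgroup.zpowers x) : ℝ))⁻¹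
  have hconj : ∀ (g x : G), cnt (Subgroup.zpowers (g * x * g⁻¹)) = cnt (Subgroup.zpowers x) := by
    intro g x
    refine (Nat.card_congr ((MulAction.toPerm g).subtypeEquiv fun Q => ?_)).symm
    rw [Subgroup.zpowers_le, Subgroup.zpowers_le, MulAction.toPerm_apply, Sylow.coe_subgroup_smul,
      Subgroup.mem_pointwise_smul_iff_inv_smul_mem]
    simp [MulAut.smul_def, mul_assoc]
  haveI : Fintype G := Fintype.ofFinite G
  haveI : Fintype (Sylow p G) := Fintype.ofFinite _
  set u := Nat.card {g : G // ∃ k : ℕ, orderOf g = p ^ k} with hu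
  have hu2 : (u : ℝ) = n * ∑ x : (P : Subgroup G), w x := by
    have hQ : ∀ Q : Sylow p G, ∑ x : (Q : Subgroup G), w x = ∑ x : (P : Subgroup G), w x := by
      intro Q
      obtain ⟨g, rfl⟩ := MulAction.exists_smul_eq G P Q
      refine (Fintype.sum_bijective (fun x : (P : Subgroup G) =>
        (⟨g * x * g⁻¹, ⟨x, x.2, by simp [MulAut.smul_def]⟩⟩ : ((g • P : Sylow p G) : Subgroup G)))
        ⟨fun a b h => Subtype.ext (by simpa using congrArg Subtype.val h), fun y => ?_⟩ _ _
        fun x => ?_).symm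
      · obtain ⟨z, hz, hzy⟩ := y.2
        exact ⟨⟨z, hz⟩, Subtype.ext (by rw [← hzy]; simp [MulAut.smul_def])⟩
      · simp only [w, hconj]
    calc (u : ℝ) = ∑ g : G, if ∃ k : ℕ, orderOf g = p ^ k then (1 : ℝ) else 0 := by
          rw [hu, Nat.card_eq_fintype_card, Fintype.card_subtype, Finset.sum_boole]
      _ = ∑ g : G, ∑ Q : Sylow p G, if g ∈ (Q : Subgroup G) then w g else 0 := by
          refine Finset.sum_congr rfl fun g _ => ?_
          rw [← Finset.sum_filter, Finset.sum_const, nsmul_eq_mul]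
          have hcnt : (Finset.univ.filter fun Q : Sylow p G => g ∈ (Q : Subgroup G)).card =
              cnt (Subgroup.zpowers g) := by
            rw [← Fintype.card_subtype, ← Nat.card_eq_fintype_card]
            exact Nat.card_congr (Equiv.subtypeEquivRight fun Q => Subgroup.zpowers_le.symm)
          rw [hcnt]
          split_ifs with hg
          · obtain ⟨k, hk⟩ := hg
            obtain ⟨Q, hQ⟩ := (IsPGroup.of_card (show Nat.card (Subgroup.zpowers g) = p ^ k by
              rw [Nat.card_zpowers, hk])).exists_le_sylow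
            haveI : Nonempty {Q : Sylow p G // Subgroup.zpowers g ≤ (Q : Subgroup G)} := ⟨⟨Q, hQ⟩⟩
            exact (mul_inv_cancel₀ (Nat.cast_ne_zero.mpr Nat.card_pos.ne')).symm
          · have : cnt (Subgroup.zpowers g) = 0 := by
              refine Nat.card_eq_zero.mpr (Or.inl ⟨fun Q => hg ?_⟩)
              obtain ⟨k, hk⟩ := Q.1.isPGroup' ⟨g, Q.2 (Subgroup.mem_zpowers g)⟩
              obtain ⟨j, -, hj⟩ := (Nat.dvd_prime_pow hp).mp
                (orderOf_dvd_of_pow_eq_one (congrArg Subtype.val hk : g ^ p ^ k = 1))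
              exact ⟨j, hj⟩
            rw [this, Nat.cast_zero, zero_mul]
      _ = ∑ Q : Sylow p G, ∑ x : (Q : Subgroup G), w x := by
          rw [Finset.sum_comm]
          refine Finset.sum_congr rfl fun Q _ => ?_
          rw [← Finset.sum_filter]
          exact Finset.sum_subtype _ (fun x => by simp) w
      _ = n * ∑ x : (P : Subgroup G), w x := by
          rw [Finset.sum_congr rfl (fun Q _ => hQ Q), Finset.sum_const, Finset.card_univ,
            ← Nat.card_eq_fintype_card, nsmul_eq_mul]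
  -- arithmetic and geometric means
  have hpos : ∀ x : (P : Subgroup G), 0 < cnt (Subgroup.zpowers (x : G)) := fun x => by
    haveI : Nonempty {Q : Sylow p G // Subgroup.zpowers (x : G) ≤ (Q : Subgroup G)} :=
      ⟨⟨P, Subgroup.zpowers_le.mpr x.2⟩⟩
    exact Nat.card_pos
  set S := ∑ x : (P : Subgroup G), w x with hS
  have hwnn : ∀ x : (P : Subgroup G), 0 ≤ w x := fun x => inv_nonneg.mpr (Nat.cast_nonneg _)
  have ho : 0 < o := Nat.card_pos
  have ho' : (0 : ℝ) < o := Nat.cast_pos.mpr ho
  have hn0 : 0 < n := Nat.card_pos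
  have hn' : (0 : ℝ) < n := Nat.cast_pos.mpr hn0
  have ham : ∏ x : (P : Subgroup G), w x ≤ (S / o) ^ o := by
    have h := Real.geom_mean_le_arith_mean_weighted Finset.univ (fun _ : (P : Subgroup G) => (o : ℝ)⁻¹)
      (fun x => w x) (fun _ _ => inv_nonneg.mpr ho'.le)
      (by rw [Finset.sum_const, Finset.card_univ, ← Nat.card_eq_fintype_card, nsmul_eq_mul,
        mul_inv_cancel₀ ho'.ne']) (fun x _ => hwnn x)
    rw [Real.finsetProd_rpow _ _ (fun x _ => hwnn x), ← Finset.mul_sum, ← div_eq_inv_mul] at h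
    have h2 := pow_le_pow_left₀ (Real.rpow_nonneg (Finset.prod_nonneg fun x _ => hwnn x) _) h o
    rwa [Real.rpow_inv_natCast_pow (Finset.prod_nonneg fun x _ => hwnn x) ho.ne'] at h2
  have hkey : (1 : ℝ) / n ≤ (S / o) ^ p := by
    have hSnn : 0 ≤ S / o := div_nonneg (Finset.sum_nonneg fun x _ => hwnn x) ho'.le
    refine (pow_le_pow_iff_left₀ (by positivity) (by positivity) ho.ne').mp ?_
    calc ((1 : ℝ) / n) ^ o = ((n : ℝ) ^ o)⁻¹ := by rw [one_div, inv_pow]
      _ ≤ ((∏ x : (P : Subgroup G), (cnt (Subgroup.zpowers (x : G)) : ℝ)) ^ p)⁻¹ := by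
          have h1 : (0 : ℝ) < (∏ x : (P : Subgroup G), (cnt (Subgroup.zpowers (x : G)) : ℝ)) ^ p :=
            pow_pos (Finset.prod_pos fun x _ => Nat.cast_pos.mpr (hpos x)) _
          gcongr
          exact_mod_cast hgeo
      _ = (∏ x : (P : Subgroup G), w x) ^ p := by rw [← inv_pow, ← Finset.prod_inv_distrib]
      _ ≤ ((S / o) ^ o) ^ p := pow_le_pow_left₀ (Finset.prod_nonneg fun x _ => hwnn x) ham p
      _ = ((S / o) ^ p) ^ o := by rw [← pow_mul, ← pow_mul, mul_comm]
  have hfinal : (o : ℝ) ^ p * (n : ℝ) ^ (p - 1) ≤ (u : ℝ) ^ p := by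
    rw [hu2, mul_pow]
    have h1 : (n : ℝ) ^ p = (n : ℝ) ^ (p - 1) * n := by
      rw [← pow_succ, Nat.sub_add_cancel hp.one_le]
    rw [div_pow, div_le_div_iff₀ hn' (pow_pos ho' p), one_mul] at hkey
    rw [h1, mul_comm ((o : ℝ) ^ p), mul_assoc]
    exact mul_le_mul_of_nonneg_left (by rw [mul_comm (n : ℝ)]; exact hkey) (by positivity)
  exact_mod_cast hfinal

end Cfsg.Agent.S4091
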