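import Cfsg.Statements.S4092
-- import your own Cfsg.Agent.* helpers here

set_option autoImplicit false
open Cfsg

namespace Cfsg.Agent.S4092

/-- Let G be a finite group, p a prime and P a Sylow p-subgroup of G that is not normal in G. Then G has at least p·#P elements of p-power order (the identity included). -/
theorem result {G : Type*} [Group G] [Finite G] (p : ℕ) [Fact p.Prime]
    (P : Sylow p G) (hP : ¬ (P : Subgroup G).Normal) :
    p * Nat.card (P : Subgroup G) ≤ Nat.card {g : G // ∃ k : ℕ, orderOf g = p ^ k} := by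
  classical
  have hp : p.Prime := Fact.out
  have hex : ∃ Q : Sylow p G, Q ≠ P := by
    by_contra hcon
    push Not at hcon
    haveI : Subsingleton (Sylow p G) := ⟨fun a b => (hcon a).trans (hcon b).symm⟩
    exact hP P.normal_of_subsingleton
  haveI : Finite (Sylow p G) := inferInstance
  obtain ⟨Q, hQP⟩ := hex
  haveI := Fintype.ofFinite (Sylow p G)
  obtain ⟨⟨A, B⟩, hAB, hmax⟩ := Finset.exists_max_image
    (Finset.univ.filter fun z : Sylow p G × Sylow p G => z.1 ≠ z.2)
    (fun z => Nat.card ↥((z.1 : Subgroup G) ⊓ (z.2 : Subgroup G))) ⟨(Q, P), by simp [hQP]⟩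
  simp only [Finset.mem_filter, Finset.mem_univ, true_and] at hAB hmax
  set D := (A : Subgroup G) ⊓ (B : Subgroup G) with hD
  -- growth of the normalizer of `D` inside `A`
  have hDA : D.subgroupOf (A : Subgroup G) < ⊤ := by
    rw [lt_top_iff_ne_top, Ne, Subgroup.subgroupOf_eq_top]
    intro hle
    have hAleB : (A : Subgroup G) ≤ (B : Subgroup G) := hle.trans inf_le_right
    exact hAB (Sylow.ext (A.3 B.2 hAleB).symm)
  haveI := A.2.isNilpotent
  have hgrow := Group.normalizerCondition_of_isNilpotent (G := ↥(A : Subgroup G)) _ hDA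
  set M := Subgroup.normalizer ((D.subgroupOf (A : Subgroup G)) : Set ↥(A : Subgroup G)) with hM
  have hDM : ∀ m : M, ∀ d ∈ D, (m.1 : G) * d * (m.1 : G)⁻¹ ∈ D := by
    intro m d hd
    have := (Subgroup.mem_normalizer_iff.mp m.2 ⟨d, (inf_le_left : D ≤ _) hd⟩).mp hd
    exact this
  let φ : M →* G := (A : Subgroup G).subtype.comp M.subtype
  let : MulAction M (Sylow p G) := MulAction.compHom _ φ
  have hsm : ∀ (m : M) (R : Sylow p G), m • R = φ m • R := fun _ _ => rfl
  -- every member of the orbit of `B` contains `D` and differs from `A`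
  have horb : ∀ R ∈ MulAction.orbit M B, D ≤ (R : Subgroup G) ∧ R ≠ A := by
    rintro _ ⟨m, rfl⟩
    refine ⟨fun d hd => ?_, fun he => hAB ?_⟩
    · show d ∈ ((φ m • B : Sylow p G) : Subgroup G)
      rw [Sylow.coe_subgroup_smul]
      have h := hDM m⁻¹ d hd
      exact ⟨_, h.2, by simp [φ, mul_assoc]⟩
    · have h1 : φ m • A = A := by
        rw [Sylow.smul_eq_iff_mem_normalizer]
        exact Subgroup.le_normalizer m.1.2
      have he' : φ m • B = A := he
      exact ((MulAction.injective _) (he'.trans h1.symm)).symm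
  have horbcard : p ≤ (MulAction.orbit M B).ncard := by
    rw [← MulAction.index_stabilizer]
    have hp' : IsPGroup p M := A.2.to_subgroup M
    obtain ⟨n, hn⟩ := hp'.index (MulAction.stabilizer M B)
    have hn0 : n ≠ 0 := by
      intro h0
      rw [h0, pow_zero, Subgroup.index_eq_one, eq_top_iff] at hn
      refine hgrow.not_ge fun a ha => ?_
      have h1 : (a : G) • B = B := hn (Subgroup.mem_top ⟨a, ha⟩)
      rw [Sylow.smul_eq_iff_mem_normalizer] at h1
      -- a `p`-element normalising `B` lies in it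
      have h2 : Subgroup.zpowers (a : G) ⊔ (B : Subgroup G) = (B : Subgroup G) := by
        refine B.3 (IsPGroup.to_sup_of_normal_right' (A.2.to_le (Subgroup.zpowers_le.mpr a.2)) B.2
          (Subgroup.zpowers_le.mpr h1)) le_sup_right
      rw [Subgroup.mem_subgroupOf]
      exact ⟨a.2, h2.le (Subgroup.mem_sup_left (Subgroup.mem_zpowers _))⟩
    rw [hn]
    exact Nat.le_self_pow hn0 p
  set T : Finset (Sylow p G) := insert A (MulAction.orbit M B).toFinset with hT
  have hTcard : p + 1 ≤ T.card := by
    rw [hT, Finset.card_insert_of_notMem (fun h => (horb A (Set.mem_toFinset.mp h)).2 rfl),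
      ← Set.ncard_eq_toFinset_card']
    omega
  have hTD : ∀ R ∈ T, D ≤ (R : Subgroup G) := by
    intro R hR
    rcases Finset.mem_insert.mp hR with rfl | hR
    · exact inf_le_left
    · exact (horb R (Set.mem_toFinset.mp hR)).1
  have hpair : ∀ R ∈ T, ∀ R' ∈ T, R ≠ R' → (R : Subgroup G) ⊓ (R' : Subgroup G) = D := by
    intro R hR R' hR' hne
    exact (Subgroup.eq_of_le_of_card_ge (le_inf (hTD R hR) (hTD R' hR')) (hmax (R, R') hne)).symm
  haveI := Fintype.ofFinite G
  set E : Sylow p G → Finset G := fun R => ((R : Subgroup G) : Set G).toFinset \ ((D : Set G).toFinset)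
    with hE
  have hEcard : ∀ R ∈ T, (E R).card = Nat.card (P : Subgroup G) - Nat.card D := by
    intro R hR
    rw [hE, Finset.card_sdiff_of_subset (by
      intro x hx
      rw [Set.mem_toFinset] at hx ⊢
      exact hTD R hR hx), ← Set.ncard_eq_toFinset_card', ← Set.ncard_eq_toFinset_card',
      ← Nat.card_coe_set_eq, ← Nat.card_coe_set_eq]
    rw [show Nat.card ((R : Subgroup G) : Set G) = Nat.card (P : Subgroup G) from
      (R.card_eq_multiplicity).trans P.card_eq_multiplicity.symm]
    rfl
  have hdisj : (T : Set (Sylow p G)).PairwiseDisjoint E := by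
    intro R hR R' hR' hne
    rw [Function.onFun, Finset.disjoint_left]
    intro x hx hx'
    simp only [hE, Finset.mem_sdiff, Set.mem_toFinset] at hx hx'
    exact hx.2 ((hpair R hR R' hR' hne).le ⟨hx.1, hx'.1⟩)
  set U : Finset G := (D : Set G).toFinset ∪ T.biUnion E with hU
  have hUcard : U.card = Nat.card D + T.card * (Nat.card (P : Subgroup G) - Nat.card D) := by
    rw [hU, Finset.card_union_of_disjoint (by
      rw [Finset.disjoint_biUnion_right]
      exact fun R _ => Finset.disjoint_sdiff), Finset.card_biUnion hdisj, Finset.sum_congr rfl hEcard,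
      Finset.sum_const, smul_eq_mul, ← Set.ncard_eq_toFinset_card', ← Nat.card_coe_set_eq]
    rfl
  have hUle : U.card ≤ Nat.card {g : G // ∃ k : ℕ, orderOf g = p ^ k} := by
    rw [← Fintype.card_coe, ← Nat.card_eq_fintype_card]
    refine Nat.card_le_card_of_injective (fun u => ⟨u.1, ?_⟩)
      fun a b h => Subtype.ext (congrArg (fun c => c.1) h)
    have hmemA : ∃ R : Sylow p G, u.1 ∈ (R : Subgroup G) := by
      rcases Finset.mem_union.mp u.2 with h | h
      · exact ⟨A, (inf_le_left : D ≤ _) (Set.mem_toFinset.mp h)⟩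
      · obtain ⟨R, -, hR⟩ := Finset.mem_biUnion.mp h
        exact ⟨R, Set.mem_toFinset.mp (Finset.mem_sdiff.mp hR).1⟩
    obtain ⟨R, hR⟩ := hmemA
    obtain ⟨k, hk⟩ := IsPGroup.iff_orderOf.mp R.2 ⟨u.1, hR⟩
    exact ⟨k, by rwa [Subgroup.orderOf_mk] at hk⟩
  refine le_trans ?_ hUle
  rw [hUcard]
  -- `p · |D| ≤ |P|`
  have hPD : p * Nat.card D ≤ Nat.card (P : Subgroup G) := by
    have hcA : Nat.card (A : Subgroup G) = Nat.card (P : Subgroup G) :=
      A.card_eq_multiplicity.trans P.card_eq_multiplicity.symm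
    have h1 := Subgroup.card_mul_index (D.subgroupOf (A : Subgroup G))
    rw [Nat.card_congr (Subgroup.subgroupOfEquivOfLe (inf_le_left : D ≤ _)).toEquiv, hcA] at h1
    obtain ⟨n, hn⟩ := A.2.index (D.subgroupOf (A : Subgroup G))
    have hn0 : n ≠ 0 := by
      intro h0
      rw [h0, pow_zero, Subgroup.index_eq_one] at hn
      exact hDA.ne hn
    rw [← h1, hn, mul_comm p]
    exact Nat.mul_le_mul_left _ (Nat.le_self_pow hn0 p)
  obtain ⟨t, ht⟩ := Nat.exists_eq_add_of_le hTcard
  obtain ⟨d, hd⟩ := Nat.exists_eq_add_of_le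
    (show Nat.card D ≤ Nat.card (P : Subgroup G) by nlinarith [hp.two_le])
  rw [ht, hd, Nat.add_sub_cancel_left]
  nlinarith [hd, hPD]

end Cfsg.Agent.S4092
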