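import Cfsg.Statements.S4093
-- import your own Cfsg.Agent.* helpers here

set_option autoImplicit false
open scoped BigOperators
open Cfsg

namespace Cfsg.Agent.S4093

/-- Let G be a finite group with a normal subgroup N complementing a Sylow p-subgroup P (a normal p-complement). Then the number of elements of G of p-power order equals the sum over x ∈ P of the index of C_N(x) in N. -/
theorem result {G : Type*} [Group G] [Finite G] (p : ℕ) [Fact p.Prime]
    (P : Sylow p G) (N : Subgroup G) [N.Normal] (hNP : N.IsComplement' (P : Subgroup G)) :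
    Nat.card {g : G // ∃ k : ℕ, orderOf g = p ^ k} =
      ∑ᶠ x : (P : Subgroup G), Nat.card N / Nat.card ↥(N ⊓ Subgroup.centralizer ({(x : G)} : Set G)) := by
  classical
  have hp : p.Prime := Fact.out
  haveI := Fintype.ofFinite (P : Subgroup G)
  rw [finsum_eq_sum_of_fintype]
  let S : ↥(P : Subgroup G) → Subgroup N := fun x =>
    (Subgroup.centralizer ({(x : G)} : Set G)).subgroupOf N
  have hS : ∀ x : (P : Subgroup G),
      Nat.card N / Nat.card ↥(N ⊓ Subgroup.centralizer ({(x : G)} : Set G)) = Nat.card (N ⧸ S x) := by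
    intro x
    rw [← Nat.card_congr (Subgroup.subgroupOfEquivOfLe (inf_le_left : N ⊓ _ ≤ N)).toEquiv,
      Subgroup.inf_subgroupOf_left, (S x).card_eq_card_quotient_mul_card_subgroup]
    exact Nat.mul_div_cancel _ Nat.card_pos
  rw [Finset.sum_congr rfl fun x _ => hS x, ← Nat.card_sigma]
  symm
  let f : (Σ x : ↥(P : Subgroup G), N ⧸ S x) → {g : G // ∃ k : ℕ, orderOf g = p ^ k} := fun z =>
    ⟨(z.2.out : G) * z.1 * (z.2.out : G)⁻¹, by
      obtain ⟨k, hk⟩ := IsPGroup.iff_orderOf.mp P.2 z.1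
      exact ⟨k, by
        rw [← hk, ← Subgroup.orderOf_coe]
        exact orderOf_injective (MulAut.conj (z.2.out : G)).toMonoidHom (MulAut.conj _).injective _⟩⟩
  refine Nat.card_eq_of_bijective f ⟨?_, ?_⟩
  · rintro ⟨x, c⟩ ⟨x', c'⟩ he
    have he : (c.out : G) * x * (c.out : G)⁻¹ = (c'.out : G) * x' * (c'.out : G)⁻¹ :=
      congrArg Subtype.val he
    have hx : x = x' := by
      have h1 := congrArg (QuotientGroup.mk' N) he
      simp only [map_mul, map_inv] at h1
      rw [show QuotientGroup.mk' N (c.out : G) = 1 from (QuotientGroup.eq_one_iff _).mpr c.out.2,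
        show QuotientGroup.mk' N (c'.out : G) = 1 from (QuotientGroup.eq_one_iff _).mpr c'.out.2,
        one_mul, inv_one, mul_one, one_mul, mul_one] at h1
      have h2 : ((x⁻¹ * x' : (P : Subgroup G)) : G) ∈ N := QuotientGroup.eq.mp h1
      exact inv_mul_eq_one.mp (Subtype.ext (Subgroup.disjoint_def.mp hNP.disjoint h2 (x⁻¹ * x').2))
    subst hx
    have : c = c' := by
      rw [← QuotientGroup.out_eq' c, ← QuotientGroup.out_eq' c', QuotientGroup.eq,
        Subgroup.mem_subgroupOf, Subgroup.mem_centralizer_singleton_iff]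
      have h3 := congrArg (fun t => (c.out : G)⁻¹ * t * (c'.out : G)) he
      push_cast
      simpa [mul_assoc] using h3.symm
    rw [this]
  · rintro ⟨g, k, hk⟩
    obtain ⟨R, hR⟩ := (IsPGroup.of_card (p := p) (n := k) (G := Subgroup.zpowers g)
      (by rw [Nat.card_zpowers, hk])).exists_le_sylow
    obtain ⟨a, ha⟩ := MulAction.exists_smul_eq G P R
    obtain ⟨⟨⟨n, hn⟩, ⟨y, hy⟩⟩, hny⟩ := (hNP.existsUnique a).exists
    have hgR : g ∈ (R : Subgroup G) := hR (Subgroup.mem_zpowers g)
    rw [← ha, Sylow.coe_subgroup_smul] at hgR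
    obtain ⟨w, hw, hwg⟩ := hgR
    set x : (P : Subgroup G) := ⟨y * w * y⁻¹,
      Subgroup.mul_mem _ (Subgroup.mul_mem _ hy hw) (Subgroup.inv_mem _ hy)⟩ with hxdef
    refine ⟨⟨x, ((⟨n, hn⟩ : N) : N ⧸ S x)⟩, Subtype.ext ?_⟩
    obtain ⟨l, hl⟩ := QuotientGroup.mk_out_eq_mul (S x) (⟨n, hn⟩ : N)
    show ((((⟨n, hn⟩ : N) : N ⧸ S x)).out : G) * x * ((((⟨n, hn⟩ : N) : N ⧸ S x)).out : G)⁻¹ = g
    rw [hl]
    have hlc := Subgroup.mem_centralizer_singleton_iff.mp (Subgroup.mem_subgroupOf.mp l.2)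
    have hny' : n * y = a := hny
    calc n * ((l : N) : G) * (x : G) * (n * ((l : N) : G))⁻¹
        = n * (((l : N) : G) * x * ((l : N) : G)⁻¹) * n⁻¹ := by group
      _ = n * (y * w * y⁻¹) * n⁻¹ := by rw [hlc, mul_inv_cancel_right]
      _ = (n * y) * w * (n * y)⁻¹ := by group
      _ = g := by rw [hny']; exact hwg

end Cfsg.Agent.S4093
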