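import Cfsg.Statements.S4097
import Mathlib
import Cfsg.Agent.Lib.FGB.FrobeniusTI
import Cfsg.Agent.Lib.CT.Frobenius

set_option autoImplicit false
open Cfsg

namespace Cfsg.Agent.S4097

open Cfsg.Agent.FGB
open scoped Pointwise IsMulCommutative

universe u

theorem isSolvable_sup_of_le_normalizer {G : Type u} [Group G] {A K : Subgroup G}
    (hA : Group.IsSolvable A) (hK : Group.IsSolvable K) (h : A ≤ Subgroup.normalizer (K : Set G)) :
    Group.IsSolvable (A ⊔ K : Subgroup G) := by
  haveI : (K.subgroupOf (A ⊔ K)).Normal :=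
    (Subgroup.normal_subgroupOf_iff_le_normalizer le_sup_right).mpr (sup_le h Subgroup.le_normalizer)
  rw [Group.isSolvable_iff_subgroup_quotient (K.subgroupOf (A ⊔ K))]
  refine ⟨?_, ?_⟩
  · exact Group.isSolvable_of_isSolvable_injective
      (f := (Subgroup.subgroupOfEquivOfLe (le_sup_right : K ≤ A ⊔ K)).toMonoidHom) (MulEquiv.injective _)
  · let f : A →* (A ⊔ K : Subgroup G) ⧸ K.subgroupOf (A ⊔ K) :=
      (QuotientGroup.mk' _).comp (Subgroup.inclusion le_sup_left)
    refine Group.isSolvable_of_surjective (f := f) ?_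
    intro q
    induction q using QuotientGroup.induction_on with
    | _ z =>
      have hz : (z : G) ∈ ((A : Set G) * (K : Set G)) := by
        rw [← Subgroup.coe_mul_of_left_le_normalizer_right _ _ h]
        exact z.2
      obtain ⟨a, ha, k, hk, hak⟩ := Set.mem_mul.mp hz
      refine ⟨⟨a, ha⟩, QuotientGroup.eq.mpr ?_⟩
      rw [Subgroup.mem_subgroupOf]
      show a⁻¹ * (z : G) ∈ K
      rw [← hak, inv_mul_cancel_left]
      exact hk

theorem main : ∀ (n : ℕ) (G : Type u) [Group G] [Finite G] (A : Subgroup G), Nat.card G = n →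
    Group.IsSolvable A → (∀ S : Subgroup G, A ≤ S → Group.IsSolvable S → ∀ a ∈ A, ∀ s ∈ S, a * s = s * a) →
    A ≤ Subgroup.center G := by
  intro n
  induction n using Nat.strong_induction_on with
  | _ n ih =>
  intro G _ _ A hn hA hc
  classical
  let M := Subgroup.centralizer (A : Set G)
  have hAM : A ≤ M := fun a ha => Subgroup.mem_centralizer_iff.mpr fun b hb => (hc A le_rfl hA b hb a ha)
  have hAabel : ∀ a ∈ A, ∀ b ∈ A, a * b = b * a := fun a ha b hb => hc A le_rfl hA a ha b hb
  by_cases hMtop : M = ⊤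
  · exact Subgroup.centralizer_eq_top_iff_subset.mp hMtop
  exfalso
  have hprop : ∀ H : Subgroup G, A ≤ H → H ≠ ⊤ → H ≤ M := by
    intro H hAH hH
    haveI : Group.IsSolvable (A.subgroupOf H) :=
      Group.isSolvable_of_isSolvable_injective (f := (Subgroup.subgroupOfEquivOfLe hAH).toMonoidHom) (MulEquiv.injective _)
    have hlt : Nat.card H < n := by
      rw [← hn]
      have := H.card_mul_index
      have := Subgroup.one_lt_index_of_ne_top hH
      have : 0 < Nat.card H := Nat.card_pos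
      nlinarith
    have h := ih _ hlt H (A.subgroupOf H) rfl inferInstance (fun S hAS hS a ha s hs => by
      haveI : Group.IsSolvable (S.map H.subtype) :=
        Group.isSolvable_of_surjective (f := H.subtype.subgroupMap S) (H.subtype.subgroupMap_surjective S)
      exact Subtype.ext (hc (S.map H.subtype) (fun x hx => ⟨⟨x, hAH hx⟩, hAS hx, rfl⟩) inferInstance
        a ha s ⟨s, hs, rfl⟩))
    intro x hx
    exact Subgroup.mem_centralizer_iff.mpr fun b hb =>
      (congrArg Subtype.val (Subgroup.mem_center_iff.mp (h (show (⟨b, hAH hb⟩ : H) ∈ A.subgroupOf H from hb)) ⟨x, hx⟩)).symm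
  -- M is not normal, so self-normalising
  have hcentralM : ∀ a ∈ A, ∀ x ∈ M, Commute a x := fun a ha x hx =>
    Subgroup.mem_centralizer_iff.mp hx a ha
  have hNM : Subgroup.normalizer (M : Set G) = M := by
    refine le_antisymm (hprop _ (hAM.trans Subgroup.le_normalizer) fun htop => ?_) Subgroup.le_normalizer
    have hMn : M.Normal := Subgroup.normalizer_eq_top_iff.mp htop
    haveI := hMn
    let K : Subgroup G := (Subgroup.center M).map M.subtype
    haveI : K.Normal := inferInstance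
    have hAK : A ≤ K := fun a ha => ⟨⟨a, hAM ha⟩, Subgroup.mem_center_iff.mpr fun x =>
      Subtype.ext (hcentralM a ha x x.2).symm.eq, rfl⟩
    haveI : Group.IsSolvable K :=
      Group.isSolvable_of_surjective (f := M.subtype.subgroupMap (Subgroup.center M))
        (M.subtype.subgroupMap_surjective _)
    apply hMtop
    rw [eq_top_iff]
    intro g _
    haveI : Group.IsSolvable (Subgroup.zpowers g) := inferInstance
    have hS := isSolvable_sup_of_le_normalizer (A := Subgroup.zpowers g) (K := K) inferInstance inferInstance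
      (by rw [Subgroup.normalizer_eq_top K]; exact le_top)
    exact Subgroup.mem_centralizer_iff.mpr fun a ha =>
      hc _ (hAK.trans le_sup_right) hS a ha g ((le_sup_left : Subgroup.zpowers g ≤ _) (Subgroup.mem_zpowers g))
  let Z := Subgroup.center G
  have hZM : Z ≤ M := Subgroup.center_le_centralizer _
  have hTI : ∀ g : G, g ∉ M → ∀ x ∈ M, g * x * g⁻¹ ∈ M → x ∈ Z := by
    intro g hg x hx hgx
    by_contra hxZ
    have hy : g * x * g⁻¹ ∉ Z := fun h => hxZ (by
      have := (inferInstance : Z.Normal).conj_mem _ h g⁻¹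
      simpa [mul_assoc] using this)
    let C := Subgroup.centralizer ({g * x * g⁻¹} : Set G)
    have hCtop : C ≠ ⊤ := fun h => hy (by
      have := Subgroup.centralizer_eq_top_iff_subset.mp h
      exact this rfl)
    have hAC : A ≤ C := fun a ha => Subgroup.mem_centralizer_singleton_iff.mpr (hcentralM a ha _ hgx).eq
    have hCM := hprop C hAC hCtop
    -- conjugates of A
    have hconjA : ∀ a ∈ A, g * a * g⁻¹ ∈ M := fun a ha => hCM (Subgroup.mem_centralizer_singleton_iff.mpr (by
      calc g * a * g⁻¹ * (g * x * g⁻¹) = g * (a * x) * g⁻¹ := by group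
        _ = g * (x * a) * g⁻¹ := by rw [(hcentralM a ha x hx).eq]
        _ = g * x * g⁻¹ * (g * a * g⁻¹) := by group))
    let M' := M.map (MulAut.conj g).toMonoidHom
    have hAM' : A ≤ M' := by
      intro a ha
      refine ⟨g⁻¹ * a * g, Subgroup.mem_centralizer_iff.mpr fun b hb => ?_, by simp [MulAut.conj_apply, mul_assoc]⟩
      have h := (hcentralM a ha _ (hconjA b hb)).eq
      calc b * (g⁻¹ * a * g) = g⁻¹ * (g * b * g⁻¹ * a) * g := by group
        _ = g⁻¹ * (a * (g * b * g⁻¹)) * g := by rw [h]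
        _ = g⁻¹ * a * g * b := by group
    have hcardM' : Nat.card M' = Nat.card M := Subgroup.card_map_of_injective (MulEquiv.injective _)
    have hM'top : M' ≠ ⊤ := fun h => hMtop (Subgroup.eq_top_of_card_eq _ (by
      rw [← hcardM', h, Subgroup.card_top]))
    have heq : M' = M := Subgroup.eq_of_le_of_card_ge (hprop M' hAM' hM'top) hcardM'.ge
    apply hg
    rw [← hNM, Subgroup.mem_normalizer_iff]
    intro y
    constructor
    · intro hy'
      rw [← heq]
      exact ⟨y, hy', rfl⟩
    · intro hy'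
      rw [← heq] at hy'
      obtain ⟨w, hw, hwy⟩ := hy'
      have : w = y := (MulAut.conj g).injective hwy
      exact this ▸ hw
  -- pass to the quotient by the centre
  let π := QuotientGroup.mk' Z
  have hπsurj : Function.Surjective π := QuotientGroup.mk'_surjective Z
  let Mb := M.map π
  have hMb : ∀ x : G, π x ∈ Mb ↔ x ∈ M := by
    intro x
    refine ⟨fun h => ?_, fun h => ⟨x, h, rfl⟩⟩
    obtain ⟨y, hy, hxy⟩ := h
    have hz : y⁻¹ * x ∈ Z := QuotientGroup.eq.mp hxy
    have := M.mul_mem hy (hZM hz)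
    rwa [mul_inv_cancel_left] at this
  have hπ1 : ∀ x : G, π x = 1 ↔ x ∈ Z := fun x => QuotientGroup.eq_one_iff x
  have hMbTI : IsMalnormalTI Mb := by
    intro g hg x hx hgx
    obtain ⟨g, rfl⟩ := hπsurj g
    obtain ⟨x, rfl⟩ := hπsurj x
    rw [← map_inv, ← map_mul, ← map_mul, hMb] at hgx
    rw [hMb] at hg hx
    exact (hπ1 x).mpr (hTI g hg x hx hgx)
  haveI := Fintype.ofFinite (G ⧸ Z)
  obtain ⟨Kb, hKn, hKcard, hKM, -, hKiff⟩ := Cfsg.Agent.CT.frobenius_kernel (G := G ⧸ Z) (H := Mb)
    (fun g hg s hs hgs => hMbTI g hg s hs hgs)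
  haveI := hKn
  have hco := coprime_card_index_of_malnormal hMbTI
  obtain ⟨a0, ha0, ha0Z⟩ : ∃ a ∈ A, a ∉ Z := by
    by_contra h
    push Not at h
    exact hMtop (Subgroup.centralizer_eq_top_iff_subset.mpr h)
  -- K is non-trivial
  have hKbot : Kb ≠ ⊥ := by
    intro h
    rw [h, Subgroup.card_bot] at hKcard
    have := Subgroup.index_eq_one.mp hKcard.symm
    exact hMtop (eq_top_iff.mpr fun x _ => (hMb x).mp (this ▸ Subgroup.mem_top _))
  obtain ⟨q, hq, hqd⟩ := Nat.exists_prime_and_dvd (n := Nat.card Kb) fun h => hKbot (Subgroup.eq_bot_of_card_eq _ h)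
  haveI := Fact.mk hq
  obtain ⟨R⟩ := (inferInstance : Nonempty (Sylow q Kb))
  let Rb := (R : Subgroup Kb).map Kb.subtype
  let L := Subgroup.normalizer (Rb : Set (G ⧸ Z))
  have hLK : L ⊔ Kb = ⊤ := Sylow.normalizer_sup_eq_top R
  -- a complement of Kb in L is a conjugate of Mb
  obtain ⟨g, hgL⟩ : ∃ g : G ⧸ Z, ∀ m ∈ Mb, g * m * g⁻¹ ∈ L := by
    haveI : (Kb.subgroupOf L).Normal := inferInstance
    have hLidx : (Kb.subgroupOf L).index = Kb.index := by
      show Kb.relIndex L = Kb.index
      rw [← Subgroup.relIndex_top_right, ← hLK, Subgroup.relIndex_sup_right]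
    have hKidx : Kb.index = Nat.card Mb := by
      have h1 := Kb.card_mul_index
      have h2 := Mb.card_mul_index
      rw [hKcard] at h1
      rw [mul_comm] at h2
      exact Nat.eq_of_mul_eq_mul_left (Nat.pos_of_ne_zero Subgroup.index_ne_zero_of_finite) (h1.trans h2.symm)
    have hcop : (Nat.card (Kb.subgroupOf L)).Coprime (Kb.subgroupOf L).index := by
      rw [hLidx, hKidx]
      refine Nat.Coprime.coprime_dvd_left ?_ (hKcard ▸ hco.symm)
      exact Subgroup.card_dvd_of_injective
        (f := { toFun := fun x : Kb.subgroupOf L => (⟨((x : L) : G ⧸ Z), x.2⟩ : Kb), map_one' := rfl, map_mul' := fun _ _ => rfl })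
        (fun a b h => Subtype.ext (Subtype.ext (congrArg (fun z : Kb => (z : G ⧸ Z)) h)))
    obtain ⟨M1, hM1⟩ := Subgroup.exists_right_complement'_of_coprime hcop
    let M1' := M1.map L.subtype
    have hM1card : Nat.card M1' = Nat.card Mb := by
      rw [Subgroup.card_map_of_injective L.subtype_injective]
      have := hM1.index_eq_card
      rw [← hKidx, ← hLidx]
      exact hM1.symm.index_eq_card.symm
    have hM1K : ∀ x ∈ M1', x ∈ Kb → x = 1 := by
      rintro _ ⟨x, hx, rfl⟩ hxK
      have : x ∈ Kb.subgroupOf L ⊓ M1 := ⟨hxK, hx⟩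
      rw [hM1.disjoint.eq_bot, Subgroup.mem_bot] at this
      rw [this, map_one]
    -- M1' is isomorphic to (G/Z)/Kb, as is Mb
    let f1 : M1' →* (G ⧸ Z) ⧸ Kb := (QuotientGroup.mk' Kb).comp M1'.subtype
    let f2 : Mb →* (G ⧸ Z) ⧸ Kb := (QuotientGroup.mk' Kb).comp Mb.subtype
    have hf1 : Function.Injective f1 := (injective_iff_map_eq_one f1).mpr fun x hx =>
      Subtype.ext (hM1K x x.2 ((QuotientGroup.eq_one_iff _).mp hx))
    have hf2 : Function.Injective f2 := (injective_iff_map_eq_one f2).mpr fun x hx => by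
      have : (x : G ⧸ Z) ∈ Kb ⊓ Mb := ⟨(QuotientGroup.eq_one_iff _).mp hx, x.2⟩
      rw [hKM, Subgroup.mem_bot] at this
      exact Subtype.ext this
    have hs1 : Function.Surjective f1 :=
      ((Nat.bijective_iff_injective_and_card f1).mpr ⟨hf1, by rw [hM1card, ← hKidx]; rfl⟩).2
    let ab : Mb := ⟨π a0, ⟨a0, hAM ha0, rfl⟩⟩
    obtain ⟨c, hc'⟩ := hs1 (f2 ab)
    have hab1 : (ab : G ⧸ Z) ≠ 1 := fun h => ha0Z ((hπ1 a0).mp h)
    have hcc : ∀ y : M1', (c : G ⧸ Z) * y = y * c := by
      intro y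
      obtain ⟨m, hm⟩ := ((Nat.bijective_iff_injective_and_card f2).mpr ⟨hf2, by rw [← hKidx]; rfl⟩).2 (f1 y)
      have habm : ab * m = m * ab := by
        obtain ⟨m0, hm0, hm0'⟩ := m.2
        exact Subtype.ext (by
          show π a0 * (m : G ⧸ Z) = (m : G ⧸ Z) * π a0
          rw [← hm0', ← map_mul, ← map_mul, (hcentralM a0 ha0 m0 hm0).eq])
      exact congrArg Subtype.val (hf1 (show f1 (c * y) = f1 (y * c) by
        rw [map_mul, map_mul, hc', ← hm, ← map_mul, ← map_mul, habm]))
    have hc1 : (c : G ⧸ Z) ≠ 1 := by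
      intro h
      have : c = 1 := Subtype.ext h
      rw [this, map_one] at hc'
      exact hab1 (congrArg Subtype.val (hf2 (hc'.symm.trans (map_one f2).symm)))
    -- c lies in some conjugate of Mb
    have hcK : (c : G ⧸ Z) ∉ Kb := fun h => hc1 (hM1K c c.2 h)
    obtain ⟨g, hgc⟩ : ∃ g : G ⧸ Z, g⁻¹ * c * g ∈ Mb := by
      by_contra h
      push Not at h
      exact hcK ((hKiff c).mpr (Or.inr h))
    refine ⟨g, fun m hm => ?_⟩
    -- M1' is contained in g Mb g⁻¹
    have hsub : M1' ≤ Mb.map (MulAut.conj g).toMonoidHom := by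
      intro y hy
      by_contra hyM
      have hyM' : g⁻¹ * y * g ∉ Mb := fun h => hyM ⟨g⁻¹ * y * g, h, by simp [MulAut.conj_apply, mul_assoc]⟩
      have h := hMbTI (g⁻¹ * y * g) hyM' (g⁻¹ * c * g) hgc (by
        have hyc := hcc ⟨y, hy⟩
        have : g⁻¹ * y * g * (g⁻¹ * c * g) * (g⁻¹ * y * g)⁻¹ = g⁻¹ * c * g := by
          calc g⁻¹ * y * g * (g⁻¹ * c * g) * (g⁻¹ * y * g)⁻¹ = g⁻¹ * (y * c) * y⁻¹ * g := by group
            _ = g⁻¹ * (c * y) * y⁻¹ * g := by rw [hyc]
            _ = g⁻¹ * c * g := by group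
        rw [this]
        exact hgc)
      exact hc1 (by
        have := congrArg (fun z => g * z * g⁻¹) h
        simpa [mul_assoc] using this)
    have heq : M1' = Mb.map (MulAut.conj g).toMonoidHom := Subgroup.eq_of_le_of_card_ge hsub
      (by rw [hM1card, Subgroup.card_map_of_injective (MulEquiv.injective _)])
    have : g * m * g⁻¹ ∈ M1' := heq ▸ ⟨m, hm, rfl⟩
    obtain ⟨y, -, hy⟩ := this
    rw [← hy]
    exact y.2
  -- the preimage of the conjugated Sylow subgroup
  let R' := Rb.map (MulAut.conj g⁻¹).toMonoidHom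
  have hR'p : IsPGroup q R' := (R.2.map _).map _
  have hR'K : R' ≤ Kb := by
    rintro _ ⟨_, ⟨y, -, rfl⟩, rfl⟩
    exact hKn.conj_mem _ y.2 _
  have hR'norm : ∀ a ∈ A, π a ∈ Subgroup.normalizer (R' : Set (G ⧸ Z)) := by
    intro a ha
    have h1 := hgL (π a) ⟨a, hAM ha, rfl⟩
    rw [Subgroup.mem_normalizer_iff] at h1 ⊢
    intro y
    have hm : ∀ z : G ⧸ Z, z ∈ R' ↔ g * z * g⁻¹ ∈ Rb := fun z => by
      constructor
      · rintro ⟨w, hw, rfl⟩; simpa [MulAut.conj_apply, mul_assoc] using hw
      · intro h; exact ⟨_, h, by simp [MulAut.conj_apply, mul_assoc]⟩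
    rw [hm, hm, h1 (g * y * g⁻¹)]
    have : g * π a * g⁻¹ * (g * y * g⁻¹) * (g * π a * g⁻¹)⁻¹ = g * (π a * y * (π a)⁻¹) * g⁻¹ := by
      have e : (g * π a * g⁻¹)⁻¹ = g * (π a)⁻¹ * g⁻¹ :=
        inv_eq_of_mul_eq_one_right (by simp [mul_assoc])
      rw [e]
      simp only [mul_assoc, inv_mul_cancel_left]
    rw [this]
  let S0 := R'.comap π
  haveI hS0 : Group.IsSolvable S0 := by
    haveI : Group.IsSolvable R' := @IsNilpotent.to_isSolvable _ _ hR'p.isNilpotent
    exact Group.isSolvable_of_ker_le_range (Subgroup.inclusion (show Z ≤ S0 from fun z hz => by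
        rw [Subgroup.mem_comap, (hπ1 z).mpr hz]; exact one_mem R'))
      (π.subgroupComap R') (fun z hz => ⟨⟨z, (hπ1 z).mp (congrArg Subtype.val hz)⟩, rfl⟩)
  have hAS0 : A ≤ Subgroup.normalizer (S0 : Set G) := by
    intro a ha
    rw [Subgroup.mem_normalizer_iff]
    intro y
    show π y ∈ R' ↔ π (a * y * a⁻¹) ∈ R'
    rw [map_mul, map_mul, map_inv]
    exact Subgroup.mem_normalizer_iff.mp (hR'norm a ha) (π y)
  have hS := isSolvable_sup_of_le_normalizer hA hS0 hAS0
  have hS0M : S0 ≤ M := fun y hy => Subgroup.mem_centralizer_iff.mpr fun a ha =>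
    hc _ le_sup_left hS a ha y ((le_sup_right : S0 ≤ A ⊔ S0) hy)
  have hR'bot : R' = ⊥ := by
    rw [eq_bot_iff]
    intro y hy
    obtain ⟨y, rfl⟩ := hπsurj y
    rw [← hKM]
    exact ⟨hR'K hy, (hMb y).mpr (hS0M hy)⟩
  have hne := R.ne_bot_of_dvd_card hqd
  apply hne
  have h1 : Nat.card R' = Nat.card (R : Subgroup Kb) := by
    rw [Subgroup.card_map_of_injective (MulEquiv.injective _), Subgroup.card_map_of_injective Kb.subtype_injective]
  rw [hR'bot, Subgroup.card_bot] at h1
  exact Subgroup.eq_bot_of_card_eq _ h1.symm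


/-- Let A be a solvable subgroup of a finite group G such that A lies in the centre of every solvable subgroup of G containing A. Then A lies in the centre of G. -/
theorem result {G : Type*} [Group G] [Finite G]
    (A : Subgroup G) (hA : Group.IsSolvable A)
    (hc : ∀ S : Subgroup G, A ≤ S → Group.IsSolvable S → ∀ a ∈ A, ∀ s ∈ S, a * s = s * a) : A ≤ Subgroup.center G := main _ G A rfl hA hc

end Cfsg.Agent.S4097
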