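import Cfsg.Statements.S4105
import Cfsg.Agent.Lib.PiHall23.Final
-- import your own Cfsg.Agent.* helpers here

set_option autoImplicit false
open Cfsg

namespace Cfsg.Agent.S4105

/-- Let G be a finite group, π a set of primes with least member p, m the π-part of the order of G and k the number of conjugacy classes of G consisting of π-elements. If k > m·(p² + p − 1)/p³, then G has an abelian Hall π-subgroup (an abelian subgroup of order m). -/
theorem result {G : Type*} [Group G] [Finite G]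
    (π : Set ℕ) (hπ : ∀ q ∈ π, q.Prime) (p : ℕ) (hp : p ∈ π) (hmin : ∀ q ∈ π, p ≤ q)
    (m : ℕ) (hm : m ∣ Nat.card G) (hmπ : ∀ q : ℕ, q.Prime → q ∣ m → q ∈ π)
    (hm' : ∀ q ∈ π, ¬ q ∣ Nat.card G / m)
    (k : ℕ) (hk : k = Nat.card {C : ConjClasses G // ∀ q : ℕ, q.Prime → (∃ g : G, ConjClasses.mk g = C ∧ q ∣ orderOf g) → q ∈ π})
    (hmany : m * (p ^ 2 + p - 1) < p ^ 3 * k) :
    ∃ H : Subgroup G, Nat.card H = m ∧ IsMulCommutative H := by
  obtain ⟨H, hH, -, h, hq⟩ := Cfsg.Agent.PiHall23.exists_hall π p hmin m hm hmπ hm' k hk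
    (Cfsg.Agent.PiHall23.lt_of_threshold (hπ p hp).two_le hmany)
  have hlt := Cfsg.Agent.PiHall23.commutator_lt_of_many (hπ p hp).two_le hmany h
  refine ⟨H, hH, ?_⟩
  have hc : commutator H = ⊥ := by
    rw [← Subgroup.card_eq_one]
    by_contra hne
    obtain ⟨t, ht, htd⟩ := Nat.exists_prime_and_dvd hne
    have h1 := hq t ht (htd.trans (Subgroup.card_subgroup_dvd_card _))
    have h2 := Nat.le_of_dvd Nat.card_pos htd
    omega
  refine ⟨⟨fun a b => ?_⟩⟩
  have h3 : a * b * a⁻¹ * b⁻¹ ∈ commutator H :=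
    Subgroup.commutator_mem_commutator (Subgroup.mem_top a) (Subgroup.mem_top b)
  rw [hc, Subgroup.mem_bot] at h3
  calc a * b = (a * b * a⁻¹ * b⁻¹) * (b * a) := by group
    _ = b * a := by rw [h3, one_mul]

end Cfsg.Agent.S4105
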