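import Cfsg.Statements.S4106
import Cfsg.Agent.Lib.PiClasses.PiBound

set_option autoImplicit false
open Cfsg

open scoped Pointwise

namespace Cfsg.Agent.S4106

/-- Let G be a finite group, π a set of primes and m the π-part of the order of G. Then the number of conjugacy classes of G consisting of π-elements (elements whose order is divisible only by primes in π) is at most m. -/
theorem result {G : Type*} [Group G] [Finite G]
    (π : Set ℕ) (hπ : ∀ q ∈ π, q.Prime)
    (m : ℕ) (hm : m ∣ Nat.card G) (hmπ : ∀ q : ℕ, q.Prime → q ∣ m → q ∈ π)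
    (hm' : ∀ q ∈ π, ¬ q ∣ Nat.card G / m) :
    Nat.card {C : ConjClasses G // ∀ q : ℕ, q.Prime → (∃ g : G, ConjClasses.mk g = C ∧ q ∣ orderOf g) → q ∈ π} ≤ m := by
  classical
  set S := (Nat.card G).primeFactors.filter (fun q => q ∈ π) with hS
  have hSp : ∀ r ∈ S, r.Prime := fun r hr => Nat.prime_of_mem_primeFactors (Finset.mem_filter.mp hr).1
  refine le_trans (Nat.card_le_card_of_injective
    (β := Cfsg.Agent.PiClasses.piClasses S G) (fun C => ⟨C.1, fun x hx r hr hrx => ?_⟩)
    (fun a b h => Subtype.ext (congrArg (fun c => c.1) h))) ?_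
  · refine Finset.mem_filter.mpr ⟨Nat.mem_primeFactors.mpr
      ⟨hr, hrx.trans (orderOf_dvd_natCard x), Nat.card_pos.ne'⟩, C.2 r hr ⟨x, ?_, hrx⟩⟩
    exact ConjClasses.mem_carrier_iff_mk_eq.mp hx
  refine (Cfsg.Agent.PiClasses.card_piClasses_le_part S hSp G).trans ?_
  have hm0 : m ≠ 0 := fun h0 => Nat.card_pos.ne' (Nat.eq_zero_of_zero_dvd (h0 ▸ hm))
  refine Nat.le_of_dvd (Nat.pos_of_ne_zero hm0) ?_
  have hd : Cfsg.Agent.PiClasses.part S (Nat.card G) ∣ Nat.card G := by
    conv_rhs => rw [← Nat.prod_factorization_pow_eq_self (n := Nat.card G) Nat.card_pos.ne']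
    exact Finset.prod_dvd_prod_of_subset S _ (fun r => r ^ (Nat.card G).factorization r)
      (by rw [Nat.support_factorization]; exact Finset.filter_subset _ _)
  refine (Nat.Coprime.dvd_of_dvd_mul_right ?_ (show _ ∣ m * (Nat.card G / m) by
    rw [Nat.mul_div_cancel' hm]; exact hd))
  refine Nat.Coprime.prod_left fun r hr => Nat.Coprime.pow_left _ ?_
  exact (hSp r hr).coprime_iff_not_dvd.mpr (hm' r (Finset.mem_filter.mp hr).2)

end Cfsg.Agent.S4106
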