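import Cfsg.Statements.S4107
import Cfsg.Agent.Lib.Basics.Cores
-- import your own Cfsg.Agent.* helpers here

set_option autoImplicit false
open Cfsg

namespace Cfsg.Agent.S4107

/-- Let G be a finite group and N a proper non-trivial normal subgroup such that for every x outside N all elements of the coset xN have the same order as x. Then N ≤ F(G) or F(G) ≤ N, where F(G) is the Fitting subgroup; and if N is properly contained in F(G) then F(G) has prime-power order. -/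
theorem result {G : Type*} [Group G] [Finite G] (N : Subgroup G) [N.Normal] (hN1 : N ≠ ⊥) (hN2 : N ≠ ⊤)
    (heq : ∀ x : G, x ∉ N → ∀ n ∈ N, orderOf (x * n) = orderOf x) :
    (N ≤ Cfsg.fittingSubgroup G ∨ Cfsg.fittingSubgroup G ≤ N) ∧
    (N < Cfsg.fittingSubgroup G → IsPrimePow (Nat.card (Cfsg.fittingSubgroup G))) := by
  classical
  have _ := hN2
  have hcase : ∀ p : Nat.Primes, ¬ Cfsg.pCore (p : ℕ) G ≤ N → N ≤ Cfsg.pCore (p : ℕ) G := by
    intro p hle
    haveI : Fact (p : ℕ).Prime := ⟨p.2⟩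
    obtain ⟨f, hf, hfN⟩ := SetLike.not_le_iff_exists.mp hle
    obtain ⟨j, hj⟩ := IsPGroup.iff_orderOf.mp (Basics.pCore_isPGroup (G := G) (p : ℕ)) ⟨f, hf⟩
    rw [Subgroup.orderOf_mk] at hj
    refine Basics.le_pCore fun n => ?_
    have h1 : ((n : G) ^ (p : ℕ) ^ j) ∈ Cfsg.pCore (p : ℕ) G := by
      rw [← QuotientGroup.eq_one_iff, QuotientGroup.mk_pow]
      have h2 : (f * (n : G)) ^ (p : ℕ) ^ j = 1 := by
        rw [← hj, ← heq f hfN n n.2]; exact pow_orderOf_eq_one _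
      have h3 := congrArg (QuotientGroup.mk' (Cfsg.pCore (p : ℕ) G)) h2
      rw [map_pow, map_mul, map_one] at h3
      rw [show (QuotientGroup.mk' (Cfsg.pCore (p : ℕ) G)) f = 1 from (QuotientGroup.eq_one_iff f).mpr hf, one_mul] at h3
      exact h3
    obtain ⟨i, hi⟩ := IsPGroup.iff_orderOf.mp (Basics.pCore_isPGroup (G := G) (p : ℕ)) ⟨_, h1⟩
    rw [Subgroup.orderOf_mk] at hi
    refine ⟨j + i, Subtype.ext ?_⟩
    show (n : G) ^ (p : ℕ) ^ (j + i) = 1
    rw [pow_add, pow_mul, ← hi, pow_orderOf_eq_one]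
  have hF := Basics.fittingSubgroup_eq_iSup_pCore (G := G)
  by_cases hall : ∀ p : Nat.Primes, Cfsg.pCore (p : ℕ) G ≤ N
  · have hle : Cfsg.fittingSubgroup G ≤ N := hF.le.trans (iSup_le hall)
    exact ⟨Or.inr hle, fun hlt => absurd (hlt.trans_le hle) (lt_irrefl N)⟩
  push Not at hall
  obtain ⟨p, hp⟩ := hall
  have hNp := hcase p hp
  haveI : Fact (p : ℕ).Prime := ⟨p.2⟩
  have hsub : N ≤ Cfsg.fittingSubgroup G := hNp.trans (Basics.pCore_le_fittingSubgroup (p : ℕ))
  refine ⟨Or.inl hsub, fun _ => ?_⟩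
  have hother : ∀ q : Nat.Primes, q ≠ p → Cfsg.pCore (q : ℕ) G ≤ Cfsg.pCore (p : ℕ) G := by
    intro q hqp
    haveI : Fact (q : ℕ).Prime := ⟨q.2⟩
    have hd := IsPGroup.disjoint_of_ne (p : ℕ) (q : ℕ) (fun h => hqp (Subtype.ext h.symm)) (Cfsg.pCore (p : ℕ) G) (Cfsg.pCore (q : ℕ) G)
      (Basics.pCore_isPGroup _) (Basics.pCore_isPGroup _)
    by_cases hq : Cfsg.pCore (q : ℕ) G ≤ N
    · exact hq.trans hNp
    · exact absurd (le_bot_iff.mp ((le_inf hNp (hcase q hq)).trans hd.le_bot)) hN1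
  have heqF : Cfsg.fittingSubgroup G = Cfsg.pCore (p : ℕ) G := by
    refine le_antisymm (hF.le.trans (iSup_le fun q => ?_)) (Basics.pCore_le_fittingSubgroup (p : ℕ))
    rcases eq_or_ne q p with rfl | h
    · exact le_rfl
    · exact hother q h
  obtain ⟨k, hk⟩ := (Basics.pCore_isPGroup (G := G) (p : ℕ)).exists_card_eq
  rw [heqF, hk]
  refine p.2.isPrimePow.pow ?_
  rintro rfl
  rw [pow_zero, Subgroup.card_eq_one] at hk
  exact hN1 (le_bot_iff.mp (hk ▸ hNp))
end Cfsg.Agent.S4107
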