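import Cfsg.Statements.S4108
-- import your own Cfsg.Agent.* helpers here

set_option autoImplicit false
open Cfsg

namespace Cfsg.Agent.S4108

/-- Let G be a finite group, p a prime and N a proper non-trivial normal p-subgroup such that for every x outside N all elements of the coset xN have the same order as x. Then every non-trivial subgroup H of G of order prime to p acts fixed-point-freely on N: NH is a Frobenius group with complement H and kernel N. -/
theorem result {G : Type*} [Group G] [Finite G] (N : Subgroup G) [N.Normal] (hN1 : N ≠ ⊥) (hN2 : N ≠ ⊤)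
    (heq : ∀ x : G, x ∉ N → ∀ n ∈ N, orderOf (x * n) = orderOf x)
    (p : ℕ) [Fact p.Prime] (hNp : IsPGroup p N) :
    ∀ H : Subgroup G, H ≠ ⊥ → (Nat.card H).Coprime p →
      Cfsg.IsFrobeniusComplement (H.subgroupOf (N ⊔ H)) ∧ Cfsg.frobeniusKernel (H.subgroupOf (N ⊔ H)) = (N.subgroupOf (N ⊔ H) : Set ↥(N ⊔ H)) := by
  classical
  intro H hH1 hHc
  have hfpf : ∀ h ∈ H, h ≠ 1 → ∀ n ∈ N, h * n = n * h → n = 1 := by
    intro h hh hh1 n hn hc
    obtain ⟨k, hk⟩ := IsPGroup.iff_orderOf.mp hNp ⟨n, hn⟩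
    rw [Subgroup.orderOf_mk] at hk
    have hcop : (orderOf h).Coprime (orderOf n) := by
      rw [hk]
      refine Nat.Coprime.pow_right k (Nat.Coprime.coprime_dvd_left ?_ hHc)
      rw [← Subgroup.orderOf_mk h hh]; exact orderOf_dvd_natCard _
    have hhN : h ∉ N := fun hhN => hh1 (by
      obtain ⟨j, hj⟩ := IsPGroup.iff_orderOf.mp hNp ⟨h, hhN⟩
      rw [Subgroup.orderOf_mk] at hj
      refine orderOf_eq_one_iff.mp (Nat.eq_one_of_dvd_coprimes (hHc.pow_right j) ?_ hj.dvd)
      rw [← Subgroup.orderOf_mk h hh]; exact orderOf_dvd_natCard _)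
    have h1 := heq h hhN n hn
    rw [(show Commute h n from hc).orderOf_mul_eq_mul_orderOf_of_coprime hcop] at h1
    exact orderOf_eq_one_iff.mp ((Nat.mul_eq_left (orderOf_pos h).ne').mp h1)
  have hdisj : ∀ x ∈ H, x ∈ N → x = 1 := by
    intro x hx hxN
    obtain ⟨j, hj⟩ := IsPGroup.iff_orderOf.mp hNp ⟨x, hxN⟩
    rw [Subgroup.orderOf_mk] at hj
    refine orderOf_eq_one_iff.mp (Nat.eq_one_of_dvd_coprimes (hHc.pow_right j) ?_ hj.dvd)
    rw [← Subgroup.orderOf_mk x hx]; exact orderOf_dvd_natCard _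
  have hdec : ∀ g ∈ N ⊔ H, ∃ n ∈ N, ∃ h ∈ H, g = n * h := by
    intro g hg
    rw [← SetLike.mem_coe, Subgroup.normal_mul] at hg
    obtain ⟨n, hn, h, hh, rfl⟩ := hg
    exact ⟨n, hn, h, hh, rfl⟩
  set T := N ⊔ H with hT
  refine ⟨⟨?_, ?_, ?_⟩, ?_⟩
  · rw [Ne, Subgroup.subgroupOf_eq_bot, disjoint_iff, inf_eq_left.mpr le_sup_right]
    exact hH1
  · rw [Ne, Subgroup.subgroupOf_eq_top]
    intro hle
    exact hN1 ((Subgroup.eq_bot_iff_forall N).mpr fun x hx => hdisj x (hle (Subgroup.mem_sup_left hx)) hx)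
  · intro g hg
    rw [Subgroup.eq_bot_iff_forall]
    rintro ⟨x, hxT⟩ ⟨hx, hxg⟩
    replace hxg := Subgroup.mem_pointwise_smul_iff_inv_smul_mem.mp hxg
    obtain ⟨n, hn, h, hh, hgnh⟩ := hdec g.1 g.2
    refine Subtype.ext ?_
    show x = 1
    by_contra hx1
    have hxH : x ∈ H := hx
    have hy : g.1⁻¹ * x * g.1 ∈ H := by
      have := Subgroup.mem_subgroupOf.mp hxg
      simpa [mul_assoc] using this
    have hy2 : n⁻¹ * x * n ∈ H := by
      rw [hgnh] at hy
      have := H.mul_mem (H.mul_mem hh hy) (H.inv_mem hh)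
      simpa [mul_assoc] using this
    have hc : n⁻¹ * x * n * x⁻¹ = 1 := by
      refine hdisj _ (H.mul_mem hy2 (H.inv_mem hxH)) ?_
      have h1 : x * n * x⁻¹ ∈ N := Subgroup.Normal.conj_mem inferInstance n hn x
      have h2 : n⁻¹ * x * n * x⁻¹ = n⁻¹ * (x * n * x⁻¹) := by group
      rw [h2]; exact N.mul_mem (N.inv_mem hn) h1
    have hcomm : x * n = n * x := by
      have := congrArg (fun t => n * t * x) hc
      simpa [mul_assoc] using this
    apply hg
    rw [Subgroup.mem_subgroupOf, hgnh, hfpf x hxH hx1 n hn hcomm, one_mul]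
    exact hh
  · ext ⟨x, hxT⟩
    simp only [Cfsg.frobeniusKernel, Set.mem_setOf_eq, SetLike.mem_coe, Subgroup.mem_subgroupOf]
    constructor
    · rintro (h1 | hout)
      · rw [show x = 1 from congrArg Subtype.val h1]; exact N.one_mem
      obtain ⟨n, hn, h, hh, rfl⟩ := hdec x hxT
      by_contra hxN
      have hh1 : h ≠ 1 := fun h1 => hxN (by rw [h1, mul_one]; exact hn)
      -- every element of `N h` is conjugate to `h`
      haveI := Fintype.ofFinite N
      let f : N → N := fun m => ⟨m * (h * (m : G)⁻¹ * h⁻¹),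
        N.mul_mem m.2 (Subgroup.Normal.conj_mem inferInstance _ (N.inv_mem m.2) h)⟩
      have hf : Function.Injective f := by
        intro a b hab
        have hab' : (a : G) * (h * (a : G)⁻¹ * h⁻¹) = (b : G) * (h * (b : G)⁻¹ * h⁻¹) := congrArg Subtype.val hab
        have h2 : h * ((a : G)⁻¹ * b) = ((a : G)⁻¹ * b) * h := by
          have := congrArg (fun t => (a : G)⁻¹ * t * (h * (b : G))) hab'
          simpa [mul_assoc] using this
        exact Subtype.ext (inv_mul_eq_one.mp (hfpf h hh hh1 _ (N.mul_mem (N.inv_mem a.2) b.2) h2))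
      obtain ⟨m, hm⟩ := (Finite.injective_iff_surjective.mp hf) ⟨n, hn⟩
      have hm' : (m : G) * (h * (m : G)⁻¹ * h⁻¹) = n := congrArg Subtype.val hm
      refine hout ⟨(m : G), Subgroup.mem_sup_left m.2⟩ ?_
      rw [Subgroup.mem_pointwise_smul_iff_inv_smul_mem, Subgroup.mem_subgroupOf]
      simp [← hm', mul_assoc, hh]
    · intro hxN
      by_cases h1 : x = 1
      · exact Or.inl (Subtype.ext h1)
      refine Or.inr fun g hmem => h1 ?_
      rw [Subgroup.mem_pointwise_smul_iff_inv_smul_mem, Subgroup.mem_subgroupOf] at hmem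
      have h2 : g.1⁻¹ * x * g.1 ∈ N := by simpa using Subgroup.Normal.conj_mem inferInstance x hxN g.1⁻¹
      have h3 := hdisj (g.1⁻¹ * x * g.1) (by simpa [mul_assoc] using hmem) h2
      have := congrArg (fun t => g.1 * t * g.1⁻¹) h3
      simpa [mul_assoc] using this

end Cfsg.Agent.S4108
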