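import Cfsg.Statements.S4112
import Cfsg.Agent.Lib.Transfer.Residual
-- import your own Cfsg.Agent.* helpers here

set_option autoImplicit false
open Cfsg

namespace Cfsg.Agent.S4112

/-- Let G be a finite group and M ≤ N non-trivial proper normal subgroups such that for every g outside N the conjugacy class of g is a union of cosets of M (equivalently gm is conjugate to g for every m ∈ M). Then (1) and (2) below are equivalent, and they imply (3): (1) every g outside N acts fixed-point-freely on M, that is C_G(x) ≤ N for every x ∈ M, x ≠ 1; (2) the index of N in G is coprime to the order of M; (3) there is a subgroup H of G with HN = G and H ∩ M = 1. -/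
theorem result {G : Type*} [Group G] [Finite G] (N M : Subgroup G) [N.Normal] [M.Normal] (hMN : M ≤ N) (hM1 : M ≠ ⊥) (hN2 : N ≠ ⊤)
    (hcam : ∀ g : G, g ∉ N → ∀ m ∈ M, ∃ x : G, x * g * x⁻¹ = g * m) :
    ((∀ x ∈ M, x ≠ 1 → Subgroup.centralizer ({x} : Set G) ≤ N) ↔ N.index.Coprime (Nat.card M)) ∧
    ((∀ x ∈ M, x ≠ 1 → Subgroup.centralizer ({x} : Set G) ≤ N) → ∃ H : Subgroup G, H ⊔ N = ⊤ ∧ H ⊓ M = ⊥) := by
  classical
  have hA : (∀ x ∈ M, x ≠ 1 → Subgroup.centralizer ({x} : Set G) ≤ N) → N.index.Coprime (Nat.card M) := by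
    intro h
    refine Nat.coprime_of_dvd fun p hp hpi hpM => ?_
    haveI := Fact.mk hp
    obtain ⟨m, hm⟩ := exists_prime_orderOf_dvd_card' (G := M) p hpM
    obtain ⟨P, hP⟩ := (IsPGroup.of_card (p := p) (n := 1) (G := Subgroup.zpowers (m : G))
      (by rw [Nat.card_zpowers, Subgroup.orderOf_coe, hm, pow_one])).exists_le_sylow
    haveI : Group.IsNilpotent (P : Subgroup G) := P.2.isNilpotent
    set D := M.subgroupOf (P : Subgroup G) with hD
    have hD1 : D ≠ ⊥ := by
      intro hb
      have : (⟨(m : G), hP (Subgroup.mem_zpowers _)⟩ : (P : Subgroup G)) ∈ D := m.2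
      rw [hb, Subgroup.mem_bot] at this
      have h1 : m = 1 := Subtype.ext (by simpa using congrArg Subtype.val this)
      rw [h1, orderOf_one] at hm
      exact hp.one_lt.ne hm
    obtain ⟨z, hzD, hzZ, hz1⟩ : ∃ z, z ∈ D ∧ z ∈ Subgroup.center (P : Subgroup G) ∧ z ≠ 1 := by
      haveI : D.Normal := inferInstanceAs (M.subgroupOf (P : Subgroup G)).Normal
      have hpD : p ∣ Nat.card D := by
        obtain ⟨n, hn⟩ := (P.2.to_subgroup D).exists_card_eq
        rcases n with _ | n
        · exact absurd (Subgroup.card_eq_one.mp (by rw [hn, pow_zero])) hD1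
        · exact hn ▸ dvd_pow_self p (Nat.succ_ne_zero n)
      obtain ⟨b, hb, hb1⟩ := (P.2.of_equiv ConjAct.toConjAct).exists_fixed_point_of_prime_dvd_card_of_fixed_point
        D hpD (a := (1 : D)) (fun g => smul_one g)
      refine ⟨b, b.2, Subgroup.mem_center_iff.mpr fun g => ?_, fun hh => hb1 (Subtype.ext hh.symm)⟩
      have h2 : g * (b : (P : Subgroup G)) * g⁻¹ = b := congrArg Subtype.val (hb (ConjAct.toConjAct g))
      exact mul_inv_eq_iff_eq_mul.mp h2
    have hPN : (P : Subgroup G) ≤ N := by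
      refine le_trans ?_ (h z hzD (fun hh => hz1 (Subtype.ext hh)))
      intro g hg
      rw [Subgroup.mem_centralizer_singleton_iff]
      exact congrArg Subtype.val (Subgroup.mem_center_iff.mp hzZ ⟨g, hg⟩)
    exact P.not_dvd_index (hpi.trans (Subgroup.index_dvd_of_le hPN))
  have hB : N.index.Coprime (Nat.card M) → ∀ x ∈ M, x ≠ 1 → Subgroup.centralizer ({x} : Set G) ≤ N := by
    intro h x hxM hx1 g hg
    by_contra hgN
    obtain ⟨q, hq, hqd⟩ := Nat.exists_prime_and_dvd (show orderOf (g : G ⧸ N) ≠ 1 from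
      fun h1 => hgN ((QuotientGroup.eq_one_iff g).mp (orderOf_eq_one_iff.mp h1)))
    haveI := Fact.mk hq
    have hqM : ¬ q ∣ Nat.card M := fun h' => hq.not_dvd_one (h ▸ Nat.dvd_gcd (hqd.trans (by
      rw [Subgroup.index_eq_card]; exact _root_.orderOf_dvd_natCard _)) h')
    obtain ⟨a, b, ha, hb, hab, ⟨k, hak⟩, hbc⟩ := Transfer.exists_pPart_mul (p := q) g
    have haN : a ∉ N := by
      intro haN
      rw [← hab, QuotientGroup.mk_mul, (QuotientGroup.eq_one_iff a).mpr haN, one_mul] at hqd
      exact hq.not_dvd_one (hbc ▸ Nat.dvd_gcd (hqd.trans (orderOf_map_dvd (QuotientGroup.mk' N) b)) dvd_rfl)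
    have hax : Commute a x := by
      obtain ⟨j, rfl⟩ := ha
      exact (show Commute g x from Subgroup.mem_centralizer_singleton_iff.mp hg).zpow_left j
    have hcop : (orderOf a).Coprime (orderOf x) := by
      refine Nat.Coprime.coprime_dvd_left hak (Nat.Coprime.pow_left _ ?_)
      refine hq.coprime_iff_not_dvd.mpr fun hd => hqM (hd.trans ?_)
      rw [← Subgroup.orderOf_mk x hxM]
      exact _root_.orderOf_dvd_natCard _
    obtain ⟨y, hy⟩ := hcam a haN x hxM
    have h1 := orderOf_injective (MulAut.conj y).toMonoidHom (MulAut.conj y).injective a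
    rw [show (MulAut.conj y).toMonoidHom a = a * x from hy, hax.orderOf_mul_eq_mul_orderOf_of_coprime hcop] at h1
    exact hx1 (orderOf_eq_one_iff.mp ((mul_eq_left₀ (orderOf_pos a).ne').mp h1))
  have _ := hM1
  have _ := hN2
  refine ⟨⟨hA, hB⟩, fun h => ?_⟩
  have hcop := hA h
  obtain ⟨H, hH, hmin⟩ := WellFounded.has_min (wellFounded_lt (α := Subgroup G))
    {H : Subgroup G | H ⊔ N = ⊤} ⟨⊤, top_sup_eq _⟩
  refine ⟨H, hH, ?_⟩
  rw [← Subgroup.card_eq_one]
  by_contra hne
  obtain ⟨p, hp, hpd⟩ := Nat.exists_prime_and_dvd hne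
  haveI := Fact.mk hp
  have hpi : ¬ p ∣ (N.subgroupOf H).index := fun hd => hp.not_dvd_one (hcop ▸ Nat.dvd_gcd
    (hd.trans (Subgroup.relIndex_dvd_index_of_normal N H)) (hpd.trans (Subgroup.card_dvd_of_le inf_le_right)))
  -- a Sylow subgroup inside `H ∩ N` is normal in `H`
  set K := N.subgroupOf H with hK
  obtain ⟨P⟩ : Nonempty (Sylow p K) := inferInstance
  have hfr : Subgroup.normalizer (((P : Subgroup K).map K.subtype : Subgroup H) : Set H) ⊔ K = ⊤ :=
    Sylow.normalizer_sup_eq_top P
  set P0 := (P : Subgroup K).map K.subtype with hP0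
  set T := Subgroup.normalizer (P0 : Set H) with hT
  have hTtop : ∀ T : Subgroup H, T ⊔ K = ⊤ → T = ⊤ := by
    intro T hTK
    by_contra hT'
    refine hmin (T.map H.subtype) ?_ (lt_of_le_of_ne (Subgroup.map_subtype_le T) fun he => hT' ?_)
    · show T.map H.subtype ⊔ N = ⊤
      rw [eq_top_iff]
      conv_lhs => rw [← hH]
      refine sup_le ?_ le_sup_right
      intro z hz
      have h1 : T ⊔ K ≤ (T.map H.subtype ⊔ N).comap H.subtype :=
        sup_le (fun w hw => Subgroup.mem_sup_left ⟨w, hw, rfl⟩) (fun w hw => Subgroup.mem_sup_right hw)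
      rw [hTK] at h1
      exact h1 (Subgroup.mem_top (⟨z, hz⟩ : H))
    · rw [eq_top_iff]
      intro z _
      obtain ⟨w, hw, hwz⟩ := (he.symm ▸ z.2 : (z : G) ∈ T.map H.subtype)
      exact Subtype.ext hwz ▸ hw
  haveI hP0n : P0.Normal := Subgroup.normalizer_eq_top_iff.mp (hTtop T hfr)
  have hP0card : Nat.card P0 = p ^ (Nat.card K).factorization p := by
    rw [hP0, Subgroup.card_map_of_injective K.subtype_injective, P.card_eq_multiplicity]
  have hidx : ¬ p ∣ P0.index := by
    intro hd
    rw [← Subgroup.relIndex_mul_index (Subgroup.map_subtype_le (P : Subgroup K))] at hd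
    rcases hp.dvd_mul.mp hd with hd | hd
    · refine P.not_dvd_index ?_
      rwa [Subgroup.relIndex, Subgroup.subgroupOf, Subgroup.comap_map_eq_self_of_injective K.subtype_injective] at hd
    · exact hpi hd
  obtain ⟨Q, hQ⟩ := Subgroup.exists_right_complement'_of_coprime (N := P0) (by
    rw [hP0card]; exact Nat.Coprime.pow_left _ (hp.coprime_iff_not_dvd.mpr hidx))
  have hQtop : Q = ⊤ := hTtop Q (eq_top_iff.mpr (by
    rw [← hQ.sup_eq_top]; exact sup_le ((Subgroup.map_subtype_le (P : Subgroup K)).trans le_sup_right) le_sup_left))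
  have hP01 : Nat.card P0 = 1 := by
    have := hQ.card_mul
    rw [hQtop, Subgroup.card_top] at this
    exact (mul_eq_right₀ Nat.card_pos.ne').mp this
  have hpK : p ∣ Nat.card K := by
    refine hpd.trans ?_
    have : Nat.card ((H ⊓ M).subgroupOf H) = Nat.card (H ⊓ M : Subgroup G) :=
      Nat.card_congr (Subgroup.subgroupOfEquivOfLe inf_le_left).toEquiv
    rw [← this]
    exact Subgroup.card_dvd_of_le fun w hw => hMN hw.2
  rw [hP0card] at hP01
  have := (Nat.pow_eq_one.mp hP01).resolve_left hp.ne_one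
  exact (hp.factorization_pos_of_dvd Nat.card_pos.ne' hpK).ne' this

end Cfsg.Agent.S4112
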