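import Cfsg.Statements.S4113
-- import your own Cfsg.Agent.* helpers here

set_option autoImplicit false
open Cfsg

namespace Cfsg.Agent.S4113

/-- Let G be a finite group, M ≤ N non-trivial proper normal subgroups, and H a subgroup with HM = G and H ∩ M = 1. Then every element of G outside N acts fixed-point-freely on M (C_G(x) ≤ N for every x ∈ M, x ≠ 1) if and only if H ∩ gHg⁻¹ ≤ H ∩ N for every g outside H, with H proper and non-trivial and H ∩ N proper in H. -/
theorem result {G : Type*} [Group G] [Finite G] (N M : Subgroup G) [N.Normal] [M.Normal] (hMN : M ≤ N) (hM1 : M ≠ ⊥) (hN2 : N ≠ ⊤)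
    (H : Subgroup G) (hHM : H ⊔ M = ⊤) (hHM' : H ⊓ M = ⊥) :
    (∀ x ∈ M, x ≠ 1 → Subgroup.centralizer ({x} : Set G) ≤ N) ↔
      (H ≠ ⊥ ∧ H ≠ ⊤ ∧ H ⊓ N < H ∧ ∀ g : G, g ∉ H → H ⊓ H.map (MulAut.conj g).toMonoidHom ≤ N) := by
  classical
  have hdec : ∀ g : G, ∃ h ∈ H, ∃ m ∈ M, g = h * m := by
    intro g
    have h1 : g ∈ ((H ⊔ M : Subgroup G) : Set G) := by rw [hHM]; trivial
    rw [Subgroup.mul_normal] at h1
    obtain ⟨h, hh, m, hm, he⟩ := h1
    exact ⟨h, hh, m, hm, he.symm⟩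
  have hHN : ¬ H ≤ N := fun hle => hN2 (top_le_iff.mp (hHM ▸ sup_le hle hMN))
  constructor
  · intro hf
    refine ⟨fun h => hHN (h ▸ bot_le), fun h => hM1 ?_, lt_of_le_of_ne inf_le_left fun h => hHN (inf_eq_left.mp h), ?_⟩
    · rw [h, top_inf_eq] at hHM'; exact hHM'
    intro g hg y hy
    obtain ⟨hyH, w, hw, hwy⟩ := hy
    obtain ⟨h, hh, m, hm, rfl⟩ := hdec g
    have hm1 : m ≠ 1 := fun h1 => hg (by rw [h1, mul_one]; exact hh)
    set y' := h⁻¹ * y * h with hy'
    have hy'H : y' ∈ H := H.mul_mem (H.mul_mem (H.inv_mem hh) hyH) hh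
    have hwm : m * w * m⁻¹ = y' := by
      have hwy' : h * m * w * (h * m)⁻¹ = y := hwy
      rw [hy', ← hwy']; group
    have hc : y' * w⁻¹ ∈ H ⊓ M := by
      refine ⟨H.mul_mem hy'H (H.inv_mem hw), ?_⟩
      rw [SetLike.mem_coe, ← hwm, show m * w * m⁻¹ * w⁻¹ = m * (w * m⁻¹ * w⁻¹) by group]
      exact M.mul_mem hm (Subgroup.Normal.conj_mem inferInstance _ (M.inv_mem hm) w)
    rw [hHM', Subgroup.mem_bot, mul_inv_eq_one] at hc
    have hcm : y' ∈ Subgroup.centralizer ({m} : Set G) := by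
      rw [Subgroup.mem_centralizer_singleton_iff]
      rw [← hc] at hwm
      exact (mul_inv_eq_iff_eq_mul.mp hwm).symm
    have hN' := Subgroup.Normal.conj_mem inferInstance _ (hf m hm hm1 hcm) h
    simpa [hy', mul_assoc] using hN'
  · rintro ⟨-, -, -, hH⟩ x hx hx1 y hy
    obtain ⟨h, hh, m, hm, rfl⟩ := hdec y
    by_contra hyN
    have hhN : h ∉ N := fun hhN => hyN (mul_mem hhN (hMN hm))
    have hfpf : ∀ u ∈ M, h * u = u * h → u = 1 := by
      intro u hu hc
      by_contra hu1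
      refine hhN (hH u (fun huH => hu1 ?_) ⟨hh, h, hh, ?_⟩)
      · exact Subgroup.mem_bot.mp (hHM' ▸ ⟨huH, hu⟩)
      · show u * h * u⁻¹ = h
        rw [← hc, mul_inv_cancel_right]
    haveI := Fintype.ofFinite M
    let f : M → M := fun u => ⟨h⁻¹ * u * h * u⁻¹, M.mul_mem (by simpa using Subgroup.Normal.conj_mem inferInstance _ u.2 h⁻¹) (M.inv_mem u.2)⟩
    have hf : Function.Injective f := by
      intro a b hab
      have hab' : h⁻¹ * (a : G) * h * (a : G)⁻¹ = h⁻¹ * (b : G) * h * (b : G)⁻¹ := congrArg Subtype.val hab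
      have h2 : h * ((a : G)⁻¹ * b) = ((a : G)⁻¹ * b) * h := by
        have h3 := congrArg (fun t => (a : G)⁻¹ * (h * t) * b) hab'
        simpa [mul_assoc] using h3
      exact Subtype.ext (inv_mul_eq_one.mp (hfpf _ (M.mul_mem (M.inv_mem a.2) b.2) h2))
    obtain ⟨u, hu⟩ := (Finite.injective_iff_surjective.mp hf) ⟨m, hm⟩
    have hu' : h⁻¹ * (u : G) * h * (u : G)⁻¹ = m := congrArg Subtype.val hu
    have hy' := Subgroup.mem_centralizer_singleton_iff.mp hy
    rw [← hu', show h * (h⁻¹ * (u : G) * h * (u : G)⁻¹) = u * h * (u : G)⁻¹ by group] at hy'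
    have h4 : h * ((u : G)⁻¹ * x * u) = ((u : G)⁻¹ * x * u) * h := by
      have h5 := congrArg (fun t => (u : G)⁻¹ * t * u) hy'
      simpa [mul_assoc] using h5
    have h6 := hfpf _ (by simpa using Subgroup.Normal.conj_mem inferInstance _ hx (u : G)⁻¹) h4
    exact hx1 ((conj_eq_one_iff (a := (u : G)⁻¹)).mp (by rwa [inv_inv]))

end Cfsg.Agent.S4113
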