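import Cfsg.Statements.S4116


set_option autoImplicit false
open Cfsg

open scoped Pointwise

namespace Cfsg.Agent.S4116

/-- Let G be a finite group with a subgroup H whose order is coprime to its index (a Hall subgroup) and which meets each of its conjugates by elements outside N_G(H) trivially. Then every subgroup of G whose order is divisible only by primes dividing the order of H lies in a conjugate of H. -/
theorem result {G : Type*} [Group G] [Finite G] (H : Subgroup G)
    (hHall : (Nat.card H).Coprime H.index) (hTI : Cfsg.IsTISubset (H : Set G))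
    (K : Subgroup G) (hK : ∀ q : ℕ, q.Prime → q ∣ Nat.card K → q ∣ Nat.card H) :
    ∃ g : G, K ≤ H.map (MulAut.conj g).toMonoidHom := by
  classical
  obtain ⟨a, ha⟩ : ∃ a : G, a = 1 := ⟨1, rfl⟩
  set conjH : G → Subgroup G := fun g => H.map (MulAut.conj g).toMonoidHom
  have hmem : ∀ g x, x ∈ conjH g ↔ g⁻¹ * x * g ∈ H := fun g x => by
    constructor
    · rintro ⟨y, hy, rfl⟩; simpa [mul_assoc] using hy
    · intro hx; exact ⟨_, hx, by simp [mul_assoc]⟩
  -- TI for conjugates
  have hti : ∀ g k x, x ∈ conjH g → x ∈ conjH k → x ≠ 1 → conjH g = conjH k := by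
    intro g k x hg hk hx
    rw [hmem] at hg hk
    have hn : k⁻¹ * g ∈ Subgroup.normalizer (H : Set G) := by
      by_contra hn
      have h1 := hTI _ hn (g⁻¹ * x * g) hg (by simpa [mul_assoc] using hk)
      apply hx
      have := congrArg (fun t => g * t * g⁻¹) h1
      simpa [mul_assoc] using this
    ext y
    rw [hmem, hmem, Subgroup.mem_normalizer_iff.mp hn (g⁻¹ * y * g)]
    simp [mul_assoc]
  -- a `π`-element normalising a conjugate lies in it
  have hnorm : ∀ g x, (∀ q : ℕ, q.Prime → q ∣ orderOf x → q ∣ Nat.card H) →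
      (∀ y, y ∈ conjH g → x * y * x⁻¹ ∈ conjH g) → x ∈ conjH g := by
    intro g x hx hn
    set z := g⁻¹ * x * g with hz
    have hzo : orderOf z = orderOf x := by
      have h := orderOf_injective (MulAut.conj g⁻¹).toMonoidHom (MulAut.conj g⁻¹).injective x
      simpa [hz] using h
    have hzN : ∀ y ∈ H, z * y * z⁻¹ ∈ H := by
      intro y hy
      have h1 := hn (g * y * g⁻¹) (by rw [hmem]; simpa [mul_assoc] using hy)
      rw [hmem] at h1
      simpa [hz, mul_assoc] using h1
    have hzN' : z ∈ Subgroup.normalizer (H : Set G) := by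
      have hmapz : H.map (MulAut.conj z).toMonoidHom = H :=
        Subgroup.eq_of_le_of_card_ge (by rintro _ ⟨y, hy, rfl⟩; exact hzN y hy)
          (Subgroup.card_map_of_injective (MulAut.conj z).injective).ge
      rw [Subgroup.mem_normalizer_iff]
      intro y
      refine ⟨hzN y, fun hy => ?_⟩
      obtain ⟨w, hw, hwy⟩ := hmapz.ge hy
      have : w = y := (MulAut.conj z).injective hwy
      exact this ▸ hw
    rw [hmem, ← hz]
    set N := Subgroup.normalizer (H : Set G)
    haveI : (H.subgroupOf N).Normal := Subgroup.normal_in_normalizer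
    have hz1 : ((⟨z, hzN'⟩ : N) : N ⧸ H.subgroupOf N) = 1 := by
      rw [← orderOf_eq_one_iff]
      by_contra hne
      obtain ⟨q, hq, hqd⟩ := Nat.exists_prime_and_dvd hne
      have h1 : q ∣ orderOf x := by
        rw [← hzo, ← Subgroup.orderOf_mk z hzN']
        exact hqd.trans (orderOf_map_dvd (QuotientGroup.mk' _) _)
      have h2 : q ∣ H.index :=
        hqd.trans ((orderOf_dvd_natCard _).trans (dvd_trans (dvd_of_eq (Subgroup.index_eq_card _).symm)
          (Subgroup.relIndex_dvd_index_of_le (Subgroup.le_normalizer))))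
      exact hq.not_dvd_one (hHall ▸ Nat.dvd_gcd (hx q hq h1) h2)
    exact Subgroup.mem_subgroupOf.mp ((QuotientGroup.eq_one_iff _).mp hz1)
  -- every non-trivial element of `K` lies in a conjugate
  have hcov : ∀ x ∈ K, x ≠ 1 → ∃ g, x ∈ conjH g := by
    intro x hx hx1
    have hox : ∀ q : ℕ, q.Prime → q ∣ orderOf x → q ∣ Nat.card H := fun q hq hd =>
      hK q hq (hd.trans (by rw [← Subgroup.orderOf_mk x hx]; exact orderOf_dvd_natCard _))
    obtain ⟨p, hp, hpd⟩ := Nat.exists_prime_and_dvd (fun h1 => hx1 (orderOf_eq_one_iff.mp h1))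
    haveI := Fact.mk hp
    set y := x ^ (orderOf x / p) with hy
    have hyo : orderOf y = p := orderOf_pow_orderOf_div (orderOf_pos x).ne' hpd
    obtain ⟨S⟩ : Nonempty (Sylow p H) := inferInstance
    have hS' : ∃ T : Sylow p G, (T : Subgroup G) ≤ H := by
      have hidx : ¬ p ∣ ((S : Subgroup H).map H.subtype).index := by
        rw [Subgroup.index_map_subtype]
        intro h
        rcases hp.dvd_mul.mp h with h | h
        · exact S.not_dvd_index h
        · exact hp.not_dvd_one (hHall ▸ Nat.dvd_gcd (hox p hp hpd) h)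
      exact ⟨(S.isPGroup'.map H.subtype).toSylow hidx, Subgroup.map_subtype_le _⟩
    obtain ⟨T, hT⟩ := hS'
    obtain ⟨T', hT'⟩ := (IsPGroup.of_card (p := p) (n := 1) (G := Subgroup.zpowers y)
      (by rw [Nat.card_zpowers, hyo, pow_one])).exists_le_sylow
    obtain ⟨g, hg⟩ := MulAction.exists_smul_eq G T T'
    refine ⟨g, hnorm g x hox fun w hw => ?_⟩
    have hyg : y ∈ conjH g := by
      have := hT' (Subgroup.mem_zpowers y)
      rw [← hg, Sylow.coe_subgroup_smul] at this
      exact Subgroup.map_mono hT this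
    have hyx : y ∈ conjH (x * g) := by
      rw [hmem] at hyg ⊢
      have hc : x⁻¹ * y * x = y := by
        rw [mul_assoc, (Commute.pow_self x _).eq, inv_mul_cancel_left]
      have : (x * g)⁻¹ * y * (x * g) = g⁻¹ * (x⁻¹ * y * x) * g := by group
      rw [this, hc]; exact hyg
    have hy1 : y ≠ 1 := fun h1 => by rw [h1, orderOf_one] at hyo; exact hp.ne_one hyo.symm
    rw [hti g (x * g) y hyg hyx hy1, hmem]
    rw [hmem] at hw
    simpa [mul_assoc] using hw
  by_cases hKbot : K = ⊥
  · exact ⟨1, by rw [hKbot]; exact bot_le⟩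
  obtain ⟨x₀, hx₀, hx₀1⟩ := (Subgroup.bot_or_exists_ne_one K).resolve_left hKbot
  obtain ⟨g₀, hg₀⟩ := hcov x₀ hx₀ hx₀1
  refine ⟨g₀, ?_⟩
  by_contra hnle
  have hKfin := Fintype.ofFinite K
  -- the translates of one trace
  let L : G → Subgroup K := fun g => (conjH g).subgroupOf K
  let F : G → Set K := fun g => {z | z ≠ 1 ∧ ∃ k : K, (k : G)⁻¹ * z * k ∈ conjH g}
  have hcount : ∀ g, L g ≠ ⊥ → ¬ K ≤ conjH g → Nat.card K ≤ 2 * Nat.card (F g) := by
    intro g hL hle
    have hinj : Function.Injective (fun z : (K ⧸ L g) × {l : L g // l ≠ 1} =>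
        (z.1.out * (z.2.1 : K) * z.1.out⁻¹ : K)) := by
      rintro ⟨c, l, hl⟩ ⟨c', l', hl'⟩ he
      simp only at he
      set d := c'.out⁻¹ * c.out with hd
      have he' : d * (l : K) * d⁻¹ = l' := by
        rw [hd, mul_inv_rev, inv_inv]
        calc _ = c'.out⁻¹ * (c.out * (l : K) * c.out⁻¹) * c'.out := by group
          _ = _ := by rw [he]; group
      have hdK : d ∈ L g := by
        refine hnorm g d (fun q hq hqd => hK q hq (hqd.trans ?_)) fun w hw => ?_
        · rw [Subgroup.orderOf_coe]; exact orderOf_dvd_natCard _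
        · have h3 : (l' : G) ∈ conjH ((d : G) * g) := by
            rw [hmem]
            have h4 := congrArg Subtype.val he'
            have hl2 : g⁻¹ * (l : G) * g ∈ H := (hmem g _).mp l.2
            have : ((d : G) * g)⁻¹ * ((d : G) * l * (d : G)⁻¹) * ((d : G) * g) = g⁻¹ * l * g := by group
            rw [← show (d : G) * l * (d : G)⁻¹ = l' from h4, this]
            exact hl2
          have h5 := hti g ((d : G) * g) l' l'.2 h3 (fun h1 => hl' (Subtype.ext (Subtype.ext h1)))
          rw [h5, hmem]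
          rw [hmem] at hw
          simpa [mul_assoc] using hw
      have hcc : c = c' := by
        rw [← QuotientGroup.out_eq' c, ← QuotientGroup.out_eq' c', eq_comm, QuotientGroup.eq]
        exact hdK
      subst hcc
      have h6 : (l : K) = l' := by
        have := he
        exact mul_left_cancel (mul_right_cancel this)
      exact Prod.ext rfl (Subtype.ext (Subtype.ext h6))
    have h1 : Nat.card ((K ⧸ L g) × {l : L g // l ≠ 1}) ≤ Nat.card (F g) := by
      refine Nat.card_le_card_of_injective (fun z => (⟨z.1.out * (z.2.1 : K) * z.1.out⁻¹, ?_, ?_⟩ : F g))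
        fun a b h => hinj (congrArg Subtype.val h)
      · intro h1
        rw [conj_eq_one_iff] at h1
        exact z.2.2 (Subtype.ext h1)
      · exact ⟨z.1.out, by simp [mul_assoc]; exact Subgroup.mem_subgroupOf.mp z.2.1.2⟩
    rw [Nat.card_prod] at h1
    have hl : Nat.card {l : L g // l ≠ 1} = Nat.card (L g) - 1 := by
      haveI := Fintype.ofFinite (L g)
      rw [Nat.card_eq_fintype_card, Fintype.card_subtype_compl, Fintype.card_subtype_eq,
        Nat.card_eq_fintype_card]
    rw [hl] at h1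
    have h2 := (L g).card_eq_card_quotient_mul_card_subgroup
    have h3 : 2 ≤ Nat.card (L g) := (Subgroup.one_lt_card_iff_ne_bot _).mpr hL
    nlinarith [Nat.sub_add_cancel (show 1 ≤ Nat.card (L g) by omega), Nat.card_pos (α := K ⧸ L g)]
  have hL0 : L g₀ ≠ ⊥ := fun h0 => hx₀1 (by
    have : (⟨x₀, hx₀⟩ : K) ∈ L g₀ := hg₀
    rw [h0, Subgroup.mem_bot] at this
    exact congrArg Subtype.val this)
  have hsub : ∀ g, F g ⊆ {z : K | z ≠ 1} := fun g z hz => hz.1
  have hlt : Nat.card (F g₀) < Nat.card {z : K | z ≠ 1} ∨ F g₀ = {z : K | z ≠ 1} := by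
    rcases (hsub g₀).eq_or_ssubset with h | h
    · exact Or.inr h
    · exact Or.inl (Set.ncard_lt_ncard h)
  have htot : Nat.card {z : K | z ≠ 1} + 1 = Nat.card K := by
    have h := Set.ncard_add_ncard_compl ({1} : Set K)
    rw [Set.ncard_singleton] at h
    rw [Nat.card_coe_set_eq, ← h, add_comm]
    rfl
  rcases hlt with hlt | hlt
  · obtain ⟨z, hz, hzF⟩ : ∃ z : K, z ≠ 1 ∧ z ∉ F g₀ := by
      by_contra hcon
      push Not at hcon
      exact absurd (Set.ncard_le_ncard (fun z hz => hcon z hz : {z : K | z ≠ 1} ⊆ F g₀))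
        (not_le.mpr hlt)
    obtain ⟨g₁, hg₁⟩ := hcov z z.2 (fun h => hz (Subtype.ext h))
    have hdisj : Disjoint (F g₀) (F g₁) := by
      rw [Set.disjoint_left]
      rintro w ⟨hw1, k, hk⟩ ⟨-, k', hk'⟩
      refine hzF ⟨hz, k'⁻¹ * k, ?_⟩
      have hw1' : (w : G) ≠ 1 := fun h => hw1 (Subtype.ext h)
      have hA : (w : G) ∈ conjH ((k : G) * g₀) := by rw [hmem] at hk ⊢; simpa [mul_assoc] using hk
      have hB : (w : G) ∈ conjH ((k' : G) * g₁) := by rw [hmem] at hk' ⊢; simpa [mul_assoc] using hk'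
      have hzB : (k' : G) * z * (k' : G)⁻¹ ∈ conjH ((k' : G) * g₁) := by
        rw [hmem] at hg₁ ⊢; simpa [mul_assoc] using hg₁
      rw [← hti _ _ _ hA hB hw1', hmem] at hzB
      rw [hmem]
      simpa [mul_assoc] using hzB
    have hL1 : L g₁ ≠ ⊥ := fun h0 => hz (by
      have : z ∈ L g₁ := hg₁
      rwa [h0, Subgroup.mem_bot] at this)
    have hle1 : ¬ K ≤ conjH g₁ := by
      intro hle
      refine hzF ⟨hz, 1, ?_⟩
      have : conjH g₀ = conjH g₁ := hti g₀ g₁ x₀ hg₀ (hle hx₀) hx₀1
      rw [this]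
      exact hle (by simp)
    have h1 := hcount g₀ hL0 hnle
    have h2 := hcount g₁ hL1 hle1
    have h3 : Nat.card (F g₀) + Nat.card (F g₁) ≤ Nat.card {z : K | z ≠ 1} := by
      simp only [Nat.card_coe_set_eq]
      rw [← Set.ncard_union_eq hdisj]
      exact Set.ncard_le_ncard (Set.union_subset (hsub g₀) (hsub g₁))
    omega
  · -- one orbit covers everything: the trace is everything
    have hcardeq : Nat.card (F g₀) ≤ Nat.card (K ⧸ L g₀) * (Nat.card (L g₀) - 1) := by
      refine le_trans (Nat.card_le_card_of_surjective (fun w : (K ⧸ L g₀) × {l : L g₀ // l ≠ 1} =>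
        (⟨w.1.out * (w.2.1 : K) * w.1.out⁻¹, fun h1 => w.2.2 (Subtype.ext (conj_eq_one_iff.mp h1)),
          w.1.out, by simp [mul_assoc]; exact Subgroup.mem_subgroupOf.mp w.2.1.2⟩ : F g₀)) ?_) ?_
      · rintro ⟨w, hw1, k, hk⟩
        obtain ⟨l, hl⟩ := QuotientGroup.mk_out_eq_mul (L g₀) k
        refine ⟨⟨(k : K ⧸ L g₀), ⟨⟨(l : K)⁻¹ * (k⁻¹ * w * k) * l,
          (L g₀).mul_mem ((L g₀).mul_mem ((L g₀).inv_mem l.2) hk) l.2⟩, fun h1 => hw1 ?_⟩⟩, Subtype.ext ?_⟩
        · have h2 := congrArg Subtype.val h1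
          simp only [Subgroup.coe_one] at h2
          have h3 : k⁻¹ * w * k = 1 := by
            simpa [mul_assoc] using congrArg (fun t => (l : K) * t * (l : K)⁻¹) h2
          simpa [mul_assoc] using congrArg (fun t => k * t * k⁻¹) h3
        · show ((k : K ⧸ L g₀)).out * ((l : K)⁻¹ * (k⁻¹ * w * k) * l) * ((k : K ⧸ L g₀)).out⁻¹ = w
          rw [hl]; group
      · haveI := Fintype.ofFinite (L g₀)
        rw [Nat.card_prod]
        refine le_of_eq ?_
        congr 1
        rw [Nat.card_eq_fintype_card, Fintype.card_subtype_compl, Fintype.card_subtype_eq,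
          Nat.card_eq_fintype_card]
    rw [hlt] at hcardeq
    have h2 := (L g₀).card_eq_card_quotient_mul_card_subgroup
    have h3 : Nat.card (K ⧸ L g₀) ≠ 1 := by
      intro h1
      rw [← Subgroup.index_eq_card, Subgroup.index_eq_one] at h1
      exact hnle (Subgroup.subgroupOf_eq_top.mp h1)
    have h5 := Nat.mul_sub (Nat.card (K ⧸ L g₀)) (Nat.card (L g₀)) 1
    have h6 := Nat.card_pos (α := K ⧸ L g₀)
    have h7 := Nat.mul_le_mul_left (Nat.card (K ⧸ L g₀)) (Nat.card_pos (α := L g₀) : 1 ≤ _)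
    simp only [Nat.succ_eq_add_one, zero_add, mul_one] at h5 h7
    omega

end Cfsg.Agent.S4116
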