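import Cfsg.Statements.S4117
import Cfsg.Agent.Lib.FGB.ZGroupAction
import Cfsg.Agent.Lib.Basics.Tools
import Cfsg.Agent.Lib.Basics.CoprimeAction
-- import your own Cfsg.Agent.* helpers here

set_option autoImplicit false
open Cfsg
open scoped commutatorElement

namespace Cfsg.Agent.S4117

/-- Let A be a finite group acting on the finite group G by automorphisms with the orders of A and G coprime, and suppose every Sylow subgroup of G is cyclic. Then the fixed-point subgroup C_G(A) is a Hall subgroup of G (its order is coprime to its index), the subgroup [G, A] generated by the elements g⁻¹·a(g) is cyclic and normal with [G, A] ∩ C_G(A) = 1 and [G, A]·C_G(A) = G. -/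
theorem result {G A : Type*} [Group G] [Finite G] [Group A] [Finite A]
    [MulDistribMulAction A G] (hcop : (Nat.card A).Coprime (Nat.card G))
    (hcyc : ∀ (p : ℕ) [Fact p.Prime] (P : Sylow p G), IsCyclic (P : Subgroup G)) :
    (Nat.card (MulAction.fixedPoints A G : Set G)).Coprime (Nat.card G / Nat.card (MulAction.fixedPoints A G : Set G)) ∧
    IsCyclic (Subgroup.closure {y : G | ∃ (a : A) (g : G), y = g⁻¹ * a • g}) ∧
    (Subgroup.closure {y : G | ∃ (a : A) (g : G), y = g⁻¹ * a • g}).Normal ∧
    (Subgroup.closure {y : G | ∃ (a : A) (g : G), y = g⁻¹ * a • g} : Set G) ∩ MulAction.fixedPoints A G = {1} ∧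
    Subgroup.closure {y : G | ∃ (a : A) (g : G), y = g⁻¹ * a • g} ⊔ Subgroup.closure (MulAction.fixedPoints A G) = ⊤ := by
  classical
  set φ : A →* MulAut G := MulDistribMulAction.toMulAut A G with hφ
  set Γ := G ⋊[φ] A
  haveI : Finite Γ := Finite.of_equiv _ SemidirectProduct.equivProd.symm
  set H : Subgroup Γ := (SemidirectProduct.inl : G →* Γ).range with hH
  set Q : Subgroup Γ := (SemidirectProduct.inr : A →* Γ).range with hQ
  have hinj : Function.Injective (SemidirectProduct.inl : G →* Γ) := SemidirectProduct.inl_injective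
  haveI hHn : H.Normal := by
    rw [hH, SemidirectProduct.range_inl_eq_ker_rightHom]; exact MonoidHom.normal_ker _
  have hQH : Q ≤ Subgroup.normalizer (H : Set Γ) := by rw [Subgroup.normalizer_eq_top_iff.mpr hHn]; exact le_top
  haveI : IsZGroup G := ⟨fun p hp P => by haveI := Fact.mk hp; exact hcyc p P⟩
  haveI : IsZGroup H := IsZGroup.of_surjective (f := (SemidirectProduct.inl : G →* Γ).rangeRestrict) (MonoidHom.rangeRestrict_surjective _)
  have hcardH : Nat.card H = Nat.card G := (Nat.card_congr ((SemidirectProduct.inl : G →* Γ).ofInjective hinj).toEquiv).symm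
  have hcardQ : Nat.card Q = Nat.card A :=
    (Nat.card_congr ((SemidirectProduct.inr : A →* Γ).ofInjective SemidirectProduct.inr_injective).toEquiv).symm
  have hco : (Nat.card Q).Coprime (Nat.card H) := by rw [hcardH, hcardQ]; exact hcop
  have hsolv : Group.IsSolvable Q ∨ Group.IsSolvable H := Or.inr inferInstance
  set K : Subgroup Γ := ⁅H, Q⁆ with hK
  set C : Subgroup Γ := H ⊓ Subgroup.centralizer (Q : Set Γ) with hC
  have hact : ∀ (a : A) (g : G), SemidirectProduct.inl (a • g) = (SemidirectProduct.inr a : Γ) * SemidirectProduct.inl g * (SemidirectProduct.inr a)⁻¹ := by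
    intro a g
    rw [← map_inv]
    exact SemidirectProduct.inl_aut a g
  let F : Subgroup G :=
    { carrier := MulAction.fixedPoints A G
      mul_mem' := fun {u v} hu hv a => by rw [smul_mul', hu a, hv a]
      one_mem' := fun a => smul_one a
      inv_mem' := fun {u} hu a => by rw [smul_inv', hu a] }
  have hFC : F.map (SemidirectProduct.inl : G →* Γ) = C := by
    ext x
    constructor
    · rintro ⟨g, hg, rfl⟩
      refine ⟨⟨g, rfl⟩, Subgroup.mem_centralizer_iff.mpr ?_⟩
      rintro _ ⟨a, rfl⟩
      have h1 := hact a g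
      rw [hg a] at h1
      exact (eq_mul_inv_iff_mul_eq.mp h1).symm
    · rintro ⟨⟨g, rfl⟩, hx⟩
      refine ⟨g, fun a => hinj ?_, rfl⟩
      rw [hact, Subgroup.mem_centralizer_iff.mp hx _ ⟨a, rfl⟩, mul_inv_cancel_right]
  set S : Subgroup G := Subgroup.closure {y : G | ∃ (a : A) (g : G), y = g⁻¹ * a • g} with hS
  have hSK : S.map (SemidirectProduct.inl : G →* Γ) = K := by
    refine le_antisymm ?_ ?_
    · rw [hS, MonoidHom.map_closure, Subgroup.closure_le]
      rintro _ ⟨y, ⟨a, g, rfl⟩, rfl⟩
      have h1 : ⁅(SemidirectProduct.inl g⁻¹ : Γ), (SemidirectProduct.inr a : Γ)⁆ ∈ K :=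
        Subgroup.commutator_mem_commutator ⟨g⁻¹, rfl⟩ ⟨a, rfl⟩
      rw [map_mul, hact, map_inv]
      rw [map_inv, commutatorElement_def, inv_inv] at h1
      show _ ∈ K
      simpa [mul_assoc] using h1
    · rw [hK, Subgroup.commutator_le]
      rintro _ ⟨g, rfl⟩ _ ⟨a, rfl⟩
      refine ⟨g⁻¹⁻¹ * a • g⁻¹, Subgroup.subset_closure ⟨a, g⁻¹, rfl⟩, ?_⟩
      rw [map_mul, hact, commutatorElement_def, map_inv, map_inv]
      group
  have hKH : K ≤ H := Subgroup.le_normalizer_iff_commutator_le_left.mp hQH
  have hCK : (Nat.card C).Coprime (Nat.card K) := FGB.coprime_card_commutator_centralizer H Q hQH hco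
  have hsup : K ⊔ C = H := Basics.commutator_sup_inf_centralizer Q H hQH hco hsolv
  have hHK : H ≤ Subgroup.normalizer (K : Set Γ) := Subgroup.normalizer_commutator_ge_left _ _
  have hcards : Nat.card G = Nat.card K * Nat.card C := by
    rw [← Basics.card_sup_of_coprime (inf_le_left.trans hHK) hCK.symm, hsup, hcardH]
  have hcardF : Nat.card (MulAction.fixedPoints A G : Set G) = Nat.card C := by
    rw [← hFC, Subgroup.card_map_of_injective hinj]; rfl
  -- `[G, A]` is cyclic
  haveI : IsZGroup K := IsZGroup.of_injective (Subgroup.inclusion_injective hKH)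
  haveI : IsCyclic (commutator K) := IsZGroup.isCyclic_commutator K
  set D : Subgroup Γ := (commutator K).map K.subtype with hD
  haveI : IsCyclic D := isCyclic_of_surjective (K.subtype.subgroupMap (commutator K)) (K.subtype.subgroupMap_surjective _)
  have hDe : D = ⁅K, K⁆ := Subgroup.map_subtype_commutator K
  have hnormD : ∀ M : Subgroup Γ, M ≤ Subgroup.normalizer (K : Set Γ) → M ≤ Subgroup.normalizer (D : Set Γ) := by
    intro M hM m hm
    have hmK : K.map (MulAut.conj m).toMonoidHom = K := Subgroup.mem_normalizer_iff_map_conj_eq.mp (hM hm)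
    exact Subgroup.mem_normalizer_iff_map_conj_eq.mpr (by rw [hDe, Subgroup.map_commutator]; exact congrArg₂ (fun A B : Subgroup Γ => ⁅A, B⁆) hmK hmK)
  have hKcent : K ≤ Subgroup.centralizer (D : Set Γ) := by
    rw [hK, Subgroup.commutator_le]
    intro u hu v hv
    have hu' := hnormD H hHK hu
    have hv' := hnormD Q (Subgroup.normalizer_commutator_ge_right _ _) hv
    set uu : Subgroup.normalizer (D : Set Γ) := ⟨u, hu'⟩
    set vv : Subgroup.normalizer (D : Set Γ) := ⟨v, hv'⟩
    have hker : ⁅uu, vv⁆ ∈ D.normalizerMonoidHom.ker := by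
      rw [MonoidHom.mem_ker, map_commutatorElement, commutatorElement_eq_one_iff_mul_comm]
      letI : CommGroup (MulAut D) :=
        { (inferInstance : Group (MulAut D)) with
          mul_comm := fun f g => by
            apply (IsCyclic.mulAutMulEquiv D).injective
            rw [map_mul, map_mul, mul_comm] }
      exact mul_comm _ _
    rw [Subgroup.normalizerMonoidHom_ker] at hker
    exact hker
  haveI : Group.IsNilpotent K := by
    refine Group.of_quotient_center_nilpotent ?_
    haveI : IsMulCommutative (K ⧸ Subgroup.center K) := by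
      refine ⟨⟨fun a b => ?_⟩⟩
      induction a using QuotientGroup.induction_on with
      | H a =>
        induction b using QuotientGroup.induction_on with
        | H b =>
          rw [← QuotientGroup.mk_mul, ← QuotientGroup.mk_mul, QuotientGroup.eq, Subgroup.mem_center_iff]
          intro c
          refine Subtype.ext ?_
          have hmem : ((((a * b)⁻¹ * (b * a) : K)) : Γ) ∈ D := by
            show K.subtype ((a * b)⁻¹ * (b * a)) ∈ D
            refine Subgroup.mem_map_of_mem K.subtype ?_
            have : (a * b)⁻¹ * (b * a) = ⁅b⁻¹, a⁻¹⁆ := by rw [commutatorElement_def]; group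
            rw [this]
            exact Subgroup.commutator_mem_commutator (Subgroup.mem_top _) (Subgroup.mem_top _)
          exact (Subgroup.mem_centralizer_iff.mp (hKcent c.2) _ hmem).symm
    exact @CommGroup.isNilpotent _ { (inferInstance : Group (K ⧸ Subgroup.center K)) with mul_comm := fun a b => IsMulCommutative.is_comm.comm a b }
  haveI : IsCyclic K := inferInstance
  refine ⟨?_, ?_, ?_, ?_, ?_⟩
  · rw [hcardF, hcards, Nat.mul_div_cancel _ Nat.card_pos]
    exact hCK
  · exact isCyclic_of_surjective ((S.equivMapOfInjective _ hinj).trans (MulEquiv.subgroupCongr hSK)).symm.toMonoidHom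
      (MulEquiv.surjective _)
  · refine ⟨fun x hx g => ?_⟩
    obtain ⟨y, hy, hyx⟩ : (SemidirectProduct.inl (g * x * g⁻¹) : Γ) ∈ S.map (SemidirectProduct.inl : G →* Γ) := by
      rw [hSK, map_mul, map_mul, map_inv]
      exact (Subgroup.mem_normalizer_iff.mp (hHK ⟨g, rfl⟩) _).mp (hSK ▸ ⟨x, hx, rfl⟩)
    exact hinj hyx ▸ hy
  · refine Set.Subset.antisymm ?_ (Set.singleton_subset_iff.mpr ⟨one_mem S, fun a => smul_one a⟩)
    rintro x ⟨hx1, hx2⟩
    have h1 : (SemidirectProduct.inl x : Γ) ∈ K := hSK ▸ ⟨x, hx1, rfl⟩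
    have h2 : (SemidirectProduct.inl x : Γ) ∈ C := hFC ▸ ⟨x, hx2, rfl⟩
    have h3 := (Subgroup.disjoint_of_coprime_natCard hCK).le_bot ⟨h2, h1⟩
    exact hinj ((Subgroup.mem_bot.mp h3).trans (map_one _).symm)
  · have hF : Subgroup.closure (MulAction.fixedPoints A G : Set G) = F := F.closure_eq
    rw [hF]
    refine Subgroup.map_injective hinj ?_
    rw [Subgroup.map_sup, hSK, hFC, hsup, hH, MonoidHom.range_eq_map]
end Cfsg.Agent.S4117
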