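import Cfsg.Statements.S4118
import Cfsg.Agent.Lib.FGB.FCAut
import Cfsg.Agent.Lib.Zassenhaus.Nonsolvable
-- import your own Cfsg.Agent.* helpers here

set_option autoImplicit false
open Cfsg

namespace Cfsg.Agent.S4118

/-- Let G be a finite group and H a non-normal subgroup meeting each of its conjugates by elements outside N_G(H) trivially, with the order of H coprime to its index in N_G(H); let π be the set of primes dividing the order of H and suppose G is π-separable (it has a chain of normal subgroups from 1 to G each of whose factors has order divisible only by primes in π or coprime to the order of H). Let O be the largest normal subgroup of G of order coprime to the order of H. Then G = O·N_G(H), O·H is normal in G, and G is solvable if and only if O is solvable and H has no subgroup isomorphic to SL₂(5). -/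
theorem result {G : Type*} [Group G] [Finite G] (H : Subgroup G)
    (hTI : Cfsg.IsTISubset (H : Set G)) (hnn : ¬ H.Normal)
    (hHall : (Nat.card H).Coprime (H.subgroupOf (Subgroup.normalizer (H : Set G))).index)
    (hsep : ∃ (n : ℕ) (M : Fin (n + 1) → Subgroup G), M 0 = ⊥ ∧ M (Fin.last n) = ⊤ ∧ Monotone M ∧ (∀ i, (M i).Normal) ∧
      ∀ i : Fin n, (∀ q : ℕ, q.Prime → q ∣ (M i.castSucc).relIndex (M i.succ) → q ∣ Nat.card H) ∨
        ((M i.castSucc).relIndex (M i.succ)).Coprime (Nat.card H))
    (O : Subgroup G) (hO : O = sSup {K : Subgroup G | K.Normal ∧ (Nat.card K).Coprime (Nat.card H)}) :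
    O ⊔ Subgroup.normalizer (H : Set G) = ⊤ ∧ (O ⊔ H).Normal ∧
    (Group.IsSolvable G ↔ Group.IsSolvable O ∧
      ∀ K : Subgroup G, K ≤ H → ¬ Nonempty (K ≃* Matrix.SpecialLinearGroup (Fin 2) (ZMod 5))) := by
  classical
  -- `O` is the largest normal subgroup of order prime to `|H|`
  obtain ⟨hOn, hOc, hOmax⟩ : O.Normal ∧ (Nat.card O).Coprime (Nat.card H) ∧
      ∀ K : Subgroup G, K.Normal → (Nat.card K).Coprime (Nat.card H) → K ≤ O := by
    obtain ⟨M, ⟨hMn, hMc⟩, hMmax⟩ := Set.Finite.exists_maximal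
      (Set.toFinite {K : Subgroup G | K.Normal ∧ (Nat.card K).Coprime (Nat.card H)})
      ⟨⊥, inferInstance, by simp⟩
    have hM : ∀ K : Subgroup G, K.Normal → (Nat.card K).Coprime (Nat.card H) → K ≤ M := by
      intro K hKn hKc
      haveI := hKn
      haveI := hMn
      refine le_sup_left.trans (hMmax ⟨Subgroup.sup_normal K M, ?_⟩ le_sup_right)
      rw [Nat.coprime_iff_gcd_eq_one]
      by_contra hne
      obtain ⟨r, hr, hrd⟩ := Nat.exists_prime_and_dvd hne
      have h1 : r ∣ Nat.card K * Nat.card M := by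
        refine (hrd.trans (Nat.gcd_dvd_left _ _)).trans ?_
        have h2 := Subgroup.card_mul_index (M.subgroupOf (K ⊔ M))
        rw [Nat.card_congr (Subgroup.subgroupOfEquivOfLe (le_sup_right : M ≤ K ⊔ M)).toEquiv] at h2
        rw [← h2, mul_comm]
        refine mul_dvd_mul ?_ dvd_rfl
        show M.relIndex (K ⊔ M) ∣ _
        rw [Subgroup.relIndex_sup_right]
        exact Subgroup.relIndex_dvd_card M K
      rcases hr.dvd_mul.mp h1 with h | h
      · exact hr.not_dvd_one (hKc ▸ Nat.dvd_gcd h (hrd.trans (Nat.gcd_dvd_right _ _)))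
      · exact hr.not_dvd_one (hMc ▸ Nat.dvd_gcd h (hrd.trans (Nat.gcd_dvd_right _ _)))
    have hOM : O = M := by
      rw [hO]
      exact le_antisymm (sSup_le fun K hK => hM K hK.1 hK.2) (le_sSup ⟨hMn, hMc⟩)
    exact ⟨hOM ▸ hMn, hOM ▸ hMc, hOM ▸ hM⟩
  haveI := hOn
  set N := Subgroup.normalizer (H : Set G) with hN
  have hH1 : H ≠ ⊥ := fun h => hnn (h ▸ inferInstance)
  -- a subgroup of `H` is normalized only inside `N`
  have hTI' : ∀ W : Subgroup G, W ≤ H → W ≠ ⊥ → Subgroup.normalizer (W : Set G) ≤ N := by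
    intro W hW hW1 g hg
    by_contra hgN
    obtain ⟨x, hx, hx1⟩ := (Subgroup.bot_or_exists_ne_one W).resolve_left hW1
    exact hx1 (hTI g hgN x (hW hx) (hW ((Subgroup.mem_normalizer_iff.mp hg x).mp hx)))
  -- `H` contains Sylow subgroups of `G`
  have hsyl : ∀ p : ℕ, p.Prime → p ∣ Nat.card H → ∃ T : Sylow p G, (T : Subgroup G) ≤ H := by
    intro p hp hpd
    haveI := Fact.mk hp
    obtain ⟨S⟩ : Nonempty (Sylow p H) := inferInstance
    set W := (S : Subgroup H).map H.subtype with hW
    obtain ⟨T, hT⟩ := (S.2.map H.subtype).exists_le_sylow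
    refine ⟨T, ?_⟩
    haveI := T.2.isNilpotent
    by_contra hTH
    have hlt : W.subgroupOf (T : Subgroup G) < ⊤ := lt_top_iff_ne_top.mpr fun h =>
      hTH ((Subgroup.subgroupOf_eq_top.mp h).trans (Subgroup.map_subtype_le _))
    obtain ⟨t, ht, htW⟩ := SetLike.exists_of_lt (Group.normalizerCondition_of_isNilpotent _ hlt)
    have hW1 : W ≠ ⊥ := by
      rw [hW, Ne, Subgroup.map_eq_bot_iff_of_injective _ H.subtype_injective]
      exact S.ne_bot_of_dvd_card hpd
    have htN : (t : G) ∈ N := by
      refine hTI' W (Subgroup.map_subtype_le _) hW1 ?_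
      rw [Subgroup.mem_normalizer_iff]
      intro x
      constructor
      · intro hx
        exact Subgroup.mem_subgroupOf.1 ((Subgroup.mem_normalizer_iff.mp ht ⟨x, hT hx⟩).1 (Subgroup.mem_subgroupOf.2 hx))
      · intro hx
        have h' : x = (t : G)⁻¹ * ((t : G) * x * (t : G)⁻¹) * t := by group
        have hxT : x ∈ (T : Subgroup G) := by
          rw [h']; exact mul_mem (mul_mem (inv_mem t.2) (hT hx)) t.2
        exact Subgroup.mem_subgroupOf.1 ((Subgroup.mem_normalizer_iff.mp ht ⟨x, hxT⟩).2 (Subgroup.mem_subgroupOf.2 hx))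
    -- so `t` lies in `H`
    haveI : (H.subgroupOf N).Normal := Subgroup.normal_in_normalizer
    have htH : (t : G) ∈ H := by
      refine (Subgroup.mem_subgroupOf (h := (⟨t, htN⟩ : N))).mp ((QuotientGroup.eq_one_iff (⟨t, htN⟩ : N)).mp ?_)
      obtain ⟨k, hk⟩ := IsPGroup.iff_orderOf.mp T.2 t
      rw [← orderOf_eq_one_iff]
      refine Nat.eq_one_of_dvd_coprimes ((hHall.coprime_dvd_left hpd).pow_left k)
        ((orderOf_map_dvd (QuotientGroup.mk' _) _).trans (by rw [Subgroup.orderOf_mk, Subgroup.orderOf_coe, hk])) ?_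
      exact (orderOf_dvd_natCard _).trans (dvd_of_eq (Subgroup.index_eq_card _).symm)
    have hS : ((T : Subgroup G) ⊓ H).subgroupOf H = (S : Subgroup H) :=
      S.3 (T.2.to_inf_left.comap_subtype) fun x hx => ⟨hT ⟨x, hx, rfl⟩, x.2⟩
    apply htW
    rw [Subgroup.mem_subgroupOf]
    exact ⟨⟨t, htH⟩, hS.le ⟨t.2, htH⟩, rfl⟩
  have hHallG : (Nat.card H).Coprime H.index := by
    rw [Nat.coprime_iff_gcd_eq_one]
    by_contra hne
    obtain ⟨p, hp, hpd⟩ := Nat.exists_prime_and_dvd hne
    haveI := Fact.mk hp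
    obtain ⟨T, hT⟩ := hsyl p hp (hpd.trans (Nat.gcd_dvd_left _ _))
    exact T.not_dvd_index ((hpd.trans (Nat.gcd_dvd_right _ _)).trans (Subgroup.index_dvd_of_le hT))
  set π := QuotientGroup.mk' O with hπ
  have hπs : Function.Surjective π := QuotientGroup.mk'_surjective O
  set Hb := H.map π with hHb
  have hOH : ∀ x ∈ H, x ∈ O → x = 1 := fun x hx hxO => orderOf_eq_one_iff.mp
    (Nat.eq_one_of_dvd_coprimes hOc
      (by rw [← Subgroup.orderOf_mk x hxO]; exact orderOf_dvd_natCard _)
      (by rw [← Subgroup.orderOf_mk x hx]; exact orderOf_dvd_natCard _))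
  have hHb_inj : Function.Injective (π.subgroupMap H) := by
    intro a b hab
    have h1 : π a = π b := congrArg Subtype.val hab
    refine Subtype.ext (inv_mul_eq_one.mp (hOH _ (H.mul_mem (H.inv_mem a.2) b.2) ?_))
    exact QuotientGroup.eq.mp h1
  let eH : H ≃* Hb := MulEquiv.ofBijective _ ⟨hHb_inj, π.subgroupMap_surjective H⟩
  have hHbcard : Nat.card Hb = Nat.card H := (Nat.card_congr eH.toEquiv).symm
  have hHbidx : Hb.index ∣ H.index := Subgroup.index_map_dvd H hπs
  -- the quotient has no normal subgroup of order prime to `|H|`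
  have hcore : ∀ K : Subgroup (G ⧸ O), K.Normal → (Nat.card K).Coprime (Nat.card H) → K = ⊥ := by
    intro K hKn hKc
    haveI := hKn
    have hcard : Nat.card (K.comap π) = Nat.card K * Nat.card O := by
      have h1 := Subgroup.card_mul_index (K.comap π)
      rw [Subgroup.index_comap_of_surjective _ hπs] at h1
      have h2 := O.card_eq_card_quotient_mul_card_subgroup
      rw [← Subgroup.card_mul_index K] at h2
      refine Nat.eq_of_mul_eq_mul_right (Nat.pos_of_ne_zero K.index_ne_zero_of_finite) ?_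
      rw [h1, h2]; ring
    have hle := hOmax (K.comap π) inferInstance (hcard ▸ hKc.mul_left hOc)
    rw [eq_bot_iff, ← Subgroup.map_comap_eq_self_of_surjective hπs K]
    rintro _ ⟨x, hx, rfl⟩
    exact Subgroup.mem_bot.mpr ((QuotientGroup.eq_one_iff x).mpr (hle hx))
  obtain ⟨n, M, hM0, hM1, hMmono, hMn, hMfac⟩ := hsep
  -- the first nontrivial image is a normal `π`-subgroup of the quotient
  obtain ⟨U, hUn, hU1, hUH⟩ : ∃ U : Subgroup (G ⧸ O), U.Normal ∧ U ≠ ⊥ ∧ U ≤ Hb := by
    by_cases hall : ∀ i, (M i).map π = ⊥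
    · exfalso
      have := hall (Fin.last n)
      rw [hM1, Subgroup.map_top_of_surjective _ hπs] at this
      apply hH1
      rw [eq_bot_iff]
      intro x hx
      refine Subgroup.mem_bot.mpr (hOH x hx ((QuotientGroup.eq_one_iff x).mp ?_))
      exact Subgroup.mem_bot.mp (this ▸ Subgroup.mem_top (π x))
    obtain ⟨i, hi, hi'⟩ : ∃ i : Fin n, (M i.castSucc).map π = ⊥ ∧ (M i.succ).map π ≠ ⊥ := by
      by_contra hcon
      push Not at hcon
      apply hall
      intro i
      induction i using Fin.induction with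
      | zero => rw [hM0, Subgroup.map_bot]
      | succ j ih => exact hcon j ih
    haveI := hMn i.succ
    refine ⟨(M i.succ).map π, (hMn i.succ).map π hπs, hi', ?_⟩
    have hdvd : Nat.card ((M i.succ).map π) ∣ (M i.castSucc).relIndex (M i.succ) := by
      have hker : M i.castSucc ≤ π.ker := by
        intro x hx
        exact Subgroup.mem_bot.mp (hi ▸ Subgroup.mem_map_of_mem π hx)
      have e : Nat.card ((M i.succ).map π) = π.ker.relIndex (M i.succ) := by
        rw [← Subgroup.relIndex_ker]
      rw [e]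
      exact Subgroup.relIndex_dvd_of_le_left _ hker
    rcases hMfac i with hcase | hcase
    · -- a normal subgroup whose primes divide `|H|` lies in `Hb`
      set V := (M i.succ).map π with hV
      haveI : V.Normal := (hMn i.succ).map π hπs
      have hrel : Hb.relIndex V = 1 := by
        by_contra hne
        obtain ⟨q, hq, hqd⟩ := Nat.exists_prime_and_dvd hne
        have h1 : q ∣ Nat.card H := hcase q hq ((hqd.trans (Subgroup.relIndex_dvd_card _ _)).trans hdvd)
        have h2 : q ∣ Hb.index := by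
          refine hqd.trans ?_
          have hR : Hb.relIndex (V ⊔ Hb) = Hb.relIndex V := by
            have a1 := Subgroup.relIndex_mul_relIndex ⊥ (V ⊓ Hb) V bot_le inf_le_left
            have a2 := Subgroup.relIndex_mul_relIndex ⊥ (V ⊓ Hb) Hb bot_le inf_le_right
            have a3 := Subgroup.relIndex_mul_relIndex ⊥ Hb (V ⊔ Hb) bot_le le_sup_right
            have a4 := Subgroup.relIndex_mul_relIndex ⊥ V (V ⊔ Hb) bot_le le_sup_left
            simp only [Subgroup.relIndex_bot_left, Subgroup.inf_relIndex_left, Subgroup.inf_relIndex_right,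
              Subgroup.relIndex_sup_left] at a1 a2 a3 a4
            refine Nat.eq_of_mul_eq_mul_left (Nat.card_pos (α := Hb)) ?_
            rw [a3, ← a4, ← a1, ← a2]
            ring
          rw [← hR]
          exact Subgroup.relIndex_dvd_index_of_le le_sup_right
        exact hq.not_dvd_one (hHallG ▸ Nat.dvd_gcd h1 (h2.trans hHbidx))
      exact Subgroup.relIndex_eq_one.mp hrel
    · exfalso
      exact hi' (hcore _ ((hMn i.succ).map π hπs) (hcase.coprime_dvd_left hdvd))
  haveI := hUn
  -- Frattini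
  have hG : O ⊔ N = ⊤ := by
    obtain ⟨p, hp, hpd⟩ := Nat.exists_prime_and_dvd (fun h => hU1 (Subgroup.card_eq_one.mp h))
    haveI := Fact.mk hp
    have hpH : p ∣ Nat.card H := hHbcard ▸ hpd.trans (Subgroup.card_dvd_of_le hUH)
    obtain ⟨T, hT⟩ := hsyl p hp hpH
    set U' := U.comap π with hU'
    haveI hU'n : U'.Normal := inferInstance
    obtain ⟨S, hS⟩ := (T.2.comap_subtype (K := U')).exists_le_sylow
    set W : Subgroup G := (T : Subgroup G) ⊓ U' with hW
    have hSW : (S : Subgroup U').map U'.subtype = W := by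
      refine Eq.symm (Subgroup.eq_of_le_of_card_ge (fun x hx => ⟨⟨x, hx.2⟩, hS (show (⟨x, hx.2⟩ : U') ∈ (T : Subgroup G).subgroupOf U' from hx.1), rfl⟩) ?_)
      obtain ⟨T₂, hT₂⟩ := (S.2.map U'.subtype).exists_le_sylow
      obtain ⟨m, hm⟩ := MulAction.exists_smul_eq G T₂ T
      refine le_of_eq_of_le ((Subgroup.card_map_of_injective (f := (MulAut.conj m).toMonoidHom) (MulAut.conj m).injective).symm)
        (Subgroup.card_le_of_le (le_inf ?_ ?_))
      · rw [← hm, Sylow.coe_subgroup_smul]
        exact Subgroup.map_mono hT₂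
      · rintro _ ⟨_, ⟨y, _, rfl⟩, rfl⟩
        exact hU'n.conj_mem _ y.2 m
    have hfr := Sylow.normalizer_sup_eq_top S
    rw [hSW] at hfr
    have hW1 : W ≠ ⊥ := by
      rw [← hSW, Ne, Subgroup.map_eq_bot_iff_of_injective _ U'.subtype_injective]
      refine S.ne_bot_of_dvd_card (hpd.trans ?_)
      have h1 : U = U'.map π := (Subgroup.map_comap_eq_self_of_surjective hπs U).symm
      rw [h1]
      exact Subgroup.card_map_dvd _ _
    rw [eq_top_iff, ← hfr]
    refine sup_le ((hTI' W (inf_le_left.trans hT) hW1).trans le_sup_right) ?_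
    intro u hu
    obtain ⟨x, hx, hxu⟩ := hUH (show π u ∈ U from hu)
    have h1 : u * x⁻¹ ∈ O := by
      rw [← QuotientGroup.eq_one_iff, QuotientGroup.mk_mul, QuotientGroup.mk_inv, mul_inv_eq_one]
      exact hxu.symm
    have h2 := Subgroup.mul_mem_sup h1 (show x ∈ N from Subgroup.le_normalizer hx)
    rwa [inv_mul_cancel_right] at h2
  have hOHn : (O ⊔ H).Normal := by
    rw [← Subgroup.normalizer_eq_top_iff, ← top_le_iff, ← hG, sup_le_iff]
    refine ⟨le_sup_left.trans Subgroup.le_normalizer, fun g hg => ?_⟩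
    have hfwd : ∀ g ∈ N, ∀ y ∈ O ⊔ H, g * y * g⁻¹ ∈ O ⊔ H := by
      intro g hg y hy
      rw [← SetLike.mem_coe, Subgroup.normal_mul] at hy
      obtain ⟨o, ho, h, hh, rfl⟩ := hy
      rw [show g * (o * h) * g⁻¹ = (g * o * g⁻¹) * (g * h * g⁻¹) by group]
      exact Subgroup.mul_mem_sup (hOn.conj_mem o ho g) ((Subgroup.mem_normalizer_iff.mp hg h).mp hh)
    rw [Subgroup.mem_normalizer_iff]
    exact fun y => ⟨hfwd g hg y, fun h => by simpa [mul_assoc] using hfwd g⁻¹ (inv_mem hg) _ h⟩
  refine ⟨hG, hOHn, ?_⟩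
  constructor
  · intro hs
    refine ⟨inferInstance, fun K hK ⟨e⟩ => Cfsg.Agent.FGB.sl25_not_solvable ?_⟩
    exact Group.isSolvable_of_surjective (f := e.toMonoidHom) e.surjective
  rintro ⟨hOs, hno⟩
  haveI := hOs
  haveI : Nontrivial H := H.nontrivial_iff_ne_bot.mpr hH1
  -- the action of `H` on `O`
  have hfix : ∀ h ∈ H, h ≠ 1 → ∀ x ∈ O, h * x = x * h → ∀ k ∈ H, k * x = x * k := by
    intro h hh hh1 x hx hc k hk
    have hxN : x ∈ N := by
      by_contra hxN
      refine hh1 (hTI x hxN h hh ?_)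
      rw [← hc, mul_inv_cancel_right]; exact hh
    have h1 : x * k * x⁻¹ * k⁻¹ = 1 := by
      refine hOH _ (H.mul_mem ((Subgroup.mem_normalizer_iff.mp hxN k).mp hk) (H.inv_mem hk)) ?_
      rw [show x * k * x⁻¹ * k⁻¹ = x * (k * x⁻¹ * k⁻¹) by group]
      exact O.mul_mem hx (hOn.conj_mem _ (O.inv_mem hx) k)
    have := congrArg (fun t => t * k * x) h1
    simpa [mul_assoc] using this.symm
  obtain ⟨M', ⟨hM'O, hM'H, hM'c⟩, hM'min⟩ := Set.Finite.exists_minimal
    (Set.toFinite {M : Subgroup G | M ≤ O ∧ H ≤ Subgroup.normalizer (M : Set G) ∧ ¬ M ≤ Subgroup.centralizer (H : Set G)})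
    ⟨O, le_rfl, by rw [Subgroup.normalizer_eq_top]; exact le_top, fun hle => hnn (by
      rw [← Subgroup.normalizer_eq_top_iff, ← top_le_iff, ← hG, sup_le_iff]
      exact ⟨hle.trans (Subgroup.centralizer_le_normalizer _), le_rfl⟩)⟩
  set D := ⁅M', M'⁆ with hD
  have hDlt : ¬ M' ≤ D := by
    intro hle
    haveI : Group.IsSolvable M' := Cfsg.Agent.Basics.isSolvable_of_le hM'O hOs
    haveI : Nontrivial M' := M'.nontrivial_iff_ne_bot.mpr fun h => hM'c (h ▸ bot_le)
    refine (Group.IsSolvable.commutator_lt_top_of_nontrivial M').ne ?_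
    apply Subgroup.map_injective M'.subtype_injective
    rw [Subgroup.map_subtype_commutator, ← MonoidHom.range_eq_map, Subgroup.range_subtype]
    exact le_antisymm (Subgroup.commutator_le_self M') hle
  have hDc : D ≤ Subgroup.centralizer (H : Set G) := by
    by_contra hDc
    refine hDlt (hM'min ⟨(Subgroup.commutator_le_self M').trans hM'O, fun h hh => ?_, hDc⟩ (Subgroup.commutator_le_self M'))
    have hm : M'.map (MulAut.conj h).toMonoidHom = M' := by
      refine Subgroup.eq_of_le_of_card_ge ?_ (Subgroup.card_map_of_injective (MulAut.conj h).injective).ge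
      rintro _ ⟨y, hy, rfl⟩
      exact (Subgroup.mem_normalizer_iff.mp (hM'H hh) y).mp hy
    have hDh : D.map (MulAut.conj h).toMonoidHom = D := by rw [hD, Subgroup.map_commutator, hm]
    rw [Subgroup.mem_normalizer_iff]
    intro y
    refine ⟨fun hy => hDh.le ⟨y, hy, rfl⟩, fun hy => ?_⟩
    obtain ⟨w, hw, hwy⟩ := hDh.ge hy
    have : w = y := (MulAut.conj h).injective hwy
    exact this ▸ hw
  set E : Subgroup M' := (Subgroup.centralizer (H : Set G)).subgroupOf M' with hE
  haveI hEn : E.Normal := Subgroup.Normal.of_commutator_le M' (by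
    rw [commutator_def, Subgroup.commutator_le]
    intro a _ b _
    exact Subgroup.mem_subgroupOf.mpr (hDc (Subgroup.commutator_mem_commutator a.2 b.2)))
  have hact : ∀ (h : H) (m : M'), (h : G) * m * (h : G)⁻¹ ∈ M' := fun h m =>
    (Subgroup.mem_normalizer_iff.mp (hM'H h.2) m).mp m.2
  let f : H →* MulAut M' :=
    { toFun := fun h =>
        { toFun := fun m => ⟨(h : G) * m * (h : G)⁻¹, hact h m⟩
          invFun := fun m => ⟨(h : G)⁻¹ * m * (h : G), by simpa using hact h⁻¹ m⟩
          left_inv := fun m => Subtype.ext (by simp [mul_assoc])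
          right_inv := fun m => Subtype.ext (by simp [mul_assoc])
          map_mul' := fun a b => Subtype.ext (by simp [mul_assoc]) }
      map_one' := MulEquiv.ext fun m => Subtype.ext (by simp)
      map_mul' := fun a b => MulEquiv.ext fun m => Subtype.ext (by simp [mul_assoc]) }
  have hfE : ∀ (h : H) (e : M'), e ∈ E → f h e = e := fun h e he => Subtype.ext (by
    show (h : G) * e * (h : G)⁻¹ = e
    rw [Subgroup.mem_centralizer_iff.mp (Subgroup.mem_subgroupOf.mp he) h h.2, mul_inv_cancel_right])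
  have hEmap : ∀ h : H, E.map (f h).toMonoidHom = E := fun h => Subgroup.eq_of_le_of_card_ge
    (by rintro _ ⟨e, he, rfl⟩; show f h e ∈ E; rw [hfE h e he]; exact he)
    (Subgroup.card_map_of_injective (f h).injective).ge
  let φ : H →* MulAut (M' ⧸ E) :=
    { toFun := fun h => QuotientGroup.congr E E (f h) (hEmap h)
      map_one' := MulEquiv.ext fun q => by
        induction q using QuotientGroup.induction_on with
        | H m =>
          show ((f 1 m : M') : M' ⧸ E) = (m : M' ⧸ E)
          rw [map_one]; rfl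
      map_mul' := fun a b => MulEquiv.ext fun q => by
        induction q using QuotientGroup.induction_on with
        | H m =>
          show ((f (a * b) m : M') : M' ⧸ E) = ((f a (f b m) : M') : M' ⧸ E)
          rw [map_mul]; rfl }
  have hfpf : ∀ h : H, h ≠ 1 → ∀ q : M' ⧸ E, φ h q = q → q = 1 := by
    intro h hh q hq
    obtain ⟨m, rfl⟩ := QuotientGroup.mk_surjective q
    have hq' : ((f h m : M') : M' ⧸ E) = (m : M' ⧸ E) := hq
    set e := m⁻¹ * f h m with he
    have heE : e ∈ E := QuotientGroup.eq.mp hq'.symm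
    have hit : ∀ j : ℕ, ((f h) ^ j) m = m * e ^ j := by
      intro j
      induction j with
      | zero => simp
      | succ k ih =>
        rw [pow_succ', MulAut.mul_apply, ih, map_mul, map_pow, hfE h e heE, pow_succ', ← mul_assoc, he,
          mul_inv_cancel_left]
    have he1 : e = 1 := by
      have h1 := hit (orderOf h)
      rw [← map_pow, pow_orderOf_eq_one, map_one, MulAut.one_apply, left_eq_mul] at h1
      refine orderOf_eq_one_iff.mp (Nat.eq_one_of_dvd_coprimes hOc ?_
        ((orderOf_dvd_of_pow_eq_one h1).trans (orderOf_dvd_natCard h)))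
      exact (orderOf_dvd_natCard e).trans (Subgroup.card_dvd_of_le hM'O)
    rw [QuotientGroup.eq_one_iff]
    have h2 : (h : G) * m = m * h := by
      have h3 : f h m = m := (inv_mul_eq_one.mp he1).symm
      exact mul_inv_eq_iff_eq_mul.mp (congrArg Subtype.val h3)
    exact Subgroup.mem_subgroupOf.mpr (Subgroup.mem_centralizer_iff.mpr
      (hfix h h.2 (fun h1 => hh (Subtype.ext h1)) m (hM'O m.2) h2))
  haveI : Nontrivial (M' ⧸ E) := by
    rw [← Finite.one_lt_card_iff_nontrivial, ← Subgroup.index_eq_card]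
    refine lt_of_le_of_ne (Nat.one_le_iff_ne_zero.mpr Subgroup.index_ne_zero_of_finite) fun h => ?_
    exact hM'c (Subgroup.subgroupOf_eq_top.mp (Subgroup.index_eq_one.mp h.symm))
  have hfc : Cfsg.Agent.Zassenhaus.FC H := Cfsg.Agent.Zassenhaus.fc_of_action φ hfpf
  haveI hHs : Group.IsSolvable H := by
    by_contra hns
    obtain ⟨θ, hθ, -⟩ := hfc.exists_embed hns
    refine hno ((θ.range).map H.subtype) (Subgroup.map_subtype_le _) ⟨?_⟩
    exact ((MonoidHom.ofInjective hθ).trans
      (Subgroup.equivMapOfInjective _ H.subtype H.subtype_injective)).symm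
  haveI hHbn : Hb.Normal := by
    have h := hOHn.map π hπs
    rwa [Subgroup.map_sup, show O.map π = ⊥ from (Subgroup.map_eq_bot_iff _).mpr (QuotientGroup.ker_mk' O).ge,
      bot_sup_eq] at h
  haveI : Group.IsSolvable Hb := Group.isSolvable_of_surjective (f := eH.toMonoidHom) eH.surjective
  have hq := Cfsg.Agent.FGB.isSolvable_quotient_of_fc Hb (hfc.congr eH.symm)
    (hHbcard ▸ hHallG.coprime_dvd_right hHbidx) (fun K hK hKc => hcore K hK (hHbcard ▸ hKc))
  haveI : Group.IsSolvable (G ⧸ O) := (Group.isSolvable_iff_subgroup_quotient Hb).mpr ⟨inferInstance, hq⟩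
  exact (Group.isSolvable_iff_subgroup_quotient O).mpr ⟨hOs, inferInstance⟩

end Cfsg.Agent.S4118
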