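import Cfsg.Statements.S4126
import Cfsg.Agent.Lib.FGS.Kazarin
import Cfsg.Agent.Lib.ConjFunctor.Critical
import Cfsg.Agent.Lib.ConjFunctor.CriticalChief
import Cfsg.Agent.Lib.LocalEvenB.FixedOrder
import Cfsg.Agent.Lib.Transfer.Fusion

set_option autoImplicit false
open Cfsg

open scoped commutatorElement

namespace Cfsg.Agent.S4126

/-- Let G be a finite group and p a prime. Suppose every element of order p, and when p = 2 also every element of order 4, has a conjugacy class of p-power size. Then G has a normal p-complement. -/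
theorem result {G : Type*} [Group G] [Finite G] (p : ℕ) [Fact p.Prime]
    (h : ∀ x : G, (orderOf x = p ∨ (p = 2 ∧ orderOf x = 4)) → ∃ a : ℕ, (Subgroup.centralizer ({x} : Set G)).index = p ^ a) :
    Cfsg.HasNormalPComplement p G := by
  have hp := (Fact.out : p.Prime)
  set q := if p = 2 then 4 else p with hq
  have hyp : ∀ x : G, x ≠ 1 → x ^ q = 1 →
      (∃ k, orderOf x ∣ p ^ k) ∧ ∃ a : ℕ, (Subgroup.centralizer ({x} : Set G)).index = p ^ a := by
    intro x hx1 hxq
    have hd : orderOf x ∣ q := orderOf_dvd_of_pow_eq_one hxq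
    have ho : orderOf x ≠ 1 := fun h1 => hx1 (orderOf_eq_one_iff.mp h1)
    by_cases h2 : p = 2
    · rw [hq, if_pos h2] at hd
      subst h2
      obtain ⟨j, hj, hj'⟩ := (Nat.dvd_prime_pow Nat.prime_two).mp (show orderOf x ∣ 2 ^ 2 by simpa using hd)
      refine ⟨⟨j, hj'.dvd⟩, h x ?_⟩
      interval_cases j
      · exact absurd hj' ho
      · exact Or.inl hj'
      · exact Or.inr ⟨rfl, hj'⟩
    · rw [hq, if_neg h2] at hd
      have hx := ((Nat.dvd_prime hp).mp hd).resolve_left ho
      exact ⟨⟨1, by rw [pow_one]; exact hd⟩, h x (Or.inl hx)⟩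
  have key : ∀ (P : Type _) [Group P] [Finite P], IsPGroup p P → ∀ (α : MulAut P),
      (orderOf α).Coprime p → (∀ x : P, x ^ q = 1 → α x = x) → ∀ x : P, α x = x := by
    intro P _ _ hP α hα hfix
    by_cases h2 : p = 2
    · subst h2
      exact Cfsg.Agent.LocalEvenB.fix_of_fix_four hP α hα (by simpa [hq] using hfix)
    · exact Cfsg.Agent.Coprime23.fix_of_fix_omega hP h2 α hα (by simpa [hq, h2] using hfix)
  haveI hRn : (Cfsg.pCore p G).Normal := Cfsg.Agent.Basics.pCore_normal p
  set R := Cfsg.pCore p G with hR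
  have hRp : IsPGroup p R := Cfsg.Agent.Basics.pCore_isPGroup p
  obtain ⟨A₀, hA₀c, hA₀3, hA₀1, hA₀C⟩ := Cfsg.Agent.ConjFunctor.exists_critical hRp
  haveI := hA₀c
  -- the elements of order dividing `q` of the critical subgroup
  have hcen : ∀ a ∈ A₀, ∀ b ∈ A₀, ∀ c ∈ A₀, Commute ⁅b, a⁆ c ∧ Commute (a ^ p) c := by
    intro a ha b hb c hc
    have h1 := hA₀3 (Subgroup.commutator_mem_commutator (Subgroup.mem_top b) ha)
    exact ⟨(Subgroup.mem_centralizer_iff.mp h1.2 c hc).symm,
      (Subgroup.mem_centralizer_iff.mp (hA₀1 a ha).2 c hc).symm⟩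
  let E₀ : Subgroup R :=
    { carrier := {a | a ∈ A₀ ∧ a ^ q = 1}
      one_mem' := ⟨one_mem _, one_pow q⟩
      mul_mem' := fun {a b} ha hb => by
        refine ⟨mul_mem ha.1 hb.1, ?_⟩
        obtain ⟨z, hz⟩ : ∃ z, z = ⁅b⁻¹, a⁻¹⁆ := ⟨_, rfl⟩
        have hzc : ∀ c ∈ A₀, Commute z c := fun c hc =>
          hz ▸ (hcen a⁻¹ (inv_mem ha.1) b⁻¹ (inv_mem hb.1) c hc).1
        have hba : b * a = a * b * z := by rw [hz, commutatorElement_def]; group
        rw [Cfsg.Agent.Coprime23.mul_pow_of_central hba (hzc b hb.1) (hzc a ha.1), ha.2, hb.2,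
          one_mul, one_mul]
        have hzp : z ^ p = 1 := by
          have h2 := Cfsg.Agent.Coprime23.pow_mul_eq_of_central hba (hzc b hb.1) (hzc a ha.1) p
          rw [(hcen b hb.1 b hb.1 a ha.1).2.eq, ← mul_one (a * b ^ p), mul_assoc a (b ^ p) 1] at h2
          simpa using h2.symm
        have hdvd : p ∣ q * (q - 1) / 2 := by
          by_cases h2 : p = 2
          · subst h2; simp [hq]
          · rw [hq, if_neg h2]
            obtain ⟨j, hj⟩ := hp.odd_of_ne_two h2
            rw [hj, Nat.add_sub_cancel, ← mul_assoc, mul_comm (2 * j + 1) 2, mul_assoc,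
              Nat.mul_div_cancel_left _ two_pos]
            exact dvd_mul_right _ _
        obtain ⟨e, he⟩ := hdvd
        rw [he, pow_mul, hzp, one_pow]
      inv_mem' := fun {a} ha => ⟨inv_mem ha.1, by rw [inv_pow, ha.2, inv_one]⟩ }
  haveI hE₀c : E₀.Characteristic := by
    refine Subgroup.characteristic_iff_map_le.mpr fun φ => ?_
    rintro _ ⟨a, ha, rfl⟩
    refine ⟨(Subgroup.characteristic_iff_map_le.mp hA₀c φ) (Subgroup.mem_map_of_mem _ ha.1), ?_⟩
    rw [← map_pow, ha.2, map_one]
  haveI : (E₀.map R.subtype).Normal := inferInstance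
  have hEp : IsPGroup p (E₀.map R.subtype : Subgroup G) := (hRp.to_subgroup E₀).map _
  -- coprime elements centralise the critical exponent-`q` part
  have hfixE : ∀ y : G, (orderOf y).Coprime p → ∀ e ∈ E₀.map R.subtype, Commute y e := by
    intro y hy
    refine Cfsg.Agent.ConjFunctor.commute_of_factors hEp hy (fun U V hUV hUE u hu => ?_)
      inferInstance le_rfl
    obtain ⟨hlt, hUn, hVn, hmin⟩ := hUV
    haveI := hUn
    haveI := hVn
    -- a point fixed by a Sylow `p`-subgroup
    obtain ⟨S⟩ : Nonempty (Sylow p G) := inferInstance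
    set U' := U.map (QuotientGroup.mk' V) with hU'
    haveI : U'.Normal := Subgroup.Normal.map inferInstance _ (QuotientGroup.mk'_surjective V)
    set S' := (S : Subgroup G).map (QuotientGroup.mk' V) with hS'
    have hU'p : IsPGroup p U' := (hEp.to_le hUE).map _
    have hU'ne : U' ≠ ⊥ := fun h0 => hlt.not_ge (by
      have := (Subgroup.map_eq_bot_iff _).mp h0
      rwa [QuotientGroup.ker_mk'] at this)
    haveI : Nontrivial U' := U'.nontrivial_iff_ne_bot.mpr hU'ne
    let act : MulAction S' U' :=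
      MulAction.compHom U' ((MulAut.conjNormal (H := U')).comp S'.subtype)
    obtain ⟨n, hn0, hn⟩ := hU'p.nontrivial_iff_card.mp inferInstance
    obtain ⟨w, hw, hwne⟩ := (S.isPGroup'.map (QuotientGroup.mk' V)).exists_fixed_point_of_prime_dvd_card_of_fixed_point
      U' (hn ▸ dvd_pow_self p hn0.ne') (a := (1 : U'))
      (fun g => map_one (MulAut.conjNormal (g : G ⧸ V) : MulAut U'))
    obtain ⟨u₀, hu₀, hu₀w⟩ := w.2
    have hu₀q : u₀ ^ q = 1 := by
      obtain ⟨a, ha, rfl⟩ := hUE hu₀
      rw [← map_pow, ha.2, map_one]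
    have hu₀1 : u₀ ≠ 1 := fun h1 => hwne (Subtype.ext (by rw [← hu₀w, h1, map_one]; rfl))
    obtain ⟨b, hb⟩ := (hyp u₀ hu₀1 hu₀q).2
    set C := Subgroup.centralizer ({(u₀ : G ⧸ V)} : Set (G ⧸ V)) with hC
    have hS'C : S' ≤ C := by
      intro s hs
      rw [hC, Subgroup.mem_centralizer_singleton_iff]
      have h1 : ((MulAut.conjNormal s w : U') : G ⧸ V) = w := congrArg Subtype.val (hw ⟨s, hs⟩)
      rw [MulAut.conjNormal_apply, ← hu₀w] at h1
      exact mul_inv_eq_iff_eq_mul.mp h1
    have hC1 : C.index = 1 := by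
      have hd1 : C.index ∣ p ^ b := by
        rw [← hb]
        have hle : (Subgroup.centralizer ({u₀} : Set G)).map (QuotientGroup.mk' V) ≤ C := by
          rintro _ ⟨g, hg, rfl⟩
          rw [hC, Subgroup.mem_centralizer_singleton_iff]
          exact congrArg QuotientGroup.mk (Subgroup.mem_centralizer_singleton_iff.mp hg)
        exact (Subgroup.index_dvd_of_le hle).trans
          (Subgroup.index_map_dvd _ (QuotientGroup.mk'_surjective V))
      have hd2 : C.index ∣ (S : Subgroup G).index :=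
        (Subgroup.index_dvd_of_le hS'C).trans
          (Subgroup.index_map_dvd _ (QuotientGroup.mk'_surjective V))
      exact Nat.eq_one_of_dvd_coprimes
        ((hp.coprime_iff_not_dvd.mpr S.not_dvd_index).pow_left b) hd1 hd2
    have hCtop : C = ⊤ := Subgroup.index_eq_one.mp hC1
    set N := U ⊓ (Subgroup.center (G ⧸ V)).comap (QuotientGroup.mk' V) with hN
    have hu₀N : u₀ ∈ N := ⟨hu₀, Subgroup.mem_center_iff.mpr fun g =>
      Subgroup.mem_centralizer_singleton_iff.mp (hCtop.symm ▸ Subgroup.mem_top g : g ∈ C)⟩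
    have hNU : N = U := by
      refine (hmin N inferInstance (fun v hv => ⟨hlt.le hv, ?_⟩) inf_le_left).resolve_left fun h1 => ?_
      · show (QuotientGroup.mk' V v) ∈ Subgroup.center (G ⧸ V)
        rw [QuotientGroup.mk'_apply, (QuotientGroup.eq_one_iff v).mpr hv]
        exact one_mem _
      · exact hwne (Subtype.ext (by
          rw [← hu₀w, QuotientGroup.mk'_apply, (QuotientGroup.eq_one_iff u₀).mpr (h1 ▸ hu₀N)]
          rfl))
    rw [← QuotientGroup.eq_one_iff, ← QuotientGroup.mk'_apply, map_commutatorElement,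
      commutatorElement_eq_one_iff_mul_comm]
    exact Subgroup.mem_center_iff.mp (hNU.symm.le hu).2 _
  -- hence they centralise the whole core
  have hfixR : ∀ y : G, (orderOf y).Coprime p → ∀ r ∈ R, Commute y r := by
    intro y hy r hr
    set φ : MulAut R := MulAut.conjNormal y with hφ
    have hφo : (orderOf φ).Coprime p :=
      hy.coprime_dvd_left (orderOf_map_dvd (MulAut.conjNormal (H := R)) y)
    have hA : ∀ a ∈ A₀, φ a ∈ A₀ := fun a ha =>
      (Subgroup.characteristic_iff_map_le.mp hA₀c φ) (Subgroup.mem_map_of_mem _ ha)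
    have hA1 : ∀ a ∈ A₀, φ a = a := by
      intro a ha
      have hψ : (orderOf (Cfsg.Agent.Coprime23.restrictAut φ A₀ hA)).Coprime p := by
        refine hφo.coprime_dvd_left (orderOf_dvd_of_pow_eq_one ?_)
        have hpow : ∀ (j : ℕ) (x : A₀),
            (((Cfsg.Agent.Coprime23.restrictAut φ A₀ hA ^ j) x : A₀) : R) = (φ ^ j) x := by
          intro j
          induction j with
          | zero => intro x; simp
          | succ j ihj =>
            intro x
            rw [pow_succ', pow_succ', MulAut.mul_apply, MulAut.mul_apply,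
              Cfsg.Agent.Coprime23.restrictAut_apply, ihj]
        refine MulEquiv.ext fun x => Subtype.ext ?_
        rw [hpow, pow_orderOf_eq_one]
        rfl
      refine congrArg Subtype.val
        (key A₀ (hRp.to_subgroup A₀) _ hψ (fun x hx => Subtype.ext ?_) ⟨a, ha⟩)
      rw [Cfsg.Agent.Coprime23.restrictAut_apply]
      refine Subtype.ext ?_
      have hcm : y * ((x : R) : G) = (x : R) * y := (hfixE y hy _ ⟨x, ⟨x.2, ?_⟩, rfl⟩).eq
      rw [hφ, MulAut.conjNormal_apply, hcm]
      · exact mul_inv_cancel_right _ _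
      · exact congrArg Subtype.val hx
    have h1 := Cfsg.Agent.ConjFunctor.eq_one_of_fix_critical hRp inferInstance hA₀C φ hφo hA1
    have h2 := congrArg Subtype.val (DFunLike.congr_fun h1 ⟨r, hr⟩)
    rw [hφ, MulAut.conjNormal_apply, MulAut.one_apply] at h2
    exact mul_inv_eq_iff_eq_mul.mp h2
  -- Frobenius' criterion
  refine Cfsg.Agent.Transfer.hasNormalPComplement_of_frobenius fun D hD g hg hgo => ?_
  rw [Subgroup.mem_centralizer_iff]
  intro d hd
  set ψ : MulAut D := Subgroup.normalizerMonoidHom D ⟨g, hg⟩ with hψ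
  have hψo : (orderOf ψ).Coprime p := by
    refine hgo.coprime_dvd_left ?_
    have := orderOf_map_dvd D.normalizerMonoidHom (⟨g, hg⟩ : Subgroup.normalizer (D : Set G))
    rwa [← Subgroup.orderOf_coe] at this
  have h1 := congrArg Subtype.val (key D hD ψ hψo (fun x hx => Subtype.ext ?_) ⟨d, hd⟩)
  · have h2 : g * d * g⁻¹ = d := h1
    exact (mul_inv_eq_iff_eq_mul.mp h2).symm
  · show g * (x : G) * g⁻¹ = x
    by_cases hx1 : (x : G) = 1
    · simp [hx1]
    obtain ⟨hk, hcl⟩ := hyp x hx1 (congrArg Subtype.val hx)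
    rw [(hfixR g hgo x (Cfsg.Agent.FGS.Kazarin.mem_pCore_of_pElement hk hcl)).eq,
      mul_inv_cancel_right]

end Cfsg.Agent.S4126
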