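import Cfsg.Statements.S4130
import Cfsg.Agent.Lib.FGS.SquarefreeStructure

set_option autoImplicit false
open Cfsg
open scoped Pointwise
set_option linter.all false

namespace Cfsg.Agent.S4130

/-- Let G be a finite group all of whose conjugacy class sizes are square-free. Then G is supersolvable, G/F(G) and the derived subgroup G′ are cyclic of square-free order (F(G) the Fitting subgroup, which is normal), F(G) has nilpotency class at most 2, and G is metabelian. -/
theorem result {G : Type*} [Group G] [Finite G]
    (h : ∀ x : G, Squarefree (Subgroup.centralizer ({x} : Set G)).index) :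
    Cfsg.IsSupersolvable G ∧ (Cfsg.fittingSubgroup G).Normal ∧
    (∀ _h : (Cfsg.fittingSubgroup G).Normal, IsCyclic (G ⧸ Cfsg.fittingSubgroup G) ∧ Squarefree (Cfsg.fittingSubgroup G).index) ∧
    IsCyclic (commutator G) ∧ Squarefree (Nat.card (commutator G)) ∧
    Subgroup.upperCentralSeries ↥(Cfsg.fittingSubgroup G) 2 = ⊤ ∧ commutator ↥(commutator G) = ⊥ := by
  obtain ⟨hss, hnil⟩ := FGS.SquarefreeClass.supersolvable_and_nilpotent _ G rfl h
  have hle := FGS.SquarefreeClass.commutator_le_fitting h
  have hsqC : Squarefree (Nat.card (commutator G)) :=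
    FGS.SquarefreeClass.squarefree_of_forall fun p hp =>
      FGS.SquarefreeClass.not_sq_dvd_commutator _ G rfl h p hp
  haveI : Group.IsNilpotent (commutator G) := hnil
  haveI : IsZGroup (commutator G) := IsZGroup.of_squarefree hsqC
  haveI hcyc : IsCyclic (commutator G) := inferInstance
  refine ⟨hss, inferInstance, fun _ => ?_, hcyc, hsqC,
    FGS.SquarefreeClass.fitting_class_two h, ?_⟩
  · have hsqF : Squarefree (fittingSubgroup G).index :=
      FGS.SquarefreeClass.squarefree_of_forall fun p hp =>
        FGS.SquarefreeClass.not_sq_dvd_fitting_index _ G rfl h p hp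
    haveI hm : IsMulCommutative (G ⧸ fittingSubgroup G) :=
      Subgroup.Normal.quotient_commutative_iff_commutator_le.2 hle
    haveI : Group.IsNilpotent (G ⧸ fittingSubgroup G) := by
      letI : CommGroup (G ⧸ fittingSubgroup G) := { mul_comm := hm.is_comm.comm }
      exact inferInstance
    haveI : IsZGroup (G ⧸ fittingSubgroup G) := IsZGroup.of_squarefree (by
      rwa [← Subgroup.index_eq_card])
    exact ⟨inferInstance, hsqF⟩
  · rw [eq_bot_iff]
    refine Subgroup.commutator_le.2 fun a _ b _ => Subgroup.mem_bot.2 ?_
    exact commutatorElement_eq_one_iff_mul_comm.2 ((hcyc.commutative).is_comm.comm a b)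

end Cfsg.Agent.S4130
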