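import Cfsg.Statements.S4138
import Cfsg.Agent.Lib.FGB.TwoLargest
import Cfsg.Agent.S0034

set_option autoImplicit false
open Cfsg

namespace Cfsg.Agent.S4138

open Cfsg.Agent.FGB Cfsg.Agent.FGB.TwoLargest
open scoped Pointwise

variable {G : Type*} [Group G] [Finite G] {m n : ℕ}

local notation "C(" g ")" => Subgroup.centralizer ({g} : Set G)

theorem center_le (g : G) : Subgroup.center G ≤ C(g) := fun z hz =>
  Subgroup.mem_centralizer_singleton_iff.2 (Subgroup.mem_center_iff.1 hz g).symm

theorem relIndex_center (H : Hyp G m n) {y : G} (hy : cls y = m) {x : G} (hx : cls x = n)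
    (hox : (orderOf x).Coprime n) (g : G) : (Subgroup.center G).relIndex C(g) * cls g = n * m :=
  (Subgroup.relIndex_mul_index (center_le g)).trans (H.center_index hy hx hox)

theorem pow_mem_center (H : Hyp G m n) {y : G} (hy : cls y = m) {x : G} (hx : cls x = n)
    (hox : (orderOf x).Coprime n) {b : G} (hb : cls b = m) {u : G} (hu : u ∈ C(b)) :
    u ^ n ∈ Subgroup.center G := by
  have h1 := relIndex_center H hy hx hox b
  rw [hb] at h1
  have h2 : (Subgroup.center G).relIndex C(b) = n :=
    Nat.eq_of_mul_eq_mul_right (by have := H.lt; omega) h1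
  haveI : ((Subgroup.center G).subgroupOf C(b)).Normal := inferInstance
  have := Subgroup.pow_index_mem ((Subgroup.center G).subgroupOf C(b)) (⟨u, hu⟩ : C(b))
  rw [show ((Subgroup.center G).subgroupOf C(b)).index = n from h2] at this
  exact this

/-- A non-central element of order prime to `n` has class size `n`. -/
theorem cls_eq_n (H : Hyp G m n) {y : G} (hy : cls y = m) {x : G} (hx : cls x = n)
    (hox : (orderOf x).Coprime n) {w : G} (how : (orderOf w).Coprime n)
    (hw : w ∉ Subgroup.center G) : cls w = n := by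
  have h1 := relIndex_center H hy hx hox w
  have hcop : ((Subgroup.center G).relIndex C(w)).Coprime n := by
    refine Nat.coprime_of_dvd fun r hr hr1 hrn => ?_
    haveI := Fact.mk hr
    obtain ⟨S⟩ : Nonempty (Sylow r C(w)) := Sylow.nonempty
    refine S.not_dvd_index (hr1.trans (Subgroup.index_dvd_of_le (K := (Subgroup.center G).subgroupOf C(w)) ?_))
    intro h hh
    obtain ⟨k, hk⟩ := (IsPGroup.iff_orderOf.1 S.isPGroup') ⟨h, hh⟩
    rw [Subgroup.orderOf_mk, ← Subgroup.orderOf_coe] at hk
    rw [Subgroup.mem_subgroupOf]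
    by_contra hhc
    have hm := (H.stepH hy hx hox (hk ▸ pow_dvd_pow_of_dvd hrn k) hhc).1
    have hwh : w ∈ C((h : G)) := Subgroup.mem_centralizer_singleton_iff.2
      (Subgroup.mem_centralizer_singleton_iff.1 h.2).symm
    obtain ⟨e, he⟩ := exists_pow_eq_self_of_coprime (x := w) (n := n) how.symm
    exact hw (he ▸ Subgroup.pow_mem _ (pow_mem_center H hy hx hox hm hwh) e)
  exact H.dich_n ((hcop.symm).dvd_of_dvd_mul_left (h1.symm ▸ dvd_mul_right n m))

/-- All centralizers of non-central elements of order prime to `n` coincide and are abelian. -/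
theorem exists_A (H : Hyp G m n) {y : G} (hy : cls y = m) {x : G} (hx : cls x = n)
    (hox : (orderOf x).Coprime n) :
    C(x).Normal ∧ (∀ u ∈ C(x), ∀ v ∈ C(x), Commute u v) ∧
      ∀ w : G, (orderOf w).Coprime n → w ∉ Subgroup.center G → C(w) = C(x) := by
  classical
  obtain ⟨K, hK⟩ := (Set.toFinite {K : Subgroup G | K.Normal ∧ (Nat.card K).Coprime n}).exists_maximal
    ⟨⊥, inferInstanceAs (⊥ : Subgroup G).Normal, by simp⟩
  obtain ⟨hKn, hKc⟩ := hK.prop
  haveI := hKn
  have hmem : ∀ w : G, (orderOf w).Coprime n → w ∉ Subgroup.center G → w ∈ K := by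
    intro w how hw
    have hwn := cls_eq_n H hy hx hox how hw
    set L := Subgroup.normalClosure ({w} : Set G) with hL
    have hpair : ∀ u ∈ Group.conjugatesOfSet ({w} : Set G), ∀ v ∈ Group.conjugatesOfSet ({w} : Set G),
        Commute u v := by
      intro u hu v hv
      simp only [Group.mem_conjugatesOfSet_iff, Set.mem_singleton_iff, exists_eq_left] at hu hv
      obtain ⟨g, rfl⟩ := isConj_iff.1 hu
      obtain ⟨k, rfl⟩ := isConj_iff.1 hv
      have := (conj_data (a := w) (b := y) (by rw [hwn, hy]; exact H.cop.symm) (hy ▸ H.top _)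
        (g⁻¹ * k)).1.map (MulAut.conj g).toMonoidHom
      simpa [mul_assoc] using this
    have hLc : ∀ u ∈ L, ∀ v ∈ L, Commute u v := by
      intro u hu v hv
      induction hu using Subgroup.closure_induction with
      | mem a ha =>
        induction hv using Subgroup.closure_induction with
        | mem b hb => exact hpair a ha b hb
        | one => exact Commute.one_right a
        | mul c d _ _ hc hd => exact hc.mul_right hd
        | inv c _ hc => exact hc.inv_right
      | one => exact Commute.one_left v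
      | mul c d _ _ hc hd => exact hc.mul_left hd
      | inv c _ hc => exact hc.inv_left
    have hexp : ∀ u ∈ L, u ^ orderOf w = 1 := by
      intro u hu
      induction hu using Subgroup.closure_induction with
      | mem a ha =>
        simp only [Group.mem_conjugatesOfSet_iff, Set.mem_singleton_iff, exists_eq_left] at ha
        obtain ⟨g, rfl⟩ := isConj_iff.1 ha
        rw [conj_pow, pow_orderOf_eq_one, mul_one, mul_inv_cancel]
      | one => exact one_pow _
      | mul a b ha hb iha ihb => rw [(hLc a ha b hb).mul_pow, iha, ihb, one_mul]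
      | inv a _ iha => rw [inv_pow, iha, inv_one]
    have hLcop : (Nat.card L).Coprime n := by
      refine Nat.coprime_of_dvd fun r hr hr1 hrn => ?_
      haveI := Fact.mk hr
      obtain ⟨u, hu⟩ := exists_prime_orderOf_dvd_card' r hr1
      have : r ∣ orderOf w := by
        rw [← hu]
        exact orderOf_dvd_of_pow_eq_one (Subtype.ext (hexp u u.2))
      exact hr.not_dvd_one ((Nat.coprime_iff_gcd_eq_one.1 how) ▸ Nat.dvd_gcd this hrn)
    have hsup : (Nat.card ↥(L ⊔ K)).Coprime n := by
      rw [← Subgroup.relIndex_bot_left, ← Subgroup.relIndex_mul_relIndex _ _ _ bot_le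
        (le_sup_right : K ≤ L ⊔ K), Subgroup.relIndex_bot_left, Subgroup.relIndex_sup_right]
      exact Nat.Coprime.mul_left hKc (hLcop.coprime_dvd_left (Subgroup.relIndex_dvd_card _ _))
    have := hK.2 (y := L ⊔ K) ⟨inferInstance, hsup⟩ le_sup_right
    exact this (le_sup_left (a := L) (Subgroup.subset_normalClosure (Set.mem_singleton w)))
  set A := K ⊔ Subgroup.center G with hA
  have hle : ∀ w : G, (orderOf w).Coprime n → w ∉ Subgroup.center G → C(w) ≤ A := by
    intro w how hw u hu
    obtain ⟨u₁, u₂, s, t, hu₁, hu₂, huu, hc1, e, he⟩ := exists_split u n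
    have hwu : Commute w u := (Subgroup.mem_centralizer_singleton_iff.1 hu).symm
    have h2 := H.nCentral hy (cls_eq_n H hy hx hox how hw) how he (hu₂ ▸ hwu.pow_right t)
    rw [huu]
    refine A.mul_mem ?_ ((le_sup_right : Subgroup.center G ≤ A) h2)
    by_cases h1 : u₁ ∈ Subgroup.center G
    · exact (le_sup_right : Subgroup.center G ≤ A) h1
    · exact (le_sup_left : K ≤ A) (hmem u₁ hc1 h1)
  have hAindex : n ∣ A.index := by
    have h1 : (Subgroup.center G).relIndex A * A.index = n * m :=
      (Subgroup.relIndex_mul_index le_sup_right).trans (H.center_index hy hx hox)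
    rw [Subgroup.relIndex_sup_right] at h1
    exact ((hKc.coprime_dvd_left (Subgroup.relIndex_dvd_card _ _)).symm).dvd_of_dvd_mul_left
      (h1.symm ▸ dvd_mul_right n m)
  have heq : ∀ w : G, (orderOf w).Coprime n → w ∉ Subgroup.center G → C(w) = A := by
    intro w how hw
    refine Subgroup.eq_of_le_of_card_ge (hle w how hw) ?_
    have h1 := C(w).card_mul_index
    have h2 := A.card_mul_index
    have h3 : C(w).index = n := cls_eq_n H hy hx hox how hw
    rw [h3] at h1
    have h4 : n ≤ A.index := Nat.le_of_dvd (Nat.pos_of_ne_zero Subgroup.index_ne_zero_of_finite) hAindex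
    refine Nat.le_of_mul_le_mul_right ?_ (show 0 < n by have := H.one_lt; omega)
    calc Nat.card A * n ≤ Nat.card A * A.index := Nat.mul_le_mul_left _ h4
      _ = Nat.card C(w) * n := by rw [h2, h1]
  have hxc : x ∉ Subgroup.center G := fun h => by
    have := cls_of_central h
    have := H.one_lt
    omega
  have hxA : C(x) = A := heq x hox hxc
  refine ⟨hxA ▸ inferInstance, fun u hu v hv => ?_, fun w how hw => (heq w how hw).trans hxA.symm⟩
  obtain ⟨u₁, u₂, s, t, hu₁, hu₂, huu, hc1, e, he⟩ := exists_split u n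
  have hxu : Commute x u := (Subgroup.mem_centralizer_singleton_iff.1 hu).symm
  have h2 := Subgroup.mem_center_iff.1 (H.nCentral hy hx hox he (hu₂ ▸ hxu.pow_right t)) v
  rw [huu]
  refine Commute.mul_left ?_ (show Commute v u₂ from h2).symm
  by_cases h1 : u₁ ∈ Subgroup.center G
  · exact (show Commute v u₁ from Subgroup.mem_center_iff.1 h1 v).symm
  · have : v ∈ C(u₁) := by rw [heq u₁ hc1 h1, ← hxA]; exact hv
    exact (show Commute v u₁ from Subgroup.mem_centralizer_singleton_iff.1 this).symm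

/-- The commutator trick. -/
theorem comm_trick (H : Hyp G m n) {y : G} (hy : cls y = m) {x : G} (hx : cls x = n)
    (hox : (orderOf x).Coprime n) {a : G} (ha : a ∈ C(x)) {h : G} {e : ℕ}
    (he : orderOf h ∣ n ^ e) (hh : h ∉ Subgroup.center G)
    (hz : (h * a * h⁻¹)⁻¹ * a ∈ Subgroup.center G) : a ∈ Subgroup.center G := by
  obtain ⟨a₁, a₂, s, t, ha₁, ha₂, haa, hc1, f, hf⟩ := exists_split a n
  have hxa : Commute x a := (Subgroup.mem_centralizer_singleton_iff.1 ha).symm
  have ha2 := H.nCentral hy hx hox hf (ha₂ ▸ hxa.pow_right t)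
  set z := a₁⁻¹ * (h * a₁ * h⁻¹) with hzdef
  have hzc : z ∈ Subgroup.center G := by
    have h1 : (h * a * h⁻¹)⁻¹ * a = z⁻¹ := by
      have hX : h * (a₁ * a₂) * h⁻¹ = h * a₁ * h⁻¹ * a₂ := by
        rw [← mul_assoc h a₁ a₂, mul_assoc (h * a₁) a₂, ← Subgroup.mem_center_iff.1 ha2 h⁻¹,
          ← mul_assoc]
      calc (h * a * h⁻¹)⁻¹ * a = a₂⁻¹ * (((h * a₁ * h⁻¹)⁻¹ * a₁) * a₂) := by rw [haa, hX]; group
        _ = a₂⁻¹ * (a₂ * ((h * a₁ * h⁻¹)⁻¹ * a₁)) := by rw [Subgroup.mem_center_iff.1 ha2]
        _ = z⁻¹ := by rw [hzdef]; group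
    rw [h1] at hz
    simpa using (Subgroup.center G).inv_mem hz
  have hzcomm : ∀ g : G, Commute g z := Subgroup.mem_center_iff.1 hzc
  have hstep : h * a₁ * h⁻¹ = a₁ * z := by rw [hzdef]; group
  have hiter : ∀ i : ℕ, h ^ i * a₁ * (h ^ i)⁻¹ = a₁ * z ^ i := by
    intro i
    induction i with
    | zero => simp
    | succ i ih =>
      calc h ^ (i + 1) * a₁ * (h ^ (i + 1))⁻¹ = h * (h ^ i * a₁ * (h ^ i)⁻¹) * h⁻¹ := by
            rw [pow_succ']; group
        _ = (h * a₁ * h⁻¹) * (h * z ^ i * h⁻¹) := by rw [ih]; group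
        _ = a₁ * z ^ (i + 1) := by
            rw [((hzcomm h).pow_right i).eq, mul_inv_cancel_right, hstep, mul_assoc, ← pow_succ']
  have hzo : z ^ orderOf h = 1 := by
    have := hiter (orderOf h)
    rw [pow_orderOf_eq_one] at this
    simpa using this
  have hzo' : z ^ orderOf a₁ = 1 := by
    have h1 : (h * a₁ * h⁻¹) ^ orderOf a₁ = 1 := by
      rw [conj_pow, pow_orderOf_eq_one, mul_one, mul_inv_cancel]
    rwa [hstep, (hzcomm a₁).mul_pow, pow_orderOf_eq_one, one_mul] at h1
  have hz1 : z = 1 := orderOf_eq_one_iff.1 (Nat.eq_one_of_dvd_coprimes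
    ((hc1.pow_right e).coprime_dvd_right he) (orderOf_dvd_of_pow_eq_one hzo') (orderOf_dvd_of_pow_eq_one hzo))
  rw [hz1, mul_one, mul_inv_eq_iff_eq_mul] at hstep
  have hm := (H.stepH hy hx hox he hh).1
  have hah : Commute a h := by
    rw [haa]
    exact (show Commute a₁ h from hstep.symm).mul_left
      (show Commute h a₂ from Subgroup.mem_center_iff.1 ha2 h).symm
  rw [← H.inf_eq_center hx hox hm]
  exact ⟨ha, Subgroup.mem_centralizer_singleton_iff.2 hah.eq⟩

/-- Centralizers of non-central `n`-primary elements of `C(b)`, where `b` has class size `m`. -/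
theorem centralizer_eq (H : Hyp G m n) {x : G} (hx : cls x = n)
    (hox : (orderOf x).Coprime n) {b : G} (hb : cls b = m) {h : G} (hh : h ∈ C(b)) {e : ℕ}
    (he : orderOf h ∣ n ^ e) (hhc : h ∉ Subgroup.center G) : C(h) = C(b) := by
  have hm := (H.stepH hb hx hox he hhc).1
  refine eq_of_le_of_cls (fun c hc => ?_) (hm.trans hb.symm)
  obtain ⟨a, ha, b', hb', rfl⟩ := exists_mul (A := C(x)) (B := C(b)) (by
    show (cls x).Coprime (cls b); rw [hx, hb]; exact H.cop.symm) c
  haveI := (exists_A H hb hx hox).1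
  have hch : a * b' * h = h * (a * b') := Subgroup.mem_centralizer_singleton_iff.1 hc
  have h1 : (h * a * h⁻¹)⁻¹ * a = h * (b' * h * b'⁻¹)⁻¹ := by
    calc (h * a * h⁻¹)⁻¹ * a = h * a⁻¹ * h⁻¹ * (a * b' * h) * h⁻¹ * b'⁻¹ := by group
      _ = h * a⁻¹ * h⁻¹ * (h * (a * b')) * h⁻¹ * b'⁻¹ := by rw [hch]
      _ = h * (b' * h * b'⁻¹)⁻¹ := by group
  have h2 : (h * a * h⁻¹)⁻¹ * a ∈ Subgroup.center G := by
    rw [← H.inf_eq_center hx hox hb]
    refine ⟨C(x).mul_mem (C(x).inv_mem (Subgroup.Normal.conj_mem inferInstance a ha h)) ha, ?_⟩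
    rw [h1]
    exact C(b).mul_mem hh (C(b).inv_mem (C(b).mul_mem (C(b).mul_mem hb' hh) (C(b).inv_mem hb')))
  have := comm_trick H hb hx hox ha he hhc h2
  exact C(b).mul_mem (center_le b this) hb'

/-- The `n`-part of an element of `C(b)` differs from it by a central element. -/
theorem central_coprime_part (H : Hyp G m n) {x : G} (hx : cls x = n)
    (hox : (orderOf x).Coprime n) {b : G} (hb : cls b = m) {u u₁ : G} (s : ℕ) (hu : u ∈ C(b))
    (hu₁ : u₁ = u ^ s) (hc1 : (orderOf u₁).Coprime n) : u₁ ∈ Subgroup.center G := by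
  obtain ⟨e, he⟩ := exists_pow_eq_self_of_coprime (x := u₁) (n := n) hc1.symm
  exact he ▸ Subgroup.pow_mem _ (pow_mem_center H hb hx hox hb (hu₁ ▸ C(b).pow_mem hu s)) e

/-- A non-central element of `C(b)` has a non-central `n`-primary power with centralizer `C(b)`. -/
theorem exists_nPart (H : Hyp G m n) {x : G} (hx : cls x = n)
    (hox : (orderOf x).Coprime n) {b : G} (hb : cls b = m) {u : G} (hu : u ∈ C(b))
    (huc : u ∉ Subgroup.center G) :
    ∃ t e : ℕ, orderOf (u ^ t) ∣ n ^ e ∧ u ^ t ∉ Subgroup.center G ∧ C(u ^ t) = C(b) := by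
  obtain ⟨u₁, u₂, s, t, hu₁, hu₂, huu, hc1, e, he⟩ := exists_split u n
  have h1 := central_coprime_part H hx hox hb s hu hu₁ hc1
  have h2 : u₂ ∉ Subgroup.center G := fun h => huc (huu ▸ mul_mem h1 h)
  subst hu₂
  exact ⟨t, e, he, h2, centralizer_eq H hx hox hb (C(b).pow_mem hu t) he h2⟩


/-- Let G be a finite group whose two largest conjugacy class sizes m > n > 1 are coprime, and let x, y ∈ G have classes of sizes n and m respectively. Then C_G(x) and C_G(y) are abelian, and G/Z(G) is a Frobenius group with kernel C_G(x)/Z(G) and complement C_G(y)/Z(G). -/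
theorem result {G : Type*} [Group G] [Finite G] (m n : ℕ) (hmn : n < m) (hn : 1 < n)
    (hcop : m.Coprime n) (htop : ∀ z : G, (Subgroup.centralizer ({z} : Set G)).index ≤ m) (hsecond : ∀ z : G, (Subgroup.centralizer ({z} : Set G)).index < m → (Subgroup.centralizer ({z} : Set G)).index ≤ n)
    (x y : G) (hx : (Subgroup.centralizer ({x} : Set G)).index = n) (hy : (Subgroup.centralizer ({y} : Set G)).index = m) :
    IsMulCommutative (Subgroup.centralizer ({x} : Set G)) ∧ IsMulCommutative (Subgroup.centralizer ({y} : Set G)) ∧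
    Cfsg.IsFrobeniusComplement ((Subgroup.centralizer ({y} : Set G)).map (QuotientGroup.mk' (Subgroup.center G))) ∧
    Cfsg.frobeniusKernel ((Subgroup.centralizer ({y} : Set G)).map (QuotientGroup.mk' (Subgroup.center G))) =
      ((Subgroup.centralizer ({x} : Set G)).map (QuotientGroup.mk' (Subgroup.center G)) : Set (G ⧸ Subgroup.center G)) := by
  have H : Hyp G m n := ⟨hmn, hn, hcop, htop, hsecond⟩
  obtain ⟨x₀, hox, hx₀⟩ := H.strip (y := y) hy (w := x) hx
  have hx0n : cls x₀ = n := by rw [cls, hx₀]; exact hx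
  obtain ⟨hAn, hAc, -⟩ := exists_A H (y := y) hy hx0n hox
  haveI := hAn
  set Z := Subgroup.center G
  set B := Subgroup.centralizer ({y} : Set G) with hBdef
  set A := Subgroup.centralizer ({x₀} : Set G) with hAdef
  have hyc : y ∉ Z := fun h => by
    have h1 := cls_of_central h
    rw [show cls y = m from hy] at h1
    omega
  have hBc : ∀ u ∈ B, ∀ v ∈ B, Commute u v := by
    intro u hu v hv
    by_cases huc : u ∈ Z
    · exact (Subgroup.mem_center_iff.1 huc v).symm
    obtain ⟨u₁, u₂, s, t, hu₁, hu₂, huu, hc1, e, he⟩ := exists_split u n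
    have h1 := central_coprime_part H hx0n hox hy s hu hu₁ hc1
    have h2 : u₂ ∉ Z := fun h => huc (huu ▸ mul_mem h1 h)
    have h3 := centralizer_eq H hx0n hox hy (hu₂ ▸ B.pow_mem hu t) he h2
    have h4 : v ∈ Subgroup.centralizer ({u₂} : Set G) := h3 ▸ hv
    rw [huu]
    exact ((show Commute v u₁ from Subgroup.mem_center_iff.1 h1 v).symm).mul_left
      (show Commute v u₂ from Subgroup.mem_centralizer_singleton_iff.1 h4).symm
  rw [← hx₀]
  refine ⟨⟨⟨fun a b => Subtype.ext (hAc a a.2 b b.2)⟩⟩, ⟨⟨fun a b => Subtype.ext (hBc a a.2 b b.2)⟩⟩, ?_⟩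
  set π := QuotientGroup.mk' Z with hπ
  have hker : π.ker = Z := QuotientGroup.ker_mk' Z
  have hπ1 : ∀ g : G, π g = 1 ↔ g ∈ Z := fun g => QuotientGroup.eq_one_iff g
  -- conjugates of B
  have hmemconj : ∀ (g a : G), π a ∈ MulAut.conj (π g) • (B.map π) →
      g⁻¹ * a * g ∈ B := by
    intro g a ha
    rw [Subgroup.mem_pointwise_smul_iff_inv_smul_mem] at ha
    have h1 : π (g⁻¹ * a * g) ∈ B.map π := by simpa using ha
    obtain ⟨b, hb, hbe⟩ := h1
    have hz : b⁻¹ * (g⁻¹ * a * g) ∈ Z := QuotientGroup.eq.1 hbe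
    simpa using B.mul_mem hb (center_le y hz)
  have hAB : A ⊓ B = Z := H.inf_eq_center hx0n hox hy
  have hTI : ∀ (g b : G), b ∉ Z → b ∈ B → g⁻¹ * b * g ∈ B → g ∈ B := by
    intro g b hbc hb hgb
    have hb' : g⁻¹ * b * g ∈ Subgroup.centralizer ({y} : Set G) := hgb
    have hgy : cls (g * y * g⁻¹) = m := by
      rw [← hy]
      show cls (g * y * g⁻¹) = cls y
      rw [← ncard_isConj, ← ncard_isConj]
      congr 1
      ext z
      exact ⟨fun hz => (isConj_iff.2 ⟨g, rfl⟩).trans hz, fun hz => (isConj_iff.2 ⟨g, rfl⟩).symm.trans hz⟩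
    have hbg : b ∈ Subgroup.centralizer ({g * y * g⁻¹} : Set G) := by
      have := (show Commute (g⁻¹ * b * g) y from Subgroup.mem_centralizer_singleton_iff.1 hb').map
        (MulAut.conj g).toMonoidHom
      refine Subgroup.mem_centralizer_singleton_iff.2 ?_
      simpa [mul_assoc] using this.eq
    obtain ⟨t, e, he, hte, hC⟩ := exists_nPart H hx0n hox hy hb hbc
    have hC2 : Subgroup.centralizer ({b ^ t} : Set G) = Subgroup.centralizer ({g * y * g⁻¹} : Set G) :=
      centralizer_eq H hx0n hox hgy (Subgroup.pow_mem _ hbg t) he hte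
    have hconj : ∀ v ∈ B, g * v * g⁻¹ ∈ B := by
      intro v hv
      show g * v * g⁻¹ ∈ Subgroup.centralizer ({y} : Set G)
      rw [← hC, hC2]
      have := (show Commute v y from Subgroup.mem_centralizer_singleton_iff.1 hv).map
        (MulAut.conj g).toMonoidHom
      refine Subgroup.mem_centralizer_singleton_iff.2 ?_
      simpa [mul_assoc] using this.eq
    obtain ⟨a, ha, b', hb', hgab⟩ := exists_mul (A := A) (B := B) (by
      show (cls x₀).Coprime (cls y); rw [hx0n, show cls y = m from hy]; exact hcop.symm) g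
    obtain ⟨t', e', he', hte', -⟩ := exists_nPart H hx0n hox hy (mem_centralizer_singleton_self y) hyc
    have hh : y ^ t' ∈ B := B.pow_mem (mem_centralizer_singleton_self y) t'
    have h1 : a * (y ^ t') * a⁻¹ ∈ B := by
      have h3 := hconj (b'⁻¹ * y ^ t' * b') (B.mul_mem (B.mul_mem (B.inv_mem hb') hh) hb')
      rw [hgab] at h3
      simpa [mul_assoc] using h3
    have h2 : (y ^ t' * a⁻¹ * (y ^ t')⁻¹)⁻¹ * a⁻¹ ∈ Z := by
      rw [← hAB]
      refine ⟨A.mul_mem (A.inv_mem (hAn.conj_mem _ (A.inv_mem ha) _)) (A.inv_mem ha), ?_⟩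
      have : (y ^ t' * a⁻¹ * (y ^ t')⁻¹)⁻¹ * a⁻¹ = y ^ t' * (a * y ^ t' * a⁻¹)⁻¹ := by group
      rw [this]
      exact B.mul_mem hh (B.inv_mem h1)
    have ha' := comm_trick H (y := y) hy hx0n hox (A.inv_mem ha) he' hte' h2
    rw [hgab]
    exact B.mul_mem (center_le y (by simpa using Z.inv_mem ha')) hb'
  have hBindex : (B.map π).index = m := by
    rw [Subgroup.index_map_eq B (QuotientGroup.mk'_surjective Z) (hker.trans_le (center_le y))]
    exact hy
  have hFC : Cfsg.IsFrobeniusComplement (B.map π) := by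
    refine ⟨fun h => ?_, fun h => ?_, fun q hq => ?_⟩
    · have h1 : π y ∈ B.map π := Subgroup.mem_map_of_mem π (mem_centralizer_singleton_self y)
      rw [h, Subgroup.mem_bot] at h1
      exact hyc ((hπ1 y).1 h1)
    · rw [h, Subgroup.index_top] at hBindex
      omega
    · obtain ⟨g, rfl⟩ := QuotientGroup.mk'_surjective Z q
      rw [eq_bot_iff]
      rintro r ⟨hr1, hr2⟩
      obtain ⟨b, hb, rfl⟩ := hr1
      rw [Subgroup.mem_bot]
      by_contra hne
      exact hq (Subgroup.mem_map_of_mem π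
        (hTI g b (fun h => hne ((hπ1 b).2 h)) hb (hmemconj g b hr2)))
  refine ⟨hFC, ?_⟩
  have hcard := (S0034.result (B.map π) hFC).1
  rw [hBindex, Nat.card_coe_set_eq] at hcard
  refine (Set.eq_of_subset_of_ncard_le ?_ ?_ (Set.toFinite _)).symm
  · rintro _ ⟨a, ha, rfl⟩
    by_cases haZ : a ∈ Z
    · exact Or.inl ((hπ1 a).2 haZ)
    refine Or.inr fun q hq => haZ ?_
    obtain ⟨g, rfl⟩ := QuotientGroup.mk'_surjective Z q
    have h1 := hmemconj g a hq
    have h2 : g⁻¹ * a * g ∈ A := by simpa using hAn.conj_mem a ha g⁻¹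
    have h3 : g⁻¹ * a * g ∈ Z := hAB ▸ ⟨h2, h1⟩
    have := Subgroup.Normal.conj_mem inferInstance _ h3 g
    simpa [mul_assoc] using this
  · rw [hcard, ← Nat.card_coe_set_eq]
    show m ≤ Nat.card ↥(A.map π)
    have h1 : Z.relIndex A = m := by
      have := relIndex_center H (y := y) hy hx0n hox x₀
      rw [hx0n, mul_comm n m] at this
      exact Nat.eq_of_mul_eq_mul_right (by omega) this
    have h2 := Subgroup.relIndex_comap (⊥ : Subgroup (G ⧸ Z)) π A
    rw [MonoidHom.comap_bot, hker, Subgroup.relIndex_bot_left, h1] at h2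
    omega

end Cfsg.Agent.S4138
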