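import Cfsg.Statements.S4140
import Cfsg.Agent.Lib.FGB.CaminaPair

set_option autoImplicit false
open Cfsg

namespace Cfsg.Agent.S4140

open Cfsg.Agent

/-- A nilpotent group has a nontrivial linear character of `q`-power order for each prime divisor `q`. -/
theorem exists_linear_of_nilpotent {N : Type*} [Group N] [Finite N] [Group.IsNilpotent N]
    (q : ℕ) [hq : Fact q.Prime] (hqN : q ∣ Nat.card N) :
    ∃ μ : N →* ℂˣ, μ ≠ 1 ∧ ∃ k, orderOf μ ∣ q ^ k := by
  classical
  have hn : ∀ {p : ℕ} [Fact p.Prime] (P : Sylow p N), (P : Subgroup N).Normal := fun {p} _ P =>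
    ((Group.isNilpotent_of_finite_tfae (G := N)).out 0 3 : Group.IsNilpotent N ↔
      ∀ (p : ℕ) (_ : Fact p.Prime) (P : Sylow p N), (P : Subgroup N).Normal).1 inferInstance p
      inferInstance P
  obtain ⟨P⟩ : Nonempty (Sylow q N) := Sylow.nonempty
  let e := (Sylow.directProductOfNormal (G := N) hn).symm
  let i : (Nat.card N).primeFactors := ⟨q, Nat.mem_primeFactors.2 ⟨hq.out, hqN, Nat.card_pos.ne'⟩⟩
  let f : N →* (P : Subgroup N) :=
    ((Pi.evalMonoidHom (fun Q : Sylow q N => (Q : Subgroup N)) P).comp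
      (Pi.evalMonoidHom (fun p : (Nat.card N).primeFactors => ∀ Q : Sylow (p : ℕ) N, (Q : Subgroup N)) i)).comp
      e.toMonoidHom
  have hf : Function.Surjective f :=
    ((Function.surjective_eval (α := Sylow q N) (β := fun Q => (Q : Subgroup N)) P).comp
      (Function.surjective_eval (α := (Nat.card N).primeFactors)
        (β := fun p => ∀ Q : Sylow (p : ℕ) N, (Q : Subgroup N)) i)).comp e.surjective
  haveI : Nontrivial (P : Subgroup N) :=
    Finite.one_lt_card_iff_nontrivial.1 (Nat.lt_of_lt_of_le hq.out.one_lt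
      (Nat.le_of_dvd Nat.card_pos (P.dvd_card_of_dvd_card hqN)))
  haveI : Group.IsNilpotent (P : Subgroup N) := P.isPGroup'.isNilpotent
  obtain ⟨w, hw⟩ : ∃ w : (P : Subgroup N), Abelianization.of w ≠ 1 := by
    by_contra hno
    push_neg at hno
    refine (IsSolvable.commutator_lt_top_of_nontrivial (P : Subgroup N)).ne (eq_top_iff.2 fun x _ => ?_)
    exact (QuotientGroup.eq_one_iff x).1 (hno x)
  obtain ⟨φ, hφ⟩ := CommGroup.exists_apply_ne_one_of_hasEnoughRootsOfUnity
    (Abelianization (P : Subgroup N)) ℂ hw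
  obtain ⟨k, hk⟩ := P.isPGroup'.exists_card_eq
  refine ⟨(φ.comp Abelianization.of).comp f, fun h => hφ ?_, k, orderOf_dvd_of_pow_eq_one ?_⟩
  · obtain ⟨n, rfl⟩ := hf w
    exact congrFun (congrArg DFunLike.coe h) n
  · refine MonoidHom.ext fun n => ?_
    rw [MonoidHom.pow_apply, MonoidHom.comp_apply, ← map_pow, ← hk, pow_card_eq_one', map_one,
      MonoidHom.one_apply]


/-- Let G be a finite group and N a proper non-trivial normal subgroup such that for every g outside N the conjugacy class of g is a union of cosets of N (equivalently gn is conjugate to g for every n ∈ N). Then either every element of G outside N acts fixed-point-freely on N (C_G(x) ≤ N for all x ∈ N, x ≠ 1, so G is a Frobenius group with kernel N), or N has prime-power order, or G/N has prime-power order. -/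
theorem result {G : Type*} [Group G] [Finite G] (N : Subgroup G) [N.Normal] (hN1 : N ≠ ⊥) (hN2 : N ≠ ⊤)
    (hcam : ∀ g : G, g ∉ N → ∀ n ∈ N, ∃ x : G, x * g * x⁻¹ = g * n) :
    (∀ x ∈ N, x ≠ 1 → Subgroup.centralizer ({x} : Set G) ≤ N) ∨ IsPrimePow (Nat.card N) ∨ IsPrimePow N.index := by
  by_cases hfrob : ∀ x ∈ N, x ≠ 1 → Subgroup.centralizer ({x} : Set G) ≤ N
  · exact Or.inl hfrob
  refine Or.inr ?_
  push_neg at hfrob
  obtain ⟨x, hx, hx1, hnle⟩ := hfrob
  obtain ⟨g, hgc, hg⟩ := SetLike.not_le_iff_exists.1 hnle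
  obtain ⟨p, hp, hpN, hpi⟩ := FGB.CaminaPair.exists_shared N hcam hx hx1 hg
    (Subgroup.mem_centralizer_singleton_iff.1 hgc)
  haveI := Fact.mk hp
  by_contra hno
  push_neg at hno
  obtain ⟨hN, hi⟩ := hno
  have hne : ∀ n : ℕ, ¬ IsPrimePow n → p ∣ n → n ≠ 0 → ∃ r, r.Prime ∧ r ∣ n ∧ r ≠ p := by
    intro n hn hpn hn0
    by_contra h
    push_neg at h
    have he := Nat.eq_prime_pow_of_unique_prime_dvd hn0 (fun {d} hd hdn => h d hd hdn)
    refine hn (he ▸ IsPrimePow.pow hp.isPrimePow ?_)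
    intro h0
    rw [h0, pow_zero] at he
    exact hp.not_dvd_one (he ▸ hpn)
  obtain ⟨q, hq, hqN, hqp⟩ := hne _ hN hpN Nat.card_pos.ne'
  obtain ⟨r, hr, hri, hrp⟩ := hne _ hi hpi Subgroup.index_ne_zero_of_finite
  haveI := Fact.mk hq
  haveI := Fact.mk hr
  have huniq : ∀ s : ℕ, s.Prime → s ∣ Nat.card N → s ∣ N.index → s = p := by
    intro s hs hsN hsi
    haveI := Fact.mk hs
    by_contra hsp
    obtain ⟨μ, hμ, k, hk⟩ := FGB.CaminaPair.exists_linear N hcam hsN hsi
    refine hμ (FGB.CaminaPair.linear_eq_one N hcam hpN hpi μ ?_)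
    rw [hk]
    exact fun h => hsp ((Nat.prime_dvd_prime_iff_eq hp hs).1 (hp.dvd_of_dvd_pow h)).symm
  have hrN : ¬ r ∣ Nat.card N := fun h => hrp (huniq r hr h hri)
  obtain ⟨y, hy⟩ := exists_prime_orderOf_dvd_card' r
    (show r ∣ Nat.card G from hri.trans (Subgroup.index_dvd_card N))
  have hyN : y ∉ N := fun h => hrN (hy ▸ (Subgroup.orderOf_mk y h) ▸ orderOf_dvd_natCard (⟨y, h⟩ : N))
  have hfix : ∀ n ∈ N, Commute y n → n = 1 := by
    intro n hn hc
    obtain ⟨j, hj⟩ := FGB.CaminaPair.isPElem N hcam (p := r) (k := 1) (by rw [pow_one]; exact hy) hyN hn hc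
    rcases Nat.eq_zero_or_pos j with rfl | hjp
    · exact orderOf_eq_one_iff.1 (by simpa using hj)
    · exact absurd (((dvd_pow_self r hjp.ne').trans hj.symm.dvd).trans
        ((Subgroup.orderOf_mk n hn).symm ▸ orderOf_dvd_natCard (⟨n, hn⟩ : N))) hrN
  let φ : N ≃* N := MulAut.conjNormal y
  have hφfix : MonoidHom.FixedPointFree (φ : N →* N) := by
    intro n hn
    have h1 : y * (n : G) * y⁻¹ = n := congrArg Subtype.val hn
    exact Subtype.ext (hfix _ n.2 (mul_inv_eq_iff_eq_mul.1 h1))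
  have hφord : orderOf (φ : MulAut N) = r := by
    refine orderOf_eq_prime ?_ ?_
    · rw [show (φ : MulAut N) = MulAut.conjNormal y from rfl, ← map_pow, ← hy, pow_orderOf_eq_one,
        map_one]
    · intro h1
      obtain ⟨n, hn, hn1⟩ := (Subgroup.ne_bot_iff_exists_ne_one (H := N)).1 hN1 |> fun ⟨n, hn⟩ =>
        (⟨(n : G), n.2, fun h => hn (Subtype.ext h)⟩ : ∃ n, n ∈ N ∧ n ≠ 1)
      have := congrArg Subtype.val (DFunLike.congr_fun h1 ⟨n, hn⟩)
      change y * n * y⁻¹ = n at this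
      exact hn1 (hfix n hn (mul_inv_eq_iff_eq_mul.1 this))
  haveI : Group.IsNilpotent N := S0033.result φ hφfix r hr hφord
  obtain ⟨μ, hμ, k, hk⟩ := exists_linear_of_nilpotent q hqN
  refine hμ (FGB.CaminaPair.linear_eq_one N hcam hpN hpi μ fun h => hqp ?_)
  exact ((Nat.prime_dvd_prime_iff_eq hp hq).1 (hp.dvd_of_dvd_pow (h.trans hk))).symm

end Cfsg.Agent.S4140
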