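import Cfsg.Statements.S4143
import Cfsg.Agent.Lib.Invol.SelfCentralizing
-- import your own Cfsg.Agent.* helpers here

set_option autoImplicit false
open Cfsg

namespace Cfsg.Agent.S4143

open Subgroup

/-- Let X be a finite p-group of order p^n containing a non-abelian subgroup B of order p³ with C_X(B) ≤ B. Then X has nilpotency class n − 1 (maximal class). -/
theorem result {X : Type*} [Group X] [Finite X] {p : ℕ} [Fact p.Prime] (n : ℕ) (hX : Nat.card X = p ^ n)
    (B : Subgroup X) (hB : Nat.card B = p ^ 3) (hBna : ¬ IsMulCommutative B) (hC : Subgroup.centralizer (B : Set X) ≤ B) :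
    Group.nilpotencyClass X = n - 1 := by
  have hp : p.Prime := Fact.out
  have hXp : IsPGroup p X := IsPGroup.of_card hX
  haveI := hXp.isNilpotent
  have hn : 3 ≤ n := by
    have := card_subgroup_dvd_card B
    rwa [hB, hX, Nat.pow_dvd_pow_iff_le_right hp.one_lt] at this
  haveI : Nontrivial X := Finite.one_lt_card_iff_nontrivial.1
    (hX ▸ Nat.one_lt_pow (by omega) hp.one_lt)
  have hpow : ∀ H : Subgroup X, ∃ i, Nat.card H = p ^ i := fun H => IsPGroup.iff_card.1 (hXp.to_subgroup H)
  obtain ⟨a, haB, b, hbB, hab⟩ : ∃ a ∈ B, ∃ b ∈ B, a * b ≠ b * a := by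
    by_contra h
    push Not at h
    exact hBna ⟨⟨fun u v => Subtype.ext (h u u.2 v v.2)⟩⟩
  have hgen : closure ({a, b} : Set X) = B := by
    have hle : closure ({a, b} : Set X) ≤ B := (closure_le B).2 (by
      intro u hu; rcases hu with rfl | rfl <;> assumption)
    refine eq_of_le_of_card_ge hle ?_
    obtain ⟨i, hi⟩ := hpow (closure ({a, b} : Set X))
    rw [hB, hi]
    refine Nat.pow_le_pow_right hp.pos ?_
    by_contra hlt
    have hac : IsMulCommutative (closure ({a, b} : Set X)) := by
      obtain rfl | rfl | rfl : i = 0 ∨ i = 1 ∨ i = 2 := by omega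
      · rw [pow_zero] at hi
        haveI := (Nat.card_eq_one_iff_unique.mp hi).1
        exact ⟨⟨fun _ _ => Subsingleton.elim _ _⟩⟩
      · haveI : IsCyclic (closure ({a, b} : Set X)) := isCyclic_of_prime_card (p := p) (by rw [hi, pow_one])
        exact IsCyclic.isMulCommutative
      · exact IsPGroup.isMulCommutative_of_card_eq_prime_sq (p := p) hi
    exact hab (congrArg Subtype.val (hac.is_comm.comm ⟨a, subset_closure (by simp)⟩ ⟨b, subset_closure (by simp)⟩))
  have hcentB : centralizer (B : Set X) = (center B).map B.subtype := by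
    refine le_antisymm (fun x hx => ⟨⟨x, hC hx⟩, mem_center_iff.2 fun g => Subtype.ext
      (mem_centralizer_iff.1 hx g g.2), rfl⟩) ?_
    rintro _ ⟨z, hz, rfl⟩
    exact mem_centralizer_iff.2 fun g hg => congrArg Subtype.val (mem_center_iff.1 hz ⟨g, hg⟩)
  have hZB : Nat.card (center B) = p := by
    obtain ⟨i, hi⟩ := IsPGroup.iff_card.1 ((IsPGroup.of_card hB).to_subgroup (center B))
    have hi3 : i ≤ 3 := by
      have := card_subgroup_dvd_card (center B)
      rwa [hi, hB, Nat.pow_dvd_pow_iff_le_right hp.one_lt] at this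
    haveI : Nontrivial B := Finite.one_lt_card_iff_nontrivial.1 (hB ▸ Nat.one_lt_pow (by norm_num) hp.one_lt)
    haveI := (IsPGroup.of_card hB).center_nontrivial
    have h1 : i ≠ 0 := fun h => by
      rw [h, pow_zero] at hi
      exact Finite.one_lt_card.ne' hi
    have h2 : i ≠ 3 := fun h => hBna ⟨⟨fun u v => by
      have : center B = ⊤ := eq_top_of_card_eq _ (by rw [hi, h, hB])
      exact (mem_center_iff.1 (this ▸ mem_top v) u)⟩⟩
    have h3 : i ≠ 2 := fun h => hBna ⟨⟨by
      have hq : Nat.card (B ⧸ center B) = p := by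
        have := card_eq_card_quotient_mul_card_subgroup (center B)
        rw [hi, h, hB] at this
        exact (Nat.eq_of_mul_eq_mul_right (pow_pos hp.pos 2) (by rw [← this]; ring)).symm
      haveI := isCyclic_of_prime_card hq
      exact commutative_of_cyclic_center_quotient (QuotientGroup.mk' (center B)) (QuotientGroup.ker_mk' _).le⟩⟩
    rw [hi, show i = 1 by omega, pow_one]
  have hCB : Nat.card (centralizer (B : Set X)) = p := by
    rw [hcentB, card_map_of_injective B.subtype_injective, hZB]
  have hZeq : center X = centralizer (B : Set X) := by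
    refine eq_of_le_of_card_ge (center_le_centralizer _) ?_
    obtain ⟨i, hi⟩ := hpow (center X)
    have h0 : i ≠ 0 := fun h => Group.IsNilpotent.center_ne_bot (G := X)
      (Subgroup.eq_bot_of_card_eq _ (by rw [hi, h, pow_zero]))
    rw [hCB, hi]
    exact Nat.le_self_pow h0 p
  have hZcard : Nat.card (center X) = p := hZeq ▸ hCB
  have hZB' : center X ≤ B := hZeq ▸ hC
  obtain ⟨q, hq⟩ : ∃ q : X →* X ⧸ center X, q = QuotientGroup.mk' (center X) := ⟨_, rfl⟩
  have hker : q.ker = center X := hq ▸ QuotientGroup.ker_mk' _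
  have hsurj : Function.Surjective q := hq ▸ QuotientGroup.mk'_surjective _
  have hcardQ : Nat.card (X ⧸ center X) = p ^ (n - 1) := by
    have := card_eq_card_quotient_mul_card_subgroup (center X)
    rw [hX, hZcard, show n = n - 1 + 1 by omega, pow_succ] at this
    exact (Nat.eq_of_mul_eq_mul_right hp.pos this).symm
  have hmapB : Nat.card (B.map q) = p ^ 2 := by
    have h3 := card_mul_index ((center X).subgroupOf B)
    rw [Nat.card_congr (subgroupOfEquivOfLe hZB').toEquiv, hZcard, hB] at h3
    rw [← relIndex_ker, hker]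
    exact Nat.eq_of_mul_eq_mul_left hp.pos (h3.trans (by ring))
  have hself : centralizer ((B.map q : Subgroup (X ⧸ center X)) : Set (X ⧸ center X)) = B.map q := by
    haveI := IsPGroup.isMulCommutative_of_card_eq_prime_sq (p := p) (G := B.map q) hmapB
    have hcm : ∀ u ∈ B.map q, ∀ v ∈ B.map q, u * v = v * u := fun u hu v hv =>
      congrArg Subtype.val ((inferInstance : IsMulCommutative (B.map q)).is_comm.comm ⟨u, hu⟩ ⟨v, hv⟩)
    set C := (centralizer ((B.map q : Subgroup (X ⧸ center X)) : Set (X ⧸ center X))).comap q with hCdef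
    have hBC : B ≤ C := fun x hx => mem_centralizer_iff.2 fun y hy => hcm y hy (q x) ⟨x, hx, rfl⟩
    have hcom : ∀ x ∈ C, ∀ c ∈ B, x * c * x⁻¹ * c⁻¹ ∈ center X := by
      intro x hx c hc
      rw [← hker, MonoidHom.mem_ker, map_mul, map_mul, map_mul, map_inv, map_inv,
        ← mem_centralizer_iff.1 hx (q c) ⟨c, hc, rfl⟩, mul_inv_cancel_right, mul_inv_cancel]
    obtain ⟨f, hf⟩ := Invol.SelfCentralizing.exists_commHom C a (fun x hx => hcom x hx a haB)
    obtain ⟨g, hg⟩ := Invol.SelfCentralizing.exists_commHom C b (fun x hx => hcom x hx b hbB)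
    have hle : Nat.card C ≤ p ^ 3 := by
      rw [← card_mul_index (f.prod g).ker, index_ker, show p ^ 3 = p * (p * p) by ring]
      refine Nat.mul_le_mul ?_ ?_
      · rw [← hCB, Nat.card_congr ((f.prod g).ker.equivMapOfInjective C.subtype C.subtype_injective).toEquiv]
        refine card_le_of_le ?_
        rintro _ ⟨x, hx, rfl⟩
        have hx' := MonoidHom.mem_ker.1 hx
        rw [MonoidHom.prod_apply, Prod.mk_eq_one] at hx'
        have h1 := congrArg Subtype.val hx'.1
        have h2 := congrArg Subtype.val hx'.2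
        rw [hf, Subgroup.coe_one, mul_inv_eq_one, mul_inv_eq_iff_eq_mul] at h1
        rw [hg, Subgroup.coe_one, mul_inv_eq_one, mul_inv_eq_iff_eq_mul] at h2
        rw [← hgen, centralizer_closure, mem_centralizer_iff]
        rintro u (rfl | rfl)
        exacts [h1.symm, h2.symm]
      · refine (card_le_card_group _).trans ?_
        rw [Nat.card_prod, hZcard]
    have hCeq : B = C := eq_of_le_of_card_ge hBC (hle.trans hB.ge)
    refine le_antisymm ?_ fun y hy => mem_centralizer_iff.2 fun u hu => hcm u hu y hy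
    intro y hy
    obtain ⟨x, rfl⟩ := hsurj y
    exact ⟨x, hCeq ▸ hy, rfl⟩
  have h := Invol.SelfCentralizing.class_of_self_centralizing (n - 1) (X ⧸ center X) hcardQ (B.map q) hmapB hself
  rw [nilpotencyClass_eq_quotient_center_plus_one, h]
  omega

end Cfsg.Agent.S4143
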