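import Cfsg.Statements.S4145
import Cfsg.Agent.Lib.Transfer.Fusion
import Cfsg.Agent.Lib.Transfer.Abelian
import Cfsg.Agent.Lib.FGB.CyclicPowers
import Cfsg.Agent.Lib.Basics.FpfAbelian
-- import your own Cfsg.Agent.* helpers here

set_option autoImplicit false
open Cfsg
open scoped Pointwise commutatorElement

namespace Cfsg.Agent.S4145

/-- Let G be a finite group with a cyclic Sylow p-subgroup and H a normal subgroup such that p divides both the order of H and the index of H. Then H has a normal p-complement and G is p-solvable. -/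
theorem result {G : Type*} [Group G] [Finite G] (p : ℕ) [Fact p.Prime]
    (P : Sylow p G) (hP : IsCyclic (P : Subgroup G)) (H : Subgroup G) [H.Normal] (h1 : p ∣ Nat.card H) (h2 : p ∣ H.index) :
    Cfsg.HasNormalPComplement p H ∧ Cfsg.IsPSolvable p G := by
  classical
  have hp : p.Prime := Fact.out
  haveI := hP
  obtain ⟨⟨g₀, hg₀P⟩, hg₀⟩ := IsCyclic.exists_generator (α := (P : Subgroup G))
  have hgen : ∀ x ∈ (P : Subgroup G), x ∈ Subgroup.zpowers g₀ := fun x hx => by
    obtain ⟨i, hi⟩ := Subgroup.mem_zpowers_iff.mp (hg₀ ⟨x, hx⟩)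
    exact Subgroup.mem_zpowers_iff.mpr ⟨i, congrArg Subtype.val hi⟩
  have hcomm : IsMulCommutative (P : Subgroup G) := IsCyclic.isMulCommutative
  obtain ⟨k, hk⟩ := IsPGroup.iff_orderOf.mp P.2 ⟨g₀, hg₀P⟩
  rw [Subgroup.orderOf_mk] at hk
  have hnpc : Cfsg.HasNormalPComplement p H := by
    obtain ⟨Q, hQ⟩ := Cfsg.Agent.Transfer.exists_sylow_eq_subgroupOf P H
    refine Cfsg.Agent.Transfer.hasNormalPComplement_of_normalizer_le Q ?_
    intro x hx
    rw [Subgroup.mem_centralizer_iff]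
    intro y hy
    replace hy : (y : G) ∈ (P : Subgroup G) := Subgroup.mem_subgroupOf.mp (hQ.le hy)
    set P0 : Subgroup G := (P : Subgroup G) ⊓ H with hP0
    set N0 := Subgroup.normalizer (P0 : Set G)
    -- the centralizer of `P0` contains `P`
    set C0 := Subgroup.centralizer (P0 : Set G) ⊓ (H ⊔ (P : Subgroup G))
    have hPC : (P : Subgroup G) ≤ C0 := fun a ha => ⟨Subgroup.mem_centralizer_iff.mpr fun b hb =>
      congrArg Subtype.val (hcomm.is_comm.comm (⟨b, hb.1⟩ : (P : Subgroup G)) ⟨a, ha⟩), Subgroup.mem_sup_right ha⟩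
    have hxN : (x : G) ∈ N0 := by
      replace hx : x ∈ Subgroup.normalizer ((Q : Subgroup H) : Set H) := hx
      rw [Subgroup.mem_normalizer_iff] at hx ⊢
      intro b
      constructor
      · intro hb
        have := hQ.le ((hx ⟨b, hb.2⟩).mp (hQ.ge (show (⟨b, hb.2⟩ : H) ∈ (P : Subgroup G).subgroupOf H from hb.1)))
        exact ⟨this, H.mul_mem (H.mul_mem x.2 hb.2) (H.inv_mem x.2)⟩
      · intro hb
        have hbH : b ∈ H := by simpa [mul_assoc] using H.mul_mem (H.mul_mem (H.inv_mem x.2) hb.2) x.2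
        have := hQ.le ((hx ⟨b, hbH⟩).mpr (hQ.ge (show x * (⟨b, hbH⟩ : H) * x⁻¹ ∈ (P : Subgroup G).subgroupOf H from hb.1)))
        exact ⟨this, hbH⟩
    -- Frattini for `P` in `C0`
    obtain ⟨S, hS⟩ : ∃ S : Sylow p C0, (S : Subgroup C0) = (P : Subgroup G).subgroupOf C0 :=
      ⟨P.subtype hPC, rfl⟩
    obtain ⟨c, hc⟩ : ∃ c : C0, (c : G) * x ∈ Subgroup.normalizer ((P : Subgroup G) : Set G) := by
      let φ : MulAut G := MulAut.conj (x : G)
      have hxC : ∀ a, a ∈ C0 → φ a ∈ C0 := by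
        intro a ha
        refine ⟨?_, mul_mem (mul_mem (Subgroup.mem_sup_left x.2) ha.2) (Subgroup.mem_sup_left (inv_mem x.2))⟩
        replace ha := Subgroup.mem_centralizer_iff.mp ha.1
        refine Subgroup.mem_centralizer_iff.mpr ?_
        intro b hb
        have hb' : (x : G)⁻¹ * b * x ∈ P0 := by
          simpa using (Subgroup.mem_normalizer_iff.mp (inv_mem hxN) b).mp hb
        have := congrArg (fun t => (x : G) * t * (x : G)⁻¹) (ha _ hb')
        simpa [φ, mul_assoc] using this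
      have hle : MulAut.conj (x : G) • (P : Subgroup G) ≤ C0 := by
        rintro _ ⟨a, ha, rfl⟩
        exact hxC a (hPC ha)
      obtain ⟨c, hc⟩ := MulAction.exists_smul_eq C0 ((((x : G) • P : Sylow p G)).subtype (by
        rw [Sylow.coe_subgroup_smul]; exact hle)) S
      refine ⟨c, ?_⟩
      refine Sylow.smul_eq_iff_mem_normalizer.mp ?_
      rw [mul_smul]
      have hc' : ∀ w : C0, (w : G) ∈ (P : Subgroup G) ↔
          (c : G)⁻¹ * w * c ∈ (((x : G) • P : Sylow p G) : Subgroup G) := by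
        intro w
        rw [← Subgroup.mem_subgroupOf, ← hS, ← hc, Sylow.coe_subgroup_smul, Subgroup.mem_pointwise_smul_iff_inv_smul_mem]
        simp [Subgroup.mem_subgroupOf]
      refine Sylow.ext (Subgroup.eq_of_le_of_card_ge (fun z hz => ?_)
        (Sylow.card_eq_multiplicity _ |>.trans (Sylow.card_eq_multiplicity _).symm).le)
      rw [Sylow.coe_subgroup_smul, Subgroup.mem_pointwise_smul_iff_inv_smul_mem] at hz
      have hz' : (c : G)⁻¹ * z * c ∈ (((x : G) • P : Sylow p G) : Subgroup G) := by simpa using hz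
      have hzC : z ∈ C0 := by
        have h1 : (c : G)⁻¹ * z * c ∈ C0 := by
          rw [Sylow.coe_subgroup_smul] at hz'
          exact hle hz'
        simpa [mul_assoc] using mul_mem (mul_mem c.2 h1) (inv_mem c.2)
      exact (hc' ⟨z, hzC⟩).mpr hz'
    set n := (c : G) * x with hn
    have hny : n * y * n⁻¹ = (x : G) * y * (x : G)⁻¹ := by
      have h1 : (x : G) * y * (x : G)⁻¹ ∈ P0 := (Subgroup.mem_normalizer_iff.mp hxN y).mp ⟨hy, y.2⟩
      have h2 := Subgroup.mem_centralizer_iff.mp c.2.1 _ h1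
      rw [hn, mul_inv_rev]
      calc (c : G) * x * y * ((x : G)⁻¹ * (c : G)⁻¹) = (c : G) * ((x : G) * y * (x : G)⁻¹) * (c : G)⁻¹ := by group
        _ = _ := by rw [← h2, mul_inv_cancel_right]
    -- the part of `n` of order prime to `p` lies in `H` modulo `P`
    obtain ⟨a, b, ha, hb, hab, hak, hbc⟩ := Cfsg.Agent.Transfer.exists_pPart_mul (p := p) n
    have haP : a ∈ (P : Subgroup G) :=
      Cfsg.Agent.Transfer.mem_sylow_of_mem_normalizer P (Subgroup.zpowers_le.mpr hc ha) hak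
    have hbN : b ∈ Subgroup.normalizer ((P : Subgroup G) : Set G) := Subgroup.zpowers_le.mpr hc hb
    obtain ⟨i, hi⟩ := Subgroup.mem_zpowers_iff.mp (hgen _ ((Subgroup.mem_normalizer_iff.mp hbN g₀).mp hg₀P))
    -- `p ∣ i - 1` as `b` induces on `P ⊔ H / H` what an element of `H` induces
    have hbC : ∀ w ∈ P0, b * w * b⁻¹ = (x : G) * w * (x : G)⁻¹ := by
      intro w hw
      have h1 : (x : G) * w * (x : G)⁻¹ ∈ P0 := (Subgroup.mem_normalizer_iff.mp hxN w).mp hw
      have h2 := Subgroup.mem_centralizer_iff.mp c.2.1 _ h1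
      have h3 : n * w * n⁻¹ = (x : G) * w * (x : G)⁻¹ := by
        rw [hn, mul_inv_rev]
        calc (c : G) * x * w * ((x : G)⁻¹ * (c : G)⁻¹) = (c : G) * ((x : G) * w * (x : G)⁻¹) * (c : G)⁻¹ := by group
          _ = _ := by rw [← h2, mul_inv_cancel_right]
      have hbw : b * w * b⁻¹ ∈ (P : Subgroup G) := (Subgroup.mem_normalizer_iff.mp hbN w).mp hw.1
      have h4 : a * (b * w * b⁻¹) = (b * w * b⁻¹) * a :=
        congrArg Subtype.val (hcomm.is_comm.comm (⟨a, haP⟩ : (P : Subgroup G)) ⟨_, hbw⟩)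
      rw [← h3, ← hab, mul_inv_rev]
      calc b * w * b⁻¹ = a * (b * w * b⁻¹) * a⁻¹ := by rw [h4, mul_inv_cancel_right]
        _ = _ := by group
    by_cases hy1 : (y : G) = 1
    · exact Subtype.ext (by simp [hy1])
    have hfix : b * g₀ * b⁻¹ = g₀ → (y : H) * x = x * y := by
      intro hb0
      have hby : b * (y : G) * b⁻¹ = y := by
        obtain ⟨j, hj⟩ := Subgroup.mem_zpowers_iff.mp (hgen _ hy)
        rw [← hj, ← conj_zpow, hb0]
      rw [hbC y ⟨hy, y.2⟩] at hby
      exact Subtype.ext (mul_inv_eq_iff_eq_mul.mp hby).symm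
    refine hfix (Cfsg.Agent.FGB.zpow_eq_self_of_coprime g₀ b i (hk ▸ pow_orderOf_eq_one g₀) hbc hi.symm ?_)
    -- `g₀` lies outside `H`; work modulo `H`
    -- modulo `H`, `b` commutes with `g₀`
    obtain ⟨h', hh', q, hq, hcq⟩ : ∃ h' ∈ H, ∃ q ∈ (P : Subgroup G), (c : G) = h' * q := by
      have h1 : (c : G) ∈ ((H ⊔ (P : Subgroup G) : Subgroup G) : Set G) := c.2.2
      rw [Subgroup.normal_mul] at h1
      obtain ⟨h', hh', q, hq, he⟩ := h1
      exact ⟨h', hh', q, hq, he.symm⟩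
    have hbH : b * g₀ * b⁻¹ * g₀⁻¹ ∈ H := by
      rw [← QuotientGroup.eq_one_iff]
      obtain ⟨j, hj⟩ := Subgroup.mem_zpowers_iff.mp hb
      obtain ⟨l, hl⟩ := Subgroup.mem_zpowers_iff.mp (hgen q hq)
      have hbmod : (b : G ⧸ H) = (g₀ : G ⧸ H) ^ (l * j) := by
        rw [← hj, QuotientGroup.mk_zpow, hn, QuotientGroup.mk_mul, hcq, QuotientGroup.mk_mul,
          (QuotientGroup.eq_one_iff (x : G)).mpr x.2, (QuotientGroup.eq_one_iff h').mpr hh', ← hl,
          QuotientGroup.mk_zpow, one_mul, mul_one, ← zpow_mul]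
      rw [QuotientGroup.mk_mul, QuotientGroup.mk_mul, QuotientGroup.mk_mul, QuotientGroup.mk_inv,
        QuotientGroup.mk_inv, hbmod, ((Commute.refl (g₀ : G ⧸ H)).zpow_left (l * j)).eq,
        mul_inv_cancel_right, mul_inv_cancel]
    by_contra hnd
    rw [← hi, ← zpow_sub_one] at hbH
    have hcop : IsCoprime (i - 1) ((p ^ k : ℕ) : ℤ) := by
      push_cast
      exact (((Nat.prime_iff_prime_int.mp hp).coprime_iff_not_dvd.mpr hnd).symm).pow_right
    obtain ⟨u, v, huv⟩ := hcop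
    have hgH : g₀ ∈ H := by
      have h1 : g₀ ^ ((p ^ k : ℕ) : ℤ) = 1 := by rw [zpow_natCast, ← hk, pow_orderOf_eq_one]
      rw [← zpow_one g₀, ← huv, zpow_add, mul_comm u, mul_comm v, zpow_mul, zpow_mul, h1, one_zpow, mul_one]
      exact zpow_mem hbH u
    refine P.not_dvd_index (h2.trans (Subgroup.index_dvd_of_le fun z hz => ?_))
    obtain ⟨j, rfl⟩ := Subgroup.mem_zpowers_iff.mp (hgen z hz)
    exact zpow_mem hgH j
  refine ⟨hnpc, ?_⟩
  obtain ⟨Q, N, hNn, hNc⟩ := hnpc
  set K : Subgroup G := N.map H.subtype with hK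
  have hNchar : N.Characteristic := by
    rw [Cfsg.Agent.Transfer.complement_eq_pResidual Q hNc]
    exact Cfsg.Agent.Transfer.pResidual_characteristic H p
  haveI hKn : K.Normal := ConjAct.normal_of_characteristic_of_normal
  have hKp : ¬ p ∣ Nat.card K := by
    rw [hK, Subgroup.card_map_of_injective H.subtype_injective]
    exact Cfsg.Agent.Transfer.complement_not_dvd Q hNc
  set π := QuotientGroup.mk' K with hπ
  have hπs : Function.Surjective π := QuotientGroup.mk'_surjective K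
  set Hb := H.map π with hHb
  set Cb := Subgroup.centralizer (Hb : Set (G ⧸ K)) with hCb
  haveI hHbn : Hb.Normal := (inferInstance : H.Normal).map π hπs
  haveI hCbn : Cb.Normal := Subgroup.normal_centralizer
  set Pb : Sylow p (G ⧸ K) := P.mapSurjective hπs with hPb
  have hPbc : (Pb : Subgroup (G ⧸ K)) = (P : Subgroup G).map π := Sylow.coe_mapSurjective hπs P
  -- `Hb` lies in `Pb`
  have hHbP : Hb ≤ (Pb : Subgroup (G ⧸ K)) := by
    have hHbp : IsPGroup p Hb := by
      obtain ⟨m, hm⟩ := Q.2.exists_card_eq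
      rw [IsPGroup.iff_orderOf]
      rintro ⟨_, h, hh, rfl⟩
      obtain ⟨⟨⟨u, hu⟩, ⟨w, hw⟩⟩, huw, -⟩ := hNc.existsUnique (⟨h, hh⟩ : H)
      have hπh : π h = π (w : G) := by
        rw [show h = (u : G) * w from (congrArg Subtype.val huw).symm, map_mul]
        rw [show π (u : G) = 1 from (QuotientGroup.eq_one_iff _).mpr ⟨u, hu, rfl⟩, one_mul]
      rw [← Subgroup.orderOf_coe]
      show ∃ k, orderOf (π h) = p ^ k
      rw [hπh]
      obtain ⟨j, -, hj⟩ := (Nat.dvd_prime_pow hp).mp ((orderOf_map_dvd π (w : G)).trans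
        (hm ▸ (by rw [Subgroup.orderOf_coe, ← Subgroup.orderOf_mk w hw]; exact orderOf_dvd_natCard _) : _ ∣ p ^ m))
      exact ⟨j, hj⟩
    have hsup := Pb.3 (IsPGroup.to_sup_of_normal_left hHbp Pb.2) le_sup_right
    exact hsup ▸ le_sup_left
  have hPbcomm : ∀ a ∈ (Pb : Subgroup (G ⧸ K)), ∀ b ∈ (Pb : Subgroup (G ⧸ K)), a * b = b * a := by
    rw [hPbc]
    rintro _ ⟨a, ha, rfl⟩ _ ⟨b, hb, rfl⟩
    rw [← map_mul, ← map_mul, show a * b = b * a from
      congrArg Subtype.val (hcomm.is_comm.comm (⟨a, ha⟩ : (P : Subgroup G)) ⟨b, hb⟩)]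
  have hPbC : (Pb : Subgroup (G ⧸ K)) ≤ Cb := fun a ha =>
    Subgroup.mem_centralizer_iff.mpr fun b hb => hPbcomm b (hHbP hb) a ha
  -- the derived subgroup of the centralizer has order prime to `p`
  set D := _root_.commutator Cb with hD
  have hDp : ¬ p ∣ Nat.card D := by
    intro hd
    haveI := Fact.mk hp
    obtain ⟨x, hx⟩ := exists_prime_orderOf_dvd_card' (G := D) p hd
    set S : Sylow p Cb := Pb.subtype hPbC with hS
    haveI : IsMulCommutative (S : Subgroup Cb) := ⟨⟨fun a b => Subtype.ext (Subtype.ext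
      (hPbcomm _ (Subgroup.mem_subgroupOf.mp a.2) _ (Subgroup.mem_subgroupOf.mp b.2)))⟩⟩
    have hbot := Cfsg.Agent.Transfer.inf_commutator_center_eq_bot (S : Subgroup Cb) S.card_coprime_index
    -- move `x` into `S`
    obtain ⟨R, hR⟩ := (IsPGroup.of_card (p := p) (n := 1) (G := Subgroup.zpowers (x : Cb))
      (by rw [Nat.card_zpowers, Subgroup.orderOf_coe, hx, pow_one])).exists_le_sylow
    obtain ⟨c, hc⟩ := MulAction.exists_smul_eq Cb R S
    set y : Cb := c * x * c⁻¹ with hy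
    have hyS : y ∈ (S : Subgroup Cb) := by
      rw [← hc, Sylow.coe_subgroup_smul]
      exact ⟨x, hR (Subgroup.mem_zpowers _), rfl⟩
    have hyD : y ∈ D := (inferInstance : D.Normal).conj_mem _ x.2 c
    have hyo : orderOf y = p := by
      rw [hy, ← hx, ← Subgroup.orderOf_coe x]
      exact orderOf_injective (MulAut.conj c).toMonoidHom (MulAut.conj c).injective _
    -- a nontrivial element of `Hb`
    have hHb1 : Hb ≠ ⊥ := by
      intro h0
      refine hKp (h1.trans (Subgroup.card_dvd_of_le fun z hz => ?_))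
      exact (QuotientGroup.eq_one_iff z).mp (Subgroup.mem_bot.mp (h0 ▸ Subgroup.mem_map_of_mem π hz))
    have hHbd : p ∣ Nat.card Hb := by
      obtain ⟨j, hj⟩ := (Pb.2.to_le hHbP).exists_card_eq
      rcases Nat.eq_zero_or_pos j with rfl | hj0
      · exact absurd (Subgroup.card_eq_one.mp (hj.trans (pow_zero p))) hHb1
      · exact hj ▸ dvd_pow_self p hj0.ne'
    obtain ⟨z, hz⟩ := exists_prime_orderOf_dvd_card' (G := Hb) p hHbd
    rw [← Subgroup.orderOf_coe] at hz
    haveI : IsCyclic (Pb : Subgroup (G ⧸ K)) := by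
      rw [hPbc]
      exact isCyclic_of_surjective (π.subgroupMap (P : Subgroup G)) (π.subgroupMap_surjective _)
    have heq : Subgroup.zpowers ((y : Cb) : G ⧸ K) = Subgroup.zpowers (z : G ⧸ K) := by
      have h1 : Subgroup.zpowers ((y : Cb) : G ⧸ K) ≤ (Pb : Subgroup (G ⧸ K)) :=
        Subgroup.zpowers_le.mpr (Subgroup.mem_subgroupOf.mp hyS)
      have h2 : Subgroup.zpowers (z : G ⧸ K) ≤ (Pb : Subgroup (G ⧸ K)) := Subgroup.zpowers_le.mpr (hHbP z.2)
      have e := Cfsg.Agent.Basics.cyclic_subgroup_eq_of_card_eq (S := (Pb : Subgroup (G ⧸ K)))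
        (A := (Subgroup.zpowers ((y : Cb) : G ⧸ K)).subgroupOf _) (B := (Subgroup.zpowers (z : G ⧸ K)).subgroupOf _) (by
          rw [Nat.card_congr (Subgroup.subgroupOfEquivOfLe h1).toEquiv,
            Nat.card_congr (Subgroup.subgroupOfEquivOfLe h2).toEquiv, Nat.card_zpowers, Nat.card_zpowers,
            Subgroup.orderOf_coe, hyo, hz])
      have e' := Subgroup.subgroupOf_inj.mp e
      rwa [inf_of_le_left h1, inf_of_le_left h2] at e'
    have hyH : ((y : Cb) : G ⧸ K) ∈ Hb :=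
      (Subgroup.zpowers_le.mpr z.2 : Subgroup.zpowers (z : G ⧸ K) ≤ Hb) (heq ▸ Subgroup.mem_zpowers _)
    have hyZ : y ∈ Subgroup.center Cb := Subgroup.mem_center_iff.mpr fun w => Subtype.ext
      (Subgroup.mem_centralizer_iff.mp w.2 _ hyH).symm
    have hy1 : y = 1 := Subgroup.mem_bot.mp (hbot.le ⟨⟨hyS, hyD⟩, hyZ⟩)
    rw [hy1, orderOf_one] at hyo
    exact hp.ne_one hyo.symm
  -- the chain
  set D' : Subgroup (G ⧸ K) := D.map Cb.subtype with hD'
  haveI hD'n : D'.Normal := ConjAct.normal_of_characteristic_of_normal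
  set A : Subgroup G := D'.comap π with hA
  haveI hAn : A.Normal := inferInstance
  set B : Subgroup G := A ⊔ (P : Subgroup G) with hB
  have hAp : ¬ p ∣ Nat.card A := by
    intro hd
    have h1 := Subgroup.card_mul_index A
    rw [hA, Subgroup.index_comap_of_surjective _ hπs] at h1
    have h2 := K.card_eq_card_quotient_mul_card_subgroup
    rw [← Subgroup.card_mul_index D'] at h2
    have h3 : Nat.card A = Nat.card D' * Nat.card K := by
      refine Nat.eq_of_mul_eq_mul_right (Nat.pos_of_ne_zero D'.index_ne_zero_of_finite) ?_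
      rw [hA, h1, h2]; ring
    rw [h3, hD', Subgroup.card_map_of_injective Cb.subtype_injective] at hd
    exact (hp.dvd_mul.mp hd).elim hDp hKp
  have hBn : B.Normal := by
    refine ⟨fun z hz g => ?_⟩
    have hBmap : ∀ w, w ∈ B → π w ∈ D' ⊔ (Pb : Subgroup (G ⧸ K)) := by
      intro w hw
      have h1 := Subgroup.mem_map_of_mem π hw
      rw [hB, Subgroup.map_sup, hA, Subgroup.map_comap_eq_self_of_surjective hπs, ← hPbc] at h1
      exact h1
    have hBmap' : ∀ w, π w ∈ D' ⊔ (Pb : Subgroup (G ⧸ K)) → w ∈ B := by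
      intro w hw
      have h1 : w ∈ (B.map π).comap π := by
        rw [Subgroup.mem_comap, hB, Subgroup.map_sup, hA, Subgroup.map_comap_eq_self_of_surjective hπs, ← hPbc]
        exact hw
      rwa [Subgroup.comap_map_eq_self] at h1
      rw [QuotientGroup.ker_mk']
      intro u hu
      refine Subgroup.mem_sup_left ?_
      rw [hA, Subgroup.mem_comap, show π u = 1 from (QuotientGroup.eq_one_iff u).mpr hu]
      exact one_mem _
    apply hBmap'
    rw [map_mul, map_mul, map_inv]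
    -- conjugation by `π g` fixes `D' ⊔ Pb`
    obtain ⟨c, hc⟩ := MulAction.exists_smul_eq Cb (((π g) • Pb : Sylow p (G ⧸ K)).subtype (by
      rw [Sylow.coe_subgroup_smul]
      rintro _ ⟨w, hw, rfl⟩
      exact hCbn.conj_mem w (hPbC hw) (π g))) (Pb.subtype hPbC)
    have hzB := hBmap z hz
    rw [← SetLike.mem_coe, Subgroup.normal_mul] at hzB
    obtain ⟨d, hd, w, hw, hdw⟩ := hzB
    rw [← hdw, show π g * (d * w) * (π g)⁻¹ = (π g * d * (π g)⁻¹) * (π g * w * (π g)⁻¹) by group]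
    refine Subgroup.mul_mem _ (Subgroup.mem_sup_left (hD'n.conj_mem d hd (π g))) ?_
    have hwC : π g * w * (π g)⁻¹ ∈ Cb := hCbn.conj_mem w (hPbC hw) (π g)
    have h5 : (c : G ⧸ K) * (π g * w * (π g)⁻¹) * (c : G ⧸ K)⁻¹ ∈ (Pb : Subgroup (G ⧸ K)) := by
      have h6 : c * (⟨π g * w * (π g)⁻¹, hwC⟩ : Cb) * c⁻¹ ∈ ((Pb.subtype hPbC : Sylow p Cb) : Subgroup Cb) := by
        rw [← hc, Sylow.coe_subgroup_smul]
        refine ⟨⟨π g * w * (π g)⁻¹, hwC⟩, ?_, rfl⟩
        show π g * w * (π g)⁻¹ ∈ (((π g) • Pb : Sylow p (G ⧸ K)) : Subgroup (G ⧸ K))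
        rw [Sylow.coe_subgroup_smul]
        exact ⟨w, hw, rfl⟩
      exact h6
    have h7 : ⁅(⟨π g * w * (π g)⁻¹, hwC⟩ : Cb), c⁆ ∈ D :=
      Subgroup.commutator_mem_commutator (Subgroup.mem_top _) (Subgroup.mem_top _)
    have h8 := Subgroup.mul_mem_sup (Subgroup.mem_map_of_mem Cb.subtype h7) h5
    have h9 : Cb.subtype ⁅(⟨π g * w * (π g)⁻¹, hwC⟩ : Cb), c⁆ * ((c : G ⧸ K) * (π g * w * (π g)⁻¹) * (c : G ⧸ K)⁻¹) =
        π g * w * (π g)⁻¹ := by
      show (π g * w * (π g)⁻¹) * c * (π g * w * (π g)⁻¹)⁻¹ * (c : G ⧸ K)⁻¹ * _ = _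
      group
    rwa [h9] at h8
  refine ⟨3, ![⊥, A, B, ⊤], rfl, rfl, ?_, ?_, ?_⟩
  · rw [Fin.monotone_iff_le_succ]
    intro i
    fin_cases i
    · exact bot_le
    · exact le_sup_left
    · exact le_top
  · intro i
    fin_cases i
    · exact (inferInstance : (⊥ : Subgroup G).Normal)
    · exact hAn
    · exact hBn
    · exact (inferInstance : (⊤ : Subgroup G).Normal)
  · intro i
    fin_cases i
    · refine Or.inr ?_
      show ((⊥ : Subgroup G).relIndex A).Coprime p
      rw [Subgroup.relIndex_bot_left]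
      exact (hp.coprime_iff_not_dvd.mpr hAp).symm
    · refine Or.inl ?_
      show ∃ m : ℕ, A.relIndex B = p ^ m
      rw [hB, sup_comm, Subgroup.relIndex_sup_right]
      obtain ⟨m, hm⟩ := P.2.exists_card_eq
      obtain ⟨j, -, hj⟩ := (Nat.dvd_prime_pow hp).mp (hm ▸ Subgroup.relIndex_dvd_card A (P : Subgroup G))
      exact ⟨j, hj⟩
    · refine Or.inr ?_
      show (B.relIndex ⊤).Coprime p
      rw [Subgroup.relIndex_top_right]
      exact (hp.coprime_iff_not_dvd.mpr fun hd =>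
        P.not_dvd_index (hd.trans (Subgroup.index_dvd_of_le le_sup_right))).symm

end Cfsg.Agent.S4145
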