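import Cfsg.Statements.S4160
import Mathlib
import Cfsg.Agent.Lib.Transfer.Abelian
-- import your own Cfsg.Agent.* helpers here

set_option autoImplicit false
open Cfsg
open scoped Pointwise

namespace Cfsg.Agent.S4160

open Subgroup

variable {G : Type*} [Group G]

/-- elements centralizing a Sylow subgroup -/
def cset (p : ℕ) (G : Type*) [Group G] : Set G :=
  {x | ∃ P : Sylow p G, x ∈ centralizer ((P : Subgroup G) : Set G)}

variable {p : ℕ} [Fact p.Prime]

theorem one_mem_cset (P : Sylow p G) : (1 : G) ∈ cset p G := ⟨P, one_mem _⟩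

variable [Finite G]

theorem ratio (P : Sylow p G) :
    normalizer ((P : Subgroup G) : Set G) = centralizer ((P : Subgroup G) : Set G) ∨
      2 * Nat.card (centralizer ((P : Subgroup G) : Set G)) ≤ Nat.card (normalizer ((P : Subgroup G) : Set G)) := by
  have hle := centralizer_le_normalizer ((P : Subgroup G) : Set G)
  rcases eq_or_lt_of_le hle with h | h
  · exact Or.inl h.symm
  · refine Or.inr ?_
    obtain ⟨c, hc⟩ := card_dvd_of_le hle
    have hlt : Nat.card (centralizer ((P : Subgroup G) : Set G)) < Nat.card (normalizer ((P : Subgroup G) : Set G)) := by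
      by_contra hge
      exact h.ne (eq_of_le_of_card_ge hle (not_lt.mp hge))
    rcases Nat.lt_or_ge c 2 with hc2 | hc2
    · have := Nat.mul_le_mul_left (Nat.card (centralizer ((P : Subgroup G) : Set G))) (show c ≤ 1 by omega)
      omega
    · rw [hc, mul_comm 2]; exact Nat.mul_le_mul_left _ hc2

theorem compl (P : Sylow p G)
    (h : normalizer ((P : Subgroup G) : Set G) = centralizer ((P : Subgroup G) : Set G)) :
    Cfsg.HasNormalPComplement p G :=
  ⟨P, _, MonoidHom.normal_ker _, MonoidHom.ker_transferSylow_isComplement' P (le_of_eq h)⟩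

theorem mem_cset {x : G} (hx : ¬ p ∣ (centralizer ({x} : Set G)).index) : x ∈ cset p G := by
  set C := centralizer ({x} : Set G)
  obtain ⟨S⟩ := (inferInstance : Nonempty (Sylow p C))
  have hidx : ¬ p ∣ ((S : Subgroup C).map C.subtype).index := by
    rw [index_map, C.ker_subtype, sup_bot_eq, range_subtype]
    exact fun hd => ((Fact.out : p.Prime).dvd_mul.mp hd).elim S.not_dvd_index hx
  refine ⟨(S.2.map C.subtype).toSylow hidx, mem_centralizer_iff.mpr ?_⟩
  rintro _ ⟨y, -, rfl⟩
  exact mem_centralizer_singleton_iff.mp y.2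

theorem cset_le (P : Sylow p G)
    (h : 2 * Nat.card (centralizer ((P : Subgroup G) : Set G)) ≤ Nat.card (normalizer ((P : Subgroup G) : Set G))) :
    2 * (cset p G).ncard ≤ Nat.card G := by
  classical
  haveI := Fintype.ofFinite (Sylow p G)
  have hcard : ∀ P' : Sylow p G, Nat.card (centralizer ((P' : Subgroup G) : Set G)) =
      Nat.card (centralizer ((P : Subgroup G) : Set G)) := by
    intro P'
    obtain ⟨g, hg⟩ := MulAction.exists_smul_eq G P P'
    have : centralizer ((P' : Subgroup G) : Set G) =
        (centralizer ((P : Subgroup G) : Set G)).map (MulAut.conj g).toMonoidHom := by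
      rw [← hg]
      ext y
      constructor
      · intro hy
        refine ⟨g⁻¹ * y * g, mem_centralizer_iff.mpr fun z hz => ?_, by simp [mul_assoc]⟩
        have := mem_centralizer_iff.mp hy (g * z * g⁻¹) ⟨z, hz, rfl⟩
        calc z * (g⁻¹ * y * g) = g⁻¹ * ((g * z * g⁻¹) * y) * g := by group
          _ = g⁻¹ * (y * (g * z * g⁻¹)) * g := by rw [this]
          _ = g⁻¹ * y * g * z := by group
      · rintro ⟨w, hw, rfl⟩
        refine mem_centralizer_iff.mpr ?_
        rintro _ ⟨z, hz, rfl⟩
        show MulAut.conj g z * MulAut.conj g w = MulAut.conj g w * MulAut.conj g z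
        rw [← map_mul, ← map_mul, mem_centralizer_iff.mp hw z hz]
    rw [this, card_map_of_injective (MulAut.conj g).injective]
  have hsub : cset p G ⊆ ⋃ P' ∈ (Finset.univ : Finset (Sylow p G)), (centralizer ((P' : Subgroup G) : Set G) : Set G) := by
    rintro x ⟨P', hx⟩
    exact Set.mem_biUnion (Finset.mem_univ P') hx
  have h1 : (cset p G).ncard ≤ Nat.card (Sylow p G) * Nat.card (centralizer ((P : Subgroup G) : Set G)) := by
    refine (Set.ncard_le_ncard hsub (Set.toFinite _)).trans ((Finset.set_ncard_biUnion_le _ _).trans ?_)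
    refine le_of_eq ?_
    rw [Finset.sum_congr rfl (fun P' _ => (Nat.card_coe_set_eq _).symm.trans (hcard P')), Finset.sum_const, Finset.card_univ, smul_eq_mul]
    congr 1
    exact Nat.card_eq_fintype_card.symm
  calc 2 * (cset p G).ncard ≤ 2 * (Nat.card (Sylow p G) * Nat.card (centralizer ((P : Subgroup G) : Set G))) :=
        Nat.mul_le_mul_left 2 h1
    _ = Nat.card (Sylow p G) * (2 * Nat.card (centralizer ((P : Subgroup G) : Set G))) := by ring
    _ ≤ Nat.card (Sylow p G) * Nat.card (normalizer ((P : Subgroup G) : Set G)) := Nat.mul_le_mul_left _ h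
    _ = Nat.card G := by
      rw [show Nat.card (Sylow p G) = (normalizer ((P : Subgroup G) : Set G)).index from
        Sylow.card_eq_index_normalizer P, Subgroup.index_mul_card]

/-- Let G be a finite group and p ≠ q primes each dividing the size of some conjugacy class of G, such that no conjugacy class size is divisible by pq. Then G has a normal p-complement or a normal q-complement. -/
theorem result {G : Type*} [Group G] [Finite G] (p q : ℕ) (hp : p.Prime) (hq : q.Prime) (hpq : p ≠ q)
    (hp' : ∃ x : G, p ∣ (Subgroup.centralizer ({x} : Set G)).index) (hq' : ∃ x : G, q ∣ (Subgroup.centralizer ({x} : Set G)).index) (h : ∀ x : G, ¬ p * q ∣ (Subgroup.centralizer ({x} : Set G)).index) :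
    Cfsg.HasNormalPComplement p G ∨ Cfsg.HasNormalPComplement q G := by

  haveI := Fact.mk hp
  haveI := Fact.mk hq
  obtain ⟨P⟩ := (inferInstance : Nonempty (Sylow p G))
  obtain ⟨Q⟩ := (inferInstance : Nonempty (Sylow q G))
  rcases ratio P with hP | hP
  · exact Or.inl (compl P hP)
  rcases ratio Q with hQ | hQ
  · exact Or.inr (compl Q hQ)
  exfalso
  have hcov : Set.univ ⊆ cset p G ∪ cset q G := by
    intro x _
    by_cases hpd : p ∣ (Subgroup.centralizer ({x} : Set G)).index
    · refine Or.inr (mem_cset (fun hqd => h x ?_))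
      exact Nat.Coprime.mul_dvd_of_dvd_of_dvd ((Nat.coprime_primes hp hq).mpr hpq) hpd hqd
    · exact Or.inl (mem_cset hpd)
  have h1 := Set.ncard_le_ncard hcov (Set.toFinite _)
  rw [Set.ncard_univ] at h1
  have h2 := Set.ncard_union_add_ncard_inter (cset p G) (cset q G)
  have h3 : 1 ≤ (cset p G ∩ cset q G).ncard := (Set.ncard_pos (Set.toFinite _)).mpr
    ⟨1, one_mem_cset P, one_mem_cset Q⟩
  have := cset_le P hP
  have := cset_le Q hQ
  omega

end Cfsg.Agent.S4160
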