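import Cfsg.Statements.S4146
import Cfsg.Agent.Lib.CoprimeFour.Main
import Cfsg.Agent.Lib.CoprimeFour.Mixed
import Cfsg.Agent.S4160

set_option autoImplicit false
open Cfsg

namespace Cfsg.Agent.S4146

open Cfsg.Agent.CoprimeFour Cfsg.Agent.FGB.TwoLargest

variable {G : Type*} [Group G] [Finite G]

/-- A normal complement for every prime forces nilpotency. -/
theorem isNilpotent_of_complements (h : ∀ p : ℕ, ∀ _ : Fact p.Prime, Cfsg.HasNormalPComplement p G) :
    Group.IsNilpotent G := by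
  refine ((Group.isNilpotent_of_finite_tfae (G := G)).out 0 3).2 fun r hr R => ?_
  haveI : Fact r.Prime := hr
  have key : ∀ l : ℕ, ∀ _ : Fact l.Prime, ∃ N : Subgroup G, N.Normal ∧ ¬ l ∣ Nat.card N ∧
      ∃ k : ℕ, N.index = l ^ k := by
    intro l hl
    obtain ⟨P, N, hN, hc⟩ := h l hl
    obtain ⟨k, hk⟩ := IsPGroup.iff_card.1 P.isPGroup'
    refine ⟨N, hN, ?_, k, hc.symm.index_eq_card.trans hk⟩
    rw [← hc.index_eq_card]
    exact P.not_dvd_index
  choose N hN hcard hidx using key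
  obtain ⟨k, hk⟩ := hidx r hr
  have htop : (R : Subgroup G) ⊔ N r hr = ⊤ := by
    rw [← Subgroup.index_eq_one]
    refine Nat.eq_one_of_dvd_coprimes (Nat.Coprime.pow_left k ((hr.out.coprime_iff_not_dvd).2
      R.not_dvd_index)) (hk ▸ Subgroup.index_dvd_of_le le_sup_right)
      (Subgroup.index_dvd_of_le le_sup_left)
  refine ⟨fun x hx g => ?_⟩
  haveI := hN r hr
  obtain ⟨u, hu, v, hv, rfl⟩ := Subgroup.mem_sup_of_normal_right.1 (htop ▸ Subgroup.mem_top g)
  have hw : v * x * v⁻¹ * x⁻¹ = 1 := by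
    by_contra hne
    obtain ⟨l, hl, hld⟩ := Nat.exists_prime_and_dvd (mt orderOf_eq_one_iff.1 hne)
    haveI := Fact.mk hl
    refine hcard l ⟨hl⟩ (hld.trans (Subgroup.orderOf_dvd_natCard _ ?_))
    haveI := hN l ⟨hl⟩
    by_cases hlr : l = r
    · subst hlr
      rw [mul_assoc, mul_assoc]
      refine mul_mem hv ?_
      simpa [mul_assoc] using (inferInstance : (N l ⟨hl⟩).Normal).conj_mem _ (inv_mem hv) x
    · have hxN : x ∈ N l ⟨hl⟩ := by
        refine CoprimeFour.mem_of_coprime_index ?_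
        obtain ⟨i, hi⟩ := IsPGroup.iff_orderOf.1 R.isPGroup' ⟨x, hx⟩
        obtain ⟨j, hj⟩ := hidx l ⟨hl⟩
        rw [Subgroup.orderOf_mk] at hi
        rw [hi, hj]
        exact ((Nat.coprime_primes hr.out hl).2 (Ne.symm hlr)).pow i j
      exact mul_mem ((inferInstance : (N l ⟨hl⟩).Normal).conj_mem _ hxN v) (inv_mem hxN)
  have he : u * v * x * (u * v)⁻¹ = u * x * u⁻¹ := by
    rw [mul_inv_eq_one] at hw
    calc u * v * x * (u * v)⁻¹ = u * (v * x * v⁻¹) * u⁻¹ := by group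
      _ = _ := by rw [hw]
  rw [he]
  exact mul_mem (mul_mem hu hx) (inv_mem hu)

theorem hasNormalPComplement_of_free {p : ℕ} [Fact p.Prime] (h : ∀ x : G, ¬ p ∣ cls x) :
    Cfsg.HasNormalPComplement p G := by
  obtain ⟨P⟩ : Nonempty (Sylow p G) := inferInstance
  refine S4160.compl P (le_antisymm ?_ (Subgroup.centralizer_le_normalizer ((P : Subgroup G) : Set G)))
  rw [sylow_central h P]
  exact le_top

/-- Let G be a finite group whose conjugacy class sizes are exactly 1, n, m and nm for coprime integers n, m > 1. Then G is nilpotent and n and m are prime powers. -/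
theorem result {G : Type*} [Group G] [Finite G] (n m : ℕ) (hn : 1 < n) (hm : 1 < m) (hcop : n.Coprime m)
    (h : Set.range (fun x : G => (Subgroup.centralizer ({x} : Set G)).index) = ({1, n, m, n * m} : Set ℕ)) :
    Group.IsNilpotent G ∧ IsPrimePow n ∧ IsPrimePow m := by
  have H : Hyp G n m := by
    have hm' : ∀ x : G, cls x ∈ ({1, n, m, n * m} : Set ℕ) := fun x => h ▸ Set.mem_range_self x
    have he : ∀ v ∈ ({1, n, m, n * m} : Set ℕ), ∃ x : G, cls x = v := fun v hv => by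
      rw [← h] at hv; exact hv
    refine ⟨hn, hm, hcop, fun x => ?_, he n (by simp), he m (by simp), he _ (by simp)⟩
    simpa [or_assoc] using hm' x
  have key : ∀ {n m : ℕ}, Hyp G n m → (∃ r a, Prim r a ∧ cls (G := G) a = n ∧ ¬ r ∣ m) →
      ∃ p α q β, p.Prime ∧ q.Prime ∧ n = p ^ α ∧ m = q ^ β ∧
        Cfsg.HasNormalPComplement p G ∧ Cfsg.HasNormalPComplement q G := by
    rintro n m H ⟨r, a, hr, ha, hrm⟩
    obtain ⟨q, β, hq, hm, b, hb, hbm⟩ := prime_pow H hr ha hrm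
    have hqn : ¬ q ∣ n := H.swap.prime_not_m hq (hm ▸ dvd_pow_self q (fun e =>
      H.one_m.ne' (by rw [hm, e, pow_zero])))
    obtain ⟨p, α, hp, hn, c, hc, hcn⟩ := prime_pow H.swap hb hbm hqn
    exact ⟨p, α, q, β, hp, hq, hn, hm, normal_complement H.swap hp hn hc hcn,
      normal_complement H hq hm hb hbm⟩
  obtain ⟨p, α, q, β, hp, hq, hnp, hmq, hPc, hQc⟩ : ∃ p α q β, p.Prime ∧ q.Prime ∧ n = p ^ α ∧
      m = q ^ β ∧ Cfsg.HasNormalPComplement p G ∧ Cfsg.HasNormalPComplement q G := by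
    by_cases h1 : ∃ r a, Prim r a ∧ cls (G := G) a = n ∧ ¬ r ∣ m
    · exact key H h1
    by_cases h2 : ∃ r a, Prim r a ∧ cls (G := G) a = m ∧ ¬ r ∣ n
    · obtain ⟨p, α, q, β, hp, hq, e1, e2, c1, c2⟩ := key H.swap h2
      exact ⟨q, β, p, α, hq, hp, e2, e1, c2, c1⟩
    push Not at h1 h2
    exact (Mixed.false (G := G) ⟨H, h1, h2⟩).elim
  have hα : 0 < α := Nat.pos_of_ne_zero fun e => hn.ne' (by rw [hnp, e, pow_zero])
  have hβ : 0 < β := Nat.pos_of_ne_zero fun e => hm.ne' (by rw [hmq, e, pow_zero])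
  refine ⟨isNilpotent_of_complements fun l hl => ?_, ⟨p, α, hp.prime, hα, hnp.symm⟩,
    ⟨q, β, hq.prime, hβ, hmq.symm⟩⟩
  by_cases hlp : l = p
  · exact hlp ▸ hPc
  by_cases hlq : l = q
  · exact hlq ▸ hQc
  refine hasNormalPComplement_of_free fun x hx => ?_
  have h3 := hx.trans (H.dvd_nm x)
  rw [hnp, hmq] at h3
  rcases hl.out.dvd_mul.1 h3 with h4 | h4
  · exact hlp ((Nat.prime_dvd_prime_iff_eq hl.out hp).1 (hl.out.dvd_of_dvd_pow h4))
  · exact hlq ((Nat.prime_dvd_prime_iff_eq hl.out hq).1 (hl.out.dvd_of_dvd_pow h4))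

end Cfsg.Agent.S4146
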