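import Cfsg.Statements.S4149
import Mathlib

set_option autoImplicit false
set_option linter.style.haveILetI false
open Cfsg

namespace Cfsg.Agent.S4149

variable {G : Type*} [Group G] [Finite G]

/-- Without a normal complement, at least half of the elements centralize no Sylow subgroup. -/
theorem two_mul_moving {p : ℕ} [Fact p.Prime] (hn : ¬ Cfsg.HasNormalPComplement p G) :
    Nat.card G ≤ 2 * {x : G | p ∣ (Subgroup.centralizer ({x} : Set G)).index}.ncard := by
  set bad := {x : G | p ∣ (Subgroup.centralizer ({x} : Set G)).index}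
  haveI := Fintype.ofFinite (Sylow p G)
  have hgood : badᶜ ⊆ ⋃ P ∈ (Finset.univ : Finset (Sylow p G)),
      ((Subgroup.centralizer ((P : Subgroup G) : Set G)) : Set G) := by
    intro x hx
    obtain ⟨R⟩ : Nonempty (Sylow p (Subgroup.centralizer ({x} : Set G))) := inferInstance
    set R' : Subgroup G := (R : Subgroup _).map (Subgroup.centralizer ({x} : Set G)).subtype with hR'
    have hcard : Nat.card R' = p ^ (Nat.card G).factorization p := by
      rw [hR', Subgroup.card_map_of_injective (Subgroup.subtype_injective _), R.card_eq_multiplicity]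
      congr 1
      have h := Subgroup.card_mul_index (Subgroup.centralizer ({x} : Set G))
      rw [← h, Nat.factorization_mul Nat.card_pos.ne' Subgroup.index_ne_zero_of_finite,
        Finsupp.add_apply, Nat.factorization_eq_zero_of_not_dvd hx, add_zero]
    refine Set.mem_biUnion (x := Sylow.ofCard R' hcard) (Finset.mem_univ _) ?_
    rw [SetLike.mem_coe, Subgroup.mem_centralizer_iff]
    intro y hy
    rw [SetLike.mem_coe, Sylow.coe_ofCard, hR', Subgroup.mem_map] at hy
    obtain ⟨z, -, rfl⟩ := hy
    exact (Subgroup.mem_centralizer_singleton_iff.mp z.2)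
  have hhalf : ∀ P : Sylow p G, 2 * Nat.card (Subgroup.centralizer ((P : Subgroup G) : Set G))
      ≤ Nat.card (Subgroup.normalizer ((P : Subgroup G) : Set G)) := by
    intro P
    set C := Subgroup.centralizer ((P : Subgroup G) : Set G)
    set N := Subgroup.normalizer ((P : Subgroup G) : Set G)
    have hle : C ≤ N := Subgroup.centralizer_le_normalizer _
    have hne : ¬ N ≤ C := fun h => hn ⟨P, (MonoidHom.transferSylow P h).ker, inferInstance,
      MonoidHom.ker_transferSylow_isComplement' P h⟩
    obtain ⟨k, hk⟩ := Subgroup.card_dvd_of_le hle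
    have h2 : 2 ≤ k := by
      rcases k with _ | _ | k
      · exact absurd (by simpa using hk) (Nat.card_pos (α := N)).ne'
      · exact absurd (Subgroup.eq_of_le_of_card_ge hle (by rw [hk]; simp)).ge hne
      · omega
    rw [hk, mul_comm 2]
    exact Nat.mul_le_mul_left _ h2
  have hnorm : ∀ P : Sylow p G,
      Fintype.card (Sylow p G) * Nat.card (Subgroup.normalizer ((P : Subgroup G) : Set G)) = Nat.card G := by
    intro P
    rw [← Nat.card_eq_fintype_card, Sylow.card_eq_index_normalizer P]
    exact Subgroup.index_mul_card _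
  have hsum : 2 * badᶜ.ncard ≤ Nat.card G := by
    obtain ⟨P₀⟩ : Nonempty (Sylow p G) := inferInstance
    have h1 : badᶜ.ncard ≤ ∑ P : Sylow p G,
        Nat.card (Subgroup.centralizer ((P : Subgroup G) : Set G)) :=
      le_trans (Set.ncard_le_ncard hgood (Set.toFinite _))
        (le_trans (Finset.set_ncard_biUnion_le _ _) (le_of_eq (Finset.sum_congr rfl fun P _ =>
          (Nat.card_coe_set_eq _).symm)))
    have h2 : Fintype.card (Sylow p G) * (2 * badᶜ.ncard) ≤ Fintype.card (Sylow p G) * Nat.card G := by
      calc Fintype.card (Sylow p G) * (2 * badᶜ.ncard)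
          ≤ Fintype.card (Sylow p G) * ∑ P : Sylow p G,
            Nat.card (Subgroup.normalizer ((P : Subgroup G) : Set G)) := by
            refine Nat.mul_le_mul_left _ (le_trans (Nat.mul_le_mul_left 2 h1) ?_)
            rw [Finset.mul_sum]
            exact Finset.sum_le_sum fun P _ => hhalf P
        _ = Fintype.card (Sylow p G) * Nat.card G := by
            rw [Finset.mul_sum, Finset.sum_congr rfl fun P _ => hnorm P, Finset.sum_const,
              smul_eq_mul, Finset.card_univ]
    exact Nat.le_of_mul_le_mul_left h2 Fintype.card_pos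
  have := Set.ncard_add_ncard_compl bad
  omega


/-- Let G be a finite group that has a normal p-complement for at most one prime p dividing its order, and let σ be a natural number such that every conjugacy class size of G has at most σ distinct prime divisors. Then the number of primes dividing at least one conjugacy class size of G is at most 2σ. -/
theorem result {G : Type*} [Group G] [Finite G] (σ : ℕ)
    (hσ : ∀ x : G, ((Subgroup.centralizer ({x} : Set G)).index).primeFactors.card ≤ σ)
    (hnil : ∀ p q : ℕ, p.Prime → q.Prime → p ∣ Nat.card G → q ∣ Nat.card G →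
      Cfsg.HasNormalPComplement p G → Cfsg.HasNormalPComplement q G → p = q) :
    Nat.card {p : ℕ | p.Prime ∧ ∃ x : G, p ∣ (Subgroup.centralizer ({x} : Set G)).index} ≤ 2 * σ := by
  classical
  haveI := Fintype.ofFinite G
  set idx : G → ℕ := fun x => (Subgroup.centralizer ({x} : Set G)).index with hidx
  set T := (Nat.card G).primeFactors.filter fun p => ∃ x : G, p ∣ idx x with hT
  have hTeq : {p : ℕ | p.Prime ∧ ∃ x : G, p ∣ idx x} = (T : Set ℕ) := by
    ext p
    simp only [Set.mem_ofPred_eq, Finset.mem_coe, hT, Finset.mem_filter, Nat.mem_primeFactors]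
    exact ⟨fun ⟨hp, x, hx⟩ => ⟨⟨hp, hx.trans (Subgroup.index_dvd_card _), Nat.card_pos.ne'⟩, x, hx⟩,
      fun ⟨⟨hp, _, _⟩, h⟩ => ⟨hp, h⟩⟩
  show Nat.card ({p : ℕ | p.Prime ∧ ∃ x : G, p ∣ idx x} : Set ℕ) ≤ 2 * σ
  rw [hTeq, Nat.card_coe_set_eq, Set.ncard_coe_finset]
  rcases T.eq_empty_or_nonempty with hemp | ⟨p₀, hp₀⟩
  · simp [hemp]
  have hσ0 : 0 < σ := by
    obtain ⟨hp, x, hx⟩ := Finset.mem_filter.mp hp₀
    exact lt_of_lt_of_le (Finset.card_pos.mpr ⟨p₀, Nat.mem_primeFactors.mpr
      ⟨Nat.prime_of_mem_primeFactors hp, hx, Subgroup.index_ne_zero_of_finite⟩⟩) (hσ x)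
  set f : ℕ → ℕ := fun p => {x : G | p ∣ idx x}.ncard
  have hlow : (T.card - 1) * Nat.card G ≤ 2 * ∑ p ∈ T, f p := by
    by_cases hex : ∃ e ∈ T, Cfsg.HasNormalPComplement e G
    · obtain ⟨e, he, hen⟩ := hex
      refine le_trans ?_ (Nat.mul_le_mul_left 2
        (Finset.sum_le_sum_of_subset (Finset.erase_subset e T)))
      rw [Finset.mul_sum, ← Finset.card_erase_of_mem he, ← smul_eq_mul, ← Finset.sum_const]
      refine Finset.sum_le_sum fun p hp => ?_
      obtain ⟨hne, hpT⟩ := Finset.mem_erase.mp hp
      obtain ⟨hp', -⟩ := Finset.mem_filter.mp hpT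
      obtain ⟨he', -⟩ := Finset.mem_filter.mp he
      haveI := Fact.mk (Nat.prime_of_mem_primeFactors hp')
      exact two_mul_moving fun hc => hne (hnil p e (Nat.prime_of_mem_primeFactors hp')
        (Nat.prime_of_mem_primeFactors he') (Nat.dvd_of_mem_primeFactors hp')
        (Nat.dvd_of_mem_primeFactors he') hc hen)
    · refine le_trans (Nat.mul_le_mul_right _ (Nat.sub_le _ 1)) ?_
      rw [Finset.mul_sum, ← smul_eq_mul, ← Finset.sum_const]
      refine Finset.sum_le_sum fun p hp => ?_
      obtain ⟨hp', -⟩ := Finset.mem_filter.mp hp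
      haveI := Fact.mk (Nat.prime_of_mem_primeFactors hp')
      exact two_mul_moving fun hc => hex ⟨p, hp, hc⟩
  have hup : ∑ p ∈ T, f p ≤ σ * (Nat.card G - 1) := by
    have h1 : ∀ p, f p = ∑ x : G, if p ∣ idx x then 1 else 0 := fun p => by
      rw [Finset.sum_boole, Nat.cast_id, ← Set.ncard_coe_finset]
      show Set.ncard _ = _
      congr 1
      simp
    rw [Finset.sum_congr rfl fun p _ => h1 p, Finset.sum_comm, Nat.card_eq_fintype_card,
      ← Finset.add_sum_erase _ _ (Finset.mem_univ (1 : G))]
    have h0 : (∑ p ∈ T, if p ∣ idx 1 then 1 else 0) = 0 := Finset.sum_eq_zero fun p hp => by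
      rw [if_neg]
      intro hd
      have hi : idx 1 = 1 := by
        rw [hidx]
        exact Subgroup.index_eq_one.mpr (eq_top_iff.mpr fun g _ =>
          Subgroup.mem_centralizer_singleton_iff.mpr (by rw [mul_one, one_mul]))
      rw [hi] at hd
      exact (Nat.prime_of_mem_primeFactors (Finset.mem_filter.mp hp).1).not_dvd_one hd
    rw [h0, zero_add]
    refine le_trans (Finset.sum_le_card_nsmul _ _ σ fun x _ => ?_) ?_
    · rw [Finset.sum_boole, Nat.cast_id]
      refine le_trans (Finset.card_le_card fun p hp => ?_) (hσ x)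
      obtain ⟨hp1, hp2⟩ := Finset.mem_filter.mp hp
      exact Nat.mem_primeFactors.mpr ⟨Nat.prime_of_mem_primeFactors (Finset.mem_filter.mp hp1).1,
        hp2, Subgroup.index_ne_zero_of_finite⟩
    · rw [Finset.card_erase_of_mem (Finset.mem_univ _), Finset.card_univ, smul_eq_mul, mul_comm]
  have hlt : (T.card - 1) * Nat.card G < 2 * σ * Nat.card G := by
    refine lt_of_le_of_lt (hlow.trans (Nat.mul_le_mul_left 2 hup)) ?_
    rw [← mul_assoc]
    exact Nat.mul_lt_mul_of_pos_left (Nat.sub_lt Nat.card_pos one_pos) (by omega)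
  have := Nat.lt_of_mul_lt_mul_right hlt
  omega

end Cfsg.Agent.S4149
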