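import Cfsg.Statements.S4150
import Mathlib
import Cfsg.Agent.Lib.FGB.TwoPrimes
import Cfsg.Agent.Lib.FGB.PlusTwo
import Cfsg.Agent.Lib.FGB.GenPair
import Cfsg.Agent.Lib.PermGp.JordanCycle

set_option autoImplicit false
set_option linter.style.haveILetI false
open Cfsg

namespace Cfsg.Agent.S4150

open Equiv Cfsg.Agent.FGB

universe u

/-- What is known about the pair after restriction to the union of the supports. -/
structure Pair (β : Type) [Fintype β] [DecidableEq β] (m p q : ℕ) (a b : Perm β) : Prop where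
  card_le : Fintype.card β ≤ m
  q_le : q ≤ Fintype.card β
  asupp_le : a.support.card ≤ Fintype.card β
  ha : orderOf a = p
  hb : b.IsCycle
  hbq : b.support.card = q
  hcov : ∀ x : β, a x ≠ x ∨ b x ≠ x
  heva : Perm.sign a = 1
  hevb : Perm.sign b = 1
  hprim : MulAction.IsPreprimitive (Subgroup.closure ({a, b} : Set (Perm β))) β

theorem closure_le_alternating {β : Type} [Fintype β] [DecidableEq β] {a b : Perm β}
    (ha : Perm.sign a = 1) (hb : Perm.sign b = 1) :
    Subgroup.closure ({a, b} : Set (Perm β)) ≤ alternatingGroup β := by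
  rw [Subgroup.closure_le]
  rintro z (rfl | rfl)
  · exact ha
  · exact hb

theorem finish_of_le {β : Type} [Fintype β] [DecidableEq β] {a b : Perm β}
    (ha : Perm.sign a = 1) (hb : Perm.sign b = 1) (h5 : 5 ≤ Fintype.card β)
    (h : alternatingGroup β ≤ Subgroup.closure ({a, b} : Set (Perm β))) :
    ∃ d : ℕ, 5 ≤ d ∧ Nonempty (Subgroup.closure ({a, b} : Set (Perm β)) ≃* alternatingGroup (Fin d)) := by
  obtain ⟨e⟩ := nonempty_alternating_congr (Fintype.equivFin β)
  exact ⟨_, h5, ⟨(MulEquiv.subgroupCongr (le_antisymm (closure_le_alternating ha hb) h)).trans e⟩⟩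

theorem pair_result {β : Type} [Fintype β] [DecidableEq β] {m p q : ℕ} (hp : p.Prime) (hq : q.Prime)
    (h2p : m ≤ 2 * p) (hpq : p < q) (hqm : q ≤ m) {a b : Perm β} (P : Pair β m p q a b)
    (hcase : (p = 3 ∧ q = 5 ∧ m ≤ 6) ∨ (p = 5 ∧ q = 7 ∧ m ≤ 10) ∨ (p = 7 ∧ q = 11 ∧ m ≤ 14) ∨
      (p = 11 ∧ q = 13 ∧ m ≤ 16) ∨ (m < 2 * p ∧ p + 3 ≤ q)) :
    ∃ d : ℕ, 5 ≤ d ∧ Nonempty (Subgroup.closure ({a, b} : Set (Perm β)) ≃* alternatingGroup (Fin d)) := by
  classical
  have haK : a ∈ Subgroup.closure ({a, b} : Set (Perm β)) := Subgroup.subset_closure (Or.inl rfl)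
  have hbK : b ∈ Subgroup.closure ({a, b} : Set (Perm β)) := Subgroup.subset_closure (Or.inr rfl)
  have hle := closure_le_alternating P.heva P.hevb
  have hq5 : 5 ≤ Fintype.card β := by
    have := P.q_le
    rcases hcase with h | h | h | h | h <;> omega
  have hcard := P.card_le
  have hql := P.q_le
  -- cycle or double cycle
  obtain ⟨k, hk⟩ := Perm.cycleType_prime_order (σ := a) (P.ha.symm ▸ hp)
  have hsum := Perm.sum_cycleType a
  rw [hk, P.ha, Multiset.sum_replicate, smul_eq_mul] at hsum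
  have hal := P.asupp_le
  by_cases hsingle : k = 0
  · subst hsingle
    have hac : a.IsCycle := Perm.card_cycleType_eq_one.mp (by rw [hk, Multiset.card_replicate])
    have hap : a.support.card = p := by rw [← hsum]; simp
    by_cases hj : p + 3 ≤ Fintype.card β
    · exact finish_of_le P.heva P.hevb hq5
        (PermGp.alternating_le_of_prime_cycle P.hprim hp hj hac hap haK)
    rcases hcase with ⟨rfl, rfl, hm⟩ | ⟨rfl, rfl, hm⟩ | ⟨rfl, rfl, hm⟩ | ⟨rfl, rfl, hm⟩ | ⟨h1, h2⟩
    · exact finish_of_le P.heva P.hevb hq5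
        (Perm.alternatingGroup_le_of_isPreprimitive_of_isThreeCycle_mem P.hprim
          (card_support_eq_three_iff.mp hap) haK)
    · refine finish_of_le P.heva P.hevb hq5 (le_of_eq ?_)
      exact (eq_alternating_of_plus_two (Or.inl rfl) (by omega) (fun h => absurd h (by norm_num)) _ hle
        P.hprim.toIsPretransitive haK hac hap).symm
    · omega
    · have hd : Fintype.card β = 11 + 2 := by omega
      refine finish_of_le P.heva P.hevb hq5 (le_of_eq ?_)
      exact (eq_alternating_of_plus_two (Or.inr rfl) hd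
        (fun _ K hK t ht htc ht5 => PermGp.alternating_le_of_prime_cycle hK (p := 5) (by norm_num) (by omega) htc ht5 ht)
        _ hle P.hprim.toIsPretransitive haK hac hap).symm
    · omega
  · have h2 : 2 * p ≤ (k + 1) * p := Nat.mul_le_mul_right p (by omega)
    by_cases hj : q + 3 ≤ Fintype.card β
    · exact finish_of_le P.heva P.hevb hq5
        (PermGp.alternating_le_of_prime_cycle P.hprim hq hj P.hb P.hbq hbK)
    rcases hcase with ⟨rfl, rfl, hm⟩ | ⟨rfl, rfl, hm⟩ | ⟨rfl, rfl, hm⟩ | ⟨rfl, rfl, hm⟩ | ⟨h1, h3⟩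
    · exact alternating_six hle (by omega) P.hprim haK P.ha hbK (P.hb.orderOf.trans P.hbq)
    all_goals omega

theorem exists_pq {m : ℕ} (hm : 5 ≤ m) : ∃ p q : ℕ, p.Prime ∧ q.Prime ∧ m ≤ 2 * p ∧ p < q ∧ q ≤ m ∧
    ((p = 3 ∧ q = 5 ∧ m ≤ 6) ∨ (p = 5 ∧ q = 7 ∧ m ≤ 10) ∨ (p = 7 ∧ q = 11 ∧ m ≤ 14) ∨
      (p = 11 ∧ q = 13 ∧ m ≤ 16) ∨ (m < 2 * p ∧ p + 3 ≤ q)) := by
  by_cases h1 : m ≤ 6
  · exact ⟨3, 5, by norm_num, by norm_num, by omega, by norm_num, by omega, by omega⟩
  by_cases h2 : m ≤ 10
  · exact ⟨5, 7, by norm_num, by norm_num, by omega, by norm_num, by omega, by omega⟩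
  by_cases h3 : m ≤ 14
  · exact ⟨7, 11, by norm_num, by norm_num, by omega, by norm_num, by omega, by omega⟩
  by_cases h4 : m ≤ 16
  · exact ⟨11, 13, by norm_num, by norm_num, by omega, by norm_num, by omega, by omega⟩
  obtain ⟨p, q, hp, hq, h2p, hgap, hqm⟩ := exists_two_primes_gap (m := m) (by omega)
  exact ⟨p, q, hp, hq, by omega, by omega, hqm, by omega⟩

/-- For every m at least 5 there are primes p, q with m/2 at most p and p < q at most m such that any pair of elements of A_m of orders p and q generates a subgroup isomorphic to an alternating group of degree at least 5. -/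
theorem result (m : ℕ) (hm : 5 ≤ m) :
    ∃ p q : ℕ, p.Prime ∧ q.Prime ∧ m ≤ 2 * p ∧ p < q ∧ q ≤ m ∧
      ∀ x y : alternatingGroup (Fin m), orderOf x = p → orderOf y = q →
        ∃ d : ℕ, 5 ≤ d ∧ Nonempty (Subgroup.closure ({x, y} : Set (alternatingGroup (Fin m))) ≃* alternatingGroup (Fin d)) := by
  classical
  obtain ⟨p, q, hp, hq, h2p, hpq, hqm, hcase⟩ := exists_pq hm
  refine ⟨p, q, hp, hq, h2p, hpq, hqm, fun x y hx hy => ?_⟩
  set X : Perm (Fin m) := (x : Perm (Fin m)) with hXdef
  set Y : Perm (Fin m) := (y : Perm (Fin m)) with hYdef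
  have hX : orderOf X = p := (Subgroup.orderOf_coe x).trans hx
  have hY : orderOf Y = q := (Subgroup.orderOf_coe y).trans hy
  let U : Finset (Fin m) := X.support ∪ Y.support
  have hXU : ∀ z, X z ∈ U ↔ z ∈ U := by
    intro z
    by_cases hz : z ∈ X.support
    · exact ⟨fun _ => Finset.mem_union_left _ hz,
        fun _ => Finset.mem_union_left _ (Perm.apply_mem_support.mpr hz)⟩
    · rw [Perm.notMem_support.mp hz]
  have hYU : ∀ z, Y z ∈ U ↔ z ∈ U := by
    intro z
    by_cases hz : z ∈ Y.support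
    · exact ⟨fun _ => Finset.mem_union_right _ hz,
        fun _ => Finset.mem_union_right _ (Perm.apply_mem_support.mpr hz)⟩
    · rw [Perm.notMem_support.mp hz]
  let a : Perm U := X.subtypePerm hXU
  let b : Perm U := Y.subtypePerm hYU
  have ea : Perm.ofSubtype a = X :=
    Perm.ofSubtype_subtypePerm hXU fun z hz => Finset.mem_union_left _ (Perm.mem_support.mpr hz)
  have eb : Perm.ofSubtype b = Y :=
    Perm.ofSubtype_subtypePerm hYU fun z hz => Finset.mem_union_right _ (Perm.mem_support.mpr hz)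
  have hao : orderOf a = p := by
    rw [← hX, ← ea]
    exact (orderOf_injective Perm.ofSubtype Perm.ofSubtype_injective a).symm
  have hbo : orderOf b = q := by
    rw [← hY, ← eb]
    exact (orderOf_injective Perm.ofSubtype Perm.ofSubtype_injective b).symm
  have hcardU : Fintype.card U ≤ m := by
    rw [Fintype.card_coe]
    exact (Finset.card_le_univ U).trans_eq (Fintype.card_fin m)
  have hUm : b.support.card ≤ Fintype.card U := Finset.card_le_univ _
  have hbcyc : b.IsCycle := Perm.isCycle_of_prime_order (hbo ▸ hq) (by rw [hbo]; omega)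
  have hbq : b.support.card = q := hbcyc.orderOf.symm.trans hbo
  have hcov : ∀ z : U, a z ≠ z ∨ b z ≠ z := by
    intro z
    rcases Finset.mem_union.mp z.2 with h | h
    · exact Or.inl fun e => Perm.mem_support.mp h (congrArg Subtype.val e)
    · exact Or.inr fun e => Perm.mem_support.mp h (congrArg Subtype.val e)
  have hsa : Perm.sign a = 1 := by
    rw [← Perm.sign_ofSubtype a, ea]
    exact x.2
  have hsb : Perm.sign b = 1 := by
    rw [← Perm.sign_ofSubtype b, eb]
    exact y.2
  have P : Pair U m p q a b :=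
    ⟨hcardU, hbq ▸ hUm, Finset.card_le_univ _, hao, hbcyc, hbq, hcov, hsa, hsb,
      isPreprimitive_closure_pair hp hq hao hbcyc hbq (by omega) (by omega) hcov⟩
  obtain ⟨d, hd, ⟨e⟩⟩ := pair_result hp hq h2p hpq hqm P hcase
  refine ⟨d, hd, ⟨?_⟩⟩
  have hmap : (Subgroup.closure ({x, y} : Set (alternatingGroup (Fin m)))).map (alternatingGroup (Fin m)).subtype =
      (Subgroup.closure ({a, b} : Set (Perm U))).map Perm.ofSubtype := by
    rw [MonoidHom.map_closure, MonoidHom.map_closure, Set.image_pair, Set.image_pair, ea, eb]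
    rfl
  exact ((Subgroup.equivMapOfInjective _ _ (alternatingGroup (Fin m)).subtype_injective).trans
    ((MulEquiv.subgroupCongr hmap).trans
      (Subgroup.equivMapOfInjective _ _ Perm.ofSubtype_injective).symm)).trans e

end Cfsg.Agent.S4150
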