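import Cfsg.Statements.S4151
import Mathlib
import Cfsg.Agent.Lib.FGB.ZGroupAction
import Cfsg.Agent.Lib.Basics.CoprimeGen

set_option autoImplicit false
set_option linter.style.haveILetI false
open Cfsg

namespace Cfsg.Agent.S4151

open Cfsg.Agent.FGB
open scoped Pointwise commutatorElement

/-- Let H be a non-normal TI-subgroup of a finite pi-separable group G that is a Hall pi-subgroup of its normaliser and has abelian Sylow 2-subgroups, and let Q be a complement of H in N_G(H). Then C_H(Q) is a Hall subgroup of G and has a normal complement in G. -/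
theorem result {G : Type*} [Group G] [Finite G] (H : Subgroup G)
    (hTI : Cfsg.IsTISubset (H : Set G)) (hnn : ¬ H.Normal)
    (hHall : (Nat.card H).Coprime (H.subgroupOf (Subgroup.normalizer (H : Set G))).index)
    (hsep : ∃ (n : ℕ) (M : Fin (n + 1) → Subgroup G), M 0 = ⊥ ∧ M (Fin.last n) = ⊤ ∧ Monotone M ∧ (∀ i, (M i).Normal) ∧
      ∀ i : Fin n, (∀ q : ℕ, q.Prime → q ∣ (M i.castSucc).relIndex (M i.succ) → q ∣ Nat.card H) ∨
        ((M i.castSucc).relIndex (M i.succ)).Coprime (Nat.card H))
    (h2 : ∀ P : Sylow 2 H, IsMulCommutative (P : Subgroup H))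
    (Q : Subgroup G) (hQ : Q ≤ Subgroup.normalizer (H : Set G)) (hQH : Q ⊓ H = ⊥) (hQH' : Q ⊔ H = Subgroup.normalizer (H : Set G)) :
    (Nat.card ↥(H ⊓ Subgroup.centralizer (Q : Set G))).Coprime (H ⊓ Subgroup.centralizer (Q : Set G)).index ∧
    ∃ N : Subgroup G, N.Normal ∧ N.IsComplement' (H ⊓ Subgroup.centralizer (Q : Set G)) := by
  classical
  set NH := Subgroup.normalizer (H : Set G) with hNH
  have hHN : H ≤ NH := Subgroup.le_normalizer
  have hTI' : ∀ g : G, ∀ x ∈ H, x ≠ 1 → g * x * g⁻¹ ∈ H → g ∈ NH := by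
    intro g x hx hx1 hgx
    by_contra hg
    exact hx1 (hTI g hg x hx hgx)
  -- `H` is a Hall subgroup of `G`
  have hHallG : (Nat.card H).Coprime H.index := by
    refine Nat.coprime_of_dvd fun q hq hqH hqI => ?_
    haveI := Fact.mk hq
    obtain ⟨P0⟩ := (inferInstance : Nonempty (Sylow q H))
    let P0' := (P0 : Subgroup H).map H.subtype
    obtain ⟨P, hP⟩ := (P0.2.map H.subtype).exists_le_sylow
    have hP0H : P0' ≤ H := Subgroup.map_subtype_le _
    suffices hPP : (P : Subgroup G) ≤ P0' from
      P.not_dvd_index (hqI.trans (Subgroup.index_dvd_of_le (hPP.trans hP0H)))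
    by_contra hlt
    have hP0ne : P0' ≠ ⊥ := fun h => P0.ne_bot_of_dvd_card hqH
      ((Subgroup.map_eq_bot_iff_of_injective _ H.subtype_injective).mp h)
    obtain ⟨x, hx1⟩ := P0'.ne_bot_iff_exists_ne_one.mp hP0ne
    have hnc : NormalizerCondition (P : Subgroup G) :=
      @Group.normalizerCondition_of_isNilpotent _ _ P.2.isNilpotent
    have hne : P0'.subgroupOf P < ⊤ := lt_top_iff_ne_top.mpr fun h => hlt (Subgroup.subgroupOf_eq_top.mp h)
    obtain ⟨g, hg, hgn⟩ := SetLike.exists_of_lt (hnc _ hne)
    have hgN : (g : G) ∈ NH := by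
      refine hTI' g x (hP0H x.2) (fun h => hx1 (Subtype.ext h)) (hP0H ?_)
      have := (Subgroup.mem_normalizer_iff.mp hg ⟨(x : G), hP x.2⟩).mp x.2
      exact this
    let B := (P : Subgroup G) ⊓ NH
    obtain ⟨j, hj⟩ := IsPGroup.iff_card.mp (P.2.to_le (inf_le_left : B ≤ P))
    have hdvd : q ^ j ∣ Nat.card H := by
      have h1 := Subgroup.card_dvd_of_le (inf_le_right : B ≤ NH)
      rw [hj, ← (H.subgroupOf NH).card_mul_index, Basics.card_subgroupOf hHN] at h1
      exact (Nat.Coprime.pow_left j (hq.coprime_iff_not_dvd.mpr fun hd => hq.one_lt.ne'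
        (Nat.eq_one_of_dvd_coprimes hHall hqH hd))).dvd_of_dvd_mul_right h1
    have hB : Nat.card B ≤ Nat.card P0' := by
      rw [hj, Subgroup.card_map_of_injective H.subtype_injective, P0.card_eq_multiplicity]
      exact Nat.pow_le_pow_right hq.pos
        ((Nat.Prime.pow_dvd_iff_le_factorization hq Nat.card_pos.ne').mp hdvd)
    have hle : P0' ≤ B := le_inf hP (hP0H.trans hHN)
    have heq := Subgroup.eq_of_le_of_card_ge hle hB
    exact hgn (show (g : G) ∈ P0' from heq ▸ ⟨g.2, hgN⟩)
  -- the largest normal subgroup of order prime to `|H|`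
  obtain ⟨O, -, ⟨hOn, hOco⟩, hOmax⟩ := Finite.exists_le_maximal
    (p := fun O : Subgroup G => O.Normal ∧ (Nat.card O).Coprime (Nat.card H)) (a := ⊥)
    ⟨inferInstance, by simp⟩
  haveI := hOn
  -- `G = O N(H)`
  have htop : O ⊔ NH = ⊤ := by
    by_cases hOtop : O = ⊤
    · rw [hOtop, top_sup_eq]
    obtain ⟨n, M, hM0, hMl, hMm, hMn, hsec⟩ := hsep
    have hex : ∃ i : Fin n, M i.castSucc ≤ O ∧ ¬ M i.succ ≤ O := by
      by_contra hcon
      push Not at hcon
      have hall : ∀ i : Fin (n + 1), M i ≤ O :=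
        Fin.induction (by rw [hM0]; exact bot_le) (fun i hi => hcon i hi)
      exact hOtop (top_le_iff.mp (hMl ▸ hall (Fin.last n)))
    obtain ⟨i, hiO, hisO⟩ := hex
    haveI := hMn i.succ
    set R := O ⊔ M i.succ with hR
    haveI : R.Normal := inferInstance
    have hOR : O.relIndex R ∣ (M i.castSucc).relIndex (M i.succ) := by
      rw [hR, Subgroup.relIndex_sup_left]
      exact Subgroup.relIndex_dvd_of_le_left _ hiO
    have hcard : Nat.card O * O.relIndex R = Nat.card R := by
      have := (O.subgroupOf R).card_mul_index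
      rwa [Basics.card_subgroupOf le_sup_left] at this
    rcases hsec i with hπ | hπ'
    swap
    · exact absurd (le_sup_right.trans (hOmax ⟨inferInstance, hcard ▸ Nat.Coprime.mul_left hOco
        (Nat.Coprime.coprime_dvd_left hOR hπ')⟩ le_sup_left)) hisO
    have hne1 : O.relIndex R ≠ 1 := fun h => hisO (le_sup_right.trans (Subgroup.relIndex_eq_one.mp h))
    have hRle : R ≤ O ⊔ H := by
      rw [← Subgroup.relIndex_eq_one]
      by_contra hne
      obtain ⟨s, hs, hsd⟩ := Nat.exists_prime_and_dvd hne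
      have h1 : s ∣ Nat.card H := hπ s hs (hsd.trans ((Subgroup.relIndex_dvd_of_le_left _
        (le_sup_left : O ≤ O ⊔ H)).trans hOR))
      have h2 : s ∣ H.index := hsd.trans ((relIndex_dvd_index_of_normal_right (O ⊔ H) R).trans
        (Subgroup.index_dvd_of_le le_sup_right))
      exact hs.one_lt.ne' (Nat.eq_one_of_dvd_coprimes hHallG h1 h2)
    obtain ⟨q, hq, hqd⟩ := Nat.exists_prime_and_dvd hne1
    haveI := Fact.mk hq
    have hqH : q ∣ Nat.card H := hπ q hq (hqd.trans hOR)
    obtain ⟨P0⟩ := (inferInstance : Nonempty (Sylow q H))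
    let P := (P0 : Subgroup H).map H.subtype
    have hPH : P ≤ H := Subgroup.map_subtype_le _
    have hPidx : ¬ q ∣ P.index := by
      rw [Subgroup.index_map_subtype]
      exact hq.not_dvd_mul P0.not_dvd_index fun hd => hq.one_lt.ne'
        (Nat.eq_one_of_dvd_coprimes hHallG hqH hd)
    have hPrel : ¬ q ∣ P.relIndex R := fun h => hPidx (h.trans (relIndex_dvd_index_of_normal_right P R))
    let PR : Sylow q R := ((P0.2.map H.subtype).comap_subtype (K := R)).toSylow hPrel
    have hfr := Sylow.normalizer_sup_eq_top PR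
    have hPRne : (PR : Subgroup R) ≠ ⊥ := PR.ne_bot_of_dvd_card (hqd.trans (hcard ▸ dvd_mul_left _ _))
    obtain ⟨x, hx1⟩ := (PR : Subgroup R).ne_bot_iff_exists_ne_one.mp hPRne
    have hsub : Subgroup.normalizer (((PR : Subgroup R).map R.subtype : Subgroup G) : Set G) ≤ NH := by
      intro g hg
      have hxm : ((x : R) : G) ∈ (PR : Subgroup R).map R.subtype := ⟨x, x.2, rfl⟩
      have hgx := (Subgroup.mem_normalizer_iff.mp hg _).mp hxm
      obtain ⟨y, hy, hye⟩ := hgx
      exact hTI' g _ (hPH x.2) (fun h => hx1 (Subtype.ext (Subtype.ext h))) (hye ▸ hPH hy)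
    rw [eq_top_iff, ← hfr]
    exact sup_le (hsub.trans le_sup_right) (hRle.trans (sup_le_sup_left hHN O))
  have hOnot : ¬ O ≤ NH := fun h => hnn (Subgroup.normalizer_eq_top_iff.mp
    (by rw [← hNH, ← htop, sup_eq_right.mpr h]))
  -- abelian subgroups of `H` are cyclic
  have hab : ∀ A : Subgroup G, A ≤ H → IsMulCommutative A → IsCyclic A := by
    intro A hAH hA
    by_contra hc
    apply hOnot
    rw [← Basics.iSup_inf_centralizer_eq A O hc
      (Subgroup.le_normalizer_of_normal (H := O))
      ((hOco.coprime_dvd_right (Subgroup.card_dvd_of_le hAH)).symm)]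
    refine iSup₂_le fun a ha y hy => hTI' y a (hAH ha.1) ha.2 ?_
    rw [Subgroup.mem_centralizer_singleton_iff.mp hy.2, mul_inv_cancel_right]
    exact hAH ha.1
  haveI hZ : IsZGroup H := ⟨fun p hp P => by
    haveI := Fact.mk hp
    refine isCyclic_of_abelian_subgroups_cyclic P.2 (fun h => ?_) fun A hA => ?_
    · subst h; exact h2 P
    · let f : P →* G := H.subtype.comp (P : Subgroup H).subtype
      have hf : Function.Injective f := H.subtype_injective.comp (P : Subgroup H).subtype_injective
      haveI := hab (A.map f) (by rintro _ ⟨a, -, rfl⟩; exact (a : H).2) (by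
        constructor; constructor
        rintro ⟨_, a, ha, rfl⟩ ⟨_, b, hb, rfl⟩
        exact Subtype.ext (by
          show f a * f b = f b * f a
          rw [← map_mul, ← map_mul, show a * b = b * a from
            congrArg Subtype.val (mul_comm' (⟨a, ha⟩ : A) ⟨b, hb⟩)]))
      exact isCyclic_of_surjective (A.equivMapOfInjective f hf).symm.toMonoidHom
        (A.equivMapOfInjective f hf).symm.surjective⟩
  -- the action of `Q`
  have hcardN : Nat.card NH = Nat.card H * Nat.card Q := by
    have h := Basics.card_mul_card_eq_card_sup_mul_card_inf (N := H) (H := Q) hQ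
    rw [sup_comm, inf_comm, hQH', hQH, Subgroup.card_bot, mul_one] at h
    exact h.symm
  have hQco : (Nat.card Q).Coprime (Nat.card H) := by
    have h := (H.subgroupOf NH).card_mul_index
    rw [Basics.card_subgroupOf hHN, hcardN] at h
    rw [← Nat.eq_of_mul_eq_mul_left Nat.card_pos h]
    exact hHall.symm
  have hCK := coprime_card_commutator_centralizer H Q hQ hQco
  have hsup := Basics.commutator_sup_inf_centralizer Q H hQ hQco (Or.inr inferInstance)
  set C := H ⊓ Subgroup.centralizer (Q : Set G) with hC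
  set K0 := ⁅H, Q⁆ with hK0
  have hQK : Q ≤ Subgroup.normalizer (K0 : Set G) := Subgroup.normalizer_commutator_ge_right _ _
  have hHK : H ≤ Subgroup.normalizer (K0 : Set G) := Subgroup.normalizer_commutator_ge_left _ _
  set X := Q ⊔ K0 with hX
  have hQX : Q ≤ Subgroup.normalizer (X : Set G) := (le_sup_left : Q ≤ X).trans Subgroup.le_normalizer
  have hHXle : ∀ h ∈ H, X.map (MulAut.conj h).toMonoidHom ≤ X := by
    intro h hh
    rw [hX, Subgroup.map_sup, sup_le_iff, ← hX]
    refine ⟨?_, ?_⟩
    · rintro _ ⟨a, ha, rfl⟩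
      have hc : ⁅h, a⁆ ∈ X := le_sup_right (a := Q) (Subgroup.commutator_mem_commutator hh ha)
      have e : MulAut.conj h a = ⁅h, a⁆ * a := by
        rw [commutatorElement_def, MulAut.conj_apply]; group
      show MulAut.conj h a ∈ X
      rw [e]
      exact mul_mem hc (le_sup_left (b := K0) ha)
    · exact le_trans (le_of_eq (Subgroup.mem_normalizer_iff_map_conj_eq.mp (hHK hh))) le_sup_right
  have hHX : H ≤ Subgroup.normalizer (X : Set G) := fun h hh =>
    Subgroup.mem_normalizer_iff_map_conj_eq.mpr (Subgroup.eq_of_le_of_card_ge (hHXle h hh)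
      (by rw [Subgroup.card_map_of_injective (MulEquiv.injective _)]))
  have hNX : NH ≤ Subgroup.normalizer (X : Set G) := hQH' ▸ sup_le hQX hHX
  set N := O ⊔ X with hN
  have hNn : N.Normal := by
    rw [← Subgroup.normalizer_eq_top_iff, eq_top_iff, ← htop]
    refine sup_le ((le_sup_left : O ≤ N).trans Subgroup.le_normalizer) fun g hg => ?_
    rw [Subgroup.mem_normalizer_iff_map_conj_eq, hN, Subgroup.map_sup,
      Subgroup.mem_normalizer_iff_map_conj_eq.mp (hNX hg),
      Subgroup.mem_normalizer_iff_map_conj_eq.mp (Subgroup.le_normalizer_of_normal (H := O) (Subgroup.mem_top g))]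
  haveI := hNn
  have hNC : N ⊔ C = ⊤ := by
    rw [eq_top_iff, ← htop]
    refine sup_le (le_sup_left.trans le_sup_left) ?_
    rw [← hQH']
    refine sup_le ((le_sup_left : Q ≤ X).trans (le_sup_right.trans le_sup_left)) ?_
    rw [← hsup]
    exact sup_le_sup_right ((le_sup_right : K0 ≤ X).trans le_sup_right) C
  have hco : (Nat.card N).Coprime (Nat.card C) := by
    have hCH : Nat.card C ∣ Nat.card H := Subgroup.card_dvd_of_le inf_le_left
    have h1 : Nat.card X ∣ Nat.card Q * Nat.card K0 := by
      have h := Basics.card_mul_card_eq_card_sup_mul_card_inf (N := K0) (H := Q) hQK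
      rw [sup_comm, mul_comm] at h
      exact Dvd.intro _ h.symm
    have h2 : Nat.card N ∣ Nat.card O * Nat.card X :=
      Dvd.intro _ (Basics.card_mul_card_eq_card_sup_mul_card_inf (N := O) (H := X)
        Subgroup.le_normalizer_of_normal).symm
    exact Nat.Coprime.coprime_dvd_left (h2.trans (mul_dvd_mul_left _ h1))
      (Nat.Coprime.mul_left (hOco.coprime_dvd_right hCH)
        (Nat.Coprime.mul_left (hQco.coprime_dvd_right hCH) hCK.symm))
  have hcomp : N.IsComplement' C :=
    Subgroup.isComplement'_of_disjoint_and_mul_eq_univ (Subgroup.disjoint_of_coprime_natCard hco)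
      (by rw [← Subgroup.normal_mul, hNC]; rfl)
  exact ⟨by rw [hcomp.index_eq_card]; exact hco.symm, N, hNn, hcomp⟩

end Cfsg.Agent.S4151
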