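import Cfsg.Statements.S4152
import Mathlib
import Cfsg.Agent.Lib.FGB.SelfNormInvol

set_option autoImplicit false
open Cfsg

namespace Cfsg.Agent.S4152

open Subgroup

/-- All prime divisors of the order lie in `π`. -/
def Pi {G : Type*} [Group G] (π : Set ℕ) (g : G) : Prop := ∀ q : ℕ, q.Prime → q ∣ orderOf g → q ∈ π

/-- The classes of `π`-elements. -/
abbrev PiCls (G : Type*) [Group G] (π : Set ℕ) : Type _ :=
  {C : ConjClasses G // ∀ q : ℕ, q.Prime → (∃ g : G, ConjClasses.mk g = C ∧ q ∣ orderOf g) → q ∈ π}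

variable {G : Type*} [Group G] {π : Set ℕ}

theorem pi_of_cls (C : PiCls G π) {g : G} (h : ConjClasses.mk g = C.1) : Pi π g :=
  fun q hq hd => C.2 q hq ⟨g, h, hd⟩

theorem cls_of_pi {g : G} (h : Pi π g) :
    ∀ q : ℕ, q.Prime → (∃ y : G, ConjClasses.mk y = ConjClasses.mk g ∧ q ∣ orderOf y) → q ∈ π := by
  rintro q hq ⟨y, hy, hd⟩
  obtain ⟨c, rfl⟩ := isConj_iff.mp (ConjClasses.mk_eq_mk_iff_isConj.mp hy.symm)
  exact h q hq (by rwa [Invol.orderOf_conj] at hd)

theorem exists_factor (π : Set ℕ) : ∀ n : ℕ, n ≠ 0 → ∃ m k : ℕ, n = m * k ∧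
    (∀ q : ℕ, q.Prime → q ∣ m → q ∈ π) ∧ (∀ q : ℕ, q.Prime → q ∣ k → q ∉ π) := by
  intro n
  induction n using Nat.recOnMul with
  | zero => intro h; exact absurd rfl h
  | one => exact fun _ => ⟨1, 1, rfl, fun q hq h => absurd h hq.not_dvd_one, fun q hq h => absurd h hq.not_dvd_one⟩
  | prime p hp =>
    intro _
    by_cases h : p ∈ π
    · exact ⟨p, 1, (mul_one p).symm, fun q hq hd => ((Nat.prime_dvd_prime_iff_eq hq hp).mp hd) ▸ h,
        fun q hq hd => absurd hd hq.not_dvd_one⟩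
    · exact ⟨1, p, (one_mul p).symm, fun q hq hd => absurd hd hq.not_dvd_one,
        fun q hq hd => ((Nat.prime_dvd_prime_iff_eq hq hp).mp hd) ▸ h⟩
  | mul a b iha ihb =>
    intro hab
    obtain ⟨m, k, rfl, hm, hk⟩ := iha (left_ne_zero_of_mul hab)
    obtain ⟨m', k', rfl, hm', hk'⟩ := ihb (right_ne_zero_of_mul hab)
    exact ⟨m * m', k * k', by ring, fun q hq hd => (hq.dvd_mul.mp hd).elim (hm q hq) (hm' q hq),
      fun q hq hd => (hq.dvd_mul.mp hd).elim (hk q hq) (hk' q hq)⟩

theorem exists_split [Finite G] (π : Set ℕ) (g : G) : ∃ a b : G, a ∈ zpowers g ∧ b ∈ zpowers g ∧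
    a * b = g ∧ Pi π a ∧ Pi πᶜ b := by
  obtain ⟨m, k, hn, hm, hk⟩ := exists_factor π (orderOf g) (orderOf_pos g).ne'
  have hcop : Nat.Coprime m k := Nat.coprime_of_dvd fun q hq h1 h2 => hk q hq h2 (hm q hq h1)
  refine ⟨g ^ ((k : ℤ) * Nat.gcdB m k), g ^ ((m : ℤ) * Nat.gcdA m k), zpow_mem (mem_zpowers g) _,
    zpow_mem (mem_zpowers g) _, ?_, fun q hq hd => hm q hq (hd.trans ?_),
    fun q hq hd => hk q hq (hd.trans ?_)⟩
  · rw [← zpow_add, add_comm, ← Nat.gcd_eq_gcd_ab, hcop, Nat.cast_one, zpow_one]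
  · refine orderOf_dvd_of_pow_eq_one ?_
    rw [← zpow_natCast, ← zpow_mul, show (k : ℤ) * Nat.gcdB m k * (m : ℤ) =
      ((m * k : ℕ) : ℤ) * Nat.gcdB m k by push_cast; ring, zpow_mul, zpow_natCast, ← hn,
      pow_orderOf_eq_one, one_zpow]
  · refine orderOf_dvd_of_pow_eq_one ?_
    rw [← zpow_natCast, ← zpow_mul, show (m : ℤ) * Nat.gcdA m k * (k : ℤ) =
      ((m * k : ℕ) : ℤ) * Nat.gcdA m k by push_cast; ring, zpow_mul, zpow_natCast, ← hn,
      pow_orderOf_eq_one, one_zpow]

theorem pi_mul [Finite G] {a b : G} (h : Commute a b) (ha : Pi π a) (hb : Pi π b) : Pi π (a * b) := by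
  intro q hq hd
  have h1 := hd.trans (h.orderOf_mul_dvd_lcm.trans (Nat.lcm_dvd_mul _ _))
  exact (hq.dvd_mul.mp h1).elim (ha q hq) (hb q hq)

theorem pi_inv {a : G} (ha : Pi π a) : Pi π a⁻¹ := fun q hq hd => ha q hq (by rwa [orderOf_inv] at hd)

theorem split_unique [Finite G] {a b a' b' : G} (ha : Pi π a) (hb : Pi πᶜ b) (ha' : Pi π a')
    (hb' : Pi πᶜ b') (haa : Commute a a') (hbb : Commute b b') (h : a * b = a' * b') :
    a = a' ∧ b = b' := by
  have h1 : a'⁻¹ * a = b' * b⁻¹ := by rw [eq_mul_inv_iff_mul_eq, mul_assoc, h, inv_mul_cancel_left]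
  have hp : Pi π (a'⁻¹ * a) := pi_mul haa.symm.inv_left (pi_inv ha') ha
  have hq : Pi πᶜ (b' * b⁻¹) := pi_mul hbb.symm.inv_right hb' (pi_inv hb)
  rw [← h1] at hq
  have h3 : a'⁻¹ * a = 1 := by
    rw [← orderOf_eq_one_iff]
    by_contra hne
    obtain ⟨q, hq1, hq2⟩ := Nat.exists_prime_and_dvd hne
    exact hq q hq1 hq2 (hp q hq1 hq2)
  have h4 : a = a' := (inv_mul_eq_one.mp h3).symm
  exact ⟨h4, by rw [h4] at h; exact mul_left_cancel h⟩

theorem card_pairs [Finite G] (π : Set ℕ) :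
    Nat.card {q : G × G // Pi π q.2 ∧ Commute q.1 q.2} = Nat.card (PiCls G π) * Nat.card G := by
  classical
  haveI : Finite (ConjClasses G) := Finite.of_surjective _ ConjClasses.mk_surjective
  set T := {q : G × G // Pi π q.2 ∧ Commute q.1 q.2}
  set s : Set (ConjClasses G) :=
    {C | ∀ q : ℕ, q.Prime → (∃ g : G, ConjClasses.mk g = C ∧ q ∣ orderOf g) → q ∈ π}
  have hfib : ∀ C ∈ s, Nat.card {q : T // ConjClasses.mk q.1.2 = C} = Nat.card G := by
    intro C hC
    obtain ⟨t, rfl⟩ := ConjClasses.mk_surjective C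
    have h1 := FGB.SelfNorm.card_fibres
      (fun q : T => q.1.2) (ConjClasses.mk t).carrier (Nat.card (centralizer ({t} : Set G))) ?_
    · have h2 := FGB.SelfNorm.ncard_orbit (⊤ : Subgroup G) t le_top
      rw [card_top] at h2
      rw [← h2]
      calc _ = Nat.card {a : T // a.1.2 ∈ (ConjClasses.mk t).carrier} :=
            Nat.card_congr (Equiv.subtypeEquivRight fun q => ConjClasses.mem_carrier_iff_mk_eq.symm)
        _ = (ConjClasses.mk t).carrier.ncard * Nat.card (centralizer ({t} : Set G)) := h1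
        _ = _ := by
          congr 2
          ext y
          rw [ConjClasses.mem_carrier_iff_mk_eq, ConjClasses.mk_eq_mk_iff_isConj, isConj_comm,
            isConj_iff]
          exact ⟨fun ⟨c, hc⟩ => ⟨c, mem_top c, hc⟩, fun ⟨c, _, hc⟩ => ⟨c, hc⟩⟩
    · intro z hz
      have hz' := ConjClasses.mem_carrier_iff_mk_eq.mp hz
      have hzpi : Pi π z := fun q hq hd => hC q hq ⟨z, hz', hd⟩
      obtain ⟨c, rfl⟩ := isConj_iff.mp (ConjClasses.mk_eq_mk_iff_isConj.mp hz'.symm)
      rw [← FGB.SelfNorm.card_centralizer_conj t c]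
      exact Nat.card_congr
        { toFun := fun q => ⟨q.1.1.1, mem_centralizer_singleton_iff.mpr (by
            have h := q.1.2.2.eq
            have e : q.1.1.2 = c * t * c⁻¹ := q.2
            rwa [e] at h)⟩
          invFun := fun m => ⟨⟨(m.1, c * t * c⁻¹), hzpi, mem_centralizer_singleton_iff.mp m.2⟩, rfl⟩
          left_inv := fun q => by
            obtain ⟨⟨⟨a, b⟩, hb⟩, hq⟩ := q
            obtain rfl : b = c * t * c⁻¹ := hq
            rfl
          right_inv := fun m => rfl }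
  have h := FGB.SelfNorm.card_fibres (fun q : T => ConjClasses.mk q.1.2) s _ hfib
  rw [← Nat.card_coe_set_eq] at h
  rw [← Nat.card_congr (Equiv.subtypeUnivEquiv fun q : T => cls_of_pi q.2.1)]
  exact h

/-- Let G be a finite group, N a normal subgroup and π a set of primes. Then the number of conjugacy classes of π-elements of G (elements whose order is divisible only by primes in π) is at most the number of conjugacy classes of π-elements of N (under conjugation by N) times the number of conjugacy classes of π-elements of G/N. -/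
theorem result {G : Type*} [Group G] [Finite G] (N : Subgroup G) [N.Normal] (π : Set ℕ) :
    Nat.card {C : ConjClasses G // ∀ q : ℕ, q.Prime → (∃ g : G, ConjClasses.mk g = C ∧ q ∣ orderOf g) → q ∈ π} ≤ Nat.card {C : ConjClasses N // ∀ q : ℕ, q.Prime → (∃ g : N, ConjClasses.mk g = C ∧ q ∣ orderOf g) → q ∈ π} * Nat.card {C : ConjClasses (G ⧸ N) // ∀ q : ℕ, q.Prime → (∃ g : (G ⧸ N), ConjClasses.mk g = C ∧ q ∣ orderOf g) → q ∈ π} := by
  classical
  haveI : Finite (ConjClasses G) := Finite.of_surjective _ ConjClasses.mk_surjective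
  haveI : Finite (ConjClasses (G ⧸ N)) := Finite.of_surjective _ ConjClasses.mk_surjective
  haveI : Finite (ConjClasses N) := Finite.of_surjective _ ConjClasses.mk_surjective
  set f := QuotientGroup.mk' N with hf
  -- image of a class of π-elements
  have himg : ∀ C : PiCls G π, ∀ q : ℕ, q.Prime →
      (∃ g : G ⧸ N, ConjClasses.mk g = ConjClasses.map f C.1 ∧ q ∣ orderOf g) → q ∈ π := by
    intro C
    obtain ⟨x, hx⟩ := ConjClasses.mk_surjective C.1
    rw [← hx]
    exact cls_of_pi fun q hq hd => pi_of_cls C hx q hq (hd.trans (orderOf_map_dvd f x))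
  let img : PiCls G π → PiCls (G ⧸ N) π := fun C => ⟨ConjClasses.map f C.1, himg C⟩
  -- representative in a fixed coset
  have hrep : ∀ C : PiCls G π, ∃ y : G, ConjClasses.mk y = C.1 ∧
      f y = Function.surjInv ConjClasses.mk_surjective (img C).1 := by
    intro C
    obtain ⟨x, hx⟩ := ConjClasses.mk_surjective C.1
    have h1 : ConjClasses.mk (f x) =
        ConjClasses.mk (Function.surjInv ConjClasses.mk_surjective (img C).1) := by
      rw [Function.surjInv_eq ConjClasses.mk_surjective]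
      show _ = ConjClasses.map f C.1
      rw [← hx]; rfl
    obtain ⟨c, hc⟩ := isConj_iff.mp (ConjClasses.mk_eq_mk_iff_isConj.mp h1)
    obtain ⟨c', rfl⟩ := QuotientGroup.mk'_surjective N c
    refine ⟨c' * x * c'⁻¹, ?_, by rw [← hc, map_mul, map_mul, map_inv]⟩
    rw [← hx, ConjClasses.mk_eq_mk_iff_isConj, isConj_comm, isConj_iff]
    exact ⟨c', rfl⟩
  choose y hy1 hy2 using hrep
  -- chosen conjugators
  let r : G → G → N := fun a b => if h : ∃ r : N, (r : G) * a * (r : G)⁻¹ = b then h.choose else 1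
  have hr : ∀ (a : G) (h : N), (r a ((h : G) * a * (h : G)⁻¹) : G) * a *
      (r a ((h : G) * a * (h : G)⁻¹) : G)⁻¹ = (h : G) * a * (h : G)⁻¹ := by
    intro a h
    have hex : ∃ r : N, (r : G) * a * (r : G)⁻¹ = (h : G) * a * (h : G)⁻¹ := ⟨h, rfl⟩
    simp only [r, dif_pos hex]
    exact hex.choose_spec
  -- decomposition in `N`
  choose zp zq hzp hzq hzmul hzpi hzpi' using fun n : N => exists_split π (n : G)
  have hzN : ∀ n : N, zp n ∈ N ∧ zq n ∈ N := fun n =>
    ⟨zpowers_le.mpr n.2 (hzp n), zpowers_le.mpr n.2 (hzq n)⟩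
  let Y : PiCls G π × N → G := fun p => (p.2 : G) * y p.1 * (p.2 : G)⁻¹
  let M : PiCls G π × N → N := fun p => p.2 * (r (y p.1) (Y p))⁻¹
  let W : PiCls G π × N → G := fun p => Y p * zq (M p)
  let Z : PiCls G π × N → N := fun p => ⟨zp (M p), (hzN _).1⟩
  have hYpi : ∀ p, Pi π (Y p) := fun p => pi_of_cls p.1 (by
    rw [← hy1 p.1, ConjClasses.mk_eq_mk_iff_isConj, isConj_comm, isConj_iff]
    exact ⟨p.2, rfl⟩)
  have hMY : ∀ p, Commute (M p : G) (Y p) := by
    intro p
    have h := hr (y p.1) p.2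
    show (M p : G) * Y p = Y p * (M p : G)
    simp only [M, Subgroup.coe_mul, Subgroup.coe_inv, Y]
    set R : G := ((r (y p.1) ((p.2 : G) * y p.1 * (p.2 : G)⁻¹) : N) : G) with hR
    calc (p.2 : G) * R⁻¹ * ((p.2 : G) * y p.1 * (p.2 : G)⁻¹)
        = (p.2 : G) * R⁻¹ * (R * y p.1 * R⁻¹) := by rw [h]
      _ = (p.2 : G) * y p.1 * (p.2 : G)⁻¹ * ((p.2 : G) * R⁻¹) := by group
  have hcz : ∀ p, Commute (zp (M p)) (Y p) ∧ Commute (zq (M p)) (Y p) := fun p => by
    obtain ⟨i, hi⟩ := mem_zpowers_iff.mp (hzp (M p))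
    obtain ⟨j, hj⟩ := mem_zpowers_iff.mp (hzq (M p))
    exact ⟨hi ▸ (hMY p).zpow_left i, hj ▸ (hMY p).zpow_left j⟩
  have hpq : ∀ n : N, Commute (zp n) (zq n) := fun n => by
    obtain ⟨i, hi⟩ := mem_zpowers_iff.mp (hzp n)
    obtain ⟨j, hj⟩ := mem_zpowers_iff.mp (hzq n)
    rw [← hi, ← hj]
    exact Commute.zpow_zpow_self _ i j
  have hWZ : ∀ p, Commute (W p) (Z p : G) := fun p =>
    (hcz p).1.symm.mul_left (hpq _).symm
  have hWf : ∀ p, f (W p) = Function.surjInv ConjClasses.mk_surjective (img p.1).1 := by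
    intro p
    have h1 : ∀ n : G, n ∈ N → f n = 1 := fun n hn => (QuotientGroup.eq_one_iff n).mpr hn
    simp only [W, Y, map_mul, map_inv, h1 _ p.2.2, h1 _ (hzN _).2, one_mul, mul_one, inv_one, hy2]
  let ω : PiCls (G ⧸ N) π → N → G := fun D z =>
    if h : ∃ w : G, f w = Function.surjInv ConjClasses.mk_surjective D.1 ∧ Commute w (z : G)
    then h.choose else 1
  have hω : ∀ p, f (ω (img p.1) (Z p)) = Function.surjInv ConjClasses.mk_surjective (img p.1).1 ∧
      Commute (ω (img p.1) (Z p)) (Z p : G) := by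
    intro p
    have hex : ∃ w : G, f w = Function.surjInv ConjClasses.mk_surjective (img p.1).1 ∧
        Commute w (Z p : G) := ⟨W p, hWf p, hWZ p⟩
    simp only [ω, dif_pos hex]
    exact hex.choose_spec
  let Φ : PiCls G π × N → PiCls (G ⧸ N) π × {q : N × N // Pi π q.2 ∧ Commute q.1 q.2} := fun p =>
    (img p.1, ⟨(⟨(ω (img p.1) (Z p))⁻¹ * W p, (QuotientGroup.eq_one_iff _).mp (by
      show f _ = 1
      rw [map_mul, map_inv, hWf, (hω p).1, inv_mul_cancel])⟩, Z p), by
      refine fun q hq hd => hzpi (M p) q hq ?_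
      rwa [← Subgroup.orderOf_coe] at hd, by
      exact Subtype.ext ((hω p).2.inv_left.mul_left (hWZ p)).eq⟩)
  have hinj : Function.Injective Φ := by
    intro p p' h
    have h1 : img p.1 = img p'.1 := congrArg Prod.fst h
    have h2 : Z p = Z p' := congrArg (fun q => q.2.1.2) h
    have h3 : (ω (img p.1) (Z p))⁻¹ * W p = (ω (img p'.1) (Z p'))⁻¹ * W p' :=
      congrArg (fun q => ((q.2.1.1 : N) : G)) h
    rw [h1, h2] at h3
    have h4 : W p = W p' := mul_left_cancel h3
    -- both decompositions of `W p` consist of powers of `W p`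
    obtain ⟨a, b, ha, hb, hab, hap, hbp⟩ := exists_split π (W p)
    have key : ∀ q, W q = W p → Y q = a ∧ zq (M q) = b := by
      intro q hq
      have hcY : Commute (W p) (Y q) := hq ▸ ((Commute.refl _).mul_left (hcz q).2)
      have hcq : Commute (W p) (zq (M q)) := hq ▸ ((hcz q).2.symm.mul_left (Commute.refl _))
      obtain ⟨i, hi⟩ := mem_zpowers_iff.mp ha
      obtain ⟨j, hj⟩ := mem_zpowers_iff.mp hb
      exact split_unique (hYpi q) (hzpi' (M q)) hap hbp (hi ▸ (hcY.zpow_left i).symm)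
        (hj ▸ (hcq.zpow_left j).symm) (hq.trans hab.symm)
    obtain ⟨e1, e2⟩ := key p rfl
    obtain ⟨e1', e2'⟩ := key p' h4.symm
    have hY : Y p = Y p' := e1.trans e1'.symm
    have hM : M p = M p' := Subtype.ext (by
      rw [← hzmul (M p), ← hzmul (M p'), e2, e2', show zp (M p) = zp (M p') from congrArg Subtype.val h2])
    have hC : p.1 = p'.1 := by
      apply Subtype.ext
      have hmk : ∀ q : PiCls G π × N, ConjClasses.mk (Y q) = q.1.1 := fun q => by
        rw [← hy1 q.1, ConjClasses.mk_eq_mk_iff_isConj, isConj_comm, isConj_iff]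
        exact ⟨q.2, rfl⟩
      rw [← hmk p, ← hmk p', hY]
    refine Prod.ext hC ?_
    have h5 := hM
    simp only [M] at h5
    rw [hY, hC] at h5
    exact mul_right_cancel h5
  have hle := Nat.card_le_card_of_injective Φ hinj
  rw [Nat.card_prod, Nat.card_prod, card_pairs π] at hle
  refine Nat.le_of_mul_le_mul_right (le_of_le_of_eq hle ?_) (Nat.card_pos (α := N))
  ring

end Cfsg.Agent.S4152
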