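import Cfsg.Statements.S4153
import Mathlib
-- import your own Cfsg.Agent.* helpers here

set_option autoImplicit false
open Cfsg
open scoped Pointwise

namespace Cfsg.Agent.S4153

/-- Let G be a finite group, p a prime, N a normal subgroup, P a Sylow p-subgroup of G and P̄ a Sylow p-subgroup of G/N. Count the elements of p-power order, the identity included. Then (number of such elements of G/N)/#P̄ ≤ (number of such elements of G)/#P, stated as a cross-multiplied inequality, with equality when N is central. -/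
theorem result {G : Type*} [Group G] [Finite G] (p : ℕ) [Fact p.Prime] (N : Subgroup G) [N.Normal]
    (P : Sylow p G) (Pbar : Sylow p (G ⧸ N)) :
    Nat.card {g : (G ⧸ N) // ∃ k : ℕ, orderOf g = p ^ k} * Nat.card (P : Subgroup G) ≤ Nat.card {g : G // ∃ k : ℕ, orderOf g = p ^ k} * Nat.card (Pbar : Subgroup (G ⧸ N)) ∧
    (N ≤ Subgroup.center G → Nat.card {g : (G ⧸ N) // ∃ k : ℕ, orderOf g = p ^ k} * Nat.card (P : Subgroup G) = Nat.card {g : G // ∃ k : ℕ, orderOf g = p ^ k} * Nat.card (Pbar : Subgroup (G ⧸ N))) := by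
  classical
  set φ := QuotientGroup.mk' N with hφ
  set E := {g : G // ∃ k : ℕ, orderOf g = p ^ k}
  set Eb := {g : (G ⧸ N) // ∃ k : ℕ, orderOf g = p ^ k}
  let f : E → Eb := fun g => ⟨φ g, by
    obtain ⟨k, hk⟩ := g.2
    obtain ⟨j, -, hj⟩ := (Nat.dvd_prime_pow (Fact.out : p.Prime)).mp (hk ▸ orderOf_map_dvd φ (g : G))
    exact ⟨j, hj⟩⟩
  set c := Nat.card (((P : Subgroup G) ⊓ N) : Subgroup G) with hc
  have hsplit : ∀ R : Sylow p G, Nat.card (R : Subgroup G) =
      Nat.card ((R : Subgroup G) ⊓ N : Subgroup G) * Nat.card (Pbar : Subgroup (G ⧸ N)) := by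
    intro R
    have h1 := Subgroup.card_mul_index (φ.domRestrict (R : Subgroup G)).ker
    rw [Subgroup.index_ker, MonoidHom.domRestrict_range] at h1
    have h2 : Nat.card ((R : Subgroup G).map φ) = Nat.card (Pbar : Subgroup (G ⧸ N)) := by
      rw [← Sylow.coe_mapSurjective (QuotientGroup.mk'_surjective N), Sylow.card_eq_multiplicity, Sylow.card_eq_multiplicity]
    have h3 : Nat.card (φ.domRestrict (R : Subgroup G)).ker = Nat.card ((R : Subgroup G) ⊓ N : Subgroup G) := by
      rw [MonoidHom.ker_domRestrict, hφ, QuotientGroup.ker_mk', ← Subgroup.inf_subgroupOf_left]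
      exact Nat.card_congr (Subgroup.subgroupOfEquivOfLe inf_le_left).toEquiv
    rw [← h2, ← h3, h1]
  have hsame : ∀ R : Sylow p G, Nat.card ((R : Subgroup G) ⊓ N : Subgroup G) = c := fun R =>
    Nat.eq_of_mul_eq_mul_right (Nat.card_pos (α := (Pbar : Subgroup (G ⧸ N))))
      (by rw [← hsplit R, hc, ← hsplit P, Sylow.card_eq_multiplicity, Sylow.card_eq_multiplicity])
  have hlift : ∀ b : Eb, ∃ (R : Sylow p G) (u : G), u ∈ (R : Subgroup G) ∧ φ u = b := by
    intro b
    obtain ⟨k, hk⟩ := b.2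
    obtain ⟨T, hT⟩ := (IsPGroup.of_card (p := p) (n := k) (G := Subgroup.zpowers (b : G ⧸ N))
      (by rw [Nat.card_zpowers, hk])).exists_le_sylow
    obtain ⟨q, hq⟩ := MulAction.exists_smul_eq (G ⧸ N) (P.mapSurjective (QuotientGroup.mk'_surjective N)) T
    obtain ⟨t, rfl⟩ := QuotientGroup.mk'_surjective N q
    have hb := hT (Subgroup.mem_zpowers _)
    rw [← hq, Sylow.coe_subgroup_smul, Subgroup.mem_pointwise_smul_iff_inv_smul_mem, Sylow.coe_mapSurjective] at hb
    obtain ⟨v, hv, hvb⟩ := hb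
    refine ⟨t • P, t * v * t⁻¹, ?_, ?_⟩
    · rw [Sylow.coe_subgroup_smul]
      exact Subgroup.mem_pointwise_smul_iff_inv_smul_mem.mpr (by
        show (MulAut.conj t)⁻¹ (t * v * t⁻¹) ∈ (P : Subgroup G)
        rw [MulAut.inv_apply, MulAut.conj_symm_apply]
        rw [show t⁻¹ * (t * v * t⁻¹) * t = v by group]
        exact hv)
    · rw [map_mul, map_mul, map_inv]
      have : φ v = (MulAut.conj (φ t))⁻¹ (b : G ⧸ N) := hvb
      rw [this, MulAut.inv_apply, MulAut.conj_symm_apply]
      group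
  choose R u hu hub using hlift
  have hinj : ∀ b : Eb, ∃ i : ↥((R b : Subgroup G) ⊓ N) → {e : E // f e = b}, Function.Injective i ∧
      (N ≤ Subgroup.center G → Function.Surjective i) := by
    intro b
    refine ⟨fun z => ⟨⟨u b * z, ?_⟩, Subtype.ext ?_⟩, fun z w h => ?_, fun hNc e => ?_⟩
    · obtain ⟨k, hk⟩ := IsPGroup.iff_orderOf.mp (R b).2 ⟨_, mul_mem (hu b) z.2.1⟩
      exact ⟨k, by rw [← hk, Subgroup.orderOf_mk]⟩
    · show φ (u b * z) = b
      rw [map_mul, show φ (z : G) = 1 from (QuotientGroup.eq_one_iff _).mpr z.2.2, mul_one, hub]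
    · exact Subtype.ext (mul_left_cancel (congrArg (fun e : {e : E // f e = b} => ((e : E) : G)) h))
    · set w : G := ((e : E) : G) with hw
      have hwb : φ w = b := congrArg Subtype.val e.2
      set m := (u b)⁻¹ * w with hm
      have hmN : m ∈ N := by
        rw [← QuotientGroup.ker_mk' N, MonoidHom.mem_ker, hm, map_mul, map_inv]
        rw [show QuotientGroup.mk' N w = b from hwb, show QuotientGroup.mk' N (u b) = b from hub b, inv_mul_cancel]
      have hmR : m ∈ (R b : Subgroup G) := by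
        have hmc : ∀ g : G, Commute g m := fun g => Subgroup.mem_center_iff.mp (hNc hmN) g
        have hz : IsPGroup p (Subgroup.zpowers m) := by
          obtain ⟨k, hk⟩ := (e : E).2
          obtain ⟨j, hj⟩ := IsPGroup.iff_orderOf.mp (R b).2 ⟨_, inv_mem (hu b)⟩
          rw [Subgroup.orderOf_mk] at hj
          have hc' : Commute (u b)⁻¹ w := by
            have h1 := (hmc (u b)⁻¹)
            rw [hm] at h1
            exact mul_left_cancel (a := (u b)⁻¹) (by rw [← mul_assoc, ← mul_assoc]; simpa [mul_assoc, Commute, SemiconjBy] using h1.eq)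
          refine IsPGroup.of_card_dvd_pow (n := j + k) ?_
          rw [Nat.card_zpowers, pow_add, ← hj, ← hk]
          exact hc'.orderOf_mul_dvd_mul_orderOf
        have hnorm : Subgroup.zpowers m ≤ Subgroup.normalizer ((R b : Subgroup G) : Set G) :=
          (Subgroup.zpowers_le.mpr (Subgroup.center_le_normalizer _ (hNc hmN)))
        have := (R b).3 (IsPGroup.to_sup_of_normal_right' hz (R b).2 hnorm) le_sup_right
        exact this ▸ Subgroup.mem_sup_left (Subgroup.mem_zpowers m)
      exact ⟨⟨m, hmR, hmN⟩, Subtype.ext (Subtype.ext (mul_inv_cancel_left (u b) w))⟩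
  choose i hi hi' using hinj
  have hP := hsplit P
  let F : (Σ b : Eb, ↥((R b : Subgroup G) ⊓ N)) → E := fun z => ((i z.1 z.2 : {e : E // f e = z.1}) : E)
  have hF : Function.Injective F := by
    rintro ⟨b, z⟩ ⟨b', z'⟩ h
    have hb : b = b' := by rw [← (i b z).2, ← (i b' z').2]; exact congrArg f h
    subst hb
    exact Sigma.ext rfl (heq_of_eq (hi b (Subtype.ext h)))
  have hcard : Nat.card (Σ b : Eb, ↥((R b : Subgroup G) ⊓ N)) = Nat.card Eb * c := by
    haveI : Fintype Eb := Fintype.ofFinite _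
    rw [Nat.card_sigma, Finset.sum_congr rfl (fun b _ => hsame (R b)), Finset.sum_const, Finset.card_univ, smul_eq_mul, Nat.card_eq_fintype_card]
  rw [hP]
  refine ⟨?_, fun hNc => ?_⟩
  · rw [← mul_assoc, ← hcard]
    exact Nat.mul_le_mul_right _ (Nat.card_le_card_of_injective F hF)
  · rw [← mul_assoc, ← hcard]
    congr 1
    refine Nat.card_congr (Equiv.ofBijective F ⟨hF, fun e => ?_⟩)
    obtain ⟨z, hz⟩ := hi' (f e) hNc ⟨e, rfl⟩
    exact ⟨⟨f e, z⟩, congrArg Subtype.val hz⟩
end Cfsg.Agent.S4153
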