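import Cfsg.Statements.S4154
-- import your own Cfsg.Agent.* helpers here

set_option autoImplicit false
open Cfsg

namespace Cfsg.Agent.S4154

/-- Let G be a finite group and α an automorphism of G such that every element of G is the product of an element fixed by α and an element of the form g⁻¹α(g). If N is a normal α-invariant subgroup, then the automorphism ᾱ induced on G/N has the same property, and every coset fixed by ᾱ contains an element fixed by α (so the fixed points of ᾱ are the images of the fixed points of α). -/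
theorem result {G : Type*} [Group G] [Finite G] (α : MulAut G)
    (hccp : ∀ x : G, ∃ c g : G, α c = c ∧ x = c * (g⁻¹ * α g))
    (N : Subgroup G) [N.Normal] (hN : ∀ n ∈ N, α n ∈ N) :
    (∀ x : G, ∃ c g : G, c⁻¹ * α c ∈ N ∧ x⁻¹ * (c * (g⁻¹ * α g)) ∈ N) ∧
    (∀ x : G, x⁻¹ * α x ∈ N → ∃ c : G, α c = c ∧ c⁻¹ * x ∈ N) := by
  classical
  refine ⟨fun x => ?_, fun x hx => ?_⟩
  · obtain ⟨c, g, hc, rfl⟩ := hccp x
    exact ⟨c, g, by rw [hc, inv_mul_cancel]; exact one_mem N, by rw [inv_mul_cancel]; exact one_mem N⟩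
  · let S : Subgroup G :=
      { carrier := {y | y⁻¹ * α y ∈ N}
        one_mem' := by simp
        mul_mem' := fun {a b} ha hb => by
          have : (a * b)⁻¹ * α (a * b) = b⁻¹ * (a⁻¹ * α a) * b * (b⁻¹ * α b) := by
            rw [map_mul]; group
          show (a * b)⁻¹ * α (a * b) ∈ N
          rw [this]
          exact mul_mem (by simpa using Subgroup.Normal.conj_mem inferInstance _ ha b⁻¹) hb
        inv_mem' := fun {a} ha => by
          have h1 : a⁻¹⁻¹ * α a⁻¹ = a * (a⁻¹ * α a)⁻¹ * a⁻¹ := by rw [map_inv]; group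
          show a⁻¹⁻¹ * α a⁻¹ ∈ N
          rw [h1]
          exact Subgroup.Normal.conj_mem inferInstance _ (inv_mem ha) a }
    let F : Subgroup G :=
      { carrier := {y | α y = y}
        one_mem' := map_one α
        mul_mem' := fun {a b} (ha : α a = a) (hb : α b = b) =>
          show α (a * b) = a * b by rw [map_mul, ha, hb]
        inv_mem' := fun {a} (ha : α a = a) => show α a⁻¹ = a⁻¹ by rw [map_inv, ha] }
    set T := F ⊔ N with hT
    have hTS : T ≤ S := by
      refine sup_le (fun y (hy : α y = y) => ?_) fun n hn => mul_mem (inv_mem hn) (hN n hn)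
      show y⁻¹ * α y ∈ N
      rw [hy, inv_mul_cancel]; exact one_mem N
    -- the right cosets of `S` map onto the right cosets of `T`
    let f : G ⧸ S → G ⧸ T := fun q => (((α q.out) * q.out⁻¹ : G) : G ⧸ T)
    have hf : Function.Surjective f := by
      intro q
      obtain ⟨y, rfl⟩ := QuotientGroup.mk_surjective q
      obtain ⟨c, g, hc, hy⟩ := hccp y⁻¹
      refine ⟨((g⁻¹ : G) : G ⧸ S), ?_⟩
      obtain ⟨s, hs⟩ := QuotientGroup.mk_out_eq_mul S g⁻¹
      have hy' : y = (g⁻¹ * α g)⁻¹ * c⁻¹ := by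
        rw [← inv_inv y, hy, mul_inv_rev]
      show ((α (((g⁻¹ : G) : G ⧸ S)).out * ((((g⁻¹ : G) : G ⧸ S)).out)⁻¹ : G) : G ⧸ T) = (y : G ⧸ T)
      rw [hs, QuotientGroup.eq, hy']
      have e2 : (α (g⁻¹ * (s : G)) * (g⁻¹ * (s : G))⁻¹)⁻¹ * ((g⁻¹ * α g)⁻¹ * c⁻¹) =
          (g⁻¹ * ((s : G) * ((s : G)⁻¹ * α (s : G))⁻¹ * (s : G)⁻¹) * g) * c⁻¹ := by
        rw [map_mul, map_inv]; group
      rw [e2]
      refine mul_mem (Subgroup.mem_sup_right ?_) (inv_mem (Subgroup.mem_sup_left hc))
      have h1 := Subgroup.Normal.conj_mem inferInstance _ (inv_mem s.2) (s : G) (H := N)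
      simpa using Subgroup.Normal.conj_mem inferInstance _ h1 g⁻¹
    have hle : T.index ≤ S.index := Nat.card_le_card_of_surjective f hf
    have hST : T = S := by
      refine Subgroup.eq_of_le_of_card_ge hTS ?_
      have h1 := Subgroup.card_mul_index T
      have h2 := Subgroup.card_mul_index S
      have h3 : 0 < T.index := Nat.pos_of_ne_zero T.index_ne_zero_of_finite
      nlinarith
    have hxT : x ∈ T := hST ▸ hx
    rw [hT, ← SetLike.mem_coe, Subgroup.mul_normal] at hxT
    obtain ⟨c, hc, n, hn, rfl⟩ := hxT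
    exact ⟨c, hc, by rw [inv_mul_cancel_left]; exact hn⟩

end Cfsg.Agent.S4154
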