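import Cfsg.Statements.S4155
import Mathlib
import Cfsg.Agent.Lib.Basics.Cores
import Cfsg.Agent.Lib.Basics.FpfAbelian
-- import your own Cfsg.Agent.* helpers here

set_option autoImplicit false
open Cfsg

namespace Cfsg.Agent.S4155

/-- Let G be a finite group and N a proper non-trivial normal nilpotent subgroup whose order is not a prime power, such that for every x outside N all elements of the coset xN have the same order as x. Then N is the Fitting subgroup of G, and for every prime q every Sylow q-subgroup of G/N is cyclic or generalized quaternion. -/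
theorem result {G : Type*} [Group G] [Finite G] (N : Subgroup G) [N.Normal] (hN1 : N ≠ ⊥) (hN2 : N ≠ ⊤)
    (heq : ∀ x : G, x ∉ N → ∀ n ∈ N, orderOf (x * n) = orderOf x)
    (hnil : Group.IsNilpotent N) (hnpp : ¬ IsPrimePow (Nat.card N)) :
    N = Cfsg.fittingSubgroup G ∧
    ∀ (q : ℕ) [Fact q.Prime] (Q : Sylow q (G ⧸ N)), IsCyclic (Q : Subgroup (G ⧸ N)) ∨ ∃ n : ℕ, Nonempty ((Q : Subgroup (G ⧸ N)) ≃* QuaternionGroup (2 ^ n)) := by

  classical
  have hNn : N.Normal := inferInstance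
  have key : ∀ (q r : ℕ) [Fact q.Prime] [Fact r.Prime], q ≠ r → ∀ u a : G, u ∉ N → (∃ k, orderOf u = q ^ k) →
      a ∈ N → (∃ k, orderOf a = r ^ k) → Commute u a → a = 1 := by
    intro q r _ _ hqr u a hu huk ha hak hc
    obtain ⟨i, hi⟩ := huk
    obtain ⟨j, hj⟩ := hak
    have hco : (orderOf u).Coprime (orderOf a) := by
      rw [hi, hj]; exact Nat.Coprime.pow _ _ ((Nat.coprime_primes Fact.out Fact.out).mpr hqr)
    have h1 := heq u hu a ha
    rw [hc.orderOf_mul_eq_mul_orderOf_of_coprime hco] at h1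
    have h2 : orderOf a = 1 := by
      have h3 := orderOf_pos u
      exact Nat.eq_of_mul_eq_mul_left h3 (by rw [h1, mul_one]) 
    exact orderOf_eq_one_iff.mp h2
  have hexr : ∀ q : ℕ, q.Prime → ∃ r : ℕ, r.Prime ∧ r ≠ q ∧ r ∣ Nat.card N := by
    intro q hq
    by_contra hcon
    push Not at hcon
    apply hnpp
    have h1 := Nat.eq_prime_pow_of_unique_prime_dvd (n := Nat.card N) Nat.card_pos.ne' (p := q)
      (fun {d} hd hd' => by by_contra hne; exact hcon d hd hne hd')
    rw [h1]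
    refine hq.isPrimePow.pow fun h0 => ?_
    rw [h0, pow_zero] at h1
    exact hN1 (Subgroup.eq_bot_of_card_eq _ h1)
  let part : ℕ → Subgroup G := fun r => (Cfsg.pCore r N).map N.subtype
  haveI hpart : ∀ r, (part r).Normal := fun r => ConjAct.normal_of_characteristic_of_normal
  have hsyl : ∀ (q : ℕ) [Fact q.Prime], ∀ H : Subgroup G, IsPGroup q H → H ≤ N → H ≤ part q := by
    intro q _ H hH hHN x hx
    obtain ⟨S, hS⟩ := (hH.comap_subtype (H := H) : IsPGroup q (H.subgroupOf N)).exists_le_sylow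
    haveI : (S : Subgroup N).Normal := Sylow.normal_of_normalizerCondition normalizerCondition_of_isNilpotent S
    exact ⟨⟨x, hHN hx⟩, Basics.le_pCore S.2 (hS hx), rfl⟩
  have hne : ∀ (r : ℕ) [Fact r.Prime], r ∣ Nat.card N → part r ≠ ⊥ := by
    intro r _ hr hb
    obtain ⟨a, ha⟩ := exists_prime_orderOf_dvd_card' r hr
    have h1 := hsyl r (Subgroup.zpowers (a : G)) (IsPGroup.of_card (n := 1) (by rw [Nat.card_zpowers, Subgroup.orderOf_coe, ha, pow_one]))
      (Subgroup.zpowers_le.mpr a.2) (Subgroup.mem_zpowers _)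
    rw [hb, Subgroup.mem_bot] at h1
    rw [← Subgroup.orderOf_coe, h1, orderOf_one] at ha
    exact (Fact.out : r.Prime).one_lt.ne ha
  have hpartp : ∀ (r : ℕ) [Fact r.Prime], IsPGroup r (part r) := fun r _ => (Basics.pCore_isPGroup r).map _
  have hpartN : ∀ r, part r ≤ N := fun r => Subgroup.map_subtype_le _
  refine ⟨le_antisymm (Basics.le_fittingSubgroup hnil) ?_, fun q hq Q => ?_⟩
  · rw [Basics.fittingSubgroup_eq_iSup_pCore]
    refine iSup_le fun q => ?_
    intro u hu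
    by_contra huN
    haveI := Fact.mk q.2
    obtain ⟨r, hr, hrq, hrd⟩ := hexr q q.2
    haveI := Fact.mk hr
    apply hne r hrd
    rw [eq_bot_iff]
    intro a ha
    refine Subgroup.mem_bot.mpr (key q r (Ne.symm hrq) u a huN ?_ (hpartN r ha) ?_ ?_)
    · obtain ⟨k, hk⟩ := IsPGroup.iff_orderOf.mp (Basics.pCore_isPGroup (G := G) (q : ℕ)) ⟨u, hu⟩
      exact ⟨k, by rw [← hk, Subgroup.orderOf_mk]⟩
    · obtain ⟨k, hk⟩ := IsPGroup.iff_orderOf.mp (hpartp r) ⟨a, ha⟩
      exact ⟨k, by rw [← hk, Subgroup.orderOf_mk]⟩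
    · exact Subgroup.commute_of_normal_of_disjoint _ _ inferInstance (hpart r)
        (IsPGroup.disjoint_of_ne q r (Ne.symm hrq) _ _ (Basics.pCore_isPGroup _) (hpartp r)) u a hu ha
  obtain ⟨Q0, rfl⟩ := Sylow.mapSurjective_surjective (f := QuotientGroup.mk' N) (QuotientGroup.mk'_surjective N) q Q
  obtain ⟨r, hr, hrq, hrd⟩ := hexr q hq.out
  haveI := Fact.mk hr
  set M := part q with hM
  set π := QuotientGroup.mk' M with hπ
  set H := (Q0 : Subgroup G).map π with hH
  set K := (part r).map π with hK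
  haveI : K.Normal := (hpart r).map _ (QuotientGroup.mk'_surjective M)
  have hKne : K ≠ ⊥ := by
    intro hb
    rw [hK, Subgroup.map_eq_bot_iff, hπ, QuotientGroup.ker_mk'] at hb
    have hd : Disjoint M (part r) := IsPGroup.disjoint_of_ne q r (Ne.symm hrq) _ _ (hpartp q) (hpartp r)
    exact hne r hrd (disjoint_self.mp (hd.mono_left hb))
  have hfpf : ∀ h ∈ H, h ≠ 1 → K ⊓ Subgroup.centralizer {h} = ⊥ := by
    rintro _ ⟨u, hu, rfl⟩ hu1
    have huN : u ∉ N := fun huN => hu1 ((QuotientGroup.eq_one_iff u).mpr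
      (hsyl q ((Q0 : Subgroup G) ⊓ N) (Q0.2.to_le inf_le_left) inf_le_right ⟨hu, huN⟩))
    rw [eq_bot_iff]
    rintro _ ⟨⟨a, ha, rfl⟩, hc⟩
    have hc' : π a * π u = π u * π a := Subgroup.mem_centralizer_singleton_iff.mp hc
    rw [← map_mul, ← map_mul] at hc'
    have hc1 := QuotientGroup.eq.mp hc'
    have hc2 : (a * u)⁻¹ * (u * a) ∈ M := hc1
    have hc3 : (a * u)⁻¹ * (u * a) ∈ part r := by
      rw [show (a * u)⁻¹ * (u * a) = (u⁻¹ * a⁻¹ * u) * a by group]
      exact mul_mem (by simpa using (hpart r).conj_mem _ (inv_mem ha) u⁻¹) ha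
    have hd : Disjoint M (part r) := IsPGroup.disjoint_of_ne q r (Ne.symm hrq) _ _ (hpartp q) (hpartp r)
    have hc4 := inv_mul_eq_one.mp (Subgroup.disjoint_def.mp hd hc2 hc3)
    obtain ⟨k, hk⟩ := IsPGroup.iff_orderOf.mp Q0.2 ⟨u, hu⟩
    obtain ⟨j, hj⟩ := IsPGroup.iff_orderOf.mp (hpartp r) ⟨a, ha⟩
    rw [Subgroup.orderOf_mk] at hk hj
    rw [key q r (Ne.symm hrq) u a huN ⟨k, hk⟩ (hpartN r ha) ⟨j, hj⟩ hc4.symm, map_one]
    exact one_mem _
  let f1 := (QuotientGroup.mk' N).comp (Q0 : Subgroup G).subtype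
  let f2 := π.comp (Q0 : Subgroup G).subtype
  have hker : f1.ker = f2.ker := by
    ext ⟨u, hu⟩
    simp only [MonoidHom.mem_ker, f1, f2, hπ, MonoidHom.comp_apply, Subgroup.subtype_apply, QuotientGroup.mk'_apply, QuotientGroup.eq_one_iff]
    exact ⟨fun huN => hsyl q ((Q0 : Subgroup G) ⊓ N) (Q0.2.to_le inf_le_left) inf_le_right ⟨hu, huN⟩, fun h => hpartN q h⟩
  have e1 : f1.range = (Q0 : Subgroup G).map (QuotientGroup.mk' N) := by rw [MonoidHom.range_comp, Subgroup.range_subtype]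
  have e2 : f2.range = H := by rw [MonoidHom.range_comp, Subgroup.range_subtype]
  let e : ((Q0 : Subgroup G).map (QuotientGroup.mk' N)) ≃* H :=
    (MulEquiv.subgroupCongr e1).symm.trans ((QuotientGroup.quotientKerEquivRange f1).symm.trans
      ((QuotientGroup.quotientMulEquivOfEq hker).trans ((QuotientGroup.quotientKerEquivRange f2).trans (MulEquiv.subgroupCongr e2))))
  have hHp : IsPGroup q H := Q0.2.map π
  obtain ⟨S, -⟩ := (hHp.to_subgroup ⊤).exists_le_sylow
  have hS : (S : Subgroup H) = ⊤ := (S.3 (hHp.to_subgroup ⊤) le_top).symm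
  let eS : (S : Subgroup H) ≃* H := (MulEquiv.subgroupCongr hS).trans Subgroup.topEquiv
  rcases Basics.fpf_sylow_cyclic_or_quaternion K H hKne hfpf q S with hc | ⟨-, n, ⟨en⟩⟩
  · exact Or.inl ((eS.trans e.symm).isCyclic.mp hc)
  · exact Or.inr ⟨n, ⟨(e.trans eS.symm).trans en⟩⟩

end Cfsg.Agent.S4155
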