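import Cfsg.Statements.S4156
import Mathlib
-- import your own Cfsg.Agent.* helpers here

set_option autoImplicit false
open Cfsg

namespace Cfsg.Agent.S4156

/-- Let n ≥ 5 and F a finite field. Then the projective special linear group PSL_n(F) contains a subgroup isomorphic to the alternating group of degree n + 1. -/
theorem result (n : ℕ) (hn : 5 ≤ n) (F : Type*) [Field F] [Finite F] :
    ∃ f : alternatingGroup (Fin (n + 1)) →* Matrix.ProjectiveSpecialLinearGroup (Fin n) F, Function.Injective f := by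

  classical
  set A := alternatingGroup (Fin (n + 1))
  haveI hsimple : IsSimpleGroup A := alternatingGroup.isSimpleGroup (by simp; omega)
  have hnc : ¬ ∀ a b : A, a * b = b * a := by
    intro hall
    obtain ⟨i, j, k, hij, hik, hjk⟩ : ∃ i j k : Fin (n + 1), i ≠ j ∧ i ≠ k ∧ j ≠ k :=
      ⟨⟨0, by omega⟩, ⟨1, by omega⟩, ⟨2, by omega⟩, by simp, by simp, by simp⟩
    obtain ⟨l, m, hl, hm⟩ : ∃ l m : Fin (n + 1), (l ≠ i ∧ l ≠ j ∧ l ≠ k) ∧ (m ≠ i ∧ m ≠ j ∧ m ≠ k ∧ m ≠ l) := by
      have h1 : (({i, j, k} : Finset (Fin (n + 1)))ᶜ).card ≥ 2 := by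
        rw [Finset.card_compl, Fintype.card_fin]
        have := Finset.card_le_three (a := i) (b := j) (c := k)
        omega
      obtain ⟨l, hl, m, hm, hlm⟩ := Finset.one_lt_card.mp h1
      simp at hl hm
      exact ⟨l, m, hl, hm.1, hm.2.1, hm.2.2, Ne.symm hlm⟩
    have m1 : Equiv.swap i j * Equiv.swap i k ∈ A := by
      rw [Equiv.Perm.mem_alternatingGroup, map_mul, Equiv.Perm.sign_swap hij, Equiv.Perm.sign_swap hik]; rfl
    have m2 : Equiv.swap i l * Equiv.swap i m ∈ A := by
      rw [Equiv.Perm.mem_alternatingGroup, map_mul, Equiv.Perm.sign_swap (Ne.symm hl.1), Equiv.Perm.sign_swap (Ne.symm hm.1)]; rfl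
    have h := congrArg (fun s : A => (s : Equiv.Perm (Fin (n + 1))) i) (hall ⟨_, m1⟩ ⟨_, m2⟩)
    simp [Equiv.swap_apply_def, hij.symm, hik.symm, hjk, hjk.symm, hl.1, hl.2.1, hl.2.2, hl.2.2.symm, hm.1, hm.2.1, hm.2.2.1, hm.2.2.1.symm, hm.2.2.2, hm.2.1.symm, hl.2.1.symm] at h
  -- the sum-zero module
  let s : (Fin (n + 1) → F) →ₗ[F] F := ∑ i, LinearMap.proj i
  have hs : ∀ f : Fin (n + 1) → F, s f = ∑ i, f i := fun f => by simp [s]
  have hrank : Module.finrank F (LinearMap.ker s) = n := by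
    have h1 := LinearMap.finrank_range_add_finrank_ker s
    have h2 : LinearMap.range s = ⊤ := LinearMap.range_eq_top.mpr fun c => ⟨Pi.single 0 c, by rw [hs]; simp⟩
    rw [h2, finrank_top, Module.finrank_self, Module.finrank_fintype_fun_eq_card, Fintype.card_fin] at h1
    omega
  let b : Module.Basis (Fin n) F (LinearMap.ker s) := Module.finBasisOfFinrankEq F (LinearMap.ker s) hrank
  let act : A →* Module.End F (LinearMap.ker s) :=
    { toFun := fun σ =>
        { toFun := fun f => ⟨fun i => (f : Fin (n + 1) → F) ((σ : Equiv.Perm (Fin (n + 1))).symm i), by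
            rw [LinearMap.mem_ker, hs, Equiv.sum_comp (σ : Equiv.Perm (Fin (n + 1))).symm (f : Fin (n + 1) → F), ← hs]
            exact f.2⟩
          map_add' := fun f g => rfl
          map_smul' := fun c f => rfl }
      map_one' := rfl
      map_mul' := fun σ τ => rfl }
  let M : A →* Matrix (Fin n) (Fin n) F := (LinearMap.toMatrixAlgEquiv b : _ →* _).comp act
  have hdet : ∀ σ : A, (M σ).det = 1 := by
    let d : A →* Fˣ := ((Matrix.detMonoidHom : Matrix (Fin n) (Fin n) F →* F).comp M).toHomUnits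
    rcases (d.normal_ker).eq_bot_or_eq_top with h | h
    · exfalso
      refine hnc fun a c => (MonoidHom.ker_eq_bot_iff d).mp h ?_
      rw [map_mul, map_mul, mul_comm]
    · intro σ
      have := MonoidHom.mem_ker.mp (h ▸ Subgroup.mem_top σ : σ ∈ d.ker)
      exact congrArg Units.val this
  let ρ : A →* Matrix.SpecialLinearGroup (Fin n) F :=
    { toFun := fun σ => ⟨M σ, hdet σ⟩
      map_one' := Subtype.ext (map_one M)
      map_mul' := fun σ τ => Subtype.ext (map_mul M σ τ) }
  have hinj : Function.Injective ρ := by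
    rw [← MonoidHom.ker_eq_bot_iff, eq_bot_iff]
    intro σ hσ
    have h1 : act σ = 1 := by
      apply (LinearMap.toMatrixAlgEquiv b).injective
      rw [map_one]
      have h0 : ρ σ = 1 := MonoidHom.mem_ker.mp hσ
      exact congrArg Subtype.val h0
    refine Subgroup.mem_bot.mpr (Subtype.ext (Equiv.ext fun i => ?_))
    by_contra hi
    replace hi : (σ : Equiv.Perm (Fin (n + 1))) i ≠ i := hi
    obtain ⟨j, hj⟩ : ∃ j, j ∉ ({i, (σ : Equiv.Perm (Fin (n + 1))) i} : Finset (Fin (n + 1))) := by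
      by_contra hcon
      push Not at hcon
      have h2 := Finset.card_le_card (show (Finset.univ : Finset (Fin (n + 1))) ⊆ {i, (σ : Equiv.Perm (Fin (n + 1))) i} from fun x _ => hcon x)
      rw [Finset.card_univ, Fintype.card_fin] at h2
      have := Finset.card_le_two (a := i) (b := (σ : Equiv.Perm (Fin (n + 1))) i)
      omega
    simp at hj
    let f : LinearMap.ker s := ⟨Pi.single i 1 - Pi.single j 1, by rw [LinearMap.mem_ker, hs]; simp⟩
    have h2 : (f : Fin (n + 1) → F) ((σ : Equiv.Perm (Fin (n + 1))).symm ((σ : Equiv.Perm (Fin (n + 1))) i))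
        = (f : Fin (n + 1) → F) ((σ : Equiv.Perm (Fin (n + 1))) i) :=
      congrArg (fun g : LinearMap.ker s => (g : Fin (n + 1) → F) ((σ : Equiv.Perm (Fin (n + 1))) i)) (LinearMap.congr_fun h1 f)
    simp [f, Pi.single_apply, hi, Ne.symm hj.1, hj.1, Ne.symm hj.2] at h2
  refine ⟨(QuotientGroup.mk' _).comp ρ, ?_⟩
  rw [← MonoidHom.ker_eq_bot_iff]
  refine ((MonoidHom.normal_ker _).eq_bot_or_eq_top).resolve_right fun h => hnc fun a c => hinj ?_
  have ha : a ∈ ((QuotientGroup.mk' _).comp ρ).ker := h ▸ Subgroup.mem_top a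
  rw [MonoidHom.mem_ker, MonoidHom.comp_apply, QuotientGroup.mk'_apply, QuotientGroup.eq_one_iff] at ha
  rw [map_mul, map_mul]
  exact (Subgroup.mem_center_iff.mp ha (ρ c)).symm

end Cfsg.Agent.S4156
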