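import Cfsg.Statements.S4157
import Cfsg.Agent.Lib.FGB.Kulakoff
-- import your own Cfsg.Agent.* helpers here

set_option autoImplicit false
open Cfsg

namespace Cfsg.Agent.S4157

/-- Let G be a finite p-group of order p^m that is not cyclic and, when p = 2, not of maximal class (nilpotency class m − 1). Then for every 1 ≤ k < m the number of subgroups of G of order p^k is congruent to 1 + p modulo p². -/
theorem result {G : Type*} [Group G] [Finite G] {p : ℕ} [Fact p.Prime] (m : ℕ)
    (hG : Nat.card G = p ^ m) (hnc : ¬ IsCyclic G) (h2 : p = 2 → Group.nilpotencyClass G ≠ m - 1)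
    (k : ℕ) (hk1 : 1 ≤ k) (hk2 : k < m) :
    Nat.card {H : Subgroup G // Nat.card H = p ^ k} ≡ 1 + p [MOD p ^ 2] := by
  classical
  have h := FGB.kulakoff (p := p) m G hG hnc k hk1 hk2
  rw [if_neg ?_] at h
  · rw [← ZMod.natCast_eq_natCast_iff, Nat.cast_add, Nat.cast_one]
    exact h
  rintro ⟨hkm, h4⟩
  have hP : IsPGroup p G := IsPGroup.of_card hG
  obtain ⟨e, he⟩ := hP.index (commutator G)
  rw [h4] at he
  obtain rfl : p = 2 := by
    have hd : p ∣ 2 ^ 2 := by
      rcases e with _ | e
      · simp at he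
      · rw [show (2 : ℕ) ^ 2 = 4 from rfl, he]; exact dvd_pow_self p e.succ_ne_zero
    exact (Nat.prime_dvd_prime_iff_eq Fact.out Nat.prime_two).mp ((Fact.out : p.Prime).dvd_of_dvd_pow hd)
  have hna : ¬ IsMulCommutative G := by
    intro hc
    have h1 : commutator G = ⊥ := by
      rw [_root_.commutator_def, eq_bot_iff, Subgroup.commutator_le]
      exact fun a _ b _ => Subgroup.mem_bot.mpr
        (commutatorElement_eq_one_iff_mul_comm.mpr (hc.is_comm.comm a b))
    rw [h1, Subgroup.index_bot, hG] at h4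
    have h2 : 2 ^ 3 ≤ 2 ^ m := Nat.pow_le_pow_right two_pos (by omega)
    omega
  obtain ⟨D⟩ := Invol.MaxClassTwo.exists_mcData hP hna h4
  have hm : 2 ^ m = 2 ^ (D.m + 1) := hG.symm.trans D.card
  have := Nat.pow_right_injective le_rfl hm
  exact h2 rfl (by rw [D.nilpotencyClass_eq]; omega)

end Cfsg.Agent.S4157
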