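import Cfsg.Statements.S4163
import Mathlib
import Cfsg.Agent.Lib.FGB.Basic
import Cfsg.Agent.Lib.Basics.Tools
-- import your own Cfsg.Agent.* helpers here

set_option autoImplicit false
open Cfsg

namespace Cfsg.Agent.S4163

/-- Let G be a finite group with a normal abelian subgroup A satisfying C_G(A) = A. Suppose some conjugacy class of G has size greater than 1, let m be the smallest such size, and let M be the subgroup generated by the elements whose class has size 1 or m. Then M is nilpotent of class at most 3. -/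
theorem result {G : Type*} [Group G] [Finite G]
    (A : Subgroup G) [A.Normal] (hA : IsMulCommutative A) (hCA : Subgroup.centralizer (A : Set G) = A)
    (m : ℕ) (hm1 : 1 < m) (hm : ∃ x : G, (Subgroup.centralizer ({x} : Set G)).index = m) (hmin : ∀ x : G, 1 < (Subgroup.centralizer ({x} : Set G)).index → m ≤ (Subgroup.centralizer ({x} : Set G)).index) :
    Subgroup.upperCentralSeries ↥(Subgroup.closure {x : G | (Subgroup.centralizer ({x} : Set G)).index = 1 ∨ (Subgroup.centralizer ({x} : Set G)).index = m}) 3 = ⊤ := by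
  classical
  have hAn : A.Normal := inferInstance
  have hcomm : ∀ a ∈ A, ∀ b ∈ A, a * b = b * a := fun a ha b hb =>
    congrArg Subtype.val (hA.is_comm.comm (⟨a, ha⟩ : A) ⟨b, hb⟩)
  have key0 : ∀ x : G, ((Subgroup.centralizer ({x} : Set G)).index = 1 ∨ (Subgroup.centralizer ({x} : Set G)).index = m) →
      ∀ a ∈ A, a * x * a⁻¹ * x⁻¹ ∈ Subgroup.center G := by
    intro x hxS a0 ha0
    by_cases hx : x ∈ Subgroup.center G
    · rw [Subgroup.mem_center_iff.mp hx a0, mul_inv_cancel_right, mul_inv_cancel]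
      exact one_mem _
    have hmemA : ∀ a ∈ A, a * x * a⁻¹ * x⁻¹ ∈ A := fun a ha => by
      rw [show a * x * a⁻¹ * x⁻¹ = a * (x * a⁻¹ * x⁻¹) by group]
      exact mul_mem ha (hAn.conj_mem _ (inv_mem ha) x)
    let ψ : A →* A := MonoidHom.mk' (fun a => ⟨a * x * (a : G)⁻¹ * x⁻¹, hmemA a a.2⟩) (fun a b => Subtype.ext (by
      show (a : G) * b * x * ((a : G) * b)⁻¹ * x⁻¹ = (a * x * (a : G)⁻¹ * x⁻¹) * (b * x * (b : G)⁻¹ * x⁻¹)
      rw [show (a : G) * b * x * ((a : G) * b)⁻¹ * x⁻¹ = (a : G) * ((b * x * (b : G)⁻¹ * x⁻¹) * (x * (a : G)⁻¹ * x⁻¹)) by group,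
        hcomm _ (hmemA b b.2) _ (hAn.conj_mem _ (inv_mem a.2) x)]
      group))
    by_contra hy
    set y := a0 * x * a0⁻¹ * x⁻¹ with hy'
    set C := Subgroup.centralizer ({x} : Set G) with hC
    set D := Subgroup.centralizer ({y} : Set G) with hD
    have hcard : Nat.card D ≤ Nat.card C := by
      have h1 := D.card_mul_index
      have h2 := C.card_mul_index
      have hy1 : D.index ≠ 1 := fun e => hy (FGB.centralizer_singleton_eq_top_iff.mp (Subgroup.index_eq_one.mp e))
      have hy2 := hmin y (by have := Subgroup.index_ne_zero_of_finite (H := D); rw [hD] at *; omega)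
      rw [hC, hxS.resolve_left fun e => hx (FGB.centralizer_singleton_eq_top_iff.mp (Subgroup.index_eq_one.mp e))] at h2
      by_contra hlt
      have h3 := Nat.mul_lt_mul_of_lt_of_le (not_le.mp hlt) hy2 (by omega)
      rw [← hD, h1, hC, h2] at h3
      omega
    have hker : ψ.ker = C.subgroupOf A := by
      ext a
      rw [MonoidHom.mem_ker, Subgroup.mem_subgroupOf, hC, Subgroup.mem_centralizer_singleton_iff, Subtype.ext_iff]
      show (a : G) * x * (a : G)⁻¹ * x⁻¹ = 1 ↔ _
      rw [mul_inv_eq_one, mul_inv_eq_iff_eq_mul]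
    have hR : Nat.card ψ.range = C.relIndex A := by rw [← Subgroup.index_ker, hker]; rfl
    -- the orbit of `y` under `C`
    have horb : D.relIndex C < Nat.card ψ.range := by
      have hmemR : ∀ c : C, (c : G) * y * (c : G)⁻¹ ∈ A ∧ ∃ b : A, ((ψ b : A) : G) = (c : G) * y * (c : G)⁻¹ := by
        intro c
        refine ⟨hAn.conj_mem _ (hmemA a0 ha0) c, ⟨(c : G) * a0 * (c : G)⁻¹, hAn.conj_mem _ ha0 c⟩, ?_⟩
        have hc : (c : G) * x = x * c := Subgroup.mem_centralizer_singleton_iff.mp c.2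
        show (c : G) * a0 * (c : G)⁻¹ * x * ((c : G) * a0 * (c : G)⁻¹)⁻¹ * x⁻¹ = _
        have e1 : (c : G)⁻¹ * x = x * (c : G)⁻¹ := by
          calc (c : G)⁻¹ * x = (c : G)⁻¹ * (x * c) * (c : G)⁻¹ := by group
            _ = x * (c : G)⁻¹ := by rw [← hc]; group
        calc (c : G) * a0 * (c : G)⁻¹ * x * ((c : G) * a0 * (c : G)⁻¹)⁻¹ * x⁻¹
            = (c : G) * a0 * ((c : G)⁻¹ * x) * ((c : G) * a0 * (c : G)⁻¹)⁻¹ * x⁻¹ := by group
          _ = (c : G) * a0 * x * a0⁻¹ * ((c : G)⁻¹ * x⁻¹) := by rw [e1]; group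
          _ = (c : G) * a0 * x * a0⁻¹ * (x * c)⁻¹ := by group
          _ = _ := by rw [← hc, hy']; group
      let f : C ⧸ D.subgroupOf C → ψ.range := Quotient.lift
        (fun c : C => (⟨⟨(c : G) * y * (c : G)⁻¹, (hmemR c).1⟩, (hmemR c).2.elim fun b hb => ⟨b, Subtype.ext hb⟩⟩ : ψ.range))
        (fun c d hcd => by
          have h1 : ((c : G)⁻¹ * d) ∈ D := Subgroup.mem_subgroupOf.mp ((QuotientGroup.leftRel_apply (s := D.subgroupOf C)).mp hcd)
          have h2 := Subgroup.mem_centralizer_singleton_iff.mp h1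
          refine Subtype.ext (Subtype.ext ?_)
          show (c : G) * y * (c : G)⁻¹ = (d : G) * y * (d : G)⁻¹
          calc (c : G) * y * (c : G)⁻¹ = (c : G) * (y * ((c : G)⁻¹ * d)) * (d : G)⁻¹ := by group
            _ = (c : G) * (((c : G)⁻¹ * d) * y) * (d : G)⁻¹ := by rw [h2]
            _ = _ := by group)
      have hinj : Function.Injective f := by
        intro q r
        refine Quotient.inductionOn₂ q r fun c d hcd => ?_
        have h1 : (c : G) * y * (c : G)⁻¹ = (d : G) * y * (d : G)⁻¹ := congrArg (fun z : ψ.range => ((z : A) : G)) hcd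
        refine Quotient.sound (QuotientGroup.leftRel_apply.mpr ?_)
        show (c : G)⁻¹ * d ∈ D
        rw [hD, Subgroup.mem_centralizer_singleton_iff]
        calc (c : G)⁻¹ * d * y = (c : G)⁻¹ * ((d : G) * y * (d : G)⁻¹) * d := by group
          _ = y * ((c : G)⁻¹ * d) := by rw [← h1]; group
      have hns : ¬ Function.Surjective f := by
        intro hs
        obtain ⟨q, hq⟩ := hs 1
        revert hq
        refine Quotient.inductionOn q fun c hq => ?_
        have h1 : (c : G) * y * (c : G)⁻¹ = 1 := congrArg (fun z : ψ.range => ((z : A) : G)) hq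
        exact hy (by rw [conj_eq_one_iff.mp h1]; exact one_mem _)
      show Nat.card (C ⧸ D.subgroupOf C) < _
      refine lt_of_le_of_ne (Nat.card_le_card_of_injective f hinj) fun e => hns ?_
      exact ((Nat.bijective_iff_injective_and_card f).mpr ⟨hinj, e⟩).2
    -- too many elements centralize `y`
    have hbig : C.relIndex A * Nat.card (C ⊓ D : Subgroup G) ≤ Nat.card D := by
      show Nat.card (A ⧸ C.subgroupOf A) * _ ≤ _
      rw [← Nat.card_prod]
      have hAD : A ≤ D := fun b hb => Subgroup.mem_centralizer_singleton_iff.mpr (hcomm b hb y (hmemA a0 ha0))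
      refine Nat.card_le_card_of_injective (fun z => (⟨(z.1.out : A) * (z.2 : G), mul_mem (hAD z.1.out.2) z.2.2.2⟩ : D)) ?_
      rintro ⟨q, c⟩ ⟨r, d⟩ heq
      have h1 : (q.out : G) * c = (r.out : G) * d := congrArg Subtype.val heq
      have hqr : q = r := by
        rw [← QuotientGroup.out_eq' q, ← QuotientGroup.out_eq' r, QuotientGroup.eq]
        show (q.out : G)⁻¹ * (r.out : G) ∈ C
        rw [show (q.out : G)⁻¹ * (r.out : G) = c * (d : G)⁻¹ by
          calc (q.out : G)⁻¹ * (r.out : G) = (q.out : G)⁻¹ * ((r.out : G) * d) * (d : G)⁻¹ := by group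
            _ = _ := by rw [← h1]; group]
        exact mul_mem c.2.1 (inv_mem d.2.1)
      subst hqr
      rw [Subtype.ext (mul_left_cancel h1) (a1 := c) (a2 := d)]
    have hC' : Nat.card C = D.relIndex C * Nat.card (C ⊓ D : Subgroup G) := by
      rw [← Subgroup.inf_relIndex_left, mul_comm, ← Basics.card_subgroupOf (show C ⊓ D ≤ C from inf_le_left)]
      exact (((C ⊓ D).subgroupOf C).card_mul_index).symm
    replace hbig := hbig.trans hcard
    rw [hC', ← hR] at hbig
    exact absurd (Nat.le_of_mul_le_mul_right hbig Nat.card_pos) (not_le.mpr horb)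
  set S := {x : G | (Subgroup.centralizer ({x} : Set G)).index = 1 ∨ (Subgroup.centralizer ({x} : Set G)).index = m} with hS
  let U : Subgroup G :=
    { carrier := {x | ∀ a ∈ A, a * x * a⁻¹ * x⁻¹ ∈ Subgroup.center G}
      one_mem' := fun a _ => by simp [one_mem]
      mul_mem' := fun {x y} hx hy a ha => by
        have e : a * (x * y) * a⁻¹ * (x * y)⁻¹ = (a * x * a⁻¹ * x⁻¹) * (x * (a * y * a⁻¹ * y⁻¹) * x⁻¹) := by group
        rw [e]
        exact mul_mem (hx a ha) (Subgroup.Normal.conj_mem inferInstance _ (hy a ha) x)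
      inv_mem' := fun {x} hx a ha => by
        have e : a * x⁻¹ * a⁻¹ * x⁻¹⁻¹ = x⁻¹ * (a * x * a⁻¹ * x⁻¹)⁻¹ * x := by group
        rw [e]
        simpa using Subgroup.Normal.conj_mem inferInstance _ (inv_mem (hx a ha)) x⁻¹ }
  set M := Subgroup.closure S with hM
  have hMU : M ≤ U := (Subgroup.closure_le U).mpr fun x hx => key0 x hx
  have key : ∀ x ∈ M, ∀ a ∈ A, a * x * a⁻¹ * x⁻¹ ∈ Subgroup.center G := fun x hx => hMU hx
  have hA2 : ∀ a : M, (a : G) ∈ A → a ∈ Subgroup.upperCentralSeries ↥M 2 := fun a ha => by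
    refine Subgroup.mem_upperCentralSeries_succ_iff.mpr fun y => ?_
    rw [Subgroup.upperCentralSeries_one, Subgroup.mem_center_iff]
    intro w
    refine Subtype.ext ?_
    exact Subgroup.mem_center_iff.mp (key y y.2 a ha) w
  rw [eq_top_iff]
  intro g _
  refine Subgroup.mem_upperCentralSeries_succ_iff.mpr fun w => hA2 _ ?_
  show (g : G) * w * (g : G)⁻¹ * (w : G)⁻¹ ∈ A
  rw [← hCA, Subgroup.mem_centralizer_iff]
  intro a ha
  have conj : ∀ u ∈ M, ∃ z, (∀ v : G, v * z = z * v) ∧ u * a * u⁻¹ = z * a := fun u hu =>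
    ⟨(a * u * a⁻¹ * u⁻¹)⁻¹, Subgroup.mem_center_iff.mp (inv_mem (key u hu a ha)), by group⟩
  have hfix : ∀ u ∈ M, ∀ v ∈ M, u * v * a * (u * v)⁻¹ = v * u * a * (v * u)⁻¹ := by
    intro u hu v hv
    obtain ⟨b, hb, hbu⟩ := conj u hu
    obtain ⟨c, hc, hcv⟩ := conj v hv
    calc u * v * a * (u * v)⁻¹ = u * (v * a * v⁻¹) * u⁻¹ := by group
      _ = (u * c) * a * u⁻¹ := by rw [hcv]; group
      _ = c * (u * a * u⁻¹) := by rw [hc u]; group
      _ = (c * b) * a := by rw [hbu, mul_assoc]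
      _ = (b * c) * a := by rw [hb c]
      _ = b * (v * a * v⁻¹) := by rw [hcv, mul_assoc]
      _ = (b * v) * a * v⁻¹ := by group
      _ = (v * b) * a * v⁻¹ := by rw [hb v]
      _ = v * (u * a * u⁻¹) * v⁻¹ := by rw [hbu]; group
      _ = _ := by group
  have h1 := hfix (g : G)⁻¹ (inv_mem g.2) (w : G)⁻¹ (inv_mem w.2)
  calc a * ((g : G) * w * (g : G)⁻¹ * (w : G)⁻¹)
      = ((g : G) * w) * ((w : G)⁻¹ * (g : G)⁻¹ * a * ((w : G)⁻¹ * (g : G)⁻¹)⁻¹) * ((g : G) * w)⁻¹ * ((g : G) * w * (g : G)⁻¹ * (w : G)⁻¹) := by group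
    _ = ((g : G) * w) * ((g : G)⁻¹ * (w : G)⁻¹ * a * ((g : G)⁻¹ * (w : G)⁻¹)⁻¹) * ((g : G) * w)⁻¹ * ((g : G) * w * (g : G)⁻¹ * (w : G)⁻¹) := by rw [h1]
    _ = (g : G) * w * (g : G)⁻¹ * (w : G)⁻¹ * a := by group

end Cfsg.Agent.S4163
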