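import Cfsg.Statements.S4172
import Mathlib
import Cfsg.Agent.Lib.Transfer.Tate
import Cfsg.Agent.Lib.Basics.Frattini
import Cfsg.Agent.Lib.Basics.Cores
import Cfsg.Agent.Lib.Components.FStar
import Cfsg.Agent.Lib.Components.FStar2
import Cfsg.Agent.Lib.Components.PPrimeCore
-- import your own Cfsg.Agent.* helpers here

set_option autoImplicit false
open Cfsg
open scoped commutatorElement

namespace Cfsg.Agent.S4172

/-- Let p be a prime and G a finite group with a non-commutative Sylow p-subgroup P whose Frattini subgroup has index p² in P (P is generated by two elements). Suppose G has no nontrivial normal subgroup of order prime to p and the Frattini subgroup of P contains no nontrivial normal subgroup of G. Then the generalized Fitting subgroup F*(G) is the unique minimal normal subgroup of G, the image of P in G/F*(G) is cyclic, and if F*(G) is not commutative then P permutes the components of G transitively by conjugation. -/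
theorem result {G : Type*} [Group G] [Finite G] (p : ℕ) [Fact p.Prime] (P : Sylow p G) (hna : ¬ IsMulCommutative (P : Subgroup G)) (hgen : (frattini ↥(P : Subgroup G)).index = p ^ 2) (hcore : Cfsg.pPrimeCore p G = ⊥) (hfrat : ((frattini ↥(P : Subgroup G)).map (P : Subgroup G).subtype).normalCore = ⊥) [hFn : (Cfsg.generalizedFittingSubgroup G).Normal] :
    (Cfsg.generalizedFittingSubgroup G ≠ ⊥ ∧ ∀ K : Subgroup G, K.Normal → K ≠ ⊥ → Cfsg.generalizedFittingSubgroup G ≤ K) ∧
      IsCyclic ↥((P : Subgroup G).map (QuotientGroup.mk' (Cfsg.generalizedFittingSubgroup G))) ∧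
      (¬ IsMulCommutative (Cfsg.generalizedFittingSubgroup G) → ∀ K L : Subgroup G, Cfsg.IsComponent K → Cfsg.IsComponent L → ∃ x ∈ (P : Subgroup G), L = K.map (MulAut.conj x).toMonoidHom) := by

  classical
  have hp : p.Prime := Fact.out
  set Φ := (frattini ↥(P : Subgroup G)).map (P : Subgroup G).subtype with hΦ
  have hΦn : ∀ K : Subgroup G, K.Normal → K ≤ Φ → K = ⊥ := fun K hK hle => by
    haveI := hK
    exact le_bot_iff.mp (hfrat ▸ Subgroup.normal_le_normalCore.mpr hle)
  have hcop : ∀ K : Subgroup G, K.Normal → (Nat.card K).Coprime p → K = ⊥ := fun K hK hc =>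
    le_bot_iff.mp (hcore ▸ le_sSup ⟨hK, hc⟩)
  haveI hPnil : Group.IsNilpotent ↥(P : Subgroup G) := P.2.isNilpotent
  have hcommΦ : ∀ a ∈ (P : Subgroup G), ∀ b ∈ (P : Subgroup G), ⁅a, b⁆ ∈ Φ := fun a ha b hb =>
    ⟨⁅⟨a, ha⟩, ⟨b, hb⟩⁆, Basics.commutator_le_frattini (Subgroup.commutator_mem_commutator (Subgroup.mem_top _) (Subgroup.mem_top _)), map_commutatorElement _ _ _⟩
  -- (A) Tate
  have hA : ∀ N : Subgroup G, N.Normal → N ≠ ⊥ → ¬ N ⊓ (P : Subgroup G) ≤ Φ := by
    intro N hN hne hle
    haveI := hN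
    obtain ⟨S, K, hK, hKS⟩ := Transfer.hasNormalPComplement_of_le_frattini P N hle
    haveI := hK
    have hKc : (Nat.card K).Coprime p := by
      rw [← hKS.index_eq_card, Nat.coprime_comm, hp.coprime_iff_not_dvd]
      exact S.not_dvd_index
    haveI hKchar : K.Characteristic := Subgroup.characteristic_iff_map_eq.mpr fun e => by
      have hc2 : (Nat.card (K.map e.toMonoidHom)).Coprime K.index := by
        rw [Subgroup.card_map_of_injective e.injective, hKS.symm.index_eq_card]
        obtain ⟨j, hj⟩ := IsPGroup.iff_card.mp S.2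
        rw [hj]
        exact hKc.pow_right j
      refine Subgroup.eq_of_le_of_card_ge ?_ (Subgroup.card_map_of_injective e.injective).ge
      rintro _ ⟨k, hk, rfl⟩
      obtain ⟨i, hi⟩ := exists_pow_eq_self_of_coprime (x := e k) (n := K.index) (hc2.symm.coprime_dvd_right (by
        rw [← Nat.card_zpowers]; exact Subgroup.card_dvd_of_le (Subgroup.zpowers_le.mpr ⟨k, hk, rfl⟩)))
      show e k ∈ K
      rw [← hi]
      exact pow_mem (Subgroup.pow_index_mem K _) i
    have hKb : K.map N.subtype = ⊥ := hcop _ ConjAct.normal_of_characteristic_of_normal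
      (by rw [Subgroup.card_map_of_injective N.subtype_injective]; exact hKc)
    rw [Subgroup.map_eq_bot_iff_of_injective _ N.subtype_injective] at hKb
    have hNp : IsPGroup p N := by
      obtain ⟨j, hj⟩ := IsPGroup.iff_card.mp S.2
      refine IsPGroup.of_card (n := j) ?_
      rw [← hj, ← hKS.card_mul, hKb, Subgroup.card_bot, one_mul]
    have hNP : N ≤ (P : Subgroup G) := IsPGroup.le_sylow_of_normal hNp P
    exact hne (hΦn N hN (le_trans (le_inf le_rfl hNP) hle))
  -- (B) cyclic quotient
  have hB : ∀ N : Subgroup G, (P : Subgroup G) ≤ Subgroup.normalizer (N : Set G) → ¬ N ⊓ (P : Subgroup G) ≤ Φ →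
      ∃ x ∈ (P : Subgroup G), (P : Subgroup G) ≤ (N ⊓ (P : Subgroup G)) ⊔ Subgroup.zpowers x := by
    intro N hPN hN
    set Q := N.subgroupOf (P : Subgroup G) with hQ
    haveI : Q.Normal := ⟨fun u hu v => (Subgroup.mem_normalizer_iff.mp (hPN v.2) (u : G)).mp hu⟩
    haveI : (frattini ↥(P : Subgroup G)).Normal := inferInstance
    have hQne : ¬ Q ≤ frattini ↥(P : Subgroup G) := fun h => hN fun u hu => ⟨⟨u, hu.2⟩, h hu.1, rfl⟩
    suffices hx : ∃ x : ↥(P : Subgroup G), Q ⊔ Subgroup.zpowers x = ⊤ by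
      obtain ⟨x, hx⟩ := hx
      refine ⟨x, x.2, fun u hu => ?_⟩
      obtain ⟨a, ha, b, ⟨i, hi⟩, hab⟩ := Subgroup.mem_sup_of_normal_left.mp (hx ▸ Subgroup.mem_top (⟨u, hu⟩ : ↥(P : Subgroup G)))
      have hu' : u = (a : G) * (x : G) ^ i := by
        have hi' : x ^ i = b := hi
        rw [← Subgroup.coe_zpow, hi']; exact congrArg Subtype.val hab.symm
      rw [hu']
      exact Subgroup.mul_mem_sup ⟨ha, a.2⟩ (Subgroup.zpow_mem _ (Subgroup.mem_zpowers _) i)
    set T := Q ⊔ frattini ↥(P : Subgroup G) with hT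
    by_cases htop : T = ⊤
    · exact ⟨1, by rw [frattini_nongenerating htop]; exact top_sup_eq _⟩
    have hidx : T.index = p := by
      have h1 : T.index ∣ p ^ 2 := hgen ▸ Subgroup.index_dvd_of_le le_sup_right
      obtain ⟨k, hk, hk'⟩ := (Nat.dvd_prime_pow hp).mp h1
      rcases Nat.lt_or_ge k 1 with h0 | h0
      · exfalso; exact htop (Subgroup.index_eq_one.mp (by rw [hk', show k = 0 by omega, pow_zero]))
      rcases Nat.lt_or_ge k 2 with h2 | h2
      · rw [hk', show k = 1 by omega, pow_one]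
      exfalso
      apply hQne
      have h3 : (frattini ↥(P : Subgroup G)).relIndex T * T.index = p ^ 2 := by
        rw [← hgen]; exact Subgroup.relIndex_mul_index le_sup_right
      rw [hk', show k = 2 by omega] at h3
      have h4 : (frattini ↥(P : Subgroup G)).relIndex T = 1 :=
        Nat.eq_of_mul_eq_mul_right (pow_pos hp.pos 2) (by rw [h3, one_mul])
      exact le_sup_left.trans (Subgroup.relIndex_eq_one.mp h4)
    obtain ⟨x, hx⟩ := not_forall.mp (fun h => htop ((Subgroup.eq_top_iff' T).mpr h))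
    refine ⟨x, frattini_nongenerating ?_⟩
    have hle : T < T ⊔ Subgroup.zpowers x := lt_of_le_of_ne le_sup_left fun h => hx (h ▸ Subgroup.mem_sup_right (Subgroup.mem_zpowers x))
    have h5 : (T ⊔ Subgroup.zpowers x).index ∣ p :=
      (Subgroup.index_dvd_of_le (le_sup_left : T ≤ T ⊔ Subgroup.zpowers x)).trans (dvd_of_eq hidx)
    rcases (Nat.dvd_prime hp).mp h5 with h6 | h6
    · rw [sup_right_comm]; exact Subgroup.index_eq_one.mp h6
    · exfalso
      refine hle.ne (Subgroup.eq_of_le_of_card_ge le_sup_left (le_of_eq ?_))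
      have e1 := T.card_mul_index
      have e2 := (T ⊔ Subgroup.zpowers x).card_mul_index
      rw [h6] at e2; rw [hidx] at e1
      exact Nat.eq_of_mul_eq_mul_right hp.pos (e2.trans e1.symm)
  -- (C) no two independent such subgroups
  have hC : ∀ N1 N2 : Subgroup G, (P : Subgroup G) ≤ Subgroup.normalizer (N1 : Set G) → (P : Subgroup G) ≤ Subgroup.normalizer (N2 : Set G) →
      ¬ N1 ⊓ (P : Subgroup G) ≤ Φ → ¬ N2 ⊓ (P : Subgroup G) ≤ Φ → N1 ⊓ N2 = ⊥ → False := by
    intro N1 N2 hn1 hn2 h1 h2 h12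
    have hin : ∀ N : Subgroup G, (P : Subgroup G) ≤ Subgroup.normalizer (N : Set G) → ¬ N ⊓ (P : Subgroup G) ≤ Φ →
        ∀ u v : ↥(P : Subgroup G), ((⁅u, v⁆ : ↥(P : Subgroup G)) : G) ∈ N := by
      intro N hn h
      obtain ⟨x, hxP, hx⟩ := hB N hn h
      set Q := N.subgroupOf (P : Subgroup G) with hQ
      haveI : Q.Normal := ⟨fun u hu v => (Subgroup.mem_normalizer_iff.mp (hn v.2) (u : G)).mp hu⟩
      have hgenq : ∀ w : ↥(P : Subgroup G), QuotientGroup.mk' Q w ∈ Subgroup.zpowers (QuotientGroup.mk' Q ⟨x, hxP⟩) := by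
        intro w
        have hsup : N ⊓ (P : Subgroup G) ⊔ Subgroup.zpowers x ≤ (Q ⊔ Subgroup.zpowers ⟨x, hxP⟩).map (P : Subgroup G).subtype := by
          refine sup_le (fun u hu => ⟨⟨u, hu.2⟩, Subgroup.mem_sup_left hu.1, rfl⟩) (Subgroup.zpowers_le.mpr ?_)
          exact ⟨⟨x, hxP⟩, Subgroup.mem_sup_right (Subgroup.mem_zpowers _), rfl⟩
        obtain ⟨w', hw', hww⟩ := hsup (hx w.2)
        obtain ⟨a, ha, _, ⟨i, rfl⟩, rfl⟩ := Subgroup.mem_sup_of_normal_left.mp hw'
        refine ⟨i, ?_⟩
        have e : a * (⟨x, hxP⟩ : ↥(P : Subgroup G)) ^ i = w := Subtype.ext hww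
        rw [← e, map_mul, show QuotientGroup.mk' Q a = 1 from (QuotientGroup.eq_one_iff a).mpr ha, one_mul, map_zpow]
      intro u v
      obtain ⟨i, hi⟩ := hgenq u
      obtain ⟨j, hj⟩ := hgenq v
      have : QuotientGroup.mk' Q ⁅u, v⁆ = 1 := by
        rw [map_commutatorElement, ← hi, ← hj, commutatorElement_eq_one_iff_mul_comm]
        exact ((Commute.refl _).zpow_zpow i j).eq
      have h2 : ⁅u, v⁆ ∈ Q := (QuotientGroup.eq_one_iff (N := Q) _).mp this
      exact h2
    refine hna ⟨⟨fun u v => commutatorElement_eq_one_iff_mul_comm.mp (Subtype.ext ?_)⟩⟩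
    exact Subgroup.mem_bot.mp (h12 ▸ ⟨hin N1 hn1 h1 u v, hin N2 hn2 h2 u v⟩)
  have hnPN : ∀ N : Subgroup G, N.Normal → (P : Subgroup G) ≤ Subgroup.normalizer (N : Set G) := fun N hN => by
    haveI := hN; exact Subgroup.le_normalizer_of_normal
  have hmeet : ∀ N K : Subgroup G, N.Normal → K.Normal → N ≠ ⊥ → K ≠ ⊥ → N ⊓ K ≠ ⊥ := fun N K hN hK h1 h2 h =>
    hC N K (hnPN N hN) (hnPN K hK) (hA N hN h1) (hA K hK h2) h
  have htop : (⊤ : Subgroup G) ≠ ⊥ := fun h => hna ⟨⟨fun u v => Subtype.ext (by
    have hu : (u : G) = 1 := Subgroup.mem_bot.mp (h ▸ Subgroup.mem_top _)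
    have hv : (v : G) = 1 := Subgroup.mem_bot.mp (h ▸ Subgroup.mem_top _)
    rw [Subgroup.coe_mul, Subgroup.coe_mul, hu, hv])⟩⟩
  obtain ⟨M, ⟨hMn, hM1⟩, hMmin⟩ := (Set.toFinite {N : Subgroup G | N.Normal ∧ N ≠ ⊥}).exists_minimal
    ⟨⊤, inferInstance, htop⟩
  haveI := hMn
  have huniq : ∀ K : Subgroup G, K.Normal → K ≠ ⊥ → M ≤ K := fun K hK hK1 => by
    haveI := hK
    exact (hMmin (y := M ⊓ K) ⟨inferInstance, hmeet M K hMn hK hM1 hK1⟩ inf_le_left).trans inf_le_right
  -- the conclusion follows from `F* = M`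
  suffices key : Cfsg.generalizedFittingSubgroup G = M ∧ (¬ IsMulCommutative M → ∀ K L : Subgroup G,
      Cfsg.IsComponent K → Cfsg.IsComponent L → ∃ x ∈ (P : Subgroup G), L = K.map (MulAut.conj x).toMonoidHom) by
    obtain ⟨hFM, hcomp⟩ := key
    refine ⟨⟨hFM ▸ hM1, fun K hK hK1 => hFM ▸ huniq K hK hK1⟩, ?_, fun h => hcomp (by rwa [hFM] at h)⟩
    obtain ⟨x, hxP, hx⟩ := hB (Cfsg.generalizedFittingSubgroup G) (hnPN _ hFn) (hA _ hFn (hFM ▸ hM1))
    have e : (P : Subgroup G).map (QuotientGroup.mk' (Cfsg.generalizedFittingSubgroup G))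
        = Subgroup.zpowers (QuotientGroup.mk' (Cfsg.generalizedFittingSubgroup G) x) := by
      refine le_antisymm ((Subgroup.map_mono hx).trans ?_) (Subgroup.zpowers_le.mpr ⟨x, hxP, rfl⟩)
      rw [Subgroup.map_sup, MonoidHom.map_zpowers, sup_le_iff]
      refine ⟨?_, le_rfl⟩
      rintro _ ⟨u, hu, rfl⟩
      rw [show QuotientGroup.mk' (Cfsg.generalizedFittingSubgroup G) u = 1 from (QuotientGroup.eq_one_iff u).mpr hu.1]
      exact one_mem _
    rw [e]; infer_instance
  by_cases hE : Cfsg.layer G = ⊥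
  · -- no components
    have hFF : Cfsg.generalizedFittingSubgroup G = Cfsg.fittingSubgroup G := by
      rw [Cfsg.generalizedFittingSubgroup, hE, bot_sup_eq]
    have hFO : Cfsg.fittingSubgroup G = Cfsg.pCore p G := by
      refine le_antisymm ?_ ?_
      · rw [Basics.fittingSubgroup_eq_iSup_pCore]
        refine iSup_le fun q => ?_
        haveI := Fact.mk q.2
        by_cases hqp : (q : ℕ) = p
        · rw [hqp]
        · refine le_of_eq_of_le (hcop _ inferInstance ?_) bot_le
          obtain ⟨j, hj⟩ := IsPGroup.iff_card.mp (Basics.pCore_isPGroup (G := G) (q : ℕ))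
          rw [hj]
          exact Nat.Coprime.pow_left _ ((Nat.coprime_primes q.2 hp).mpr hqp)
      · rw [Basics.fittingSubgroup_eq_iSup_pCore]
        exact le_iSup (fun q : Nat.Primes => Cfsg.pCore (q : ℕ) G) ⟨p, hp⟩
    set F := Cfsg.pCore p G with hF
    have hFp : IsPGroup p F := Basics.pCore_isPGroup p
    have hFP : F ≤ (P : Subgroup G) := IsPGroup.le_sylow_of_normal hFp P
    have hF1 : F ≠ ⊥ := by
      intro h
      have := Components.centralizer_fStar_le (G := G)
      rw [hFF, hFO, h] at this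
      exact htop (le_bot_iff.mp (le_trans (fun g _ => Subgroup.mem_centralizer_iff.mpr fun u hu => by
        rw [Subgroup.mem_bot.mp hu, one_mul, mul_one]) this))
    have hFc : ∀ a ∈ F, ∀ b ∈ F, a * b = b * a := by
      have h1 : ⁅F, F⁆ = ⊥ := hΦn _ inferInstance (Subgroup.commutator_le.mpr fun a ha b hb => hcommΦ a (hFP ha) b (hFP hb))
      intro a ha b hb
      exact commutatorElement_eq_one_iff_mul_comm.mp (Subgroup.mem_bot.mp (h1 ▸ Subgroup.commutator_mem_commutator ha hb))
    have hFe : ∀ a ∈ F, a ^ p = 1 := by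
      let R : Subgroup G :=
        { carrier := {g | ∃ a ∈ F, a ^ p = g}
          one_mem' := ⟨1, one_mem _, one_pow _⟩
          mul_mem' := by
            rintro _ _ ⟨a, ha, rfl⟩ ⟨b, hb, rfl⟩
            exact ⟨a * b, mul_mem ha hb, (show Commute a b from hFc a ha b hb).mul_pow p⟩
          inv_mem' := by
            rintro _ ⟨a, ha, rfl⟩
            exact ⟨a⁻¹, inv_mem ha, inv_pow a p⟩ }
      have hRn : R.Normal := ⟨by
        rintro _ ⟨a, ha, rfl⟩ g
        exact ⟨g * a * g⁻¹, (inferInstance : F.Normal).conj_mem a ha g, conj_pow⟩⟩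
      have h1 : R = ⊥ := hΦn R hRn (by
        rintro _ ⟨a, ha, rfl⟩
        exact ⟨⟨a, hFP ha⟩ ^ p, Basics.pow_mem_frattini P.2 _, rfl⟩)
      intro a ha
      exact Subgroup.mem_bot.mp (h1 ▸ (⟨a, ha, rfl⟩ : a ^ p ∈ R))
    have hMF : M ≤ F := huniq F inferInstance hF1
    have hFM : F = M := by
      by_contra hne
      obtain ⟨f, hfF, hfM⟩ := SetLike.exists_of_lt (lt_of_le_of_ne hMF (Ne.symm hne))
      obtain ⟨x, hxP, hx⟩ := hB M (hnPN M hMn) (hA M hMn hM1)
      have hMP : M ≤ (P : Subgroup G) := hMF.trans hFP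
      rw [inf_eq_left.mpr hMP] at hx
      have hdec : ∀ u ∈ (P : Subgroup G), ∃ m ∈ M, ∃ i : ℤ, m * x ^ i = u := by
        intro u hu
        obtain ⟨m, hm, _, ⟨i, rfl⟩, hmi⟩ := Subgroup.mem_sup_of_normal_left.mp (hx hu)
        exact ⟨m, hm, i, hmi⟩
      obtain ⟨m0, hm0, j, hmj⟩ := hdec f (hFP hfF)
      set y := x ^ j with hy
      have hyF : y ∈ F := by
        have := mul_mem (inv_mem (hMF hm0)) hfF
        rwa [← hmj, inv_mul_cancel_left] at this
      have hyM : y ∉ M := fun h => hfM (hmj ▸ mul_mem hm0 h)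
      have hyP : ∀ u ∈ (P : Subgroup G), u * y = y * u := by
        intro u hu
        obtain ⟨m, hm, i, rfl⟩ := hdec u hu
        have h1 : Commute m y := hFc m (hMF hm) y hyF
        have h2 : Commute (x ^ i) y := Commute.zpow_zpow_self x i j
        exact (h1.mul_left h2).eq
      -- `F = M × ⟨y⟩`
      have hyp : y ^ p = 1 := hFe y hyF
      have hyo : orderOf y = p := orderOf_eq_prime hyp (fun h => hyM (h ▸ one_mem _))
      have hlin : ∀ u ∈ F, ∃ k : ℤ, (y ^ k)⁻¹ * u ∈ M := by
        intro u hu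
        obtain ⟨m, hm, i, hmi⟩ := hdec u (hFP hu)
        have hxi : x ^ i ∈ F := by
          have := mul_mem (inv_mem (hMF hm)) hu
          rwa [← hmi, inv_mul_cancel_left] at this
        have hin : x ^ i ∈ Subgroup.zpowers y := by
          have hxle : Subgroup.zpowers y ≤ F ⊓ Subgroup.zpowers x :=
            le_inf (Subgroup.zpowers_le.mpr hyF) (Subgroup.zpowers_le.mpr (Subgroup.zpow_mem _ (Subgroup.mem_zpowers x) j))
          have hcyc : IsCyclic ↥(F ⊓ Subgroup.zpowers x) := Subgroup.isCyclic_of_le inf_le_right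
          have hcard : Nat.card ↥(F ⊓ Subgroup.zpowers x) ∣ p := by
            haveI := hcyc
            rw [← IsCyclic.exponent_eq_card]
            exact Monoid.exponent_dvd_of_forall_pow_eq_one fun w => Subtype.ext (hFe w w.2.1)
          have heq := Subgroup.eq_of_le_of_card_ge hxle (by rw [Nat.card_zpowers, hyo]; exact Nat.le_of_dvd hp.pos hcard)
          rw [heq]
          exact ⟨hxi, Subgroup.zpow_mem _ (Subgroup.mem_zpowers x) i⟩
        obtain ⟨k, hk⟩ := hin
        refine ⟨k, ?_⟩
        have hk' : y ^ k = x ^ i := hk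
        rw [hk', ← hmi, ← mul_assoc]
        exact (inferInstance : M.Normal).conj_mem' m hm (x ^ i)
      -- an invariant complement to `M`
      haveI hFcm : IsMulCommutative F := ⟨⟨fun a b => Subtype.ext (hFc a a.2 b b.2)⟩⟩
      let K : G → Subgroup G := fun g => (Subgroup.zpowers y).map (MulAut.conj g).toMonoidHom
      have hKle : ∀ g, K g ≤ F := by
        rintro g _ ⟨w, hw, rfl⟩
        exact (inferInstance : F.Normal).conj_mem w ((Subgroup.zpowers_le.mpr hyF) hw) g
      have hKsame : ∀ g, ∀ u ∈ (P : Subgroup G), K (g * u) = K g := by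
        intro g u hu
        have hfix : (Subgroup.zpowers y).map (MulAut.conj u).toMonoidHom = Subgroup.zpowers y := by
          rw [MonoidHom.map_zpowers]
          exact congrArg Subgroup.zpowers (show u * y * u⁻¹ = y by rw [hyP u hu, mul_inv_cancel_right])
        show (Subgroup.zpowers y).map _ = _
        rw [show (MulAut.conj (g * u)).toMonoidHom = (MulAut.conj g).toMonoidHom.comp (MulAut.conj u).toMonoidHom by
          ext w; simp [mul_assoc], ← Subgroup.map_map, hfix]
      have hKdisj : ∀ g, ∀ w ∈ K g, w ∈ M → w = 1 := by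
        rintro g _ ⟨w, ⟨k, rfl⟩, rfl⟩ hwM
        have h1 : y ^ k ∈ M := by
          have := (inferInstance : M.Normal).conj_mem _ hwM g⁻¹
          simpa [mul_assoc] using this
        by_cases hk : (p : ℤ) ∣ k
        · obtain ⟨t, rfl⟩ := hk
          show g * y ^ ((p : ℤ) * t) * g⁻¹ = 1
          rw [zpow_mul, zpow_natCast, hyp, one_zpow]; group
        · exfalso
          obtain ⟨a, b, hab⟩ := ((Nat.prime_iff_prime_int.mp hp).irreducible.coprime_iff_not_dvd.mpr hk)
          apply hyM
          have h2 : y = (y ^ k) ^ b := by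
            rw [← zpow_mul]
            conv_lhs => rw [← zpow_one y, ← hab]
            rw [_root_.zpow_add, mul_comm a, zpow_mul y (p : ℤ), zpow_natCast, hyp, one_zpow, one_mul, mul_comm b]
          rw [h2]; exact Subgroup.zpow_mem _ h1 b
      have huniqK : ∀ g, ∀ a ∈ K g, ∀ b ∈ K g, a⁻¹ * b ∈ M → a = b := fun g a ha b hb h =>
        inv_mul_eq_one.mp (hKdisj g _ (mul_mem (inv_mem ha) hb) h)
      have hexK : ∀ g, ∃ t ∈ K g, y⁻¹ * t ∈ M := by
        intro g
        obtain ⟨k, hk⟩ := hlin (g * y * g⁻¹) ((inferInstance : F.Normal).conj_mem y hyF g)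
        have hnd : ¬ (p : ℤ) ∣ k := by
          intro hd
          obtain ⟨t, rfl⟩ := hd
          rw [zpow_mul, zpow_natCast, hyp, one_zpow, inv_one, one_mul] at hk
          apply hyM
          have := (inferInstance : M.Normal).conj_mem _ hk g⁻¹
          simpa [mul_assoc] using this
        obtain ⟨a, b, hab⟩ := ((Nat.prime_iff_prime_int.mp hp).irreducible.coprime_iff_not_dvd.mpr hnd)
        refine ⟨(g * y * g⁻¹) ^ b, Subgroup.zpow_mem (K g) ⟨y, Subgroup.mem_zpowers y, rfl⟩ b, ?_⟩
        have h1 : QuotientGroup.mk' M (g * y * g⁻¹) = QuotientGroup.mk' M (y ^ k) := (QuotientGroup.eq.mpr hk).symm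
        have h2 : QuotientGroup.mk' M ((g * y * g⁻¹) ^ b) = QuotientGroup.mk' M y := by
          rw [map_zpow, h1, ← map_zpow, ← zpow_mul]
          congr 1
          conv_rhs => rw [← zpow_one y, ← hab]
          rw [_root_.zpow_add, mul_comm a, zpow_mul y (p : ℤ), zpow_natCast, hyp, one_zpow, one_mul, mul_comm b]
        exact QuotientGroup.eq.mp h2.symm
      choose t ht htM using hexK
      haveI : Fintype (G ⧸ (P : Subgroup G)) := Fintype.ofFinite _
      letI : CommGroup ↥F := { (inferInstance : Group ↥F) with mul_comm := fun a b => Subtype.ext (hFc a a.2 b b.2) }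
      let τ : G ⧸ (P : Subgroup G) → ↥F := fun q => ⟨t q.out, hKle _ (ht q.out)⟩
      have hτK : ∀ g : G, (τ (g : G ⧸ (P : Subgroup G)) : G) ∈ K g := by
        intro g
        obtain ⟨u, hu⟩ := QuotientGroup.mk_out_eq_mul (P : Subgroup G) g
        show t _ ∈ K g
        rw [← hKsame g u u.2, ← hu]
        exact ht _
      let w : ↥F := ∏ q : G ⧸ (P : Subgroup G), τ q
      -- modulo `M`
      let π : ↥F →* G ⧸ M := (QuotientGroup.mk' M).comp F.subtype
      have hπτ : ∀ q, π (τ q) = QuotientGroup.mk' M y := fun q => (QuotientGroup.eq.mpr (htM q.out)).symm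
      have hidx : ¬ p ∣ (P : Subgroup G).index := P.not_dvd_index
      have hπw : π w = (QuotientGroup.mk' M y) ^ (P : Subgroup G).index := by
        have h1 : ∀ s : Finset (G ⧸ (P : Subgroup G)), π (∏ q ∈ s, τ q) = (QuotientGroup.mk' M y) ^ s.card := by
          intro s
          induction s using Finset.induction_on with
          | empty => simp
          | insert a s has ih => rw [Finset.prod_insert has, map_mul, ih, hπτ, Finset.card_insert_of_notMem has, pow_succ']
        rw [h1, Finset.card_univ, Subgroup.index_eq_card, Nat.card_eq_fintype_card]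
      have hwM : (w : G) ∉ M := by
        intro hw
        have h1 : π w = 1 := (QuotientGroup.eq_one_iff _).mpr hw
        rw [hπw, ← map_pow] at h1
        have h2 : y ^ (P : Subgroup G).index ∈ M := (QuotientGroup.eq_one_iff _).mp h1
        obtain ⟨i, hi⟩ := exists_pow_eq_self_of_coprime (x := y) (n := (P : Subgroup G).index)
          (by rw [hyo, Nat.coprime_comm, hp.coprime_iff_not_dvd]; exact hidx)
        exact hyM (hi ▸ pow_mem h2 i)
      have hwn : (Subgroup.zpowers (w : G)).Normal := by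
        refine ⟨fun v hv h => ?_⟩
        obtain ⟨i, rfl⟩ := hv
        show h * (w : G) ^ i * h⁻¹ ∈ _
        rw [← conj_zpow]
        refine Subgroup.zpow_mem _ ?_ i
        obtain ⟨k, hk⟩ := hlin (h * y * h⁻¹) ((inferInstance : F.Normal).conj_mem y hyF h)
        let c : ↥F →* ↥F := MonoidHom.mk' (fun v => ⟨h * (v : G) * h⁻¹, (inferInstance : F.Normal).conj_mem v v.2 h⟩)
          (fun a b => Subtype.ext (by show h * ((a : G) * b) * h⁻¹ = (h * a * h⁻¹) * (h * b * h⁻¹); group))
        have hstep : ∀ q, c (τ q) = τ (h • q) ^ k := by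
          intro q
          induction q using QuotientGroup.induction_on with
          | _ g =>
            refine Subtype.ext (huniqK (h * g) _ ?_ _ ?_ ?_)
            · obtain ⟨v, hv, hvt⟩ := hτK g
              refine ⟨v, hv, ?_⟩
              show (h * g) * v * (h * g)⁻¹ = h * (τ _ : G) * h⁻¹
              rw [← hvt]
              show _ = h * (g * v * g⁻¹) * h⁻¹
              group
            · rw [Subgroup.coe_zpow]
              exact Subgroup.zpow_mem _ (hτK (h * g)) k
            · rw [← QuotientGroup.eq_one_iff]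
              show QuotientGroup.mk' M ((h * (τ (g : G ⧸ (P : Subgroup G)) : G) * h⁻¹)⁻¹ * ((τ (h • (g : G ⧸ (P : Subgroup G))) ^ k : ↥F) : G)) = 1
              rw [map_mul, map_inv, inv_mul_eq_one]
              have e1 := hπτ (g : G ⧸ (P : Subgroup G))
              have e2 := hπτ (h • (g : G ⧸ (P : Subgroup G)))
              simp only [π, MonoidHom.comp_apply, Subgroup.coe_subtype] at e1 e2
              rw [Subgroup.coe_zpow, map_zpow, e2, map_mul, map_mul, e1, ← map_mul, ← map_mul, ← map_zpow]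
              exact (QuotientGroup.eq.mpr hk).symm
        have hcw : c w = w ^ k := by
          show c (∏ q, τ q) = (∏ q, τ q) ^ k
          rw [map_prod, ← Finset.prod_zpow, Finset.prod_congr rfl (fun q _ => hstep q)]
          exact Equiv.prod_comp (MulAction.toPerm h) (fun q => τ q ^ k)
        rw [show h * (w : G) * h⁻¹ = ((c w : ↥F) : G) from rfl, hcw, Subgroup.coe_zpow]
        exact Subgroup.zpow_mem _ (Subgroup.mem_zpowers _) k
      refine hmeet M _ hMn hwn hM1 (fun h => hwM (by
        have := Subgroup.zpowers_eq_bot.mp h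
        rw [this]; exact one_mem _)) (le_bot_iff.mp ?_)
      rintro v ⟨hvM, k, rfl⟩
      by_contra hv
      have hwp : (w : G) ^ p = 1 := hFe w w.2
      by_cases hk : (p : ℤ) ∣ k
      · obtain ⟨s, rfl⟩ := hk
        exact hv (Subgroup.mem_bot.mpr (show (w : G) ^ ((p : ℤ) * s) = 1 by rw [zpow_mul, zpow_natCast, hwp, one_zpow]))
      · obtain ⟨a, b, hab⟩ := ((Nat.prime_iff_prime_int.mp hp).irreducible.coprime_iff_not_dvd.mpr hk)
        apply hwM
        have h2 : (w : G) = ((w : G) ^ k) ^ b := by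
          rw [← zpow_mul]
          conv_lhs => rw [← zpow_one (w : G), ← hab]
          rw [_root_.zpow_add, mul_comm a, zpow_mul (w : G) (p : ℤ), zpow_natCast, hwp, one_zpow, one_mul, mul_comm b]
        rw [h2]; exact Subgroup.zpow_mem _ hvM b
    exact ⟨by rw [hFF, hFO, hFM], fun h => absurd ⟨⟨fun a b => Subtype.ext (hFc a (hMF a.2) b (hMF b.2))⟩⟩ h⟩
  -- components
  set E := Cfsg.layer G with hEdef
  haveI hEn : E.Normal := inferInstance
  have hEperf := Components.layer_commutator_eq_self (G := G)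
  have hFn' : (Cfsg.fittingSubgroup G).Normal := inferInstance
  have hEF : E ⊓ Cfsg.fittingSubgroup G = ⊥ := by
    set Z := E ⊓ Cfsg.fittingSubgroup G with hZ
    haveI : Z.Normal := inferInstance
    have hZc : ∀ z ∈ Z, ∀ e ∈ E, e * z = z * e := fun z hz e he =>
      (Subgroup.mem_centralizer_iff.mp (Components.fitting_le_centralizer_layer hz.2) e he)
    haveI : IsMulCommutative Z := ⟨⟨fun a b => Subtype.ext ((hZc b b.2 a a.2.1))⟩⟩
    -- the `p`-part and the rest
    have hpart : ∀ q : ℕ, ∀ [Fact q.Prime], (Cfsg.pCore q Z).map Z.subtype = ⊥ := by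
      intro q _
      haveI : ((Cfsg.pCore q Z).map Z.subtype).Normal := ConjAct.normal_of_characteristic_of_normal
      have hqp : IsPGroup q ((Cfsg.pCore q Z).map Z.subtype) := (Basics.pCore_isPGroup q).map _
      by_cases hq : q = p
      · subst hq
        set Z1 := (Cfsg.pCore q Z).map Z.subtype with hZ1
        obtain ⟨S⟩ : Nonempty (Sylow q E) := inferInstance
        obtain ⟨P', hP'⟩ := (S.2.map E.subtype).exists_le_sylow
        obtain ⟨g, hg⟩ := MulAction.exists_smul_eq G P P'
        have hΦg : ∀ a ∈ (S : Subgroup E), ∀ b ∈ (S : Subgroup E), g⁻¹ * ((⁅a, b⁆ : E) : G) * g ∈ Φ := by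
          have hmemS : ∀ a ∈ (S : Subgroup E), g⁻¹ * (a : G) * g ∈ (P : Subgroup G) := by
            intro a ha
            have h1 := hP' ⟨a, ha, rfl⟩
            rw [← hg, Sylow.coe_subgroup_smul] at h1
            obtain ⟨u, hu, hua⟩ := h1
            rw [show (a : G) = g * u * g⁻¹ from hua.symm, show g⁻¹ * (g * u * g⁻¹) * g = u by group]
            exact hu
          intro a ha b hb
          have e : g⁻¹ * ((⁅a, b⁆ : E) : G) * g = ⁅g⁻¹ * (a : G) * g, g⁻¹ * (b : G) * g⁆ := by
            show g⁻¹ * ((a : G) * b * (a : G)⁻¹ * (b : G)⁻¹) * g = _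
            rw [commutatorElement_def]; group
          rw [e]
          exact hcommΦ _ (hmemS a ha) _ (hmemS b hb)
        have hZ1Φ : ∀ z ∈ Z1, g⁻¹ * z * g ∈ Φ := by
          intro z hz
          have hzZ : z ∈ Z := Subgroup.map_subtype_le _ hz
          let φ : (S : Subgroup E) →* Abelianization (S : Subgroup E) := Abelianization.of
          have hperfE : commutator ↥E = ⊤ := Components.layer_isPerfect.commutator_eq_top
          have key : ∀ (k : ℕ) (g₀ : E), g₀⁻¹ * (⟨z, hzZ.1⟩ : E) ^ k * g₀ ∈ (S : Subgroup E) →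
              g₀⁻¹ * (⟨z, hzZ.1⟩ : E) ^ k * g₀ = (⟨z, hzZ.1⟩ : E) ^ k := by
            intro k g₀ _
            have hc : Commute g₀ (⟨z, hzZ.1⟩ : E) := Subtype.ext (hZc z hzZ g₀ g₀.2)
            rw [mul_assoc, ← (hc.pow_right k).eq, inv_mul_cancel_left]
          have h1 : MonoidHom.transfer φ (⟨z, hzZ.1⟩ : E) = 1 := by
            have : commutator ↥E ≤ (MonoidHom.transfer φ).ker := Abelianization.commutator_subset_ker _
            exact this (hperfE.ge (Subgroup.mem_top _))
          rw [MonoidHom.transfer_eq_pow φ _ key] at h1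
          have h2 := (Abelianization.ker_of (S : Subgroup E)).le (MonoidHom.mem_ker.mpr h1)
          have h3 : g⁻¹ * (((⟨z, hzZ.1⟩ : E) ^ (S : Subgroup E).index : E) : G) * g ∈ Φ := by
            let L : Subgroup (S : Subgroup E) := (Φ.map (MulAut.conj g).toMonoidHom).comap (E.subtype.comp (S : Subgroup E).subtype)
            have hL : commutator ↥(S : Subgroup E) ≤ L := Subgroup.commutator_le.mpr fun a _ b _ =>
              ⟨_, hΦg a a.2 b b.2, by show g * (g⁻¹ * ((⁅(a : E), (b : E)⁆ : E) : G) * g) * g⁻¹ = _; group; rfl⟩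
            obtain ⟨u, hu, hue⟩ := hL h2
            rw [show (((⟨z, hzZ.1⟩ : E) ^ (S : Subgroup E).index : E) : G) = g * u * g⁻¹ from hue.symm,
              show g⁻¹ * (g * u * g⁻¹) * g = u by group]
            exact hu
          obtain ⟨k, hk⟩ := IsPGroup.iff_orderOf.mp hqp ⟨z, hz⟩
          rw [Subgroup.orderOf_mk] at hk
          obtain ⟨i, hi⟩ := exists_pow_eq_self_of_coprime (x := z) (n := (S : Subgroup E).index)
            (by rw [hk, Nat.coprime_comm]; exact Nat.Coprime.pow_left _ (hp.coprime_iff_not_dvd.mpr S.not_dvd_index))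
          rw [Subgroup.coe_pow] at h3
          rw [← hi, show g⁻¹ * ((z ^ (S : Subgroup E).index) ^ i) * g = (g⁻¹ * z ^ (S : Subgroup E).index * g) ^ i by
            have := (conj_pow (a := g⁻¹) (b := z ^ (S : Subgroup E).index) (i := i)).symm
            rwa [inv_inv] at this]
          exact pow_mem h3 i
        refine hΦn _ inferInstance fun z hz => ?_
        have h4 := hZ1Φ (g * z * g⁻¹) ((inferInstance : Z1.Normal).conj_mem z hz g)
        rwa [show g⁻¹ * (g * z * g⁻¹) * g = z by group] at h4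
      · refine hcop _ inferInstance ?_
        obtain ⟨j, hj⟩ := IsPGroup.iff_card.mp hqp
        rw [hj]
        exact Nat.Coprime.pow_left _ ((Nat.coprime_primes (Fact.out) hp).mpr hq)
    by_contra hne
    obtain ⟨q, hq, hqd⟩ := Nat.exists_prime_and_dvd (fun h => hne (Subgroup.eq_bot_of_card_eq _ h))
    haveI := Fact.mk hq
    obtain ⟨a, ha⟩ := exists_prime_orderOf_dvd_card' (G := Z) q hqd
    have h1 : a ∈ Cfsg.pCore q Z := by
      refine Basics.le_pCore (N := Subgroup.zpowers a) (hN := ⟨fun u hu v => ?_⟩)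
        (IsPGroup.of_card (n := 1) (by rw [Nat.card_zpowers, ha, pow_one])) (Subgroup.mem_zpowers a)
      rw [show v * u * v⁻¹ = u by rw [← (inferInstance : IsMulCommutative Z).is_comm.comm u v, mul_inv_cancel_right]]
      exact hu
    have h2 : Z.subtype a ∈ (Cfsg.pCore q Z).map Z.subtype := ⟨a, h1, rfl⟩
    rw [hpart q, Subgroup.mem_bot] at h2
    rw [orderOf_eq_one_iff.mpr (Subtype.ext h2)] at ha
    exact hq.one_lt.ne ha
  have hF0 : Cfsg.fittingSubgroup G = ⊥ := by
    by_contra h
    exact hmeet E _ hEn hFn' hE h hEF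
  have hFE : Cfsg.generalizedFittingSubgroup G = E := by rw [Cfsg.generalizedFittingSubgroup, hF0, sup_bot_eq]
  have hEC : E ⊓ Subgroup.centralizer (E : Set G) = ⊥ := by
    have := Components.layer_inf_centralizer_le_fitting (G := G)
    rw [hF0] at this
    exact le_bot_iff.mp this
  -- the components are conjugate under `P`
  have htrans : ∀ K L : Subgroup G, Cfsg.IsComponent K → Cfsg.IsComponent L →
      ∃ x ∈ (P : Subgroup G), L = K.map (MulAut.conj x).toMonoidHom := by
    intro K L hK hL
    by_contra hcon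
    push Not at hcon
    let S1 : Set (Subgroup G) := {J | ∃ x ∈ (P : Subgroup G), J = K.map (MulAut.conj x).toMonoidHom}
    let S2 : Set (Subgroup G) := {J | Cfsg.IsComponent J ∧ J ∉ S1}
    have hS1c : ∀ J ∈ S1, Cfsg.IsComponent J := by
      rintro _ ⟨x, -, rfl⟩; exact Components.isComponent_conj x hK
    have hinvS1 : ∀ u ∈ (P : Subgroup G), ∀ J ∈ S1, J.map (MulAut.conj u).toMonoidHom ∈ S1 := by
      rintro u hu _ ⟨x, hx, rfl⟩
      refine ⟨u * x, mul_mem hu hx, ?_⟩
      rw [Subgroup.map_map]; congr 1; ext w; simp [mul_assoc]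
    have hinvS2 : ∀ u ∈ (P : Subgroup G), ∀ J ∈ S2, J.map (MulAut.conj u).toMonoidHom ∈ S2 := by
      rintro u hu J ⟨hJ, hJ1⟩
      refine ⟨Components.isComponent_conj u hJ, fun h => hJ1 ?_⟩
      have := hinvS1 u⁻¹ (inv_mem hu) _ h
      rwa [Subgroup.map_map, show (MulAut.conj u⁻¹).toMonoidHom.comp (MulAut.conj u).toMonoidHom = MonoidHom.id G by
        ext w; simp [mul_assoc], Subgroup.map_id] at this
    have hnorm : ∀ T : Set (Subgroup G), (∀ u ∈ (P : Subgroup G), ∀ J ∈ T, J.map (MulAut.conj u).toMonoidHom ∈ T) →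
        (P : Subgroup G) ≤ Subgroup.normalizer ((sSup T : Subgroup G) : Set G) := by
      intro T hT u hu
      rw [Subgroup.mem_normalizer_iff_map_conj_eq]
      refine Subgroup.eq_of_le_of_card_ge ?_ (Subgroup.card_map_of_injective (MulAut.conj u).injective).ge
      rw [Subgroup.map_le_iff_le_comap, sSup_le_iff]
      intro J hJ
      rw [← Subgroup.map_le_iff_le_comap]
      exact le_sSup (hT u hu J hJ)
    have hbad : ∀ (T : Set (Subgroup G)), (∀ J ∈ T, Cfsg.IsComponent J) → ∀ J ∈ T,
        (P : Subgroup G) ≤ Subgroup.normalizer ((sSup T : Subgroup G) : Set G) → ¬ sSup T ⊓ (P : Subgroup G) ≤ Φ := by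
      intro T hT J hJ hPT hle
      set N := sSup T with hN
      set X := N ⊔ (P : Subgroup G) with hX
      have hPX : (P : Subgroup G) ≤ X := le_sup_right
      have hNX : N ≤ X := le_sup_left
      haveI : (N.subgroupOf X).Normal := Subgroup.normal_subgroupOf_of_le_normalizer (sup_le Subgroup.le_normalizer hPT)
      have hle' : N.subgroupOf X ⊓ ((P.subtype hPX : Sylow p X) : Subgroup X) ≤
          (frattini ↥((P.subtype hPX : Sylow p X) : Subgroup X)).map ((P.subtype hPX : Sylow p X) : Subgroup X).subtype := by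
        rintro u ⟨hu1, hu2⟩
        obtain ⟨w, hw, hwu⟩ := hle ⟨hu1, hu2⟩
        let e : ↥(P : Subgroup G) ≃* ↥((P.subtype hPX : Sylow p X) : Subgroup X) := (Subgroup.subgroupOfEquivOfLe hPX).symm
        refine ⟨e w, frattini_le_comap_frattini_of_surjective (φ := e.toMonoidHom) e.surjective hw, ?_⟩
        exact Subtype.ext hwu
      obtain ⟨S, K', hK'n, hK'S⟩ := Transfer.hasNormalPComplement_of_le_frattini (P.subtype hPX) (N.subgroupOf X) hle'
      haveI := hK'n
      have hperfN : ⁅N, N⁆ = N := by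
        refine le_antisymm (Subgroup.commutator_le_self N) (sSup_le fun J' hJ' => ?_)
        rw [← Components.isComponent_commutator_eq_self (hT J' hJ')]
        exact Subgroup.commutator_mono (le_sSup hJ') (le_sSup hJ')
      -- the complement is everything
      have hN' : commutator ↥(N.subgroupOf X) = ⊤ := by
        apply Subgroup.map_injective (N.subgroupOf X).subtype_injective
        rw [Subgroup.map_subtype_commutator, ← MonoidHom.range_eq_map, Subgroup.range_subtype]
        apply Subgroup.map_injective X.subtype_injective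
        rw [Subgroup.map_commutator, Subgroup.map_subgroupOf_eq_of_le hNX, hperfN]
      have hK'top : K' = ⊤ := by
        by_contra hne
        haveI : Nontrivial (↥(N.subgroupOf X) ⧸ K') := by
          rw [← Finite.one_lt_card_iff_nontrivial, ← Subgroup.index_eq_card, Nat.one_lt_iff_ne_zero_and_ne_one]
          exact ⟨Subgroup.index_ne_zero_of_finite, fun h => hne (Subgroup.index_eq_one.mp h)⟩
        have hQp : IsPGroup p (↥(N.subgroupOf X) ⧸ K') := by
          obtain ⟨j, hj⟩ := IsPGroup.iff_card.mp S.2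
          exact IsPGroup.of_card (n := j) (by rw [← Subgroup.index_eq_card, hK'S.symm.index_eq_card, hj])
        haveI : Group.IsNilpotent (↥(N.subgroupOf X) ⧸ K') := hQp.isNilpotent
        have h1 : commutator (↥(N.subgroupOf X) ⧸ K') < ⊤ := Group.IsSolvable.commutator_lt_top_of_nontrivial _
        apply h1.ne
        rw [commutator_def, ← Subgroup.map_top_of_surjective (QuotientGroup.mk' K') (QuotientGroup.mk'_surjective K'),
          ← Subgroup.map_commutator, ← commutator_def, hN']
      have hNc : (Nat.card N).Coprime p := by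
        rw [← Nat.card_congr (Subgroup.subgroupOfEquivOfLe hNX).toEquiv, ← Subgroup.card_top, ← hK'top, ← hK'S.index_eq_card,
          Nat.coprime_comm, hp.coprime_iff_not_dvd]
        exact S.not_dvd_index
      have hJb := Components.subnormal_coprime_le_pPrimeCore (p := p) (hT J hJ).1
        (hNc.coprime_dvd_left (Subgroup.card_dvd_of_le (le_sSup hJ)))
      rw [hcore] at hJb
      exact Components.isComponent_ne_bot (hT J hJ) (le_bot_iff.mp hJb)
    have hK1 : K ∈ S1 := ⟨1, one_mem _, by ext w; simp⟩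
    have hL2 : L ∈ S2 := ⟨hL, fun ⟨x, hx, h⟩ => hcon x hx h⟩
    refine hC (sSup S1) (sSup S2) (hnorm S1 hinvS1) (hnorm S2 hinvS2) (hbad S1 hS1c K hK1 (hnorm S1 hinvS1))
      (hbad S2 (fun J hJ => hJ.1) L hL2 (hnorm S2 hinvS2)) ?_
    have h12 : sSup S2 ≤ Subgroup.centralizer ((sSup S1 : Subgroup G) : Set G) := by
      refine sSup_le fun J2 hJ2 => ?_
      rw [Subgroup.le_centralizer_iff]
      refine sSup_le fun J1 hJ1 => ?_
      refine Subgroup.commutator_eq_bot_iff_le_centralizer.mp ?_
      exact (Components.component_eq_or_commute (hS1c J1 hJ1) hJ2.1).resolve_left fun h => hJ2.2 (h ▸ hJ1)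
    have hSE : ∀ J, Cfsg.IsComponent J → J ≤ sSup S1 ⊔ sSup S2 := fun J hJ => by
      by_cases h : J ∈ S1
      · exact (le_sSup h).trans le_sup_left
      · exact (le_sSup (s := S2) ⟨hJ, h⟩).trans le_sup_right
    rw [← le_bot_iff, ← hEC]
    refine le_inf (inf_le_left.trans (sSup_le fun J hJ => Components.component_le_layer (hS1c J hJ))) ?_
    rw [Subgroup.le_centralizer_iff]
    refine (Components.layer_le_iff.mpr hSE).trans (sup_le ?_ ?_)
    · rw [Subgroup.le_centralizer_iff]; exact inf_le_right.trans h12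
    · exact h12.trans (Subgroup.centralizer_le fun _ h => h.1)
  refine ⟨?_, fun _ => htrans⟩
  rw [hFE]
  refine le_antisymm ?_ (huniq E hEn hE)
  obtain ⟨L, hL, hLM⟩ : ∃ L, Cfsg.IsComponent L ∧ L ≤ M := by
    by_contra hcon
    push Not at hcon
    apply hM1
    rw [← le_bot_iff, ← hEC]
    refine le_inf (huniq E hEn hE) ?_
    rw [Subgroup.le_centralizer_iff]
    refine Components.layer_le_iff.mpr fun J hJ => ?_
    exact Subgroup.commutator_eq_bot_iff_le_centralizer.mp
      ((Components.component_le_or_commute hJ (Subgroup.Normal.isSubnormal hMn)).resolve_left (hcon J hJ))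
  refine Components.layer_le_iff.mpr fun J hJ => ?_
  obtain ⟨x, -, rfl⟩ := htrans L J hL hJ
  rintro _ ⟨u, hu, rfl⟩
  exact hMn.conj_mem u (hLM hu) x

end Cfsg.Agent.S4172
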