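import Cfsg.Statements.S4176
import Cfsg.Agent.Lib.Components.FFOmega
import Cfsg.Agent.Lib.Transfer.SL2Props

set_option autoImplicit false
open Cfsg

namespace Cfsg.Agent.S4176

open Subgroup

variable {k V : Type*} [Field k] [AddCommGroup V] [Module k V] {p : ℕ} [Fact p.Prime] [CharP k p]

/-- The fixed space of a normal chain step of order prime to `p` is reached by averaging. -/
theorem exists_avg {H : Type*} [Group H] [Finite H] (ρ : Representation k H V) (N N' : Subgroup H)
    [hN : N.Normal] [hN' : N'.Normal] (hle : N ≤ N') (hcop : (N.relIndex N').Coprime p)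
    (E : V →ₗ[k] V) (hEfix : ∀ v, ∀ x ∈ N, ρ x (E v) = E v)
    (hEid : ∀ v, (∀ x ∈ N, ρ x v = v) → E v = v) (hEcomm : ∀ h v, E (ρ h v) = ρ h (E v)) :
    ∃ E' : V →ₗ[k] V, (∀ v, ∀ x ∈ N', ρ x (E' v) = E' v) ∧
      (∀ v, (∀ x ∈ N', ρ x v = v) → E' v = v) ∧ (∀ h v, E' (ρ h v) = ρ h (E' v)) := by
  classical
  haveI : Fintype (↥N' ⧸ N.subgroupOf N') := Fintype.ofFinite _
  set r := Fintype.card (↥N' ⧸ N.subgroupOf N') with hr
  have hr' : (r : k) ≠ 0 := by
    intro h0
    have h1 : p ∣ r := (CharP.cast_eq_zero_iff k p r).mp h0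
    have h2 : r = N.relIndex N' := Fintype.card_eq_nat_card
    exact (Fact.out : p.Prime).not_dvd_one (hcop.gcd_eq_one ▸ Nat.dvd_gcd (h2 ▸ h1) dvd_rfl)
  let f : (↥N' ⧸ N.subgroupOf N') → (V →ₗ[k] V) := fun c =>
    Quotient.liftOn' c (fun x => (ρ x.1).comp E) fun x y hxy => by
      refine LinearMap.ext fun v => ?_
      have hm : (x⁻¹ * y : ↥N') ∈ N.subgroupOf N' := QuotientGroup.leftRel_apply.mp hxy
      have h1 : ρ ((x : H)⁻¹ * y) (E v) = E v := hEfix v _ hm
      show ρ x.1 (E v) = ρ y.1 (E v)
      conv_lhs => rw [← h1]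
      rw [← Module.End.mul_apply, ← map_mul, mul_inv_cancel_left]
  have hf : ∀ (x : ↥N') v, f (QuotientGroup.mk x) v = ρ x.1 (E v) := fun _ _ => rfl
  refine ⟨(r : k)⁻¹ • ∑ c, f c, ?_, ?_, ?_⟩
  · intro v x hx
    rw [LinearMap.smul_apply, map_smul, LinearMap.sum_apply, map_sum]
    congr 1
    refine Fintype.sum_equiv (MulAction.toPerm (⟨x, hx⟩ : ↥N')) _ _ ?_
    intro c
    induction c using QuotientGroup.induction_on with
    | _ y =>
      show ρ x (f (QuotientGroup.mk y) v) = f (QuotientGroup.mk (⟨x, hx⟩ * y)) v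
      rw [hf, hf, Subgroup.coe_mul, map_mul]
      rfl
  · intro v hv
    rw [LinearMap.smul_apply, LinearMap.sum_apply]
    have h1 : ∀ c, f c v = v := by
      intro c
      induction c using QuotientGroup.induction_on with
      | _ y => rw [hf, hEid v fun x hx => hv x (hle hx), hv _ y.2]
    rw [Finset.sum_congr rfl fun c _ => h1 c, Finset.sum_const, Finset.card_univ, ← hr,
      ← Nat.cast_smul_eq_nsmul k, smul_smul, inv_mul_cancel₀ hr', one_smul]
  · intro h v
    rw [LinearMap.smul_apply, LinearMap.smul_apply, map_smul, LinearMap.sum_apply,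
      LinearMap.sum_apply, map_sum]
    congr 1
    let c₀ : ↥N' ≃* ↥N' := MulAut.conjNormal h⁻¹
    let e : (↥N' ⧸ N.subgroupOf N') ≃ (↥N' ⧸ N.subgroupOf N') :=
      (QuotientGroup.congr (N.subgroupOf N') (N.subgroupOf N') c₀ (by
        ext y
        rw [Subgroup.map_equiv_eq_comap_symm, Subgroup.mem_comap, mem_subgroupOf, mem_subgroupOf]
        show ((MulAut.conjNormal h⁻¹).symm y : H) ∈ N ↔ _
        rw [MulAut.conjNormal_symm_apply, inv_inv]
        exact ⟨fun hh => by simpa [mul_assoc] using hN.conj_mem _ hh h⁻¹,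
          fun hh => hN.conj_mem _ hh h⟩)).toEquiv
    refine Fintype.sum_equiv e _ _ ?_
    intro c
    induction c using QuotientGroup.induction_on with
    | _ y =>
      show f (QuotientGroup.mk y) (ρ h v) = ρ h (f (QuotientGroup.mk (c₀ y)) v)
      rw [hf, hf, hEcomm, ← Module.End.mul_apply (ρ _) (ρ _), ← Module.End.mul_apply (ρ _) (ρ _),
        ← map_mul, ← map_mul]
      congr 2
      show (y : H) * h = h * (MulAut.conjNormal h⁻¹ y : H)
      rw [MulAut.conjNormal_apply]
      group

/-- Fixed vectors are multiples of the orbit sum. -/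
theorem invariant_mem_span {H : Type*} [Group H] [Finite H] (hsol : Cfsg.IsPSolvable p H)
    (ρ : Representation k H V) (a : V)
    (hfix : ∃ P : Sylow p H, ∀ x : H, x ∈ (P : Subgroup H) → ρ x a = a)
    (hspan : Submodule.span k {u : V | ∃ h : H, ρ h a = u} = ⊤) :
    ∀ v, (∀ h, ρ h v = v) → v ∈ Submodule.span k
      {((Set.finite_range fun h : H => ρ h a).toFinset.sum id : V)} := by
  classical
  obtain ⟨n, N, h0, h1, hmono, hn, hfac⟩ := hsol
  obtain ⟨P, hP⟩ := hfix
  have key : ∀ i : Fin (n + 1), ∃ E : V →ₗ[k] V, (∀ v, ∀ x ∈ N i, ρ x (E v) = E v) ∧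
      (∀ v, (∀ x ∈ N i, ρ x v = v) → E v = v) ∧ (∀ h v, E (ρ h v) = ρ h (E v)) := by
    intro i
    induction i using Fin.induction with
    | zero =>
      refine ⟨LinearMap.id, fun v x hx => ?_, fun v _ => rfl, fun h v => rfl⟩
      rw [h0, mem_bot] at hx
      subst hx
      rw [map_one]; rfl
    | succ i ih =>
      obtain ⟨E, hE1, hE2, hE3⟩ := ih
      haveI := hn i.castSucc
      haveI := hn i.succ
      have hle := hmono (Fin.castSucc_lt_succ (i := i)).le
      rcases hfac i with ⟨m, hm⟩ | hc
      · refine ⟨E, ?_, fun v hv => hE2 v fun x hx => hv x (hle hx), hE3⟩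
        set T := N i.succ ⊓ (P : Subgroup H) with hT
        obtain ⟨S, hS⟩ := Components.exists_sylow_inf_of_normal P (N i.succ)
        have hgen : N i.succ ≤ N i.castSucc ⊔ T := by
          set U := (N i.castSucc ⊔ T).subgroupOf (N i.succ) with hU
          have hd1 : U.index ∣ p ^ m := hm ▸ index_dvd_of_le (fun y hy => mem_sup_left hy)
          have hd2 : U.index ∣ (S : Subgroup ↥(N i.succ)).index :=
            index_dvd_of_le fun y hy => mem_sup_right (hS.le ⟨y, hy, rfl⟩)
          have hu : U.index = 1 := by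
            obtain ⟨j, -, hj⟩ := (Nat.dvd_prime_pow (Fact.out : p.Prime)).mp hd1
            rcases j with _ | j
            · rw [hj, pow_zero]
            · exact absurd ((dvd_pow_self p (Nat.succ_ne_zero j)).trans (hj ▸ hd2)) S.not_dvd_index
          intro x hx
          exact (index_eq_one.mp hu ▸ Subgroup.mem_top (⟨x, hx⟩ : ↥(N i.succ)) : _ ∈ U)
        intro v x hx
        have hv : v ∈ Submodule.span k {u : V | ∃ h : H, ρ h a = u} := by rw [hspan]; trivial
        induction hv using Submodule.span_induction with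
        | mem u hu =>
          obtain ⟨g, rfl⟩ := hu
          rw [hE3]
          have hx' : g⁻¹ * x * g ∈ N i.castSucc ⊔ T := hgen (by
            simpa using (hn i.succ).conj_mem _ hx g⁻¹)
          obtain ⟨y, hy, z, hz, e⟩ := Subgroup.mem_sup_of_normal_left.mp hx'
          have e' : ρ (g⁻¹ * x * g) (E a) = E a := by
            rw [← e, map_mul, Module.End.mul_apply, ← hE3 z, hP z hz.2, hE1 a y hy]
          conv_rhs => rw [← e']
          rw [← Module.End.mul_apply (ρ _) (ρ _), ← Module.End.mul_apply (ρ _) (ρ _), ← map_mul, ← map_mul]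
          congr 2; group
        | zero => rw [map_zero, map_zero]
        | add u w _ _ hu hw => rw [map_add, map_add, hu, hw]
        | smul c u _ hu => rw [map_smul, map_smul, hu]
      · exact exists_avg ρ (N i.castSucc) (N i.succ) hle hc E hE1 hE2 hE3
  obtain ⟨E, hE1, hE2, hE3⟩ := key (Fin.last n)
  rw [h1] at hE1 hE2
  intro v hv
  set O := (Set.finite_range fun h : H => ρ h a).toFinset with hO
  have hrange : ∀ w, ∃ c : k, E w = c • E a := by
    intro w
    have hw : w ∈ Submodule.span k {u : V | ∃ h : H, ρ h a = u} := by rw [hspan]; trivial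
    induction hw using Submodule.span_induction with
    | mem u hu => obtain ⟨g, rfl⟩ := hu; exact ⟨1, by rw [hE3, hE1 a g trivial, one_smul]⟩
    | zero => exact ⟨0, by rw [map_zero, zero_smul]⟩
    | add u w _ _ hu hw =>
      obtain ⟨c, hc⟩ := hu; obtain ⟨d, hd⟩ := hw
      exact ⟨c + d, by rw [map_add, hc, hd, add_smul]⟩
    | smul c u _ hu => obtain ⟨d, hd⟩ := hu; exact ⟨c * d, by rw [map_smul, hd, smul_smul]⟩
  obtain ⟨c, hc⟩ := hrange v
  rw [hE2 v fun x _ => hv x] at hc
  have hs : ∀ g, ρ g (O.sum id) = O.sum id := by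
    intro g
    rw [map_sum]
    refine Finset.sum_bij (fun u _ => ρ g u) ?_ ?_ ?_ (fun _ _ => rfl)
    · intro u hu
      rw [hO, Set.Finite.mem_toFinset] at hu ⊢
      obtain ⟨h, rfl⟩ := hu
      exact ⟨g * h, by simp [map_mul]⟩
    · intro u _ w _ e
      have := congrArg (ρ g⁻¹) e
      simpa [← Module.End.mul_apply, ← map_mul] using this
    · intro u hu
      rw [hO, Set.Finite.mem_toFinset] at hu
      obtain ⟨h, rfl⟩ := hu
      exact ⟨ρ (g⁻¹ * h) a, (Set.Finite.mem_toFinset _).mpr ⟨_, rfl⟩,
        by rw [← Module.End.mul_apply, ← map_mul, mul_inv_cancel_left]⟩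
  have hsum : O.sum id = (O.card : k) • E a := by
    rw [← hE2 _ fun x _ => hs x, map_sum, Nat.cast_smul_eq_nsmul, ← Finset.sum_const]
    refine Finset.sum_congr rfl fun u hu => ?_
    rw [hO, Set.Finite.mem_toFinset] at hu
    obtain ⟨h, rfl⟩ := hu
    exact (hE3 h a).trans (hE1 a h trivial)
  have hcard : (O.card : k) ≠ 0 := by
    intro hz
    have hp : p ∣ O.card := (CharP.cast_eq_zero_iff k p _).mp hz
    let St : Subgroup H :=
      { carrier := {x | ρ x a = a}
        one_mem' := by simp
        mul_mem' := fun {x y} hx hy => by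
          show ρ (x * y) a = a
          rw [map_mul, Module.End.mul_apply, hy, hx]
        inv_mem' := fun {x} hx => by
          show ρ x⁻¹ a = a
          conv_lhs => rw [← hx, ← Module.End.mul_apply, ← map_mul, inv_mul_cancel, map_one]
          rfl }
    have e : O.card = St.index := by
      rw [← Nat.card_eq_finsetCard, Subgroup.index_eq_card]
      refine (Nat.card_congr (Equiv.ofBijective (fun q : H ⧸ St => (⟨Quotient.liftOn' q (fun x => ρ x a)
        (fun x y hxy => ?_), ?_⟩ : ↥O)) ⟨?_, ?_⟩)).symm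
      · have hm : ρ (x⁻¹ * y) a = a := QuotientGroup.leftRel_apply.mp hxy
        conv_lhs => rw [← hm]
        rw [← Module.End.mul_apply, ← map_mul, mul_inv_cancel_left]
      · induction q using QuotientGroup.induction_on with
        | _ x => exact (Set.Finite.mem_toFinset _).mpr ⟨x, rfl⟩
      · intro q q'
        induction q using QuotientGroup.induction_on with
        | _ x =>
        induction q' using QuotientGroup.induction_on with
        | _ y =>
          intro he
          have he' : ρ x a = ρ y a := congrArg Subtype.val he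
          refine QuotientGroup.eq.mpr ?_
          show ρ (x⁻¹ * y) a = a
          rw [map_mul, Module.End.mul_apply, ← he', ← Module.End.mul_apply, ← map_mul,
            inv_mul_cancel, map_one]
          rfl
      · rintro ⟨u, hu⟩
        obtain ⟨x, rfl⟩ := (Set.Finite.mem_toFinset _).mp hu
        exact ⟨QuotientGroup.mk x, rfl⟩
    exact P.not_dvd_index ((e ▸ hp).trans (index_dvd_of_le (H := (P : Subgroup H)) hP))
  refine Submodule.mem_span_singleton.mpr ⟨c * (O.card : k)⁻¹, ?_⟩
  rw [hsum, smul_smul, mul_assoc, inv_mul_cancel₀ hcard, mul_one]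
  exact hc.symm

/-- Let k be a field of prime characteristic p, H a finite p-soluble group and ρ a k-linear representation of H on V. Let a be a vector that is fixed by some Sylow p-subgroup of H and whose H-orbit spans V. Then the space of H-fixed vectors has dimension at most 1, and every vector b whose H-orbit has size coprime to the size of the orbit of a is fixed by H. -/
theorem result {k V H : Type*} [Field k] (p : ℕ) [Fact p.Prime] [CharP k p] [AddCommGroup V] [Module k V]
    [Group H] [Finite H] (hsol : Cfsg.IsPSolvable p H) (ρ : Representation k H V) (a : V)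
    (hfix : ∃ P : Sylow p H, ∀ x : H, x ∈ (P : Subgroup H) → ρ x a = a)
    (hspan : Submodule.span k {u : V | ∃ h : H, ρ h a = u} = ⊤) :
    Module.finrank k ρ.invariants ≤ 1 ∧
    ∀ b : V, (Nat.card {u : V | ∃ h : H, ρ h a = u}).Coprime (Nat.card {u : V | ∃ h : H, ρ h b = u}) → ∀ h : H, ρ h b = b := by
  classical
  set s : V := (Set.finite_range fun h : H => ρ h a).toFinset.sum id with hsdef
  constructor
  · have hle : ρ.invariants ≤ Submodule.span k {s} := fun v hv =>
      invariant_mem_span hsol ρ a hfix hspan v hv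
    exact (Submodule.finrank_mono hle).trans ((finrank_span_le_card {s}).trans (by simp))
  intro b hcop
  obtain ⟨P, hP⟩ := hfix
  let St : V → Subgroup H := fun w =>
    { carrier := {x | ρ x w = w}
      one_mem' := by simp
      mul_mem' := fun {x y} hx hy => by
        show ρ (x * y) w = w
        rw [map_mul, Module.End.mul_apply, hy, hx]
      inv_mem' := fun {x} hx => by
        show ρ x⁻¹ w = w
        conv_lhs => rw [← hx, ← Module.End.mul_apply, ← map_mul, inv_mul_cancel, map_one]
        rfl }
  have hidx : ∀ w, Nat.card {u : V | ∃ h : H, ρ h w = u} = (St w).index := by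
    intro w
    letI : MulAction H V :=
      { smul := fun h v => ρ h v
        one_smul := fun v => show ρ 1 v = v by rw [map_one]; rfl
        mul_smul := fun g h v => show ρ (g * h) v = ρ g (ρ h v) by rw [map_mul]; rfl }
    rw [show St w = MulAction.stabilizer H w from rfl, MulAction.index_stabilizer]
    exact (Nat.card_coe_set_eq _).trans rfl
  rw [hidx, hidx] at hcop
  set A := St a
  set C := St b
  have hC0 : 0 < C.index := Nat.pos_of_ne_zero index_ne_zero_of_finite
  have hrel : A.relIndex C = A.index := by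
    have e : (A ⊓ C).index = A.relIndex C * C.index := by
      rw [← inf_relIndex_right A C, relIndex_mul_index inf_le_right]
    refine le_antisymm ?_ (Nat.le_of_dvd (Nat.pos_of_ne_zero index_ne_zero_of_finite) ?_)
    · exact Nat.le_of_mul_le_mul_right (e ▸ index_inf_le (H := A) (K := C)) hC0
    · exact hcop.dvd_of_dvd_mul_right (e ▸ index_dvd_of_le inf_le_left)
  have horb : ∀ g : H, ∃ x ∈ C, ρ x a = ρ g a := by
    intro g
    have hsurj : Function.Surjective
        (fun q : ↥C ⧸ A.subgroupOf C => (Quotient.liftOn' q (fun x => (QuotientGroup.mk x.1 : H ⧸ A))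
          (fun x y hxy => QuotientGroup.eq.mpr
            (mem_subgroupOf.mp ((QuotientGroup.leftRel_apply (s := A.subgroupOf C)).mp hxy))))) := by
      refine (Function.Injective.bijective_of_nat_card_le ?_ ?_).2
      · intro q q'
        induction q using QuotientGroup.induction_on with
        | _ x =>
        induction q' using QuotientGroup.induction_on with
        | _ y => exact fun he => QuotientGroup.eq.mpr (QuotientGroup.eq.mp he :)
      · exact le_of_eq hrel.symm
    obtain ⟨q, hq⟩ := hsurj (QuotientGroup.mk g)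
    induction q using QuotientGroup.induction_on with
    | _ x =>
      have hm : ρ ((x : H)⁻¹ * g) a = a := QuotientGroup.eq.mp (hq :)
      refine ⟨x, x.2, ?_⟩
      conv_lhs => rw [← hm]
      rw [← Module.End.mul_apply, ← map_mul, mul_inv_cancel_left]
  have hset : {u : V | ∃ h : ↥C, ρ.comp C.subtype h a = u} = {u : V | ∃ h : H, ρ h a = u} := by
    ext u
    constructor
    · rintro ⟨h, rfl⟩; exact ⟨h, rfl⟩
    · rintro ⟨g, rfl⟩
      obtain ⟨x, hx, e⟩ := horb g
      exact ⟨⟨x, hx⟩, e⟩
  obtain ⟨Q, hQ⟩ : ∃ Q : Sylow p ↥C, ∀ x : ↥C, x ∈ (Q : Subgroup ↥C) → ρ x a = a := by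
    obtain ⟨Q⟩ := (inferInstance : Nonempty (Sylow p ↥(A.subgroupOf C)))
    have hpQ : IsPGroup p ↥((Q : Subgroup ↥(A.subgroupOf C)).map (A.subgroupOf C).subtype) :=
      Q.2.map _
    have hnd : ¬ p ∣ ((Q : Subgroup ↥(A.subgroupOf C)).map (A.subgroupOf C).subtype).index := by
      rw [index_map_subtype]
      refine fun h => ((Fact.out : p.Prime).dvd_mul.mp h).elim Q.not_dvd_index fun h' => ?_
      have h'' : p ∣ A.index := hrel ▸ h'
      exact P.not_dvd_index (h''.trans (index_dvd_of_le (H := (P : Subgroup H)) hP))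
    refine ⟨hpQ.toSylow hnd, fun x hx => ?_⟩
    obtain ⟨y, -, rfl⟩ := (IsPGroup.mem_toSylow hpQ hnd).mp hx
    exact y.2
  have hb := invariant_mem_span (Transfer.isPSolvable_subgroup' hsol C) (ρ.comp C.subtype) a
    ⟨Q, hQ⟩ (by rw [hset]; exact hspan) b (fun h => h.2)
  have e : (Set.finite_range fun h : ↥C => ρ.comp C.subtype h a).toFinset.sum id = s := by
    rw [hsdef]
    congr 1
    ext u
    simp only [Set.Finite.mem_toFinset, Set.mem_range]
    exact Set.ext_iff.mp hset u
  rw [e] at hb
  obtain ⟨c, rfl⟩ := Submodule.mem_span_singleton.mp hb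
  intro g
  rw [map_smul]
  congr 1
  rw [hsdef, map_sum]
  refine Finset.sum_bij (fun u _ => ρ g u) ?_ ?_ ?_ (fun _ _ => rfl)
  · intro u hu
    rw [Set.Finite.mem_toFinset] at hu ⊢
    obtain ⟨h, rfl⟩ := hu
    exact ⟨g * h, by simp [map_mul]⟩
  · intro u _ w _ e
    have := congrArg (ρ g⁻¹) e
    simpa [← Module.End.mul_apply, ← map_mul] using this
  · intro u hu
    rw [Set.Finite.mem_toFinset] at hu
    obtain ⟨h, rfl⟩ := hu
    refine ⟨ρ (g⁻¹ * h) a, (Set.Finite.mem_toFinset _).mpr ⟨_, rfl⟩, ?_⟩
    rw [← Module.End.mul_apply, ← map_mul, mul_inv_cancel_left]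


end Cfsg.Agent.S4176
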