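import Cfsg.Statements.S4177
-- import your own Cfsg.Agent.* helpers here

set_option autoImplicit false
open Cfsg

namespace Cfsg.Agent.S4177

/-- Let k be a field whose characteristic does not divide the order of the finite group H (for instance a field of characteristic zero), and ρ a k-linear representation of H on V. Let a be a vector whose H-orbit spans V. Then the space of H-fixed vectors has dimension at most 1, and every vector b whose H-orbit has size coprime to the size of the orbit of a is fixed by H. -/
theorem result {k V H : Type*} [Field k] [AddCommGroup V] [Module k V] [Group H] [Finite H]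
    (hchar : ¬ ringChar k ∣ Nat.card H) (ρ : Representation k H V) (a : V)
    (hspan : Submodule.span k {u : V | ∃ h : H, ρ h a = u} = ⊤) :
    Module.finrank k ρ.invariants ≤ 1 ∧
    ∀ b : V, (Nat.card {u : V | ∃ h : H, ρ h a = u}).Coprime (Nat.card {u : V | ∃ h : H, ρ h b = u}) → ∀ h : H, ρ h b = b := by
  classical
  haveI := Fintype.ofFinite H
  letI : MulAction H V :=
    { smul := fun h v => ρ h v
      one_smul := fun v => by show ρ 1 v = v; rw [map_one]; rfl
      mul_smul := fun g h v => by show ρ (g * h) v = ρ g (ρ h v); rw [map_mul]; rfl }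
  have hsm : ∀ (h : H) (v : V), h • v = ρ h v := fun _ _ => rfl
  have horb : ∀ v : V, {u : V | ∃ h : H, ρ h v = u} = MulAction.orbit H v := fun v => rfl
  have hne : ∀ n : ℕ, n ∣ Nat.card H → (n : k) ≠ 0 := fun n hn h0 =>
    hchar ((ringChar.dvd h0).trans hn)
  let A : Subgroup H → V →ₗ[k] V := fun K => ∑ x : K, ρ x
  have hA : ∀ (K : Subgroup H) v, A K v = ∑ x : K, ρ x v := fun K v => by
    simp only [A, LinearMap.sum_apply]
  have hAinv : ∀ (K : Subgroup H) (x : K) v, A K (ρ x v) = A K v := by
    intro K x v
    rw [hA, hA]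
    refine Fintype.sum_equiv (Equiv.mulRight x) _ _ fun y => ?_
    rw [Equiv.coe_mulRight, Subgroup.coe_mul, map_mul]
    rfl
  have hAfix : ∀ (K : Subgroup H) v, (∀ x : K, ρ x v = v) → A K v = (Nat.card K : k) • v := by
    intro K v hv
    rw [hA, Finset.sum_congr rfl fun x _ => hv x, Finset.sum_const, Finset.card_univ,
      ← Nat.card_eq_fintype_card, Nat.cast_smul_eq_nsmul]
  -- the averaged image is one line
  have hline : ∀ (K : Subgroup H), (∀ h : H, ∃ x : K, ρ h a = ρ x a) → ∀ v, A K v ∈ Submodule.span k {A K a} := by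
    intro K hK v
    have hv : v ∈ Submodule.span k {u : V | ∃ h : H, ρ h a = u} := hspan ▸ Submodule.mem_top
    induction hv using Submodule.span_induction with
    | mem u hu =>
      obtain ⟨h, rfl⟩ := hu
      obtain ⟨x, hx⟩ := hK h
      rw [hx, hAinv]
      exact Submodule.mem_span_singleton_self _
    | zero => rw [map_zero]; exact Submodule.zero_mem _
    | add u w _ _ hu hw => rw [map_add]; exact Submodule.add_mem _ hu hw
    | smul c u _ hu => rw [map_smul]; exact Submodule.smul_mem _ c hu
  refine ⟨?_, ?_⟩
  · have hle : ρ.invariants ≤ Submodule.span k {A ⊤ a} := by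
      intro v hv
      have h1 := hline ⊤ (fun h => ⟨⟨h, Subgroup.mem_top h⟩, rfl⟩) v
      rw [hAfix ⊤ v (fun x => hv x.1), Subgroup.card_top] at h1
      exact (Submodule.smul_mem_iff _ (hne _ dvd_rfl)).mp h1
    exact (Submodule.finrank_mono hle).trans ((finrank_span_le_card ({A ⊤ a} : Set V)).trans (by simp))
  · intro b hcop h
    set Hb := MulAction.stabilizer H b with hHb
    set Ha := MulAction.stabilizer H a with hHa
    set m := Nat.card {u : V | ∃ h : H, ρ h a = u} with hm
    set n := Nat.card {u : V | ∃ h : H, ρ h b = u} with hn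
    have hma : Ha.index = m := by
      rw [hHa, MulAction.index_stabilizer, ← horb, hm]; rfl
    have hnb : Hb.index = n := by
      rw [hHb, MulAction.index_stabilizer, ← horb, hn]; rfl
    -- the stabilizer of `b` is transitive on the orbit of `a`
    have htrans : ∀ g : H, ∃ x : Hb, ρ g a = ρ x a := by
      have hidx : m ≤ Ha.relIndex Hb := by
        have h1 : (Ha ⊓ Hb).index = Ha.relIndex Hb * n := by
          rw [← hnb, ← Subgroup.inf_relIndex_right, Subgroup.relIndex_mul_index inf_le_right]
        have hdm : m ∣ (Ha ⊓ Hb).index := hma ▸ Subgroup.index_dvd_of_le inf_le_left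
        rw [h1] at hdm
        have hd := hcop.dvd_of_dvd_mul_right hdm
        exact Nat.le_of_dvd (Nat.pos_of_ne_zero Subgroup.index_ne_zero_of_finite) hd
      intro g
      have hsub : MulAction.orbit Hb a ⊆ MulAction.orbit H a := by
        rintro _ ⟨x, rfl⟩; exact ⟨x.1, rfl⟩
      have hcard : (MulAction.orbit H a).ncard ≤ (MulAction.orbit Hb a).ncard := by
        rw [← MulAction.index_stabilizer, ← MulAction.index_stabilizer, ← hHa, hma]
        exact hidx
      have heq := Set.eq_of_subset_of_ncard_le hsub hcard (Set.finite_range _)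
      obtain ⟨x, hx⟩ := (Set.ext_iff.mp heq (g • a)).mpr ⟨g, rfl⟩
      exact ⟨x, hx.symm⟩
    -- the orbit sum
    haveI : Fintype (MulAction.orbit H a) := (Set.finite_range _).fintype
    set E : V := ∑ u : MulAction.orbit H a, (u : V) with hE
    have hEfix : ∀ g : H, ρ g E = E := by
      intro g
      rw [hE, map_sum]
      exact Fintype.sum_equiv (MulAction.toPerm g) _ _ fun u => rfl
    have hAE : A Hb E = (m : k) • A Hb a := by
      rw [hE, map_sum]
      have : ∀ u : MulAction.orbit H a, A Hb (u : V) = A Hb a := by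
        rintro ⟨_, g, rfl⟩
        obtain ⟨x, hx⟩ := htrans g
        show A Hb (ρ g a) = A Hb a
        rw [hx, hAinv]
      rw [Finset.sum_congr rfl fun u _ => this u, Finset.sum_const, Finset.card_univ,
        ← Nat.card_eq_fintype_card, Nat.cast_smul_eq_nsmul]
      rfl
    rw [hAfix Hb E fun x => hEfix x] at hAE
    have hm0 : (m : k) ≠ 0 := hne m (hma ▸ Subgroup.index_dvd_card Ha)
    have hPa : A Hb a = ((m : k)⁻¹ * (Nat.card Hb : k)) • E := by
      rw [mul_smul, hAE, inv_smul_smul₀ hm0]
    obtain ⟨c, hc⟩ := Submodule.mem_span_singleton.mp (hline Hb htrans b)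
    rw [hAfix Hb b fun x => x.2, hPa, smul_smul] at hc
    have hb : b = ((Nat.card Hb : k)⁻¹ * (c * ((m : k)⁻¹ * (Nat.card Hb : k)))) • E := by
      rw [mul_smul, hc, inv_smul_smul₀ (hne _ Hb.card_subgroup_dvd_card)]
    rw [hb, map_smul, hEfix]

end Cfsg.Agent.S4177
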