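import Cfsg.Statements.S4178
import Mathlib
-- import your own Cfsg.Agent.* helpers here

set_option autoImplicit false
open Cfsg

namespace Cfsg.Agent.S4178

/-- Let F be a finite field with q elements, V a non-zero finite-dimensional F-space of dimension d, H a group of invertible linear maps of V, and R the subgroup of H generated by the elements of H that fix some non-zero vector (have eigenvalue 1). Then the index of R in H is at most q^d − 1; and if H leaves invariant some proper non-zero subspace, the index is at most q^(d/2) − 1. -/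
theorem result {F V : Type*} [Field F] [Fintype F] [AddCommGroup V] [Module F V] [FiniteDimensional F V] [Nontrivial V]
    (H : Subgroup (V ≃ₗ[F] V)) :
    (Subgroup.closure {h : ↥H | ∃ v : V, v ≠ 0 ∧ (h : V ≃ₗ[F] V) v = v}).index ≤ Fintype.card F ^ Module.finrank F V - 1 ∧
    ((∃ W : Submodule F V, W ≠ ⊥ ∧ W ≠ ⊤ ∧ ∀ h ∈ H, ∀ w ∈ W, h w ∈ W) →
      ((Subgroup.closure {h : ↥H | ∃ v : V, v ≠ 0 ∧ (h : V ≃ₗ[F] V) v = v}).index : ℝ) ≤ Real.sqrt ((Fintype.card F : ℝ) ^ Module.finrank F V) - 1) := by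
  classical
  haveI : Finite V := Module.finite_of_finite F
  set R := Subgroup.closure {h : ↥H | ∃ v : V, v ≠ 0 ∧ (h : V ≃ₗ[F] V) v = v} with hR
  have hidx : ∀ {X : Type _} [Finite X] (φ : ↥H → X), (∀ a b : ↥H, φ a = φ b → a⁻¹ * b ∈ R) → R.index ≤ Nat.card X := by
    intro X _ φ h
    rw [Subgroup.index_eq_card]
    refine Nat.card_le_card_of_injective (fun q : ↥H ⧸ R => φ q.out) fun a b hab => ?_
    rw [← a.out_eq', ← b.out_eq']
    exact QuotientGroup.eq.mpr (h _ _ hab)
  have hne0 : ∀ (W : Submodule F V), Nat.card {w : W // w ≠ 0} = Fintype.card F ^ Module.finrank F W - 1 := by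
    intro W
    haveI : Fintype W := Fintype.ofFinite _
    rw [← Nat.card_eq_fintype_card (α := F), ← Module.natCard_eq_pow_finrank]
    rw [Nat.card_eq_fintype_card, Nat.card_eq_fintype_card, Fintype.card_subtype_compl, Fintype.card_subtype_eq]
  have happ : ∀ (a b : ↥H) (v : V), (a : V ≃ₗ[F] V) v = (b : V ≃ₗ[F] V) v → ((a⁻¹ * b : ↥H) : V ≃ₗ[F] V) v = v := by
    intro a b v h
    rw [Subgroup.coe_mul, Subgroup.coe_inv, LinearEquiv.mul_apply, ← h]
    exact (a : V ≃ₗ[F] V).symm_apply_apply v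
  refine ⟨?_, ?_⟩
  · obtain ⟨v, hv⟩ := exists_ne (0 : V)
    refine (hidx (fun h : ↥H => (⟨⟨(h : V ≃ₗ[F] V) v, trivial⟩, ?_⟩ : {w : (⊤ : Submodule F V) // w ≠ 0})) ?_).trans
      (by rw [hne0, finrank_top])
    · intro h0
      exact hv ((LinearEquiv.map_eq_zero_iff _).mp (congrArg Subtype.val h0))
    · intro a b hab
      exact Subgroup.subset_closure ⟨v, hv, happ a b v (congrArg (fun w => ((w.1 : (⊤ : Submodule F V)) : V)) hab)⟩
  · rintro ⟨W, hW0, hWt, hWH⟩
    have hbound : ∀ k, R.index ≤ Fintype.card F ^ k - 1 → 2 * k ≤ Module.finrank F V →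
        ((R.index : ℝ)) ≤ Real.sqrt ((Fintype.card F : ℝ) ^ Module.finrank F V) - 1 := by
      intro k hk h2k
      have hq : 1 ≤ Fintype.card F := Fintype.card_pos
      have h1 : (R.index : ℝ) ≤ (Fintype.card F : ℝ) ^ k - 1 := by
        have h0 : 1 ≤ Fintype.card F ^ k := Nat.one_le_pow _ _ hq
        have := (Nat.cast_le (α := ℝ)).mpr hk
        rwa [Nat.cast_sub h0, Nat.cast_pow, Nat.cast_one] at this
      refine h1.trans (sub_le_sub_right (Real.le_sqrt_of_sq_le ?_) 1)
      rw [← pow_mul]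
      exact pow_le_pow_right₀ (by exact_mod_cast hq) (by omega)
    have hsum := Submodule.finrank_quotient_add_finrank W
    by_cases hd : 2 * Module.finrank F W ≤ Module.finrank F V
    · refine hbound _ ?_ hd
      obtain ⟨v, hvW, hv⟩ := (Submodule.ne_bot_iff W).mp hW0
      rw [← hne0 W]
      refine hidx (fun h : ↥H => ⟨⟨(h : V ≃ₗ[F] V) v, hWH h h.2 v hvW⟩,
        fun h0 => hv ((LinearEquiv.map_eq_zero_iff _).mp (congrArg Subtype.val h0))⟩) fun a b hab => ?_
      exact Subgroup.subset_closure ⟨v, hv, happ a b v (congrArg (fun w => ((w.1 : W) : V)) hab)⟩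
    · refine hbound (Module.finrank F (V ⧸ W)) ?_ (by omega)
      obtain ⟨v, hvW⟩ : ∃ v, v ∉ W := by
        by_contra hcon
        push Not at hcon
        exact hWt (eq_top_iff.mpr fun x _ => hcon x)
      have hinv : ∀ (h : ↥H) (x : V), (h : V ≃ₗ[F] V) x ∈ W → x ∈ W := fun h x hx => by
        have := hWH _ (inv_mem h.2) _ hx
        rwa [show ((h : V ≃ₗ[F] V)⁻¹) ((h : V ≃ₗ[F] V) x) = x from LinearEquiv.symm_apply_apply _ x] at this
      haveI : Finite (V ⧸ W) := Finite.of_surjective _ W.mkQ_surjective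
      have hcardQ : Nat.card {w : V ⧸ W // w ≠ 0} = Fintype.card F ^ Module.finrank F (V ⧸ W) - 1 := by
        haveI : Fintype (V ⧸ W) := Fintype.ofFinite _
        rw [← Nat.card_eq_fintype_card (α := F), ← Module.natCard_eq_pow_finrank]
        rw [Nat.card_eq_fintype_card, Nat.card_eq_fintype_card, Fintype.card_subtype_compl, Fintype.card_subtype_eq]
      rw [← hcardQ]
      refine hidx (fun h : ↥H => ⟨Submodule.Quotient.mk ((h : V ≃ₗ[F] V) v),
        fun h0 => hvW (hinv h v ((Submodule.Quotient.mk_eq_zero W).mp h0))⟩) fun a b hab => ?_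
      have h1 : (a : V ≃ₗ[F] V) v - (b : V ≃ₗ[F] V) v ∈ W := (Submodule.Quotient.eq W).mp (congrArg Subtype.val hab)
      set c := a⁻¹ * b with hc
      have h2 : (c : V ≃ₗ[F] V) v - v ∈ W := by
        have h3 := hWH _ (inv_mem a.2) _ h1
        rw [map_sub, show ((a : V ≃ₗ[F] V)⁻¹) ((a : V ≃ₗ[F] V) v) = v from LinearEquiv.symm_apply_apply _ v] at h3
        have h4 := W.neg_mem h3
        rw [neg_sub] at h4
        exact h4
      refine Subgroup.subset_closure (show ∃ u : V, u ≠ 0 ∧ (c : V ≃ₗ[F] V) u = u from ?_)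
      by_contra hcon
      push Not at hcon
      let f : V →ₗ[F] V := (c : V ≃ₗ[F] V).toLinearMap - LinearMap.id
      have hf : Function.Injective f := by
        rw [← LinearMap.ker_eq_bot, LinearMap.ker_eq_bot']
        intro u hu
        by_contra hu0
        exact hcon u hu0 (sub_eq_zero.mp hu)
      have hmap : W.map f = W := by
        refine Submodule.eq_of_le_of_finrank_eq ?_ (LinearEquiv.finrank_eq (Submodule.equivMapOfInjective f hf W)).symm
        rintro _ ⟨u, hu, rfl⟩
        exact W.sub_mem (hWH _ c.2 u hu) hu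
      obtain ⟨u, hu, hfu⟩ := hmap.ge (show f v ∈ W from h2)
      exact hvW (hf hfu ▸ hu)
end Cfsg.Agent.S4178
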