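import Cfsg.Statements.S4182
-- import your own Cfsg.Agent.* helpers here

set_option autoImplicit false
open Cfsg
open Pointwise

namespace Cfsg.Agent.S4182

variable {G : Type*} [Group G] [Finite G]

/-- Elements of `p`-power order. -/
def pEls (G : Type*) [Group G] (p : ℕ) : Set G := {g : G | ∃ k : ℕ, orderOf g = p ^ k}

theorem gen_closure (p : ℕ) (A : Set G) :
    Subgroup.closure (pEls G p ∩ (Subgroup.closure (pEls G p ∩ A) : Set G)) =
      Subgroup.closure (pEls G p ∩ A) := by
  refine le_antisymm ((Subgroup.closure_le _).2 fun x hx => hx.2) ((Subgroup.closure_le _).2 ?_)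
  exact fun x hx => Subgroup.subset_closure ⟨hx.1, Subgroup.subset_closure hx⟩

/-- A `p`-group is not covered by `p` or fewer proper subgroups. -/
theorem not_covered_of_pGroup {p : ℕ} [hp : Fact p.Prime] (X : Subgroup G) (hX : IsPGroup p X)
    {ι : Type*} [Fintype ι] (K : ι → Subgroup G) (hι : Fintype.card ι ≤ p)
    (hne : X ≠ ⊥) (hK : ∀ i, ¬ X ≤ K i) : ¬ ((X : Set G) ⊆ ⋃ i, (K i : Set G)) := by
  classical
  intro hcov
  have h1 : (X : Set G) \ {1} ⊆ ⋃ i ∈ (Finset.univ : Finset ι),
      ((↑(K i ⊓ X : Subgroup G) : Set G) \ {1}) := by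
    rintro x ⟨hx, hx1⟩
    obtain ⟨i, hi⟩ := Set.mem_iUnion.1 (hcov hx)
    exact Set.mem_iUnion₂.2 ⟨i, Finset.mem_univ i, ⟨⟨hi, hx⟩, hx1⟩⟩
  have h2 := (Set.ncard_le_ncard h1 (Set.toFinite _)).trans
    (Finset.set_ncard_biUnion_le _ _)
  have hc : ∀ A : Subgroup G, ((A : Set G) \ {1}).ncard = Nat.card A - 1 := fun A => by
    rw [Set.ncard_sdiff_singleton_of_mem A.one_mem, ← Nat.card_coe_set_eq]; rfl
  rw [hc] at h2
  simp only [hc] at h2
  have hb : ∀ i, Nat.card ↥(K i ⊓ X) * p ≤ Nat.card X := by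
    intro i
    have hmul := Subgroup.card_mul_index ((K i ⊓ X).subgroupOf X)
    rw [Nat.card_congr (Subgroup.subgroupOfEquivOfLe (inf_le_right : K i ⊓ X ≤ X)).toEquiv] at hmul
    obtain ⟨n, hn⟩ := hX.exists_card_eq
    have hdvd : ((K i ⊓ X).subgroupOf X).index ∣ p ^ n := hn ▸ Dvd.intro_left _ hmul
    obtain ⟨j, _, hj⟩ := (Nat.dvd_prime_pow hp.out).1 hdvd
    have hj0 : j ≠ 0 := by
      rintro rfl
      rw [pow_zero, Subgroup.index_eq_one, Subgroup.subgroupOf_eq_top] at hj
      exact hK i (hj.trans inf_le_left)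
    calc Nat.card ↥(K i ⊓ X) * p ≤ Nat.card ↥(K i ⊓ X) * ((K i ⊓ X).subgroupOf X).index :=
          Nat.mul_le_mul_left _ (hj ▸ Nat.le_self_pow hj0 p)
      _ = Nat.card X := hmul
  have hX2 : 2 ≤ Nat.card X := by
    have : Nat.card X ≠ 1 := fun h => hne (Subgroup.eq_bot_of_card_eq X h)
    have := Nat.card_pos (α := X)
    omega
  have h3 : ∑ i : ι, (Nat.card ↥(K i ⊓ X) - 1) * p ≤ ∑ _i : ι, (Nat.card X - p) :=
    Finset.sum_le_sum fun i _ => by
      rw [Nat.sub_mul, one_mul]; exact Nat.sub_le_sub_right (hb i) p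
  rw [← Finset.sum_mul, Finset.sum_const, Finset.card_univ, smul_eq_mul] at h3
  have h4 : (Nat.card X - 1) * p ≤ p * (Nat.card X - p) :=
    (Nat.mul_le_mul_right p h2).trans (h3.trans (Nat.mul_le_mul_right _ hι))
  rw [mul_comm] at h4
  have := Nat.le_of_mul_le_mul_left h4 hp.out.pos
  have := hp.out.two_le
  omega


/-- Let p be a prime and G a finite group generated by its p-elements. If a finite family of proper subgroups of G covers the set of p-elements of G (every element of p-power order lies in one of them), then the family has at least p + 1 members. -/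
theorem result {G : Type*} [Group G] [Finite G] (p : ℕ) [Fact p.Prime] (hgen : Subgroup.closure {g : G | ∃ k : ℕ, orderOf g = p ^ k} = ⊤)
    {ι : Type*} [Fintype ι] (K : ι → Subgroup G) (hK : ∀ i, K i ≠ ⊤)
    (hcov : ∀ g : G, (∃ k : ℕ, orderOf g = p ^ k) → ∃ i, g ∈ K i) :
    p + 1 ≤ Fintype.card ι := by
  classical
  by_contra hcard
  have hι : Fintype.card ι ≤ p := by omega
  let E := pEls G p
  let T : Set (Subgroup G) :=
    {X | Subgroup.closure (E ∩ (X : Set G)) = X ∧ ∀ i, ¬ (E ∩ (X : Set G)) ⊆ (K i : Set G)}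
  have hT : (⊤ : Subgroup G) ∈ T := by
    refine ⟨by simpa [E, pEls] using hgen, fun i hi => hK i (top_le_iff.1 ?_)⟩
    rw [← hgen, Subgroup.closure_le]
    exact fun g hg => hi ⟨hg, Subgroup.mem_top g⟩
  obtain ⟨X, hX⟩ := (Set.toFinite T).exists_minimal ⟨⊤, hT⟩
  have hXgen := hX.prop.1
  have hXnot := hX.prop.2
  have hsmall : ∀ H : Subgroup G, H < X → Subgroup.closure (E ∩ (H : Set G)) = H →
      ∃ i, H ≤ K i := by
    intro H hlt hH
    by_contra hno
    push_neg at hno
    have : H ∈ T := ⟨hH, fun i hi => hno i (hH ▸ (Subgroup.closure_le _).2 hi)⟩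
    exact hlt.not_ge (hX.2 this hlt.le)
  obtain ⟨i₀, -⟩ := hcov 1 ⟨0, by simp⟩
  -- Sylow subgroup of X
  obtain ⟨P⟩ : Nonempty (Sylow p X) := Sylow.nonempty
  let Pm : Subgroup G := (P : Subgroup X).map X.subtype
  have hPmX : Pm ≤ X := Subgroup.map_subtype_le _
  have hPmE : ∀ g ∈ Pm, g ∈ E := by
    rintro _ ⟨g, hg, rfl⟩
    obtain ⟨k, hk⟩ := (IsPGroup.iff_orderOf.1 P.isPGroup') ⟨g, hg⟩
    exact ⟨k, by rw [← hk, Subgroup.orderOf_mk]; exact Subgroup.orderOf_coe g⟩
  rcases eq_or_lt_of_le hPmX with hPX | hPX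
  · -- X is a p-group
    have hXp : IsPGroup p X := hPX ▸ P.isPGroup'.map X.subtype
    have hne : X ≠ ⊥ := by
      intro h
      refine hXnot i₀ fun g hg => ?_
      rw [h] at hg
      simp only [Set.mem_inter_iff, SetLike.mem_coe, Subgroup.mem_bot] at hg
      rw [hg.2]; exact (K i₀).one_mem
    refine not_covered_of_pGroup X hXp K hι hne (fun i hi => hXnot i fun g hg => hi hg.2) ?_
    intro g hg
    exact Set.mem_iUnion.2 (hcov g (hPmE g (hPX.symm ▸ hg)))
  · let S : Set (Subgroup G) := {H | H < X ∧ Subgroup.closure (E ∩ (H : Set G)) = H ∧ Pm ≤ H}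
    have hPmgen : Subgroup.closure (E ∩ (Pm : Set G)) = Pm :=
      le_antisymm ((Subgroup.closure_le _).2 fun x hx => hx.2)
        fun x hx => Subgroup.subset_closure ⟨hPmE x hx, hx⟩
    obtain ⟨M, hM⟩ := (Set.toFinite S).exists_maximal ⟨Pm, hPX, hPmgen, le_rfl⟩
    obtain ⟨hMX, hMgen, hPM⟩ := hM.prop
    -- maximality of conjugates
    have hmax : ∀ x ∈ X, ∀ H : Subgroup G, H < X → Subgroup.closure (E ∩ (H : Set G)) = H →
        M.map (MulAut.conj x).toMonoidHom ≤ H → M.map (MulAut.conj x).toMonoidHom = H := by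
      intro x hx H hHX hH hle
      refine le_antisymm hle fun h hh => ?_
      let H' := H.map (MulAut.conj x⁻¹).toMonoidHom
      have hmem : ∀ m ∈ M, m ∈ H' := fun m hm =>
        ⟨x * m * x⁻¹, hle ⟨m, hm, rfl⟩, by simp [mul_assoc]⟩
      have hH'le : H' ≤ X := by
        rintro _ ⟨a, ha, rfl⟩
        simpa using X.mul_mem (X.mul_mem (X.inv_mem hx) (hHX.le ha)) hx
      have hH'lt : H' < X := by
        refine lt_of_le_of_ne hH'le fun heq => hHX.not_ge fun a ha => ?_
        have : x⁻¹ * a * x ∈ H' := by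
          rw [heq]; exact X.mul_mem (X.mul_mem (X.inv_mem hx) ha) hx
        obtain ⟨b, hb, hbe⟩ := this
        have : b = a := by simpa using hbe
        exact this ▸ hb
      have hH'gen : Subgroup.closure (E ∩ (H' : Set G)) = H' := by
        refine le_antisymm ((Subgroup.closure_le _).2 fun a ha => ha.2) ?_
        calc H' = (Subgroup.closure (E ∩ (H : Set G))).map (MulAut.conj x⁻¹).toMonoidHom := by
              rw [hH]
          _ ≤ _ := by
              rw [MonoidHom.map_closure, Subgroup.closure_le]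
              rintro _ ⟨a, ⟨⟨k, hk⟩, haH⟩, rfl⟩
              exact Subgroup.subset_closure
                ⟨⟨k, (MulEquiv.orderOf_eq (MulAut.conj x⁻¹) a).trans hk⟩, a, haH, rfl⟩
      have hS : H' ∈ S := ⟨hH'lt, hH'gen, fun a ha => hmem a (hPM ha)⟩
      have hmem' : x⁻¹ * h * x ∈ M := hM.2 hS (fun m hm => hmem m hm) ⟨h, hh, by simp⟩
      exact ⟨x⁻¹ * h * x, hmem', by simp [mul_assoc]⟩
    let N : Subgroup X := (Subgroup.normalizer (M : Set G)).subgroupOf X
    -- each coset gives an index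
    have hidx : ∀ x : X, ∃ i, M.map (MulAut.conj (x : G)).toMonoidHom ≤ K i ⊓ X := by
      intro x
      have hle : M.map (MulAut.conj (x : G)).toMonoidHom ≤ X := by
        rintro _ ⟨a, ha, rfl⟩
        simpa using X.mul_mem (X.mul_mem x.2 (hMX.le ha)) (X.inv_mem x.2)
      have hlt : M.map (MulAut.conj (x : G)).toMonoidHom < X := by
        refine lt_of_le_of_ne hle fun heq => hMX.not_ge fun a ha => ?_
        have : (x : G) * a * (x : G)⁻¹ ∈ M.map (MulAut.conj (x : G)).toMonoidHom := by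
          rw [heq]; exact X.mul_mem (X.mul_mem x.2 ha) (X.inv_mem x.2)
        obtain ⟨b, hb, hbe⟩ := this
        have : b = a := by simpa using hbe
        exact this ▸ hb
      have hgen' : Subgroup.closure (E ∩ ((M.map (MulAut.conj (x : G)).toMonoidHom : Subgroup G) : Set G))
          = M.map (MulAut.conj (x : G)).toMonoidHom := by
        refine le_antisymm ((Subgroup.closure_le _).2 fun a ha => ha.2) ?_
        conv_lhs => rw [← hMgen]
        rw [MonoidHom.map_closure, Subgroup.closure_le]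
        rintro _ ⟨a, ⟨⟨k, hk⟩, haM⟩, rfl⟩
        exact Subgroup.subset_closure
          ⟨⟨k, (MulEquiv.orderOf_eq (MulAut.conj (x : G)) a).trans hk⟩, a, haM, rfl⟩
      obtain ⟨i, hi⟩ := hsmall _ hlt hgen'
      exact ⟨i, le_inf hi hle⟩
    choose f hf using hidx
    have hinj : Function.Injective (fun c : X ⧸ N => f c.out) := by
      intro c d hcd
      simp only at hcd
      let H : Subgroup G := Subgroup.closure (E ∩ ((K (f c.out) ⊓ X : Subgroup G) : Set G))
      have hHle : H ≤ K (f c.out) ⊓ X := (Subgroup.closure_le _).2 fun a ha => ha.2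
      have hHlt : H < X := by
        refine lt_of_le_of_ne (hHle.trans inf_le_right) fun heq => hXnot (f c.out) fun a ha => ?_
        have : a ∈ H := heq.symm ▸ ha.2
        exact (hHle this).1
      have hin : ∀ y : X, M.map (MulAut.conj (y : G)).toMonoidHom ≤ K (f c.out) ⊓ X →
          M.map (MulAut.conj (y : G)).toMonoidHom = H := by
        intro y hy
        refine hmax y y.2 H hHlt (gen_closure p _) ?_
        conv_lhs => rw [← hMgen]
        rw [MonoidHom.map_closure, Subgroup.closure_le]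
        rintro _ ⟨a, ⟨⟨k, hk⟩, haM⟩, rfl⟩
        exact Subgroup.subset_closure
          ⟨⟨k, (MulEquiv.orderOf_eq (MulAut.conj (y : G)) a).trans hk⟩, hy ⟨a, haM, rfl⟩⟩
      have e : M.map (MulAut.conj (c.out : G)).toMonoidHom =
          M.map (MulAut.conj (d.out : G)).toMonoidHom :=
        (hin _ (hf _)).trans (hin _ (hcd ▸ hf d.out)).symm
      rw [← QuotientGroup.out_eq' c, ← QuotientGroup.out_eq' d, QuotientGroup.eq]
      show ((c.out : X) : G)⁻¹ * ((d.out : X) : G) ∈ Subgroup.normalizer (M : Set G)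
      rw [Subgroup.mem_normalizer_iff]
      intro h
      have key : ∀ a : G, a ∈ M ↔ (c.out : G) * a * (c.out : G)⁻¹ ∈
          M.map (MulAut.conj (c.out : G)).toMonoidHom := fun a =>
        ⟨fun ha => ⟨a, ha, rfl⟩, fun ⟨b, hb, hbe⟩ => by
          have : b = a := by simpa using hbe
          exact this ▸ hb⟩
      have key' : ∀ a : G, a ∈ M ↔ (d.out : G) * a * (d.out : G)⁻¹ ∈
          M.map (MulAut.conj (d.out : G)).toMonoidHom := fun a =>
        ⟨fun ha => ⟨a, ha, rfl⟩, fun ⟨b, hb, hbe⟩ => by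
          have : b = a := by simpa using hbe
          exact this ▸ hb⟩
      rw [key', key ((_ : G) * h * _), e]
      simp only [mul_assoc, mul_inv_rev, inv_inv, mul_inv_cancel_left, mul_inv_cancel, mul_one]
    have hd : Nat.card (X ⧸ N) ≤ p :=
      (Nat.card_le_card_of_injective _ hinj).trans (by rw [Nat.card_eq_fintype_card]; exact hι)
    have hpd : ¬ p ∣ N.index := by
      refine fun h => P.not_dvd_index (h.trans (Subgroup.index_dvd_of_le ?_))
      intro a ha
      exact Subgroup.le_normalizer (hPM ⟨a, ha, rfl⟩)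
    rw [← Subgroup.index_eq_card] at hd
    have hlt : N.index < p := lt_of_le_of_ne hd fun h => hpd (h ▸ dvd_rfl)
    have hfix : X ≤ Subgroup.normalizer (M : Set G) := by
      conv_lhs => rw [← hXgen]
      rw [Subgroup.closure_le]
      rintro g ⟨⟨k, hk⟩, hgX⟩
      let σ := MulAction.toPermHom X (X ⧸ N)
      have h1 : orderOf (σ ⟨g, hgX⟩) ∣ p ^ k := by
        refine (orderOf_map_dvd σ _).trans ?_
        rw [← hk, ← Subgroup.orderOf_coe]
      have h2 : orderOf (σ ⟨g, hgX⟩) ∣ N.index.factorial := by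
        rw [Subgroup.index_eq_card, ← Nat.card_perm]
        exact orderOf_dvd_natCard _
      have h3 : Nat.Coprime (p ^ k) N.index.factorial :=
        ((Fact.out : p.Prime).coprime_iff_not_dvd.2
          (fun h => hlt.not_ge ((Fact.out : p.Prime).dvd_factorial.1 h))).pow_left k
      have h4 : σ ⟨g, hgX⟩ = 1 := orderOf_eq_one_iff.1 (Nat.eq_one_of_dvd_coprimes h3 h1 h2)
      have h5 := congrArg (fun e : Equiv.Perm (X ⧸ N) => e ((1 : X) : X ⧸ N)) h4
      simp only [σ, MulAction.toPermHom_apply, MulAction.toPerm_apply, Equiv.Perm.coe_one, id_eq] at h5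
      rw [MulAction.Quotient.smul_coe, smul_eq_mul, mul_one, QuotientGroup.eq, mul_one] at h5
      exact (Subgroup.normalizer (M : Set G)).inv_mem_iff.1 (by simpa [N, Subgroup.mem_subgroupOf] using h5)
    apply hMX.not_ge
    conv_lhs => rw [← hXgen]
    rw [Subgroup.closure_le]
    rintro g ⟨⟨k, hk⟩, hgX⟩
    obtain ⟨Q, hQ⟩ := IsPGroup.exists_le_sylow (IsPGroup.of_card (n := k)
      (show Nat.card (Subgroup.zpowers (⟨g, hgX⟩ : X)) = p ^ k by
        rw [Nat.card_zpowers, ← hk, ← Subgroup.orderOf_coe]))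
    obtain ⟨z, hz⟩ := MulAction.exists_smul_eq X P Q
    have hg : (⟨g, hgX⟩ : X) ∈ (Q : Subgroup X) := hQ (Subgroup.mem_zpowers _)
    rw [← hz, Sylow.coe_subgroup_smul, Subgroup.mem_pointwise_smul_iff_inv_smul_mem] at hg
    have hm : ((z : G))⁻¹ * g * z ∈ M := hPM ⟨_, hg, by simp⟩
    have := (Subgroup.mem_normalizer_iff.1 (hfix z.2) _).1 hm
    simpa [mul_assoc] using this

end Cfsg.Agent.S4182
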