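import Cfsg.Statements.S4184
import Cfsg.Agent.Lib.FGB.Basic

set_option autoImplicit false
universe u v
open Cfsg

namespace Cfsg.Agent.S4184

open Cfsg.Agent.FGB
open scoped Pointwise

theorem same_side {M : Type*} [Group M] [Finite M] (A : Set ℕ)
    (hA : ∀ a ∈ A, ∀ b ∉ A, a.Prime → b.Prime → a ∣ Nat.card M → b ∣ Nat.card M →
      ¬ ∃ x : M, orderOf x = a * b)
    {x : M} (hx : x ≠ 1) {t t' : ℕ} (ht : t.Prime) (ht' : t'.Prime)
    (h : t ∣ Nat.card (Subgroup.centralizer ({x} : Set M)))
    (h' : t' ∣ Nat.card (Subgroup.centralizer ({x} : Set M))) : t ∈ A → t' ∈ A := by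
  -- two commuting elements of distinct prime orders lie on the same side
  have key : ∀ (c d : ℕ) (u v : M), c.Prime → d.Prime → orderOf u = c → orderOf v = d →
      Commute u v → (c ∈ A ↔ d ∈ A) := by
    intro c d u v hc hd hu hv huv
    rcases eq_or_ne c d with rfl | hne
    · exact Iff.rfl
    have ho : orderOf (u * v) = c * d := by
      rw [huv.orderOf_mul_eq_mul_orderOf_of_coprime (by rw [hu, hv]; exact (Nat.coprime_primes hc hd).mpr hne), hu, hv]
    have hcM : c ∣ Nat.card M := hu ▸ orderOf_dvd_natCard u
    have hdM : d ∣ Nat.card M := hv ▸ orderOf_dvd_natCard v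
    constructor
    · intro hcA
      by_contra hdA
      exact hA c hcA d hdA hc hd hcM hdM ⟨_, ho⟩
    · intro hdA
      by_contra hcA
      exact hA d hdA c hcA hd hc hdM hcM ⟨_, ho.trans (mul_comm _ _)⟩
  obtain ⟨q, hq, hqd⟩ := Nat.exists_prime_and_dvd (n := orderOf x) (by rwa [Ne, orderOf_eq_one_iff])
  let z := x ^ (orderOf x / q)
  have hz : orderOf z = q := orderOf_pow_orderOf_div (orderOf_pos x).ne' hqd
  have hto : ∀ c : ℕ, c.Prime → c ∣ Nat.card (Subgroup.centralizer ({x} : Set M)) → (q ∈ A ↔ c ∈ A) := by
    intro c hc hcd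
    haveI := Fact.mk hc
    obtain ⟨u, hu⟩ := exists_prime_orderOf_dvd_card' c hcd
    have hux : Commute (u : M) x := Subgroup.mem_centralizer_singleton_iff.mp u.2
    exact key q c z u hq hc hz (by rw [Subgroup.orderOf_coe]; exact hu) ((hux.symm).pow_left _)
  intro htA
  exact (hto t' ht' h').mp ((hto t ht h).mpr htA)

theorem main {G : Type u} {M : Type v}
    [Group G] [Finite G] [Group M] [Finite M] (hZG : Subgroup.center G = ⊥) (hZM : Subgroup.center M = ⊥)
    (h : Set.range (fun g : G => (Subgroup.centralizer ({g} : Set G)).index) = Set.range (fun g : M => (Subgroup.centralizer ({g} : Set M)).index))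
    (A : Set ℕ) (a0 b0 : ℕ) (ha0A : a0 ∈ A) (ha0 : a0.Prime) (ha0M : a0 ∣ Nat.card M)
    (hb0A : b0 ∉ A) (hb0 : b0.Prime) (hb0M : b0 ∣ Nat.card M)
    (hA : ∀ a ∈ A, ∀ b ∉ A, a.Prime → b.Prime → a ∣ Nat.card M → b ∣ Nat.card M →
      ¬ ∃ x : M, orderOf x = a * b) :
    Nat.card G = Nat.card M := by
  classical
  let ιG := fun g : G => (Subgroup.centralizer ({g} : Set G)).index
  let ιM := fun g : M => (Subgroup.centralizer ({g} : Set M)).index
  have toM : ∀ g : G, ∃ x : M, ιM x = ιG g := fun g => by
    have : ιG g ∈ Set.range ιM := h ▸ Set.mem_range_self g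
    exact this
  have toG : ∀ x : M, ∃ g : G, ιG g = ιM x := fun x => by
    have : ιM x ∈ Set.range ιG := h.symm ▸ Set.mem_range_self x
    exact this
  have hMpos : Nat.card M ≠ 0 := Nat.card_pos.ne'
  have hGpos : Nat.card G ≠ 0 := Nat.card_pos.ne'
  -- primes not dividing the index divide the centraliser
  have dvdC : ∀ (x : M) (t : ℕ), t.Prime →
      (ιM x).factorization t < (Nat.card M).factorization t →
      t ∣ Nat.card (Subgroup.centralizer ({x} : Set M)) := by
    intro x t ht hlt
    rw [← (Subgroup.centralizer ({x} : Set M)).card_mul_index] at hlt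
    rw [Nat.factorization_mul Nat.card_pos.ne' Subgroup.index_ne_zero_of_finite, Finsupp.add_apply] at hlt
    exact Nat.dvd_of_factorization_pos (by simp only [ιM] at hlt; omega)
  have le_M : ∀ (x : M) (t : ℕ), (ιM x).factorization t ≤ (Nat.card M).factorization t := fun x t =>
    (Nat.factorization_le_iff_dvd Subgroup.index_ne_zero_of_finite hMpos).mpr (Subgroup.index_dvd_card _) t
  -- for a nontrivial class, deficient primes lie on one side
  have deficient : ∀ x : M, 1 < ιM x → ∀ t t' : ℕ, t.Prime → t'.Prime →
      (ιM x).factorization t < (Nat.card M).factorization t →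
      (ιM x).factorization t' < (Nat.card M).factorization t' → (t ∈ A ↔ t' ∈ A) := by
    intro x hx t t' ht ht' h1 h2
    have hx1 : x ≠ 1 := by
      rintro rfl
      have e : Subgroup.centralizer ({(1 : M)} : Set M) = ⊤ :=
        centralizer_singleton_eq_top_iff.mpr (one_mem _)
      simp only [ιM, e, Subgroup.index_top] at hx
      exact lt_irrefl 1 hx
    exact ⟨same_side A hA hx1 ht ht' (dvdC x t ht h1) (dvdC x t' ht' h2),
      same_side A hA hx1 ht' ht (dvdC x t' ht' h2) (dvdC x t ht h1)⟩
  -- opposite primes
  have opp : ∀ r : ℕ, ∃ s : ℕ, s.Prime ∧ s ∣ Nat.card M ∧ ¬ (r ∈ A ↔ s ∈ A) := by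
    intro r
    by_cases hr : r ∈ A
    · exact ⟨b0, hb0, hb0M, by tauto⟩
    · exact ⟨a0, ha0, ha0M, by tauto⟩
  -- #M divides #G
  have hle : ∀ r : ℕ, (Nat.card M).factorization r ≤ (Nat.card G).factorization r := by
    intro r
    by_cases hr0 : (Nat.card M).factorization r = 0
    · omega
    have hr : r.Prime := by
      by_contra hnp
      exact hr0 (Nat.factorization_eq_zero_of_not_prime _ hnp)
    obtain ⟨s, hs, hsM, hrs⟩ := opp r
    haveI := Fact.mk hs
    obtain ⟨x, hx⟩ := exists_prime_orderOf_dvd_card' (G := M) s hsM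
    have hx1 : x ≠ 1 := by
      rintro rfl
      rw [orderOf_one] at hx
      exact hs.one_lt.ne hx
    have hfull : (Nat.card M).factorization r ≤ (ιM x).factorization r := by
      by_contra hlt
      push Not at hlt
      have hsC : s ∣ Nat.card (Subgroup.centralizer ({x} : Set M)) := by
        conv_lhs => rw [← hx]
        exact Subgroup.orderOf_dvd_natCard _ (mem_centralizer_singleton_self x)
      exact hrs ⟨same_side A hA hx1 hr hs (dvdC x r hr hlt) hsC,
        same_side A hA hx1 hs hr hsC (dvdC x r hr hlt)⟩
    obtain ⟨g, hg⟩ := toG x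
    have := (Nat.factorization_le_iff_dvd (Subgroup.index_ne_zero_of_finite (H := Subgroup.centralizer ({g} : Set G))) hGpos).mpr (Subgroup.index_dvd_card _) r
    change (ιG g).factorization r ≤ _ at this
    rw [hg] at this
    omega
  refine Nat.eq_of_factorization_eq hGpos hMpos fun r => le_antisymm ?_ (hle r)
  by_contra hlt
  push Not at hlt
  have hr : r.Prime := by
    by_contra hnp
    simp [Nat.factorization_eq_zero_of_not_prime _ hnp] at hlt
  haveI := Fact.mk hr
  have facG : ∀ g : G, (Nat.card (Subgroup.centralizer ({g} : Set G))).factorization r + (ιG g).factorization r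
      = (Nat.card G).factorization r := by
    intro g
    rw [← (Subgroup.centralizer ({g} : Set G)).card_mul_index,
      Nat.factorization_mul Nat.card_pos.ne' Subgroup.index_ne_zero_of_finite]
    rfl
  have le_MG : ∀ (g : G) (t : ℕ), (ιG g).factorization t ≤ (Nat.card M).factorization t := by
    intro g t
    obtain ⟨x, hx⟩ := toM g
    exact hx ▸ le_M x t
  obtain ⟨R⟩ := (inferInstance : Nonempty (Sylow r G))
  rcases Nat.eq_zero_or_pos ((Nat.card M).factorization r) with hb | hb
  · -- every element centralises a conjugate of R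
    have hC : Subgroup.centralizer ((R : Subgroup G) : Set G) = ⊤ := by
      refine eq_top_of_conj_cover fun g => ?_
      obtain ⟨S⟩ := (inferInstance : Nonempty (Sylow r (Subgroup.centralizer ({g} : Set G))))
      let S' := (S : Subgroup (Subgroup.centralizer ({g} : Set G))).map (Subgroup.subtype _)
      have hS' : IsPGroup r S' := S.2.map _
      obtain ⟨R', hR'⟩ := hS'.exists_le_sylow
      have hcard : Nat.card S' = Nat.card (R' : Subgroup G) := by
        rw [Subgroup.card_map_of_injective (Subgroup.subtype_injective _),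
          S.card_eq_multiplicity, R'.card_eq_multiplicity]
        have h1 := le_MG g r
        have h2 := facG g
        congr 1
        omega
      have heq : S' = (R' : Subgroup G) := Subgroup.eq_of_le_of_card_ge hR' hcard.ge
      obtain ⟨x, hx⟩ := MulAction.exists_smul_eq G R' R
      refine ⟨x, ?_⟩
      rw [Subgroup.mem_centralizer_iff]
      intro y hy
      rw [← hx] at hy
      have hy' : y ∈ MulAut.conj x • (R' : Subgroup G) := hy
      obtain ⟨z, hz, rfl⟩ := hy'
      have hz' : z ∈ S' := heq ▸ hz
      obtain ⟨w, -, rfl⟩ := hz'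
      have hw : (w : G) * g = g * w := Subgroup.mem_centralizer_singleton_iff.mp w.2
      show x * (w : G) * x⁻¹ * (x * g * x⁻¹) = x * g * x⁻¹ * (x * (w : G) * x⁻¹)
      calc x * (w : G) * x⁻¹ * (x * g * x⁻¹) = x * ((w : G) * g) * x⁻¹ := by group
        _ = x * (g * w) * x⁻¹ := by rw [hw]
        _ = _ := by group
    rw [Subgroup.centralizer_eq_top_iff_subset, hZG] at hC
    have : (R : Subgroup G) = ⊥ := le_bot_iff.mp hC
    have hc := R.card_eq_multiplicity
    rw [this, Subgroup.card_bot] at hc
    have : (Nat.card G).factorization r = 0 := by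
      by_contra hne
      exact (Nat.one_lt_pow hne hr.one_lt).ne hc
    omega
  · obtain ⟨s, hs, hsM, hrs⟩ := opp r
    haveI := Fact.mk hs
    have hsG : s ∣ Nat.card G := by
      refine Nat.dvd_of_factorization_pos ?_
      have := hle s
      have := hs.factorization_pos_of_dvd hMpos hsM
      omega
    obtain ⟨S⟩ := (inferInstance : Nonempty (Sylow s G))
    haveI : Nontrivial (S : Subgroup G) := (Subgroup.nontrivial_iff_ne_bot _).mpr (S.ne_bot_of_dvd_card hsG)
    haveI := S.2.center_nontrivial
    obtain ⟨w0, hw0⟩ := exists_ne (1 : Subgroup.center (S : Subgroup G))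
    let w : G := ((w0 : (S : Subgroup G)) : G)
    have hw1 : w ≠ 1 := by simpa [w] using hw0
    have hwS : (S : Subgroup G) ≤ Subgroup.centralizer ({w} : Set G) := by
      intro y hy
      rw [Subgroup.mem_centralizer_singleton_iff]
      exact congrArg Subtype.val (Subgroup.mem_center_iff.mp w0.2 ⟨y, hy⟩)
    have hws : (ιG w).factorization s = 0 := by
      refine Nat.factorization_eq_zero_of_not_dvd fun hdv => ?_
      exact S.not_dvd_index (hdv.trans (Subgroup.index_dvd_of_le hwS))
    have hwn : 1 < ιG w := one_lt_index_centralizer hZG hw1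
    have hsdef : (ιG w).factorization s < (Nat.card M).factorization s := by
      rw [hws]; exact hs.factorization_pos_of_dvd hMpos hsM
    -- everything on the side of r is full in the class of w
    have hwfull : ∀ t : ℕ, t.Prime → ¬ (t ∈ A ↔ s ∈ A) →
        (ιG w).factorization t = (Nat.card M).factorization t := by
      intro t ht hts
      refine le_antisymm (le_MG w t) ?_
      by_contra hlt'
      push Not at hlt'
      obtain ⟨x, hx⟩ := toM w
      exact hts (deficient x (hx ▸ hwn) t s ht hs (hx ▸ hlt') (hx ▸ hsdef))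
    have hwr := hwfull r hr hrs
    -- r-elements commuting with w
    have hu : ∀ u : G, u ≠ 1 → (∃ k, orderOf u = r ^ k) → Commute u w →
        (ιG u).factorization r = (Nat.card M).factorization r := by
      rintro u hu1 ⟨k, hk⟩ huw
      refine le_antisymm (le_MG u r) ?_
      by_contra hlt'
      push Not at hlt'
      obtain ⟨x, hx⟩ := toM u
      obtain ⟨j, hj⟩ := IsPGroup.iff_orderOf.mp S.2 (w0 : (S : Subgroup G))
      have hwo : orderOf w = s ^ j := by rw [← hj]; exact Subgroup.orderOf_coe _
      have hsr : r ≠ s := by rintro rfl; exact hrs Iff.rfl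
      have hco : (orderOf u).Coprime (orderOf w) := by
        rw [hk, hwo]; exact Nat.Coprime.pow _ _ ((Nat.coprime_primes hr hs).mpr hsr)
      have hCuw := centralizer_mul_of_coprime huw hco
      have hdu : ιG u ∣ ιG (u * w) := by
        simp only [ιG, hCuw]; exact Subgroup.index_dvd_of_le inf_le_left
      have hdw : ιG w ∣ ιG (u * w) := by
        simp only [ιG, hCuw]; exact Subgroup.index_dvd_of_le inf_le_right
      obtain ⟨y, hy⟩ := toM (u * w)
      have hn0 : ιG (u * w) ≠ 0 := Subgroup.index_ne_zero_of_finite
      have hfull : ∀ t : ℕ, (ιG (u * w)).factorization t = (Nat.card M).factorization t := by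
        intro t
        refine le_antisymm (le_MG _ t) ?_
        by_cases ht : t.Prime
        swap
        · simp [Nat.factorization_eq_zero_of_not_prime _ ht]
        by_cases hts : (t ∈ A ↔ s ∈ A)
        · have h1 : (Nat.card M).factorization t ≤ (ιG u).factorization t := by
            by_contra hlt2
            push Not at hlt2
            have := deficient x (hx ▸ one_lt_index_centralizer hZG hu1) t r ht hr (hx ▸ hlt2) (hx ▸ hlt')
            exact hrs (this.symm.trans hts)
          exact h1.trans ((Nat.factorization_le_iff_dvd Subgroup.index_ne_zero_of_finite hn0).mpr hdu t)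
        · rw [← hwfull t ht hts]
          exact (Nat.factorization_le_iff_dvd Subgroup.index_ne_zero_of_finite hn0).mpr hdw t
      have hcard : ιM y = Nat.card M := by
        rw [hy]; exact Nat.eq_of_factorization_eq hn0 hMpos hfull
      have hbot : Subgroup.centralizer ({y} : Set M) = ⊥ := Subgroup.eq_bot_of_card_eq _ (by
        have := (Subgroup.centralizer ({y} : Set M)).card_mul_index
        simp only [ιM] at hcard
        rw [hcard] at this
        exact (Nat.mul_eq_right hMpos).mp this)
      have hy1 : y = 1 := by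
        have := mem_centralizer_singleton_self y
        rwa [hbot, Subgroup.mem_bot] at this
      rw [hy1, centralizer_singleton_eq_top_iff.mpr (one_mem _)] at hbot
      have : Nat.card M = 1 := by rw [← Subgroup.card_top (G := M), hbot, Subgroup.card_bot]
      exact hs.one_lt.ne' (Nat.dvd_one.mp (this ▸ hsM))
    -- Sylow r-subgroup of C(w)
    obtain ⟨T⟩ := (inferInstance : Nonempty (Sylow r (Subgroup.centralizer ({w} : Set G))))
    let T' := (T : Subgroup (Subgroup.centralizer ({w} : Set G))).map (Subgroup.subtype _)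
    have hT' : IsPGroup r T' := T.2.map _
    have hTcard : Nat.card T' = r ^ ((Nat.card G).factorization r - (Nat.card M).factorization r) := by
      rw [Subgroup.card_map_of_injective (Subgroup.subtype_injective _),
          T.card_eq_multiplicity]
      have := facG w
      congr 1
      omega
    have hTC : ∀ y ∈ T', Commute y w := by
      rintro y ⟨z, -, rfl⟩
      exact Subgroup.mem_centralizer_singleton_iff.mp z.2
    haveI : Nontrivial T' := by
      rw [Subgroup.nontrivial_iff_ne_bot]
      intro hb'
      rw [hb', Subgroup.card_bot] at hTcard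
      exact (Nat.one_lt_pow (by omega) hr.one_lt).ne hTcard
    haveI := hT'.center_nontrivial
    obtain ⟨u0, hu0⟩ := exists_ne (1 : Subgroup.center T')
    let u : G := ((u0 : T') : G)
    have hu1 : u ≠ 1 := by simpa [u] using hu0
    have huT : u ∈ T' := (u0 : T').2
    have hur : ∀ y : T', ∃ k, orderOf (y : G) = r ^ k := fun y => by
      obtain ⟨k, hk⟩ := IsPGroup.iff_orderOf.mp hT' y
      exact ⟨k, by rw [Subgroup.orderOf_coe, hk]⟩
    have hub := hu u hu1 (hur _) (hTC u huT)
    obtain ⟨R1, hR1⟩ := hT'.exists_le_sylow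
    let D := Subgroup.centralizer ({u} : Set G) ⊓ (R1 : Subgroup G)
    have hTD : T' ≤ D := le_inf (fun y hy => Subgroup.mem_centralizer_singleton_iff.mpr
      (congrArg Subtype.val (Subgroup.mem_center_iff.mp u0.2 ⟨y, hy⟩))) hR1
    have hDp : IsPGroup r D := R1.2.to_inf_right
    have hDcard : Nat.card D ≤ Nat.card T' := by
      refine (card_le_pow_factorization hDp inf_le_left).trans ?_
      rw [hTcard]
      refine Nat.pow_le_pow_right hr.pos ?_
      have := facG u
      omega
    have hDT : T' = D := Subgroup.eq_of_le_of_card_ge hTD hDcard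
    haveI : Nontrivial (R1 : Subgroup G) := by
      rw [Subgroup.nontrivial_iff_ne_bot]
      intro hb'
      rw [hb'] at hR1
      exact hu1 (by simpa using hR1 huT)
    haveI := R1.2.center_nontrivial
    obtain ⟨z0, hz0⟩ := exists_ne (1 : Subgroup.center (R1 : Subgroup G))
    let z : G := ((z0 : (R1 : Subgroup G)) : G)
    have hz1 : z ≠ 1 := by simpa [z] using hz0
    have hzT : z ∈ T' := by
      rw [hDT]
      refine ⟨Subgroup.mem_centralizer_singleton_iff.mpr ?_, (z0 : (R1 : Subgroup G)).2⟩
      exact (congrArg Subtype.val (Subgroup.mem_center_iff.mp z0.2 ⟨u, hR1 huT⟩)).symm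
    have hzb := hu z hz1 (hur ⟨z, hzT⟩) (hTC z hzT)
    have hzR : (R1 : Subgroup G) ≤ Subgroup.centralizer ({z} : Set G) := fun y hy =>
      Subgroup.mem_centralizer_singleton_iff.mpr
        (congrArg Subtype.val (Subgroup.mem_center_iff.mp z0.2 ⟨y, hy⟩))
    have : (ιG z).factorization r = 0 :=
      Nat.factorization_eq_zero_of_not_dvd fun hdv => R1.not_dvd_index (hdv.trans (Subgroup.index_dvd_of_le hzR))
    omega


/-- Let G and M be finite groups with trivial centres and the same set of conjugacy class sizes, and suppose the prime graph of M is disconnected: the prime divisors of #M split into two non-empty parts such that M has no element of order pq with p in one part and q in the other. Then #G = #M. -/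
theorem result {G M : Type*}
    [Group G] [Finite G] [Group M] [Finite M] (hZG : Subgroup.center G = ⊥) (hZM : Subgroup.center M = ⊥)
    (h : Set.range (fun g : G => (Subgroup.centralizer ({g} : Set G)).index) = Set.range (fun g : M => (Subgroup.centralizer ({g} : Set M)).index))
    (hdisc : ∃ A : Set ℕ, (∃ a ∈ A, a.Prime ∧ a ∣ Nat.card M) ∧ (∃ b ∉ A, b.Prime ∧ b ∣ Nat.card M) ∧
      ∀ a ∈ A, ∀ b ∉ A, a.Prime → b.Prime → a ∣ Nat.card M → b ∣ Nat.card M → ¬ ∃ x : M, orderOf x = a * b) :
    Nat.card G = Nat.card M := by
  obtain ⟨A, ⟨a, haA, ha, haM⟩, ⟨b, hbA, hb, hbM⟩, hA⟩ := hdisc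
  exact main hZG hZM h A a b haA ha haM hbA hb hbM hA

end Cfsg.Agent.S4184
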