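import Cfsg.Statements.S4186
-- import your own Cfsg.Agent.* helpers here

set_option autoImplicit false
open Cfsg

namespace Cfsg.Agent.S4186

/-- Let T and X be subgroups of a group with T a finite 2-group normalizing X but not centralizing it. Then some element of T inverts some non-identity element of X under conjugation. -/
theorem result {G : Type*} [Group G] (T X : Subgroup G) [Finite ↥T] (hT : IsPGroup 2 ↥T) (hTN : T ≤ Subgroup.normalizer (X : Set G)) (hTC : ¬ T ≤ Subgroup.centralizer (X : Set G)) : ∃ t ∈ T, ∃ x ∈ X, x ≠ 1 ∧ t * x * t⁻¹ = x⁻¹ := by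
  classical
  have hex : ∃ t ∈ T, t ∉ Subgroup.centralizer (X : Set G) ∧ t ^ 2 ∈ Subgroup.centralizer (X : Set G) := by
    obtain ⟨t, htT, ht⟩ := SetLike.not_le_iff_exists.mp hTC
    obtain ⟨k, hk⟩ := hT ⟨t, htT⟩
    have hk' : t ^ 2 ^ k = 1 := congrArg Subtype.val hk
    have hex : ∃ i, t ^ 2 ^ i ∈ Subgroup.centralizer (X : Set G) := ⟨k, hk' ▸ one_mem _⟩
    set i := Nat.find hex with hi
    have hi0 : i ≠ 0 := by
      intro h0
      have := Nat.find_spec hex
      rw [← hi, h0, pow_zero, pow_one] at this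
      exact ht this
    obtain ⟨j, hj⟩ := Nat.exists_eq_succ_of_ne_zero hi0
    refine ⟨t ^ 2 ^ j, T.pow_mem htT _, Nat.find_min hex (by rw [← hi, hj]; exact Nat.lt_succ_self j), ?_⟩
    rw [← pow_mul, ← pow_succ, ← Nat.succ_eq_add_one, ← hj]
    exact Nat.find_spec hex
  obtain ⟨t, htT, ht, ht2⟩ := hex
  rw [Subgroup.mem_centralizer_iff] at ht
  push Not at ht
  obtain ⟨x, hx, hxt⟩ := ht
  refine ⟨t, htT, x⁻¹ * (t * x * t⁻¹),
    X.mul_mem (X.inv_mem hx) ((Subgroup.mem_normalizer_iff.mp (hTN htT) x).mp hx), ?_, ?_⟩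
  · intro h1
    rw [inv_mul_eq_one] at h1
    apply hxt
    conv_lhs => rw [h1]
    group
  · have h2 := Subgroup.mem_centralizer_iff.mp ht2 x hx
    have h3 : t * (t * x * t⁻¹) * t⁻¹ = x := by
      have : t * (t * x * t⁻¹) * t⁻¹ = t ^ 2 * x * (t ^ 2)⁻¹ := by rw [sq, mul_inv_rev]; simp only [mul_assoc]
      rw [this, ← h2, mul_inv_cancel_right]
    calc t * (x⁻¹ * (t * x * t⁻¹)) * t⁻¹ = (t * x * t⁻¹)⁻¹ * (t * (t * x * t⁻¹) * t⁻¹) := by group
      _ = _ := by rw [h3]; group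

end Cfsg.Agent.S4186
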