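import Cfsg.Statements.S4188
import Mathlib
import Cfsg.Agent.Lib.FGB.TwoLinear
-- import your own Cfsg.Agent.* helpers here

set_option autoImplicit false
open Cfsg
open scoped IsMulCommutative

namespace Cfsg.Agent.S4188

/-- Let G be a finite group that is the semidirect product of a normal abelian subgroup N of odd order by a 2-subgroup P, and suppose N is the unique minimal normal subgroup of G. Then the index of the Frattini subgroup of P in P is at most #N − 1. -/
theorem result {G : Type*} [Group G] [Finite G] (N P : Subgroup G) (hN : N.Normal) (hNab : IsMulCommutative ↥N) (hNodd : Odd (Nat.card ↥N)) (hP : IsPGroup 2 ↥P) (hdisj : N ⊓ P = ⊥) (hprod : N ⊔ P = ⊤) (hmin : N ≠ ⊥ ∧ ∀ M : Subgroup G, M.Normal → M ≠ ⊥ → N ≤ M) : (frattini ↥P).index ≤ Nat.card ↥N - 1 := by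
  haveI := hN
  haveI := hNab
  let φ : ↥P →* MulAut ↥N := (MulAut.conjNormal (H := N)).comp P.subtype
  have hker : φ.ker.map P.subtype = P ⊓ Subgroup.centralizer (N : Set G) := by
    ext x
    constructor
    · rintro ⟨u, hu, rfl⟩
      refine ⟨u.2, Subgroup.mem_centralizer_iff.mpr fun a ha => ?_⟩
      have h1 : (u : G) * a * (u : G)⁻¹ = a := by
        have := congrArg Subtype.val (DFunLike.congr_fun (MonoidHom.mem_ker.mp hu) (⟨a, ha⟩ : ↥N))
        simpa [φ, MulAut.conjNormal_apply] using this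
      exact (mul_inv_eq_iff_eq_mul.mp h1).symm
    · rintro ⟨hxP, hxC⟩
      refine ⟨⟨x, hxP⟩, MonoidHom.mem_ker.mpr (MulEquiv.ext fun a => Subtype.ext ?_), rfl⟩
      have := Subgroup.mem_centralizer_iff.mp hxC a a.2
      simp [φ, MulAut.conjNormal_apply, ← this]
  have hKn : (φ.ker.map P.subtype).Normal := by
    rw [← Subgroup.normalizer_eq_top_iff, eq_top_iff, ← hprod, sup_le_iff]
    constructor
    · intro a ha
      rw [Subgroup.mem_normalizer_iff]
      have hc : ∀ x ∈ φ.ker.map P.subtype, a * x * a⁻¹ = x := fun x hx => by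
        rw [hker] at hx
        rw [Subgroup.mem_centralizer_iff.mp hx.2 a ha, mul_inv_cancel_right]
      intro x
      refine ⟨fun hx => (hc x hx).symm ▸ hx, fun hx => ?_⟩
      have h1 := hc _ hx
      have : a * x * a⁻¹ = x := mul_left_cancel (a := a) (by
        calc a * (a * x * a⁻¹) = a * (a * x * a⁻¹) * a⁻¹ * a := by group
          _ = a * x * a⁻¹ * a := by rw [h1]
          _ = a * x := by group)
      rwa [this] at hx
    · intro u hu
      rw [Subgroup.mem_normalizer_iff_map_conj_eq]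
      refine Subgroup.eq_of_le_of_card_ge ?_ (le_of_eq (Subgroup.card_map_of_injective (MulAut.conj u).injective).symm)
      rintro _ ⟨_, ⟨k, hk, rfl⟩, rfl⟩
      exact ⟨(⟨u, hu⟩ : ↥P) * k * (⟨u, hu⟩ : ↥P)⁻¹, φ.normal_ker.conj_mem k hk _, rfl⟩
  have hφ : Function.Injective φ := by
    rw [← MonoidHom.ker_eq_bot_iff]
    by_contra hne
    have hK : φ.ker.map P.subtype ≠ ⊥ := fun h => hne ((Subgroup.map_eq_bot_iff_of_injective _ P.subtype_injective).mp h)
    have := hmin.2 _ hKn hK
    exact hmin.1 (le_bot_iff.mp (hdisj ▸ le_inf le_rfl (this.trans (Subgroup.map_subtype_le _))))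
  have hN1 : 1 < Nat.card ↥N := (Subgroup.one_lt_card_iff_ne_bot N).mpr hmin.1
  exact (FGB.frClaim _ ↥N rfl hNodd hN1 ↥P φ hφ hP).trans (FGB.frBound_le _ hN1)

end Cfsg.Agent.S4188
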