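import Cfsg.Statements.S4194
import Cfsg.Agent.Lib.Fusion.CentralConjGroup

set_option autoImplicit false
open Cfsg

namespace Cfsg.Agent.S4194

/-- A finite group G has commutative Sylow 2-subgroups if and only if every 2-element of G (element of order a power of 2) is 2-central, that is, its centralizer contains a Sylow 2-subgroup of G. -/
theorem result {G : Type*} [Group G] [Finite G] (P : Sylow 2 G) :
    IsMulCommutative (P : Subgroup G) ↔ ∀ x : G, (∃ k : ℕ, orderOf x = 2 ^ k) → (∃ Q : Sylow 2 G, (Q : Subgroup G) ≤ Subgroup.centralizer ({x} : Set G)) := by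
  refine ⟨fun hP x hx => ?_, fun h => Fusion.CentralConj.sylow_isMulCommutative P fun x hx => ?_⟩
  · obtain ⟨k, hk⟩ := hx
    obtain ⟨Q, hQ⟩ := (IsPGroup.of_card (n := k) ((Nat.card_zpowers x).trans hk)).exists_le_sylow
    have hQc : IsMulCommutative (Q : Subgroup G) := by
      let e := Sylow.equiv P Q
      exact ⟨⟨fun a b => e.symm.injective (by rw [map_mul, map_mul, mul_comm' (e.symm a) (e.symm b)])⟩⟩
    exact ⟨Q, fun q hq => Subgroup.mem_centralizer_singleton_iff.mpr
      (setLike_mul_comm hq (hQ (Subgroup.mem_zpowers x)))⟩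
  · obtain ⟨k, hk⟩ := IsPGroup.iff_orderOf.mp P.2 ⟨x, hx⟩
    exact h x ⟨k, by rw [← hk, Subgroup.orderOf_mk]⟩

end Cfsg.Agent.S4194
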