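import Cfsg.Statements.S4195
-- import your own Cfsg.Agent.* helpers here

set_option autoImplicit false
open Cfsg
open scoped Pointwise commutatorElement
set_option linter.all false

namespace Cfsg.Agent.S4195

theorem two_central_real {G : Type*} [Group G] [Finite G] (x : G) (hx : x ≠ 1) (P : Sylow 2 G)
    (hP : (P : Subgroup G) ≤ Subgroup.centralizer ({x} : Set G)) (hreal : IsConj x x⁻¹) :
    orderOf x = 2 := by
  obtain ⟨g, hg⟩ := isConj_iff.mp hreal
  set C := Subgroup.centralizer ({x} : Set G) with hC
  set N := Subgroup.normalizer (C : Set G)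
  have hgC : ∀ y : G, y ∈ C ↔ g * y * g⁻¹ ∈ C := by
    intro y
    simp only [hC, Subgroup.mem_centralizer_singleton_iff]
    have hflip : ∀ z : G, z * x = x * z ↔ x⁻¹ * z = z * x⁻¹ := fun z => by
      constructor
      · intro h; exact ((Commute.symm (h : Commute z x)).inv_left).eq
      · intro h
        have h' : Commute x⁻¹ z := h
        have := h'.inv_left
        rw [inv_inv] at this
        exact this.symm.eq
    rw [hflip (g * y * g⁻¹), eq_comm]
    rw [← hg]
    constructor
    · intro h
      calc g * x * g⁻¹ * (g * y * g⁻¹) = g * (x * y) * g⁻¹ := by group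
        _ = g * (y * x) * g⁻¹ := by rw [h]
        _ = g * y * g⁻¹ * (g * x * g⁻¹) := by group
    · intro h
      have : g * (x * y) * g⁻¹ = g * (y * x) * g⁻¹ := by
        calc g * (x * y) * g⁻¹ = g * x * g⁻¹ * (g * y * g⁻¹) := by group
          _ = g * y * g⁻¹ * (g * x * g⁻¹) := h
          _ = g * (y * x) * g⁻¹ := by group
      exact mul_left_cancel (mul_right_cancel this)
  have hgN : g ∈ N := Subgroup.mem_normalizer_iff.mpr hgC
  obtain ⟨k, m, hm2, hm⟩ := Nat.exists_eq_two_pow_mul_odd (orderOf_pos g).ne'
  have hgm : g ^ m ∈ C := by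
    have h1 : orderOf ((⟨g, hgN⟩ : N) ^ m : N) ∣ 2 ^ k := by
      apply orderOf_dvd_of_pow_eq_one
      apply Subtype.ext
      simp [← pow_mul, mul_comm m, ← hm, pow_orderOf_eq_one]
    have hodd : ¬ 2 ∣ (C.subgroupOf N).index := fun h =>
      P.not_dvd_index (h.trans ((dvd_of_mul_right_eq _ (Subgroup.relIndex_mul_index (Subgroup.le_normalizer))).trans (Subgroup.index_dvd_of_le hP)))
    haveI : (C.subgroupOf N).Normal := Subgroup.normal_in_normalizer
    have h2 : orderOf (((⟨g, hgN⟩ : N) ^ m : N) : N ⧸ C.subgroupOf N) = 1 :=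
      Nat.eq_one_of_dvd_coprimes (((Nat.Prime.coprime_iff_not_dvd Nat.prime_two).mpr hodd).pow_left k)
        ((orderOf_map_dvd (QuotientGroup.mk' _) _).trans h1) (orderOf_dvd_natCard _)
    rw [orderOf_eq_one_iff, QuotientGroup.eq_one_iff, Subgroup.mem_subgroupOf] at h2
    exact h2
  have hx2 : x⁻¹ = x := by
    have hs : SemiconjBy g x x⁻¹ := by rw [SemiconjBy, ← hg]; group
    have hg2 : Commute (g ^ 2) x := by
      rw [pow_two]
      have := hs.inv_right
      rw [inv_inv] at this
      exact this.mul_left hs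
    obtain ⟨j, hj⟩ := hm2
    have hc : Commute (g ^ m) x := (Subgroup.mem_centralizer_singleton_iff.mp hgm : g ^ m * x = x * g ^ m)
    rw [hj, pow_succ, pow_mul] at hc
    have hgx : Commute g x := by
      have h' : Commute ((g ^ 2) ^ j)⁻¹ x := (hg2.pow_left j).inv_left
      simpa using h'.mul_left hc
    rw [← hg, hgx.eq, mul_inv_cancel_right]
  exact orderOf_eq_prime (by rw [pow_two]; nth_rewrite 1 [← hx2]; simp) hx


/-- Let x be a non-identity element of a finite group G whose centralizer contains a Sylow 2-subgroup of G. If x is conjugate to its inverse, then x has order 2. -/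
theorem result {G : Type*} [Group G] [Finite G] (x : G) (hx : x ≠ 1) (P : Sylow 2 G) (hP : (P : Subgroup G) ≤ Subgroup.centralizer ({x} : Set G)) (hreal : IsConj x x⁻¹) : orderOf x = 2 := by
  exact two_central_real x hx P hP hreal

end Cfsg.Agent.S4195
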