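import Cfsg.Statements.S4196
import Cfsg.Agent.S4195

set_option autoImplicit false
open Cfsg
open scoped Pointwise commutatorElement
set_option linter.all false

namespace Cfsg.Agent.S4196

/-- A finite group G has elementary abelian Sylow 2-subgroups (commutative with every element squaring to the identity) if and only if every 2-element of G has a Sylow 2-subgroup in its centralizer and is conjugate to its inverse. -/
theorem result {G : Type*} [Group G] [Finite G] (P : Sylow 2 G) :
    (IsMulCommutative (P : Subgroup G) ∧ ∀ x ∈ (P : Subgroup G), x ^ 2 = 1) ↔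
      ∀ x : G, (∃ k : ℕ, orderOf x = 2 ^ k) → (∃ Q : Sylow 2 G, (Q : Subgroup G) ≤ Subgroup.centralizer ({x} : Set G)) ∧ IsConj x x⁻¹ := by
  constructor
  · rintro ⟨hab, h2⟩ x ⟨k, hk⟩
    have hz : IsPGroup 2 (Subgroup.zpowers x) := IsPGroup.of_card (n := k) (by rw [Nat.card_zpowers, hk])
    obtain ⟨Q, hQ⟩ := hz.exists_le_sylow
    have hxQ : x ∈ (Q : Subgroup G) := hQ (Subgroup.mem_zpowers x)
    obtain ⟨g, hg⟩ := MulAction.exists_smul_eq G Q P
    have hmem : ∀ y ∈ (Q : Subgroup G), g * y * g⁻¹ ∈ (P : Subgroup G) := fun y hy => by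
      rw [← hg]
      exact ⟨y, hy, rfl⟩
    refine ⟨⟨Q, fun y hy => ?_⟩, ?_⟩
    · rw [Subgroup.mem_centralizer_singleton_iff, eq_comm]
      have h := congrArg Subtype.val (hab.is_comm.comm (⟨_, hmem x hxQ⟩ : (P : Subgroup G)) ⟨_, hmem y hy⟩)
      simp only [Subgroup.coe_mul] at h
      refine mul_left_cancel (a := g) (mul_right_cancel (b := g⁻¹) ?_)
      calc g * (x * y) * g⁻¹ = g * x * g⁻¹ * (g * y * g⁻¹) := by group
        _ = g * y * g⁻¹ * (g * x * g⁻¹) := h
        _ = g * (y * x) * g⁻¹ := by group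
    · have h := h2 _ (hmem x hxQ)
      rw [conj_pow] at h
      have hx2 : x ^ 2 = 1 := by
        simpa using congrArg (fun z => g⁻¹ * z * g) h |>.trans (by group) |> fun e => by simpa [mul_assoc] using e
      rw [inv_eq_of_mul_eq_one_right (by rwa [pow_two] at hx2)]
  · intro h
    have h2 : ∀ x ∈ (P : Subgroup G), x ^ 2 = 1 := by
      intro x hx
      by_cases h1 : x = 1
      · simp [h1]
      obtain ⟨⟨Q, hQ⟩, hreal⟩ := h x (by
        obtain ⟨k, hk⟩ := IsPGroup.iff_orderOf.mp P.isPGroup' ⟨x, hx⟩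
        exact ⟨k, by rw [← hk, Subgroup.orderOf_mk]⟩)
      rw [← Cfsg.Agent.S4195.two_central_real x h1 Q hQ hreal, pow_orderOf_eq_one]
    refine ⟨⟨⟨fun a b => Subtype.ext ?_⟩⟩, h2⟩
    have ha := h2 _ a.2
    have hb := h2 _ b.2
    have hab := h2 _ (a * b).2
    simp only [pow_two, Subgroup.coe_mul] at ha hb hab ⊢
    calc (a : G) * b = ((a : G) * b) * ((a : G) * b * ((b : G) * a)) := by rw [mul_assoc (a : G) (b : G) ((b : G) * a), ← mul_assoc (b : G), hb, one_mul, ha, mul_one]
      _ = (b : G) * a := by rw [← mul_assoc, hab, one_mul]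

end Cfsg.Agent.S4196
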