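import Cfsg.Statements.S4198
import Mathlib

set_option autoImplicit false
open Cfsg
open scoped Pointwise
set_option linter.all false

namespace Cfsg.Agent.S4198

open Equiv Equiv.Perm

theorem card_partition_five : Fintype.card (Nat.Partition 5) ≤ 8 := by
  classical
  have hcnt : ∀ p : Nat.Partition 5, p.parts.count 1 + 2 * p.parts.count 2 + 3 * p.parts.count 3 +
      4 * p.parts.count 4 + 5 * p.parts.count 5 = 5 := by
    intro p
    have h := Finset.sum_multiset_count_of_subset p.parts (Finset.range 6) (fun i hi => by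
      rw [Multiset.mem_toFinset] at hi
      have := Nat.Partition.le_of_mem_parts hi
      rw [Finset.mem_range]; omega)
    rw [p.parts_sum] at h
    simp [Finset.sum_range_succ] at h
    omega
  let T := Finset.univ.filter fun v : Fin 3 × Fin 2 × Fin 2 × Fin 2 =>
    2 * (v.1 : ℕ) + 3 * v.2.1 + 4 * v.2.2.1 + 5 * v.2.2.2 ≤ 5
  have hT : T.card ≤ 8 := by decide
  refine le_trans ?_ hT
  rw [← Finset.card_univ]
  refine Finset.card_le_card_of_injOn (fun p => (⟨p.parts.count 2, by have := hcnt p; omega⟩,
    ⟨p.parts.count 3, by have := hcnt p; omega⟩, ⟨p.parts.count 4, by have := hcnt p; omega⟩,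
    ⟨p.parts.count 5, by have := hcnt p; omega⟩)) (fun p _ => ?_) ?_
  · have := hcnt p
    simp only [T, Finset.coe_filter, Set.mem_setOf_eq, Finset.mem_univ, true_and]
    omega
  · intro p _ q _ h
    simp only [Prod.mk.injEq, Fin.mk.injEq] at h
    obtain ⟨h2, h3, h4, h5⟩ := h
    refine Nat.Partition.ext (Multiset.ext.2 fun i => ?_)
    have h0 : ∀ r : Nat.Partition 5, ∀ j, (j = 0 ∨ 5 < j) → r.parts.count j = 0 := fun r j hj =>
      Multiset.count_eq_zero.2 fun hm => by
        rcases hj with rfl | hj
        · exact lt_irrefl 0 (r.parts_pos hm)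
        · have := Nat.Partition.le_of_mem_parts hm; omega
    have := hcnt p; have := hcnt q
    rcases Nat.lt_or_ge 5 i with hi | hi
    · rw [h0 p i (Or.inr hi), h0 q i (Or.inr hi)]
    · interval_cases i
      · rw [h0 p 0 (Or.inl rfl), h0 q 0 (Or.inl rfl)]
      all_goals omega

/-- Remove a part one, or lower the smallest part. -/
theorem card_partition_succ (n : ℕ) : Fintype.card (Nat.Partition (n + 1)) ≤ 2 * Fintype.card (Nat.Partition n) := by
  classical
  have hmin : ∀ p : Nat.Partition (n + 1), 1 ∉ p.parts → ∃ m ∈ p.parts, (∀ x ∈ p.parts, m ≤ x) ∧ 2 ≤ m := by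
    intro p hp
    have hne : ∃ x, x ∈ p.parts := by
      refine Multiset.exists_mem_of_ne_zero fun h => ?_
      have := p.parts_sum
      rw [h] at this
      simp at this
    obtain ⟨m, hm, hmin⟩ := Finset.exists_min_image p.parts.toFinset id
      (by obtain ⟨x, hx⟩ := hne; exact ⟨x, Multiset.mem_toFinset.2 hx⟩)
    rw [Multiset.mem_toFinset] at hm
    refine ⟨m, hm, fun x hx => hmin x (Multiset.mem_toFinset.2 hx), ?_⟩
    have := p.parts_pos hm
    rcases Nat.eq_or_lt_of_le this with h | h
    · subst h; exact absurd hm hp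
    · exact h
  choose mn hmn hmle hm2 using hmin
  let f : Nat.Partition (n + 1) → Nat.Partition n × Bool := fun p =>
    if h : 1 ∈ p.parts then
      (⟨p.parts.erase 1, fun hi => p.parts_pos (Multiset.mem_of_mem_erase hi), by
        have h1 := p.parts_sum
        rw [← Multiset.cons_erase h, Multiset.sum_cons] at h1
        omega⟩, true)
    else
      (⟨(mn p h - 1) ::ₘ p.parts.erase (mn p h), fun hi => by
          rcases Multiset.mem_cons.1 hi with rfl | hi
          · have := hm2 p h; omega
          · exact p.parts_pos (Multiset.mem_of_mem_erase hi), by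
        have h1 := p.parts_sum
        rw [← Multiset.cons_erase (hmn p h), Multiset.sum_cons] at h1
        rw [Multiset.sum_cons]
        have := hm2 p h
        omega⟩, false)
  have hf : Function.Injective f := by
    intro p q hpq
    by_cases hp : 1 ∈ p.parts <;> by_cases hq : 1 ∈ q.parts <;>
      simp only [f, dif_pos, dif_neg, hp, hq, not_false_eq_true, Prod.mk.injEq, Nat.Partition.mk.injEq,
        Bool.true_eq_false, Bool.false_eq_true, and_false, and_true] at hpq
    · exact Nat.Partition.ext (by rw [← Multiset.cons_erase hp, ← Multiset.cons_erase hq, hpq])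
    · have hle : ∀ (r : Nat.Partition (n + 1)) (hr : 1 ∉ r.parts), ∀ x ∈ (mn r hr - 1) ::ₘ r.parts.erase (mn r hr),
          mn r hr - 1 ≤ x := fun r hr x hx => by
        rcases Multiset.mem_cons.1 hx with rfl | hx
        · exact le_rfl
        · exact le_trans (Nat.sub_le _ _) (hmle r hr x (Multiset.mem_of_mem_erase hx))
      have e : mn p hp = mn q hq := by
        have a1 := hle p hp (mn q hq - 1) (hpq ▸ Multiset.mem_cons_self _ _)
        have a2 := hle q hq (mn p hp - 1) (hpq ▸ Multiset.mem_cons_self _ _)
        have := hm2 p hp; have := hm2 q hq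
        omega
      rw [e, Multiset.cons_inj_right] at hpq
      refine Nat.Partition.ext ?_
      rw [← Multiset.cons_erase (hmn p hp), ← Multiset.cons_erase (hmn q hq), e, hpq]
  have h := Fintype.card_le_of_injective f hf
  rw [Fintype.card_prod, Fintype.card_bool] at h
  omega

theorem card_partition_le : ∀ n : ℕ, 5 ≤ n → Fintype.card (Nat.Partition n) ≤ 2 ^ (n - 2) := by
  intro n hn
  induction n, hn using Nat.le_induction with
  | base => exact card_partition_five.trans (by norm_num)
  | succ k hk ih =>
    refine (card_partition_succ k).trans ?_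
    rw [show k + 1 - 2 = k - 2 + 1 by omega, pow_succ']
    omega

theorem card_classes_le (n : ℕ) : Nat.card (ConjClasses (Perm (Fin n))) ≤ Fintype.card (Nat.Partition n) := by
  have h : ∀ σ τ : Perm (Fin n), IsConj σ τ → σ.partition = τ.partition := fun σ τ h =>
    partition_eq_of_isConj.1 h
  let f : ConjClasses (Perm (Fin n)) → Nat.Partition (Fintype.card (Fin n)) := fun c => Quotient.liftOn c (fun σ => σ.partition) h
  have hf : Function.Injective f := by
    rintro ⟨σ⟩ ⟨τ⟩ he
    exact ConjClasses.mk_eq_mk_iff_isConj.2 (partition_eq_of_isConj.2 he)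
  have h2 := Nat.card_le_card_of_injective f hf
  rw [Nat.card_eq_fintype_card (α := Nat.Partition (Fintype.card (Fin n)))] at h2
  simpa only [Fintype.card_fin] using h2

theorem classes_lt (n : ℕ) (hn : 5 ≤ n) :
    Nat.card (ConjClasses (alternatingGroup (Fin n))) < Nat.card (ConjClasses (Perm (Fin n))) := by
  classical
  haveI : Fintype (ConjClasses (Perm (Fin n))) := Fintype.ofFinite _
  haveI : Fintype (ConjClasses (alternatingGroup (Fin n))) := Fintype.ofFinite _
  let sgn : ConjClasses (Perm (Fin n)) → ℤˣ := fun c =>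
    Quotient.liftOn c Perm.sign fun a b h => by
      obtain ⟨g, rfl⟩ := isConj_iff.1 h
      rw [map_mul, map_mul, map_inv, mul_comm (Perm.sign g), mul_inv_cancel_right]
  have hsgn : ∀ x, sgn (ConjClasses.mk x) = Perm.sign x := fun x => rfl
  set E := Finset.univ.filter fun c => sgn c = 1 with hE
  set O := Finset.univ.filter fun c => ¬ sgn c = 1 with hO
  set D := Finset.univ.filter fun c : ConjClasses (Perm (Fin n)) =>
    ∃ x, ConjClasses.mk x = c ∧ Subgroup.centralizer ({x} : Set (Perm (Fin n))) ≤ alternatingGroup (Fin n) with hD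
  let π : ConjClasses (alternatingGroup (Fin n)) → ConjClasses (Perm (Fin n)) :=
    ConjClasses.map (alternatingGroup (Fin n)).subtype
  set t : Perm (Fin n) := Equiv.swap ⟨0, by omega⟩ ⟨1, by omega⟩ with ht
  have ht1 : Perm.sign t = -1 := Perm.sign_swap (by simp)
  have hsame : ∀ (a b : alternatingGroup (Fin n)) (g : Perm (Fin n)), g ∈ alternatingGroup (Fin n) →
      g * (a : Perm (Fin n)) * g⁻¹ = b → ConjClasses.mk a = ConjClasses.mk b := fun a b g hg h =>
    ConjClasses.mk_eq_mk_iff_isConj.2 (isConj_iff.2 ⟨⟨g, hg⟩, Subtype.ext h⟩)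
  have hfib : ∀ c : ConjClasses (Perm (Fin n)),
      (Finset.univ.filter fun k => π k = c).card ≤ (if c ∈ D then 2 else 1) := by
    intro c
    rcases (Finset.univ.filter fun k => π k = c).eq_empty_or_nonempty with he | ⟨k, hk⟩
    · rw [he, Finset.card_empty]; exact Nat.zero_le _
    obtain ⟨a, rfl⟩ := ConjClasses.exists_rep k
    rw [Finset.mem_filter] at hk
    have hta : t * (a : Perm (Fin n)) * t⁻¹ ∈ alternatingGroup (Fin n) := by
      rw [mem_alternatingGroup, map_mul, map_mul, map_inv, mem_alternatingGroup.1 a.2, mul_one, mul_inv_cancel]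
    have hsub : (Finset.univ.filter fun k => π k = c) ⊆ {ConjClasses.mk a, ConjClasses.mk ⟨_, hta⟩} := by
      intro l hl
      obtain ⟨b, rfl⟩ := ConjClasses.exists_rep l
      rw [Finset.mem_filter] at hl
      obtain ⟨g, hg⟩ := isConj_iff.1 (ConjClasses.mk_eq_mk_iff_isConj.1
        (show ConjClasses.mk (a : Perm (Fin n)) = ConjClasses.mk (b : Perm (Fin n)) from hk.2.trans hl.2.symm))
      rw [Finset.mem_insert, Finset.mem_singleton]
      rcases Int.units_eq_one_or (Perm.sign g) with h | h
      · exact Or.inl (hsame a b g h hg).symm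
      · refine Or.inr (hsame ⟨_, hta⟩ b (g * t⁻¹) ?_ ?_).symm
        · rw [mem_alternatingGroup, map_mul, map_inv, h, ht1, mul_inv_cancel]
        · rw [← hg]; show g * t⁻¹ * (t * (a : Perm (Fin n)) * t⁻¹) * (g * t⁻¹)⁻¹ = _; group
    refine (Finset.card_le_card hsub).trans ?_
    split_ifs with hcD
    · exact Finset.card_le_two
    · rw [show ({ConjClasses.mk a, ConjClasses.mk ⟨_, hta⟩} : Finset (ConjClasses (alternatingGroup (Fin n)))) = {ConjClasses.mk a} from ?_,
        Finset.card_singleton]
      have hnle : ¬ Subgroup.centralizer ({(a : Perm (Fin n))} : Set (Perm (Fin n))) ≤ alternatingGroup (Fin n) := fun h =>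
        hcD (Finset.mem_filter.2 ⟨Finset.mem_univ _, (a : Perm (Fin n)), hk.2, h⟩)
      obtain ⟨u, hu, hua⟩ := SetLike.not_le_iff_exists.1 hnle
      have husign : Perm.sign u = -1 := (Int.units_eq_one_or _).resolve_left fun h => hua h
      have e : ConjClasses.mk a = ConjClasses.mk (⟨_, hta⟩ : alternatingGroup (Fin n)) := by
        refine hsame a _ (t * u) ?_ ?_
        · rw [mem_alternatingGroup, map_mul, husign, ht1]; decide
        · show t * u * (a : Perm (Fin n)) * (t * u)⁻¹ = t * (a : Perm (Fin n)) * t⁻¹
          rw [show t * u * (a : Perm (Fin n)) * (t * u)⁻¹ = t * (u * (a : Perm (Fin n)) * u⁻¹) * t⁻¹ by group,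
            Subgroup.mem_centralizer_singleton_iff.1 hu, mul_inv_cancel_right]
      rw [← e, Finset.pair_eq_singleton]
  have hkA : Fintype.card (ConjClasses (alternatingGroup (Fin n))) ≤ E.card + D.card := by
    rw [← Finset.card_univ, Finset.card_eq_sum_card_fiberwise (f := π) (t := E) (fun k _ => ?_)]
    · calc ∑ c ∈ E, (Finset.univ.filter fun k => π k = c).card
          ≤ ∑ c ∈ E, (1 + if c ∈ D then 1 else 0) := Finset.sum_le_sum fun c _ => (hfib c).trans (by split_ifs <;> simp)
        _ = E.card + (E.filter fun c => c ∈ D).card := by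
          rw [Finset.sum_add_distrib, Finset.card_eq_sum_ones, Finset.card_filter]
        _ ≤ E.card + D.card := Nat.add_le_add_left (Finset.card_le_card fun c hc => (Finset.mem_filter.1 hc).2) _
    · obtain ⟨a, rfl⟩ := ConjClasses.exists_rep k
      exact Finset.mem_coe.2 (Finset.mem_filter.2 ⟨Finset.mem_univ _, a.2⟩)
  -- from a split type to an odd type
  have hnew : ∀ c ∈ D, ∃ y : Perm (Fin n), ∃ m, ∃ x : Perm (Fin n), ConjClasses.mk x = c ∧
      (∀ i ∈ x.cycleType, Odd i) ∧ Fintype.card (Fin n) ≤ x.cycleType.sum + 1 ∧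
      m ∈ x.cycleType ∧ y.cycleType = (m - 1) ::ₘ x.cycleType.erase m ∧ Perm.sign y = -1 := by
    intro c hc
    obtain ⟨x, hxc, hx⟩ := (Finset.mem_filter.1 hc).2
    obtain ⟨hodd, hsum, -⟩ := centralizer_le_alternating_iff.1 hx
    obtain ⟨m, hm⟩ : ∃ m, m ∈ x.cycleType := Multiset.exists_mem_of_ne_zero fun h => by
      rw [h, Fintype.card_fin] at hsum; simp at hsum; omega
    have hm2 := two_le_of_mem_cycleType hm
    have hm3 : 3 ≤ m := by
      rcases hodd m hm with ⟨r, rfl⟩; omega
    have hs : x.cycleType.sum = m + (x.cycleType.erase m).sum := by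
      conv_lhs => rw [← Multiset.cons_erase hm]
      rw [Multiset.sum_cons]
    have hxle : x.cycleType.sum ≤ n := by
      rw [sum_cycleType]; simpa using x.support.card_le_univ
    obtain ⟨y, hy⟩ := (exists_with_cycleType_iff (Fin n) (m := (m - 1) ::ₘ x.cycleType.erase m)).2
      ⟨by rw [Fintype.card_fin, Multiset.sum_cons]; omega, fun i hi => by
        rcases Multiset.mem_cons.1 hi with rfl | hi
        · omega
        · exact two_le_of_mem_cycleType (Multiset.mem_of_mem_erase hi)⟩
    refine ⟨y, m, x, hxc, hodd, hsum, hm, hy, ?_⟩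
    have hxe : Perm.sign x = 1 := hx (Subgroup.mem_centralizer_singleton_iff.2 rfl)
    rw [sign_of_cycleType] at hxe ⊢
    rw [hy, Multiset.sum_cons, Multiset.card_cons, Multiset.card_erase_of_mem hm]
    have hpos := Multiset.card_pos_iff_exists_mem.2 ⟨m, hm⟩
    rw [show x.cycleType.sum + Multiset.card x.cycleType =
      (m - 1 + (x.cycleType.erase m).sum + ((Multiset.card x.cycleType).pred + 1)) + 1 by
        rw [Nat.pred_eq_sub_one]; omega, pow_succ] at hxe
    rw [eq_comm, ← mul_inv_eq_one]
    simpa [mul_comm] using hxe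
  choose! y m x hxc hodd hsum hm hy hys using hnew
  let f : ConjClasses (Perm (Fin n)) → ConjClasses (Perm (Fin n)) := fun c => ConjClasses.mk (y c)
  have hev : ∀ c ∈ D, (y c).cycleType.filter (fun i => Even i) = {m c - 1} := by
    intro c hc
    have h1 : Even (m c - 1) := by
      rcases hodd c hc _ (hm c hc) with ⟨r, hr⟩
      exact ⟨r, by omega⟩
    rw [hy c hc, Multiset.filter_cons_of_pos _ h1, Multiset.filter_eq_nil.2 fun i hi he =>
      (Nat.not_even_iff_odd.2 (hodd c hc i (Multiset.mem_of_mem_erase hi))) he]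
    rfl
  have hDO : D.card < O.card := by
    have hinj : Set.InjOn f D := by
      intro c hc d hd h
      have h' := isConj_iff_cycleType_eq.1 (ConjClasses.mk_eq_mk_iff_isConj.1 h)
      have e : m c = m d := by
        have h1 := hev c hc
        rw [h', hev d hd, Multiset.singleton_inj] at h1
        have := two_le_of_mem_cycleType (hm c hc)
        have := two_le_of_mem_cycleType (hm d hd)
        omega
      rw [hy c hc, hy d hd, e, Multiset.cons_inj_right] at h'
      rw [← hxc c hc, ← hxc d hd, ConjClasses.mk_eq_mk_iff_isConj, isConj_iff_cycleType_eq,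
        ← Multiset.cons_erase (hm c hc), ← Multiset.cons_erase (hm d hd), e, h']
    have hsub : D.image f ⊆ O.erase (ConjClasses.mk t) := by
      intro d hd
      obtain ⟨c, hc, rfl⟩ := Finset.mem_image.1 hd
      refine Finset.mem_erase.2 ⟨fun h => ?_, Finset.mem_filter.2 ⟨Finset.mem_univ _, ?_⟩⟩
      · have h' := isConj_iff_cycleType_eq.1 (ConjClasses.mk_eq_mk_iff_isConj.1 h)
        rw [hy c hc, ht, isSwap_iff_cycleType.1 (Perm.swap_isSwap_iff.2 (by simp))] at h'
        have h1 := hsum c hc
        rw [← Multiset.cons_erase (hm c hc), Fintype.card_fin, Multiset.sum_cons] at h1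
        have h2 := congrArg Multiset.sum h'
        rw [Multiset.sum_cons, Multiset.sum_singleton] at h2
        have := two_le_of_mem_cycleType (hm c hc)
        omega
      · rw [hsgn, hys c hc]; decide
    have hmem : ConjClasses.mk t ∈ O := Finset.mem_filter.2 ⟨Finset.mem_univ _, by rw [hsgn, ht1]; decide⟩
    have h := Finset.card_le_card hsub
    rw [Finset.card_image_of_injOn hinj, Finset.card_erase_of_mem hmem] at h
    have : 0 < O.card := Finset.card_pos.2 ⟨ConjClasses.mk t, hmem⟩
    omega
  have hEO : E.card + O.card = Fintype.card (ConjClasses (Perm (Fin n))) := by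
    have h := Finset.card_filter_add_card_filter_not (s := (Finset.univ : Finset (ConjClasses (Perm (Fin n))))) (fun c => sgn c = 1)
    rw [Finset.card_univ] at h
    rw [hE, hO]
    exact h
  rw [Nat.card_eq_fintype_card, Nat.card_eq_fintype_card]
  exact lt_of_le_of_lt hkA (lt_of_lt_of_eq (Nat.add_lt_add_left hDO _) (Eq.trans rfl hEO))


/-- For n ≥ 5 the alternating group of degree n has strictly fewer conjugacy classes than the symmetric group of degree n, and the symmetric group of degree n (whose classes correspond to the partitions of n) has at most 2^(n−2) conjugacy classes. -/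
theorem result (n : ℕ) (hn : 5 ≤ n) : Nat.card (ConjClasses (alternatingGroup (Fin n))) < Nat.card (ConjClasses (Equiv.Perm (Fin n))) ∧ Nat.card (ConjClasses (Equiv.Perm (Fin n))) ≤ 2 ^ (n - 2) := by
  exact ⟨classes_lt n hn, (card_classes_le n).trans (card_partition_le n hn)⟩

end Cfsg.Agent.S4198
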