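import Cfsg.Statements.S4200
import Mathlib.GroupTheory.CommutingProbability
import Mathlib.GroupTheory.Subgroup.Centralizer
import Mathlib.Tactic

set_option autoImplicit false
open Cfsg
open scoped Pointwise
set_option linter.all false

namespace Cfsg.Agent.S4200

open Subgroup

lemma sum_centralizer (X : Type*) [Group X] [Fintype X] :
    ∑ x : X, Nat.card (Subgroup.centralizer ({x} : Set X)) = Nat.card (ConjClasses X) * Nat.card X := by
  rw [← card_comm_eq_card_conjClasses_mul_card, ← Nat.card_sigma]
  refine Nat.card_congr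
    { toFun := fun p => ⟨(p.1, p.2.1), (Subgroup.mem_centralizer_singleton_iff.mp p.2.2).symm⟩
      invFun := fun p => ⟨p.1.1, p.1.2, Subgroup.mem_centralizer_singleton_iff.mpr p.2.symm⟩
      left_inv := fun _ => rfl
      right_inv := fun _ => rfl }

lemma sum_swap {X : Type*} [Group X] [Fintype X] (Y : Subgroup X) [Fintype Y] :
    ∑ x : X, Nat.card (Subgroup.centralizer ({x} : Set X) ⊓ Y : Subgroup X)
      = ∑ y : Y, Nat.card (Subgroup.centralizer ({(y : X)} : Set X)) := by
  rw [← Nat.card_sigma, ← Nat.card_sigma]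
  refine Nat.card_congr
    { toFun := fun p => ⟨⟨p.2.1, p.2.2.2⟩, p.1, Subgroup.mem_centralizer_singleton_iff.mpr (Subgroup.mem_centralizer_singleton_iff.mp p.2.2.1).symm⟩
      invFun := fun p => ⟨p.2.1, p.1.1, Subgroup.mem_centralizer_singleton_iff.mpr (Subgroup.mem_centralizer_singleton_iff.mp p.2.2).symm, p.1.2⟩
      left_inv := fun _ => rfl
      right_inv := fun _ => rfl }

lemma card_le_index_mul {X : Type*} [Group X] [Finite X] (C Y : Subgroup X) :
    Nat.card C ≤ Y.index * Nat.card (C ⊓ Y : Subgroup X) ∧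
    (Nat.card C = Y.index * Nat.card (C ⊓ Y : Subgroup X) → ∀ x : X, ∃ c ∈ C, c⁻¹ * x ∈ Y) := by
  let f : C ⧸ Y.subgroupOf C → X ⧸ Y :=
    Quotient.lift (fun c : C => ((c : X) : X ⧸ Y)) fun a b hab => by
      replace hab : a⁻¹ * b ∈ Y.subgroupOf C := QuotientGroup.leftRel_apply.mp hab
      rw [Subgroup.mem_subgroupOf] at hab
      exact QuotientGroup.eq.mpr (by simpa using hab)
  have hf : Function.Injective f := by
    intro a b
    induction a using QuotientGroup.induction_on with | _ a =>
    induction b using QuotientGroup.induction_on with | _ b =>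
    intro h
    refine QuotientGroup.eq.mpr ?_
    rw [Subgroup.mem_subgroupOf]
    simpa using QuotientGroup.eq.mp h
  have hc : Y.relIndex C * Nat.card (C ⊓ Y : Subgroup X) = Nat.card C := by
    have := Subgroup.index_mul_card ((C ⊓ Y).subgroupOf C)
    rwa [Nat.card_congr (Subgroup.subgroupOfEquivOfLe inf_le_left).toEquiv, ← Subgroup.relIndex,
      Subgroup.inf_relIndex_left] at this
  refine ⟨hc ▸ Nat.mul_le_mul_right _ (Nat.card_le_card_of_injective f hf), fun heq x => ?_⟩
  have he : Y.relIndex C = Y.index := Nat.eq_of_mul_eq_mul_right Nat.card_pos (hc.trans heq)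
  obtain ⟨c, hcx⟩ := ((Nat.bijective_iff_injective_and_card f).mpr ⟨hf, he⟩).2 (x : X ⧸ Y)
  induction c using QuotientGroup.induction_on with | _ c =>
  exact ⟨c, c.2, QuotientGroup.eq.mp hcx⟩


/-- Let Y be a subgroup of the finite group X, of index m. Then the numbers of conjugacy classes satisfy k(Y) ≤ m·k(X) and k(X) ≤ m·k(Y), and the second inequality is strict unless Y is normal in X. -/
theorem result {X : Type*} [Group X] [Finite X] (Y : Subgroup X) : Nat.card (ConjClasses Y) ≤ Y.index * Nat.card (ConjClasses X) ∧ Nat.card (ConjClasses X) ≤ Y.index * Nat.card (ConjClasses Y) ∧ (¬ Y.Normal → Nat.card (ConjClasses X) < Y.index * Nat.card (ConjClasses Y)) := by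
  classical
  haveI := Fintype.ofFinite X
  haveI := Fintype.ofFinite Y
  have hX := sum_centralizer X
  have hY := sum_centralizer Y
  have hmY := Y.index_mul_card
  have hCY : ∀ y : Y, Nat.card (Subgroup.centralizer ({(y : X)} : Set X) ⊓ Y : Subgroup X) = Nat.card (Subgroup.centralizer ({y} : Set Y)) := fun y =>
    Nat.card_congr
      { toFun := fun z => ⟨⟨z.1, z.2.2⟩, Subgroup.mem_centralizer_singleton_iff.mpr (Subtype.ext (Subgroup.mem_centralizer_singleton_iff.mp z.2.1))⟩
        invFun := fun z => ⟨z.1.1, Subgroup.mem_centralizer_singleton_iff.mpr (congrArg Subtype.val (Subgroup.mem_centralizer_singleton_iff.mp z.2)), z.1.2⟩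
        left_inv := fun _ => rfl
        right_inv := fun _ => rfl }
  refine ⟨?_, ?_⟩
  · have h1 : Nat.card (ConjClasses Y) * Nat.card Y ≤ Nat.card (ConjClasses X) * Nat.card X := by
      rw [← card_comm_eq_card_conjClasses_mul_card, ← card_comm_eq_card_conjClasses_mul_card]
      refine Nat.card_le_card_of_injective (fun p => ⟨((p.1.1 : X), (p.1.2 : X)), congrArg Subtype.val p.2⟩) ?_
      intro a b h
      have h' := congrArg (fun z => (z.1.1, z.1.2)) h
      simp only [Prod.mk.injEq] at h'
      exact Subtype.ext (Prod.ext (Subtype.ext h'.1) (Subtype.ext h'.2))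
    rw [← hmY] at h1
    refine le_of_mul_le_mul_right (a := Nat.card Y) ?_ Nat.card_pos
    linarith
  · have step1 : ∑ x : X, Nat.card (Subgroup.centralizer ({x} : Set X))
        ≤ Y.index * ∑ y : Y, Nat.card (Subgroup.centralizer ({(y : X)} : Set X)) := by
      rw [← sum_swap Y, Finset.mul_sum]
      exact Finset.sum_le_sum fun x _ => (card_le_index_mul _ Y).1
    have hpt : ∀ y : Y, Nat.card (Subgroup.centralizer ({(y : X)} : Set X))
        ≤ Y.index * Nat.card (Subgroup.centralizer ({y} : Set Y)) := fun y => hCY y ▸ (card_le_index_mul _ Y).1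
    have step2 : ∑ y : Y, Nat.card (Subgroup.centralizer ({(y : X)} : Set X))
        ≤ Y.index * (Nat.card (ConjClasses Y) * Nat.card Y) := by
      rw [← hY, Finset.mul_sum]
      exact Finset.sum_le_sum fun y _ => hpt y
    rw [hX, ← hmY] at step1
    have hm : 0 < Y.index := Nat.pos_of_ne_zero Subgroup.index_ne_zero_of_finite
    refine ⟨?_, fun hn => ?_⟩
    · refine le_of_mul_le_mul_right (a := Y.index * Nat.card Y) ?_ (Nat.mul_pos hm Nat.card_pos)
      nlinarith
    · have step2' : ∑ y : Y, Nat.card (Subgroup.centralizer ({(y : X)} : Set X))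
          < Y.index * (Nat.card (ConjClasses Y) * Nat.card Y) := by
        rw [← hY, Finset.mul_sum]
        refine Finset.sum_lt_sum (fun y _ => hpt y) ?_
        by_contra hc
        push Not at hc
        refine hn ⟨fun y hy g => ?_⟩
        have he := le_antisymm (hpt ⟨y, hy⟩) (hc ⟨y, hy⟩ (Finset.mem_univ _))
        rw [← hCY] at he
        obtain ⟨c, hcC, hcY⟩ := (card_le_index_mul _ Y).2 he g⁻¹
        have hcy : c⁻¹ * y * c = y := by
          have h := Subgroup.mem_centralizer_singleton_iff.mp hcC
          simp only at h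
          rw [mul_assoc, ← h]; group
        have : g * y * g⁻¹ = (c⁻¹ * g⁻¹)⁻¹ * y * (c⁻¹ * g⁻¹) := by
          rw [show (c⁻¹ * g⁻¹)⁻¹ * y * (c⁻¹ * g⁻¹) = g * (c * y * c⁻¹) * g⁻¹ by group]
          nth_rewrite 2 [← hcy]
          group
        rw [this]
        exact mul_mem (mul_mem (inv_mem hcY) hy) hcY
      refine lt_of_mul_lt_mul_right (a := Y.index * Nat.card Y) ?_ (Nat.zero_le _)
      nlinarith

end Cfsg.Agent.S4200
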