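import Cfsg.Statements.S4201
import Mathlib.GroupTheory.CommutingProbability
import Mathlib.GroupTheory.Subgroup.Centralizer
import Mathlib.Tactic

set_option autoImplicit false
open Cfsg
open scoped Pointwise
set_option linter.all false

namespace Cfsg.Agent.S4201

lemma sum_centralizer (X : Type*) [Group X] [Fintype X] :
    ∑ x : X, Nat.card (Subgroup.centralizer ({x} : Set X)) = Nat.card (ConjClasses X) * Nat.card X := by
  rw [← card_comm_eq_card_conjClasses_mul_card, ← Nat.card_sigma]
  refine Nat.card_congr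
    { toFun := fun p => ⟨(p.1, p.2.1), (Subgroup.mem_centralizer_singleton_iff.mp p.2.2).symm⟩
      invFun := fun p => ⟨p.1.1, p.1.2, Subgroup.mem_centralizer_singleton_iff.mpr p.2.symm⟩
      left_inv := fun _ => rfl
      right_inv := fun _ => rfl }

variable {X : Type*} [Group X] [Fintype X] [DecidableEq X] (N : Subgroup X) [N.Normal] [DecidableEq (X ⧸ N)]
  [DecidablePred (· ∈ N)] [Fintype (X ⧸ N)] [Fintype N]

/-- A fibre of the quotient map inside a subgroup is at most as large as its trace on the kernel. -/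
lemma fibre_le (C : Subgroup X) [DecidablePred (· ∈ C)] (q : X ⧸ N) :
    ({x ∈ (Finset.univ : Finset X) | x ∈ C ∧ (x : X ⧸ N) = q}).card ≤
      ({x ∈ (Finset.univ : Finset X) | x ∈ C ∧ x ∈ N}).card := by
  by_cases h : ∃ x0, x0 ∈ C ∧ (x0 : X ⧸ N) = q
  · obtain ⟨x0, h0, hq⟩ := h
    refine Finset.card_le_card_of_injOn (fun x => x0⁻¹ * x) ?_ (fun a _ b _ h => mul_left_cancel h)
    intro x hx
    simp only [Finset.coe_filter, Finset.mem_univ, true_and, Set.mem_setOf_eq] at hx ⊢
    exact ⟨mul_mem (inv_mem h0) hx.1, QuotientGroup.eq.mp (hq.trans hx.2.symm)⟩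
  · push Not at h
    rw [Finset.filter_false_of_mem (fun x _ hx => h x hx.1 hx.2)]
    simp


/-- If N is a normal subgroup of the finite group X then k(X) ≤ k(N)·k(X ⧸ N), where k denotes the number of conjugacy classes. -/
theorem result {X : Type*} [Group X] [Finite X] (N : Subgroup X) [N.Normal] : Nat.card (ConjClasses X) ≤ Nat.card (ConjClasses N) * Nat.card (ConjClasses (X ⧸ N)) := by
  classical
  haveI := Fintype.ofFinite X
  haveI := Fintype.ofFinite N
  haveI := Fintype.ofFinite (X ⧸ N)
  let cX : X → ℕ := fun x => Nat.card (Subgroup.centralizer ({x} : Set X))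
  let cQ : X ⧸ N → ℕ := fun q => Nat.card (Subgroup.centralizer ({q} : Set (X ⧸ N)))
  let cN : X → ℕ := fun x => ({y ∈ (Finset.univ : Finset X) | y ∈ Subgroup.centralizer ({x} : Set X) ∧ y ∈ N}).card
  have h1 : ∀ x : X, cX x ≤ cN x * cQ (x : X ⧸ N) := by
    intro x
    let C := Subgroup.centralizer ({x} : Set X)
    have hc : cX x = ({y ∈ (Finset.univ : Finset X) | y ∈ C}).card := by
      simp only [cX, C, Nat.card_eq_fintype_card, Fintype.card_subtype]
    have hq : cQ (x : X ⧸ N) = ({q ∈ (Finset.univ : Finset (X ⧸ N)) | q ∈ Subgroup.centralizer ({(x : X ⧸ N)} : Set (X ⧸ N))}).card := by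
      simp only [cQ, Nat.card_eq_fintype_card, Fintype.card_subtype]
    rw [hc, hq]
    refine (Finset.card_le_mul_card_image_of_maps_to (f := fun y : X => (y : X ⧸ N)) ?_ (cN x) ?_)
    · intro y hy
      simp only [Finset.coe_filter, Finset.mem_univ, true_and, Set.mem_setOf_eq, Finset.mem_coe, Finset.mem_filter] at hy ⊢
      rw [Subgroup.mem_centralizer_singleton_iff] at hy ⊢
      rw [← QuotientGroup.mk_mul, ← QuotientGroup.mk_mul, hy]
    · intro q _
      refine le_trans (le_of_eq ?_) (fibre_le N C q)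
      rw [Finset.filter_filter]
  have h2 : ∀ n : N, ∑ x ∈ {x ∈ (Finset.univ : Finset X) | x ∈ Subgroup.centralizer ({(n : X)} : Set X)}, cQ (x : X ⧸ N)
      ≤ Nat.card (Subgroup.centralizer ({n} : Set N)) * ∑ q : X ⧸ N, cQ q := by
    intro n
    rw [← Finset.sum_fiberwise_of_maps_to (t := Finset.univ) (g := fun x : X => (x : X ⧸ N)) (fun x _ => Finset.mem_univ _),
      Finset.mul_sum]
    refine Finset.sum_le_sum fun q _ => ?_
    refine le_trans (le_of_eq (Finset.sum_congr rfl (g := fun _ => cQ q) fun y hy => congrArg cQ (Finset.mem_filter.mp hy).2)) ?_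
    rw [Finset.sum_const, smul_eq_mul]
    refine Nat.mul_le_mul_right _ ?_
    rw [Finset.filter_filter]
    refine le_trans (fibre_le N _ q) (le_of_eq ?_)
    rw [← Fintype.card_subtype, ← Nat.card_eq_fintype_card]
    exact Nat.card_congr
      { toFun := fun z => ⟨⟨z.1, z.2.2⟩, Subgroup.mem_centralizer_singleton_iff.mpr (Subtype.ext (Subgroup.mem_centralizer_singleton_iff.mp z.2.1))⟩
        invFun := fun z => ⟨z.1.1, Subgroup.mem_centralizer_singleton_iff.mpr (congrArg Subtype.val (Subgroup.mem_centralizer_singleton_iff.mp z.2)), z.1.2⟩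
        left_inv := fun _ => rfl
        right_inv := fun _ => rfl }
  have h3 : ∑ x : X, cN x * cQ (x : X ⧸ N) =
      ∑ n : N, ∑ x ∈ {x ∈ (Finset.univ : Finset X) | x ∈ Subgroup.centralizer ({(n : X)} : Set X)}, cQ (x : X ⧸ N) := by
    simp only [Finset.sum_filter]
    rw [Finset.sum_comm]
    refine Finset.sum_congr rfl fun x _ => ?_
    rw [← Finset.sum_filter, Finset.sum_const, smul_eq_mul]
    congr 1
    refine Finset.card_bij' (fun y hy => (⟨y, (Finset.mem_filter.mp hy).2.2⟩ : N)) (fun n _ => (n : X)) ?_ ?_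
      (fun _ _ => rfl) (fun _ _ => rfl)
    · intro y hy
      simp only [Finset.mem_filter, Finset.mem_univ, true_and, Subgroup.mem_centralizer_singleton_iff] at hy ⊢
      exact hy.1.symm
    · intro n hn
      simp only [Finset.mem_filter, Finset.mem_univ, true_and, Subgroup.mem_centralizer_singleton_iff] at hn ⊢
      exact ⟨hn.symm, n.2⟩
  have hX := sum_centralizer X
  have hN := sum_centralizer N
  have hQ := sum_centralizer (X ⧸ N)
  have hmain : Nat.card (ConjClasses X) * Nat.card X ≤
      (Nat.card (ConjClasses N) * Nat.card N) * (Nat.card (ConjClasses (X ⧸ N)) * Nat.card (X ⧸ N)) := by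
    rw [← hX, ← hN, ← hQ, Finset.sum_mul]
    calc ∑ x : X, cX x ≤ ∑ x : X, cN x * cQ (x : X ⧸ N) := Finset.sum_le_sum fun x _ => h1 x
      _ = _ := h3
      _ ≤ _ := Finset.sum_le_sum fun n _ => h2 n
  rw [Subgroup.card_eq_card_quotient_mul_card_subgroup N] at hmain
  refine le_of_mul_le_mul_right (a := Nat.card (X ⧸ N) * Nat.card N) ?_ (Nat.mul_pos Nat.card_pos Nat.card_pos)
  linarith

end Cfsg.Agent.S4201
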