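import Cfsg.Statements.S4203
import Cfsg.Agent.Lib.CT.Integral
import Mathlib

set_option autoImplicit false
open Cfsg
open scoped Pointwise
set_option linter.all false

namespace Cfsg.Agent.S4203

open Cfsg.Agent Subgroup

universe u

theorem main : ∀ (N : ℕ) (G : Type u) [Group G] [Finite G], Nat.card G = N →
    (∀ M : Subgroup G, IsCoatom M → ∃ p : ℕ, p.Prime ∧ (M.index = p ∨ M.index = p ^ 2)) → Group.IsSolvable G := by
  intro N
  induction N using Nat.strong_induction_on with
  | _ N ih =>
  intro G _ _ hN h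
  rcases subsingleton_or_nontrivial G with hG | hG
  · infer_instance
  have hne : (Nat.card G).primeFactors.Nonempty := by
    obtain ⟨q, hq, hqd⟩ := Nat.exists_prime_and_dvd (Finite.one_lt_card (α := G)).ne'
    exact ⟨q, Nat.mem_primeFactors.2 ⟨hq, hqd, Nat.card_pos.ne'⟩⟩
  set p := (Nat.card G).primeFactors.max' hne with hpdef
  obtain ⟨hp, hpd, -⟩ := Nat.mem_primeFactors.1 (Finset.max'_mem _ hne)
  rw [← hpdef] at hp hpd
  haveI := Fact.mk hp
  have hmax : ∀ q : ℕ, q.Prime → q ∣ Nat.card G → q ≤ p := fun q hq hqd =>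
    Finset.le_max' _ _ (Nat.mem_primeFactors.2 ⟨hq, hqd, Nat.card_pos.ne'⟩)
  let P : Sylow p G := default
  have hPne : (P : Subgroup G) ≠ ⊥ := fun hb => P.not_dvd_index (by rw [hb, index_bot]; exact hpd)
  by_cases hPn : normalizer ((P : Subgroup G) : Set G) = ⊤
  · haveI : (P : Subgroup G).Normal := normalizer_eq_top_iff.1 hPn
    haveI := P.2.isNilpotent
    have hlt : Nat.card (G ⧸ (P : Subgroup G)) < N := by
      rw [← hN, Subgroup.card_eq_card_quotient_mul_card_subgroup (P : Subgroup G)]
      exact lt_mul_of_one_lt_right Nat.card_pos ((one_lt_card_iff_ne_bot _).2 hPne)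
    haveI : Group.IsSolvable (G ⧸ (P : Subgroup G)) := ih _ hlt _ rfl fun M hM => by
      have hc := h (M.comap (QuotientGroup.mk' (P : Subgroup G)))
        (Subgroup.isCoatom_comap_of_surjective (QuotientGroup.mk'_surjective _) hM)
      rwa [Subgroup.index_comap_of_surjective _ (QuotientGroup.mk'_surjective _)] at hc
    exact (Group.isSolvable_iff_subgroup_quotient (P : Subgroup G)).2 ⟨inferInstance, inferInstance⟩
  obtain ⟨M, hM, hNM⟩ := (eq_top_or_exists_le_coatom _).resolve_left hPn
  have hPM : (P : Subgroup G) ≤ M := le_normalizer.trans hNM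
  have hmod : M.index ≡ 1 [MOD p] := by
    have e1 := P.card_eq_index_normalizer
    have h1 := card_sylow_modEq_one p G
    have h2 := card_sylow_modEq_one p M
    rw [e1] at h1
    change (normalizer ((P : Subgroup G) : Set G)).index ≡ 1 [MOD p] at h1
    rw [← relIndex_mul_index hNM] at h1
    have e2 := (P.subtype hPM).card_eq_index_normalizer
    rw [e2] at h2
    change (normalizer (((P : Subgroup G).subgroupOf M : Subgroup M) : Set M)).index ≡ 1 [MOD p] at h2
    rw [← subgroupOf_normalizer_eq hPM] at h2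
    change (normalizer ((P : Subgroup G) : Set G)).relIndex M ≡ 1 [MOD p] at h2
    have h3 := (h2.mul_right M.index).symm.trans h1
    rwa [one_mul] at h3
  obtain ⟨q, hq, hi⟩ := h M hM
  have hi1 : M.index ∣ Nat.card G := index_dvd_card M
  have hqd : q ∣ Nat.card G := by
    rcases hi with hi | hi
    · exact hi ▸ hi1
    · exact (dvd_pow_self q two_ne_zero).trans (hi ▸ hi1)
  have hqp := hmax q hq hqd
  have hne' : q ≠ p := by
    rintro rfl
    have h0 : M.index ≡ 0 [MOD p] := Nat.modEq_zero_iff_dvd.2 (by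
      rcases hi with hi | hi
      · rw [hi]
      · rw [hi]; exact dvd_pow_self _ two_ne_zero)
    exact hp.one_lt.ne' (Nat.eq_one_of_dvd_one (Nat.modEq_zero_iff_dvd.1 (hmod.symm.trans h0)))
  have hq2 := hq.two_le
  have hp3 : p = 3 := by
    have h1 : p ∣ M.index - 1 := (Nat.modEq_iff_dvd' (by rcases hi with hi | hi <;> rw [hi] <;> nlinarith)).1 hmod.symm
    rcases hi with hi | hi
    · rw [hi] at h1
      have := Nat.le_of_dvd (by omega) h1
      omega
    · rw [hi, show q ^ 2 - 1 = (q + 1) * (q - 1) by simpa using Nat.sq_sub_sq q 1] at h1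
      rcases hp.dvd_mul.1 h1 with h1 | h1
      · have h2 := Nat.le_of_dvd (by omega) h1
        have hp' : p = q + 1 := by omega
        rcases hq.eq_two_or_odd' with rfl | hodd
        · exact hp'
        · exfalso
          have : p = 2 := (Nat.prime_dvd_prime_iff_eq Nat.prime_two hp).1 (by
            rw [hp']; exact even_iff_two_dvd.1 hodd.add_one) |>.symm
          omega
      · have := Nat.le_of_dvd (by omega) h1
        omega
  obtain ⟨a, s, hs, hcard⟩ := Nat.exists_eq_pow_mul_and_not_dvd (Nat.card_pos (α := G)).ne' 2 (by norm_num)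
  have hs3 : ∀ r : ℕ, r.Prime → r ∣ s → r = 3 := fun r hr hrs => by
    have h1 := hmax r hr (hcard ▸ dvd_mul_of_dvd_right hrs _)
    have h2 : r ≠ 2 := fun e => hs (e ▸ hrs)
    have := hr.two_le
    omega
  have hs' : s = 3 ^ s.primeFactorsList.length :=
    Nat.eq_prime_pow_of_unique_prime_dvd (fun e => hs (e ▸ dvd_zero 2)) fun {d} hd hdd => hs3 d hd hdd
  exact CT.isSolvable_of_card_two_primes Nat.prime_two Nat.prime_three _ G a _ rfl (hs' ▸ hcard)


/-- A finite group in which every maximal subgroup has index a prime or the square of a prime is solvable. -/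
theorem result {G : Type*} [Group G] [Finite G] (h : ∀ M : Subgroup G, IsCoatom M → ∃ p : ℕ, p.Prime ∧ (M.index = p ∨ M.index = p ^ 2)) : Group.IsSolvable G := by
  exact main _ G rfl h

end Cfsg.Agent.S4203
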