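import Cfsg.Statements.S4204
-- import your own Cfsg.Agent.* helpers here

set_option autoImplicit false
open Cfsg
open scoped Pointwise
set_option linter.all false

namespace Cfsg.Agent.S4204

open Subgroup
open scoped commutatorElement

variable {G : Type*} [Group G]

theorem comm_le_iff (N X Y : Subgroup G) [N.Normal] :
    ⁅X, Y⁆ ≤ N ↔ X ≤ (centralizer ((Y.map (QuotientGroup.mk' N) : Subgroup (G ⧸ N)) : Set (G ⧸ N))).comap
      (QuotientGroup.mk' N) := by
  rw [← map_le_iff_le_comap, ← commutator_eq_bot_iff_le_centralizer, ← map_commutator,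
    Subgroup.map_eq_bot_iff, QuotientGroup.ker_mk']

theorem comm_sup_right (N X Y Y' : Subgroup G) [N.Normal] (h : ⁅X, Y⁆ ≤ N) (h' : ⁅X, Y'⁆ ≤ N) :
    ⁅X, Y ⊔ Y'⁆ ≤ N := by
  rw [commutator_comm, comm_le_iff] at h h' ⊢
  exact sup_le h h'

/-- `⊤`, then the lower central series shifted by one. -/
def sh (H : Subgroup G) : ℕ → Subgroup G
  | 0 => ⊤
  | n + 1 => H.lowerCentralSeries n

theorem lcs_normal (H : Subgroup G) [H.Normal] : ∀ n, (H.lowerCentralSeries n).Normal
  | 0 => by rw [Subgroup.lowerCentralSeries_zero]; infer_instance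
  | n + 1 => by
    rw [Subgroup.lowerCentralSeries_succ]
    haveI := lcs_normal H n
    infer_instance

theorem sh_normal (H : Subgroup G) [H.Normal] : ∀ n, (sh H n).Normal
  | 0 => inferInstanceAs (⊤ : Subgroup G).Normal
  | n + 1 => lcs_normal H n

theorem comm_sh (H : Subgroup G) [H.Normal] : ∀ n, ⁅sh H n, H⁆ ≤ sh H (n + 1)
  | 0 => commutator_le_right _ _
  | _ + 1 => le_refl _

/-- The filtration of `H ⊔ K`. -/
def fil (H K : Subgroup G) (n : ℕ) : Subgroup G :=
  ⨆ q : {q : ℕ × ℕ // q.1 + q.2 = n + 1}, sh H q.1.1 ⊓ sh K q.1.2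

theorem le_fil (H K : Subgroup G) {n i j : ℕ} (h : i + j = n + 1) :
    sh H i ⊓ sh K j ≤ fil H K n :=
  le_iSup (fun q : {q : ℕ × ℕ // q.1 + q.2 = n + 1} => sh H q.1.1 ⊓ sh K q.1.2) ⟨(i, j), h⟩

theorem fil_normal (H K : Subgroup G) [H.Normal] [K.Normal] (n : ℕ) : (fil H K n).Normal := by
  refine ⟨fun a ha g => ?_⟩
  have : fil H K n ≤ (fil H K n).comap (MulAut.conj g).toMonoidHom := by
    refine iSup_le fun q x hx => ?_
    rw [mem_comap]
    refine le_fil H K q.2 ?_
    obtain ⟨h1, h2⟩ := mem_inf.1 hx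
    exact mem_inf.2 ⟨(sh_normal H _).conj_mem x h1 g, (sh_normal K _).conj_mem x h2 g⟩
  exact this ha

theorem lcs_le_fil (H K : Subgroup G) [H.Normal] [K.Normal] :
    ∀ n, (H ⊔ K).lowerCentralSeries n ≤ fil H K n
  | 0 => sup_le (le_trans (le_inf le_rfl le_top) (le_fil H K (i := 1) (j := 0) rfl))
      (le_trans (le_inf le_top le_rfl) (le_fil H K (i := 0) (j := 1) rfl))
  | n + 1 => by
    rw [Subgroup.lowerCentralSeries_succ]
    refine le_trans (commutator_mono (lcs_le_fil H K n) le_rfl) ?_
    haveI := fil_normal H K (n + 1)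
    rw [comm_le_iff]
    refine iSup_le fun q => ?_
    rw [← comm_le_iff]
    obtain ⟨⟨i, j⟩, hij⟩ := q
    change i + j = n + 1 at hij
    haveI := sh_normal H i
    haveI := sh_normal K j
    refine comm_sup_right _ _ _ _ ?_ ?_
    · refine le_trans (le_inf ?_ ?_) (le_fil H K (i := i + 1) (j := j) (by omega))
      · exact le_trans (commutator_mono inf_le_left le_rfl) (comm_sh H i)
      · exact le_trans (commutator_mono inf_le_right le_rfl) (commutator_le_left _ _)
    · refine le_trans (le_inf ?_ ?_) (le_fil H K (i := i) (j := j + 1) (by omega))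
      · exact le_trans (commutator_mono inf_le_left le_rfl) (commutator_le_left _ _)
      · exact le_trans (commutator_mono inf_le_right le_rfl) (comm_sh K j)


/-- If `H` and `K` are normal subgroups of a finite group with `H` nilpotent of class at most `c` and `K` nilpotent of class at most `d` (the terms with index `c`, respectively `d`, of their lower central series are trivial, indices starting at `0`), then `HK` is nilpotent of class at most `c + d`. -/
theorem result {G : Type*} [Group G] [Finite G] (H K : Subgroup G) [H.Normal] [K.Normal] (c d : ℕ) (hH : H.lowerCentralSeries c = ⊥) (hK : K.lowerCentralSeries d = ⊥) : (H ⊔ K).lowerCentralSeries (c + d) = ⊥ := by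
  rw [eq_bot_iff]
  refine le_trans (lcs_le_fil H K (c + d)) (iSup_le fun q => ?_)
  obtain ⟨⟨i, j⟩, hij⟩ := q
  change i + j = c + d + 1 at hij
  change sh H i ⊓ sh K j ≤ ⊥
  rcases le_or_gt (c + 1) i with h | h
  · refine le_trans inf_le_left ?_
    obtain ⟨i', rfl⟩ : ∃ i', i = i' + 1 := ⟨i - 1, by omega⟩
    exact le_trans (H.lowerCentralSeries_antitone (by omega)) hH.le
  · refine le_trans inf_le_right ?_
    obtain ⟨j', rfl⟩ : ∃ j', j = j' + 1 := ⟨j - 1, by omega⟩
    exact le_trans (K.lowerCentralSeries_antitone (by omega)) hK.le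

end Cfsg.Agent.S4204
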