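import Cfsg.Statements.S4211
import Cfsg.Agent.Lib.FGB.MillerCyclic
import Cfsg.Agent.Lib.Invol.Quaternion

set_option autoImplicit false
open Cfsg

namespace Cfsg.Agent.S4211

section
variable {G : Type*} [Group G]

def Q8Pair (G : Type*) [Group G] : Prop :=
  ∃ t d : G, orderOf d = 4 ∧ t * t = d ^ 2 ∧ t * d * t⁻¹ = d⁻¹

variable (hn : ∀ H : Subgroup G, H.Normal)
include hn

theorem conj_mem_zpowers (g x : G) : g * x * g⁻¹ ∈ Subgroup.zpowers x :=
  (hn _).conj_mem x (Subgroup.mem_zpowers x) g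

theorem comm_inf (x y : G) :
    y⁻¹ * x⁻¹ * y * x ∈ Subgroup.zpowers x ∧ y⁻¹ * x⁻¹ * y * x ∈ Subgroup.zpowers y := by
  constructor
  · refine mul_mem ?_ (Subgroup.mem_zpowers x)
    have h := conj_mem_zpowers hn y⁻¹ x⁻¹
    rw [inv_inv, Subgroup.zpowers_inv] at h
    exact h
  · rw [mul_assoc, mul_assoc]
    refine mul_mem (inv_mem (Subgroup.mem_zpowers y)) ?_
    have h := conj_mem_zpowers hn x⁻¹ y
    rw [inv_inv, mul_assoc] at h
    exact h

theorem pair_aux {p : ℕ} (hp : p.Prime) : ∀ (N : ℕ) (x y : G) (m n : ℕ), m + n ≤ N →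
    orderOf x = p ^ m → orderOf y = p ^ n → ¬ Commute x y → p = 2 ∧ Q8Pair G := by
  intro N
  induction N with
  | zero =>
    intro x y m n hN hx hy hxy
    obtain rfl : m = 0 := by omega
    rw [pow_zero, orderOf_eq_one_iff] at hx
    exact absurd (hx ▸ Commute.one_left y) hxy
  | succ N ih =>
  intro x y m n hN hx hy hxy
  classical
  wlog hnm : n ≤ m generalizing x y m n
  · exact this y x n m (by omega) hy hx (fun h => hxy h.symm) (by omega)
  obtain ⟨c, hc⟩ : ∃ c, c = y⁻¹ * x⁻¹ * y * x := ⟨_, rfl⟩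
  have hcm := comm_inf hn x y
  rw [← hc] at hcm
  have hcx : Commute c x := by
    obtain ⟨i, hi⟩ := Subgroup.mem_zpowers_iff.mp hcm.1
    rw [← hi]
    exact (Commute.refl x).zpow_left i
  have hcy : Commute c y := by
    obtain ⟨i, hi⟩ := Subgroup.mem_zpowers_iff.mp hcm.2
    rw [← hi]
    exact (Commute.refl y).zpow_left i
  have hyx : y * x = x * y * c := by rw [hc]; group
  have hc1 : c ≠ 1 := fun h => hxy (by rw [h, mul_one] at hyx; exact hyx.symm)
  have hm0 : m ≠ 0 := by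
    rintro rfl
    rw [pow_zero, orderOf_eq_one_iff] at hx
    exact hxy (hx ▸ Commute.one_left y)
  have hn0 : n ≠ 0 := by
    rintro rfl
    rw [pow_zero, orderOf_eq_one_iff] at hy
    exact hxy (hy ▸ Commute.one_right x)
  have low : ∀ (a b : G) (i k : ℕ), a ^ p ^ i = 1 → b ^ p ^ k = 1 → i + k ≤ N → ¬ Commute a b →
      p = 2 ∧ Q8Pair G := by
    intro a b i k ha hb hik hab
    obtain ⟨i', hi', hai⟩ := (Nat.dvd_prime_pow hp).mp (orderOf_dvd_of_pow_eq_one ha)
    obtain ⟨k', hk', hbk⟩ := (Nat.dvd_prime_pow hp).mp (orderOf_dvd_of_pow_eq_one hb)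
    exact ih a b i' k' (by omega) hai hbk hab
  have hxP : x ^ p ^ m = 1 := hx ▸ pow_orderOf_eq_one x
  have hyP : y ^ p ^ n = 1 := hy ▸ pow_orderOf_eq_one y
  have hyp' : (y ^ p) ^ p ^ (n - 1) = 1 := by rw [← pow_mul, mul_pow_sub_one hn0, hyP]
  have hxp' : (x ^ p) ^ p ^ (m - 1) = 1 := by rw [← pow_mul, mul_pow_sub_one hm0, hxP]
  by_cases hxyp : Commute x (y ^ p)
  swap
  · exact low x (y ^ p) m (n - 1) hxP hyp' (by omega) hxyp
  by_cases hxpy : Commute (x ^ p) y
  swap
  · exact low (x ^ p) y (m - 1) n hxp' hyP (by omega) hxpy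
  have hcp : c ^ p = 1 := by
    have e : x⁻¹ * y * x = y * c := by rw [mul_assoc, hyx]; group
    have e2 : (x⁻¹ * y * x) ^ p = x⁻¹ * y ^ p * x := by
      have := conj_pow (a := x⁻¹) (b := y) (i := p)
      rwa [inv_inv] at this
    rw [e, hcy.symm.mul_pow, mul_assoc, ← hxyp.eq, inv_mul_cancel_left] at e2
    exact mul_left_cancel (e2.trans (mul_one _).symm)
  have hoc : orderOf c = p := by
    haveI := Fact.mk hp
    exact orderOf_eq_prime hcp hc1
  have root : ∀ (z : G) (l : ℕ), orderOf z = p ^ (l + 1) → c ∈ Subgroup.zpowers z →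
      Subgroup.zpowers c = Subgroup.zpowers (z ^ p ^ l) := by
    intro z l hz hcz
    have hfin : Finite (Subgroup.zpowers (z ^ p ^ l)) := by
      apply Nat.finite_of_card_ne_zero
      rw [Nat.card_zpowers, orderOf_pow_of_dvd (pow_ne_zero _ hp.ne_zero) (hz ▸ pow_dvd_pow p (by omega)), hz]
      exact (Nat.div_pos (Nat.pow_le_pow_right hp.pos (by omega)) (pow_pos hp.pos _)).ne'
    refine Subgroup.eq_of_le_of_card_ge ?_ ?_
    · obtain ⟨a, ha⟩ := Subgroup.mem_zpowers_iff.mp hcz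
      have h1 : z ^ (a * p) = 1 := by rw [zpow_mul, ha, zpow_natCast, hcp]
      rw [← orderOf_dvd_iff_zpow_eq_one, hz] at h1
      push_cast [pow_succ] at h1
      obtain ⟨b, hb⟩ := Int.dvd_of_mul_dvd_mul_right (by exact_mod_cast hp.ne_zero) h1
      refine Subgroup.zpowers_le.mpr (Subgroup.mem_zpowers_iff.mpr ⟨b, ?_⟩)
      rw [← zpow_natCast, ← zpow_mul, Nat.cast_pow, ← hb, ha]
    · rw [Nat.card_zpowers, Nat.card_zpowers, hoc,
        orderOf_pow_of_dvd (pow_ne_zero _ hp.ne_zero) (hz ▸ pow_dvd_pow p (by omega)), hz,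
        Nat.pow_div (by omega) hp.pos, Nat.add_sub_cancel_left, pow_one]
  have rx := root x (m - 1) (by rw [hx]; congr 1; omega) hcm.1
  have ry := root y (n - 1) (by rw [hy]; congr 1; omega) hcm.2
  have hfox : IsOfFinOrder (x ^ p ^ (m - 1)) :=
    (orderOf_pos_iff.mp (by rw [hx]; exact pow_pos hp.pos _)).pow
  obtain ⟨k, hk⟩ : ∃ k : ℕ, (x ^ p ^ (m - 1)) ^ k = y ^ p ^ (n - 1) :=
    hfox.mem_zpowers_iff_mem_range_orderOf.mp (rx ▸ ry.symm ▸ Subgroup.mem_zpowers _) |>
      fun h => by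
        obtain ⟨k, -, hk⟩ := Finset.mem_image.mp h
        exact ⟨k, hk⟩
  set u := (x⁻¹) ^ (k * p ^ (m - n)) with hu
  have huP : u ^ p ^ (n - 1) * y ^ p ^ (n - 1) = 1 := by
    rw [hu, ← pow_mul, inv_pow, inv_mul_eq_one, ← hk, ← pow_mul, mul_assoc, ← pow_add,
      mul_comm k, show m - n + (n - 1) = m - 1 by omega]
  have hux : Commute x u := ((Commute.refl x).inv_right).pow_right _
  have hnc : ¬ Commute x (u * y) := fun h => hxy (by simpa using hux.inv_right.mul_right h)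
  have hd : y * u = u * y * (c⁻¹) ^ (k * p ^ (m - n)) := by
    have e : y * x⁻¹ * y⁻¹ = x⁻¹ * c⁻¹ := by
      have h2 : y⁻¹ * x⁻¹ * y * x = c := hc.symm
      have h3 : x * y * c = y * x := hyx.symm
      have h4 : y * x * y⁻¹ = x * c := by
        rw [hyx, mul_assoc (x * y), hcy.inv_right.eq, ← mul_assoc, mul_inv_cancel_right]
      calc y * x⁻¹ * y⁻¹ = (y * x * y⁻¹)⁻¹ := by group
        _ = (x * c)⁻¹ := by rw [h4]
        _ = x⁻¹ * c⁻¹ := by rw [mul_inv_rev, (hcx.inv_inv).eq]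
    have e2 : (y * x⁻¹ * y⁻¹) ^ (k * p ^ (m - n)) = y * u * y⁻¹ := conj_pow
    rw [e, ((hcx.inv_inv).symm).mul_pow, ← hu] at e2
    rw [mul_assoc u y, ((hcy.inv_left).symm.pow_right _).eq, ← mul_assoc, e2, inv_mul_cancel_right]
  have hcom : (u * y) ^ p ^ (n - 1) = ((c⁻¹) ^ (k * p ^ (m - n))) ^ (p ^ (n - 1)).choose 2 := by
    rw [FGB.mul_pow_of_central_commutator hd
      ((hcx.inv_left.pow_left _).inv_right.pow_right _ |> fun h => hu ▸ h) (hcy.inv_left.pow_left _),
      huP, one_mul]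
  by_cases hdiv : p ∣ (k * p ^ (m - n)) * (p ^ (n - 1)).choose 2
  · refine low x (u * y) m (n - 1) hxP ?_ (by omega) hnc
    obtain ⟨q, hq⟩ := hdiv
    rw [hcom, ← pow_mul, hq, pow_mul, inv_pow, hcp, inv_one, one_pow]
  · have hmn : m = n := by
      by_contra h
      exact hdiv (Dvd.dvd.mul_right (Dvd.dvd.mul_left (dvd_pow_self p (by omega)) k) _)
    subst hmn
    have hch : ¬ p ∣ (p ^ (m - 1)).choose 2 := fun h => hdiv (Dvd.dvd.mul_left h _)
    have hm1 : m ≠ 1 := by
      rintro rfl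
      exact hch (by simp)
    have h2 : 2 * (p ^ (m - 1)).choose 2 = p ^ (m - 1) * (p ^ (m - 1) - 1) := by
      rw [Nat.choose_two_right]
      exact Nat.mul_div_cancel' (even_iff_two_dvd.mp (Nat.even_mul_pred_self _))
    have hp2 : p = 2 := by
      by_contra hne
      refine hch ((Nat.Coprime.dvd_of_dvd_mul_left ?_ (h2 ▸ Dvd.dvd.mul_right (dvd_pow_self p (by omega)) _)))
      exact (Nat.coprime_primes hp Nat.prime_two).mpr hne
    subst hp2
    have hm2 : m = 2 := by
      by_contra hne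
      refine hch ?_
      obtain ⟨l, hl⟩ : ∃ l, m - 1 = l + 2 := ⟨m - 3, by omega⟩
      rw [hl, pow_add] at h2 ⊢
      refine ⟨2 ^ l * (2 ^ l * 2 ^ 2 - 1), ?_⟩
      nlinarith [h2]
    subst hm2
    have sq : ∀ z : G, orderOf z = 2 ^ 2 → Subgroup.zpowers c = Subgroup.zpowers (z ^ 2) → c = z ^ 2 := by
      intro z hz he
      have h4 : (z ^ 2) ^ 2 = 1 := by
        rw [← pow_mul, show (2 * 2 : ℕ) = orderOf z from hz.symm]
        exact pow_orderOf_eq_one z
      obtain ⟨i, hi⟩ := Subgroup.mem_zpowers_iff.mp (he ▸ Subgroup.mem_zpowers c)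
      rcases Int.even_or_odd' i with ⟨j, rfl | rfl⟩
      · rw [zpow_mul, zpow_two, ← sq, h4, one_zpow] at hi
        exact absurd hi.symm hc1
      · rw [zpow_add_one, zpow_mul, zpow_two, ← sq, h4, one_zpow, one_mul] at hi
        exact hi.symm
    have hcx2 : c = x ^ 2 := sq x hx (by simpa using rx)
    have hcy2 : c = y ^ 2 := sq y hy (by simpa using ry)
    refine ⟨rfl, y, x, hx, by rw [← pow_two, ← hcy2, hcx2], ?_⟩
    rw [hyx, mul_assoc (x * y), hcy.inv_right.eq, ← mul_assoc, mul_inv_cancel_right, hcx2]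
    refine eq_inv_of_mul_eq_one_left ?_
    rw [show x * x ^ 2 * x = x ^ 4 by group, show (4 : ℕ) = orderOf x from hx.symm]
    exact pow_orderOf_eq_one x

end

theorem exists_split {G : Type*} [Group G] {g : G} {a b : ℕ} (hab : Nat.Coprime a b)
    (hg : g ^ (a * b) = 1) : ∃ g1 g2 : G, g = g1 * g2 ∧ g1 ∈ Subgroup.zpowers g ∧
      g2 ∈ Subgroup.zpowers g ∧ g1 ^ a = 1 ∧ g2 ^ b = 1 := by
  have hb : (1 : ℤ) = b * Nat.gcdB a b + a * Nat.gcdA a b := by
    have := Nat.gcd_eq_gcd_ab a b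
    rw [hab.gcd_eq_one] at this
    push_cast at this
    linarith
  refine ⟨g ^ ((b : ℤ) * Nat.gcdB a b), g ^ ((a : ℤ) * Nat.gcdA a b), ?_,
    Subgroup.zpow_mem_zpowers g _, Subgroup.zpow_mem_zpowers g _, ?_, ?_⟩
  · rw [← zpow_add, ← hb, zpow_one]
  · rw [← zpow_natCast, ← zpow_mul, show (b : ℤ) * Nat.gcdB a b * a = ((a * b : ℕ) : ℤ) * Nat.gcdB a b by
      push_cast; ring, zpow_mul, zpow_natCast, hg, one_zpow]
  · rw [← zpow_natCast, ← zpow_mul, show (a : ℤ) * Nat.gcdA a b * b = ((a * b : ℕ) : ℤ) * Nat.gcdA a b by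
      push_cast; ring, zpow_mul, zpow_natCast, hg, one_zpow]

theorem exists_prime_part {G : Type*} [Group G] [Finite G] (y : G) : ∀ (N : ℕ) (x : G),
    orderOf x ≤ N → ¬ Commute x y →
    ∃ (p k : ℕ) (x' : G), p.Prime ∧ p ∣ orderOf x ∧ orderOf x' = p ^ k ∧ ¬ Commute x' y := by
  intro N
  induction N with
  | zero => intro x hx; exact absurd (orderOf_pos x) (by omega)
  | succ N ih =>
    intro x hx hxy
    have hne : orderOf x ≠ 1 := fun h => hxy (orderOf_eq_one_iff.mp h ▸ Commute.one_left y)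
    obtain ⟨p, hp, hpx⟩ := Nat.exists_prime_and_dvd hne
    obtain ⟨k, r, hr, hxr⟩ := Nat.exists_eq_pow_mul_and_not_dvd (orderOf_pos x).ne' p hp.ne_one
    have hk : k ≠ 0 := by
      rintro rfl
      rw [pow_zero, one_mul] at hxr
      exact hr (hxr ▸ hpx)
    rcases Nat.lt_or_ge 1 r with hr1 | hr1
    swap
    · have : r = 1 := by
        rcases Nat.eq_zero_or_pos r with rfl | h
        · exact absurd (dvd_zero p) hr
        · omega
      subst this
      exact ⟨p, k, x, hp, hpx, by simpa using hxr, hxy⟩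
    obtain ⟨x1, x2, hx12, -, -, h1, h2⟩ := exists_split ((hp.coprime_iff_not_dvd.mpr hr).pow_left k)
      (show x ^ (p ^ k * r) = 1 by rw [← hxr]; exact pow_orderOf_eq_one x)
    have hlt : p ^ k < orderOf x ∧ r < orderOf x := by
      rw [hxr]
      exact ⟨lt_mul_of_one_lt_right (pow_pos hp.pos k) hr1,
        lt_mul_of_one_lt_left (by omega) (Nat.one_lt_pow hk hp.one_lt)⟩
    have hd1 := orderOf_dvd_of_pow_eq_one h1
    have hd2 := orderOf_dvd_of_pow_eq_one h2
    by_cases hc1 : Commute x1 y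
    · have hc2 : ¬ Commute x2 y := fun h => hxy (hx12 ▸ hc1.mul_left h)
      obtain ⟨q, l, x', hq, hqd, hx', hc⟩ := ih x2
        (by have := Nat.le_of_dvd (by omega) hd2; omega) hc2
      exact ⟨q, l, x', hq, hqd.trans (hd2.trans (hxr ▸ dvd_mul_left _ _)), hx', hc⟩
    · obtain ⟨q, l, x', hq, hqd, hx', hc⟩ := ih x1
        (by have := Nat.le_of_dvd (pow_pos hp.pos k) hd1; omega) hc1
      exact ⟨q, l, x', hq, hqd.trans (hd1.trans (hxr ▸ dvd_mul_right _ _)), hx', hc⟩

theorem exists_pair {G : Type*} [Group G] [Finite G] (hn : ∀ H : Subgroup G, H.Normal) {x y : G}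
    (hxy : ¬ Commute x y) : Q8Pair G ∧ 2 ∣ orderOf x := by
  obtain ⟨p, i, x', hp, hpx, hx', h1⟩ := exists_prime_part y _ x le_rfl hxy
  obtain ⟨q, l, y', hq, -, hy', h2⟩ := exists_prime_part x' _ y le_rfl (fun h => h1 h.symm)
  have hpq : p = q := by
    by_contra hne
    obtain ⟨c1, c2⟩ := comm_inf hn x' y'
    have d1 := orderOf_dvd_of_mem_zpowers c1
    have d2 := orderOf_dvd_of_mem_zpowers c2
    rw [hx'] at d1
    rw [hy'] at d2
    have := Nat.eq_one_of_dvd_coprimes (Nat.coprime_pow_primes i l hp hq hne) d1 d2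
    rw [orderOf_eq_one_iff] at this
    refine h2 ?_
    have e : y' * x' = x' * y' * (y'⁻¹ * x'⁻¹ * y' * x') := by group
    rw [this, mul_one] at e
    exact e
  subst hpq
  obtain ⟨h2', hQ⟩ := pair_aux hn hp (i + l) x' y' i l le_rfl hx' hy' (fun h => h2 h.symm)
  exact ⟨hQ, h2' ▸ hpx⟩

/-- A finite non-abelian group in which every subgroup is normal is the internal direct product of a subgroup isomorphic to the quaternion group of order `8`, an elementary abelian `2`-subgroup and an abelian subgroup of odd order. -/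
theorem result {G : Type*} [Group G] [Finite G] (hna : ¬ IsMulCommutative G) (hn : ∀ H : Subgroup G, H.Normal) : ∃ Q E A : Subgroup G, Nonempty (Q ≃* QuaternionGroup 2) ∧ Cfsg.IsElementaryAbelian 2 E ∧ IsMulCommutative A ∧ Odd (Nat.card A) ∧ E ⊓ A = ⊥ ∧ Q ⊓ (E ⊔ A) = ⊥ ∧ Q ⊔ (E ⊔ A) = ⊤ := by
  classical
  have hcen : ∀ g : G, Odd (orderOf g) → ∀ h : G, Commute g h := by
    intro g hg h
    by_contra hc
    exact Nat.not_even_iff_odd.mpr hg (even_iff_two_dvd.mpr (exists_pair hn hc).2)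
  obtain ⟨t, d, hd, htd, hinv⟩ : Q8Pair G := by
    by_contra hQ
    exact hna ⟨⟨fun a b => by
      by_contra hc
      exact hQ (exists_pair hn (x := a) (y := b) hc).1⟩⟩
  have hd4 : d ^ 4 = 1 := hd ▸ pow_orderOf_eq_one d
  have hd2 : d ^ 2 ≠ 1 := fun h => by
    have := orderOf_dvd_of_pow_eq_one h
    rw [hd] at this
    norm_num at this
  have hdt : ¬ Commute t d := fun h => hd2 (by
    rw [h.eq, mul_inv_cancel_right] at hinv
    rw [pow_two]; exact mul_eq_one_iff_eq_inv.mpr hinv)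
  have htn : t ∉ Subgroup.zpowers d := fun h => by
    obtain ⟨i, rfl⟩ := Subgroup.mem_zpowers_iff.mp h
    exact hdt ((Commute.refl d).zpow_left i)
  obtain ⟨φ⟩ := Cfsg.Agent.Invol.nonempty_quaternionEquiv hinv 2 hd htd htn
  have ht4 : t ^ 4 = 1 := by rw [show 4 = 2 * 2 from rfl, pow_mul, pow_two t, htd, ← pow_mul, hd4]
  have ford : ∀ z : G, z ^ 4 = 1 → ∀ w ∈ Subgroup.zpowers z, w = 1 ∨ w = z ∨ w = z ^ 2 ∨ w = z ^ 3 := by
    intro z hz w hw
    rw [IsOfFinOrder.mem_zpowers_iff_mem_range_orderOf (isOfFinOrder_of_finite z), Finset.mem_image] at hw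
    obtain ⟨i, hi, rfl⟩ := hw
    rw [Finset.mem_range] at hi
    have : orderOf z ≤ 4 := Nat.le_of_dvd (by norm_num) (orderOf_dvd_of_pow_eq_one hz)
    have : i = 0 ∨ i = 1 ∨ i = 2 ∨ i = 3 := by omega
    rcases this with rfl | rfl | rfl | rfl <;> simp
  -- centraliser of the pair
  set Q := Subgroup.closure ({t, d} : Set G) with hQ
  have htQ : t ∈ Q := Subgroup.subset_closure (by simp)
  have hdQ : d ∈ Q := Subgroup.subset_closure (by simp)
  let C : Subgroup G := Subgroup.centralizer ({t, d} : Set G)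
  have memC : ∀ g : G, g ∈ C ↔ Commute t g ∧ Commute d g := by
    intro g
    show g ∈ Subgroup.centralizer ({t, d} : Set G) ↔ _
    simp only [Subgroup.mem_centralizer_iff, Set.mem_insert_iff, Set.mem_singleton_iff]
    exact ⟨fun h => ⟨h t (Or.inl rfl), h d (Or.inr rfl)⟩, fun h w hw => by
      rcases hw with rfl | rfl
      · exact h.1
      · exact h.2⟩
  have hd2c : Commute t (d ^ 2) := htd ▸ (Commute.refl t).mul_right (Commute.refl t)
  have sq1 : ∀ k : ℕ, ∀ z ∈ C, z ^ (2 ^ k) = 1 → z * z = 1 := by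
    intro k
    induction k with
    | zero => intro z _ hz; rw [pow_zero, pow_one] at hz; rw [hz, mul_one]
    | succ k ih =>
      intro z hz hzk
      have h22 := ih (z * z) (mul_mem hz hz) (by rw [← pow_two, ← pow_mul, ← pow_succ']; exact hzk)
      obtain ⟨hzt, hzd⟩ := (memC z).mp hz
      have hz4 : z ^ 4 = 1 := by rw [show 4 = 2 * 2 from rfl, pow_mul, pow_two, pow_two]; exact h22
      have hne : z ≠ d := fun h => hdt (h ▸ hzt)
      have h4 : (d * z) ^ 4 = 1 := by rw [hzd.mul_pow, hd4, hz4, mul_one]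
      have hw : d⁻¹ * z ∈ Subgroup.zpowers (d * z) := by
        have h := conj_mem_zpowers hn t (d * z)
        rwa [show t * (d * z) * t⁻¹ = (t * d * t⁻¹) * (t * z * t⁻¹) by group, hinv, hzt.eq,
          mul_inv_cancel_right] at h
      rcases ford _ h4 _ hw with h | h | h | h
      · exact absurd (inv_mul_eq_one.mp h).symm hne
      · refine absurd ?_ hd2
        rw [pow_two]
        exact mul_eq_one_iff_eq_inv.mpr (mul_right_cancel h).symm
      · rw [hzd.mul_pow] at h
        refine absurd ?_ hdt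
        have h' : d⁻¹ = d ^ 2 * z := by
          apply mul_right_cancel (b := z)
          rw [h, pow_two z, mul_assoc]
        have hz' : z = d := by
          rw [← mul_right_inj (d ^ 2), ← h', inv_eq_iff_mul_eq_one, ← pow_succ, ← pow_succ']
          exact hd4
        exact absurd hz' hne
      · rw [hzd.mul_pow, show d ^ 3 = d⁻¹ from eq_inv_of_mul_eq_one_left (by rw [← pow_succ, hd4])] at h
        have h' := mul_left_cancel h
        calc z * z = z ^ 3 * z := by rw [← h']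
          _ = 1 := by rw [← pow_succ, hz4]
  have invc : ∀ z : G, z * z = 1 → ∀ g : G, Commute g z := by
    intro z hz g
    by_cases hz1 : z = 1
    · rw [hz1]; exact Commute.one_right g
    have h4 : z ^ 4 = 1 := by rw [show 4 = 2 * 2 from rfl, pow_mul, pow_two z, hz, one_pow]
    have h3 : z ^ 3 = z := by rw [pow_succ, pow_two, hz, one_mul]
    rcases ford z h4 _ (conj_mem_zpowers hn g z) with h | h | h | h
    · exact absurd (conj_eq_one_iff.mp h) hz1
    · exact mul_inv_eq_iff_eq_mul.mp h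
    · rw [pow_two, hz] at h
      exact absurd (conj_eq_one_iff.mp h) hz1
    · rw [h3] at h
      exact mul_inv_eq_iff_eq_mul.mp h
  let V : Subgroup G :=
    { carrier := {z | z * z = 1}
      one_mem' := one_mul 1
      mul_mem' := fun {a b} (ha : a * a = 1) (hb : b * b = 1) => by
        show a * b * (a * b) = 1
        rw [show a * b * (a * b) = a * (b * a) * b by group, (invc a ha b).eq, ← mul_assoc, ha,
          one_mul, hb]
      inv_mem' := fun {a} (ha : a * a = 1) => by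
        show a⁻¹ * a⁻¹ = 1
        rw [← mul_inv_rev, ha, inv_one] }
  let A : Subgroup G :=
    { carrier := {g | Odd (orderOf g)}
      one_mem' := by show Odd (orderOf (1 : G)); rw [orderOf_one]; exact odd_one
      mul_mem' := fun {a b} (ha : Odd (orderOf a)) (hb : Odd (orderOf b)) => by
        show Odd (orderOf (a * b))
        exact (ha.mul hb).of_dvd_nat ((hcen a ha b).orderOf_mul_dvd_mul_orderOf)
      inv_mem' := fun {a} (ha : Odd (orderOf a)) => by
        show Odd (orderOf a⁻¹)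
        rwa [orderOf_inv] }
  have hc2V : d ^ 2 ∈ V := by show d ^ 2 * d ^ 2 = 1; rw [← pow_add]; exact hd4
  obtain ⟨E, ⟨hEV, hcE⟩, hEmax⟩ : ∃ E : Subgroup G, (E ≤ V ∧ d ^ 2 ∉ E) ∧
      ∀ F : Subgroup G, F ≤ V → d ^ 2 ∉ F → E ≤ F → F = E := by
    obtain ⟨E, hE⟩ := Set.Finite.exists_maximal (Set.toFinite {F : Subgroup G | F ≤ V ∧ d ^ 2 ∉ F})
      ⟨⊥, bot_le, fun h => hd2 (Subgroup.mem_bot.mp h)⟩
    exact ⟨E, hE.prop, fun F h1 h2 h3 => le_antisymm (hE.le_of_ge ⟨h1, h2⟩ h3) h3⟩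
  have hVE : ∀ v ∈ V, v ∈ E ∨ ∃ e ∈ E, v = d ^ 2 * e := by
    intro v hv
    by_cases hve : v ∈ E
    · exact Or.inl hve
    right
    have hmem : d ^ 2 ∈ E ⊔ Subgroup.zpowers v := by
      by_contra hc
      exact hve (hEmax _ (sup_le hEV (Subgroup.zpowers_le.mpr hv)) hc le_sup_left ▸
        Subgroup.mem_sup_right (Subgroup.mem_zpowers v))
    haveI := hn (Subgroup.zpowers v)
    obtain ⟨e, he, w, hw, hew⟩ : ∃ e ∈ E, ∃ w ∈ Subgroup.zpowers v, e * w = d ^ 2 := by
      rw [← SetLike.mem_coe, Subgroup.mul_normal] at hmem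
      exact hmem
    have hv4 : v ^ 4 = 1 := by
      rw [show 4 = 2 * 2 from rfl, pow_mul, pow_two v, (hv : v * v = 1), one_pow]
    have hvv : v ^ 3 = v := by rw [pow_succ, pow_two, (hv : v * v = 1), one_mul]
    have hee : e * e = 1 := hEV he
    refine ⟨e, he, ?_⟩
    rcases ford v hv4 w hw with rfl | h | rfl | h
    · rw [mul_one] at hew; exact absurd (hew ▸ he) hcE
    · rw [← hew, h, mul_assoc, (invc e hee v).eq, ← mul_assoc, hee, one_mul]
    · rw [pow_two v, (hv : v * v = 1), mul_one] at hew; exact absurd (hew ▸ he) hcE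
    · rw [← hew, h, hvv, mul_assoc, (invc e hee v).eq, ← mul_assoc, hee, one_mul]
  have hQc : ∀ g : G, ∃ q ∈ Q, q⁻¹ * g ∈ C := by
    intro g
    have dd : ∀ z : G, z ^ 4 = 1 → z ^ 2 ≠ 1 → ∀ g : G, g * z * g⁻¹ = z ∨ g * z * g⁻¹ = z⁻¹ := by
      intro z hz hz2 g
      rcases ford z hz _ (conj_mem_zpowers hn g z) with h | h | h | h
      · exact absurd (by rw [conj_eq_one_iff.mp h, one_pow]) hz2
      · exact Or.inl h
      · refine absurd ?_ hz2
        have h5 := congrArg (· ^ 2) h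
        simp only [conj_pow, ← pow_mul] at h5
        rw [hz] at h5
        exact conj_eq_one_iff.mp h5
      · exact Or.inr (h.trans (eq_inv_of_mul_eq_one_left (by rw [← pow_succ, hz])))
    have step : ∀ (q : G), q ∈ Q → (g * t * g⁻¹ = q * t * q⁻¹) → (g * d * g⁻¹ = q * d * q⁻¹) →
        ∃ q ∈ Q, q⁻¹ * g ∈ C := by
      intro q hq h1 h2
      refine ⟨q, hq, (memC _).mpr ⟨?_, ?_⟩⟩
      · have := congrArg (fun w => q⁻¹ * w * g) h1
        show t * (q⁻¹ * g) = q⁻¹ * g * t
        group at this ⊢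
        exact this.symm
      · have := congrArg (fun w => q⁻¹ * w * g) h2
        show d * (q⁻¹ * g) = q⁻¹ * g * d
        group at this ⊢
        exact this.symm
    have hdt' : d * t * d⁻¹ = t⁻¹ := by
      have e : d * t = t * d⁻¹ := by
        have h := congrArg (fun w => w * t * d⁻¹) hinv
        have h' : t * d * t⁻¹ * t * d⁻¹ = d⁻¹ * t * d⁻¹ := h
        rw [inv_mul_cancel_right, mul_inv_cancel_right] at h'
        calc d * t = d * (d⁻¹ * t * d⁻¹) := by rw [← h']
          _ = t * d⁻¹ := by group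
      rw [e, mul_assoc, ← mul_inv_rev, ← pow_two, ← htd, mul_inv_rev, mul_inv_cancel_left]
    rcases dd t ht4 (by rw [pow_two, htd]; exact hd2) g with h1 | h1 <;>
      rcases dd d hd4 hd2 g with h2 | h2
    · exact step 1 (one_mem _) (by simpa using h1) (by simpa using h2)
    · exact step t htQ (by simpa using h1) (h2.trans hinv.symm)
    · exact step d hdQ (h1.trans hdt'.symm) (by simpa using h2)
    · refine step (t * d) (mul_mem htQ hdQ) ?_ ?_
      · rw [h1, show t * d * t * (t * d)⁻¹ = t * (d * t * d⁻¹) * t⁻¹ by group, hdt']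
        group
      · rw [h2, show t * d * d * (t * d)⁻¹ = t * d * t⁻¹ by group, hinv]
  refine ⟨Q, E, A, ⟨φ.symm⟩, ⟨⟨⟨fun a b => Subtype.ext (invc b.1 (hEV b.2) a.1).eq⟩⟩,
    fun a ha => by rw [pow_two]; exact hEV ha⟩, ⟨⟨fun a b => Subtype.ext (hcen a.1 a.2 b.1).eq⟩⟩,
    ?_, ?_, ?_, ?_⟩
  · by_contra hA
    haveI : Fact (Nat.Prime 2) := ⟨Nat.prime_two⟩
    obtain ⟨z, hz⟩ := exists_prime_orderOf_dvd_card' (G := A) 2
      (even_iff_two_dvd.mp (Nat.not_odd_iff_even.mp hA))
    have h1 : Odd (orderOf (z : G)) := z.2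
    rw [Subgroup.orderOf_coe, hz] at h1
    exact absurd h1 (by decide)
  · rw [eq_bot_iff]
    rintro z ⟨hzE, hzA⟩
    rw [Subgroup.mem_bot, ← orderOf_eq_one_iff]
    exact Nat.eq_one_of_dvd_coprimes
      (Nat.coprime_two_right.mpr (hzA : Odd (orderOf z))) dvd_rfl
      (orderOf_dvd_of_pow_eq_one (by rw [pow_two]; exact hEV hzE))
  · rw [eq_bot_iff]
    rintro q ⟨hq, hqEA⟩
    haveI := hn A
    change q ∈ ((E ⊔ A : Subgroup G) : Set G) at hqEA
    rw [Subgroup.mul_normal] at hqEA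
    obtain ⟨e, he, a, ha, rfl⟩ := hqEA
    have hee : e * e = 1 := hEV he
    have ha' : Odd (orderOf a) := ha
    have h8 : (e * a) ^ 8 = 1 := by
      have h : orderOf (⟨e * a, hq⟩ : Q) ∣ 8 := by
        have := orderOf_dvd_natCard (⟨e * a, hq⟩ : Q)
        rwa [← Nat.card_congr φ.toEquiv, Nat.card_eq_fintype_card, QuaternionGroup.card] at this
      rw [Subgroup.orderOf_mk] at h
      exact orderOf_dvd_iff_pow_eq_one.mp h
    have ha1 : a = 1 := by
      rw [← orderOf_eq_one_iff]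
      refine Nat.eq_one_of_dvd_coprimes ?_ dvd_rfl (orderOf_dvd_of_pow_eq_one (n := 8) ?_)
      · rw [show 8 = 2 ^ 3 from rfl]
        exact (Nat.coprime_two_right.mpr ha').pow_right 3
      · rw [((hcen a ha' e).symm).mul_pow, show 8 = 2 * 4 from rfl, pow_mul e, pow_two e, hee,
          one_pow, one_mul] at h8
        exact h8
    rw [Subgroup.mem_bot]
    show e * a = 1
    rw [ha1, mul_one]
    have heQ : e ∈ Q := by
      have : e * a ∈ Q := hq
      rwa [ha1, mul_one] at this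
    by_contra he1
    obtain ⟨w, hw⟩ := φ.surjective ⟨e, heQ⟩
    have hwc : ∀ v, w * v = v * w := fun v => φ.injective (by
      rw [map_mul, map_mul, hw]; exact Subtype.ext (invc e hee (φ v : G)).symm.eq)
    obtain ⟨v, hv⟩ := φ.surjective ⟨d ^ 2, pow_mem hdQ 2⟩
    have hvc : ∀ u, v * u = u * v := fun u => φ.injective (by
      rw [map_mul, map_mul, hv]; exact Subtype.ext (invc (d ^ 2) hc2V (φ u : G)).symm.eq)
    have hw1 : w ≠ 1 := fun h => he1 (by
      rw [h, map_one] at hw; exact (congrArg Subtype.val hw).symm)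
    have hv1 : v ≠ 1 := fun h => hd2 (by
      rw [h, map_one] at hv; exact (congrArg Subtype.val hv).symm)
    have key : ∀ a b : QuaternionGroup 2, (∀ u, a * u = u * a) → (∀ u, b * u = u * b) → a ≠ 1 → b ≠ 1 → a = b := by
      decide
    have := key w v hwc hvc hw1 hv1
    rw [this, hv] at hw
    have h9 : d ^ 2 = e := congrArg Subtype.val hw
    exact hcE (h9 ▸ he)
  · rw [eq_top_iff]
    intro g _
    obtain ⟨q, hq, hqg⟩ := hQc g
    obtain ⟨k, r, hr, hor⟩ := Nat.exists_eq_pow_mul_and_not_dvd (orderOf_pos (q⁻¹ * g)).ne' 2 (by norm_num)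
    have hrodd : Odd r := Nat.not_even_iff_odd.mp fun h => hr (even_iff_two_dvd.mp h)
    obtain ⟨u1, u2, h12, hm1, -, hu1, hu2⟩ := exists_split
      ((Nat.prime_two.coprime_iff_not_dvd.mpr hr).pow_left k)
      (show (q⁻¹ * g) ^ (2 ^ k * r) = 1 by rw [← hor]; exact pow_orderOf_eq_one _)
    have hA2 : u2 ∈ A := hrodd.of_dvd_nat (orderOf_dvd_of_pow_eq_one hu2)
    have hV1 : u1 ∈ V := sq1 k u1 (Subgroup.zpowers_le.mpr hqg hm1) hu1
    rw [show g = q * (u1 * u2) by rw [← h12, mul_inv_cancel_left]]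
    refine mul_mem (Subgroup.mem_sup_left hq) (mul_mem ?_ (Subgroup.mem_sup_right (Subgroup.mem_sup_right hA2)))
    rcases hVE u1 hV1 with h | ⟨e, he, rfl⟩
    · exact Subgroup.mem_sup_right (Subgroup.mem_sup_left h)
    · exact mul_mem (Subgroup.mem_sup_left (pow_mem hdQ 2)) (Subgroup.mem_sup_right (Subgroup.mem_sup_left he))

end Cfsg.Agent.S4211
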