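import Cfsg.Statements.S4212
import Cfsg.Agent.Lib.Components.FrobCount

set_option autoImplicit false
open Cfsg

namespace Cfsg.Agent.S4212

/-- Let `G` be a finite group of order `g`, `c` an element whose conjugacy class has `h` elements, and `n` a natural number. Then the number of elements `x` of `G` with `x^n` conjugate to `c` is a multiple of `gcd(hn, g)`. -/
theorem result {G : Type*} [Group G] [Finite G] (c : G) (n : ℕ) : Nat.gcd (Nat.card {y : G // IsConj c y} * n) (Nat.card G) ∣ Nat.card {x : G // IsConj c (x ^ n)} := by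
  classical
  haveI := Fintype.ofFinite G
  set C := Subgroup.centralizer ({c} : Set G) with hC
  have hcC : c ∈ C := Subgroup.mem_centralizer_singleton_iff.mpr rfl
  have hcc : (⟨c, hcC⟩ : ↥C) ∈ Subgroup.center ↥C := Subgroup.mem_center_iff.mpr fun g =>
    Subtype.ext (Subgroup.mem_centralizer_singleton_iff.mp g.2)
  have h1 := FrobCount.gcd_dvd_card_roots hcc n
  have e1 : Nat.card {x : ↥C // x ^ n = ⟨c, hcC⟩} = Nat.card {x : G // x ^ n = c} :=
    Nat.card_congr
      { toFun := fun x => ⟨x.1.1, by simpa using congrArg Subtype.val x.2⟩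
        invFun := fun x => ⟨⟨x.1, Subgroup.mem_centralizer_singleton_iff.mpr
          (((Commute.refl x.1).pow_right n).eq.trans rfl |> fun h => by have h2 := x.2; generalize x.1 = w at h h2 ⊢; subst h2; exact h)⟩, Subtype.ext (by simpa using x.2)⟩
        left_inv := fun _ => rfl
        right_inv := fun _ => rfl }
  have e2 : Nat.card {x : G // IsConj c (x ^ n)} =
      Nat.card {y : G // IsConj c y} * Nat.card {x : G // x ^ n = c} := by
    have hg : ∀ y : {y : G // IsConj c y},
        Nat.card {x : {x : G // IsConj c (x ^ n)} // (x : G) ^ n = y} = Nat.card {x : G // x ^ n = c} := by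
      rintro ⟨y, hy⟩
      obtain ⟨g, rfl⟩ := isConj_iff.mp hy
      rw [Nat.card_congr (Equiv.subtypeSubtypeEquivSubtype (p := fun x : G => IsConj c (x ^ n))
        (q := fun x => x ^ n = g * c * g⁻¹) fun {x} hx => hx ▸ isConj_iff.mpr ⟨g, rfl⟩)]
      refine (Nat.card_congr ((MulAut.conj g).toEquiv.subtypeEquiv fun x => ?_)).symm
      simp [conj_pow]
    rw [← Nat.card_congr (Equiv.sigmaFiberEquiv (α := {x : G // IsConj c (x ^ n)})
      (fun x => (⟨(x : G) ^ n, x.2⟩ : {y : G // IsConj c y}))), Nat.card_sigma]
    rw [Finset.sum_const_nat fun y _ => ?_, Finset.card_univ, ← Nat.card_eq_fintype_card]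
    rw [← hg y]
    exact Nat.card_congr (Equiv.subtypeEquivRight fun x => Subtype.ext_iff)
  rw [e2, ← e1]
  rw [show Nat.card G = Nat.card {y : G // IsConj c y} * Nat.card ↥C from
    (Invol.card_class_mul_card_centralizer c).symm, Nat.gcd_mul_left]
  exact Nat.mul_dvd_mul_left _ h1

end Cfsg.Agent.S4212
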