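import Cfsg.Statements.S4213
import Cfsg.Agent.Lib.Basics.Tools
import Cfsg.Agent.Lib.FGB.FrobeniusTheorem
import Mathlib

set_option autoImplicit false
open Cfsg
open scoped Pointwise
set_option linter.all false

namespace Cfsg.Agent.S4213

open Cfsg.Agent

universe u

theorem main : ∀ (N : ℕ) (G : Type u) [Group G] [Finite G] [Group.IsSolvable G], Nat.card G = N →
    ∀ n : ℕ, n ∣ N → Nat.card {x : G // x ^ n = 1} = n →
      ∃ H : Subgroup G, H.Normal ∧ (H : Set G) = {x : G | x ^ n = 1} := by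
  intro N
  induction N using Nat.strong_induction_on with
  | _ N ih =>
  intro G _ _ _ hN n hn hcount
  rcases subsingleton_or_nontrivial G with hG | hG
  · exact ⟨⊥, inferInstance, Set.ext fun x => by simp [Subsingleton.elim x 1]⟩
  obtain ⟨p, K, hp, hKn, -, hKne, -, hexp⟩ :=
    Basics.exists_elementary_normal (N := (⊤ : Subgroup G)) top_ne_bot inferInstance
  haveI := hKn
  haveI := Fact.mk hp
  obtain ⟨i, hi⟩ := IsPGroup.iff_card.1 (Basics.isPGroup_of_pow_eq_one hexp)
  have hcardq : Nat.card G = Nat.card (G ⧸ K) * Nat.card K := K.card_eq_card_quotient_mul_card_subgroup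
  have hlt : Nat.card (G ⧸ K) < N := by
    rw [← hN, hcardq]
    exact lt_mul_of_one_lt_right Nat.card_pos ((Subgroup.one_lt_card_iff_ne_bot _).2 hKne)
  have hnpos : n ≠ 0 := fun h => Nat.card_pos.ne' (show Nat.card G = 0 by rw [hN]; exact Nat.eq_zero_of_zero_dvd (h ▸ hn))
  by_cases hpn : p ∣ n
  · -- `p` divides `n`
    set g := Nat.gcd n (Nat.card K) with hg
    set n' := n / g with hn'
    have hn'g : n' * g = n := Nat.div_mul_cancel (Nat.gcd_dvd_left _ _)
    have hpg : p ∣ g := Nat.dvd_gcd hpn (by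
      have := Basics.isPGroup_of_pow_eq_one hexp
      obtain ⟨z, hz, hz1⟩ := (Subgroup.ne_bot_iff_exists_ne_one.1 hKne).elim fun z h =>
        (⟨z.1, z.2, fun e => h (Subtype.ext e)⟩ : ∃ z, z ∈ K ∧ z ≠ 1)
      rw [← orderOf_eq_prime (hexp z hz) hz1]
      exact Subgroup.orderOf_dvd_natCard _ hz)
    have hdvdQ : n' ∣ Nat.card (G ⧸ K) := by
      rw [← hN, hcardq] at hn
      have h1 : n' ∣ Nat.card (G ⧸ K) * (Nat.card K / g) := by
        have h2 : n' * g ∣ Nat.card (G ⧸ K) * (Nat.card K / g) * g := by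
          rw [hn'g, mul_assoc, Nat.div_mul_cancel (Nat.gcd_dvd_right _ _)]; exact hn
        exact Nat.dvd_of_mul_dvd_mul_right (Nat.gcd_pos_of_pos_right _ Nat.card_pos) h2
      exact (Nat.coprime_div_gcd_div_gcd (Nat.gcd_pos_of_pos_right _ Nat.card_pos)).dvd_of_dvd_mul_right h1
    have hroots : ∀ y : G, (y : G ⧸ K) ^ n' = 1 → y ^ n = 1 := by
      intro y hy
      rw [← QuotientGroup.mk_pow, QuotientGroup.eq_one_iff] at hy
      obtain ⟨c, hc⟩ := hpg
      rw [← hn'g, hc, pow_mul, pow_mul, hexp _ hy, one_pow]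
    have hm0 : 0 < Nat.card {q : G ⧸ K // q ^ n' = 1} :=
      Nat.card_pos_iff.2 ⟨⟨⟨1, one_pow _⟩⟩, inferInstance⟩
    have hsub : Nat.card {x : G // (x : G ⧸ K) ^ n' = 1} = Nat.card {q : G ⧸ K // q ^ n' = 1} * Nat.card K := by
      have h := Nat.card_congr (QuotientGroup.preimageMkEquivSubgroupProdSet K {q : G ⧸ K | q ^ n' = 1})
      rw [Nat.card_prod, mul_comm] at h
      exact h
    have hle : Nat.card {x : G // (x : G ⧸ K) ^ n' = 1} ≤ n := by
      refine le_of_le_of_eq ?_ hcount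
      exact Nat.card_le_card_of_injective (fun x => ⟨x.1, hroots x.1 x.2⟩)
        fun a b h => Subtype.ext (congrArg (fun z => z.1) h :)
    have hdvd := FGB.frobenius_dvd (G := G ⧸ K) n' hdvdQ
    have hm : n' ≤ Nat.card {q : G ⧸ K // q ^ n' = 1} := Nat.le_of_dvd hm0 hdvd
    have hgK : g ≤ Nat.card K := Nat.le_of_dvd Nat.card_pos (Nat.gcd_dvd_right _ _)
    have hn'0 : 0 < n' := Nat.pos_of_ne_zero fun h => hnpos (by rw [← hn'g, h, zero_mul])
    rw [hsub] at hle
    have hmK : Nat.card {q : G ⧸ K // q ^ n' = 1} = n' ∧ Nat.card K = g := by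
      have h1 : n' * Nat.card K ≤ n' * g := by
        rw [hn'g]; exact le_trans (Nat.mul_le_mul_right _ hm) hle
      have h2 : Nat.card K = g := le_antisymm (Nat.le_of_mul_le_mul_left h1 hn'0) hgK
      refine ⟨le_antisymm ?_ hm, h2⟩
      rw [h2, ← hn'g] at hle
      exact Nat.le_of_mul_le_mul_right hle (Nat.gcd_pos_of_pos_right _ Nat.card_pos)
    obtain ⟨Hb, hHn, hHset⟩ := ih _ hlt (G ⧸ K) rfl n' hdvdQ hmK.1
    haveI := hHn
    refine ⟨Hb.comap (QuotientGroup.mk' K), inferInstance, ?_⟩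
    have hsubset : ((Hb.comap (QuotientGroup.mk' K) : Subgroup G) : Set G) ⊆ {x : G | x ^ n = 1} := fun x hx =>
      hroots x ((Set.ext_iff.1 hHset _).1 hx)
    refine Set.eq_of_subset_of_ncard_le hsubset ?_
    rw [← Nat.card_coe_set_eq, ← Nat.card_coe_set_eq]
    show Nat.card {x : G // x ^ n = 1} ≤ _
    rw [hcount, ← hn'g, ← hmK.2, ← hmK.1, ← hsub]
    exact le_of_eq (Nat.card_congr (Equiv.subtypeEquivRight fun x => (Set.ext_iff.1 hHset _).symm))
  · -- `p` does not divide `n`
    have hco : n.Coprime (Nat.card K) := by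
      rw [hi]; exact ((hp.coprime_iff_not_dvd.2 hpn).symm).pow_right i
    have hdvdQ : n ∣ Nat.card (G ⧸ K) := by
      rw [← hN, hcardq] at hn
      exact hco.dvd_of_dvd_mul_right hn
    let π : {x : G // x ^ n = 1} → {q : G ⧸ K // q ^ n = 1} := fun x =>
      ⟨(x.1 : G ⧸ K), by rw [← QuotientGroup.mk_pow, x.2, QuotientGroup.mk_one]⟩
    have hπ : Function.Surjective π := by
      rintro ⟨q, hq⟩
      obtain ⟨y, rfl⟩ := QuotientGroup.mk_surjective q
      rw [← QuotientGroup.mk_pow, QuotientGroup.eq_one_iff] at hq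
      obtain ⟨u, hu1, hu0⟩ := Nat.chineseRemainder hco 1 0
      refine ⟨⟨y ^ u, ?_⟩, Subtype.ext ?_⟩
      · rw [← pow_mul, mul_comm, pow_mul]
        obtain ⟨c, hc⟩ := Nat.modEq_zero_iff_dvd.1 hu0
        have h1 : (⟨y ^ n, hq⟩ : K) ^ Nat.card K = 1 := pow_card_eq_one'
        have h2 := congrArg Subtype.val h1
        rw [SubmonoidClass.coe_pow] at h2
        rw [hc, pow_mul]
        show ((y ^ n) ^ Nat.card K) ^ c = 1
        rw [h2]
        exact one_pow c
      · show ((y ^ u : G) : G ⧸ K) = y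
        have hyn : ((y : G ⧸ K)) ^ n = 1 := by
          rw [← QuotientGroup.mk_pow, QuotientGroup.eq_one_iff]; exact hq
        rw [QuotientGroup.mk_pow]
        conv_rhs => rw [← pow_one (y : G ⧸ K)]
        exact pow_eq_pow_iff_modEq.2 (hu1.of_dvd (orderOf_dvd_of_pow_eq_one hyn))
    have hle := Nat.card_le_card_of_surjective π hπ
    rw [hcount] at hle
    have hm0 : 0 < Nat.card {q : G ⧸ K // q ^ n = 1} :=
      Nat.card_pos_iff.2 ⟨⟨⟨1, one_pow _⟩⟩, inferInstance⟩
    have hm : Nat.card {q : G ⧸ K // q ^ n = 1} = n :=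
      le_antisymm hle (Nat.le_of_dvd hm0 (FGB.frobenius_dvd (G := G ⧸ K) n hdvdQ))
    obtain ⟨Hb, hHn, hHset⟩ := ih _ hlt (G ⧸ K) rfl n hdvdQ hm
    set H' := Hb.comap (QuotientGroup.mk' K) with hH'
    have hHb : Nat.card Hb = n :=
      (Nat.card_congr (Equiv.subtypeEquivRight fun x => Set.ext_iff.1 hHset x)).trans hm
    have hKH : K ≤ H' := fun x hx => by
      rw [hH', Subgroup.mem_comap, QuotientGroup.mk'_apply, (QuotientGroup.eq_one_iff x).2 hx]
      exact one_mem _
    have hidx : (K.subgroupOf H').index = n := by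
      show K.relIndex H' = n
      have h1 := Subgroup.relIndex_comap (H := (⊥ : Subgroup (G ⧸ K))) (f := QuotientGroup.mk' K) (K := H')
      rw [MonoidHom.comap_bot, QuotientGroup.ker_mk', hH',
        Subgroup.map_comap_eq_self_of_surjective (QuotientGroup.mk'_surjective K),
        Subgroup.relIndex_bot_left, hHb] at h1
      rw [hH']
      exact h1
    have hcardK : Nat.card (K.subgroupOf H') = Nat.card K :=
      Nat.card_congr (Subgroup.subgroupOfEquivOfLe hKH).toEquiv
    obtain ⟨C, hC⟩ := Subgroup.exists_right_complement'_of_coprime (N := K.subgroupOf H')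
      (by rw [hcardK, hidx]; exact hco.symm)
    have hCn : Nat.card C = n := by rw [← hidx]; exact hC.symm.index_eq_card.symm
    have hsubset : ((C.map H'.subtype : Subgroup G) : Set G) ⊆ {x : G | x ^ n = 1} := by
      rintro _ ⟨c, hc, rfl⟩
      have h := congrArg (fun z : C => ((z : H') : G)) (pow_card_eq_one' (x := (⟨c, hc⟩ : C)))
      rw [hCn] at h
      simpa using h
    have heq : ((C.map H'.subtype : Subgroup G) : Set G) = {x : G | x ^ n = 1} := by
      refine Set.eq_of_subset_of_ncard_le hsubset ?_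
      rw [← Nat.card_coe_set_eq, ← Nat.card_coe_set_eq]
      show Nat.card {x : G // x ^ n = 1} ≤ Nat.card (C.map H'.subtype : Subgroup G)
      rw [hcount, ← Nat.card_congr (C.equivMapOfInjective _ H'.subtype_injective).toEquiv, hCn]
    refine ⟨C.map H'.subtype, ⟨fun x hx g => ?_⟩, heq⟩
    have hx' : x ^ n = 1 := (Set.ext_iff.1 heq x).1 hx
    exact (Set.ext_iff.1 heq _).2 (by show (g * x * g⁻¹) ^ n = 1; rw [conj_pow, hx', mul_one, mul_inv_cancel])


/-- If `G` is a finite solvable group and `n` divides the order of `G` and exactly `n` elements `x` of `G` satisfy `x^n = 1`, then these elements form a normal subgroup. -/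
theorem result {G : Type*} [Group G] [Finite G] [Group.IsSolvable G] (n : ℕ) (hn : n ∣ Nat.card G) (hcount : Nat.card {x : G // x ^ n = 1} = n) : ∃ H : Subgroup G, H.Normal ∧ (H : Set G) = {x : G | x ^ n = 1} := by
  exact main _ G rfl n hn hcount

end Cfsg.Agent.S4213
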