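import Cfsg.Statements.S4214
import Cfsg.Statements.S4214
import Mathlib
import Cfsg.Agent.Lib.Basics.Hall
import Cfsg.Agent.Lib.Basics.Tools
import Cfsg.Agent.Lib.Basics.CoprimeAction

set_option autoImplicit false
open Cfsg
open scoped Pointwise
set_option linter.all false

namespace Cfsg.Agent.S4214

open Subgroup
open Cfsg.Agent
open scoped Pointwise

private theorem conj_pow_iff {G : Type*} [Group G] {H : Subgroup G} {g : G}
    (hg : g ∈ normalizer (H : Set G)) (x : G) : g * x * g⁻¹ ∈ H ↔ x ∈ H :=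
  (mem_normalizer_iff.1 hg x).symm

/-- The order of a group with a fixed-point-free coprime solvable operator group. -/
private theorem fpf_factors {G : Type*} [Group G] [Finite G] (H : Subgroup G) (hH : Group.IsSolvable H)
    (p : ℕ) (hp : p.Prime) : ∀ (n : ℕ) (U : Subgroup G), Nat.card U ≤ n → IsPGroup p U →
      H ≤ normalizer (U : Set G) → (Nat.card H).Coprime (Nat.card U) → U ⊓ centralizer (H : Set G) = ⊥ →
      ∃ s : List ℕ, Nat.card U = s.prod ∧ ∀ x ∈ s, (∃ e, x = p ^ e) ∧ x ∣ Nat.card U ∧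
        ∃ q : ℕ, q.Prime ∧ q ∣ Nat.card H ∧ x ≡ 1 [MOD q] := by
  intro n
  induction n using Nat.strong_induction_on with
  | _ n ih =>
  intro U hUn hUp hHU hco hfix
  haveI := Fact.mk hp
  by_cases hUbot : U = ⊥
  · exact ⟨[], by rw [hUbot, card_bot, List.prod_nil], by simp⟩
  set C := centralizer (U : Set G) with hC
  have hHC : ¬ H ≤ C := fun h => hUbot (by
    rw [← hfix, left_eq_inf]
    exact Subgroup.le_centralizer_iff.1 h)
  obtain ⟨L, hL⟩ := (Set.toFinite {L : Subgroup G | L ≤ H ∧ H ≤ normalizer (L : Set G) ∧ ¬ L ≤ C}).exists_minimal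
    ⟨H, le_rfl, le_normalizer, hHC⟩
  obtain ⟨⟨hLH, hHL, hLC⟩, hLmin⟩ := hL
  have hLbot : L ≠ ⊥ := fun h => hLC (h ▸ bot_le)
  have hLLH : H ≤ normalizer ((⁅L, L⁆ : Subgroup G) : Set G) := by
    intro h hh
    refine mem_normalizer_iff.2 fun x => ?_
    have hmap : (⁅L, L⁆ : Subgroup G).map (MulAut.conj h).toMonoidHom = ⁅L, L⁆ := by
      have hL' : L.map (MulAut.conj h).toMonoidHom = L :=
        Basics.conj_smul_eq_self_iff.2 (hHL hh)
      rw [map_commutator, hL']
    constructor
    · intro hx; rw [← hmap]; exact ⟨x, hx, rfl⟩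
    · intro hx
      rw [← hmap] at hx
      obtain ⟨x', hx', e⟩ := hx
      exact (MulAut.conj h).injective e ▸ hx'
  have hcomm : ⁅L, L⁆ ≤ C := by
    by_contra h
    have hle : (⁅L, L⁆ : Subgroup G) ≤ L :=
      commutator_le.2 fun a ha b hb => mul_mem (mul_mem (mul_mem ha hb) (inv_mem ha)) (inv_mem hb)
    have heq : (⁅L, L⁆ : Subgroup G) = L := le_antisymm hle (hLmin ⟨hle.trans hLH, hLLH, h⟩ hle)
    haveI := hH
    haveI : Group.IsSolvable L := solvable_of_solvable_injective (inclusion_injective hLH)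
    haveI : Nontrivial L := (nontrivial_iff_ne_bot _).2 hLbot
    refine (Group.IsSolvable.commutator_lt_top_of_nontrivial L).ne ?_
    refine Subgroup.map_injective L.subtype_injective ?_
    rw [_root_.commutator_def, map_commutator, ← MonoidHom.range_eq_map, range_subtype, heq]
  set K0 := C.subgroupOf L with hK0
  haveI hK0n : K0.Normal := ⟨fun x hx g => by
    have h1 := hcomm (commutator_mem_commutator g.2 x.2)
    have h2 := mul_mem h1 (show (x : G) ∈ C from hx)
    show (g : G) * x * (g : G)⁻¹ ∈ C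
    simpa [commutatorElement_def, mul_assoc] using h2⟩
  have hK0ne : K0.index ≠ 1 := fun h => hLC (relIndex_eq_one.1 h)
  obtain ⟨q, hq, hqd⟩ := Nat.exists_prime_and_dvd hK0ne
  haveI := Fact.mk hq
  have hab : ∀ a b : L ⧸ K0, a * b = b * a := by
    intro a b
    induction a using QuotientGroup.induction_on with
    | _ a =>
    induction b using QuotientGroup.induction_on with
    | _ b =>
      rw [← QuotientGroup.mk_mul, ← QuotientGroup.mk_mul, QuotientGroup.eq]
      have h1 := hcomm (commutator_mem_commutator (inv_mem b.2) (inv_mem a.2))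
      show ((a : G) * b)⁻¹ * (b * a) ∈ C
      simpa [commutatorElement_def, mul_assoc] using h1
  -- the `q`-part
  let Lq : Subgroup G :=
    { carrier := {x | x ∈ L ∧ ∃ k, x ^ q ^ k ∈ C}
      one_mem' := ⟨one_mem _, 0, by simp⟩
      mul_mem' := by
        rintro a b ⟨ha, i, hi⟩ ⟨hb, j, hj⟩
        refine ⟨mul_mem ha hb, i + j, ?_⟩
        let al : L := ⟨a, ha⟩
        let bl : L := ⟨b, hb⟩
        have h1 : (QuotientGroup.mk (al * bl) : L ⧸ K0) ^ q ^ (i + j) = 1 := by
          have ea : (QuotientGroup.mk al : L ⧸ K0) ^ q ^ i = 1 := by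
            rw [← QuotientGroup.mk_pow, QuotientGroup.eq_one_iff]; exact hi
          have eb : (QuotientGroup.mk bl : L ⧸ K0) ^ q ^ j = 1 := by
            rw [← QuotientGroup.mk_pow, QuotientGroup.eq_one_iff]; exact hj
          rw [QuotientGroup.mk_mul, Commute.mul_pow (hab _ _), pow_add, pow_mul, ea, one_pow, one_mul,
            mul_comm (q ^ i), pow_mul, eb, one_pow]
        rw [← QuotientGroup.mk_pow, QuotientGroup.eq_one_iff] at h1
        exact h1
      inv_mem' := by
        rintro a ⟨ha, i, hi⟩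
        exact ⟨inv_mem ha, i, by rw [inv_pow]; exact inv_mem hi⟩ }
  have hLqL : Lq ≤ L := fun x hx => hx.1
  have hLqn : H ≤ normalizer (Lq : Set G) := by
    have hCn : ∀ h ∈ H, ∀ x, x ∈ C → h * x * h⁻¹ ∈ C := by
      intro h hh x hx
      rw [hC, mem_centralizer_iff] at hx ⊢
      intro u hu
      have h1 := hx (h⁻¹ * u * h) (by
        have := (conj_pow_iff (inv_mem (hHU hh)) u).2 hu
        simpa using this)
      calc u * (h * x * h⁻¹) = h * ((h⁻¹ * u * h) * x) * h⁻¹ := by group
        _ = h * (x * (h⁻¹ * u * h)) * h⁻¹ := by rw [h1]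
        _ = h * x * h⁻¹ * u := by group
    have hone : ∀ h ∈ H, ∀ x ∈ Lq, h * x * h⁻¹ ∈ Lq := by
      rintro h hh x ⟨hx, k, hk⟩
      refine ⟨(conj_pow_iff (hHL hh) x).2 hx, k, ?_⟩
      rw [conj_pow]; exact hCn h hh _ hk
    intro h hh
    refine mem_normalizer_iff.2 fun x => ⟨hone h hh x, fun hx => ?_⟩
    have := hone h⁻¹ (inv_mem hh) _ hx
    simpa [mul_assoc] using this
  have hLqC : ¬ Lq ≤ C := by
    intro hle
    obtain ⟨x, hx⟩ := exists_prime_orderOf_dvd_card' q (G := L ⧸ K0) (by rwa [← index_eq_card])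
    obtain ⟨x, rfl⟩ := QuotientGroup.mk'_surjective K0 x
    have hxq : (x : G) ^ q ∈ C := by
      have := pow_orderOf_eq_one (QuotientGroup.mk' K0 x)
      rw [hx, ← map_pow] at this
      have h' := (QuotientGroup.eq_one_iff (N := K0) (x ^ q)).1 this
      exact h' 
    have : QuotientGroup.mk' K0 x = 1 :=
      (QuotientGroup.eq_one_iff _).2 (hle ⟨x.2, 1, by rw [pow_one]; exact hxq⟩)
    rw [this, orderOf_one] at hx
    exact hq.ne_one hx.symm
  have hall : L ≤ Lq := hLmin ⟨hLqL.trans hLH, hLqn, hLqC⟩ hLqL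
  -- fixed points
  have hLU : L ≤ normalizer (U : Set G) := hLH.trans hHU
  let ρ : L →* Equiv.Perm U :=
    { toFun := fun l =>
        { toFun := fun u => ⟨(l : G) * u * (l : G)⁻¹, (conj_pow_iff (hLU l.2) _).2 u.2⟩
          invFun := fun u => ⟨(l : G)⁻¹ * u * l, by
            have := (conj_pow_iff (inv_mem (hLU l.2)) (u : G)).2 u.2
            simpa using this⟩
          left_inv := fun u => Subtype.ext (by simp [mul_assoc])
          right_inv := fun u => Subtype.ext (by simp [mul_assoc]) }
      map_one' := Equiv.ext fun u => Subtype.ext (by simp)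
      map_mul' := fun a b => Equiv.ext fun u => Subtype.ext (by simp [mul_assoc]) }
  have hR : IsPGroup q ρ.range := by
    rintro ⟨_, l, rfl⟩
    obtain ⟨-, k, hk⟩ := hall l.2
    refine ⟨k, Subtype.ext ?_⟩
    show ρ l ^ q ^ k = 1
    rw [← map_pow]
    refine Equiv.ext fun u => Subtype.ext ?_
    show ((l ^ q ^ k : L) : G) * u * ((l ^ q ^ k : L) : G)⁻¹ = u
    rw [SubmonoidClass.coe_pow, ← mem_centralizer_iff.1 hk u u.2, mul_inv_cancel_right]
  set W := U ⊓ centralizer (L : Set G) with hW
  have hfp : Nat.card (MulAction.fixedPoints ρ.range U) = Nat.card W := by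
    refine Nat.card_congr
      { toFun := fun u => ⟨((u : U) : G), (u : U).2, mem_centralizer_iff.2 fun l hl => by
          have h := congrArg Subtype.val (u.2 ⟨ρ ⟨l, hl⟩, ⟨l, hl⟩, rfl⟩)
          have h' : l * ((u : U) : G) * l⁻¹ = ((u : U) : G) := h
          calc l * ((u : U) : G) = l * ((u : U) : G) * l⁻¹ * l := by group
            _ = _ := by rw [h']⟩
        invFun := fun w => ⟨⟨(w : G), w.2.1⟩, by
          rintro ⟨_, l, rfl⟩
          apply Subtype.ext
          show (l : G) * w * (l : G)⁻¹ = w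
          rw [mem_centralizer_iff.1 w.2.2 l l.2, mul_inv_cancel_right]⟩
        left_inv := fun u => rfl
        right_inv := fun w => rfl }
  have hmod := hR.card_modEq_card_fixedPoints U
  rw [hfp] at hmod
  have hWU : W ≤ U := inf_le_left
  have hWne : W ≠ U := by
    intro h
    apply hLC
    rw [hC]
    exact Subgroup.le_centralizer_iff.1 (inf_eq_left.1 h)
  have hWlt : Nat.card W < n := lt_of_lt_of_le (Basics.card_lt_of_lt (lt_of_le_of_ne hWU hWne)) hUn
  have hHW : H ≤ normalizer (W : Set G) := by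
    have hone : ∀ h ∈ H, ∀ x ∈ W, h * x * h⁻¹ ∈ W := by
      rintro h hh x ⟨hx, hxc⟩
      refine ⟨(conj_pow_iff (hHU hh) x).2 hx, mem_centralizer_iff.2 fun l hl => ?_⟩
      have h1 := mem_centralizer_iff.1 hxc (h⁻¹ * l * h) (by
        have := (conj_pow_iff (inv_mem (hHL hh)) l).2 hl
        simpa using this)
      calc l * (h * x * h⁻¹) = h * ((h⁻¹ * l * h) * x) * h⁻¹ := by group
        _ = h * (x * (h⁻¹ * l * h)) * h⁻¹ := by rw [h1]
        _ = h * x * h⁻¹ * l := by group
    intro h hh
    refine mem_normalizer_iff.2 fun x => ⟨hone h hh x, fun hx => ?_⟩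
    have := hone h⁻¹ (inv_mem hh) _ hx
    simpa [mul_assoc] using this
  have hWfix : W ⊓ centralizer (H : Set G) = ⊥ :=
    le_bot_iff.1 ((inf_le_inf_right _ hWU).trans hfix.le)
  obtain ⟨s, hs, hs'⟩ := ih (Nat.card W) hWlt W le_rfl (hUp.to_le hWU) hHW
    (hco.coprime_dvd_right (card_dvd_of_le hWU)) hWfix
  obtain ⟨a, ha⟩ := IsPGroup.iff_card.1 hUp
  obtain ⟨b, hb⟩ := IsPGroup.iff_card.1 (hUp.to_le hWU)
  have hba : b ≤ a := by
    have := Nat.le_of_dvd Nat.card_pos (card_dvd_of_le hWU)
    rw [ha, hb] at this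
    exact (Nat.pow_le_pow_iff_right hp.one_lt).1 this
  have hqH : q ∣ Nat.card H := hqd.trans ((index_dvd_card K0).trans (card_dvd_of_le hLH))
  have hx : p ^ (a - b) ≡ 1 [MOD q] := by
    have hpq : q.Coprime (p ^ b) := by
      refine Nat.Coprime.pow_right b ((Nat.coprime_primes hq hp).2 ?_)
      rintro rfl
      have hpU : q ∣ Nat.card U := by
        rw [ha]
        refine dvd_pow_self q fun h0 => hUbot (card_eq_one.1 (by rw [ha, h0, pow_zero]))
      exact hp.not_dvd_one (hco ▸ Nat.dvd_gcd hqH hpU)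
    refine Nat.ModEq.cancel_left_of_coprime (c := p ^ b) hpq ?_
    rw [← pow_add, Nat.add_sub_cancel' hba, mul_one, ← ha, ← hb]
    exact hmod
  refine ⟨p ^ (a - b) :: s, ?_, ?_⟩
  · rw [List.prod_cons, ← hs, ha, hb, ← pow_add, Nat.sub_add_cancel hba]
  · intro x hxm
    rcases List.mem_cons.1 hxm with rfl | hxs
    · exact ⟨⟨_, rfl⟩, by rw [ha]; exact pow_dvd_pow p (Nat.sub_le a b), q, hq, hqH, hx⟩
    · obtain ⟨h1, h2, h3⟩ := hs' x hxs
      exact ⟨h1, h2.trans (card_dvd_of_le hWU), h3⟩

universe u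

private def Good (G : Type u) [Group G] (m x : ℕ) : Prop :=
  (∃ q e : ℕ, q.Prime ∧ x = q ^ e) ∧ (∃ K L : Subgroup G, K.Normal ∧ L.Normal ∧ K < L ∧
    (∀ M : Subgroup G, M.Normal → K ≤ M → M ≤ L → M = K ∨ M = L) ∧ x ∣ K.relIndex L) ∧
    (∃ q : ℕ, q.Prime ∧ q ∣ m ∧ x ≡ 1 [MOD q])

private theorem main : ∀ (k : ℕ) (G : Type u) [Group G] [Finite G] [Group.IsSolvable G] (H : Subgroup G),
    Nat.card G ≤ k → (Nat.card H).Coprime H.index →
    ∃ s : List ℕ, (normalizer (H : Set G)).index = s.prod ∧ ∀ x ∈ s, Good G (Nat.card H) x := by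
  intro k
  induction k using Nat.strong_induction_on with
  | _ k ih =>
  intro G _ _ _ H hk hH
  by_cases hG : Subsingleton G
  · refine ⟨[], ?_, by simp⟩
    rw [List.prod_nil, index_eq_one]
    exact Subsingleton.elim _ _
  haveI : Nontrivial G := not_subsingleton_iff_nontrivial.1 hG
  obtain ⟨N, hNn, -, hNne, hNmin⟩ := Basics.exists_minimal_normal (N := (⊤ : Subgroup G)) top_ne_bot
  haveI := hNn
  obtain ⟨hNab, p, hp, -, hNp⟩ := Basics.minimal_normal_solvable hNne inferInstance hNmin
  haveI := Fact.mk hp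
  set π := QuotientGroup.mk' N with hπ
  set Hb := H.map π with hHb
  have hHbd : Nat.card Hb ∣ Nat.card H := card_map_dvd _ _
  have hHbi : Hb.index ∣ H.index := index_map_dvd H (QuotientGroup.mk'_surjective N)
  obtain ⟨s₁, hs₁, hs₁'⟩ := ih (Nat.card (G ⧸ N)) (lt_of_lt_of_le (Basics.card_quotient_lt hNne) hk)
    (G ⧸ N) Hb le_rfl (Nat.Coprime.of_dvd hHbd hHbi hH)
  -- image of the normaliser
  set NH := normalizer (H : Set G) with hNH
  have himg : NH.map π = normalizer (Hb : Set (G ⧸ N)) := by
    refine le_antisymm (le_normalizer_map π) ?_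
    intro gb hgb
    obtain ⟨g, rfl⟩ := QuotientGroup.mk'_surjective N gb
    set M := N ⊔ H with hM
    have hMc : M = Hb.comap π := by
      rw [hHb, comap_map_eq, QuotientGroup.ker_mk', sup_comm]
    have hgM : MulAut.conj g • H ≤ M := by
      intro x hx
      rw [mem_pointwise_smul_iff_inv_smul_mem] at hx
      simp only [← map_inv, MulAut.smul_def, MulAut.conj_apply, inv_inv] at hx
      rw [hMc, mem_comap]
      have h0 := (conj_pow_iff hgb (π (g⁻¹ * x * g))).2 (mem_map_of_mem π hx)
      have e : π g * π (g⁻¹ * x * g) * (π g)⁻¹ = π x := by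
        rw [← map_inv, ← map_mul, ← map_mul]; congr 1; group
      exact e ▸ h0
    have hHM : H ≤ M := le_sup_right
    haveI : Group.IsSolvable M := inferInstance
    obtain ⟨l, hl⟩ := Basics.hall_conj (H := H.subgroupOf M) (K := (MulAut.conj g • H).subgroupOf M)
      (by rw [Basics.card_subgroupOf hHM]; exact hH.coprime_dvd_right ⟨M.index, (relIndex_mul_index hHM).symm⟩)
      (by rw [Basics.card_subgroupOf hgM, Basics.card_subgroupOf hHM, Basics.card_conj_smul])
    have h1 := congrArg (Subgroup.map M.subtype) hl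
    rw [Basics.map_conj_smul, Subgroup.map_subgroupOf_eq_of_le hHM,
      Subgroup.map_subgroupOf_eq_of_le hgM] at h1
    have h2 : (l : G)⁻¹ * g ∈ NH := by
      rw [hNH, ← Basics.conj_smul_eq_self_iff, ← Basics.conj_smul_conj_smul]
      exact Basics.conj_smul_inv_eq h1
    have h3 : π (l : G) ∈ NH.map π := by
      obtain ⟨x, hx, e⟩ := (show π (l : G) ∈ Hb by rw [← mem_comap, ← hMc]; exact l.2)
      exact ⟨x, le_normalizer hx, e⟩
    have := mul_mem h3 (mem_map_of_mem π h2)
    rw [← map_mul, mul_inv_cancel_left] at this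
    exact this
  set Γ := N ⊔ NH with hΓ
  have hidx : NH.index = NH.relIndex Γ * Γ.index := (relIndex_mul_index le_sup_right).symm
  have hΓi : Γ.index = (normalizer (Hb : Set (G ⧸ N))).index := by
    rw [← himg]
    have e : NH.map π = Γ.map π := by
      rw [hΓ, Subgroup.map_sup, hπ, QuotientGroup.map_mk'_self, bot_sup_eq]
    rw [e]
    exact (index_map_eq Γ (QuotientGroup.mk'_surjective N) (by rw [QuotientGroup.ker_mk']; exact le_sup_left)).symm
  have hchief : ∀ x, x ∣ Nat.card N → ∃ K L : Subgroup G, K.Normal ∧ L.Normal ∧ K < L ∧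
      (∀ M : Subgroup G, M.Normal → K ≤ M → M ≤ L → M = K ∨ M = L) ∧ x ∣ K.relIndex L := fun x hx =>
    ⟨⊥, N, inferInstance, inferInstance, bot_lt_iff_ne_bot.2 hNne,
      fun M hM _ hMN => hNmin M hM hMN, by rw [relIndex_bot_left]; exact hx⟩
  have hlift : ∀ x, Good (G ⧸ N) (Nat.card Hb) x → Good G (Nat.card H) x := by
    rintro x ⟨h1, ⟨K, L, hK, hL, hKL, hmin, hx⟩, q, hq, hqd, hxq⟩
    have hs := QuotientGroup.mk'_surjective N
    refine ⟨h1, ⟨K.comap π, L.comap π, hK.comap π, hL.comap π, (comap_lt_comap_of_surjective hs).2 hKL,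
      fun M hM hKM hML => ?_, ?_⟩, q, hq, hqd.trans hHbd, hxq⟩
    · have hMN : N ≤ M := le_trans (fun z hz => show π z ∈ K by rw [show π z = 1 from (QuotientGroup.eq_one_iff z).2 hz]; exact one_mem _) hKM
      have e : (M.map π).comap π = M := by
        rw [comap_map_eq, QuotientGroup.ker_mk', sup_eq_left.2 hMN]
      rcases hmin (M.map π) (hM.map π hs) (by
          rw [← map_comap_eq_self_of_surjective hs K]; exact Subgroup.map_mono hKM)
        (by rw [← map_comap_eq_self_of_surjective hs L]; exact Subgroup.map_mono hML) with h | h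
      · left; rw [← e, h]
      · right; rw [← e, h]
    · rwa [relIndex_comap, map_comap_eq_self_of_surjective hs]
  -- the new factor
  obtain ⟨s₂, hs₂, hs₂'⟩ : ∃ s : List ℕ, NH.relIndex Γ = s.prod ∧ ∀ x ∈ s, Good G (Nat.card H) x := by
    have hrel : NH.relIndex Γ = NH.relIndex N := by
      rw [hΓ, relIndex, relIndex]
      have h1 := Basics.card_mul_card_eq_card_sup_mul_card_inf (N := N) (H := NH)
        (by rw [normalizer_eq_top_iff.2 inferInstance]; exact le_top)
      have h2 := card_mul_index (NH.subgroupOf (N ⊔ NH))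
      have h3 := card_mul_index ((N ⊓ NH).subgroupOf N)
      rw [Basics.card_subgroupOf le_sup_right] at h2
      rw [Basics.card_subgroupOf inf_le_left, inf_subgroupOf_left] at h3
      rw [← h2, ← h3] at h1
      apply Nat.eq_of_mul_eq_mul_left (Nat.mul_pos (Nat.card_pos (α := NH)) (Nat.card_pos (α := (N ⊓ NH : Subgroup G))))
      linarith
    rw [hrel]
    by_cases hpm : p ∣ Nat.card H
    · refine ⟨[], ?_, by simp⟩
      rw [List.prod_nil, relIndex_eq_one]
      have hNH' : N ≤ H := by
        have h1 := Basics.card_mul_card_eq_card_sup_mul_card_inf (N := N) (H := H)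
          (by rw [normalizer_eq_top_iff.2 inferInstance]; exact le_top)
        obtain ⟨a, ha⟩ := IsPGroup.iff_card.1 hNp
        have hdvd : Nat.card (N ⊔ H : Subgroup G) ∣ Nat.card H := by
          have hco2 : (Nat.card (N ⊔ H : Subgroup G)).Coprime H.index := by
            refine Nat.Coprime.coprime_dvd_left ⟨Nat.card (N ⊓ H : Subgroup G), h1⟩ ?_
            rw [ha]
            refine Nat.Coprime.mul_left (Nat.Coprime.pow_left a (hp.coprime_iff_not_dvd.2 fun h => ?_)) hH
            exact hp.not_dvd_one (hH ▸ Nat.dvd_gcd hpm h)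
          exact hco2.dvd_of_dvd_mul_right ((card_subgroup_dvd_card _).trans (card_mul_index H).symm.dvd)
        have := eq_of_le_of_card_ge (le_sup_right : H ≤ N ⊔ H) (Nat.le_of_dvd Nat.card_pos hdvd)
        rw [this]; exact le_sup_left
      exact hNH'.trans le_normalizer
    · haveI := hNab
      obtain ⟨a, ha⟩ := IsPGroup.iff_card.1 hNp
      have hco : (Nat.card H).Coprime (Nat.card N) := by
        rw [ha]; exact Nat.Coprime.pow_right a ((hp.coprime_iff_not_dvd.2 hpm).symm)
      have hHN : H ≤ normalizer (N : Set G) := by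
        rw [normalizer_eq_top_iff.2 inferInstance]; exact le_top
      have hsolv : Group.IsSolvable H ∨ Group.IsSolvable N := Or.inl inferInstance
      set U := ⁅N, H⁆ with hU
      have hUN : U ≤ N := Subgroup.le_normalizer_iff_commutator_le_left.mp hHN
      have hUC : U ⊔ (N ⊓ centralizer (H : Set G)) = N :=
        Basics.commutator_sup_inf_centralizer H N hHN hco hsolv
      have hdisj : U ⊓ centralizer (H : Set G) = ⊥ := by
        have h := Basics.inf_centralizer_inf_commutator_eq_bot H N hHN hco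
        rw [eq_bot_iff] at h ⊢
        intro x hx
        exact h ⟨⟨hUN hx.1, hx.2⟩, hx.1⟩
      have hNN : N ⊓ NH = N ⊓ centralizer (H : Set G) := by
        refine le_antisymm (fun x hx => ⟨hx.1, Basics.mem_centralizer_of_mem_normalizer' hHN hco hx.1 hx.2⟩)
          (inf_le_inf_left _ ?_)
        intro x hx
        refine mem_normalizer_iff.2 fun y => ⟨fun hy => ?_, fun hy => ?_⟩
        · rw [← mem_centralizer_iff.1 hx y hy, mul_inv_cancel_right]; exact hy
        · have h1 := mem_centralizer_iff.1 hx _ hy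
          have : y = x * y * x⁻¹ := by
            calc y = x⁻¹ * (x * y * x⁻¹ * x) := by group
              _ = x⁻¹ * (x * (x * y * x⁻¹)) := by rw [h1]
              _ = _ := by group
          rwa [this]
      have hUcard : NH.relIndex N = Nat.card U := by
        have h3 := card_mul_index ((N ⊓ NH).subgroupOf N)
        rw [Basics.card_subgroupOf inf_le_left, inf_subgroupOf_left, hNN] at h3
        have h1 := Basics.card_mul_card_eq_card_sup_mul_card_inf (N := U) (H := N ⊓ centralizer (H : Set G))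
          (by
            intro x hx
            refine mem_normalizer_iff.2 fun y => ?_
            constructor
            · intro hy
              have : x * y = y * x := congrArg Subtype.val (hNab.is_comm.comm ⟨x, hx.1⟩ ⟨y, hUN hy⟩)
              rw [this, mul_inv_cancel_right]; exact hy
            · intro hy
              have h4 : x * (x * y * x⁻¹) = (x * y * x⁻¹) * x :=
                congrArg Subtype.val (hNab.is_comm.comm ⟨x, hx.1⟩ ⟨_, hUN hy⟩)
              have : y = x * y * x⁻¹ := by
                calc y = x⁻¹ * ((x * y * x⁻¹) * x) := by group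
                  _ = x⁻¹ * (x * (x * y * x⁻¹)) := by rw [h4]
                  _ = _ := by group
              rwa [this])
        rw [hUC] at h1
        have h5 : U ⊓ (N ⊓ centralizer (H : Set G)) = ⊥ :=
          le_bot_iff.1 ((inf_le_inf_left U inf_le_right).trans hdisj.le)
        rw [h5, card_bot, mul_one] at h1
        rw [relIndex]
        apply Nat.eq_of_mul_eq_mul_left (Nat.card_pos (α := (N ⊓ centralizer (H : Set G) : Subgroup G)))
        rw [h3, ← h1, mul_comm]
      rw [hUcard]
      obtain ⟨s, hs, hs'⟩ := fpf_factors H inferInstance p hp _ U le_rfl (hNp.to_le hUN)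
        (Subgroup.normalizer_commutator_ge_right _ _) (hco.coprime_dvd_right (card_dvd_of_le hUN)) hdisj
      refine ⟨s, hs, fun x hx => ?_⟩
      obtain ⟨⟨e, he⟩, hxU, hq⟩ := hs' x hx
      exact ⟨⟨p, e, hp, he⟩, hchief x (hxU.trans (card_dvd_of_le hUN)), hq⟩
  refine ⟨s₂ ++ s₁, ?_, fun x hx => ?_⟩
  · rw [List.prod_append, ← hs₂, ← hs₁, ← hΓi]; exact hidx
  · rcases List.mem_append.1 hx with h | h
    · exact hs₂' x h
    · exact hlift x (hs₁' x h)


/-- Let `G` be a finite solvable group of order `mn` with `gcd(m, n) = 1`. Then the number of subgroups of order `m` is a product of natural numbers each of which is a power of a prime, divides the order of some chief factor of `G` (a quotient `L/K` of normal subgroups `K < L` of `G` with no normal subgroup of `G` strictly between them), and is congruent to `1` modulo some prime divisor of `m`. -/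
theorem result {G : Type*} [Group G] [Finite G] [Group.IsSolvable G] (m n : ℕ) (hG : Nat.card G = m * n) (hmn : Nat.Coprime m n) : ∃ (k : ℕ) (f : Fin k → ℕ), Nat.card {H : Subgroup G // Nat.card H = m} = ∏ i, f i ∧ ∀ i, (∃ q e : ℕ, q.Prime ∧ f i = q ^ e) ∧ (∃ K L : Subgroup G, K.Normal ∧ L.Normal ∧ K < L ∧ (∀ M : Subgroup G, M.Normal → K ≤ M → M ≤ L → M = K ∨ M = L) ∧ f i ∣ K.relIndex L) ∧ (∃ q : ℕ, q.Prime ∧ q ∣ m ∧ f i ≡ 1 [MOD q]) := by
  obtain ⟨H, hH⟩ := Basics.exists_hall_of_card hG hmn
  have hi := Basics.index_eq_of_card hG hH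
  have hHall : (Nat.card H).Coprime H.index := by rw [hH, hi]; exact hmn
  obtain ⟨s, hs, hs'⟩ := main (Nat.card G) G H le_rfl hHall
  refine ⟨s.length, fun i => s.get i, ?_, fun i => hH ▸ hs' _ (List.get_mem s i)⟩
  rw [← List.prod_ofFn, List.ofFn_get, ← hs]
  have horb : (MulAction.orbit (ConjAct G) H).ncard = (Subgroup.normalizer (H : Set G)).index := by
    rw [← MulAction.index_stabilizer]
    congr 1
    ext g
    rw [MulAction.mem_stabilizer_iff]
    exact Basics.conj_smul_eq_self_iff (g := (ConjAct.ofConjAct g)) (H := H)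
  rw [← horb, ← Nat.card_coe_set_eq]
  refine Nat.card_congr (Equiv.subtypeEquivRight fun K => ?_)
  constructor
  · intro hK
    obtain ⟨g, hg⟩ := Basics.hall_conj hHall (hK.trans hH.symm)
    exact ⟨ConjAct.toConjAct g, hg⟩
  · rintro ⟨g, rfl⟩
    show Nat.card (MulAut.conj (ConjAct.ofConjAct g) • H : Subgroup G) = m
    rw [Basics.card_conj_smul, hH]

end Cfsg.Agent.S4214
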