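import Cfsg.Statements.S4216
-- import your own Cfsg.Agent.* helpers here

set_option autoImplicit false
open Cfsg
open scoped Pointwise
set_option linter.all false

namespace Cfsg.Agent.S4216

open Subgroup
open scoped commutatorElement


/-- Grün's first Theorem: if `P` is a Sylow `p`-subgroup of the finite group `G`, then `P ∩ G'` is the subgroup generated by `P ∩ N_G(P)'` together with the subgroups `P ∩ z P' z⁻¹` for all `z ∈ G`, where `'` denotes the derived subgroup and `N_G(P)` the normalizer of `P`. -/
theorem result {G : Type*} [Group G] [Finite G] {p : ℕ} [Fact p.Prime] (P : Sylow p G) : (P : Subgroup G) ⊓ commutator G = ((P : Subgroup G) ⊓ ⁅Subgroup.normalizer ((P : Subgroup G) : Set G), Subgroup.normalizer ((P : Subgroup G) : Set G)⁆) ⊔ ⨆ z : G, (P : Subgroup G) ⊓ (⁅(P : Subgroup G), (P : Subgroup G)⁆).map (MulAut.conj z).toMonoidHom := by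
  classical
  have hp := (Fact.out : p.Prime)
  set S : Subgroup G := (P : Subgroup G) with hS
  set W : Subgroup G := (S ⊓ ⁅normalizer (S : Set G), normalizer (S : Set G)⁆) ⊔
    ⨆ z : G, S ⊓ (⁅S, S⁆).map (MulAut.conj z).toMonoidHom with hW
  have hWS : W ≤ S := sup_le inf_le_left (iSup_le fun _ => inf_le_left)
  have hcN : S ⊓ ⁅normalizer (S : Set G), normalizer (S : Set G)⁆ ≤ W := le_sup_left
  have hcz : ∀ z : G, S ⊓ (⁅S, S⁆).map (MulAut.conj z).toMonoidHom ≤ W := fun z =>
    le_trans (le_iSup (fun z : G => S ⊓ (⁅S, S⁆).map (MulAut.conj z).toMonoidHom) z) le_sup_right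
  refine le_antisymm ?_ (le_inf hWS (sup_le (inf_le_right.trans (commutator_mono le_top le_top))
    (iSup_le fun z => inf_le_right.trans ?_)))
  swap
  · rintro _ ⟨y, hy, rfl⟩
    exact (inferInstance : (commutator G).Normal).conj_mem y (commutator_mono le_top le_top hy) z
  let W' : Subgroup S := W.subgroupOf S
  have hW'c : commutator S ≤ W' := by
    intro x hx
    show (x : G) ∈ W
    refine hcN (mem_inf.2 ⟨x.2, ?_⟩)
    refine commutator_mono le_normalizer le_normalizer ?_
    rw [← map_subtype_commutator]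
    exact ⟨x, hx, rfl⟩
  haveI : W'.Normal := ⟨fun w hw g => by
    rw [show g * w * g⁻¹ = ⁅g, w⁆ * w by rw [commutatorElement_def]; group]
    exact mul_mem (hW'c (commutator_mem_commutator (mem_top g) (mem_top w))) hw⟩
  haveI : IsMulCommutative (S ⧸ W') := Normal.quotient_commutative_iff_commutator_le.mpr hW'c
  open scoped IsMulCommutative in
  let φ : S →* S ⧸ W' := QuotientGroup.mk' W'
  open scoped IsMulCommutative in
  let T : G →* S ⧸ W' := MonoidHom.transfer φ
  have hφ : ∀ a b : S, φ a = φ b ↔ (a : G)⁻¹ * b ∈ W := fun a b => QuotientGroup.eq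
  have hQp : IsPGroup p (S ⧸ W') := P.2.to_quotient W'
  have main : ∀ N : ℕ, ∀ x : S, orderOf x ≤ N →
      T (x : G) = φ x ^ S.index ∧
      ∀ u : G, ∀ hu : u * x * u⁻¹ ∈ S, φ ⟨_, hu⟩ = φ x := by
    intro N
    induction N with
    | zero => intro x hx; exact absurd hx (by have := orderOf_pos x; omega)
    | succ N ih =>
      suffices key : ∀ x : S, orderOf x ≤ N + 1 → T (x : G) = φ x ^ S.index by
        intro x hx
        refine ⟨key x hx, fun u hu => ?_⟩
        have h1 := key ⟨_, hu⟩ (le_of_eq_of_le (by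
          rw [← Subgroup.orderOf_coe, ← Subgroup.orderOf_coe]
          exact orderOf_injective (MulAut.conj u).toMonoidHom (MulAut.conj u).injective x) hx)
        open scoped IsMulCommutative in
        have h2 : T (u * x * u⁻¹) = T (x : G) := by
          rw [map_mul, map_mul, map_inv, mul_comm (T u), mul_inv_cancel_right]
        rw [h1, key x hx] at h2
        exact (hQp.powEquiv' P.not_dvd_index).injective h2
      intro x hx
      rcases eq_or_ne x 1 with rfl | hx1
      · simp
      haveI := Fintype.ofFinite (G ⧸ S)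
      haveI := Fintype.ofFinite (Quotient (MulAction.orbitRel (zpowers (x : G)) (G ⧸ S)))
      haveI := Fintype.ofFinite (Quotient (MulAction.orbitRel S (G ⧸ S)))
      open scoped IsMulCommutative in
      have hT : T (x : G) = ∏ q : Quotient (MulAction.orbitRel (zpowers (x : G)) (G ⧸ S)),
          φ ⟨q.out.out⁻¹ * (x : G) ^ Function.minimalPeriod ((x : G) • ·) q.out * q.out.out,
            QuotientGroup.out_conj_pow_minimalPeriod_mem S (x : G) q.out⟩ :=
        MonoidHom.transfer_eq_prod_quotient_orbitRel_zpowers_quot φ (x : G)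
      let s : Quotient (MulAction.orbitRel (zpowers (x : G)) (G ⧸ S)) → ℕ :=
        fun q => Function.minimalPeriod ((x : G) • ·) q.out
      let ψ : Quotient (MulAction.orbitRel (zpowers (x : G)) (G ⧸ S)) →
          Quotient (MulAction.orbitRel S (G ⧸ S)) := fun q => Quotient.mk'' q.out
      haveI hnz : ∀ q, NeZero (s q) := fun q =>
        ⟨(Function.minimalPeriod_pos_iff_mem_periodicPts.2
          ((MulAction.injective (x : G)).mem_periodicPts q.out)).ne'⟩
      have hidx : S.index = ∑ q, s q := by
        rw [index_eq_card, Nat.card_congr (quotientEquivSigmaZMod S (x : G)), Nat.card_sigma]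
        exact Finset.sum_congr rfl fun q _ => Nat.card_zmod _
      open scoped IsMulCommutative in
      suffices hfib : ∀ j, ∏ q ∈ Finset.univ.filter (fun q => ψ q = j),
          φ ⟨q.out.out⁻¹ * (x : G) ^ Function.minimalPeriod ((x : G) • ·) q.out * q.out.out,
            QuotientGroup.out_conj_pow_minimalPeriod_mem S (x : G) q.out⟩ =
          φ x ^ ∑ q ∈ Finset.univ.filter (fun q => ψ q = j), s q by
        rw [hT, hidx, ← Finset.prod_fiberwise Finset.univ ψ, Finset.prod_congr rfl fun j _ => hfib j,
          Finset.prod_pow_eq_pow_sum, Finset.sum_fiberwise]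
      intro j
      set F := Finset.univ.filter (fun q => ψ q = j) with hF
      rcases F.eq_empty_or_nonempty with hFe | hFne
      · rw [hFe]; simp
      obtain ⟨q₀, hq₀, hmin⟩ := Finset.exists_min_image F s hFne
      have hj : ψ q₀ = j := (Finset.mem_filter.1 hq₀).2
      set g : G := q₀.out.out with hg
      have hg0 : ((g : G) : G ⧸ S) = q₀.out := QuotientGroup.out_eq' _
      have hpp : ∀ q, ∃ e, s q = p ^ e := by
        intro q
        have h1 : Function.IsPeriodicPt ((x : G) • ·) (orderOf (x : G)) q.out := by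
          rw [Function.IsPeriodicPt, Function.IsFixedPt, smul_iterate, pow_orderOf_eq_one]
          exact one_smul G _
        obtain ⟨k, hk⟩ := IsPGroup.iff_orderOf.1 P.2 x
        have h2 := h1.minimalPeriod_dvd
        rw [Subgroup.orderOf_coe, hk] at h2
        obtain ⟨e, -, he⟩ := (Nat.dvd_prime_pow hp).1 h2
        exact ⟨e, he⟩
      have hdvd : ∀ q ∈ F, s q₀ ∣ s q := fun q hq => by
        obtain ⟨e₀, he₀⟩ := hpp q₀
        obtain ⟨e, he⟩ := hpp q
        have := hmin q hq
        rw [he₀, he] at this ⊢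
        exact pow_dvd_pow p ((Nat.pow_le_pow_iff_right hp.one_lt).1 this)
      have hmem : ∀ n, s q₀ ∣ n → g⁻¹ * (x : G) ^ n * g ∈ S := fun n hn => by
        obtain ⟨c, rfl⟩ := hn
        have h1 : g⁻¹ * (x : G) ^ s q₀ * g ∈ S :=
          QuotientGroup.out_conj_pow_minimalPeriod_mem S (x : G) q₀.out
        have h2 := pow_mem h1 c
        have h3 : (g⁻¹ * (x : G) ^ s q₀ * g) ^ c = g⁻¹ * ((x : G) ^ s q₀) ^ c * g := by
          have h4 := conj_pow (a := g⁻¹) (b := (x : G) ^ s q₀) (i := c)
          rwa [inv_inv] at h4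
        rwa [h3, ← pow_mul] at h2
      have hterm : ∀ q, ∀ hq : q ∈ F, φ ⟨q.out.out⁻¹ * (x : G) ^ Function.minimalPeriod ((x : G) • ·) q.out *
          q.out.out, QuotientGroup.out_conj_pow_minimalPeriod_mem S (x : G) q.out⟩ =
          φ ⟨g⁻¹ * (x : G) ^ s q * g, hmem _ (hdvd q hq)⟩ := by
        intro q hq
        have hqj : ψ q = ψ q₀ := ((Finset.mem_filter.1 hq).2).trans hj.symm
        obtain ⟨y, hy⟩ : ∃ y : S, (y : G) • q₀.out = q.out :=
          MulAction.mem_orbit_iff.1 (MulAction.orbitRel_apply.1 (Quotient.eq''.1 hqj))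
        set r : G := q.out.out with hr
        have hw : ((y : G) * g)⁻¹ * r ∈ S := by
          refine QuotientGroup.eq.1 ?_
          rw [hr, QuotientGroup.out_eq', ← hy, ← hg0]
          rfl
        set w : S := ⟨_, hw⟩ with hwdef
        have hrw : r = (y : G) * g * (w : G) := by rw [hwdef]; simp [mul_assoc]
        set X : G := (x : G) ^ s q with hX
        have hA : g⁻¹ * ((y : G)⁻¹ * X * y) * g ∈ S := by
          have h1 : r⁻¹ * X * r ∈ S := QuotientGroup.out_conj_pow_minimalPeriod_mem S (x : G) q.out
          rw [hrw] at h1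
          have h2 := mul_mem (mul_mem w.2 h1) (inv_mem w.2)
          convert h2 using 1
          group
        have h1 : φ ⟨r⁻¹ * X * r, QuotientGroup.out_conj_pow_minimalPeriod_mem S (x : G) q.out⟩ =
            φ (w⁻¹ * ⟨_, hA⟩ * w) := by
          congr 1
          refine Subtype.ext ?_
          show r⁻¹ * X * r = (w : G)⁻¹ * (g⁻¹ * ((y : G)⁻¹ * X * y) * g) * w
          rw [hrw]; group
        refine h1.trans ?_
        open scoped IsMulCommutative in
        rw [map_mul, map_mul, map_inv, mul_comm (φ w)⁻¹, inv_mul_cancel_right]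
        refine ((hφ ⟨_, hmem _ (hdvd q hq)⟩ ⟨_, hA⟩).2 ?_).symm
        refine hcz g⁻¹ (mem_inf.2 ⟨mul_mem (inv_mem (hmem _ (hdvd q hq))) hA, ?_⟩)
        refine ⟨⁅X⁻¹, (y : G)⁻¹⁆, commutator_mem_commutator (inv_mem (pow_mem x.2 _)) (inv_mem y.2), ?_⟩
        simp only [MulEquiv.coe_toMonoidHom, MulAut.conj_apply, commutatorElement_def, inv_inv, ← hX]
        group
      set m := ∑ q ∈ F, s q with hm
      have hmd : s q₀ ∣ m := Finset.dvd_sum hdvd
      have hcardO : m = Nat.card (MulAction.orbit S (q₀.out : G ⧸ S)) := by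
        rw [hm, ← Finset.sum_congr rfl (fun q _ => ZMod.card (s q))]
        · show ∑ q ∈ F, (Finset.univ : Finset (ZMod (s q))).card = _
          rw [← Finset.card_sigma]
          rw [Nat.card_eq_fintype_card, ← Set.toFinset_card]
          refine Finset.card_equiv (quotientEquivSigmaZMod S (x : G)).symm fun ⟨q, k⟩ => ?_
          rw [Finset.mem_sigma, Set.mem_toFinset, quotientEquivSigmaZMod_symm_apply]
          simp only [Finset.mem_univ, and_true, hF, Finset.mem_filter, true_and, ← hj]
          show Quotient.mk'' q.out = Quotient.mk'' q₀.out ↔ _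
          rw [Quotient.eq'', MulAction.orbitRel_apply, ← MulAction.orbit_eq_iff,
            ← MulAction.orbit_eq_iff]
          have : (x : G) ^ (k.cast : ℤ) • q.out = (((x ^ (k.cast : ℤ) : S) : G)) • q.out := by
            rw [coe_zpow]
          rw [this, ← Submonoid.smul_def]
          erw [MulAction.orbit_smul]
      obtain ⟨t, ht⟩ : ∃ t, m = p ^ t := by
        rw [hcardO]
        exact P.2.card_orbit _
      set z₀ : S := ⟨g⁻¹ * (x : G) ^ s q₀ * g, hmem _ dvd_rfl⟩ with hz₀
      have hz : ∀ n, ∀ h : s q₀ ∣ n, φ ⟨g⁻¹ * (x : G) ^ n * g, hmem n h⟩ = φ z₀ ^ (n / s q₀) := by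
        intro n h
        rw [← map_pow]
        congr 1
        refine Subtype.ext ?_
        rw [SubmonoidClass.coe_pow, hz₀]
        have h3 : (g⁻¹ * (x : G) ^ s q₀ * g) ^ (n / s q₀) =
            g⁻¹ * ((x : G) ^ s q₀) ^ (n / s q₀) * g := by
          have h4 := conj_pow (a := g⁻¹) (b := (x : G) ^ s q₀) (i := n / s q₀)
          rwa [inv_inv] at h4
        show g⁻¹ * (x : G) ^ n * g = (g⁻¹ * (x : G) ^ s q₀ * g) ^ (n / s q₀)
        rw [h3, ← pow_mul, Nat.mul_div_cancel' h]
      open scoped IsMulCommutative in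
      have hprod : ∏ q ∈ F, φ ⟨q.out.out⁻¹ * (x : G) ^ Function.minimalPeriod ((x : G) • ·) q.out *
          q.out.out, QuotientGroup.out_conj_pow_minimalPeriod_mem S (x : G) q.out⟩ =
          φ ⟨g⁻¹ * (x : G) ^ m * g, hmem _ hmd⟩ := by
        rw [hz m hmd, hm, Nat.sum_div hdvd, ← Finset.prod_pow_eq_pow_sum]
        exact Finset.prod_congr rfl fun q hq => (hterm q hq).trans (hz _ (hdvd q hq))
      rcases Nat.eq_zero_or_pos t with rfl | htpos
      · rw [pow_zero] at ht
        open scoped IsMulCommutative in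
        rw [hprod]
        open scoped IsMulCommutative in
        have e1 : φ x ^ m = φ x := by rw [ht, pow_one]
        rw [e1]
        have hN : g ∈ normalizer (S : Set G) := by
          have hone : ∀ y : S, (y : G) • q₀.out = q₀.out := by
            haveI : Subsingleton (MulAction.orbit S (q₀.out : G ⧸ S)) :=
              Finite.card_le_one_iff_subsingleton.1 (by rw [← hcardO, ht])
            intro y
            exact congrArg Subtype.val (Subsingleton.elim
              (⟨_, MulAction.mem_orbit _ y⟩ : MulAction.orbit S (q₀.out : G ⧸ S))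
              ⟨_, MulAction.mem_orbit_self _⟩)
          have hsub : ∀ y ∈ S, g⁻¹ * y * g ∈ S := fun y hy => by
            have h1 := hone ⟨y, hy⟩
            rw [← hg0] at h1
            have h2 : g⁻¹ * (y * g) ∈ S := QuotientGroup.eq.1 h1.symm
            rwa [← mul_assoc] at h2
          refine mem_normalizer_iff.2 fun n => ⟨fun hn => ?_, fun hn => ?_⟩
          · obtain ⟨y, hy⟩ := (Finite.injective_iff_surjective.1 (fun a b hab => Subtype.ext
              (mul_left_cancel (mul_right_cancel (congrArg Subtype.val hab)))) :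
              Function.Surjective fun y : S => (⟨_, hsub y y.2⟩ : S)) ⟨n, hn⟩
            have hy' : g⁻¹ * (y : G) * g = n := congrArg Subtype.val hy
            rw [← hy']
            convert y.2 using 1
            group
          · have := hsub _ hn
            convert this using 1
            group
        refine ((hφ x ⟨_, hmem m hmd⟩).2 ?_).symm
        refine hcN (mem_inf.2 ⟨mul_mem (inv_mem x.2) (hmem m hmd), ?_⟩)
        show (x : G)⁻¹ * (g⁻¹ * (x : G) ^ m * g) ∈ _
        rw [ht, pow_one]
        have := commutator_mem_commutator (inv_mem (le_normalizer x.2)) (inv_mem hN)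
        convert this using 1
        rw [commutatorElement_def]; group
      · open scoped IsMulCommutative in
        rw [hprod]
        have hlt : orderOf (x ^ m) ≤ N := by
          obtain ⟨k, hk⟩ := IsPGroup.iff_orderOf.1 P.2 x
          have hk0 : k ≠ 0 := fun h => hx1 (orderOf_eq_one_iff.1 (by rw [hk, h, pow_zero]))
          have h1 : p ∣ (orderOf x).gcd m :=
            Nat.dvd_gcd (hk ▸ dvd_pow_self p hk0) (ht ▸ dvd_pow_self p htpos.ne')
          have h0 : 0 < (orderOf x).gcd m := Nat.gcd_pos_of_pos_left _ (orderOf_pos x)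
          have h2 := Nat.div_lt_self (orderOf_pos x) (lt_of_lt_of_le hp.one_lt (Nat.le_of_dvd h0 h1))
          rw [orderOf_pow]
          omega
        obtain ⟨hu1, hu2⟩ := ih (x ^ m) hlt
        have h3 := hu2 g⁻¹ (by simpa using hmem _ hmd)
        rw [map_pow] at h3
        rw [← h3]
        congr 1
        exact Subtype.ext (by simp)
  intro x hx
  obtain ⟨hxS, hxG⟩ := mem_inf.1 hx
  open scoped IsMulCommutative in
  have h1 : T x = 1 := Abelianization.commutator_subset_ker T hxG
  rw [(main _ ⟨x, hxS⟩ le_rfl).1] at h1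
  have h2 : φ ⟨x, hxS⟩ = 1 := (hQp.powEquiv' P.not_dvd_index).injective (h1.trans (one_pow _).symm)
  have h3 : (⟨x, hxS⟩ : S) ∈ W' := (QuotientGroup.eq_one_iff _).1 h2
  exact h3

end Cfsg.Agent.S4216
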