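import Cfsg.Statements.S4217
import Cfsg.Agent.Lib.FGS.Gaschutz

set_option autoImplicit false
open Cfsg
open scoped Pointwise
set_option linter.all false

namespace Cfsg.Agent.S4217

/-- Let `A` be an abelian normal subgroup of the finite group `G`. Then `A` has a complement in `G` if and only if, for every prime `p` dividing the index of `A`, there are a Sylow `p`-subgroup `S` of `G/A` and a subgroup `K` of `G` with `K ∩ A = 1` and `KA` equal to the preimage of `S` (that is, `A` has a complement in the preimage of a Sylow `p`-subgroup of `G/A`). -/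
theorem result {G : Type*} [Group G] [Finite G] (A : Subgroup G) [A.Normal] (hA : IsMulCommutative A) : (∃ K : Subgroup G, K.IsComplement' A) ↔ ∀ p : ℕ, p.Prime → p ∣ A.index → ∃ (S : Sylow p (G ⧸ A)) (K : Subgroup G), K ⊓ A = ⊥ ∧ K ⊔ A = (S : Subgroup (G ⧸ A)).comap (QuotientGroup.mk' A) := by
  classical
  haveI := hA
  constructor
  · rintro ⟨K, hK⟩ p hp hpA
    haveI := Fact.mk hp
    refine ⟨Classical.arbitrary _, K ⊓ ((Classical.arbitrary (Sylow p (G ⧸ A)) : Sylow p (G ⧸ A)) :
      Subgroup (G ⧸ A)).comap (QuotientGroup.mk' A), ?_, ?_⟩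
    · rw [eq_bot_iff]
      intro x hx
      have : x ∈ K ⊓ A := ⟨hx.1.1, hx.2⟩
      rwa [hK.disjoint.eq_bot] at this
    · set U := ((Classical.arbitrary (Sylow p (G ⧸ A)) : Sylow p (G ⧸ A)) :
        Subgroup (G ⧸ A)).comap (QuotientGroup.mk' A) with hU
      have hAU : A ≤ U := by
        intro a ha
        rw [hU, Subgroup.mem_comap, QuotientGroup.mk'_apply, (QuotientGroup.eq_one_iff a).2 ha]
        exact one_mem _
      refine le_antisymm (sup_le inf_le_right hAU) fun u hu => ?_
      have : u ∈ K ⊔ A := by rw [hK.sup_eq_top]; exact Subgroup.mem_top u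
      rw [← SetLike.mem_coe, Subgroup.mul_normal, Set.mem_mul] at this
      obtain ⟨k, hk, a, ha, rfl⟩ := this
      exact mul_mem (Subgroup.mem_sup_left (Subgroup.mem_inf.2
        ⟨hk, (mul_mem_cancel_right (hAU ha)).1 hu⟩)) (Subgroup.mem_sup_right ha)
  · intro h
    rcases eq_or_ne A.index 1 with h1 | h1
    · rw [Subgroup.index_eq_one] at h1
      exact ⟨⊥, by rw [h1]; exact Subgroup.isComplement'_bot_top⟩
    have key : ∀ q : ℕ, q.Prime → q ∣ A.index →
        ∃ n : ℕ, (n : ℤ) ∈ FGS.Gaschutz.exps A ∧ n ∣ A.index ∧ ¬ q ∣ n := by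
      intro q hq hqA
      haveI := Fact.mk hq
      obtain ⟨S, K, hKA, hKsup⟩ := h q hq hqA
      refine ⟨((S : Subgroup (G ⧸ A)).comap (QuotientGroup.mk' A)).index,
        FGS.Gaschutz.index_mem_exps A (hKsup ▸ le_sup_right) (hKsup ▸ le_sup_left) hKA
          (by rw [sup_comm, hKsup]), ?_, ?_⟩
      · exact Subgroup.index_dvd_of_le (hKsup ▸ le_sup_right)
      · rw [Subgroup.index_comap_of_surjective _ (QuotientGroup.mk'_surjective A)]
        exact S.not_dvd_index
    obtain ⟨m, hm⟩ := Int.subgroup_cyclic (FGS.Gaschutz.exps A)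
    have hdiv : ∀ n : ℕ, (n : ℤ) ∈ FGS.Gaschutz.exps A → m.natAbs ∣ n := by
      intro n hn
      rw [hm, AddSubgroup.mem_closure_singleton] at hn
      obtain ⟨c, hc⟩ := hn
      rw [← Int.natCast_dvd_natCast, Int.natAbs_dvd, ← hc]
      exact Dvd.intro_left c (by simp)
    have hm1 : m.natAbs = 1 := by
      by_contra hne
      obtain ⟨q, hq, hqm⟩ := Nat.exists_prime_and_dvd hne
      obtain ⟨n, hn, hnA, -⟩ := key _ (Nat.minFac_prime h1) (Nat.minFac_dvd _)
      obtain ⟨n', hn', -, hqn'⟩ := key q hq ((hqm.trans (hdiv n hn)).trans hnA)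
      exact hqn' (hqm.trans (hdiv n' hn'))
    have h1mem : ((1 : ℕ) : ℤ) ∈ FGS.Gaschutz.exps A := by
      have hmm : m ∈ FGS.Gaschutz.exps A := by rw [hm]; exact AddSubgroup.subset_closure rfl
      rcases Int.natAbs_eq m with e | e <;> rw [hm1] at e
      · simpa [e] using hmm
      · simpa [e] using neg_mem hmm
    obtain ⟨H, hH⟩ := FGS.Gaschutz.exists_complement_of_mem A h1mem (Nat.coprime_one_right _)
    exact ⟨H, hH.symm⟩

end Cfsg.Agent.S4217
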