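import Cfsg.Statements.S4218
import Cfsg.Agent.Lib.Transfer.Constrained
import Cfsg.Agent.Lib.LocalEvenA.Core
import Cfsg.Agent.Lib.LocalEvenB.FixedOrder
import Cfsg.Agent.Lib.Blocks.InvariantCover

set_option autoImplicit false
open Cfsg

namespace Cfsg.Agent.S4218

open Subgroup Cfsg

theorem mem_frattini_equiv {A B : Type*} [Group A] [Group B] (e : A ≃* B) (x : A) :
    e x ∈ frattini B ↔ x ∈ frattini A := by
  constructor
  · intro h
    have := frattini_le_comap_frattini_of_surjective (φ := e.symm.toMonoidHom) e.symm.surjective h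
    simpa using this
  · intro h
    exact frattini_le_comap_frattini_of_surjective (φ := e.toMonoidHom) e.surjective h

theorem mem_pCore_of_trivial {X : Type*} [Group X] [Finite X] {p : ℕ} [Fact p.Prime]
    (h : centralizer (pCore p X : Set X) ≤ pCore p X) {x : X}
    (hx : ∀ q ∈ pCore p X, x * q * x⁻¹ * q⁻¹ ∈ (frattini ↥(pCore p X)).map (pCore p X).subtype) :
    x ∈ pCore p X := by
  set Q := pCore p X with hQdef
  set F := (frattini ↥Q).map Q.subtype with hF
  haveI : F.Normal := inferInstance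
  haveI : (Q.map (QuotientGroup.mk' F)).Normal :=
    Subgroup.Normal.map inferInstance _ (QuotientGroup.mk'_surjective F)
  let K : Subgroup X := (centralizer ((Q.map (QuotientGroup.mk' F) : Subgroup (X ⧸ F)) : Set (X ⧸ F))).comap
      (QuotientGroup.mk' F)
  haveI : K.Normal := Subgroup.Normal.comap inferInstance _
  have hmem : ∀ y : X, y ∈ K ↔ ∀ q ∈ Q, y * q * y⁻¹ * q⁻¹ ∈ F := by
    intro y
    simp only [K, mem_comap, mem_centralizer_iff]
    constructor
    · intro hy q hq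
      have := hy _ (mem_map_of_mem (QuotientGroup.mk' F) hq)
      rw [← QuotientGroup.eq_one_iff]
      simp only [QuotientGroup.mk'_apply] at this
      simp only [QuotientGroup.mk_mul, QuotientGroup.mk_inv, ← this]
      group
    · rintro hy _ ⟨q, hq, rfl⟩
      have := (QuotientGroup.eq_one_iff _).mpr (hy q hq)
      simp only [QuotientGroup.mk_mul, QuotientGroup.mk_inv, mul_inv_eq_one, mul_inv_eq_iff_eq_mul] at this
      simp only [QuotientGroup.mk'_apply]
      simpa using this.symm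
  have hQp : IsPGroup p Q := Basics.pCore_isPGroup p
  have hKp : IsPGroup p K := LocalEvenA.isPGroup_of_forall_coprime fun y hy hyo => by
    have hc := LocalEvenB.commute_of_frattini hQp (le_normalizer_of_normal (H := Q) (mem_top y)) hyo
      ((hmem y).mp hy)
    have hyQ : y ∈ Q := h (mem_centralizer_iff.mpr fun q hq => (hc q hq).eq.symm)
    obtain ⟨k, hk⟩ := hQp ⟨y, hyQ⟩
    exact LocalEvenA.eq_one_of_pPow_of_coprime (congrArg Subtype.val hk) hyo
  exact Basics.le_pCore hKp ((hmem x).mpr hx)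

/-- Let `G` be a finite `p`-solvable group, `N₀ = O_{p'}(G)`, `P₁ = O_{p',p}(G)`, and let `F ≤ P₁` be the preimage of the Frattini subgroup of `P₁/N₀`. Then an element `g` of `G` induces the identity on `P₁/F` by conjugation (that is, `g x g⁻¹ x⁻¹ ∈ F` for all `x ∈ P₁`) if and only if `g ∈ P₁`: the group `G/P₁` acts faithfully on `P₁/F`. -/
theorem result {G : Type*} [Group G] [Finite G] {p : ℕ} [Fact p.Prime] (hG : Cfsg.IsPSolvable p G) (g : G) : (∀ x ∈ Cfsg.pPrimePCore p G, g * x * g⁻¹ * x⁻¹ ∈ ((frattini (↥(Cfsg.pPrimePCore p G) ⧸ (Cfsg.pPrimeCore p G).subgroupOf (Cfsg.pPrimePCore p G))).comap (QuotientGroup.mk' ((Cfsg.pPrimeCore p G).subgroupOf (Cfsg.pPrimePCore p G)))).map (Cfsg.pPrimePCore p G).subtype) ↔ g ∈ Cfsg.pPrimePCore p G := by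
  set O := Cfsg.pPrimeCore p G with hO
  set M := Cfsg.pPrimePCore p G with hM
  set π := QuotientGroup.mk' O
  have hMQ : M.map π = Cfsg.pCore p (G ⧸ O) := Components.map_pPrimePCore
  set Q := Cfsg.pCore p (G ⧸ O)
  let f : ↥M →* ↥Q := (π.comp M.subtype).codRestrict Q fun m => hMQ ▸ Subgroup.mem_map_of_mem π m.2
  have hfs : Function.Surjective f := by
    rintro ⟨q, hq⟩
    obtain ⟨m, hm, rfl⟩ := Subgroup.mem_map.mp (hMQ.symm ▸ hq : q ∈ M.map π)
    exact ⟨⟨m, hm⟩, rfl⟩
  have hfk : f.ker = O.subgroupOf M := by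
    ext m
    rw [MonoidHom.mem_ker, Subgroup.mem_subgroupOf, ← QuotientGroup.eq_one_iff (N := O), Subtype.ext_iff]
    rfl
  let e : (↥M ⧸ O.subgroupOf M) ≃* ↥Q := (QuotientGroup.quotientMulEquivOfEq hfk.symm).trans
    (QuotientGroup.quotientKerEquivOfSurjective f hfs)
  have hF : ∀ u : G, u ∈ M → (u ∈ ((frattini (↥M ⧸ O.subgroupOf M)).comap
      (QuotientGroup.mk' (O.subgroupOf M))).map M.subtype ↔ π u ∈ (frattini ↥Q).map Q.subtype) := by
    intro u hu
    have key : (⟨u, hu⟩ : ↥M) ∈ (frattini (↥M ⧸ O.subgroupOf M)).comap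
        (QuotientGroup.mk' (O.subgroupOf M)) ↔ f ⟨u, hu⟩ ∈ frattini ↥Q :=
      (mem_frattini_equiv e _).symm
    constructor
    · rintro ⟨v, hv, rfl⟩
      exact ⟨f v, key.mp hv, rfl⟩
    · rintro ⟨q, hq, hqe⟩
      exact ⟨⟨u, hu⟩, key.mpr (by rwa [show f ⟨u, hu⟩ = q from Subtype.ext hqe.symm]), rfl⟩
  have hQp : IsPGroup p ↥Q := Basics.pCore_isPGroup p
  constructor
  · intro h
    have hX : Subgroup.centralizer (Q : Set (G ⧸ O)) ≤ Q :=
      Transfer.centralizer_pCore_le_of_pSolvable Components.pPrimeCore_quotient_eq_bot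
        (Blocks.isPSolvable_subgroup (Coprime23.isPSolvable_map π (QuotientGroup.mk'_surjective O) hG) _)
    have hg : π g ∈ Q := mem_pCore_of_trivial hX fun q hq => by
      obtain ⟨x, hx, rfl⟩ := Subgroup.mem_map.mp (hMQ.symm ▸ hq : q ∈ M.map π)
      have hu : g * x * g⁻¹ * x⁻¹ ∈ M :=
        mul_mem (Components.pPrimePCore_normal.conj_mem x hx g) (inv_mem hx)
      have := (hF _ hu).mp (h x hx)
      simpa only [map_mul, map_inv] using this
    exact hg
  · intro hg x hx
    have hu : g * x * g⁻¹ * x⁻¹ ∈ M := mul_mem (mul_mem (mul_mem hg hx) (inv_mem hg)) (inv_mem hx)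
    refine (hF _ hu).mpr ⟨f ⟨g, hg⟩ * f ⟨x, hx⟩ * (f ⟨g, hg⟩)⁻¹ * (f ⟨x, hx⟩)⁻¹,
      FGB.commutatorElement_mem_frattini hQp _ _, ?_⟩
    simp only [map_mul, map_inv]
    rfl

end Cfsg.Agent.S4218
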