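import Cfsg.Statements.S4219
-- import your own Cfsg.Agent.* helpers here

set_option autoImplicit false
open Cfsg
open scoped Pointwise
set_option linter.all false

namespace Cfsg.Agent.S4219

lemma stab_map {G α : Type*} [Group G] [MulAction G α] (g : G) (a : α) :
    (MulAction.stabilizer G a).map (MulAut.conj g).toMonoidHom = MulAction.stabilizer G (g • a) :=
  (MulAction.stabilizer_smul_eq_stabilizer_map_conj g a).symm


/-- Let a finite group `G` act `t`-fold transitively on a finite set, let `H` be the stabilizer of `t` distinct points and `P` a Sylow `p`-subgroup of `H`. Then the normalizer of `P` in `G` is `t`-fold transitive on the fixed points of `P`: any `t` distinct fixed points of `P` can be carried to any other `t` distinct fixed points of `P` by an element normalizing `P`. -/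
theorem result {G : Type*} [Group G] [Finite G] {α : Type*} [Fintype α] [MulAction G α] {t : ℕ} (hG : MulAction.IsMultiplyPretransitive G α t) (x : Fin t ↪ α) {p : ℕ} [Fact p.Prime] (P : Sylow p (MulAction.stabilizer G x)) (a b : Fin t ↪ α) (ha : ∀ i, a i ∈ MulAction.fixedPoints ((P : Subgroup (MulAction.stabilizer G x)).map (MulAction.stabilizer G x).subtype) α) (hb : ∀ i, b i ∈ MulAction.fixedPoints ((P : Subgroup (MulAction.stabilizer G x)).map (MulAction.stabilizer G x).subtype) α) : ∃ g ∈ Subgroup.normalizer ((((P : Subgroup (MulAction.stabilizer G x)).map (MulAction.stabilizer G x).subtype) : Subgroup G) : Set G), g • a = b := by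
  classical
  haveI : MulAction.IsPretransitive G (Fin t ↪ α) := hG
  set P' : Subgroup G := (P : Subgroup (MulAction.stabilizer G x)).map (MulAction.stabilizer G x).subtype with hP'
  have hfix : ∀ c : Fin t ↪ α, (∀ i, c i ∈ MulAction.fixedPoints P' α) → P' ≤ MulAction.stabilizer G c := by
    intro c hc y hy
    rw [MulAction.mem_stabilizer_iff]
    ext i
    exact hc i ⟨y, hy⟩
  obtain ⟨g, hg⟩ := MulAction.exists_smul_eq G a b
  set T := MulAction.stabilizer G b
  set P'' : Subgroup G := P'.map (MulAut.conj g).toMonoidHom with hP''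
  have hle1 : P' ≤ T := hfix b (hb)
  have hle2 : P'' ≤ T := by
    simp only [T, P'']
    rw [← hg, ← stab_map]
    exact Subgroup.map_mono (hfix a (ha))
  obtain ⟨u, hu⟩ := MulAction.exists_smul_eq G x b
  have hTcard : Nat.card T = Nat.card (MulAction.stabilizer G x) := by
    simp only [T]
    rw [← hu, ← stab_map]
    exact Subgroup.card_map_of_injective (MulAut.conj u).injective
  have hc1 : Nat.card P' = p ^ (Nat.card T).factorization p := by
    rw [hP', Subgroup.card_map_of_injective (MulAction.stabilizer G x).subtype_injective, hTcard, P.card_eq_multiplicity]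
  have hc2 : Nat.card P'' = p ^ (Nat.card T).factorization p := by
    rw [← hc1]; exact Subgroup.card_map_of_injective (MulAut.conj g).injective
  let Q1 : Sylow p T := Sylow.ofCard (P'.subgroupOf T) (by rw [Nat.card_congr (Subgroup.subgroupOfEquivOfLe hle1).toEquiv, hc1])
  let Q2 : Sylow p T := Sylow.ofCard (P''.subgroupOf T) (by rw [Nat.card_congr (Subgroup.subgroupOfEquivOfLe hle2).toEquiv, hc2])
  obtain ⟨h, hh⟩ := MulAction.exists_smul_eq T Q2 Q1
  have heq : P''.map (MulAut.conj (h : G)).toMonoidHom = P' := by
    have h' := congrArg (fun Q : Sylow p T => (Q : Subgroup T).map T.subtype) hh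
    simp only [Sylow.coe_subgroup_smul, Q1, Q2, Sylow.coe_ofCard, Subgroup.map_subgroupOf_eq_of_le hle1] at h'
    rw [← h']
    conv_lhs => rw [← Subgroup.map_subgroupOf_eq_of_le hle2, Subgroup.map_map]
    rw [Subgroup.pointwise_smul_def]
    erw [Subgroup.map_map]
    congr 1
  refine ⟨(h : G) * g, ?_, by rw [mul_smul, hg]; exact h.2⟩
  rw [Subgroup.mem_normalizer_iff]
  intro y
  have hmap : P'.map (MulAut.conj ((h : G) * g)).toMonoidHom = P' := by
    conv_rhs => rw [← heq, hP'', Subgroup.map_map]
    congr 1
    ext z; simp [mul_assoc]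
  show y ∈ P' ↔ (h : G) * g * y * ((h : G) * g)⁻¹ ∈ P'
  conv_rhs => rw [← hmap, Subgroup.mem_map_equiv, MulAut.conj_symm_apply]
  simp [mul_assoc]

end Cfsg.Agent.S4219
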