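import Cfsg.Statements.S4220
import Cfsg.Agent.Lib.FGS.KpPlusR

set_option autoImplicit false
open Cfsg
open scoped Pointwise
set_option linter.all false

namespace Cfsg.Agent.S4220

/-- Let `n = kp + r` with `p` prime, `1 ≤ k < p` and `r > k`, excluding the case `k = 1, r = 2`. Then a permutation group of degree `n` that is `(r + 1)`-fold transitive contains the alternating group. -/
theorem result {α : Type*} [Fintype α] [DecidableEq α] (G : Subgroup (Equiv.Perm α)) {k p r : ℕ} (hp : p.Prime) (hn : Fintype.card α = k * p + r) (hk : 1 ≤ k) (hpk : k < p) (hrk : k < r) (hex : ¬ (k = 1 ∧ r = 2)) (hG : MulAction.IsMultiplyPretransitive G α (r + 1)) : alternatingGroup α ≤ G := by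
  classical
  have hfp := Fact.mk hp
  have hpp := hp.two_le
  have hkp : k * 2 ≤ k * p := Nat.mul_le_mul_left k hpp
  rcases Nat.lt_or_ge r 3 with hr | hr
  · exact absurd ⟨by omega, by omega⟩ hex
  by_cases h1 : p ≤ 3 ∧ k = 1
  · obtain ⟨hp3, rfl⟩ := h1
    have hle : Nat.card α - 2 ≤ r + 1 := by rw [Nat.card_eq_fintype_card]; omega
    have : MulAction.IsMultiplyPretransitive G α (Nat.card α - 2) :=
      MulAction.isMultiplyPretransitive_of_le (n := r + 1) hle
        (by rw [Nat.card_eq_fintype_card]; omega)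
    exact _root_.IsMultiplyPretransitive.alternatingGroup_le α G this

  by_cases h2 : p = 3 ∧ r = 3
  · obtain ⟨rfl, rfl⟩ := h2
    have : k = 2 := by omega
    subst this
    exact KpPlusR.nine (by omega) hG
  obtain ⟨F, -, hF⟩ := Finset.exists_subset_card_eq (n := r) (s := (Finset.univ : Finset α))
    (by rw [Finset.card_univ]; omega)
  obtain ⟨P, hD⟩ := KpPlusR.exists_data hG hn hk hpk hF
  refine hD.alternating hrk hr ?_ ?_ hn hF hk hG
  · rintro rfl
    exact h1 ⟨by norm_num, by omega⟩
  · omega

end Cfsg.Agent.S4220
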