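import Cfsg.Statements.S4221
import Cfsg.Agent.Lib.Hall4Odd
-- import your own Cfsg.Agent.* helpers here

set_option autoImplicit false
open Cfsg

namespace Cfsg.Agent.S4221

/-- Let `G` be a `4`-fold transitive permutation group on a finite set of `n` points in which the pointwise stabilizer of some four distinct points has odd order. Then `n = 4` or `n = 5` with `G` the full symmetric group, or `n = 6` or `n = 7` with `G` the alternating group, or `n = 11` and `G` has order `7920`. -/
theorem result {α : Type*} [Fintype α] [DecidableEq α] (G : Subgroup (Equiv.Perm α)) (hG : MulAction.IsMultiplyPretransitive G α 4) (x : Fin 4 ↪ α) (hodd : Odd (Nat.card (MulAction.stabilizer G x))) : ((Fintype.card α = 4 ∨ Fintype.card α = 5) ∧ G = ⊤) ∨ ((Fintype.card α = 6 ∨ Fintype.card α = 7) ∧ G = alternatingGroup α) ∨ (Fintype.card α = 11 ∧ Nat.card G = 7920) := by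
  classical
  have hS : ∀ g : G, g ∈ MulAction.stabilizer G x ↔ ∀ i, g • x i = x i := fun g =>
    ⟨fun hg i => DFunLike.congr_fun hg i, fun hg => DFunLike.ext _ _ hg⟩
  obtain ⟨h, horder, htriv⟩ := Hall4Odd.hyp_of_stab hG x _ hS hodd
  have h4 : 4 ≤ Fintype.card α := by
    simpa using Fintype.card_le_of_embedding x
  have htot : Nat.card G * G.index = (Fintype.card α).factorial := by
    rw [Subgroup.card_mul_index, Nat.card_perm, Nat.card_eq_fintype_card]
  obtain ⟨k, hk⟩ := hodd
  rw [horder, hk] at htot
  rcases Nat.lt_or_ge (Fintype.card α) 8 with hlt | h8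
  · interval_cases hn : Fintype.card α
    · refine Or.inl ⟨Or.inl rfl, Subgroup.index_eq_one.mp ?_⟩
      norm_num [Nat.descFactorial, Nat.factorial] at htot
      rw [mul_assoc] at htot
      have : (2 * k + 1) * G.index = 1 := by omega
      exact (mul_eq_one.mp this).2
    · refine Or.inl ⟨Or.inr rfl, Subgroup.index_eq_one.mp ?_⟩
      norm_num [Nat.descFactorial, Nat.factorial] at htot
      rw [mul_assoc] at htot
      have : (2 * k + 1) * G.index = 1 := by omega
      exact (mul_eq_one.mp this).2
    · refine Or.inr (Or.inl ⟨Or.inl rfl, Equiv.Perm.eq_alternatingGroup_of_index_eq_two ?_⟩)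
      norm_num [Nat.descFactorial, Nat.factorial] at htot
      rw [mul_assoc] at htot
      have h2 : (2 * k + 1) * G.index = 2 := by omega
      rcases (Nat.dvd_prime Nat.prime_two).mp (Dvd.intro _ h2) with e | e
      · rw [e, one_mul] at h2; exact h2
      · omega
    · refine Or.inr (Or.inl ⟨Or.inr rfl, Equiv.Perm.eq_alternatingGroup_of_index_eq_two ?_⟩)
      norm_num [Nat.descFactorial, Nat.factorial] at htot
      rw [mul_assoc] at htot
      have h2 : (2 * k + 1) * G.index = 6 := by omega
      have hle : 2 * k + 1 ≤ 6 := Nat.le_of_dvd (by norm_num) (Dvd.intro _ h2)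
      obtain ⟨a, b, c, d, g, q, ha, hb, hc, hd, hg⟩ := h.stab_ne_seven hn
      have hk0 : k ≠ 0 := by
        intro e
        exact hg (htriv a b c d g q ha hb hc hd (by omega))
      have hk2 : k = 1 ∨ k = 2 := by omega
      rcases hk2 with rfl | rfl <;> omega
  · refine Or.inr (Or.inr ?_)
    have h11 := h.degree_of_eight h8
    refine ⟨h11, ?_⟩
    have hk0 : Nat.card (MulAction.stabilizer G x) = 1 := by
      rw [Subgroup.card_eq_one, Subgroup.eq_bot_iff_forall]
      intro g hg
      exact h.stab_trivial h8 (Hall4Odd.quad_of_emb x) ((hS g).mp hg 0) ((hS g).mp hg 1)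
        ((hS g).mp hg 2) ((hS g).mp hg 3)
    rw [horder, hk0, h11]
    rfl

end Cfsg.Agent.S4221
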