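import Cfsg.Statements.S4222
-- import your own Cfsg.Agent.* helpers here

set_option autoImplicit false
open Cfsg
open scoped Pointwise commutatorElement
set_option linter.all false

namespace Cfsg.Agent.S4222

/-- If a normal subgroup `N` of a finite group is complete (its centre is trivial and every automorphism of `N` is inner), then the group is the internal direct product of `N` and the centralizer of `N`: the centralizer is a complement to `N`. -/
theorem result {T : Type*} [Group T] [Finite T] (N : Subgroup T) [N.Normal] (hz : Subgroup.center ↥N = ⊥) (ha : Function.Surjective (MulAut.conj : ↥N →* MulAut ↥N)) : (Subgroup.centralizer (N : Set T)).IsComplement' N := by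
  apply Subgroup.isComplement'_of_disjoint_and_mul_eq_univ
  · rw [disjoint_iff, eq_bot_iff]
    intro x hx
    have : (⟨x, hx.2⟩ : N) ∈ Subgroup.center N :=
      Subgroup.mem_center_iff.mpr fun y => Subtype.ext (hx.1 y y.2)
    rw [hz, Subgroup.mem_bot] at this
    exact congrArg Subtype.val this
  · refine Set.eq_univ_of_forall fun t => ?_
    obtain ⟨n, hn⟩ := ha (MulAut.conjNormal t)
    refine ⟨t * (n : T)⁻¹, ?_, n, n.2, by simp⟩
    rw [SetLike.mem_coe, Subgroup.mem_centralizer_iff]
    intro y hy
    have h := congrArg (fun f : MulAut N => ((f ((MulAut.conjNormal t).symm ⟨y, hy⟩) : N) : T)) hn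
    simp [MulAut.conjNormal_symm_apply, MulAut.conjNormal_apply, mul_assoc] at h
    have h' : (n : T) * (t⁻¹ * (y * t)) * (n : T)⁻¹ = y := by simpa [mul_assoc] using h
    calc y * (t * (n : T)⁻¹) = t * (t⁻¹ * (y * t)) * (n : T)⁻¹ := by group
      _ = t * (n : T)⁻¹ * ((n : T) * (t⁻¹ * (y * t)) * (n : T)⁻¹) := by group
      _ = t * (n : T)⁻¹ * y := by rw [h']

end Cfsg.Agent.S4222
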