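import Cfsg.Statements.S4223

set_option autoImplicit false
open Cfsg

namespace Cfsg.Agent.S4223

universe a b

section
variable {A : Type*} [Group A]

def IsNormalEnd (f : A →* A) : Prop := ∀ c x, f (c * x * c⁻¹) = c * f x * c⁻¹

def Indec (A : Type*) [Group A] : Prop :=
  ∀ H K : Subgroup A, H.Normal → K.Normal → H ⊓ K = ⊥ → H ⊔ K = ⊤ → H = ⊥ ∨ K = ⊥

theorem isNormalEnd_iter {f : A →* A} (hf : IsNormalEnd f) (k : ℕ) (c x : A) :
    f^[k] (c * x * c⁻¹) = c * f^[k] x * c⁻¹ := by
  induction k with
  | zero => rfl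
  | succ k ih => rw [Function.iterate_succ_apply', ih, hf, ← Function.iterate_succ_apply' f k x]

theorem iter_mul (f : A →* A) (k : ℕ) (x y : A) : f^[k] (x * y) = f^[k] x * f^[k] y :=
  iterate_map_mul f k x y

/-- Fitting: a normal endomorphism of a finite indecomposable group is bijective or nilpotent. -/
theorem fitting [Finite A] (hA : Indec A) {f : A →* A} (hf : IsNormalEnd f) :
    Function.Bijective f ∨ ∀ x, ∃ k, f^[k] x = 1 := by
  let K : ℕ → Subgroup A := fun k =>
    { carrier := {x | f^[k] x = 1}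
      one_mem' := iterate_map_one f k
      mul_mem' := fun {x y} (hx : f^[k] x = 1) (hy : f^[k] y = 1) => by
        show f^[k] (x * y) = 1
        rw [iter_mul, hx, hy, one_mul]
      inv_mem' := fun {x} (hx : f^[k] x = 1) => by
        show f^[k] x⁻¹ = 1
        rw [iterate_map_inv, hx, inv_one] }
  have hmono : Monotone K := monotone_nat_of_le_succ fun k x (hx : f^[k] x = 1) => by
    show f^[k + 1] x = 1
    rw [Function.iterate_succ_apply', hx, map_one]
  obtain ⟨N, hN⟩ := WellFoundedGT.monotone_chain_condition (⟨K, hmono⟩ : ℕ →o Subgroup A)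
  set n := N + 1 with hn
  let R : Subgroup A :=
    { carrier := Set.range (f^[n])
      one_mem' := ⟨1, iterate_map_one f n⟩
      mul_mem' := fun {x y} ⟨a, ha⟩ ⟨b, hb⟩ => ⟨a * b, by rw [iter_mul, ha, hb]⟩
      inv_mem' := fun {x} ⟨a, ha⟩ => ⟨a⁻¹, by rw [iterate_map_inv, ha]⟩ }
  have hKn : (K n).Normal := ⟨fun x (hx : f^[n] x = 1) c => by
    show f^[n] (c * x * c⁻¹) = 1
    rw [isNormalEnd_iter hf, hx, mul_one, mul_inv_cancel]⟩
  have hRn : R.Normal := ⟨fun x ⟨a, ha⟩ c => ⟨c * a * c⁻¹, by rw [isNormalEnd_iter hf, ha]⟩⟩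
  have hinf : K n ⊓ R = ⊥ := by
    rw [eq_bot_iff]
    rintro x ⟨hx, y, rfl⟩
    have h1 : f^[n + n] y = 1 := by rw [Function.iterate_add_apply]; exact hx
    have h2 : y ∈ K n := by
      have e : K (n + n) = K n := (hN (n + n) (by omega)).symm.trans (hN n (by omega))
      rw [← e]; exact h1
    exact h2
  have hsup : K n ⊔ R = ⊤ := by
    rw [eq_top_iff]
    intro x _
    obtain ⟨y, hy⟩ : ∃ y, f^[n] (f^[n] y) = f^[n] x := by
      haveI : Finite R := inferInstance
      have hinj : Function.Injective (fun r : R => (⟨f^[n] r.1, r.1, rfl⟩ : R)) := by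
        rintro ⟨r, hr⟩ ⟨s, hs⟩ h
        have h' : f^[n] r = f^[n] s := congrArg Subtype.val h
        have : r⁻¹ * s ∈ K n ⊓ R := ⟨by
          show f^[n] (r⁻¹ * s) = 1
          rw [iter_mul, iterate_map_inv, h', inv_mul_cancel], R.mul_mem (R.inv_mem hr) hs⟩
        rw [hinf, Subgroup.mem_bot, inv_mul_eq_one] at this
        exact Subtype.ext this
      obtain ⟨⟨_, y, rfl⟩, hy⟩ := (Finite.injective_iff_surjective.mp hinj) ⟨f^[n] x, x, rfl⟩
      exact ⟨y, congrArg Subtype.val hy⟩
    rw [show x = (x * (f^[n] y)⁻¹) * f^[n] y by group]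
    refine mul_mem (Subgroup.mem_sup_left ?_) (Subgroup.mem_sup_right ⟨y, rfl⟩)
    show f^[n] (x * (f^[n] y)⁻¹) = 1
    rw [iter_mul, iterate_map_inv, hy, mul_inv_cancel]
  rcases hA _ _ hKn hRn hinf hsup with h | h
  · left
    refine Finite.injective_iff_bijective.mp ((injective_iff_map_eq_one f).mpr fun x hx => ?_)
    have : x ∈ K n := by
      show f^[N + 1] x = 1
      rw [Function.iterate_succ_apply, hx, iterate_map_one]
    rwa [h, Subgroup.mem_bot] at this
  · right
    intro x
    refine ⟨n, ?_⟩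
    have : f^[n] x ∈ R := ⟨x, rfl⟩
    rwa [h, Subgroup.mem_bot] at this

theorem bijective_left_or_right [Finite A] (hA : Indec A) {f g : A →* A} (hf : IsNormalEnd f)
    (hg : IsNormalEnd g) {γ : A →* A} (hγ : ∀ x, γ x = f x * g x) (hγn : IsNormalEnd γ)
    (hb : Function.Bijective γ) : Function.Bijective f ∨ Function.Bijective g := by
  let E := MulEquiv.ofBijective γ hb
  let g' : A →* A := E.symm.toMonoidHom.comp g
  let f' : A →* A := E.symm.toMonoidHom.comp f
  have hg' : IsNormalEnd g' := fun c x => E.injective (by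
    show E (E.symm (g (c * x * c⁻¹))) = γ (c * E.symm (g x) * c⁻¹)
    rw [E.apply_symm_apply, hg, hγn]
    show _ = c * E (E.symm (g x)) * c⁻¹
    rw [E.apply_symm_apply])
  rcases fitting hA hg' with h | h
  · refine Or.inr ?_
    have : (g : A → A) = E ∘ g' := funext fun x => (E.apply_symm_apply _).symm
    rw [this]
    exact E.bijective.comp h
  · refine Or.inl (Finite.injective_iff_bijective.mp ((injective_iff_map_eq_one f).mpr fun x hx => ?_))
    have hfix : g' x = x := by
      show E.symm (g x) = x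
      rw [MulEquiv.symm_apply_eq]
      show g x = γ x
      rw [hγ, hx, one_mul]
    obtain ⟨k, hk⟩ := h x
    rwa [Function.iterate_fixed hfix] at hk

end

theorem exists_factor {A G : Type*} [Group A] [Group G] [Finite A] [Nontrivial A] (hA : Indec A)
    {n : ℕ} {B : Fin n → Type b} [∀ j, Group (B j)] [∀ j, Finite (B j)] (hB : ∀ j, Indec (B j))
    (e : G ≃* ((j : Fin n) → B j)) (ι : A →* G) (p : G →* A) (hpι : ∀ a, p (ι a) = a)
    (hnor : ∀ g a, g * ι a * g⁻¹ = ι (p g * a * (p g)⁻¹)) :
    ∃ j, Nonempty (A ≃* B j) ∧ ∀ g, p g = 1 → (∀ k, k ≠ j → e g k = 1) → g = 1 := by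
  classical
  let mask : Finset (Fin n) → (((j : Fin n) → B j) →* ((j : Fin n) → B j)) := fun s =>
    { toFun := fun x k => if k ∈ s then x k else 1
      map_one' := by funext k; simp
      map_mul' := fun x y => by funext k; by_cases h : k ∈ s <;> simp [h] }
  let α : Finset (Fin n) → (A →* A) := fun s =>
    p.comp (e.symm.toMonoidHom.comp ((mask s).comp (e.toMonoidHom.comp ι)))
  have hαn : ∀ s, IsNormalEnd (α s) := by
    intro s c x
    show p (e.symm (mask s (e (ι (c * x * c⁻¹))))) = c * p (e.symm (mask s (e (ι x)))) * c⁻¹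
    have hm : ∀ u v, mask s (u * v * u⁻¹) = u * mask s v * u⁻¹ := fun u v => by
      funext k
      by_cases h : k ∈ s <;> simp [mask, h]
    rw [map_mul ι, map_mul ι, map_inv ι, map_mul e, map_mul e, map_inv e, hm, map_mul e.symm, map_mul e.symm,
      map_inv e.symm, e.symm_apply_apply, map_mul, map_mul, map_inv, hpι]
  have hempty : ¬ Function.Bijective (α ∅) := by
    intro h
    obtain ⟨x, y, hxy⟩ := exists_pair_ne A
    refine hxy (h.1 ?_)
    have : ∀ z, α ∅ z = 1 := fun z => by
      show p (e.symm (mask ∅ (e (ι z)))) = 1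
      rw [show mask ∅ (e (ι z)) = 1 by funext k; simp [mask], map_one, map_one]
    rw [this, this]
  have main : ∀ s, Function.Bijective (α s) → ∃ j, Function.Bijective (α {j}) := by
    intro s
    induction s using Finset.induction with
    | empty => exact fun h => absurd h hempty
    | insert j s hjs ih =>
      intro h
      refine (bijective_left_or_right hA (hαn {j}) (hαn s) (fun x => ?_) (hαn _) h).elim
        (fun h => ⟨j, h⟩) ih
      show p (e.symm (mask (insert j s) (e (ι x)))) =
        p (e.symm (mask {j} (e (ι x)))) * p (e.symm (mask s (e (ι x))))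
      rw [← map_mul, ← map_mul]
      congr 2
      funext k
      by_cases h1 : k = j
      · subst h1; simp [mask, hjs]
      · simp [mask, h1]
  have huniv : Function.Bijective (α Finset.univ) := by
    have : (α Finset.univ : A → A) = id := funext fun x => by
      show p (e.symm (mask Finset.univ (e (ι x)))) = x
      rw [show mask Finset.univ (e (ι x)) = e (ι x) by funext k; simp [mask], e.symm_apply_apply, hpι]
    rw [this]
    exact Function.bijective_id
  obtain ⟨j, hj⟩ := main _ huniv
  let u : A →* B j := (Pi.evalMonoidHom B j).comp (e.toMonoidHom.comp ι)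
  let v : B j →* A := p.comp (e.symm.toMonoidHom.comp (MonoidHom.mulSingle B j))
  have hvu : ∀ x, v (u x) = α {j} x := fun x => by
    show p (e.symm (Pi.mulSingle j (e (ι x) j))) = p (e.symm (mask {j} (e (ι x))))
    congr 2
    funext k
    by_cases h1 : k = j
    · subst h1; simp [mask]
    · simp [mask, h1]
  have hrn : u.range.Normal := ⟨fun y ⟨x, hx⟩ c => ⟨p (e.symm (Pi.mulSingle j c)) * x *
    (p (e.symm (Pi.mulSingle j c)))⁻¹, by
      subst hx
      show e (ι _) j = c * e (ι x) j * c⁻¹
      rw [← hnor, map_mul, map_mul, map_inv, e.apply_symm_apply]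
      simp⟩⟩
  have hinf : u.range ⊓ v.ker = ⊥ := by
    rw [eq_bot_iff]
    rintro y ⟨⟨x, rfl⟩, hy⟩
    have : α {j} x = α {j} 1 := by rw [← hvu, map_one]; exact hy
    rw [Subgroup.mem_bot, hj.1 this, map_one]
  have hsup : u.range ⊔ v.ker = ⊤ := by
    rw [eq_top_iff]
    intro y _
    obtain ⟨x, hx⟩ := hj.2 (v y)
    rw [show y = u x * ((u x)⁻¹ * y) by group]
    refine mul_mem (Subgroup.mem_sup_left ⟨x, rfl⟩) (Subgroup.mem_sup_right ?_)
    rw [MonoidHom.mem_ker, map_mul, map_inv, hvu, hx, inv_mul_cancel]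
  have hker : v.ker = ⊥ := by
    refine (hB j _ _ hrn v.normal_ker hinf hsup).resolve_left fun h => ?_
    obtain ⟨x, y, hxy⟩ := exists_pair_ne A
    refine hxy (hj.1 ?_)
    have : ∀ z, u z = 1 := fun z => by
      have : u z ∈ u.range := ⟨z, rfl⟩
      rwa [h, Subgroup.mem_bot] at this
    rw [← hvu, ← hvu, this, this]
  have hvinj : Function.Injective v := (MonoidHom.ker_eq_bot_iff v).mp hker
  have hvb : Function.Bijective v := ⟨hvinj, fun a => by
    obtain ⟨x, hx⟩ := hj.2 a
    exact ⟨u x, by rw [hvu, hx]⟩⟩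
  refine ⟨j, ⟨(MulEquiv.ofBijective v hvb).symm⟩, fun g hg hk => ?_⟩
  have hsingle : e g = Pi.mulSingle j (e g j) := by
    funext k
    by_cases h1 : k = j
    · subst h1; simp
    · simp [h1, hk k h1]
  have hv1 : v (e g j) = 1 := by
    show p (e.symm (Pi.mulSingle j (e g j))) = 1
    rw [← hsingle, e.symm_apply_apply, hg]
  have : e g j = 1 := hvinj (hv1.trans (map_one v).symm)
  rw [this, Pi.mulSingle_one] at hsingle
  exact e.injective (hsingle.trans (map_one e).symm)

theorem main : ∀ (m n : ℕ) (A : Fin m → Type a) (B : Fin n → Type b) [∀ i, Group (A i)]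
    [∀ j, Group (B j)] [∀ i, Finite (A i)] [∀ j, Finite (B j)],
    (∀ i, Nontrivial (A i) ∧ Indec (A i)) → (∀ j, Nontrivial (B j) ∧ Indec (B j)) →
    (((i : Fin m) → A i) ≃* ((j : Fin n) → B j)) → ∃ σ : Fin m ≃ Fin n, ∀ i, Nonempty (A i ≃* B (σ i)) := by
  intro m
  induction m with
  | zero =>
    intro n A B _ _ _ _ _ hB e
    rcases Nat.eq_zero_or_pos n with rfl | hn
    · exact ⟨Equiv.refl _, fun i => i.elim0⟩
    · exfalso
      classical
      haveI := (hB ⟨0, hn⟩).1
      obtain ⟨x, y, hxy⟩ := exists_pair_ne (B ⟨0, hn⟩)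
      have h := e.symm.injective (Subsingleton.elim (e.symm (Pi.mulSingle ⟨0, hn⟩ x))
        (e.symm (Pi.mulSingle ⟨0, hn⟩ y)))
      exact hxy (Pi.mulSingle_injective _ h)
  | succ m ih =>
    intro n A B _ _ _ _ hA hB e
    classical
    haveI := (hA 0).1
    obtain ⟨j, ⟨φ⟩, hcancel⟩ := exists_factor (hA 0).2 (fun k => (hB k).2) e
      (MonoidHom.mulSingle A 0) (Pi.evalMonoidHom A 0) (fun a => by simp) (fun g a => by
        funext i
        rcases eq_or_ne i 0 with rfl | hi
        · simp
        · simp [hi])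
    obtain ⟨n, rfl⟩ : ∃ n', n = n' + 1 := ⟨n - 1, by have := j.2; omega⟩
    let w : ((i : Fin m) → A i.succ) →* ((k : Fin n) → B (j.succAbove k)) :=
      { toFun := fun r k => e (Fin.cons 1 r : (i : Fin (m + 1)) → A i) (j.succAbove k)
        map_one' := by
          funext k
          rw [show (Fin.cons 1 (1 : (i : Fin m) → A i.succ) : (i : Fin (m + 1)) → A i) = 1 by
            funext i; induction i using Fin.cases <;> simp, map_one]
          rfl
        map_mul' := fun r r' => by
          funext k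
          rw [show (Fin.cons 1 (r * r') : (i : Fin (m + 1)) → A i) = Fin.cons 1 r * Fin.cons 1 r' by
            funext i; induction i using Fin.cases <;> simp, map_mul]
          rfl }
    have hwinj : Function.Injective w := (injective_iff_map_eq_one w).mpr fun r hr => by
      have h1 := hcancel (Fin.cons 1 r) (by simp) fun k hk => by
        obtain ⟨k', rfl⟩ := Fin.exists_succAbove_eq hk
        exact congrFun hr k'
      funext i
      have h2 := congrFun h1 i.succ
      simpa using h2
    have hcard : Nat.card ((i : Fin m) → A i.succ) = Nat.card ((k : Fin n) → B (j.succAbove k)) := by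
      have h1 := Nat.card_congr e.toEquiv
      simp only [Nat.card_pi] at h1 ⊢
      rw [Fin.prod_univ_succ, Fin.prod_univ_succAbove _ j, Nat.card_congr φ.toEquiv] at h1
      exact Nat.eq_of_mul_eq_mul_left Nat.card_pos h1
    obtain ⟨σ, hσ⟩ := ih n (fun i => A i.succ) (fun k => B (j.succAbove k))
      (fun i => hA i.succ) (fun k => hB _)
      (MulEquiv.ofBijective w ((Nat.bijective_iff_injective_and_card w).mpr ⟨hwinj, hcard⟩))
    refine ⟨(finSuccEquiv m).trans ((Equiv.optionCongr σ).trans (finSuccEquiv' j).symm), fun i => ?_⟩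
    induction i using Fin.cases with
    | zero =>
      simp only [Equiv.trans_apply, finSuccEquiv_zero, Equiv.optionCongr_apply, Option.map_none,
        finSuccEquiv'_symm_none]
      exact ⟨φ⟩
    | succ i =>
      simp only [Equiv.trans_apply, finSuccEquiv_succ, Equiv.optionCongr_apply, Option.map_some,
        finSuccEquiv'_symm_some]
      exact hσ i

/-- If a finite group is isomorphic both to a direct product of `m` directly indecomposable nontrivial groups and to a direct product of `n` such groups (a group is directly indecomposable when it is not the internal direct product of two nontrivial normal subgroups), then `m = n` and the factors are isomorphic in pairs after a suitable matching. -/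
theorem result {m n : ℕ} {A : Fin m → Type*} {B : Fin n → Type*} [∀ i, Group (A i)] [∀ j, Group (B j)] [∀ i, Finite (A i)] [∀ j, Finite (B j)] (hA : ∀ i, Nontrivial (A i) ∧ ∀ H K : Subgroup (A i), H.Normal → K.Normal → H ⊓ K = ⊥ → H ⊔ K = ⊤ → H = ⊥ ∨ K = ⊥) (hB : ∀ j, Nontrivial (B j) ∧ ∀ H K : Subgroup (B j), H.Normal → K.Normal → H ⊓ K = ⊥ → H ⊔ K = ⊤ → H = ⊥ ∨ K = ⊥) (e : ((i : Fin m) → A i) ≃* ((j : Fin n) → B j)) : ∃ σ : Fin m ≃ Fin n, ∀ i, Nonempty (A i ≃* B (σ i)) := by
  exact main m n A B hA hB e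

end Cfsg.Agent.S4223
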