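import Cfsg.Statements.S4226
import Cfsg.Agent.Lib.FGS.HallWielandt

set_option autoImplicit false
open Cfsg
open scoped Pointwise
set_option linter.all false

namespace Cfsg.Agent.S4226

open Subgroup
open scoped commutatorElement

theorem iter_mem {G : Type*} [Group G] {S : Subgroup G} {u z : G} (hu : u ∈ S) (hz : z ∈ S) :
    ∀ k, (fun y : G => y⁻¹ * z⁻¹ * y * z)^[k] u ∈ S.lowerCentralSeries k
  | 0 => hu
  | k + 1 => by
    rw [Function.iterate_succ_apply', Subgroup.lowerCentralSeries_succ]
    show _⁻¹ * z⁻¹ * _ * z ∈ _
    have h := commutator_mem_commutator (inv_mem (iter_mem hu hz k)) (inv_mem hz)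
    simpa [commutatorElement_def] using h


/-- Let `P` be a Sylow `p`-subgroup of the finite group `G` with nilpotency class less than `p` (the term of index `p - 1` of the lower central series of `P`, indexed from `0`, is trivial), and let `N` be its normalizer. Then `O^p(N) = O^p(G) ∩ N`, where `O^p` denotes the subgroup generated by the elements of order prime to `p`; so the largest `p`-factor groups of `G` and of `N` are isomorphic. -/
theorem result {G : Type*} [Group G] [Finite G] {p : ℕ} [Fact p.Prime] (P : Sylow p G) (hcl : (P : Subgroup G).lowerCentralSeries (p - 1) = ⊥) : Cfsg.pResidualOf p (Subgroup.normalizer ((P : Subgroup G) : Set G)) = Cfsg.pResidual p G ⊓ Subgroup.normalizer ((P : Subgroup G) : Set G) := by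
  refine FGS.HallWielandt.main P (P : Subgroup G) ⟨le_rfl, fun g hg => ?_⟩ fun u hu z hz => ?_
  · exact Subgroup.eq_of_le_of_card_ge hg (by
      rw [Subgroup.card_map_of_injective (MulAut.conj g).injective])
  · have := iter_mem hu hz (p - 1)
    rwa [hcl, Subgroup.mem_bot] at this

end Cfsg.Agent.S4226
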