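import Cfsg.Statements.S4227
import Cfsg.Agent.Lib.Basics.Cores
import Cfsg.Agent.Lib.Basics.CoprimeGen
import Cfsg.Agent.Lib.Coprime23.PLength
import Cfsg.Agent.Lib.CT.Integral

set_option autoImplicit false
open Cfsg

namespace Cfsg.Agent.S4227

universe u

/-- The identity forbidding a four-group rotated by an element of order 3 on a group of exponent 3. -/
theorem key {G : Type*} [Group G] {t t1 t2 x a : G} (hx : x ^ 3 = 1) (h1 : x * t * x⁻¹ = t1)
    (h2 : x * t1 * x⁻¹ = t2) (ht : t * t = 1) (hti1 : t1 * t1 = 1)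
    (hf : t * a * t⁻¹ = a) (hi1 : t1 * a * t1⁻¹ = a⁻¹) (hi2 : t2 * a * t2⁻¹ = a⁻¹)
    (hax : (a * x) ^ 3 = 1) (ha : a ^ 3 = 1) : a = 1 := by
  set b := x * a * x⁻¹ with hb
  set c := x * b * x⁻¹ with hc
  have habc : a * b * c = 1 := by
    have e : a * b * c = (a * x) ^ 3 * (x ^ 3)⁻¹ := by
      rw [hc, hb, pow_three, pow_three]; group
    rw [e, hax, hx, inv_one, one_mul]
  have h3 : x * t2 * x⁻¹ = t := by
    rw [← h2, ← h1]
    calc x * (x * (x * t * x⁻¹) * x⁻¹) * x⁻¹ = x ^ 3 * t * (x ^ 3)⁻¹ := by rw [pow_three]; group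
      _ = t := by rw [hx, inv_one, one_mul, mul_one]
  have tb : t * b * t⁻¹ = b⁻¹ := by
    rw [hb, ← h3]
    calc x * t2 * x⁻¹ * (x * a * x⁻¹) * (x * t2 * x⁻¹)⁻¹ = x * (t2 * a * t2⁻¹) * x⁻¹ := by group
      _ = (x * a * x⁻¹)⁻¹ := by rw [hi2]; group
  have t1b : t1 * b * t1⁻¹ = b := by
    rw [hb, ← h1]
    calc x * t * x⁻¹ * (x * a * x⁻¹) * (x * t * x⁻¹)⁻¹ = x * (t * a * t⁻¹) * x⁻¹ := by group
      _ = x * a * x⁻¹ := by rw [hf]
  have tc : t * c * t⁻¹ = c⁻¹ := by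
    rw [hc, ← h3]
    have t2b : t2 * b * t2⁻¹ = b⁻¹ := by
      rw [hb, ← h2]
      calc x * t1 * x⁻¹ * (x * a * x⁻¹) * (x * t1 * x⁻¹)⁻¹ = x * (t1 * a * t1⁻¹) * x⁻¹ := by group
        _ = (x * a * x⁻¹)⁻¹ := by rw [hi1]; group
    calc x * t2 * x⁻¹ * (x * b * x⁻¹) * (x * t2 * x⁻¹)⁻¹ = x * (t2 * b * t2⁻¹) * x⁻¹ := by group
      _ = (x * b * x⁻¹)⁻¹ := by rw [t2b]; group
  have t1c : t1 * c * t1⁻¹ = c⁻¹ := by
    rw [hc, ← h1]
    calc x * t * x⁻¹ * (x * b * x⁻¹) * (x * t * x⁻¹)⁻¹ = x * (t * b * t⁻¹) * x⁻¹ := by group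
      _ = (x * b * x⁻¹)⁻¹ := by rw [tb]; group
  have e1 : a * b⁻¹ * c⁻¹ = 1 := by
    calc a * b⁻¹ * c⁻¹ = (t * a * t⁻¹) * (t * b * t⁻¹) * (t * c * t⁻¹) := by rw [hf, tb, tc]
      _ = t * (a * b * c) * t⁻¹ := by group
      _ = 1 := by rw [habc]; group
  have e2 : a⁻¹ * b * c⁻¹ = 1 := by
    calc a⁻¹ * b * c⁻¹ = (t1 * a * t1⁻¹) * (t1 * b * t1⁻¹) * (t1 * c * t1⁻¹) := by rw [hi1, t1b, t1c]
      _ = t1 * (a * b * c) * t1⁻¹ := by group
      _ = 1 := by rw [habc]; group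
  have f1 : a * b⁻¹ = c := mul_inv_eq_one.mp e1
  have f2 : a⁻¹ * b = c := mul_inv_eq_one.mp e2
  have f3 : (a * b)⁻¹ = c := (eq_inv_of_mul_eq_one_right habc).symm
  have hsq : a * a = b * b := by
    have := f1.trans f2.symm
    calc a * a = a * (a * b⁻¹) * b := by group
      _ = a * (a⁻¹ * b) * b := by rw [this]
      _ = b * b := by group
  have hbo : b ^ 3 = 1 := by
    rw [hb, conj_pow, ha]; group
  have hab : a = b := by
    calc a = a * a * (a * a) * (a ^ 3)⁻¹ := by rw [pow_three]; group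
      _ = b * b * (b * b) * (b ^ 3)⁻¹ := by rw [hsq, ha, hbo]
      _ = b := by rw [pow_three]; group
  rw [← hab, inv_mul_cancel] at f2
  rw [← hab, ← f2, inv_eq_one] at f3
  calc a = a ^ 3 * (a * a)⁻¹ := by rw [pow_three]; group
    _ = 1 := by rw [ha, f3, inv_one, one_mul]

theorem pgroup_of_exp {G : Type*} [Group G] [Finite G] (h : ∀ x : G, x ^ 6 = 1) {p : ℕ} [hp : Fact p.Prime]
    (hp3 : p = 2 ∨ p = 3) {S : Subgroup G} (hS : IsPGroup p S) : ∀ x ∈ S, x ^ p = 1 := by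
  intro x hx
  obtain ⟨k, hk⟩ := hS ⟨x, hx⟩
  have hk' : x ^ p ^ k = 1 := congrArg Subtype.val hk
  have h1 : orderOf x ∣ Nat.gcd (p ^ k) 6 :=
    Nat.dvd_gcd (orderOf_dvd_of_pow_eq_one hk') (orderOf_dvd_of_pow_eq_one (h x))
  have h2 : Nat.gcd (p ^ k) 6 ∣ p := by
    rcases hp3 with rfl | rfl
    · rw [show (6 : ℕ) = 2 * 3 from rfl, Nat.Coprime.gcd_mul_right_cancel_right _ (Nat.Coprime.pow_left k (by norm_num) : (2 ^ k).Coprime 3).symm]
      exact Nat.gcd_dvd_right _ _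
    · rw [show (6 : ℕ) = 3 * 2 from rfl, Nat.Coprime.gcd_mul_right_cancel_right _ (Nat.Coprime.pow_left k (by norm_num) : (3 ^ k).Coprime 2).symm]
      exact Nat.gcd_dvd_right _ _
  exact orderOf_dvd_iff_pow_eq_one.mp (h1.trans h2)

theorem isSolvable_of_exp {G : Type u} [Group G] [Finite G] (h : ∀ x : G, x ^ 6 = 1) : Group.IsSolvable G := by
  classical
  have hp : ∀ q ∈ (Nat.card G).primeFactors, q = 2 ∨ q = 3 := by
    intro q hq
    have hqp := Nat.prime_of_mem_primeFactors hq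
    haveI := Fact.mk hqp
    obtain ⟨x, hx⟩ := exists_prime_orderOf_dvd_card' (G := G) q (Nat.dvd_of_mem_primeFactors hq)
    have hd : q ∣ 2 * 3 := hx ▸ orderOf_dvd_of_pow_eq_one (h x)
    rcases hqp.dvd_mul.mp hd with hd | hd
    · exact Or.inl ((Nat.prime_dvd_prime_iff_eq hqp Nat.prime_two).mp hd)
    · exact Or.inr ((Nat.prime_dvd_prime_iff_eq hqp Nat.prime_three).mp hd)
  refine CT.isSolvable_of_card_two_primes Nat.prime_two Nat.prime_three _ G
    ((Nat.card G).factorization 2) ((Nat.card G).factorization 3) rfl ?_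
  conv_lhs => rw [← Nat.prod_factorization_pow_eq_self (Nat.card_pos (α := G)).ne']
  rw [Finsupp.prod_of_support_subset _ (s := {2, 3}) (fun q hq => by
    rcases hp q (by simpa using hq) with rfl | rfl <;> simp) _ (fun i _ => pow_zero i)]
  simp

theorem quot_exp {G : Type*} [Group G] (h : ∀ x : G, x ^ 6 = 1) (N : Subgroup G) [N.Normal] :
    ∀ x : G ⧸ N, x ^ 6 = 1 := fun x => by
  obtain ⟨g, rfl⟩ := QuotientGroup.mk'_surjective N x
  rw [← map_pow, h, map_one]

/-- With no normal `3'`-subgroup, the Sylow `3`-subgroup is normal. -/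
theorem index_core {G : Type u} [Group G] [Finite G] (h : ∀ x : G, x ^ 6 = 1)
    (hO : Cfsg.pPrimeCore 3 G = ⊥) : ¬ 3 ∣ (Cfsg.pCore 3 G).index := by
  classical
  haveI h3 : Fact (Nat.Prime 3) := ⟨Nat.prime_three⟩
  haveI h2 : Fact (Nat.Prime 2) := ⟨Nat.prime_two⟩
  haveI := isSolvable_of_exp h
  intro hd
  set V := Cfsg.pCore 3 G with hV
  set π := QuotientGroup.mk' V with hπ
  have hq := quot_exp h V
  have hO2 : Cfsg.pPrimeCore 2 (G ⧸ V) = ⊥ := by
    by_contra hne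
    have hle : Cfsg.pPrimeCore 2 (G ⧸ V) ≤ Cfsg.pCore 3 (G ⧸ V) := by
      refine Basics.le_pCore (fun y => ⟨1, ?_⟩)
      have h1 : orderOf (y : G ⧸ V) ∣ 2 * 3 := orderOf_dvd_of_pow_eq_one (hq y)
      have h2' : (orderOf (y : G ⧸ V)).Coprime 2 :=
        (Basics.pPrimeCore_coprime (G := G ⧸ V) 2).coprime_dvd_left (Subgroup.orderOf_coe y ▸ orderOf_dvd_natCard y)
      have := h2'.dvd_of_dvd_mul_left h1
      exact orderOf_dvd_iff_pow_eq_one.mp (Subgroup.orderOf_coe y ▸ this)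
    rw [Basics.pCore_quotient_eq_bot, le_bot_iff] at hle
    exact hne hle
  set W := Cfsg.pCore 2 (G ⧸ V) with hW
  have hCW := Basics.centralizer_pCore_le hO2
  obtain ⟨xb, hxb⟩ := exists_prime_orderOf_dvd_card' (G := G ⧸ V) 3 (by rwa [← Subgroup.index_eq_card])
  obtain ⟨wb, hwb, hne⟩ : ∃ wb ∈ W, wb * xb ≠ xb * wb := by
    by_contra hcon
    push Not at hcon
    have hxW : xb ∈ W := hCW (Subgroup.mem_centralizer_iff.mpr hcon)
    obtain ⟨k, hk⟩ := Basics.pCore_isPGroup (G := G ⧸ V) 2 ⟨xb, hxW⟩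
    have : orderOf xb ∣ 2 ^ k := orderOf_dvd_of_pow_eq_one (congrArg Subtype.val hk)
    rw [hxb] at this
    exact absurd (Nat.prime_three.dvd_of_dvd_pow this) (by norm_num)
  set M := W.comap π with hM
  obtain ⟨S⟩ : Nonempty (Sylow 2 M) := inferInstance
  set S' := (S : Subgroup M).map M.subtype with hS'
  have hS'p : IsPGroup 2 S' := S.2.map _
  have hmap : S'.map π = W := by
    refine Subgroup.eq_of_le_of_card_ge ?_ ?_
    · rintro _ ⟨_, ⟨y, -, rfl⟩, rfl⟩; exact y.2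
    · have hd : S'.map π ≤ W ∧ True := ⟨by rintro _ ⟨_, ⟨y, -, rfl⟩, rfl⟩; exact y.2, trivial⟩
      have hcM : Nat.card M = Nat.card V * Nat.card W := Basics.card_comap_mk' _
      have hinj : Set.InjOn π (S' : Set G) := by
        intro a ha b hb e
        rw [hπ, QuotientGroup.mk'_eq_mk'] at e
        obtain ⟨z, hz, rfl⟩ := e
        have hz2 : z ∈ S' := by simpa using mul_mem (inv_mem ha) hb
        obtain ⟨i, hi⟩ := hS'p ⟨z, hz2⟩
        obtain ⟨j, hj⟩ := Basics.pCore_isPGroup (G := G) 3 ⟨z, hz⟩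
        have : orderOf z = 1 := Nat.eq_one_of_dvd_coprimes ((Nat.Coprime.pow i j (by norm_num)) : (2 ^ i).Coprime (3 ^ j))
          (orderOf_dvd_of_pow_eq_one (congrArg Subtype.val hi)) (orderOf_dvd_of_pow_eq_one (congrArg Subtype.val hj))
        rw [orderOf_eq_one_iff] at this
        rw [this, mul_one]
      have e1 : Nat.card (S'.map π) = Nat.card S' := Nat.card_image_of_injOn hinj
      rw [e1, hS', Subgroup.card_map_of_injective M.subtype_injective, S.card_eq_multiplicity, hcM]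
      obtain ⟨i, hi⟩ := (Basics.pCore_isPGroup (G := G ⧸ V) 2).exists_card_eq
      refine Nat.le_of_dvd (pow_pos two_pos _) ?_
      rw [hW] at hcM ⊢
      rw [hi, Nat.prime_two.pow_dvd_iff_le_factorization (pow_ne_zero _ two_ne_zero)]
      rw [Nat.factorization_mul Nat.card_pos.ne' (pow_ne_zero _ two_ne_zero)]
      simp [Nat.prime_two.factorization_pow]
  have hfr : Subgroup.normalizer (S' : Set G) ⊔ M = ⊤ := by
    rw [hS']; exact Sylow.normalizer_sup_eq_top S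
  have hMV : M = V ⊔ S' := by
    rw [hM, ← hmap, Subgroup.comap_map_eq, hπ, QuotientGroup.ker_mk', sup_comm]
  obtain ⟨n, hn, hnx⟩ : ∃ n ∈ Subgroup.normalizer (S' : Set G), π n = xb := by
    have hmem : xb ∈ (Subgroup.normalizer (S' : Set G)).map π := by
      have : (⊤ : Subgroup G).map π = (Subgroup.normalizer (S' : Set G)).map π := by
        rw [← hfr, Subgroup.map_sup, hMV, Subgroup.map_sup, show V.map π = ⊥ by
          rw [Subgroup.map_eq_bot_iff, hπ, QuotientGroup.ker_mk'], bot_sup_eq, sup_eq_left]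
        exact Subgroup.map_mono Subgroup.le_normalizer
      rw [← this, Subgroup.map_top_of_surjective _ (QuotientGroup.mk'_surjective V)]
      exact Subgroup.mem_top xb
    exact hmem
  set x := n ^ 4 with hx
  have hxN : x ∈ Subgroup.normalizer (S' : Set G) := pow_mem hn 4
  have hx3 : x ^ 3 = 1 := by rw [hx, ← pow_mul, show 4 * 3 = 6 * 2 from rfl, pow_mul, h, one_pow]
  have hxπ : π x = xb := by
    rw [hx, map_pow, hnx, show 4 = 3 + 1 from rfl, pow_succ, orderOf_dvd_iff_pow_eq_one.mp hxb.dvd, one_mul]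
  obtain ⟨s, hs, hsw⟩ : ∃ s ∈ S', π s = wb := by rw [← hmap] at hwb; exact hwb
  have hconj : ∀ y ∈ S', x * y * x⁻¹ ∈ S' := fun y hy => (Subgroup.mem_normalizer_iff.mp hxN y).mp hy
  have hsq : ∀ y ∈ S', y * y = 1 := fun y hy => by
    rw [← pow_two]; exact pgroup_of_exp h (Or.inl rfl) hS'p y hy
  have hinvS : ∀ y ∈ S', y⁻¹ = y := fun y hy => inv_eq_of_mul_eq_one_left (hsq y hy)
  have hcommS : ∀ y ∈ S', ∀ z ∈ S', y * z = z * y := fun y hy z hz => by
    conv_lhs => rw [← hinvS _ (mul_mem hy hz), mul_inv_rev, hinvS y hy, hinvS z hz]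
  set u := s * (x * s * x⁻¹) with hu
  set u1 := x * u * x⁻¹ with hu1
  set u2 := x * u1 * x⁻¹ with hu2
  have huS : u ∈ S' := mul_mem hs (hconj s hs)
  have hu1S : u1 ∈ S' := hconj u huS
  have hu2S : u2 ∈ S' := hconj u1 hu1S
  have hprod : u2 = u * u1 := by
    set s1 := x * s * x⁻¹ with hs1
    have hs2 : x * s1 * x⁻¹ ∈ S' := hconj s1 (hconj s hs)
    have e3 : x * (x * s1 * x⁻¹) * x⁻¹ = s := by
      calc x * (x * s1 * x⁻¹) * x⁻¹ = x ^ 3 * s * (x ^ 3)⁻¹ := by rw [hs1, pow_three]; group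
        _ = s := by rw [hx3, inv_one, one_mul, mul_one]
    have e1 : u1 = s1 * (x * s1 * x⁻¹) := by rw [hu1, hu, hs1]; group
    have e2 : u2 = x * s1 * x⁻¹ * s := by
      rw [hu2, e1]
      calc x * (s1 * (x * s1 * x⁻¹)) * x⁻¹ = x * s1 * x⁻¹ * (x * (x * s1 * x⁻¹) * x⁻¹) := by group
        _ = _ := by rw [e3]
    rw [e2, e1, hu]
    generalize hs2' : x * s1 * x⁻¹ = s2 at hs2
    rw [mul_assoc s, ← mul_assoc s1, hsq s1 (hconj s hs), one_mul]
    exact hcommS _ hs2 _ hs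
  have hu1' : u ≠ 1 := by
    intro e
    apply hne
    have e' : x * s * x⁻¹ = s := by
      exact (eq_inv_of_mul_eq_one_right (hu.symm.trans e)).trans (hinvS s hs)
    have := congrArg π e'
    rw [map_mul, map_mul, map_inv, hxπ, hsw, mul_inv_eq_iff_eq_mul] at this
    exact this.symm
  have hVp := Basics.pCore_isPGroup (G := G) 3
  have huV : u ∉ Subgroup.centralizer (V : Set G) := fun hc => by
    obtain ⟨k, hk⟩ := hVp ⟨u, Basics.centralizer_pCore_le hO hc⟩
    have h1 : orderOf u ∣ 3 ^ k := orderOf_dvd_of_pow_eq_one (congrArg Subtype.val hk)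
    have h2' : orderOf u ∣ 2 := orderOf_dvd_of_pow_eq_one (by rw [pow_two]; exact hsq u huS)
    exact hu1' (orderOf_eq_one_iff.mp (Nat.eq_one_of_dvd_coprimes ((by norm_num : Nat.Coprime 3 2).pow_left k) h1 h2'))
  haveI : IsMulCommutative S' := ⟨⟨fun a b => Subtype.ext (hcommS a a.2 b b.2)⟩⟩
  have hcopV : (Nat.card S').Coprime (Nat.card V) := by
    obtain ⟨i, hi⟩ := hS'p.exists_card_eq
    obtain ⟨j, hj⟩ := hVp.exists_card_eq
    rw [hi, hj]; exact Nat.Coprime.pow i j (by norm_num)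
  have h2V : Nat.Coprime 2 (Nat.card V) := by
    obtain ⟨j, hj⟩ := hVp.exists_card_eq
    rw [hj]; exact Nat.Coprime.pow_right j (by norm_num)
  have hgen := Basics.le_genCent S' 2 u u1 huS hu1S V
    Subgroup.le_normalizer_of_normal hcopV h2V
    (by rw [pow_two, hsq u huS]; exact one_mem _) (by rw [pow_two, hsq u1 hu1S]; exact one_mem _)
  have hnotle : ¬ V ≤ Subgroup.centralizer ({u} : Set G) := fun hle => huV (Subgroup.mem_centralizer_iff.mpr
    fun v hv => Subgroup.mem_centralizer_singleton_iff.mp (hle hv))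
  obtain ⟨t, ht, c, hc, hcu⟩ : ∃ t, (t = u1 ∨ t = u2) ∧ ∃ c ∈ V ⊓ Subgroup.centralizer ({t} : Set G),
      c ∉ Subgroup.centralizer ({u} : Set G) := by
    by_contra hcon
    push Not at hcon
    apply hnotle
    refine hgen.trans ?_
    unfold Basics.genCent
    refine sup_le (iSup_le fun j => ?_) (hcon u1 (Or.inl rfl))
    have he : u * u1 ^ (j : ℕ) = u ∨ u * u1 ^ (j : ℕ) = u2 := by
      rcases Nat.even_or_odd (j : ℕ) with ⟨k, hk⟩ | ⟨k, hk⟩
      · left; rw [hk, ← two_mul, pow_mul, pow_two, hsq u1 hu1S, one_pow, mul_one]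
      · right; rw [hk, pow_succ, pow_mul, pow_two, hsq u1 hu1S, one_pow, one_mul, hprod]
    rcases he with he | he <;> rw [he]
    · exact inf_le_right
    · exact hcon u2 (Or.inr rfl)
  set a := c⁻¹ * (u * c * u⁻¹) with ha
  have hcV : c ∈ V := hc.1
  have haV : a ∈ V := mul_mem (inv_mem hcV) (Subgroup.Normal.conj_mem inferInstance c hcV u)
  have hane : a ≠ 1 := by
    intro e
    apply hcu
    rw [Subgroup.mem_centralizer_singleton_iff]
    have := inv_mul_eq_one.mp (ha ▸ e)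
    exact mul_inv_eq_iff_eq_mul.mp this.symm |>.symm
  have hui : u * a * u⁻¹ = a⁻¹ := by
    rw [ha]
    calc u * (c⁻¹ * (u * c * u⁻¹)) * u⁻¹ = u * c⁻¹ * (u * (c * (u * u)⁻¹)) := by group
      _ = u * c⁻¹ * (u⁻¹ * c) := by rw [hsq u huS, inv_one, mul_one, hinvS u huS]
      _ = (c⁻¹ * (u * c * u⁻¹))⁻¹ := by group
  have htS : t ∈ S' := by rcases ht with rfl | rfl <;> assumption
  have htf : t * a * t⁻¹ = a := by
    have htc : t * c = c * t := (Subgroup.mem_centralizer_singleton_iff.mp hc.2).symm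
    have htu : t * u = u * t := hcommS t htS u huS
    have e : Commute t a := by
      have c1 : Commute t c := htc
      have c2 : Commute t u := htu
      exact c1.inv_right.mul_right ((c2.mul_right c1).mul_right c2.inv_right)
    rw [e.eq, mul_inv_cancel_right]
  have hax : (a * x) ^ 3 = 1 := by
    have e1 : π (a * x) = xb := by
      rw [map_mul, show π a = 1 from (QuotientGroup.eq_one_iff a).mpr haV, one_mul, hxπ]
    have hv : (a * x) ^ 3 ∈ V := by
      rw [← QuotientGroup.eq_one_iff, ← QuotientGroup.mk'_apply, map_pow, ← hπ, e1]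
      exact orderOf_dvd_iff_pow_eq_one.mp hxb.dvd
    have h1 := pgroup_of_exp h (Or.inr rfl) hVp _ hv
    have h2' := h (a * x)
    rw [← pow_mul] at h1
    have h9 : orderOf (a * x) ∣ Nat.gcd (3 * 3) 6 :=
      Nat.dvd_gcd (orderOf_dvd_of_pow_eq_one h1) (orderOf_dvd_of_pow_eq_one h2')
    exact orderOf_dvd_iff_pow_eq_one.mp (h9.trans (by norm_num))
  have ha3 := pgroup_of_exp h (Or.inr rfl) hVp a haV
  have hu2x : x * u2 * x⁻¹ = u := by
    rw [hu2, hu1]
    calc x * (x * (x * u * x⁻¹) * x⁻¹) * x⁻¹ = x ^ 3 * u * (x ^ 3)⁻¹ := by rw [pow_three]; group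
      _ = u := by rw [hx3, inv_one, one_mul, mul_one]
  rcases ht with rfl | rfl
  · refine hane (key (t := u1) (t1 := u2) (t2 := u) hx3 hu2.symm hu2x (hsq _ hu1S) (hsq _ hu2S) htf ?_ hui hax ha3)
    rw [hprod]
    calc u * u1 * a * (u * u1)⁻¹ = u * (u1 * a * u1⁻¹) * u⁻¹ := by group
      _ = a⁻¹ := by rw [htf, hui]
  · refine hane (key (t := u2) (t1 := u) (t2 := u1) hx3 hu2x hu1.symm (hsq _ hu2S) (hsq _ huS) htf hui ?_ hax ha3)
    have e : u1 = u * u2 := by rw [hprod, ← mul_assoc, hsq u huS, one_mul]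
    rw [e]
    calc u * u2 * a * (u * u2)⁻¹ = u * (u2 * a * u2⁻¹) * u⁻¹ := by group
      _ = a⁻¹ := by rw [htf, hui]

theorem series {G : Type u} [Group G] [Finite G] {p : ℕ} [hp : Fact p.Prime]
    (hV : ¬ p ∣ (Cfsg.pCore p (G ⧸ Cfsg.pPrimeCore p G)).index) : Cfsg.PLengthLE p 1 G := by
  set A := Cfsg.pPrimeCore p G
  refine Coprime23.pLengthLE_one_of_series A ((Cfsg.pCore p (G ⧸ A)).comap (QuotientGroup.mk' A))
    (Basics.pPrimeCore_coprime p) ?_ ?_
  · obtain ⟨k, hk⟩ := (Basics.pCore_isPGroup (G := G ⧸ A) p).exists_card_eq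
    refine ⟨k, ?_⟩
    have e := Subgroup.relIndex_ker (f := QuotientGroup.mk' A) (K := (Cfsg.pCore p (G ⧸ A)).comap (QuotientGroup.mk' A))
    rw [Subgroup.map_comap_eq_self_of_surjective (QuotientGroup.mk'_surjective A), hk, QuotientGroup.ker_mk'] at e
    exact e
  · rw [Subgroup.index_comap_of_surjective _ (QuotientGroup.mk'_surjective A)]
    exact (hp.out.coprime_iff_not_dvd.mpr hV).symm

/-- A finite group in which every element has order dividing `6` has `2`-length at most `1` and `3`-length at most `1`. -/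
theorem result {G : Type*} [Group G] [Finite G] (h : ∀ x : G, x ^ 6 = 1) : Cfsg.PLengthLE 2 1 G ∧ Cfsg.PLengthLE 3 1 G := by
  classical
  haveI h3 : Fact (Nat.Prime 3) := ⟨Nat.prime_three⟩
  haveI h2 : Fact (Nat.Prime 2) := ⟨Nat.prime_two⟩
  haveI := isSolvable_of_exp h
  refine ⟨series ?_, series (index_core (quot_exp h _) (Basics.pPrimeCore_quotient_eq_bot 3))⟩
  set Q := G ⧸ Cfsg.pPrimeCore 2 G
  have hC := Basics.centralizer_pCore_le (G := Q) (p := 2) (Basics.pPrimeCore_quotient_eq_bot 2)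
  obtain ⟨S⟩ : Nonempty (Sylow 2 Q) := inferInstance
  have hle : (S : Subgroup Q) ≤ Cfsg.pCore 2 Q := by
    refine le_trans (fun s hs => ?_) hC
    rw [Subgroup.mem_centralizer_iff]
    intro v hv
    have hv' : v ∈ (S : Subgroup Q) := Basics.pCore_le_sylow 2 S hv
    have hsq : ∀ y ∈ (S : Subgroup Q), y⁻¹ = y := fun y hy => inv_eq_of_mul_eq_one_left (by
      rw [← pow_two]; exact pgroup_of_exp (quot_exp h _) (Or.inl rfl) S.2 y hy)
    conv_lhs => rw [← hsq _ (mul_mem hv' hs), mul_inv_rev, hsq v hv', hsq s hs]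
  intro hd
  exact S.not_dvd_index (hd.trans (Subgroup.index_dvd_of_le hle))

end Cfsg.Agent.S4227
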