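import Cfsg.Statements.S4230
-- import your own Cfsg.Agent.* helpers here

set_option autoImplicit false
open Cfsg
open scoped Pointwise
set_option linter.all false

namespace Cfsg.Agent.S4230

/-- Let p be an odd prime, q a natural number not divisible by p, and e the multiplicative order of q modulo p. For a natural number f, p divides the value at q of the f-th cyclotomic polynomial if and only if f = e·p^j for some j ≥ 0. -/
theorem result (p q f : ℕ) (hp : p.Prime) (hp2 : p ≠ 2) (hpq : ¬ p ∣ q) :
    ((p : ℤ) ∣ (Polynomial.cyclotomic f ℤ).eval (q : ℤ)) ↔ ∃ j : ℕ, f = orderOf (q : ZMod p) * p ^ j := by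
  haveI := Fact.mk hp
  have hq : (q : ZMod p) ≠ 0 := fun h => hpq ((ZMod.natCast_eq_zero_iff q p).1 h)
  set e := orderOf (q : ZMod p) with he
  have hfer : (q : ZMod p) ^ (p - 1) = 1 := ZMod.pow_card_sub_one_eq_one hq
  have hed : e ∣ p - 1 := orderOf_dvd_of_pow_eq_one hfer
  have hep : ¬ p ∣ e := fun h => by
    have h1 := Nat.le_of_dvd (by have := hp.two_le; omega) (h.trans hed)
    have := hp.two_le
    omega
  have he0 : e ≠ 0 := fun h => hep (h ▸ dvd_zero p)
  have key : ∀ j m : ℕ, ¬ p ∣ m →
      (((p : ℤ) ∣ (Polynomial.cyclotomic (p ^ j * m) ℤ).eval (q : ℤ)) ↔ e = m) := by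
    intro j m hm
    haveI : NeZero (m : ZMod p) := ⟨fun h => hm ((ZMod.natCast_eq_zero_iff m p).1 h)⟩
    rw [← ZMod.intCast_zmod_eq_zero_iff_dvd, he, ← IsPrimitiveRoot.iff_orderOf,
      ← Polynomial.isRoot_cyclotomic_prime_pow_mul_iff_of_charP (k := j) (p := p),
      Polynomial.IsRoot.def, ← Polynomial.map_cyclotomic_int (p ^ j * m) (ZMod p),
      ← Int.cast_natCast (R := ZMod p) q, Polynomial.eval_intCast_map]
    rfl
  rcases Nat.eq_zero_or_pos f with rfl | hf
  · simp only [Polynomial.cyclotomic_zero, Polynomial.eval_one]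
    constructor
    · intro h
      exact absurd h (by exact_mod_cast hp.not_dvd_one)
    · rintro ⟨j, hj⟩
      exact absurd hj.symm (Nat.mul_ne_zero he0 (pow_ne_zero j hp.ne_zero))
  obtain ⟨j, m, hm, rfl⟩ := Nat.exists_eq_pow_mul_and_not_dvd hf.ne' p hp.ne_one
  rw [key j m hm]
  constructor
  · rintro rfl; exact ⟨j, Nat.mul_comm _ _⟩
  · rintro ⟨i, hi⟩
    have h1 : (p ^ j * m).factorization p = j := by
      rw [Nat.factorization_mul (pow_ne_zero _ hp.ne_zero) (fun h => hm (by rw [h]; exact dvd_zero p)),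
        Finsupp.add_apply, hp.factorization_pow, Finsupp.single_eq_same,
        Nat.factorization_eq_zero_of_not_dvd hm, add_zero]
    have h2 : (e * p ^ i).factorization p = i := by
      rw [Nat.factorization_mul he0 (pow_ne_zero _ hp.ne_zero),
        Finsupp.add_apply, hp.factorization_pow, Finsupp.single_eq_same,
        Nat.factorization_eq_zero_of_not_dvd hep, zero_add]
    rw [hi, h2] at h1
    subst h1
    rw [mul_comm e] at hi
    exact (Nat.eq_of_mul_eq_mul_left (pow_pos hp.pos i) hi).symm

end Cfsg.Agent.S4230
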