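import Cfsg.Statements.S4231
import Cfsg.Agent.Lib.FGS.AutAlt
import Cfsg.Agent.S2119

set_option autoImplicit false
open Cfsg
open scoped Pointwise
set_option linter.all false

namespace Cfsg.Agent.S4231

open Equiv Equiv.Perm Cfsg.Agent.FGS
open scoped commutatorElement

private theorem perm_abelian {n r : ℕ} [hr : Fact r.Prime] (hn : n < r * r) (P : Subgroup (Perm (Fin n)))
    (hP : IsPGroup r P) : IsMulCommutative P := by
  refine ⟨⟨fun a b => commutatorElement_eq_one_iff_mul_comm.1 (Subtype.ext (Perm.ext fun x => ?_))⟩⟩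
  set S := MulAction.stabilizer P x with hS
  obtain ⟨i, hi⟩ := hP.index S
  have hidx : S.index ≤ n := by
    rw [hS, MulAction.index_stabilizer]
    exact (Set.ncard_le_ncard (Set.subset_univ _)).trans (by simp [Set.ncard_univ])
  have hi1 : i ≤ 1 := by
    by_contra h
    have : r ^ 2 ≤ r ^ i := Nat.pow_le_pow_right hr.out.pos (by omega)
    rw [hi] at hidx
    rw [pow_two] at this
    omega
  have hmem : ⁅a, b⁆ ∈ S := by
    rcases Nat.le_one_iff_eq_zero_or_eq_one.1 hi1 with rfl | rfl
    · have hS1 : S = ⊤ := Subgroup.index_eq_one.1 (by rw [hi, pow_zero])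
      rw [hS1]; exact Subgroup.mem_top _
    · rw [pow_one] at hi
      haveI : Group.IsNilpotent P := hP.isNilpotent
      haveI : S.Normal := by
        refine ((Group.isNilpotent_of_finite_tfae (G := P)).out 0 2 :).mp inferInstance S ?_
        refine ⟨fun h => ?_, fun T hT => ?_⟩
        · rw [h, Subgroup.index_top] at hi; exact hr.out.ne_one hi.symm
        · have hd := Subgroup.index_dvd_of_le hT.le
          rw [hi] at hd
          rcases (Nat.dvd_prime hr.out).1 hd with h | h
          · exact Subgroup.index_eq_one.1 h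
          · exfalso
            have h2 := Subgroup.relIndex_mul_index hT.le
            rw [hi, h] at h2
            have h3 : S.relIndex T = 1 := (Nat.mul_eq_right hr.out.ne_zero).1 h2
            exact hT.not_ge (Subgroup.relIndex_eq_one.1 h3)
      haveI : IsCyclic (P ⧸ S) := isCyclic_of_prime_card (p := r) (by rw [← Subgroup.index_eq_card]; exact hi)
      letI : CommGroup (P ⧸ S) := IsCyclic.commGroup
      refine (QuotientGroup.eq_one_iff _).1 ?_
      show QuotientGroup.mk' S ⁅a, b⁆ = 1
      rw [map_commutatorElement, commutatorElement_eq_one_iff_mul_comm]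
      exact mul_comm _ _
  exact MulAction.mem_stabilizer_iff.1 hmem

private theorem six_counts : (Finset.univ.filter fun g : Perm (Fin 6) => g.cycleType = {3}).card = 40 ∧
    (Finset.univ.filter fun g : Perm (Fin 6) => g.cycleType = {3, 3}).card = 40 := by
  refine ⟨?_, ?_⟩
  · rw [Equiv.Perm.card_of_cycleType]; decide
  · rw [Equiv.Perm.card_of_cycleType]; decide

private theorem six_square (σ : MulAut (alternatingGroup (Fin 6))) :
    ∃ g : Perm (Fin 6), MulAut.conjNormal g = σ * σ := by
  classical
  refine AutAlt.of_preserves (by norm_num) _ fun t ht => ?_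
  have htype : ∀ a : alternatingGroup (Fin 6), orderOf a = 3 →
      (a : Perm (Fin 6)).cycleType = {3} ∨ (a : Perm (Fin 6)).cycleType = {3, 3} := by
    intro a ha
    rw [← Subgroup.orderOf_coe] at ha
    obtain ⟨j, hj⟩ := cycleType_prime_order (σ := (a : Perm (Fin 6))) (by rw [ha]; exact Nat.prime_three)
    rw [ha] at hj
    have hsum := (a : Perm (Fin 6)).support.card_le_univ
    rw [← sum_cycleType, hj, Multiset.sum_replicate, Fintype.card_fin, smul_eq_mul] at hsum
    obtain rfl | rfl : j = 0 ∨ j = 1 := by omega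
    · exact Or.inl (by rw [hj]; rfl)
    · exact Or.inr (by rw [hj]; rfl)
  have hord : ∀ (τ : MulAut (alternatingGroup (Fin 6))) (a : alternatingGroup (Fin 6)),
      (a : Perm (Fin 6)).cycleType = {3} ∨ (a : Perm (Fin 6)).cycleType = {3, 3} → orderOf (τ a) = 3 := by
    intro τ a ha
    rw [MulEquiv.orderOf_eq, ← Subgroup.orderOf_coe, ← lcm_cycleType]
    rcases ha with h | h <;> rw [h] <;> rfl
  rw [MulAut.mul_apply]
  have hs : ∀ a : alternatingGroup (Fin 6), (a : Perm (Fin 6)).IsThreeCycle → ∀ b : alternatingGroup (Fin 6), (b : Perm (Fin 6)).IsThreeCycle →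
      ((σ a : Perm (Fin 6)).cycleType = (σ b : Perm (Fin 6)).cycleType) := by
    intro a ha b hb
    obtain ⟨c, hc⟩ := isConj_iff.1 (alternatingGroup.isThreeCycle_isConj (by rw [Nat.card_fin]; norm_num) ha hb)
    rw [← hc, map_mul, map_mul, map_inv, Subgroup.coe_mul, Subgroup.coe_mul, Subgroup.coe_inv, cycleType_conj]
  rcases htype _ (hord σ t (Or.inl ht)) with h1 | h1
  · rcases htype _ (hord σ (σ t) (Or.inl h1)) with h2 | h2
    · exact h2
    · rw [hs _ h1 t ht, h1] at h2; exact absurd h2 (by decide)
  · rcases htype _ (hord σ (σ t) (Or.inr h1)) with h2 | h2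
    · exact h2
    · exfalso
      -- count: the 3-cycles map onto the double 3-cycles
      let T := {g : Perm (Fin 6) // g.cycleType = {3}}
      let D := {g : Perm (Fin 6) // g.cycleType = {3, 3}}
      have hTA : ∀ g : T, (g : Perm (Fin 6)) ∈ alternatingGroup (Fin 6) := fun g =>
        IsThreeCycle.mem_alternatingGroup g.2
      let f : T → D := fun g => ⟨(σ (Subtype.mk g.1 (hTA g) : alternatingGroup (Fin 6)) : Perm (Fin 6)), by
        rw [hs (Subtype.mk g.1 (hTA g)) g.2 t ht]; exact h1⟩
      have hf : Function.Injective f := fun x y e => by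
        have := σ.injective (Subtype.ext (congrArg (fun d : D => (d : Perm (Fin 6))) e))
        exact Subtype.ext (congrArg (fun z : alternatingGroup (Fin 6) => (z : Perm (Fin 6))) this)
      have hcard : Fintype.card T = Fintype.card D := by
        rw [Fintype.card_subtype, Fintype.card_subtype, six_counts.1, six_counts.2]
      obtain ⟨⟨g, hg⟩, he⟩ := ((Fintype.bijective_iff_injective_and_card f).2 ⟨hf, hcard⟩).2 ⟨_, h2⟩
      have e := σ.injective (Subtype.ext (congrArg (fun d : D => (d : Perm (Fin 6))) he))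
      have e' := congrArg (fun z : alternatingGroup (Fin 6) => (z : Perm (Fin 6)).cycleType) e
      simp only [hg, h1] at e'
      exact absurd e' (by decide)


/-- Let n ≥ 5 and let G be a group of automorphisms of the alternating group of degree n containing all inner automorphisms. If p ≠ q are primes and G has no element of order pq, then every Sylow p-subgroup of G is abelian or every Sylow q-subgroup of G is abelian. -/
theorem result (n : ℕ) (hn : 5 ≤ n) (G : Subgroup (MulAut (alternatingGroup (Fin n))))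
    (hG : (MulAut.conj : alternatingGroup (Fin n) →* MulAut (alternatingGroup (Fin n))).range ≤ G)
    (p q : ℕ) [Fact p.Prime] [Fact q.Prime] (hpq : p ≠ q) (h : ∀ g : G, orderOf g ≠ p * q) :
    (∀ P : Sylow p G, IsMulCommutative (P : Subgroup G)) ∨ (∀ Q : Sylow q G, IsMulCommutative (Q : Subgroup G)) := by
  classical
  have key : ∀ r : ℕ, r.Prime → r ≠ 2 → n < r * r → ∀ P : Subgroup G, IsPGroup r P → IsMulCommutative P := by
    intro r hr hr2 hlt P hP
    haveI := Fact.mk hr
    set Φ := (MulAut.conjNormal : Perm (Fin n) →* MulAut (alternatingGroup (Fin n))) with hΦ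
    have hΦi : Function.Injective Φ := by
      refine (injective_iff_map_eq_one _).2 fun g hg => ?_
      by_cases h6 : n = 6
      · subst h6
        have hc : g ∈ Subgroup.centralizer (alternatingGroup (Fin 6) : Set (Perm (Fin 6))) := by
          refine Subgroup.mem_centralizer_iff.2 fun a ha => ?_
          have := congrArg (fun e : MulAut (alternatingGroup (Fin 6)) => ((e ⟨a, ha⟩ : alternatingGroup (Fin 6)) : Perm (Fin 6))) hg
          simp only [hΦ, MulAut.conjNormal_apply, MulAut.one_apply] at this
          calc a * g = g * a * g⁻¹ * g := by rw [this]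
            _ = g * a := by group
        have h1 := Subgroup.mem_centralizer_iff.1 hc
        refine Perm.ext fun x => ?_
        by_contra hx
        rw [Perm.one_apply] at hx
        have avoid : ∀ s : Finset (Fin 6), s.card ≤ 3 → ∃ d, d ∉ s := fun s hs => by
          by_contra h
          push Not at h
          have := Finset.card_le_card (show (Finset.univ : Finset (Fin 6)) ⊆ s from fun d _ => h d)
          simp at this; omega
        obtain ⟨b, hb⟩ := avoid {x, g x} (Finset.card_le_two.trans (by omega))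
        obtain ⟨c, hc'⟩ := avoid {x, g x, b} Finset.card_le_three
        simp only [Finset.mem_insert, Finset.mem_singleton, not_or] at hb hc'
        have := congrArg (fun e : Perm (Fin 6) => e x)
          (h1 _ (AutAlt.c3_three (Ne.symm hb.1) (Ne.symm hc'.1) (Ne.symm hc'.2.2)).mem_alternatingGroup)
        simp only [Perm.mul_apply] at this
        rw [AutAlt.c3_a (Ne.symm hb.1) (Ne.symm hc'.1), AutAlt.c3_other hx (Ne.symm hb.2) (Ne.symm hc'.2.1)] at this
        exact hb.1 (g.injective this.symm)
      · exact (injective_iff_map_eq_one _).1 (S2119.result n (by omega) h6).1 g hg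
    set P' := (P.map G.subtype).comap Φ with hP'
    have hPm : IsPGroup r (P.map G.subtype) := hP.map _
    have hrange : P.map G.subtype ≤ Φ.range := by
      intro σ hσ
      by_cases h6 : n = 6
      · subst h6
        obtain ⟨k, hk⟩ := hPm ⟨σ, hσ⟩
        have hk' : σ ^ r ^ k = 1 := congrArg Subtype.val hk
        obtain ⟨g, hg⟩ := six_square σ
        obtain ⟨m, hm⟩ : Odd (r ^ k) := (hr.odd_of_ne_two hr2).pow
        have : σ = (σ * σ) ^ (m + 1) := by
          rw [← pow_two, ← pow_mul, show 2 * (m + 1) = r ^ k + 1 by omega, pow_succ, hk', one_mul]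
        rw [this, ← hg, ← map_pow]
        exact ⟨_, rfl⟩
      · exact ⟨_, ((S2119.result n (by omega) h6).2 σ).choose_spec⟩
    have hc := perm_abelian hlt P' (hPm.comap_of_injective Φ hΦi)
    refine ⟨⟨fun a b => Subtype.ext (Subtype.ext ?_)⟩⟩
    obtain ⟨ga, hga⟩ := hrange ⟨a, a.2, rfl⟩
    obtain ⟨gb, hgb⟩ := hrange ⟨b, b.2, rfl⟩
    have e := congrArg (fun z : P' => Φ z) (hc.is_comm.comm ⟨ga, ⟨a, a.2, hga.symm⟩⟩ ⟨gb, ⟨b, b.2, hgb.symm⟩⟩)
    simp only [Subgroup.coe_mul, map_mul, hga, hgb] at e
    exact e
  by_cases hp : p ≠ 2 ∧ n < p * p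
  · exact Or.inl fun P => key p (Fact.out) hp.1 hp.2 P P.isPGroup'
  by_cases hq : q ≠ 2 ∧ n < q * q
  · exact Or.inr fun Q => key q (Fact.out) hq.1 hq.2 Q Q.isPGroup'
  exfalso
  have hp2 := (Fact.out : p.Prime).two_le
  have hq2 := (Fact.out : q.Prime).two_le
  push Not at hp hq
  obtain ⟨m, hsum, hge, hlcm, hsign⟩ : ∃ m : Multiset ℕ, m.sum ≤ n ∧ (∀ a ∈ m, 2 ≤ a) ∧ m.lcm = p * q ∧
      Even (m.sum + m.card) := by
    have hcop : Nat.Coprime p q := (Nat.coprime_primes Fact.out Fact.out).2 hpq
    by_cases hpe : p = 2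
    · have hqo : q ≠ 2 := fun e => hpq (hpe.trans e.symm)
      have := hq hqo
      have hq3 : 3 ≤ q := by omega
      have : 3 * q ≤ q * q := Nat.mul_le_mul_right _ hq3
      obtain ⟨j, hj⟩ := (Fact.out : q.Prime).odd_of_ne_two hqo
      subst hpe
      refine ⟨{2, 2, q}, by simp; omega, by simp; omega, ?_, by simp; exact ⟨j + 4, by omega⟩⟩
      simp [Nat.Coprime.lcm_eq_mul hcop, lcm_eq_nat_lcm]
    by_cases hqe : q = 2
    · have := hp hpe
      have hp3 : 3 ≤ p := by omega
      have : 3 * p ≤ p * p := Nat.mul_le_mul_right _ hp3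
      obtain ⟨j, hj⟩ := (Fact.out : p.Prime).odd_of_ne_two hpe
      subst hqe
      refine ⟨{2, 2, p}, by simp; omega, by simp; omega, ?_, by simp; exact ⟨j + 4, by omega⟩⟩
      simp [Nat.Coprime.lcm_eq_mul hcop.symm, lcm_eq_nat_lcm, mul_comm]
    · have := hp hpe
      have := hq hqe
      obtain ⟨i, hi⟩ := (Fact.out : p.Prime).odd_of_ne_two hpe
      obtain ⟨j, hj⟩ := (Fact.out : q.Prime).odd_of_ne_two hqe
      refine ⟨{p, q}, ?_, by simp; omega, ?_, by simp; exact ⟨i + j + 2, by omega⟩⟩
      · simp
        rcases Nat.le_total p q with hle | hle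
        · have : 2 * q ≤ q * q := Nat.mul_le_mul_right _ hq2
          omega
        · have : 2 * p ≤ p * p := Nat.mul_le_mul_right _ hp2
          omega
      · simp [Nat.Coprime.lcm_eq_mul hcop, lcm_eq_nat_lcm]
  obtain ⟨a, ha⟩ := (Equiv.Perm.exists_with_cycleType_iff (α := Fin n)).2 ⟨by simpa using hsum, hge⟩
  have haA : a ∈ alternatingGroup (Fin n) := by
    rw [Equiv.Perm.mem_alternatingGroup, sign_of_cycleType, ha, Even.neg_one_pow hsign]
  set Ψ := (MulAut.conj : alternatingGroup (Fin n) →* MulAut (alternatingGroup (Fin n))) with hΨ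
  have hΨi : Function.Injective Ψ := by
    have hc : Subgroup.center (alternatingGroup (Fin n)) = ⊥ :=
      alternatingGroup.center_eq_bot (by simp; omega)
    refine (injective_iff_map_eq_one _).2 fun g hg => ?_
    have : g ∈ Subgroup.center (alternatingGroup (Fin n)) := Subgroup.mem_center_iff.2 fun x => by
      have := congrArg (fun e : MulAut (alternatingGroup (Fin n)) => e x) hg
      simp only [hΨ, MulAut.conj_apply, MulAut.one_apply] at this
      calc x * g = g * x * g⁻¹ * g := by rw [this]
        _ = g * x := by group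
    rwa [hc, Subgroup.mem_bot] at this
  refine h ⟨Ψ ⟨a, haA⟩, hG ⟨_, rfl⟩⟩ ?_
  rw [← Subgroup.orderOf_coe, orderOf_injective Ψ hΨi, ← Subgroup.orderOf_coe, ← lcm_cycleType, ha, hlcm]

end Cfsg.Agent.S4231
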