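import Cfsg.Statements.S4234
import Cfsg.Agent.Lib.SL2.DicksonMax
import Cfsg.Agent.Lib.SL2.DicksonApps

set_option autoImplicit false
open Cfsg
open scoped Pointwise
set_option linter.all false

namespace Cfsg.Agent.S4234

open Cfsg.Agent.SL2

local notation "Z13" => ZMod 13
local notation "SG" => Matrix.SpecialLinearGroup (Fin 2) (ZMod 13)
local notation "PG13" => Matrix.ProjectiveSpecialLinearGroup (Fin 2) (ZMod 13)

local instance fact13 : Fact (Nat.Prime 13) := ⟨by norm_num⟩

theorem hodd : Odd (Fintype.card Z13) := by rw [ZMod.card]; exact ⟨6, by norm_num⟩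

theorem card_ps : Nat.card PG13 = 1092 := by
  have := card_psl (F := Z13)
  rw [ZMod.card, show Nat.gcd 2 (13 - 1) = 2 by decide] at this
  omega

theorem simple : IsSimpleGroup PG13 := isSimple_psl (by rw [ZMod.card]; norm_num)

theorem card_torus13 {r : SG} (ht : tr r ^ 2 ≠ 4) :
    Nat.card (torus r) = 6 ∨ Nat.card (torus r) = 7 := by
  rcases card_torus_cases ht with ⟨-, e⟩ | ⟨-, e⟩ <;> rw [e, ZMod.card] <;> simp

theorem coatom_card {M : Subgroup PG13} (hM : IsCoatom M) :
    Nat.card M = 12 ∨ Nat.card M = 14 ∨ Nat.card M = 78 := by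
  have hq := ZMod.card 13
  rcases coatom_cases 13 (by rw [hq]; norm_num) hM with
    ⟨r, ht, rfl⟩ | h | ⟨K, _, _, m, hm, hK, h⟩ | ⟨-, -, h, -⟩ | ⟨-, -, -, e⟩ | ⟨-, h, -⟩
  · have := card_NT ht
    rcases card_torus13 ht with e | e <;> rw [e] at this <;> omega
  · rw [hq] at h
    norm_num at h
    omega
  · rw [hq] at hm
    rcases h with ⟨hp, -⟩ | ⟨-, rfl, -⟩
    · have h13 : Fintype.card K ∣ 13 := hm ▸ dvd_pow_self _ hp.ne_zero
      rcases (Nat.dvd_prime (by norm_num : Nat.Prime 13)).1 h13 with e | e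
      · omega
      · rw [e] at hm
        have := Nat.pow_right_injective (by norm_num : 2 ≤ 13) (hm.trans (pow_one 13).symm)
        exact absurd (this ▸ hp) Nat.not_prime_one
    · rw [pow_two] at hm
      have h3 : Fintype.card K ≤ 4 := by
        by_contra h5
        have := Nat.mul_le_mul (show 5 ≤ Fintype.card K by omega) (show 5 ≤ Fintype.card K by omega)
        omega
      interval_cases hc : Fintype.card K
      all_goals omega
  · rw [hq] at h; omega
  · obtain ⟨e⟩ := e
    rw [Nat.card_congr e.toEquiv, card_alt_four]; simp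
  · omega

theorem coatom_of_card {N : Subgroup PG13} (hN : N ≠ ⊤)
    (h : 12 ∣ Nat.card N ∨ 14 ∣ Nat.card N ∨ 78 ∣ Nat.card N) : IsCoatom N := by
  obtain ⟨M, hM, hNM⟩ := (eq_top_or_exists_le_coatom N).resolve_left hN
  have hd := Subgroup.card_dvd_of_le hNM
  suffices Nat.card M ≤ Nat.card N by
    rw [Subgroup.eq_of_le_of_card_ge hNM this]; exact hM
  have hpos : 0 < Nat.card N := Nat.card_pos
  rcases h with ⟨j, e⟩ | ⟨j, e⟩ | ⟨j, e⟩ <;> rw [e] at hpos hd ⊢ <;>
    rcases coatom_card hM with e' | e' | e' <;> rw [e'] at hd ⊢ <;>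
      first
        | omega
        | (exfalso; have := (dvd_mul_right _ j).trans hd; omega)

theorem normalizer_ne_top {H : Subgroup PG13} (h1 : H ≠ ⊥) (h2 : H ≠ ⊤) :
    Subgroup.normalizer (H : Set PG13) ≠ ⊤ := fun e =>
  ((simple.eq_bot_or_eq_top_of_normal H (Subgroup.normalizer_eq_top_iff.1 e)).elim h1 h2)

theorem torus_sub {x : PG13} (hx : x ≠ 1) (h13 : x ^ 13 ≠ 1) :
    12 ∣ Nat.card (Subgroup.normalizer (Subgroup.zpowers x : Set PG13)) ∨
      14 ∣ Nat.card (Subgroup.normalizer (Subgroup.zpowers x : Set PG13)) := by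
  obtain ⟨s, rfl⟩ := π_surjective x
  have ht : tr s ^ 2 ≠ 4 := fun e => h13 (not_semisimple_pow (p := 13) e)
  have hle : NT s ≤ Subgroup.normalizer (Subgroup.zpowers (π s) : Set PG13) := by
    intro y hy
    have key : ∀ y ∈ NT s, ∀ z ∈ Subgroup.zpowers (π s), y * z * y⁻¹ ∈ Subgroup.zpowers (π s) := by
      intro y hy z hz
      obtain ⟨i, rfl⟩ := Subgroup.mem_zpowers_iff.1 hz
      obtain ⟨u, rfl⟩ := π_surjective y
      have hu := pi_mem_NT.1 hy
      rw [← conj_zpow, ← π_conj]
      refine zpow_mem ?_ i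
      rcases normalizer_act ht hu with ⟨-, h⟩ | ⟨-, h⟩ <;> rw [h s (self_mem_cent s)]
      · exact Subgroup.mem_zpowers _
      · rw [map_inv]; exact inv_mem (Subgroup.mem_zpowers _)
    refine Subgroup.mem_normalizer_iff.2 fun z => ⟨key y hy z, fun hz => ?_⟩
    have := key y⁻¹ (inv_mem hy) _ hz
    rwa [show y⁻¹ * (y * z * y⁻¹) * y⁻¹⁻¹ = z by group] at this
  have hd := Subgroup.card_dvd_of_le hle
  have := card_NT ht
  rcases card_torus13 ht with e | e <;> rw [e] at this <;> rw [this] at hd
  · exact Or.inl hd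
  · exact Or.inr hd

theorem pow13_ne {x : PG13} {l : ℕ} (hl : l.Prime) (h : l ≠ 13) (hx : orderOf x = l) : x ^ 13 ≠ 1 :=
  fun e => h ((Nat.prime_dvd_prime_iff_eq hl (by norm_num)).1 (hx ▸ orderOf_dvd_of_pow_eq_one e))

theorem exists_elt {H : Subgroup PG13} {l : ℕ} [Fact l.Prime] (h : l ∣ Nat.card H) :
    ∃ x, x ∈ H ∧ orderOf x = l := by
  obtain ⟨c, hc⟩ := exists_prime_orderOf_dvd_card' l h
  exact ⟨c, c.2, by rw [Subgroup.orderOf_coe, hc]⟩

/-- A subgroup of index two of a subgroup normalises. -/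
theorem le_normalizer_index_two {H M : Subgroup PG13} (hle : H ≤ M)
    (h : Nat.card M = 2 * Nat.card H) : M ≤ Subgroup.normalizer (H : Set PG13) := by
  have hi : (H.subgroupOf M).index = 2 := by
    have := Subgroup.card_mul_index (H.subgroupOf M)
    rw [Nat.card_congr (Subgroup.subgroupOfEquivOfLe hle).toEquiv, h, mul_comm 2] at this
    exact Nat.eq_of_mul_eq_mul_left Nat.card_pos this
  exact (Subgroup.normal_subgroupOf_iff_le_normalizer hle).1 (Subgroup.normal_of_index_eq_two hi)

theorem thirteen_sub {x : PG13} (hx : orderOf x = 13) :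
    Nat.card (Subgroup.normalizer (Subgroup.zpowers x : Set PG13)) = 78 ∧
      Subgroup.centralizer ({x} : Set PG13) ≤ Subgroup.zpowers x := by
  have hW : Nat.card (Subgroup.zpowers x) = 13 := by rw [Nat.card_zpowers, hx]
  constructor
  · obtain ⟨V, hV⟩ := SL2Sub.exists_sylow_of_card (p := 13) (P := PG13) (m := 84) card_ps (by norm_num) hW
    have hne : Subgroup.normalizer (Subgroup.zpowers x : Set PG13) ≠ ⊤ :=
      normalizer_ne_top (fun e => by rw [e, Subgroup.card_bot] at hW; norm_num at hW)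
        (fun e => by rw [e, Subgroup.card_top, card_ps] at hW; norm_num at hW)
    have h1 := card_sylow_modEq_one 13 PG13
    have hidx : Nat.card (Sylow 13 PG13) =
        (Subgroup.normalizer (Subgroup.zpowers x : Set PG13)).index := by
      rw [V.card_eq_index_normalizer]
      show (Subgroup.normalizer ((V : Subgroup PG13) : Set PG13)).index = _
      rw [hV]
    have h5 := (Subgroup.normalizer (Subgroup.zpowers x : Set PG13)).card_mul_index
    rw [card_ps] at h5
    have hdN : 13 ∣ Nat.card (Subgroup.normalizer (Subgroup.zpowers x : Set PG13)) :=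
      (dvd_of_eq hW.symm).trans (Subgroup.card_dvd_of_le Subgroup.le_normalizer)
    have h2 : Nat.card (Sylow 13 PG13) * 13 ∣ 1092 := by
      obtain ⟨j, hj⟩ := hdN
      refine ⟨j, ?_⟩
      rw [hidx, ← h5, hj]; ring
    have h3 : Nat.card (Sylow 13 PG13) ∈ Nat.divisors 84 :=
      Nat.mem_divisors.2 ⟨Nat.dvd_of_mul_dvd_mul_right (by norm_num) (h2 : _ ∣ 84 * 13), by norm_num⟩
    have h4 : Nat.card (Sylow 13 PG13) = 1 ∨ Nat.card (Sylow 13 PG13) = 14 := by
      revert h1
      generalize Nat.card (Sylow 13 PG13) = n at h3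
      fin_cases h3 <;> decide
    rw [← hidx] at h5
    rcases h4 with e | e <;> rw [e] at h5
    · exfalso
      refine hne (Subgroup.eq_top_of_card_eq _ ?_)
      rw [card_ps]; omega
    · omega
  · intro y hy
    have hcomm : ∀ {l : ℕ}, l.Prime → l ≠ 13 → ∀ z ∈ Subgroup.centralizer ({x} : Set PG13),
        orderOf z ≠ l := by
      intro l hl hl13 z hz hzl
      have hz1 : z ≠ 1 := fun e => hl.one_lt.ne' (by rw [← hzl, e, orderOf_one])
      have hd : 13 ∣ Nat.card (Subgroup.normalizer (Subgroup.zpowers z : Set PG13)) := by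
        suffices hm : x ∈ Subgroup.normalizer (Subgroup.zpowers z : Set PG13) by
          have := Subgroup.orderOf_dvd_natCard _ hm
          rwa [hx] at this
        refine Subgroup.mem_normalizer_iff.2 fun w => ?_
        have hc : Commute x z := (Subgroup.mem_centralizer_iff.1 hz x rfl)
        constructor
        · intro hw
          obtain ⟨i, rfl⟩ := Subgroup.mem_zpowers_iff.1 hw
          rw [← conj_zpow, hc.eq, mul_inv_cancel_right]; exact zpow_mem (Subgroup.mem_zpowers _) i
        · intro hw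
          obtain ⟨i, hi⟩ := Subgroup.mem_zpowers_iff.1 hw
          have : w = z ^ i := by
            have e := (hc.zpow_right i).eq
            refine mul_left_cancel (a := x) ?_
            rw [e, hi, inv_mul_cancel_right]
          exact this ▸ zpow_mem (Subgroup.mem_zpowers _) i
      have hzne : Subgroup.normalizer (Subgroup.zpowers z : Set PG13) ≠ ⊤ := normalizer_ne_top
        (Subgroup.zpowers_ne_bot.2 hz1) fun e => by
          have := congrArg (fun K : Subgroup PG13 => Nat.card K) e
          simp only [Nat.card_zpowers, Subgroup.card_top, card_ps, hzl] at this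
          exact absurd (this ▸ hl) (by norm_num)
      obtain ⟨M, hM, hNM⟩ := (eq_top_or_exists_le_coatom _).resolve_left hzne
      have hd' := Subgroup.card_dvd_of_le hNM
      rcases torus_sub hz1 (pow13_ne hl hl13 hzl) with h | h <;>
        rcases coatom_card hM with e | e | e <;> rw [e] at hd' <;>
        · have h' := h.trans hd'
          have h'' := hd.trans hd'
          omega
    have hC : IsPGroup 13 (Subgroup.centralizer ({x} : Set PG13)) := by
      refine IsPGroup.of_card (n := (Nat.card (Subgroup.centralizer ({x} : Set PG13))).primeFactorsList.length)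
        (Nat.eq_prime_pow_of_unique_prime_dvd Nat.card_pos.ne' fun {l} hl hld => ?_)
      by_contra hne
      have := Fact.mk hl
      obtain ⟨z, hz, hzl⟩ := exists_elt hld
      exact hcomm hl hne z hz hzl
    have hxC : Subgroup.zpowers x ≤ Subgroup.centralizer ({x} : Set PG13) :=
      Subgroup.zpowers_le.2 (Subgroup.mem_centralizer_iff.2 fun a ha => by rw [Set.mem_singleton_iff.1 ha])
    obtain ⟨V, hV⟩ := SL2Sub.exists_sylow_of_card (p := 13) (P := PG13) (m := 84) card_ps (by norm_num) hW
    rw [← hV]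
    exact (V.is_maximal' hC (hV ▸ hxC)).le hy

theorem psl_coatom (H : Subgroup PG13) (hH : ¬ H.Normal) :
    IsCoatom (Subgroup.normalizer (H : Set PG13)) := by
  have hne := normalizer_ne_top (H := H) (fun e => hH (e ▸ Subgroup.normal_bot))
    (fun e => hH (e ▸ Subgroup.normal_top))
  have htop : H ≠ ⊤ := fun e => hH (e ▸ Subgroup.normal_top)
  have hbot : H ≠ ⊥ := fun e => hH (e ▸ Subgroup.normal_bot)
  refine coatom_of_card hne ?_
  obtain ⟨M, hM, hHM⟩ := (eq_top_or_exists_le_coatom H).resolve_left htop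
  have hd := Subgroup.card_dvd_of_le hHM
  have h1 : Nat.card H ≠ 1 := fun e => hbot (Subgroup.card_eq_one.1 e)
  have : Fact (Nat.Prime 7) := ⟨by norm_num⟩
  have prime_case : ∀ l : ℕ, l.Prime → l ≠ 13 → Nat.card H = l →
      12 ∣ Nat.card (Subgroup.normalizer (H : Set PG13)) ∨
        14 ∣ Nat.card (Subgroup.normalizer (H : Set PG13)) ∨
        78 ∣ Nat.card (Subgroup.normalizer (H : Set PG13)) := by
    intro l hl hl13 hc
    have := Fact.mk hl
    obtain ⟨x, hx, hxl⟩ := exists_elt (H := H) (l := l) (hc ▸ dvd_rfl)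
    have hH' : Subgroup.zpowers x = H := Subgroup.eq_of_le_of_card_ge (Subgroup.zpowers_le.2 hx)
      (by rw [Nat.card_zpowers, hxl, hc])
    have h := torus_sub (x := x) (fun e => hl.one_lt.ne' (by rw [← hxl, e, orderOf_one]))
      (pow13_ne hl hl13 hxl)
    rw [hH'] at h
    exact h.imp id Or.inl
  have self : ∀ n : ℕ, Nat.card H = n → n ∣ Nat.card (Subgroup.normalizer (H : Set PG13)) :=
    fun n e => e ▸ Subgroup.card_dvd_of_le Subgroup.le_normalizer
  have four : Nat.card H = 4 → 12 ∣ Nat.card (Subgroup.normalizer (H : Set PG13)) := by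
    intro hc
    have : Fact (Nat.Prime 2) := ⟨Nat.prime_two⟩
    let V : Sylow 2 PG13 := (IsPGroup.of_card (p := 2) (n := 2) hc).toSylow (by
      intro h2
      have h := H.card_mul_index
      rw [hc, card_ps] at h
      omega)
    obtain ⟨M', hM', hNM'⟩ := (eq_top_or_exists_le_coatom _).resolve_left hne
    have hd' := Subgroup.card_dvd_of_le hNM'
    have h4 := self 4 hc
    rcases coatom_card hM' with e | e | e <;> rw [e] at hd'
    · by_contra hcon
      have hN4 : Nat.card (Subgroup.normalizer (H : Set PG13)) = 4 := by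
        obtain ⟨j, hj⟩ := h4
        rw [hj] at hd' hcon ⊢
        have hj3 : j ∣ 3 := Nat.dvd_of_mul_dvd_mul_left (by norm_num) (hd' : 4 * j ∣ 4 * 3)
        rcases (Nat.dvd_prime Nat.prime_three).1 hj3 with rfl | rfl
        · rfl
        · exact absurd (dvd_refl 12) hcon
      have hNH : Subgroup.normalizer (H : Set PG13) = H :=
        (Subgroup.eq_of_le_of_card_ge Subgroup.le_normalizer (by rw [hN4, hc])).symm
      have hP : Subgroup.normalizer ((V : Subgroup PG13) : Set PG13) ≤
          Subgroup.centralizer ((V : Subgroup PG13) : Set PG13) := by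
        show Subgroup.normalizer (H : Set PG13) ≤ Subgroup.centralizer (H : Set PG13)
        rw [hNH]
        intro a ha
        refine Subgroup.mem_centralizer_iff.2 fun b hb => ?_
        have := IsPGroup.commutative_of_card_eq_prime_sq (p := 2) hc
        exact congrArg Subtype.val (this ⟨b, hb⟩ ⟨a, ha⟩)
      have hcompl := MonoidHom.ker_transferSylow_isComplement' V hP
      have hmul := hcompl.card_mul
      rw [card_ps, show Nat.card (V : Subgroup PG13) = 4 from hc] at hmul
      rcases simple.eq_bot_or_eq_top_of_normal (MonoidHom.transferSylow V hP).ker inferInstance with e' | e' <;>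
        rw [e'] at hmul
      · rw [Subgroup.card_bot] at hmul; omega
      · rw [Subgroup.card_top, card_ps] at hmul; omega
    · have := h4.trans hd'; omega
    · have := h4.trans hd'; omega
  have six : Nat.card H = 6 → 12 ∣ Nat.card (Subgroup.normalizer (H : Set PG13)) := by
    intro hc
    have : Fact (Nat.Prime 3) := ⟨Nat.prime_three⟩
    obtain ⟨x, hx, hx3⟩ := exists_elt (H := H) (l := 3) (hc ▸ by norm_num)
    have hx1 : x ≠ 1 := fun e => by rw [e, orderOf_one] at hx3; norm_num at hx3
    set N := Subgroup.normalizer (Subgroup.zpowers x : Set PG13) with hN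
    have hHN : H ≤ N := le_normalizer_index_two (Subgroup.zpowers_le.2 hx)
      (by rw [hc, Nat.card_zpowers, hx3])
    have hNne : N ≠ ⊤ := normalizer_ne_top (Subgroup.zpowers_ne_bot.2 hx1) fun e => by
      have := congrArg (fun K : Subgroup PG13 => Nat.card K) e
      simp only [Nat.card_zpowers, Subgroup.card_top, card_ps, hx3] at this
      norm_num at this
    obtain ⟨M', hM', hNM'⟩ := (eq_top_or_exists_le_coatom _).resolve_left hNne
    have hd' := Subgroup.card_dvd_of_le hNM'
    have h6 : 6 ∣ Nat.card N := hc ▸ Subgroup.card_dvd_of_le hHN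
    have hN12 : Nat.card N = 12 := by
      have hpos : 0 < Nat.card N := Nat.card_pos
      have h12 : 12 ∣ Nat.card N ∨ 14 ∣ Nat.card N := torus_sub hx1 (pow13_ne Nat.prime_three (by norm_num) hx3)
      rcases coatom_card hM' with e | e | e <;> rw [e] at hd'
      · have := Nat.le_of_dvd (by norm_num) hd'; omega
      · have := h6.trans hd'; omega
      · rcases h12 with h | h <;> have := h.trans hd' <;> omega
    exact hN12 ▸ Subgroup.card_dvd_of_le (le_normalizer_index_two hHN (by rw [hN12, hc]))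
  have thirteen : 13 ∣ Nat.card H → 78 ∣ Nat.card (Subgroup.normalizer (H : Set PG13)) := by
    intro h13
    obtain ⟨x, hx, hx13⟩ := exists_elt (H := H) (l := 13) h13
    obtain ⟨hN, hC⟩ := thirteen_sub hx13
    set N := Subgroup.normalizer (Subgroup.zpowers x : Set PG13) with hNdef
    have hxN : Subgroup.zpowers x ≤ N := Subgroup.le_normalizer
    have hHN : H ≤ N := by
      have hMM : Nat.card M = 78 := by
        rcases coatom_card hM with e | e | e
        · rw [e] at hd; have := h13.trans hd; omega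
        · rw [e] at hd; have := h13.trans hd; omega
        · exact e
      obtain ⟨V, hV⟩ := SL2Sub.exists_sylow_of_card (p := 13) (P := M) (m := 6) hMM (by norm_num)
        (C := (Subgroup.zpowers x).subgroupOf M) (by
          rw [Nat.card_congr (Subgroup.subgroupOfEquivOfLe (Subgroup.zpowers_le.2 (hHM hx))).toEquiv,
            Nat.card_zpowers, hx13])
      have h1 := card_sylow_modEq_one 13 M
      have h2 : Nat.card (Sylow 13 M) ∣ 6 := by
        rw [V.card_eq_index_normalizer]
        have := Subgroup.index_dvd_of_le (Subgroup.le_normalizer (H := (V : Subgroup M)))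
        refine this.trans (dvd_of_eq ?_)
        have h' := (V : Subgroup M).card_mul_index
        rw [hV, Nat.card_congr (Subgroup.subgroupOfEquivOfLe (Subgroup.zpowers_le.2 (hHM hx))).toEquiv,
          Nat.card_zpowers, hx13, hMM] at h'
        rw [hV]; omega
      have h3 : Nat.card (Sylow 13 M) = 1 := by
        have := Nat.le_of_dvd (by norm_num) h2
        unfold Nat.ModEq at h1
        omega
      have : Subsingleton (Sylow 13 M) := (Nat.card_eq_one_iff_unique.1 h3).1
      have hn := Sylow.normal_of_subsingleton V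
      rw [hV] at hn
      exact hHM.trans ((Subgroup.normal_subgroupOf_iff_le_normalizer (Subgroup.zpowers_le.2 (hHM hx))).1 hn)
    rw [← hN]
    refine Subgroup.card_dvd_of_le fun n hn => Subgroup.mem_normalizer_iff.2 fun h => ?_
    have key : ∀ n ∈ N, ∀ h ∈ H, n * h * n⁻¹ ∈ H := by
      intro n hn h hh
      have conj_pow' : ∀ g ∈ N, ∃ i : ℤ, g * x * g⁻¹ = x ^ i := fun g hg => by
        obtain ⟨i, hi⟩ := Subgroup.mem_zpowers_iff.1
          ((Subgroup.mem_normalizer_iff.1 hg x).1 (Subgroup.mem_zpowers x))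
        exact ⟨i, hi.symm⟩
      obtain ⟨i, hi⟩ := conj_pow' n hn
      obtain ⟨j, hj⟩ := conj_pow' h (hHN hh)
      have e : (n * h) * x * (n * h)⁻¹ = (h * n) * x * (h * n)⁻¹ := by
        calc (n * h) * x * (n * h)⁻¹ = n * (h * x * h⁻¹) * n⁻¹ := by group
          _ = x ^ (i * j) := by rw [hj, ← conj_zpow, hi, ← zpow_mul]
          _ = h * (n * x * n⁻¹) * h⁻¹ := by rw [hi, ← conj_zpow, hj, ← zpow_mul, mul_comm]
          _ = (h * n) * x * (h * n)⁻¹ := by group
      have hc : (h * n)⁻¹ * (n * h) ∈ H := by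
        refine (Subgroup.zpowers_le.2 hx) (hC (Subgroup.mem_centralizer_iff.2 fun a ha => ?_))
        rw [Set.mem_singleton_iff.1 ha]
        calc x * ((h * n)⁻¹ * (n * h)) = (h * n)⁻¹ * ((h * n) * x * (h * n)⁻¹) * (n * h) := by group
          _ = (h * n)⁻¹ * ((n * h) * x * (n * h)⁻¹) * (n * h) := by rw [e]
          _ = (h * n)⁻¹ * (n * h) * x := by group
      have hc' : n * ((h * n)⁻¹ * (n * h)) * n⁻¹ ∈ Subgroup.zpowers x → n * h * n⁻¹ ∈ H := fun hz => by
        have := mul_mem hh (Subgroup.zpowers_le.2 hx hz)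
        rwa [show h * (n * ((h * n)⁻¹ * (n * h)) * n⁻¹) = h * (n * n⁻¹ * h⁻¹ * n * h * n⁻¹) by group,
          show h * (n * n⁻¹ * h⁻¹ * n * h * n⁻¹) = n * h * n⁻¹ by group] at this
      refine hc' ((Subgroup.mem_normalizer_iff.1 hn _).1 (hC (Subgroup.mem_centralizer_iff.2 fun a ha => ?_)))
      rw [Set.mem_singleton_iff.1 ha]
      calc x * ((h * n)⁻¹ * (n * h)) = (h * n)⁻¹ * ((h * n) * x * (h * n)⁻¹) * (n * h) := by group
        _ = (h * n)⁻¹ * ((n * h) * x * (n * h)⁻¹) * (n * h) := by rw [e]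
        _ = (h * n)⁻¹ * (n * h) * x := by group
    refine ⟨key n hn h, fun hh => ?_⟩
    have := key n⁻¹ (inv_mem hn) _ hh
    rwa [show n⁻¹ * (n * h * n⁻¹) * n⁻¹⁻¹ = h by group] at this
  by_cases h13 : 13 ∣ Nat.card H
  · exact Or.inr (Or.inr (thirteen h13))
  by_cases hp : (Nat.card H).Prime
  · exact prime_case _ hp (fun e => h13 (dvd_of_eq e.symm)) rfl
  have hcases : ∀ k : ℕ, k < 79 → (k ∣ 12 ∨ k ∣ 14 ∨ k ∣ 78) → k ≠ 1 → ¬ 13 ∣ k → ¬ k.Prime →
      k = 4 ∨ k = 6 ∨ k = 12 ∨ k = 14 := by
    intro k hk hk' h1 h13 hp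
    interval_cases k <;> first | omega | (exfalso; revert hp; norm_num)
  have hdd : Nat.card H ∣ 12 ∨ Nat.card H ∣ 14 ∨ Nat.card H ∣ 78 := by
    rcases coatom_card hM with e | e | e <;> rw [e] at hd
    exacts [Or.inl hd, Or.inr (Or.inl hd), Or.inr (Or.inr hd)]
  have hlt : Nat.card H < 79 := by
    rcases hdd with h | h | h <;> have := Nat.le_of_dvd (by norm_num) h <;> omega
  rcases hcases _ hlt hdd h1 h13 hp with e | e | e | e
  · exact Or.inl (four e)
  · exact Or.inl (six e)
  · exact Or.inl (self _ e)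
  · exact Or.inr (Or.inl (self _ e))

theorem sl_mem {H : Subgroup SG} {h : SG} (h' : π h ∈ H.map π) (ho : ∃ k, Odd k ∧ h ^ k = 1) : h ∈ H := by
  obtain ⟨u, hu, e⟩ := h'
  rcases π_eq_iff.1 e with e1 | e1
  · rw [e1]; exact hu
  · by_cases hneg : (-1 : SG) ∈ H
    · rw [e1, ← neg_one_mul]; exact mul_mem hneg hu
    exfalso
    obtain ⟨k, hk, hpow⟩ := ho
    have hodd' : Odd (Nat.card H) := by
      rw [Nat.odd_iff, ← Nat.two_dvd_ne_zero]
      intro h2
      obtain ⟨c, hc⟩ := exists_prime_orderOf_dvd_card' 2 h2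
      have hc2 : (c : SG) * c = 1 := by
        rw [← pow_two]
        exact orderOf_dvd_iff_pow_eq_one.1 (dvd_of_eq (by rw [Subgroup.orderOf_coe, hc]))
      rcases eq_one_or_of_sq (two_ne_zero' hodd) hc2 with e2 | e2
      · rw [← Subgroup.orderOf_coe, e2, orderOf_one] at hc; norm_num at hc
      · exact hneg (e2 ▸ c.2)
    have hu1 : u ^ Nat.card H = 1 :=
      congrArg Subtype.val (pow_card_eq_one' (G := H) (x := ⟨u, hu⟩))
    have hneg1 : ((-1 : SG)) ^ (k * Nat.card H) = 1 := by
      have e2 : (-1 : SG) = h * u⁻¹ := by rw [e1, neg_mul, mul_inv_cancel]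
      have hcomm : Commute h u⁻¹ := by
        rw [e1]; exact ((Commute.refl u).neg_left).inv_right
      rw [e2, hcomm.mul_pow, pow_mul, hpow, one_pow, one_mul, mul_comm k, pow_mul, inv_pow, hu1, inv_one,
        one_pow]
    rw [(hk.mul hodd').neg_one_pow] at hneg1
    rw [hneg1] at hneg
    exact hneg (one_mem H)

theorem conj_mem_sl {H : Subgroup SG} {x h : SG}
    (hx : π x ∈ Subgroup.normalizer (H.map π : Set PG13)) (hh : h ∈ H) : x * h * x⁻¹ ∈ H := by
  have hm : π (x * h * x⁻¹) ∈ H.map π := by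
    rw [π_conj]; exact (Subgroup.mem_normalizer_iff.1 hx _).1 ⟨h, hh, rfl⟩
  by_cases hneg : (-1 : SG) ∈ H
  · obtain ⟨u, hu, e⟩ := hm
    rcases π_eq_iff.1 e with e1 | e1 <;> rw [e1]
    · exact hu
    · rw [← neg_one_mul]; exact mul_mem hneg hu
  refine sl_mem hm ⟨Nat.card H, ?_, ?_⟩
  · rw [Nat.odd_iff, ← Nat.two_dvd_ne_zero]
    intro h2
    obtain ⟨c, hc⟩ := exists_prime_orderOf_dvd_card' 2 h2
    have hc2 : (c : SG) * c = 1 := by
      rw [← pow_two]
      exact orderOf_dvd_iff_pow_eq_one.1 (dvd_of_eq (by rw [Subgroup.orderOf_coe, hc]))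
    rcases eq_one_or_of_sq (two_ne_zero' hodd) hc2 with e2 | e2
    · rw [← Subgroup.orderOf_coe, e2, orderOf_one] at hc; norm_num at hc
    · exact hneg (e2 ▸ c.2)
  · have h1 : h ^ Nat.card H = 1 := congrArg Subtype.val (pow_card_eq_one' (G := H) (x := ⟨h, hh⟩))
    rw [conj_pow, h1, mul_one, mul_inv_cancel]

theorem sl_coatom (H : Subgroup SG) (hH : ¬ H.Normal) :
    IsCoatom (Subgroup.normalizer (H : Set SG)) := by
  have e : Subgroup.normalizer (H : Set SG) =
      (Subgroup.normalizer (H.map π : Set PG13)).comap π := by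
    refine le_antisymm (fun x hx => ?_) fun x hx => Subgroup.mem_normalizer_iff.2 fun h => ⟨fun hh => conj_mem_sl hx hh, fun hh => ?_⟩
    · rw [Subgroup.mem_comap, Subgroup.mem_normalizer_iff]
      intro y
      obtain ⟨v, rfl⟩ := π_surjective y
      constructor
      · rintro ⟨u, hu, e⟩
        exact ⟨x * u * x⁻¹, (Subgroup.mem_normalizer_iff.1 hx u).1 hu, by rw [π_conj, e]⟩
      · rintro ⟨u, hu, e⟩
        refine ⟨x⁻¹ * u * x⁻¹⁻¹, (Subgroup.mem_normalizer_iff.1 (inv_mem hx) u).1 hu, ?_⟩
        rw [π_conj, e, map_inv]; group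
    · have hx' : π x⁻¹ ∈ Subgroup.normalizer (H.map π : Set PG13) := by
        rw [map_inv]; exact inv_mem hx
      have := conj_mem_sl hx' hh
      rwa [show x⁻¹ * (x * h * x⁻¹) * x⁻¹⁻¹ = h by group] at this
  rw [e]
  refine Subgroup.isCoatom_comap_of_surjective π_surjective (psl_coatom _ fun hn => hH ?_)
  rw [← Subgroup.normalizer_eq_top_iff, e, Subgroup.normalizer_eq_top_iff.2 hn, Subgroup.comap_top]

theorem transfer_equiv {A B : Type*} [Group A] [Group B] (e : A ≃* B)
    (h : ∀ H : Subgroup B, ¬ H.Normal → IsCoatom (Subgroup.normalizer (H : Set B)))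
    (H : Subgroup A) (hH : ¬ H.Normal) : IsCoatom (Subgroup.normalizer (H : Set A)) := by
  have he : Function.Surjective e.toMonoidHom := e.surjective
  have h' : Subgroup.normalizer (H : Set A) =
      (Subgroup.normalizer (H.map e.toMonoidHom : Set B)).comap e.toMonoidHom := by
    ext x
    rw [Subgroup.mem_comap, Subgroup.mem_normalizer_iff, Subgroup.mem_normalizer_iff]
    constructor
    · intro hx y
      obtain ⟨a, rfl⟩ := he y
      rw [← map_inv, ← map_mul, ← map_mul, Subgroup.mem_map_iff_mem e.injective,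
        Subgroup.mem_map_iff_mem e.injective, hx]
    · intro hx a
      have := hx (e.toMonoidHom a)
      rwa [← map_inv, ← map_mul, ← map_mul, Subgroup.mem_map_iff_mem e.injective,
        Subgroup.mem_map_iff_mem e.injective] at this
  rw [h']
  refine Subgroup.isCoatom_comap_of_surjective he (h _ fun hn => hH ?_)
  rw [← Subgroup.normalizer_eq_top_iff, h', Subgroup.normalizer_eq_top_iff.2 hn, Subgroup.comap_top]


/-- Let K be isomorphic to PSL(2, 13) or to SL(2, 13) and let S be a finite abelian group of order coprime to the order of K. Then in the direct product K × S every subgroup that is not normal has a normalizer that is a maximal subgroup. -/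
theorem result {K S : Type*} [Group K] [CommGroup S] [Finite K] [Finite S]
    (hK : Nonempty (K ≃* Matrix.ProjectiveSpecialLinearGroup (Fin 2) (ZMod 13)) ∨
      Nonempty (K ≃* Matrix.SpecialLinearGroup (Fin 2) (ZMod 13)))
    (hKS : (Nat.card K).Coprime (Nat.card S)) (H : Subgroup (K × S)) (hH : ¬ H.Normal) :
    IsCoatom (Subgroup.normalizer (H : Set (K × S))) := by
  have hK' : ∀ H : Subgroup K, ¬ H.Normal → IsCoatom (Subgroup.normalizer (H : Set K)) := by
    rcases hK with ⟨⟨e⟩⟩ | ⟨⟨e⟩⟩
    · exact transfer_equiv e psl_coatom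
    · exact transfer_equiv e sl_coatom
  have hfst : ∀ k s, (k, s) ∈ H → (k, (1 : S)) ∈ H := by
    intro k s hks
    obtain ⟨a, b, hab⟩ := Int.isCoprime_iff_gcd_eq_one.2
      (show Int.gcd (Nat.card K : ℤ) (Nat.card S : ℤ) = 1 from hKS)
    have h1 := zpow_mem hks (b * (Nat.card S : ℤ))
    have e : (k, s) ^ (b * (Nat.card S : ℤ)) = (k, (1 : S)) := by
      refine Prod.ext ?_ ?_
      · show k ^ (b * (Nat.card S : ℤ)) = k
        rw [show b * (Nat.card S : ℤ) = 1 + (Nat.card K : ℤ) * -a by linear_combination hab, zpow_add,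
          zpow_one, zpow_mul, zpow_natCast, pow_card_eq_one', one_zpow, mul_one]
      · show s ^ (b * (Nat.card S : ℤ)) = 1
        rw [mul_comm, zpow_mul, zpow_natCast, pow_card_eq_one', one_zpow]
    exact e ▸ h1
  set H₁ := H.map (MonoidHom.fst K S) with hH₁
  have hmem : ∀ k, k ∈ H₁ ↔ (k, (1 : S)) ∈ H := fun k =>
    ⟨fun ⟨⟨k', s⟩, h, e⟩ => by subst e; exact hfst _ _ h, fun h => ⟨_, h, rfl⟩⟩
  have hN : Subgroup.normalizer (H : Set (K × S)) =
      (Subgroup.normalizer (H₁ : Set K)).comap (MonoidHom.fst K S) := by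
    ext ⟨x, t⟩
    rw [Subgroup.mem_comap, Subgroup.mem_normalizer_iff, Subgroup.mem_normalizer_iff]
    constructor
    · intro hx k
      rw [hmem, hmem, MonoidHom.coe_fst]
      refine (hx (k, 1)).trans (iff_of_eq (congrArg (· ∈ H) (Prod.ext rfl ?_)))
      simp
    · rintro hx ⟨k, s⟩
      have e : (x, t) * (k, s) * (x, t)⁻¹ = (x * k * x⁻¹, s) := Prod.ext rfl (by
        show t * s * t⁻¹ = s
        rw [mul_comm t s, mul_inv_cancel_right])
      rw [e]
      have hs : ∀ k' s', (k', s') ∈ H → ∀ k'', (k'', (1 : S)) ∈ H → (k'', s') ∈ H := by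
        intro k' s' h' k'' h''
        have h1 := mul_mem h'' (mul_mem (inv_mem (hfst _ _ h')) h')
        simpa using h1
      constructor
      · intro h
        exact hs _ _ h _ ((hmem _).1 ((hx k).1 ((hmem _).2 (hfst _ _ h))))
      · intro h
        exact hs _ _ h _ ((hmem _).1 ((hx k).2 ((hmem _).2 (hfst _ _ h))))
  rw [hN]
  refine Subgroup.isCoatom_comap_of_surjective (fun k => ⟨(k, 1), rfl⟩) (hK' H₁ fun hn => hH ?_)
  rw [← Subgroup.normalizer_eq_top_iff, hN, Subgroup.normalizer_eq_top_iff.2 hn, Subgroup.comap_top]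

end Cfsg.Agent.S4234
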