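import Cfsg.Statements.S4236
-- import your own Cfsg.Agent.* helpers here

set_option autoImplicit false
open Cfsg
open scoped Pointwise
set_option linter.all false

namespace Cfsg.Agent.S4236

open Subgroup
open scoped commutatorElement

theorem nat_pow_eq_one_mod {p q r : ℕ} [hp : Fact p.Prime] (hq0 : q ≠ 0) (hq : (q).Coprime (p - 1))
    (h : r ^ q ≡ 1 [MOD p]) : r ≡ 1 [MOD p] := by
  rw [← ZMod.natCast_eq_natCast_iff] at h ⊢
  push_cast at h ⊢
  have hr0 : (r : ZMod p) ≠ 0 := fun h0 => by
    rw [h0, zero_pow hq0] at h; exact zero_ne_one h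
  have h1 := ZMod.pow_card_sub_one_eq_one hr0
  have h2 := pow_gcd_eq_one.2 ⟨h, h1⟩
  rwa [Nat.coprime_iff_gcd_eq_one.1 hq, pow_one] at h2

theorem conj_fix {G : Type*} [Group G] [Finite G] {u g : G} {p q : ℕ} [hp : Fact p.Prime]
    (hu : orderOf u = p) (hq0 : q ≠ 0) (hq : q.Coprime (p - 1)) (hg : g ^ q = 1)
    (hmem : g * u * g⁻¹ ∈ zpowers u) : g * u * g⁻¹ = u := by
  obtain ⟨k, hk⟩ := Submonoid.mem_powers_iff _ _ |>.1 (mem_powers_iff_mem_zpowers.2 hmem)
  have hiter : ∀ i, g ^ i * u * (g ^ i)⁻¹ = u ^ k ^ i := by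
    intro i
    induction i with
    | zero => simp
    | succ i ih =>
      rw [pow_succ' g, show g * g ^ i * u * (g * g ^ i)⁻¹ = g * (g ^ i * u * (g ^ i)⁻¹) * g⁻¹ by group,
        ih, ← conj_pow, ← hk, ← pow_mul, pow_succ']
  have h1 := hiter q
  rw [hg, one_mul, inv_one, mul_one] at h1
  have h2 : k ^ q ≡ 1 [MOD p] := by
    rw [← hu, ← pow_eq_pow_iff_modEq, pow_one, ← h1]
  have h3 := nat_pow_eq_one_mod hq0 hq h2
  rw [← hk]
  conv_rhs => rw [← pow_one u]
  rw [pow_eq_pow_iff_modEq, hu]
  exact h3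

section Core

variable {G X : Type*} [Group G] [Finite G] [MulAction G X] [FaithfulSMul G X]
  [MulAction.IsPretransitive G X] [Finite X]
variable (hX : Nat.card X = 35) (P : Sylow 17 G) (x₀ : X)
  (hfix : ∀ x : X, (∀ y ∈ (P : Subgroup G), y • x = x) → x = x₀)
  (hN : ∀ g : G, g • x₀ = x₀ ↔ g ∈ normalizer ((P : Subgroup G) : Set G))

abbrev orb (P : Sylow 17 G) (a : X) : Set X := MulAction.orbit (P : Subgroup G) a

omit [FaithfulSMul G X] [MulAction.IsPretransitive G X] in
include hX hfix in
theorem orb_card {a : X} (ha : a ≠ x₀) : Nat.card (orb P a) = 17 := by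
  haveI : Fact (Nat.Prime 17) := ⟨by norm_num⟩
  obtain ⟨n, hn⟩ := P.2.card_orbit a
  have hle : Nat.card (orb P a) ≤ 35 := by
    rw [← hX]
    exact Nat.card_le_card_of_injective _ Subtype.val_injective
  rw [show Nat.card (orb P a) = 17 ^ n from hn] at hle ⊢
  rcases n with _ | _ | n
  · exfalso
    apply ha
    refine hfix a fun y hy => ?_
    haveI : Subsingleton (orb P a) := Finite.card_le_one_iff_subsingleton.1
      (by rw [show Nat.card (orb P a) = 17 ^ 0 from hn]; norm_num)
    exact congrArg Subtype.val (Subsingleton.elim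
      (⟨_, MulAction.mem_orbit a (⟨y, hy⟩ : (P : Subgroup G))⟩ : orb P a) ⟨a, MulAction.mem_orbit_self a⟩)
  · rfl
  · exfalso
    have : 17 ^ 2 ≤ 17 ^ (n + 1 + 1) := Nat.pow_le_pow_right (by norm_num) (by omega)
    omega

omit [FaithfulSMul G X] [MulAction.IsPretransitive G X] [Finite X] in
include hN in
theorem x0_fixed {y : G} (hy : y ∈ (P : Subgroup G)) : y • x₀ = x₀ :=
  (hN y).2 (le_normalizer hy)

omit [FaithfulSMul G X] [MulAction.IsPretransitive G X] in
include hX hfix hN in
theorem two_orbits {a b c : X} (ha : a ≠ x₀) (hb : b ≠ x₀) (hc : c ≠ x₀) (hab : b ∉ orb P a)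
    (hac : c ∉ orb P a) : c ∈ orb P b := by
  classical
  haveI := Fintype.ofFinite X
  by_contra hbc
  have hd : ∀ u v : X, v ∉ orb P u → Disjoint (orb P u).toFinset (orb P v).toFinset := by
    intro u v huv
    rw [Set.disjoint_toFinset]
    exact (MulAction.orbit.eq_or_disjoint u v).resolve_left fun e =>
      huv (by rw [orb, e]; exact MulAction.mem_orbit_self v)
  have hcard : ∀ u, u ≠ x₀ → (orb P u).toFinset.card = 17 := fun u hu => by
    rw [Set.toFinset_card, ← Nat.card_eq_fintype_card, orb_card hX P x₀ hfix hu]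
  have h1 : ((orb P a).toFinset ∪ (orb P b).toFinset ∪ (orb P c).toFinset).card = 51 := by
    rw [Finset.card_union_of_disjoint, Finset.card_union_of_disjoint (hd a b hab), hcard a ha,
      hcard b hb, hcard c hc]
    exact Finset.disjoint_union_left.2 ⟨hd a c hac, hd b c hbc⟩
  have h2 := Finset.card_le_univ ((orb P a).toFinset ∪ (orb P b).toFinset ∪ (orb P c).toFinset)
  rw [h1, ← Nat.card_eq_fintype_card, hX] at h2
  omega

omit [FaithfulSMul G X] [MulAction.IsPretransitive G X] in
include hX hfix in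
theorem stab_normal {a : X} (ha : a ≠ x₀) :
    (MulAction.stabilizer (P : Subgroup G) a).index = 17 ∧ (MulAction.stabilizer (P : Subgroup G) a).Normal := by
  haveI : Fact (Nat.Prime 17) := ⟨by norm_num⟩
  have hi : (MulAction.stabilizer (P : Subgroup G) a).index = 17 := by
    rw [MulAction.index_stabilizer, ← Nat.card_coe_set_eq]
    exact orb_card hX P x₀ hfix ha
  refine ⟨hi, Subgroup.normal_of_index_eq_minFac_card ?_⟩
  rw [hi]
  obtain ⟨n, hn⟩ := IsPGroup.iff_card.1 P.2
  have hn0 : n ≠ 0 := by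
    intro h
    have := (MulAction.stabilizer (P : Subgroup G) a).index_dvd_card
    rw [hi, show Nat.card (P : Subgroup G) = 17 ^ n from hn, h] at this
    norm_num at this
  rw [show Nat.card (P : Subgroup G) = 17 ^ n from hn, Nat.pow_minFac hn0]
  norm_num

omit [MulAction.IsPretransitive G X] in
include hX hfix hN in
theorem sylow_facts : (∀ y ∈ (P : Subgroup G), y ^ 17 = 1) ∧
    (∀ y ∈ (P : Subgroup G), ∀ z ∈ (P : Subgroup G), y * z = z * y) := by
  haveI : Fact (Nat.Prime 17) := ⟨by norm_num⟩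
  refine ⟨fun y hy => eq_of_smul_eq_smul (α := X) fun a => ?_,
    fun y hy z hz => commutatorElement_eq_one_iff_mul_comm.1 (eq_of_smul_eq_smul (α := X) fun a => ?_)⟩
  · rw [one_smul]
    rcases eq_or_ne a x₀ with rfl | ha
    · exact x0_fixed P a hN (pow_mem hy _)
    obtain ⟨hi, hn⟩ := stab_normal hX P x₀ hfix ha
    haveI := hn
    have h1 := pow_index_mem (MulAction.stabilizer (P : Subgroup G) a) ⟨y, hy⟩
    rw [hi] at h1
    exact h1
  · rw [one_smul]
    rcases eq_or_ne a x₀ with rfl | ha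
    · exact x0_fixed P a hN (by
        rw [commutatorElement_def]
        exact mul_mem (mul_mem (mul_mem hy hz) (inv_mem hy)) (inv_mem hz))
    obtain ⟨hi, hn⟩ := stab_normal hX P x₀ hfix ha
    haveI := hn
    haveI : IsCyclic ((P : Subgroup G) ⧸ MulAction.stabilizer (P : Subgroup G) a) :=
      isCyclic_of_prime_card (p := 17) (by rw [← index_eq_card, hi])
    have h1 : ⁅(⟨y, hy⟩ : (P : Subgroup G)), ⟨z, hz⟩⁆ ∈ MulAction.stabilizer (P : Subgroup G) a := by
      rw [← QuotientGroup.eq_one_iff]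
      show QuotientGroup.mk' _ ⁅_, _⁆ = 1
      rw [map_commutatorElement, commutatorElement_eq_one_iff_mul_comm]
      exact IsCyclic.isMulCommutative.is_comm.comm _ _
    exact h1

omit [MulAction.IsPretransitive G X] in
include hX hfix hN in
theorem exists_pow_smul {a : X} {y : G} (hy : y ∈ (P : Subgroup G)) (hya : y • a ≠ a) {c : X}
    (hc : c ∈ orb P a) : ∃ k : ℕ, c = y ^ k • a := by
  haveI : Fact (Nat.Prime 17) := ⟨by norm_num⟩
  have ha : a ≠ x₀ := fun e => hya (e ▸ x0_fixed P x₀ hN hy)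
  obtain ⟨hi, hn⟩ := stab_normal hX P x₀ hfix ha
  haveI := hn
  obtain ⟨⟨z, hz⟩, rfl⟩ := hc
  set St := MulAction.stabilizer (P : Subgroup G) a
  have hne : QuotientGroup.mk' St ⟨y, hy⟩ ≠ 1 := fun h => hya ((QuotientGroup.eq_one_iff _).1 h)
  obtain ⟨k, hk⟩ := Submonoid.mem_powers_iff _ _ |>.1
    (mem_powers_of_prime_card (p := 17) (by rw [← index_eq_card, hi]) hne
      (g' := QuotientGroup.mk' St ⟨z, hz⟩))
  rw [← map_pow] at hk
  have h1 : ((⟨y, hy⟩ : (P : Subgroup G)) ^ k)⁻¹ * ⟨z, hz⟩ ∈ St := QuotientGroup.eq.1 hk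
  have h2 : ((y ^ k)⁻¹ * z) • a = a := h1
  refine ⟨k, ?_⟩
  show z • a = y ^ k • a
  rwa [mul_smul, inv_smul_eq_iff] at h2

omit [MulAction.IsPretransitive G X] in
include hX hfix hN in
/-- An element of the stabiliser of order prime to `2·17` is trivial. -/
theorem eq_one_of_coprime {g : G} (hg : g • x₀ = x₀) {q : ℕ} (hq : q.Prime) (hq2 : q ≠ 2)
    (hq17 : q ≠ 17) (hgq : g ^ q = 1) : g = 1 := by
  haveI : Fact (Nat.Prime 17) := ⟨by norm_num⟩
  obtain ⟨hexp, hcomm⟩ := sylow_facts hX P x₀ hfix hN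
  have hgN := (hN g).1 hg
  refine eq_of_smul_eq_smul (α := X) fun a => ?_
  rw [one_smul]
  rcases eq_or_ne a x₀ with rfl | ha
  · exact hg
  have hne : ∀ {c : X}, c ≠ x₀ → g • c ≠ x₀ := fun {c} hc e =>
    hc (smul_left_cancel g (e.trans hg.symm))
  have hmap : ∀ {u v : X}, v ∈ orb P u → g • v ∈ orb P (g • u) := by
    rintro u _ ⟨⟨z, hz⟩, rfl⟩
    refine ⟨⟨g * z * g⁻¹, (mem_normalizer_iff.1 hgN z).1 hz⟩, ?_⟩
    show (g * z * g⁻¹) • g • u = g • z • u
    rw [smul_smul, smul_smul, inv_mul_cancel_right]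
  have hga : g • a ∈ orb P a := by
    by_contra hnot
    have h2 : g • g • a ∈ orb P a := by
      by_contra h2
      have h3 := two_orbits hX P x₀ hfix hN ha (hne ha) (hne (hne ha)) hnot h2
      have h4 := hmap (u := g⁻¹ • g • a) (v := g⁻¹ • g • a) (MulAction.mem_orbit_self _)
      have h5 : MulAction.orbit (P : Subgroup G) (g • g • a) = MulAction.orbit (P : Subgroup G) (g • a) :=
        MulAction.orbit_eq_iff.2 h3
      have hgn := inv_mem hgN
      have h6 : g • a ∈ orb P a := by
        obtain ⟨⟨z, hz⟩, hz'⟩ := h3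
        refine ⟨⟨g⁻¹ * z * g, by simpa using (mem_normalizer_iff.1 hgn z).1 hz⟩, ?_⟩
        show (g⁻¹ * z * g) • a = g • a
        rw [mul_smul, mul_smul, show z • g • a = g • g • a from hz', inv_smul_smul]
      exact hnot h6
    have h2' : ∀ i : ℕ, (g * g) ^ i • a ∈ orb P a := by
      intro i
      induction i with
      | zero => rw [pow_zero, one_smul]; exact MulAction.mem_orbit_self a
      | succ i ih =>
        have h3 := hmap (hmap ih)
        rw [pow_succ', mul_smul, mul_smul]
        rw [show orb P (g • g • a) = orb P a from MulAction.orbit_eq_iff.2 h2] at h3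
        exact h3
    obtain ⟨i, hi⟩ := (hq.eq_two_or_odd'.resolve_left hq2)
    have := h2' (i + 1)
    rw [← pow_two, ← pow_mul, show 2 * (i + 1) = q + 1 by omega, pow_succ, hgq, one_mul] at this
    exact hnot this
  obtain ⟨y, hy, hya⟩ : ∃ y ∈ (P : Subgroup G), y • a ≠ a := by
    by_contra hcon
    push Not at hcon
    exact ha (hfix a hcon)
  obtain ⟨z₁, hz₁⟩ := exists_pow_smul hX P x₀ hfix hN hy hya hga
  obtain ⟨r, hr⟩ := exists_pow_smul hX P x₀ hfix hN hy hya
    (MulAction.mem_orbit a (⟨g * y * g⁻¹, (mem_normalizer_iff.1 hgN y).1 hy⟩ : (P : Subgroup G)))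
  change (g * y * g⁻¹) • a = y ^ r • a at hr
  have hact : ∀ i : ℕ, g • y ^ i • a = y ^ (r * i + z₁) • a := by
    intro i
    induction i with
    | zero => simpa using hz₁
    | succ i ih =>
      have hk : ∀ k, (g * y * g⁻¹) • y ^ k • a = y ^ (r + k) • a := fun k => by
        rw [smul_smul, hcomm _ ((mem_normalizer_iff.1 hgN y).1 hy) _ (pow_mem hy k), mul_smul, hr,
          smul_smul, ← pow_add, Nat.add_comm]
      have e : g • y ^ (i + 1) • a = (g * y * g⁻¹) • g • y ^ i • a := by
        rw [pow_succ', mul_smul, smul_smul (g * y * g⁻¹) g, inv_mul_cancel_right, mul_smul]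
      rw [e, ih, hk]
      congr 2; ring
  have hy17 : orderOf y = 17 := orderOf_eq_prime (hexp y hy) fun e => hya (by rw [e, one_smul])
  have hmod : ∀ u v : ℕ, y ^ u • a = y ^ v • a → u ≡ v [MOD 17] := by
    have key : ∀ d : ℕ, y ^ d • a = a → d ≡ 0 [MOD 17] := by
      intro d hd
      rw [Nat.modEq_zero_iff_dvd]
      by_contra hnd
      have hc : d.Coprime (orderOf y) := by
        rw [hy17]; exact ((Nat.Prime.coprime_iff_not_dvd (by norm_num)).2 hnd).symm
      obtain ⟨m, hm⟩ := exists_pow_eq_self_of_coprime hc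
      apply hya
      rw [← hm]
      exact (pow_mem (MulAction.mem_stabilizer_iff.2 hd : y ^ d ∈ MulAction.stabilizer G a) m)
    intro u v h
    rcases Nat.le_total u v with hle | hle
    · obtain ⟨d, rfl⟩ := Nat.exists_eq_add_of_le hle
      rw [pow_add, mul_smul] at h
      have := (key d (smul_left_cancel _ h.symm)).add_left u
      simpa using this.symm
    · obtain ⟨d, rfl⟩ := Nat.exists_eq_add_of_le hle
      rw [pow_add, mul_smul] at h
      have := (key d (smul_left_cancel _ h)).add_left v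
      simpa using this
  have hiter : ∀ n i : ℕ, g ^ n • y ^ i • a = y ^ (r ^ n * i + z₁ * ∑ j ∈ Finset.range n, r ^ j) • a := by
    intro n
    induction n with
    | zero => intro i; simp
    | succ n ih =>
      intro i
      rw [pow_succ', mul_smul, ih, hact]
      congr 2
      rw [Finset.sum_range_succ', pow_zero]
      simp only [pow_succ, ← Finset.sum_mul]
      ring
  have h0 := hmod _ _ ((hiter q 0).symm.trans (show g ^ q • y ^ 0 • a = y ^ 0 • a by rw [hgq, one_smul]))
  have h1 := hmod _ _ ((hiter q 1).symm.trans (show g ^ q • y ^ 1 • a = y ^ 1 • a by rw [hgq, one_smul]))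
  simp only [mul_zero, zero_add, mul_one] at h0 h1
  have hrq : r ^ q ≡ 1 [MOD 17] :=
    Nat.ModEq.add_right_cancel h0 (by simpa using h1)
  have hq16 : q.Coprime (17 - 1) := by
    rw [show 17 - 1 = 2 ^ 4 by norm_num]
    exact Nat.Coprime.pow_right 4 ((Nat.coprime_primes hq Nat.prime_two).2 hq2)
  have hr1 := nat_pow_eq_one_mod hq.ne_zero hq16 hrq
  have hsum : ∑ j ∈ Finset.range q, r ^ j ≡ q [MOD 17] := by
    rw [← ZMod.natCast_eq_natCast_iff] at hr1 ⊢
    push_cast at hr1 ⊢
    rw [hr1]; simp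
  have hz0 : 17 ∣ z₁ := by
    have h2 := ((Nat.ModEq.mul_left z₁ hsum).symm.trans h0)
    rw [Nat.modEq_zero_iff_dvd] at h2
    exact ((Nat.Prime.dvd_mul (by norm_num)).1 h2).resolve_right fun h =>
      hq17 ((Nat.prime_dvd_prime_iff_eq (by norm_num) hq).1 h).symm
  obtain ⟨m, rfl⟩ := hz0
  rw [hz₁, pow_mul, hexp y hy, one_pow, one_smul]

omit [MulAction.IsPretransitive G X] in
include hX hfix hN in
theorem eq_one_of_fix_pair {g a b : _} (hg : g ∈ (P : Subgroup G)) (ha : (a : X) ≠ x₀) (hb : b ≠ x₀)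
    (hab : b ∉ orb P a) (hga : g • a = a) (hgb : g • b = b) : g = 1 := by
  obtain ⟨-, hcomm⟩ := sylow_facts hX P x₀ hfix hN
  refine eq_of_smul_eq_smul (α := X) fun c => ?_
  rw [one_smul]
  rcases eq_or_ne c x₀ with rfl | hc
  · exact x0_fixed P c hN hg
  have key : ∀ u, g • u = u → c ∈ orb P u → g • c = c := by
    rintro u hu ⟨⟨z, hz⟩, rfl⟩
    show g • z • u = z • u
    rw [smul_smul, hcomm g hg z hz, mul_smul, hu]
  by_cases hca : c ∈ orb P a
  · exact key a hga hca
  · exact key b hgb (two_orbits hX P x₀ hfix hN ha hb hc hab hca)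

include hX hfix hN in
theorem core : False := by
  classical
  haveI : Fact (Nat.Prime 17) := ⟨by norm_num⟩
  haveI := Fintype.ofFinite X
  obtain ⟨hexp, hcomm⟩ := sylow_facts hX P x₀ hfix hN
  set N := MulAction.stabilizer G x₀ with hNdef
  have hPN : (P : Subgroup G) ≤ N := fun y hy => x0_fixed P x₀ hN hy
  have hNi : N.index = 35 := by
    rw [hNdef, MulAction.index_stabilizer_of_transitive, hX]
  have hNprimes : ∀ q : ℕ, q.Prime → q ∣ Nat.card N → q = 2 ∨ q = 17 := by
    intro q hq hd
    by_contra hcon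
    push Not at hcon
    haveI := Fact.mk hq
    obtain ⟨g, hg⟩ := exists_prime_orderOf_dvd_card' q hd
    have h1 : (g : G) = 1 := eq_one_of_coprime hX P x₀ hfix hN g.2 hq hcon.1 hcon.2 (by
      rw [← SubmonoidClass.coe_pow, ← hg, pow_orderOf_eq_one]; rfl)
    rw [show g = 1 from Subtype.ext h1, orderOf_one] at hg
    exact hq.ne_one hg.symm
  have hprimes : ∀ q : ℕ, q.Prime → q ∣ Nat.card G → q = 2 ∨ q = 17 ∨ q = 5 ∨ q = 7 := by
    intro q hq hd
    rw [← N.card_mul_index, hNi] at hd
    rcases hq.dvd_mul.1 hd with h | h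
    · rcases hNprimes q hq h with h | h
      · exact Or.inl h
      · exact Or.inr (Or.inl h)
    · rw [show 35 = 5 * 7 by norm_num] at h
      rcases hq.dvd_mul.1 h with h | h
      · exact Or.inr (Or.inr (Or.inl ((Nat.prime_dvd_prime_iff_eq hq (by norm_num)).1 h)))
      · exact Or.inr (Or.inr (Or.inr ((Nat.prime_dvd_prime_iff_eq hq (by norm_num)).1 h)))
  obtain ⟨a, ha⟩ : ∃ a : X, a ≠ x₀ := by
    haveI : Nontrivial X := Finite.one_lt_card_iff_nontrivial.1 (by omega)
    exact exists_ne x₀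
  obtain ⟨b, hb, hab⟩ : ∃ b : X, b ≠ x₀ ∧ b ∉ orb P a := by
    by_contra hcon
    push Not at hcon
    have h1 : (Finset.univ : Finset X) ⊆ insert x₀ (orb P a).toFinset := fun c _ => by
      rcases eq_or_ne c x₀ with h | h
      · exact Finset.mem_insert.2 (Or.inl h)
      · exact Finset.mem_insert.2 (Or.inr (Set.mem_toFinset.2 (hcon c h)))
    have h2 := (Finset.card_le_card h1).trans (Finset.card_insert_le _ _)
    rw [Finset.card_univ, ← Nat.card_eq_fintype_card, hX, Set.toFinset_card,
      ← Nat.card_eq_fintype_card, orb_card hX P x₀ hfix ha] at h2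
    omega
  have hP17 : Nat.card (P : Subgroup G) = 17 := by
    obtain ⟨hi, hn⟩ := stab_normal hX P x₀ hfix ha
    set D := MulAction.stabilizer (P : Subgroup G) a with hD
    by_contra hne
    have hDne : D ≠ ⊥ := fun h => hne (by
      have h0 := hi
      rw [h, index_bot] at h0
      exact h0)
    obtain ⟨⟨d, hd⟩, hdD, hd1⟩ := (D.ne_bot_iff_exists_ne_one.1 hDne).elim
      fun d hd => (⟨d.1, d.2, fun e => hd (Subtype.ext e)⟩ : ∃ d, d ∈ D ∧ d ≠ 1)
    have hd1' : d ≠ 1 := fun e => hd1 (Subtype.ext e)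
    have hda : d • a = a := hdD
    obtain ⟨g, hga⟩ := MulAction.exists_smul_eq G x₀ a
    have hdQ : g⁻¹ * d * g ∈ (P : Subgroup G) := by
      have h1 : g⁻¹ * d * g ∈ normalizer ((P : Subgroup G) : Set G) := (hN _).1 (by
        rw [mul_smul, mul_smul, hga, hda, ← hga, inv_smul_smul])
      by_contra hcon
      set u := g⁻¹ * d * g with hu
      have hu17 : u ^ 17 = 1 := by
        have := conj_pow (a := g⁻¹) (b := d) (i := 17)
        rw [inv_inv] at this
        rw [hu, this, hexp d hd]; group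
      have hp : IsPGroup 17 (zpowers u) := IsPGroup.of_card (n := 1) (by
        rw [Nat.card_zpowers, pow_one]
        exact orderOf_eq_prime hu17 fun e => hcon (e ▸ one_mem _))
      have hsup : IsPGroup 17 ((P : Subgroup G) ⊔ zpowers u : Subgroup G) :=
        IsPGroup.to_sup_of_normal_left' P.2 hp (zpowers_le.2 h1)
      exact hcon ((P.3 hsup le_sup_left).le (mem_sup_right (mem_zpowers u)))
    set C := centralizer ({d} : Set G) with hC
    have hCP : ∀ y ∈ (P : Subgroup G), y ∈ C := fun y hy => by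
      rw [hC, mem_centralizer_singleton_iff]; exact hcomm y hy d hd
    have hCQ : ∀ y ∈ (P : Subgroup G), g * y * g⁻¹ ∈ C := fun y hy => by
      rw [hC, mem_centralizer_singleton_iff]
      have h2 := hcomm y hy _ hdQ
      rw [show g * y * g⁻¹ * d = g * (y * (g⁻¹ * d * g)) * g⁻¹ by group, h2]; group
    have hsub : MulAction.orbit C x₀ ⊆ {c | d • c = c} := by
      rintro _ ⟨⟨w, hw⟩, rfl⟩
      show d • w • x₀ = w • x₀
      rw [hC, mem_centralizer_singleton_iff] at hw
      rw [smul_smul, ← hw, mul_smul, x0_fixed P x₀ hN hd]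
    have hfix' : {c | d • c = c} ⊆ insert x₀ (orb P a) := by
      intro c hc
      rcases eq_or_ne c x₀ with h | h
      · exact Or.inl h
      · refine Or.inr ?_
        by_contra hca
        exact hd1' (eq_one_of_fix_pair hX P x₀ hfix hN hd ha h hca hda hc)
    obtain ⟨y, hy, hyx⟩ : ∃ y ∈ (P : Subgroup G), (g * y * g⁻¹) • x₀ ≠ x₀ := by
      by_contra hcon
      push Not at hcon
      apply ha
      have h1 : g⁻¹ • x₀ = x₀ := hfix _ fun y hy => by
        have := congrArg (g⁻¹ • ·) (hcon y hy)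
        simpa [mul_smul] using this
      rw [← hga]
      nth_rewrite 1 [← h1]
      rw [smul_inv_smul]
    have hsub2 : insert x₀ (orb P a) ⊆ MulAction.orbit C x₀ := by
      have h0 : (g * y * g⁻¹) • x₀ ∈ MulAction.orbit C x₀ :=
        MulAction.mem_orbit x₀ (⟨_, hCQ y hy⟩ : C)
      have h1 : (g * y * g⁻¹) • x₀ ∈ orb P a :=
        (hfix' (hsub h0)).resolve_left hyx
      rintro c (rfl | hc)
      · exact MulAction.mem_orbit_self c
      · rw [← show orb P ((g * y * g⁻¹) • x₀) = orb P a from MulAction.orbit_eq_iff.2 h1] at hc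
        obtain ⟨⟨z, hz⟩, rfl⟩ := hc
        show z • (g * y * g⁻¹) • x₀ ∈ _
        rw [smul_smul]
        exact MulAction.mem_orbit x₀ (⟨_, mul_mem (hCP z hz) (hCQ y hy)⟩ : C)
    have h18 : (MulAction.orbit C x₀).ncard = 18 := by
      rw [Set.Subset.antisymm (hsub.trans hfix') hsub2, Set.ncard_insert_of_notMem ?_,
        ← Nat.card_coe_set_eq, orb_card hX P x₀ hfix ha]
      intro h
      have h2 := MulAction.orbit_eq_iff.2 h
      have h3 : a ∈ MulAction.orbit (P : Subgroup G) x₀ := h2 ▸ MulAction.mem_orbit_self a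
      obtain ⟨⟨z, hz⟩, hz'⟩ := h3
      exact ha ((show z • x₀ = a from hz').symm.trans (x0_fixed P x₀ hN hz))
    rw [← MulAction.index_stabilizer] at h18
    have h3 : 3 ∣ Nat.card G := (dvd_trans (by norm_num : 3 ∣ 18) (h18 ▸ index_dvd_card _)).trans
      (card_subgroup_dvd_card C)
    rcases hprimes 3 Nat.prime_three h3 with h | h | h | h <;> omega
  haveI : Fact (Nat.Prime 2) := ⟨Nat.prime_two⟩
  obtain ⟨S₀⟩ : Nonempty (Sylow 2 N) := inferInstance
  set S : Subgroup G := (S₀ : Subgroup N).map N.subtype with hS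
  have hSN : S ≤ N := map_subtype_le _
  have hS2 : IsPGroup 2 S := S₀.2.map _
  have hSidx : ¬ 2 ∣ S.index := by
    rw [hS, index_map_subtype]
    intro h
    rw [hNi] at h
    rcases Nat.prime_two.dvd_mul.1 h with h | h
    · exact S₀.not_dvd_index h
    · norm_num at h
  let SG : Sylow 2 G := hS2.toSylow hSidx
  obtain ⟨y, hyP, hy1⟩ := (P : Subgroup G).ne_bot_iff_exists_ne_one.1 (fun h => by
    rw [h, card_bot] at hP17; norm_num at hP17) |>.elim
    fun y hy => (⟨y.1, y.2, fun e => hy (Subtype.ext e)⟩ : ∃ y ∈ (P : Subgroup G), y ≠ 1)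
  have hy17 : orderOf y = 17 := orderOf_eq_prime (hexp y hyP) hy1
  have hPy : (P : Subgroup G) = zpowers y :=
    (eq_of_le_of_card_ge (zpowers_le.2 hyP) (by rw [Nat.card_zpowers, hy17, hP17])).symm
  have hya : y • a ≠ a := fun h => by
    apply ha
    refine hfix a fun z hz => ?_
    rw [hPy] at hz
    exact (zpowers_le.2 (MulAction.mem_stabilizer_iff.2 h)) hz
  let θ : S →* MulAut (P : Subgroup G) :=
    { toFun := fun s => (P : Subgroup G).normalizerMonoidHom ⟨s, (hN s).1 (hSN s.2)⟩
      map_one' := map_one ((P : Subgroup G).normalizerMonoidHom)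
      map_mul' := fun u v => map_mul ((P : Subgroup G).normalizerMonoidHom) ⟨_, (hN u).1 (hSN u.2)⟩ ⟨_, (hN v).1 (hSN v.2)⟩ }
  have hker : ∀ s : S, s ∈ θ.ker → ∀ z ∈ (P : Subgroup G), (s : G) * z = z * s := by
    intro s hs z hz
    have h1 : θ s ⟨z, hz⟩ = ⟨z, hz⟩ := by rw [MonoidHom.mem_ker.1 hs]; rfl
    have h2 : (s : G) * z * (s : G)⁻¹ = z := congrArg Subtype.val h1
    exact mul_inv_eq_iff_eq_mul.1 h2
  have hpres : ∀ s : S, s ∈ θ.ker → (s : G) • a ∈ orb P a → s = 1 := by
    intro s hs hsa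
    have hfixorb : ∀ c, c ≠ x₀ → (s : G) • c ∈ orb P c → (s : G) • c = c := by
      intro c hc hsc
      obtain ⟨⟨z, hz⟩, hz'⟩ := hsc
      have hz'' : z • c = (s : G) • c := hz'
      have hit : ∀ i : ℕ, (s : G) ^ i • c = z ^ i • c := by
        intro i
        induction i with
        | zero => simp
        | succ i ih =>
          rw [pow_succ', mul_smul, ih, smul_smul, hker s hs _ (pow_mem hz i), mul_smul, ← hz'',
            smul_smul, ← pow_succ]
      obtain ⟨k, hk⟩ := hS2 s
      have hk' : (s : G) ^ 2 ^ k = 1 := congrArg Subtype.val hk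
      have h1 := hit (2 ^ k)
      rw [hk', one_smul] at h1
      have hc2 : (2 ^ k).Coprime (orderOf z) :=
        Nat.Coprime.coprime_dvd_right (orderOf_dvd_of_pow_eq_one (hexp z hz))
          (Nat.Coprime.pow_left k (by norm_num))
      obtain ⟨m, hm⟩ := exists_pow_eq_self_of_coprime hc2
      rw [← hz'', ← hm]
      exact pow_mem (MulAction.mem_stabilizer_iff.2 h1.symm : z ^ 2 ^ k ∈ MulAction.stabilizer G c) m
    have hsx : (s : G) • x₀ = x₀ := hSN s.2
    refine Subtype.ext (eq_of_smul_eq_smul (α := X) fun c => ?_)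
    rw [OneMemClass.coe_one, one_smul]
    rcases eq_or_ne c x₀ with rfl | hc
    · exact hsx
    refine hfixorb c hc ?_
    have hkey : ∀ v, v ∈ orb P a → (s : G) • v ∈ orb P a := by
      rintro _ ⟨⟨z, hz⟩, rfl⟩
      show (s : G) • z • a ∈ _
      rw [smul_smul, hker s hs z hz, mul_smul]
      obtain ⟨⟨w, hw⟩, hw'⟩ := hsa
      exact ⟨⟨z * w, mul_mem hz hw⟩, by show (z * w) • a = _; rw [mul_smul]; exact congrArg _ hw'⟩
    by_cases hca : c ∈ orb P a
    · rw [show orb P c = orb P a from MulAction.orbit_eq_iff.2 hca]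
      exact hkey c hca
    · refine two_orbits hX P x₀ hfix hN ha hc (fun e => hc (smul_left_cancel _ (e.trans hsx.symm))) hca
        fun h => hca ?_
      have hback : ∀ i : ℕ, (s : G) ^ i • (s : G) • c ∈ orb P a := by
        intro i
        induction i with
        | zero => simpa using h
        | succ i ih => rw [pow_succ', mul_smul]; exact hkey _ ih
      have h5 := hback (orderOf (s : G) - 1)
      rwa [smul_smul, ← pow_succ, Nat.sub_add_cancel (orderOf_pos (s : G)), pow_orderOf_eq_one,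
        one_smul] at h5
  have hker2 : ∀ s t : S, s ∈ θ.ker → t ∈ θ.ker → s ≠ 1 → t ≠ 1 → s = t := by
    intro s t hs ht hs1 ht1
    have hne : ∀ u : S, u ≠ 1 → (u : G) • a ≠ x₀ := fun u _ e =>
      ha (smul_left_cancel (u : G) (e.trans (hSN u.2).symm))
    have h1 := two_orbits hX P x₀ hfix hN ha (hne s hs1) (hne t ht1)
      (fun h => hs1 (hpres s hs h)) (fun h => ht1 (hpres t ht h))
    obtain ⟨⟨z, hz⟩, hz'⟩ := h1
    have h2 : (s : G)⁻¹ • (t : G) • a ∈ orb P a := by
      refine ⟨⟨z, hz⟩, ?_⟩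
      show z • a = _
      rw [← show z • (s : G) • a = (t : G) • a from hz', smul_smul, smul_smul,
        mul_assoc, ← hker s hs z hz, inv_mul_cancel_left]
    have h3 := hpres (s⁻¹ * t) (mul_mem (inv_mem hs) ht) (by
      show ((s : G)⁻¹ * (t : G)) • a ∈ _
      rw [mul_smul]; exact h2)
    exact inv_mul_eq_one.1 h3
  have hkc : θ.ker ≤ center S := by
    intro s hs
    rw [mem_center_iff]
    intro u
    rcases eq_or_ne s 1 with rfl | hs1
    · simp
    have h1 := hker2 (u * s * u⁻¹) s ((inferInstance : θ.ker.Normal).conj_mem s hs u) hs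
      (fun e => hs1 (conj_eq_one_iff.1 e)) hs1
    exact mul_inv_eq_iff_eq_mul.1 h1
  haveI : IsCyclic (MulAut (P : Subgroup G)) := by
    haveI : IsCyclic (P : Subgroup G) := isCyclic_of_prime_card (p := 17) hP17
    let e := IsCyclic.mulAutMulEquiv (P : Subgroup G)
    rw [hP17] at e
    exact isCyclic_of_surjective e.symm e.symm.surjective
  haveI : IsCyclic θ.range := inferInstance
  obtain ⟨⟨_, s₀, rfl⟩, hs₀⟩ := IsCyclic.exists_generator (α := θ.range)
  have hrepr : ∀ s : S, ∃ (c : S) (i : ℤ), c ∈ θ.ker ∧ s = c * s₀ ^ i := by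
    intro s
    obtain ⟨i, hi⟩ := mem_zpowers_iff.1 (hs₀ ⟨θ s, s, rfl⟩)
    have hi' : θ s₀ ^ i = θ s := by
      have := congrArg Subtype.val hi
      rwa [SubgroupClass.coe_zpow] at this
    exact ⟨s * (s₀ ^ i)⁻¹, i, by rw [MonoidHom.mem_ker, map_mul, map_inv, map_zpow, hi', mul_inv_cancel],
      by group⟩
  haveI hScomm : IsMulCommutative S := by
    refine ⟨⟨fun u v => ?_⟩⟩
    obtain ⟨c, i, hc, rfl⟩ := hrepr u
    obtain ⟨d, j, hd, rfl⟩ := hrepr v
    have h1 := mem_center_iff.1 (hkc hc)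
    have h2 := mem_center_iff.1 (hkc hd)
    show c * s₀ ^ i * (d * s₀ ^ j) = d * s₀ ^ j * (c * s₀ ^ i)
    exact ((((show Commute c d from (h1 d).symm)).mul_right (show Commute c (s₀ ^ j) from (h1 _).symm)).mul_left
      ((show Commute (s₀ ^ i) d from h2 _).mul_right ((Commute.refl s₀).zpow_zpow i j))).eq
  have hk2 : ∀ c : S, c ∈ θ.ker → c * c = 1 := by
    intro c hc
    by_contra h
    have hc1 : c ≠ 1 := fun e => h (by rw [e, one_mul])
    have h1 := hker2 (c * c) c (mul_mem hc hc) hc h hc1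
    exact hc1 (mul_eq_left.1 h1)
  have hsylow : normalizer ((SG : Subgroup G) : Set G) ≤ centralizer ((SG : Subgroup G) : Set G) := by
    show normalizer (S : Set G) ≤ centralizer (S : Set G)
    intro g hg
    set Cn := (centralizer (S : Set G)).subgroupOf (normalizer (S : Set G)) with hCn
    haveI : Cn.Normal := by
      rw [hCn, ← Subgroup.normalizerMonoidHom_ker]
      infer_instance
    have hSC : S.subgroupOf (normalizer (S : Set G)) ≤ Cn := fun w hw => by
      show (w : G) ∈ centralizer (S : Set G)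
      exact mem_centralizer_iff.2 fun v hv =>
        congrArg Subtype.val (hScomm.is_comm.comm (⟨v, hv⟩ : S) ⟨w, hw⟩)
    suffices hCn1 : Cn = ⊤ from (hCn1.ge (mem_top (⟨g, hg⟩ : normalizer (S : Set G))))
    by_contra hne
    obtain ⟨q, hq, hqd⟩ := Nat.exists_prime_and_dvd (fun h => hne (index_eq_one.1 h) : Cn.index ≠ 1)
    have hq2 : q ≠ 2 := by
      rintro rfl
      apply hSidx
      refine hqd.trans ((index_dvd_of_le hSC).trans ?_)
      exact relIndex_dvd_index_of_le le_normalizer
    haveI := Fact.mk hq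
    obtain ⟨w, hw⟩ := exists_prime_orderOf_dvd_card' (G := (normalizer (S : Set G)) ⧸ Cn) q
      (by rwa [← index_eq_card])
    obtain ⟨⟨g, hgn⟩, rfl⟩ := QuotientGroup.mk_surjective w
    have hg' : (⟨g, hgn⟩ : normalizer (S : Set G)) ∉ Cn := fun h => by
      rw [(QuotientGroup.eq_one_iff _).2 h, orderOf_one] at hw
      exact hq.ne_one hw.symm
    have hgq : g ^ q ∈ centralizer (S : Set G) := by
      have h1 := pow_orderOf_eq_one ((⟨g, hgn⟩ : normalizer (S : Set G)) : _ ⧸ Cn)
      rw [hw, ← QuotientGroup.mk_pow] at h1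
      have h2 := (QuotientGroup.eq_one_iff (N := Cn) ((⟨g, hgn⟩ : normalizer (S : Set G)) ^ q)).1 h1
      exact h2
    have hq5 : q = 5 ∨ q = 7 ∨ q = 17 := by
      rcases hprimes q hq ((hqd.trans (index_dvd_card Cn)).trans (card_subgroup_dvd_card _)) with h | h | h | h
      · exact absurd h hq2
      · exact Or.inr (Or.inr h)
      · exact Or.inl h
      · exact Or.inr (Or.inl h)
    apply hg'
    show g ∈ centralizer (S : Set G)
    let τ : MulAut S := S.normalizerMonoidHom ⟨g, hgn⟩
    have hτq : τ ^ q = 1 := by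
      rw [← map_pow]
      refine MulEquiv.ext fun v => Subtype.ext ?_
      show g ^ q * (v : G) * (g ^ q)⁻¹ = v
      rw [mul_inv_eq_iff_eq_mul]
      exact (mem_centralizer_iff.1 hgq v v.2).symm
    open scoped IsMulCommutative in
    let sq : S →* S := powMonoidHom 2
    have hsq : ∀ v : S, sq v = v ^ 2 := fun v => rfl
    have hrange : ∀ v : S, v ∈ sq.range → ∃ i : ℤ, v = (s₀ ^ 2) ^ i := by
      rintro _ ⟨v, rfl⟩
      obtain ⟨c, i, hc, rfl⟩ := hrepr v
      refine ⟨i, ?_⟩
      rw [hsq, (show Commute c (s₀ ^ i) from (mem_center_iff.1 (hkc hc) _).symm).mul_pow, pow_two c,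
        hk2 c hc, one_mul, ← zpow_natCast (s₀ ^ i), ← zpow_natCast s₀ 2, ← zpow_mul, ← zpow_mul, mul_comm]
    have hτs : τ (s₀ ^ 2) = s₀ ^ 2 := by
      obtain ⟨k, hk⟩ := IsPGroup.iff_orderOf.1 hS2 (s₀ ^ 2)
      have hmem : τ (s₀ ^ 2) ∈ zpowers (s₀ ^ 2) := by
        obtain ⟨i, hi⟩ := hrange (τ (s₀ ^ 2)) ⟨τ s₀, by rw [hsq, map_pow]⟩
        rw [hi]; exact zpow_mem_zpowers _ i
      obtain ⟨r, hr⟩ := Submonoid.mem_powers_iff _ _ |>.1 (mem_powers_iff_mem_zpowers.2 hmem)
      have hit : ∀ n : ℕ, (τ ^ n) (s₀ ^ 2) = (s₀ ^ 2) ^ r ^ n := by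
        intro n
        induction n with
        | zero => simp
        | succ n ih => rw [pow_succ', MulAut.mul_apply, ih, map_pow, ← hr, ← pow_mul, pow_succ' r n]
      have h1 := hit q
      rw [hτq, MulAut.one_apply] at h1
      have h2 : (r : ZMod (2 ^ k)) ^ q = 1 := by
        have h1' : (s₀ ^ 2) ^ r ^ q = (s₀ ^ 2) ^ 1 := by rw [pow_one]; exact h1.symm
        rw [pow_eq_pow_iff_modEq, hk, ← ZMod.natCast_eq_natCast_iff] at h1'
        simpa using h1'
      have h3 : (r : ZMod (2 ^ k)) = 1 := by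
        obtain ⟨w, hwr⟩ := IsUnit.of_pow_eq_one h2 hq.ne_zero
        have hw1 : w ^ q = 1 := Units.ext (by rw [Units.val_pow_eq_pow_val, hwr]; simpa using h2)
        have hc : orderOf w = 1 := by
          have h5 := orderOf_dvd_of_pow_eq_one hw1
          have h6 : orderOf w ∣ 2 ^ k := by
            refine (orderOf_dvd_natCard w).trans ?_
            rw [Nat.card_eq_fintype_card, ZMod.card_units_eq_totient]
            rcases Nat.eq_zero_or_pos k with rfl | hk0
            · simp
            · rw [Nat.totient_prime_pow Nat.prime_two hk0]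
              exact Dvd.dvd.trans (by simp) (pow_dvd_pow 2 (Nat.sub_le k 1))
          exact Nat.dvd_one.1 ((Nat.coprime_iff_gcd_eq_one.1
            (Nat.Coprime.pow_right k ((Nat.coprime_primes hq Nat.prime_two).2 hq2))) ▸ Nat.dvd_gcd h5 h6)
        rw [orderOf_eq_one_iff] at hc
        rw [← hwr, hc, Units.val_one]
      conv_rhs => rw [← pow_one (s₀ ^ 2)]
      rw [← hr, pow_eq_pow_iff_modEq, hk, ← ZMod.natCast_eq_natCast_iff]
      simpa using h3
    have hfixR : ∀ v : S, v ∈ sq.range → τ v = v := fun v hv => by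
      obtain ⟨i, rfl⟩ := hrange v hv
      rw [map_zpow, hτs]
    haveI : sq.range.Normal := ⟨fun v hv u => by
      rw [show u * v * u⁻¹ = v by rw [hScomm.is_comm.comm u v, mul_inv_cancel_right]]; exact hv⟩
    have hidx4 : Nat.card (S ⧸ sq.range) ≤ 4 := by
      have h1 : sq.range.index = Nat.card sq.ker := by
        have e1 := sq.range.card_mul_index
        have e2 := sq.ker.card_mul_index
        rw [index_ker] at e2
        have := Nat.card_pos (α := sq.range)
        exact Nat.eq_of_mul_eq_mul_left this (e1.trans (e2.symm.trans (mul_comm _ _)))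
      rw [← index_eq_card, h1]
      let f : sq.ker → MulAut (P : Subgroup G) := fun v => θ v
      have hu : ∀ v : sq.ker, (θ v) ^ 2 = 1 := fun v => by
        rw [← map_pow, show (v : S) ^ 2 = 1 from v.2, map_one]
      classical
      haveI := Fintype.ofFinite sq.ker
      haveI := Fintype.ofFinite (MulAut (P : Subgroup G))
      rw [Nat.card_eq_fintype_card, ← Finset.card_univ]
      refine (Finset.card_le_mul_card_image (f := f) Finset.univ 2 (fun b _ => ?_)).trans ?_
      · by_contra hcon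
        push Not at hcon
        obtain ⟨u, hu', v, hv', w, hw', huv, huw, hvw⟩ := Finset.two_lt_card.1 hcon
        simp only [Finset.mem_filter, Finset.mem_univ, true_and, f] at hu' hv' hw'
        have h1 : (u : S)⁻¹ * v ∈ θ.ker := by
          rw [MonoidHom.mem_ker, map_mul, map_inv, hu', hv', inv_mul_cancel]
        have h2 : (u : S)⁻¹ * w ∈ θ.ker := by
          rw [MonoidHom.mem_ker, map_mul, map_inv, hu', hw', inv_mul_cancel]
        have := hker2 _ _ h1 h2 (fun e => huv (Subtype.ext (inv_mul_eq_one.1 e)))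
          (fun e => huw (Subtype.ext (inv_mul_eq_one.1 e)))
        exact hvw (Subtype.ext (mul_left_cancel this))
      · calc 2 * (Finset.univ.image f).card
            ≤ 2 * (Finset.univ.filter fun b : MulAut (P : Subgroup G) => b ^ 2 = 1).card := by
              refine Nat.mul_le_mul_left 2 (Finset.card_le_card fun b hb => ?_)
              simp only [Finset.mem_image, Finset.mem_univ, true_and, f] at hb
              obtain ⟨v, rfl⟩ := hb
              simpa using hu v
          _ ≤ 2 * 2 := Nat.mul_le_mul_left 2 (IsCyclic.card_pow_eq_one_le (by norm_num : 0 < 2))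
    have hmapR : sq.range.map τ.toMonoidHom = sq.range := by
      ext v
      constructor
      · rintro ⟨u, hu, rfl⟩
        rw [MulEquiv.coe_toMonoidHom, hfixR u hu]; exact hu
      · exact fun hv => ⟨v, hv, hfixR v hv⟩
    let τb : Equiv.Perm (S ⧸ sq.range) := (QuotientGroup.congr sq.range sq.range τ hmapR).toEquiv
    have hτbn : ∀ n : ℕ, ∀ v : S, (τb ^ n) (v : S ⧸ sq.range) = (((τ ^ n) v : S) : S ⧸ sq.range) := by
      intro n
      induction n with
      | zero => intro v; rfl
      | succ n ih =>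
        intro v
        rw [pow_succ', pow_succ', Equiv.Perm.mul_apply, ih]
        rfl
    have hτb : τb = 1 := by
      haveI := Fintype.ofFinite (S ⧸ sq.range)
      have h1 : τb ^ q = 1 := by
        ext x
        induction x using QuotientGroup.induction_on with
        | _ v => rw [hτbn, hτq]; rfl
      have h2 := orderOf_dvd_of_pow_eq_one h1
      have h3 : orderOf τb ∣ 24 := by
        refine (orderOf_dvd_natCard τb).trans ?_
        rw [Nat.card_perm]
        exact Nat.factorial_dvd_factorial hidx4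
      have h4 : orderOf τb = 1 := by
        refine Nat.dvd_one.1 ?_
        have : Nat.gcd q 24 = 1 := by rcases hq5 with rfl | rfl | rfl <;> norm_num
        exact this ▸ Nat.dvd_gcd h2 h3
      exact orderOf_eq_one_iff.1 h4
    refine mem_centralizer_iff.2 fun v hv => ?_
    set v' : S := ⟨v, hv⟩
    have h1 : ((τ v' : S) : S ⧸ sq.range) = v' := by
      rw [← pow_one τ, ← hτbn, pow_one, hτb]; rfl
    have h2 : v'⁻¹ * τ v' ∈ sq.range := QuotientGroup.eq.1 h1.symm
    set e := v'⁻¹ * τ v' with he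
    have hτn : ∀ n : ℕ, (τ ^ n) v' = v' * e ^ n := by
      intro n
      induction n with
      | zero => simp
      | succ n ih =>
        rw [pow_succ', MulAut.mul_apply, ih, map_mul, map_pow, hfixR e h2,
          show τ v' = v' * e by rw [he, mul_inv_cancel_left], mul_assoc, ← pow_succ']
    have h3 := hτn q
    rw [hτq, MulAut.one_apply, left_eq_mul] at h3
    have h4 : e = 1 := by
      obtain ⟨k, hk⟩ := IsPGroup.iff_orderOf.1 hS2 e
      have h5 := orderOf_dvd_of_pow_eq_one h3
      rw [hk] at h5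
      have : 2 ^ k = 1 := Nat.dvd_one.1 ((Nat.coprime_iff_gcd_eq_one.1
        (Nat.Coprime.pow_right k ((Nat.coprime_primes hq Nat.prime_two).2 hq2))) ▸ Nat.dvd_gcd h5 dvd_rfl)
      exact orderOf_eq_one_iff.1 (hk.trans this)
    have h6 : g * v * g⁻¹ = v := congrArg Subtype.val (show τ v' = v' from (inv_mul_eq_one.1 h4).symm)
    exact (mul_inv_eq_iff_eq_mul.1 h6).symm
  set M := (MonoidHom.transferSylow SG hsylow).ker with hM
  have hcompl := MonoidHom.ker_transferSylow_isComplement' SG hsylow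
  have hMi : M.index = Nat.card S := hcompl.symm.index_eq_card
  have hcardN : Nat.card N = 17 * Nat.card S := by
    refine Nat.eq_of_factorization_eq Nat.card_pos.ne' (Nat.mul_ne_zero (by norm_num) Nat.card_pos.ne') fun q => ?_
    by_cases hq : q.Prime
    swap
    · rw [Nat.factorization_eq_zero_of_not_prime _ hq, Nat.factorization_eq_zero_of_not_prime _ hq]
    have e1 : Nat.card N * 35 = Nat.card G := by rw [← hNi]; exact N.card_mul_index
    have hSc : Nat.card S = 2 ^ (Nat.card G).factorization 2 := SG.card_eq_multiplicity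
    have hPc : 17 ^ (Nat.card G).factorization 17 = 17 := P.card_eq_multiplicity.symm.trans hP17
    have hP1 : (Nat.card G).factorization 17 = 1 :=
      Nat.pow_right_injective (le_of_lt (by norm_num : 1 < 17) |> fun _ => (by norm_num : 2 ≤ 17))
        (hPc.trans (pow_one 17).symm)
    rw [hSc]
    rw [← e1, Nat.factorization_mul Nat.card_pos.ne' (by norm_num), Finsupp.add_apply,
      Nat.factorization_eq_zero_of_not_dvd (n := 35) (p := 17) (by norm_num), add_zero] at hP1
    rw [Nat.factorization_mul (by norm_num) (pow_ne_zero _ (by norm_num)), Finsupp.add_apply,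
      Nat.Prime.factorization_pow Nat.prime_two, Nat.Prime.factorization (by norm_num : Nat.Prime 17)]
    by_cases h2 : q = 2
    · subst h2
      rw [Finsupp.single_eq_same, Finsupp.single_eq_of_ne (by norm_num), zero_add, ← e1,
        Nat.factorization_mul Nat.card_pos.ne' (by norm_num), Finsupp.add_apply,
        Nat.factorization_eq_zero_of_not_dvd (n := 35) (p := 2) (by norm_num), add_zero]
    by_cases h17 : q = 17
    · subst h17
      rw [Finsupp.single_eq_same, Finsupp.single_eq_of_ne (by norm_num), add_zero, hP1]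
    rw [Finsupp.single_eq_of_ne h17, Finsupp.single_eq_of_ne h2, add_zero]
    exact Nat.factorization_eq_zero_of_not_dvd fun h => by
      rcases hNprimes q hq h with h | h
      · exact h2 h
      · exact h17 h
  have hMcard : Nat.card M = 595 := by
    have e1 := M.card_mul_index
    rw [hMi, ← N.card_mul_index, hNi, hcardN] at e1
    refine Nat.eq_of_mul_eq_mul_right (Nat.card_pos (α := S)) (e1.trans ?_)
    ring
  have hyM : y ∈ M := by
    haveI : M.Normal := MonoidHom.normal_ker _
    have h1 := pow_index_mem M y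
    rw [hMi] at h1
    obtain ⟨k, hk⟩ := IsPGroup.iff_card.1 hS2
    rw [hk] at h1
    obtain ⟨m, hm⟩ := exists_pow_eq_self_of_coprime (n := 2 ^ k) (x := y)
      (by rw [hy17]; exact Nat.Coprime.pow_left k (by norm_num))
    exact hm ▸ pow_mem h1 m
  haveI : Fact (Nat.Prime 5) := ⟨by norm_num⟩
  obtain ⟨Q⟩ : Nonempty (Sylow 5 M) := inferInstance
  have hQc : Nat.card (Q : Subgroup M) = 5 := by
    rw [Q.card_eq_multiplicity, hMcard, show 595 = 5 ^ 1 * 119 by norm_num,
      Nat.factorization_mul (by norm_num) (by norm_num), Finsupp.add_apply,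
      Nat.Prime.factorization_pow (by norm_num), Finsupp.single_eq_same,
      Nat.factorization_eq_zero_of_not_dvd (by norm_num)]
    rfl
  have hQn : Nat.card (Sylow 5 M) = 1 := by
    have h1 := card_sylow_modEq_one 5 M
    have h2 : Nat.card (Sylow 5 M) ∣ 119 := by
      have h3 := Q.card_dvd_index
      have h4 := (Q : Subgroup M).card_mul_index
      rw [hQc, hMcard] at h4
      rwa [show (Q : Subgroup M).index = 119 by omega] at h3
    have h5 : Nat.card (Sylow 5 M) ∈ Nat.divisors 119 := Nat.mem_divisors.2 ⟨h2, by norm_num⟩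
    rw [show Nat.divisors 119 = {1, 7, 17, 119} by decide] at h5
    simp only [Finset.mem_insert, Finset.mem_singleton] at h5
    rcases h5 with h | h | h | h
    · exact h
    all_goals (rw [h] at h1; exact absurd h1 (by decide))
  haveI : Subsingleton (Sylow 5 M) := (Nat.card_eq_one_iff_unique.1 hQn).1
  haveI : (Q : Subgroup M).Normal := Q.normal_of_subsingleton
  obtain ⟨x, hx⟩ := exists_prime_orderOf_dvd_card' (G := (Q : Subgroup M)) 5 (by rw [hQc])
  set xg : G := ((x : M) : G) with hxg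
  have hxo : orderOf xg = 5 := by rw [hxg, Subgroup.orderOf_coe, Subgroup.orderOf_coe, hx]
  have hQz : zpowers (x : M) = (Q : Subgroup M) :=
    eq_of_le_of_card_ge (zpowers_le.2 x.2) (by rw [Nat.card_zpowers, Subgroup.orderOf_coe, hx, hQc])
  have hmem : y * xg * y⁻¹ ∈ zpowers xg := by
    have h1 : (⟨y, hyM⟩ : M) * (x : M) * (⟨y, hyM⟩ : M)⁻¹ ∈ (Q : Subgroup M) :=
      (inferInstance : (Q : Subgroup M).Normal).conj_mem _ x.2 _
    obtain ⟨i, hi⟩ := mem_zpowers_iff.1 (hQz.ge h1)
    refine mem_zpowers_iff.2 ⟨i, ?_⟩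
    have := congrArg Subtype.val hi
    rwa [SubgroupClass.coe_zpow] at this
  have hyx := conj_fix (p := 5) hxo (by norm_num : (17 : ℕ) ≠ 0) (by norm_num) (hexp y hyP) hmem
  have hxN : xg • x₀ = x₀ := by
    refine hfix _ fun z hz => ?_
    rw [hPy] at hz
    refine (zpowers_le.2 (MulAction.mem_stabilizer_iff.2 ?_)) hz
    rw [smul_smul, (mul_inv_eq_iff_eq_mul.1 hyx), mul_smul, x0_fixed P x₀ hN hyP]
  have := eq_one_of_coprime hX P x₀ hfix hN hxN (by norm_num : Nat.Prime 5) (by norm_num) (by norm_num)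
    (by rw [← hxo]; exact pow_orderOf_eq_one xg)
  rw [this, orderOf_one] at hxo
  norm_num at hxo

end Core


/-- No finite group has exactly 35 Sylow 17-subgroups. -/
theorem result {G : Type*} [Group G] [Finite G] : Nat.card (Sylow 17 G) ≠ 35 := by
  intro h35
  haveI : Fact (Nat.Prime 17) := ⟨by norm_num⟩
  let f := MulAction.toPermHom G (Sylow 17 G)
  obtain ⟨P⟩ : Nonempty (Sylow 17 G) := inferInstance
  let P' : Sylow 17 f.range := P.mapSurjective f.rangeRestrict_surjective
  haveI : MulAction.IsPretransitive f.range (Sylow 17 G) := ⟨fun u v => by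
    obtain ⟨g, hg⟩ := MulAction.exists_smul_eq G u v
    exact ⟨⟨f g, g, rfl⟩, hg⟩⟩
  haveI : FaithfulSMul f.range (Sylow 17 G) := ⟨fun {u v} h => Subtype.ext (Equiv.ext h)⟩
  have hfix : ∀ Q : Sylow 17 G, (∀ y ∈ (P' : Subgroup f.range), y • Q = Q) → Q = P := by
    intro Q hQ
    have h1 : Q ∈ MulAction.fixedPoints (P : Subgroup G) (Sylow 17 G) := fun y => by
      have := hQ (f.rangeRestrict y) ⟨y, y.2, rfl⟩
      exact this
    rw [IsPGroup.sylow_mem_fixedPoints_iff P.2] at h1
    exact Sylow.ext (P.3 Q.2 h1)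
  refine core h35 P' P hfix ?_
  rintro ⟨_, g, rfl⟩
  constructor
  · intro hg
    have hg' : g • P = P := hg
    rw [Sylow.smul_eq_iff_mem_normalizer] at hg'
    refine Subgroup.mem_normalizer_iff.2 fun n => ⟨?_, ?_⟩
    · rintro ⟨w, hw, rfl⟩
      exact ⟨g * w * g⁻¹, (Subgroup.mem_normalizer_iff.1 hg' w).1 hw, Subtype.ext (by simp)⟩
    · rintro ⟨w, hw, hwe⟩
      refine ⟨g⁻¹ * w * g, (Subgroup.mem_normalizer_iff.1 hg' _).2 (by
        rwa [show g * (g⁻¹ * w * g) * g⁻¹ = w by group]), ?_⟩
      rw [map_mul, map_mul, map_inv, hwe]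
      exact Subtype.ext (by simp [mul_assoc])
  · intro hg
    refine hfix _ fun y hy => ?_
    have h1 := (Subgroup.mem_normalizer_iff''.1 hg y).1 hy
    obtain ⟨w, hw, hwe⟩ := h1
    have hwP : f w • P = P := by
      show w • P = P
      rw [Sylow.smul_eq_iff_mem_normalizer]
      exact Subgroup.le_normalizer hw
    set gg : f.range := ⟨f g, g, rfl⟩
    have hy' : y = gg * f.rangeRestrict w * gg⁻¹ := by rw [hwe]; group
    show y • gg • P = gg • P
    rw [hy', mul_smul, mul_smul, inv_smul_smul]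
    exact congrArg _ hwP

end Cfsg.Agent.S4236
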