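import Cfsg.Statements.S4238
import Cfsg.Statements.S4238
import Mathlib
import Cfsg.Agent.Lib.Transfer.Fusion
import Cfsg.Agent.Lib.Transfer.Residual
import Cfsg.Agent.Lib.Basics.Cores

set_option autoImplicit false
open Cfsg
open scoped Pointwise
set_option linter.all false

namespace Cfsg.Agent.S4238

open Subgroup
open Cfsg.Agent

private theorem exists_max_order {K : Type*} [Group K] [Finite K] (p : ℕ) [hp : Fact p.Prime]
    (h : IsPGroup p K) : ∃ k : K, orderOf k = Monoid.exponent K := by
  classical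
  haveI := Fintype.ofFinite K
  obtain ⟨k, -, hk⟩ := Finset.exists_max_image (Finset.univ : Finset K) orderOf Finset.univ_nonempty
  refine ⟨k, Nat.dvd_antisymm (Monoid.order_dvd_exponent k) ?_⟩
  refine Monoid.exponent_dvd_of_forall_pow_eq_one fun g => orderOf_dvd_iff_pow_eq_one.1 ?_
  obtain ⟨a, ha⟩ := IsPGroup.iff_orderOf.1 h g
  obtain ⟨b, hb⟩ := IsPGroup.iff_orderOf.1 h k
  have := hk g (Finset.mem_univ g)
  rw [ha, hb] at this ⊢
  exact pow_dvd_pow p ((Nat.pow_le_pow_iff_right hp.out.one_lt).1 this)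


/-- Let G be a finite group and p a prime. Then G has a normal p-complement if and only if every section K = H/N of G (N a normal subgroup of a subgroup H) whose largest normal subgroup of order prime to p is trivial contains an element whose order equals the exponent of K. -/
theorem result {G : Type*} [Group G] [Finite G] (p : ℕ) [Fact p.Prime] :
    Cfsg.HasNormalPComplement p G ↔
      ∀ (H : Subgroup G) (N : Subgroup H) [N.Normal], Cfsg.pPrimeCore p (H ⧸ N) = ⊥ →
        ∃ k : H ⧸ N, orderOf k = Monoid.exponent (H ⧸ N) := by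
  classical
  have hp := (Fact.out : p.Prime)
  constructor
  · intro hG H N _ hK
    apply exists_max_order p
    have h1 := Transfer.hasNormalPComplement_subgroup H hG
    rw [Transfer.hasNormalPComplement_iff] at h1
    have h2 : pResidual p (↥H ⧸ N) = ⊥ := by
      rw [eq_bot_iff, ← hK]
      haveI := Transfer.pResidual_characteristic (↥H ⧸ N) p
      refine Basics.le_pPrimeCore (Nat.Coprime.symm (hp.coprime_iff_not_dvd.2 ?_))
      rw [← Transfer.map_pResidual_eq (QuotientGroup.mk'_surjective N)]
      exact fun hd => h1 (hd.trans (card_map_dvd _ _))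
    have h3 := Transfer.isPGroup_quotient_of_pResidual_le (p := p) (⊥ : Subgroup (↥H ⧸ N)) h2.le
    exact h3.of_equiv QuotientGroup.quotientBot
  · intro hsec
    refine Transfer.hasNormalPComplement_of_frobenius fun D hD g hg hgo => ?_
    by_contra hne
    -- a minimal element not centralising `D`
    have hex : ∃ n, ∃ y ∈ zpowers g, orderOf y = n ∧ y ∉ centralizer (D : Set G) :=
      ⟨_, g, mem_zpowers g, rfl, hne⟩
    obtain ⟨y, hyg, hyn, hyC⟩ := Nat.find_spec hex
    have hy1 : orderOf y ≠ 1 := fun h => hyC (by rw [orderOf_eq_one_iff] at h; rw [h]; exact one_mem _)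
    obtain ⟨q, hq, hqy⟩ := Nat.exists_prime_and_dvd hy1
    have hyco : (orderOf y).Coprime p :=
      hgo.coprime_dvd_left (by
        obtain ⟨i, rfl⟩ := mem_zpowers_iff.1 hyg
        exact orderOf_dvd_of_mem_zpowers (zpow_mem (mem_zpowers g) i))
    have hqp : q ≠ p := fun e => hp.not_dvd_one (hyco ▸ Nat.dvd_gcd (e ▸ hqy) dvd_rfl)
    haveI := Fact.mk hq
    have hyq : y ^ q ∈ centralizer (D : Set G) := by
      by_contra h
      have hlt : orderOf (y ^ q) < Nat.find hex := by
        rw [← hyn, orderOf_pow' y hq.ne_zero, Nat.gcd_eq_right hqy]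
        exact Nat.div_lt_self (orderOf_pos y) hq.one_lt
      exact Nat.find_min hex hlt ⟨_, pow_mem hyg q, rfl, h⟩
    have hyD : y ∈ normalizer (D : Set G) := zpowers_le.2 hg hyg
    -- a minimal invariant subgroup not centralised
    obtain ⟨E, hE⟩ := (Set.toFinite {E : Subgroup G | E ≤ D ∧ y ∈ normalizer (E : Set G) ∧
      y ∉ centralizer (E : Set G)}).exists_minimal ⟨D, le_rfl, hyD, hyC⟩
    obtain ⟨⟨hED, hyE, hyEC⟩, hEmin⟩ := hE
    have hEp : IsPGroup p E := hD.to_le hED
    set R := E ⊓ centralizer ({y} : Set G) with hR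
    have hRne : R ≠ E := fun h => hyEC (mem_centralizer_iff.2 fun e he =>
      mem_centralizer_singleton_iff.1 (h.symm ▸ he : e ∈ R).2)
    have hEne : E ≠ ⊥ := fun h => hyEC (mem_centralizer_iff.2 fun e he => by
      rw [h] at he
      rw [mem_bot.1 he]; simp)
    have hcomm : ⁅E, E⁆ ≤ R := by
      refine le_inf (commutator_le.2 fun a ha b hb => mul_mem (mul_mem (mul_mem ha hb) (inv_mem ha)) (inv_mem hb)) ?_
      by_contra h
      have hCy : y ∉ centralizer ((⁅E, E⁆ : Subgroup G) : Set G) := fun h' => h fun w hw =>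
        mem_centralizer_singleton_iff.2 (mem_centralizer_iff.1 h' w hw)
      have hN : y ∈ normalizer ((⁅E, E⁆ : Subgroup G) : Set G) := by
        have hle : E.map (MulAut.conj y).toMonoidHom = E := by
          ext x
          constructor
          · rintro ⟨e, he, rfl⟩; exact (mem_normalizer_iff.1 hyE e).1 he
          · intro hx
            refine ⟨y⁻¹ * x * y, (mem_normalizer_iff.1 hyE _).2 (by simpa [mul_assoc] using hx), ?_⟩
            simp [mul_assoc]
        have h2 : (⁅E, E⁆ : Subgroup G).map (MulAut.conj y).toMonoidHom = ⁅E, E⁆ := by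
          rw [map_commutator, hle]
        refine mem_normalizer_iff.2 fun x => ⟨fun hx => h2 ▸ ⟨x, hx, rfl⟩, fun hx => ?_⟩
        rw [← h2] at hx
        obtain ⟨x', hx', e⟩ := hx
        exact (MulAut.conj y).injective e ▸ hx'
      have hle : (⁅E, E⁆ : Subgroup G) ≤ E :=
        commutator_le.2 fun a ha b hb => mul_mem (mul_mem (mul_mem ha hb) (inv_mem ha)) (inv_mem hb)
      have heq : (⁅E, E⁆ : Subgroup G) = E := le_antisymm hle (hEmin ⟨hle.trans hED, hN, hCy⟩ hle)
      haveI : Group.IsNilpotent E := hEp.isNilpotent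
      haveI : Nontrivial E := (nontrivial_iff_ne_bot _).2 hEne
      have hlt := (Group.IsSolvable.commutator_lt_top_of_nontrivial E).ne
      apply hlt
      refine Subgroup.map_injective E.subtype_injective ?_
      rw [_root_.commutator_def, map_commutator, ← MonoidHom.range_eq_map, range_subtype, heq]
    set N0 := R ⊔ zpowers (y ^ q) with hN0
    set H := E ⊔ zpowers y with hH
    have hyqE : ∀ e ∈ E, e * y ^ q = y ^ q * e := fun e he => mem_centralizer_iff.1 hyq e (hED he)
    have hN0H : N0 ≤ H := sup_le (inf_le_left.trans le_sup_left)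
      ((zpowers_le.2 (pow_mem (mem_zpowers y) q)).trans le_sup_right)
    have hnorm : H ≤ normalizer (N0 : Set G) := by
      have key : ∀ h : G, (h ∈ E ∨ h = y) → N0.map (MulAut.conj h).toMonoidHom ≤ N0 := by
        intro h hh
        rw [hN0, Subgroup.map_sup, MonoidHom.map_zpowers]
        refine sup_le_sup ?_ (le_of_eq ?_)
        · rintro _ ⟨r, hr, rfl⟩
          show h * r * h⁻¹ ∈ R
          rcases hh with hh | hh
          · have h1 : h * r * h⁻¹ * r⁻¹ ∈ R := hcomm (commutator_mem_commutator hh hr.1)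
            simpa using mul_mem h1 hr
          · have h1 : y * r = r * y := (mem_centralizer_singleton_iff.1 hr.2).symm
            rw [hh, h1, mul_inv_cancel_right]; exact hr
        · congr 1
          show h * y ^ q * h⁻¹ = y ^ q
          rcases hh with hh | hh
          · rw [hyqE h hh, mul_inv_cancel_right]
          · rw [hh]; group
      have hmem : ∀ h : G, (h ∈ E ∨ h = y) → h ∈ normalizer (N0 : Set G) := by
        intro h hh
        have heq := eq_of_le_of_card_ge (key h hh)
          (le_of_eq (card_map_of_injective (f := (MulAut.conj h).toMonoidHom) (MulAut.conj h).injective).symm)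
        refine mem_normalizer_iff.2 fun x => ⟨fun hx => heq ▸ ⟨x, hx, rfl⟩, fun hx => ?_⟩
        rw [← heq] at hx
        obtain ⟨x', hx', e⟩ := hx
        exact (MulAut.conj h).injective e ▸ hx'
      exact sup_le (fun e he => hmem e (Or.inl he)) (zpowers_le.2 (hmem y (Or.inr rfl)))
    haveI hn : (N0.subgroupOf H).Normal := Subgroup.normal_subgroupOf_iff_le_normalizer hN0H |>.2 hnorm
    set π := QuotientGroup.mk' (N0.subgroupOf H) with hπ
    have hker : ∀ x : H, π x = 1 ↔ (x : G) ∈ N0 := fun x => QuotientGroup.eq_one_iff x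
    have hEN : ∀ e ∈ E, e ∈ N0 → e ∈ R := by
      intro e he heN
      have hnn : zpowers (y ^ q) ≤ normalizer (R : Set G) := zpowers_le.2 (mem_normalizer_iff.2 fun x => by
        constructor
        · intro hx; rw [← hyqE x hx.1, mul_inv_cancel_right]; exact hx
        · intro hx
          have : (y ^ q)⁻¹ * (y ^ q * x * (y ^ q)⁻¹) * y ^ q = y ^ q * x * (y ^ q)⁻¹ := by
            rw [mul_assoc _ (y ^ q * x * (y ^ q)⁻¹), hyqE _ hx.1, inv_mul_cancel_left]
          have e2 : x = y ^ q * x * (y ^ q)⁻¹ := by rw [← this]; group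
          rwa [e2])
      rw [hN0, ← SetLike.mem_coe, coe_mul_of_right_le_normalizer_left _ _ hnn, Set.mem_mul] at heN
      obtain ⟨r, hr, w, hw, rfl⟩ := heN
      obtain ⟨i, rfl⟩ := mem_zpowers_iff.1 hw
      refine ⟨he, mem_centralizer_singleton_iff.2 ?_⟩
      have h1 : Commute r y := mem_centralizer_singleton_iff.1 hr.2
      exact (h1.mul_left (((Commute.refl y).pow_left q).zpow_left i)).eq
    -- an element `e * y ^ i`, `q ∤ i`, fixes only the identity of the image of `E`
    let ιE : ∀ e ∈ E, H := fun e he => ⟨e, mem_sup_left he⟩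
    let yH : H := ⟨y, mem_sup_right (mem_zpowers y)⟩
    have hab : ∀ a (ha : a ∈ E) b (hb : b ∈ E), π (ιE a ha) * π (ιE b hb) = π (ιE b hb) * π (ιE a ha) := by
      intro a ha b hb
      rw [← map_mul, ← map_mul]
      refine QuotientGroup.eq.2 (mem_sup_left (hcomm ?_))
      have := commutator_mem_commutator (H₁ := E) (H₂ := E) (inv_mem hb) (inv_mem ha)
      simpa [mul_assoc, commutatorElement_def] using this
    have hyq1 : π yH ^ q = 1 := by
      rw [← map_pow, hker]; exact mem_sup_right (mem_zpowers _)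
    have hfix : ∀ c (hc : c ∈ E) e (he : e ∈ E) (i : ℕ), ¬ q ∣ i →
        Commute (π (ιE c hc)) (π (ιE e he) * π yH ^ i) → π (ιE c hc) = 1 := by
      intro c hc e he i hi hcm
      have h0 : Commute (π (ιE c hc)) (π yH ^ i) := by
        have h1 : Commute (π (ιE c hc)) (π (ιE e he)) := hab c hc e he
        have := h1.inv_right.mul_right hcm
        rwa [inv_mul_cancel_left] at this
      obtain ⟨k, hk⟩ : ∃ k, i * k % q = 1 :=
        ⟨((i : ZMod q)⁻¹).val, by
          have hne' : (i : ZMod q) ≠ 0 := fun h => hi ((ZMod.natCast_eq_zero_iff i q).1 h)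
          have h2 : ((i * ((i : ZMod q)⁻¹).val : ℕ) : ZMod q) = ((1 : ℕ) : ZMod q) := by
            push_cast [ZMod.natCast_zmod_val]
            exact mul_inv_cancel₀ hne'
          rw [ZMod.natCast_eq_natCast_iff'] at h2
          rw [h2, Nat.one_mod_eq_one.2 hq.ne_one]⟩
      have h1 : Commute (π (ιE c hc)) (π yH) := by
        have := h0.pow_right k
        rwa [← pow_mul, ← Nat.mod_add_div (i * k) q, hk, pow_add, pow_one, pow_mul, hyq1, one_pow, mul_one] at this
      set r := c⁻¹ * (y * c * y⁻¹) with hr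
      have hrR : r ∈ R := by
        refine hEN r (mul_mem (inv_mem hc) ((mem_normalizer_iff.1 hyE c).1 hc)) ?_
        have : π ((ιE c hc)⁻¹ * (yH * ιE c hc * yH⁻¹)) = 1 := by
          simp only [map_mul, map_inv]; rw [← h1.eq]; group
        exact (hker _).1 this
      have hyr : y * r * y⁻¹ = r := by
        rw [← mem_centralizer_singleton_iff.1 hrR.2, mul_inv_cancel_right]
      have hiter : ∀ k : ℕ, y ^ k * c * (y ^ k)⁻¹ = c * r ^ k := by
        intro k
        induction k with
        | zero => simp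
        | succ k ih =>
          calc y ^ (k + 1) * c * (y ^ (k + 1))⁻¹ = y * (y ^ k * c * (y ^ k)⁻¹) * y⁻¹ := by
                rw [pow_succ']; group
            _ = (y * c * y⁻¹) * (y * r * y⁻¹) ^ k := by rw [ih, conj_pow]; group
            _ = c * r ^ (k + 1) := by
              rw [hyr, pow_succ', ← mul_assoc c, show c * r = y * c * y⁻¹ by rw [hr]; group]
      have hrq : r ^ q = 1 := by
        have := hiter q
        rw [← hyqE c hc, mul_inv_cancel_right] at this
        exact mul_eq_left.1 this.symm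
      have hr1 : r = 1 := by
        obtain ⟨k', hk'⟩ := hEp ⟨r, hrR.1⟩
        have hk'' : r ^ p ^ k' = 1 := by simpa using congrArg Subtype.val hk'
        rw [← orderOf_eq_one_iff]
        exact Nat.eq_one_of_dvd_coprimes (((Nat.coprime_primes hq hp).2 hqp).pow_right k')
          (orderOf_dvd_iff_pow_eq_one.2 hrq) (orderOf_dvd_iff_pow_eq_one.2 hk'')
      rw [hr, inv_mul_eq_one] at hr1
      rw [hker]
      refine mem_sup_left ⟨hc, mem_centralizer_singleton_iff.2 ?_⟩
      calc c * y = y * c * y⁻¹ * y := by rw [← hr1]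
        _ = y * c := by group
    -- every element
    have hform : ∀ b : H ⧸ N0.subgroupOf H, ∃ (e : G) (he : e ∈ E) (i : ℕ), b = π (ιE e he) * π yH ^ i := by
      intro b
      obtain ⟨⟨x, hx⟩, rfl⟩ := QuotientGroup.mk'_surjective _ b
      have hx2 := hx
      rw [hH, ← SetLike.mem_coe, coe_mul_of_right_le_normalizer_left _ _ (zpowers_le.2 hyE), Set.mem_mul] at hx2
      obtain ⟨e, he, w, hw, rfl⟩ := hx2
      obtain ⟨i, rfl⟩ := mem_powers_iff_mem_zpowers.2 hw
      refine ⟨e, he, i, ?_⟩
      rw [← map_pow, ← map_mul]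
      congr 1
    have hpE : ∀ e (he : e ∈ E), ∃ k, π (ιE e he) ^ p ^ k = 1 := fun e he => by
      obtain ⟨k, hk⟩ := hEp ⟨e, he⟩
      refine ⟨k, ?_⟩
      rw [← map_pow, hker]
      have : e ^ p ^ k = 1 := by simpa using congrArg Subtype.val hk
      show e ^ p ^ k ∈ N0
      rw [this]; exact one_mem _
    -- a nontrivial element of the image of `E`
    obtain ⟨c₀, hc₀, hc₀R⟩ : ∃ c ∈ E, c ∉ R := by
      by_contra h
      push Not at h
      exact hRne (le_antisymm inf_le_left h)
    have hc₀1 : π (ιE c₀ hc₀) ≠ 1 := fun h => hc₀R (hEN c₀ hc₀ ((hker _).1 h))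
    have hy2 : π yH ≠ 1 := by
      intro h
      exact hc₀1 (hfix c₀ hc₀ 1 (one_mem E) 1 (by rw [Nat.dvd_one]; exact hq.ne_one)
        (by rw [h, one_pow, mul_one]; exact hab c₀ hc₀ 1 (one_mem E)))
    -- the trivial core
    have hcore : pPrimeCore p (↥H ⧸ N0.subgroupOf H) = ⊥ := by
      rw [eq_bot_iff]
      intro b hb
      rw [mem_bot]
      have hco := Basics.pPrimeCore_coprime (G := ↥H ⧸ N0.subgroupOf H) p
      obtain ⟨e, he, i, hbe⟩ := hform b
      haveI : (pPrimeCore p (↥H ⧸ N0.subgroupOf H)).Normal := by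
        unfold Cfsg.pPrimeCore; exact Subgroup.sSup_normal _ fun N hN => hN.1
      have hsmall : ∀ z ∈ pPrimeCore p (↥H ⧸ N0.subgroupOf H), (∃ k, z ^ p ^ k = 1) → z = 1 := by
        rintro z hz ⟨k, hk⟩
        rw [← orderOf_eq_one_iff]
        exact Nat.eq_one_of_dvd_coprimes (hco.pow_right k) (orderOf_dvd_natCard _ hz)
          (orderOf_dvd_iff_pow_eq_one.2 hk)
      by_cases hi : q ∣ i
      · obtain ⟨j, rfl⟩ := hi
        rw [pow_mul, hyq1, one_pow, mul_one] at hbe
        exact hsmall b hb (hbe ▸ hpE e he)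
      · exfalso
        apply hc₀1
        refine hfix c₀ hc₀ e he i hi ?_
        rw [← hbe]
        set c := π (ιE c₀ hc₀) with hc
        have hcb : c * b * c⁻¹ * b⁻¹ ∈ pPrimeCore p (↥H ⧸ N0.subgroupOf H) :=
          mul_mem (Normal.conj_mem inferInstance b hb c) (inv_mem hb)
        have hE' : b * c⁻¹ * b⁻¹ ∈ (E.subgroupOf H).map π := by
          obtain ⟨x, hx⟩ := QuotientGroup.mk'_surjective _ b
          haveI : (E.subgroupOf H).Normal :=
            (Subgroup.normal_subgroupOf_iff_le_normalizer (le_sup_left : E ≤ H)).2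
              (sup_le le_normalizer (zpowers_le.2 hyE))
          refine ⟨x * (ιE c₀ hc₀)⁻¹ * x⁻¹, Normal.conj_mem inferInstance _
            (inv_mem (show (ιE c₀ hc₀) ∈ E.subgroupOf H from hc₀)) x, ?_⟩
          rw [map_mul, map_mul, map_inv, map_inv, hx]
        have h1 : c * b * c⁻¹ * b⁻¹ = 1 := by
          refine hsmall _ hcb ?_
          obtain ⟨⟨w, hwH⟩, hw, hwe⟩ := hE'
          have : c * b * c⁻¹ * b⁻¹ = π (ιE (c₀ * w) (mul_mem hc₀ hw)) := by
            rw [show ιE (c₀ * w) (mul_mem hc₀ hw) = ιE c₀ hc₀ * ⟨w, hwH⟩ from rfl, map_mul, hwe, hc]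
            group
          rw [this]; exact hpE (c₀ * w) (mul_mem hc₀ hw)
        show c * b = b * c
        calc c * b = (c * b * c⁻¹ * b⁻¹) * (b * c) := by group
          _ = b * c := by rw [h1, one_mul]
    obtain ⟨k, hk⟩ := hsec H (N0.subgroupOf H) hcore
    have hqd : q ∣ orderOf k := by
      rw [hk]
      exact (orderOf_eq_prime hyq1 hy2) ▸ Monoid.order_dvd_exponent (π yH)
    have hpd : p ∣ orderOf k := by
      rw [hk]
      obtain ⟨j, hj⟩ := hpE c₀ hc₀
      obtain ⟨i, -, hi⟩ := (Nat.dvd_prime_pow hp).1 (orderOf_dvd_iff_pow_eq_one.2 hj)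
      have h1 := Monoid.order_dvd_exponent (π (ιE c₀ hc₀))
      rw [hi] at h1
      refine (dvd_pow_self p ?_).trans h1
      intro h0
      rw [h0, pow_zero, orderOf_eq_one_iff] at hi
      exact hc₀1 hi
    set a := k ^ (orderOf k / p) with ha
    set b := k ^ (orderOf k / q) with hb
    have hao : orderOf a = p := orderOf_pow_orderOf_div (orderOf_pos k).ne' hpd
    have hbo : orderOf b = q := orderOf_pow_orderOf_div (orderOf_pos k).ne' hqd
    obtain ⟨ea, hea, ia, haeq⟩ := hform a
    obtain ⟨eb, heb, ib, hbeq⟩ := hform b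
    have hbi : ¬ q ∣ ib := by
      rintro ⟨j, rfl⟩
      rw [pow_mul, hyq1, one_pow, mul_one] at hbeq
      obtain ⟨j', hj'⟩ := hpE eb heb
      rw [← hbeq] at hj'
      have := orderOf_dvd_iff_pow_eq_one.2 hj'
      rw [hbo] at this
      exact hqp ((Nat.prime_dvd_prime_iff_eq hq hp).1 (hq.dvd_of_dvd_pow this))
    -- the image of `E` contains every `p`-element
    have hai : q ∣ ia := by
      by_contra hai
      haveI hEn : ((E.subgroupOf H).map π).Normal := by
        haveI : (E.subgroupOf H).Normal :=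
          (Subgroup.normal_subgroupOf_iff_le_normalizer (le_sup_left : E ≤ H)).2
            (sup_le le_normalizer (zpowers_le.2 hyE))
        exact Subgroup.Normal.map inferInstance π (QuotientGroup.mk'_surjective _)
      set ρ := QuotientGroup.mk' ((E.subgroupOf H).map π) with hρ
      have hρE : ρ (π (ιE ea hea)) = 1 :=
        (QuotientGroup.eq_one_iff _).2 ⟨ιE ea hea, hea, rfl⟩
      have h1 : ρ (π yH) ^ ia = ρ a := by rw [haeq, map_mul, hρE, one_mul, map_pow]
      have h2 : orderOf (ρ (π yH) ^ ia) ∣ p := by rw [h1, ← hao]; exact orderOf_map_dvd ρ a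
      have h3 : orderOf (ρ (π yH) ^ ia) ∣ q := orderOf_dvd_iff_pow_eq_one.2 (by
        rw [← pow_mul, mul_comm, pow_mul, ← map_pow ρ, hyq1, map_one, one_pow])
      have h4 : ρ (π yH) ^ ia = 1 :=
        orderOf_eq_one_iff.1 (Nat.eq_one_of_dvd_coprimes ((Nat.coprime_primes hp hq).2 (Ne.symm hqp)) h2 h3)
      rw [← map_pow, hρ] at h4
      obtain ⟨w, hw, hwe⟩ := (QuotientGroup.eq_one_iff _).1 h4
      obtain ⟨j', hj'⟩ := hpE (w : G) hw
      have e : π (ιE (w : G) hw) = π yH ^ ia := by rw [← hwe]
      rw [e] at hj'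
      have h5 : orderOf (π yH ^ ia) = q := by
        rw [Nat.Coprime.orderOf_pow (by rw [orderOf_eq_prime hyq1 hy2]; exact hq.coprime_iff_not_dvd.2 hai),
          orderOf_eq_prime hyq1 hy2]
      have := orderOf_dvd_iff_pow_eq_one.2 hj'
      rw [h5] at this
      exact hqp ((Nat.prime_dvd_prime_iff_eq hq hp).1 (hq.dvd_of_dvd_pow this))
    obtain ⟨j, rfl⟩ := hai
    rw [pow_mul, hyq1, one_pow, mul_one] at haeq
    have hab' : Commute a b := (Commute.refl k).pow_pow _ _
    rw [haeq, hbeq] at hab'
    have := hfix ea hea eb heb ib hbi hab'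
    rw [← haeq, ← orderOf_eq_one_iff, hao] at this
    exact hp.ne_one this

end Cfsg.Agent.S4238
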