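import Cfsg.Statements.S4242
import Cfsg.Agent.Lib.Transfer.Fusion
import Cfsg.Agent.Lib.Basics.Schmidt
import Cfsg.Agent.Lib.Basics.CoprimeAction
import Cfsg.Agent.Lib.Basics.FocalHall
import Mathlib

set_option autoImplicit false
open Cfsg
open scoped Pointwise
set_option linter.all false

namespace Cfsg.Agent.S4242

open Cfsg.Agent Subgroup

variable {G : Type*} [Group G] [Finite G]

theorem proper_nilpotent {p : ℕ} (h : ∀ M : Subgroup G, IsCoatom M → p ∣ Nat.card M → Group.IsNilpotent M)
    {H : Subgroup G} (hne : H ≠ ⊤) (hp : p ∣ Nat.card H) : Group.IsNilpotent H := by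
  obtain ⟨M, hM, hHM⟩ := (eq_top_or_exists_le_coatom H).resolve_left hne
  exact Basics.isNilpotent_of_le' hHM (h M hM (hp.trans (card_dvd_of_le hHM)))

theorem card_sup_le_mul {H K : Subgroup G} (h : K ≤ normalizer (H : Set G)) :
    Nat.card (H ⊔ K : Subgroup G) ≤ Nat.card H * Nat.card K := by
  rw [← Nat.card_prod]
  refine Nat.card_le_card_of_surjective (fun z : H × K => (⟨z.1 * z.2, mul_mem (mem_sup_left z.1.2) (mem_sup_right z.2.2)⟩ : (H ⊔ K : Subgroup G))) ?_
  rintro ⟨w, hw⟩
  rw [← SetLike.mem_coe, coe_mul_of_right_le_normalizer_left _ _ h] at hw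
  obtain ⟨a, ha, b, hb, rfl⟩ := hw
  exact ⟨(⟨a, ha⟩, ⟨b, hb⟩), rfl⟩

theorem nilpotent_or_minimal (h : ∀ M : Subgroup G, IsCoatom M → Group.IsNilpotent M) :
    Group.IsNilpotent G ∨ Cfsg.IsMinimalNonNilpotent G := by
  by_cases hG : Group.IsNilpotent G
  · exact Or.inl hG
  refine Or.inr ⟨hG, fun H hH => ?_⟩
  obtain ⟨M, hM, hle⟩ := (eq_top_or_exists_le_coatom H).resolve_left hH
  exact Basics.isNilpotent_of_le' hle (h M hM)

theorem case_not_normal {p : ℕ} [Fact p.Prime] (hpG : p ∣ Nat.card G)
    (h : ∀ M : Subgroup G, IsCoatom M → p ∣ Nat.card M → Group.IsNilpotent M) (P : Sylow p G)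
    (hPn : ¬ (P : Subgroup G).Normal) : ∀ M : Subgroup G, IsCoatom M → Group.IsNilpotent M := by
  have hp : p.Prime := Fact.out
  have hc : Cfsg.HasNormalPComplement p G := by
    refine Transfer.hasNormalPComplement_of_frobenius fun D hD g hg ho => ?_
    rcases eq_or_ne D ⊥ with rfl | hDne
    · exact mem_centralizer_iff.2 fun x hx => by
        rw [SetLike.mem_coe, mem_bot] at hx
        rw [hx, one_mul, mul_one]
    haveI := (nontrivial_iff_ne_bot D).2 hDne
    obtain ⟨n, hn0, hn⟩ := hD.nontrivial_iff_card.1 inferInstance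
    have hgD : zpowers g ≤ normalizer (D : Set G) := zpowers_le.2 hg
    have hne : D ⊔ zpowers g ≠ ⊤ := by
      intro htop
      apply hPn
      have hDn : D.Normal := by
        rw [← normalizer_eq_top_iff, eq_top_iff, ← htop]
        exact sup_le le_normalizer hgD
      haveI := hDn
      obtain ⟨R, hR⟩ := hD.exists_le_sylow
      have hidx : ¬ p ∣ D.index := by
        intro hd
        have h1 := card_sup_le_mul hgD
        rw [htop, card_top, ← D.card_mul_index, Nat.card_zpowers] at h1
        have hle : D.index ≤ orderOf g := Nat.le_of_mul_le_mul_left h1 Nat.card_pos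
        have h2 : D.index ∣ orderOf g := by
          have h3 : (zpowers g).map (QuotientGroup.mk' D) = ⊤ := by
            rw [eq_top_iff]
            intro w _
            obtain ⟨u, rfl⟩ := QuotientGroup.mk_surjective w
            obtain ⟨a, ha, b, hb, rfl⟩ := mem_sup_of_normal_left.1 (htop ▸ mem_top u : u ∈ D ⊔ zpowers g)
            refine ⟨b, hb, ?_⟩
            simp [(QuotientGroup.eq_one_iff a).2 ha]
          rw [index_eq_card, ← card_top (G := G ⧸ D), ← h3, ← Nat.card_zpowers]
          exact card_map_dvd _ _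
        exact (hp.coprime_iff_not_dvd.1 ho.symm) (hd.trans h2)
      obtain ⟨S, hS⟩ : ∃ S : Sylow p G, (S : Subgroup G) = D := ⟨hD.toSylow hidx, rfl⟩
      haveI : (S : Subgroup G).Normal := hS ▸ hDn
      haveI := Sylow.unique_of_normal S inferInstance
      rw [Subsingleton.elim P S, hS]
      exact hDn
    have hnil := proper_nilpotent h hne (by
      refine Dvd.dvd.trans ?_ (card_dvd_of_le le_sup_left); rw [hn]; exact dvd_pow_self p hn0.ne')
    refine mem_centralizer_iff.2 fun x hx => ?_
    obtain ⟨k, hk⟩ := IsPGroup.iff_orderOf.1 hD ⟨x, hx⟩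
    rw [Subgroup.orderOf_mk] at hk
    exact (Basics.commute_of_coprime_le hnil (mem_sup_left hx) (mem_sup_right (mem_zpowers g))
      (by rw [hk]; exact (ho.pow_right k).symm)).eq
  obtain ⟨P₀, K, hKn, hKc⟩ := hc
  haveI := hKn
  have hKp : ¬ p ∣ Nat.card K := fun hd => P₀.not_dvd_index (by rw [hKc.index_eq_card]; exact hd)
  have hPK : (Nat.card (P : Subgroup G)).Coprime (Nat.card K) := by
    obtain ⟨k, hk⟩ := IsPGroup.iff_card.1 P.2
    rw [hk]; exact (hp.coprime_iff_not_dvd.2 hKp).pow_left k
  have hKi : K.index = Nat.card (P : Subgroup G) := by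
    rw [hKc.symm.index_eq_card]
    exact Nat.card_congr (P₀.equiv P).toEquiv
  have hnorm : (P : Subgroup G) ≤ normalizer (K : Set G) := by rw [normalizer_eq_top]; exact le_top
  have hsupP : K ⊔ (P : Subgroup G) = ⊤ := by
    refine eq_top_of_card_eq _ (Nat.dvd_antisymm (card_subgroup_dvd_card _) ?_)
    rw [← K.card_mul_index, hKi]
    exact hPK.symm.mul_dvd_of_dvd_of_dvd (card_dvd_of_le le_sup_left) (card_dvd_of_le le_sup_right)
  obtain ⟨q, hq, hKq⟩ : ∃ q : ℕ, q.Prime ∧ IsPGroup q K := by
    by_contra hcon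
    push Not at hcon
    apply hPn
    have hall : ∀ q : ℕ, q.Prime → q ^ (Nat.card K).factorization q ∣
        Nat.card (K ⊓ centralizer ((P : Subgroup G) : Set G) : Subgroup G) := by
      intro q hq
      haveI := Fact.mk hq
      haveI := P.2.isNilpotent
      obtain ⟨S, hS, hSA⟩ := Basics.exists_invariant_isSylowIn (P : Subgroup G) K hnorm hPK (Or.inl inferInstance) q
      rw [← hS.2]
      refine card_dvd_of_le (le_inf hS.1 ?_)
      have hne : S ⊔ (P : Subgroup G) ≠ ⊤ := fun htop => hcon q hq (IsPGroup.of_card (n := (Nat.card K).factorization q) (by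
        rw [← hS.2]
        have h1 := card_sup_le_mul hSA
        rw [htop, card_top, ← K.card_mul_index, hKi] at h1
        exact le_antisymm (Nat.le_of_mul_le_mul_right h1 Nat.card_pos) (card_le_of_le hS.1)))
      have hnil := proper_nilpotent h hne (by
        refine Dvd.dvd.trans ?_ (card_dvd_of_le le_sup_right)
        obtain ⟨k, hk⟩ := IsPGroup.iff_card.1 P.2
        rcases Nat.eq_zero_or_pos k with rfl | hk0
        · exfalso; apply P.not_dvd_index
          rw [pow_zero] at hk
          rw [eq_bot_of_card_eq _ hk, index_bot]; exact hpG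
        · rw [hk]; exact dvd_pow_self p hk0.ne')
      refine fun s hs => mem_centralizer_iff.2 fun x hx => (Basics.commute_of_coprime_le hnil
        (mem_sup_right hx) (mem_sup_left hs) ?_).eq
      exact (hPK.coprime_dvd_right (card_dvd_of_le hS.1)).coprime_dvd_left (orderOf_dvd_natCard _ hx)
        |>.coprime_dvd_right (orderOf_dvd_natCard _ hs)
    have hKC : K ≤ centralizer ((P : Subgroup G) : Set G) := by
      have h1 : Nat.card K ∣ Nat.card (K ⊓ centralizer ((P : Subgroup G) : Set G) : Subgroup G) := by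
        rw [Nat.dvd_iff_prime_pow_dvd_dvd]
        intro q k hq hk
        exact (pow_dvd_pow q ((hq.pow_dvd_iff_le_factorization Nat.card_pos.ne').1 hk)).trans (hall q hq)
      exact inf_eq_left.1 (eq_of_le_of_card_ge inf_le_left (Nat.le_of_dvd Nat.card_pos h1))
    rw [← normalizer_eq_top_iff, eq_top_iff, ← hsupP]
    exact sup_le (hKC.trans (centralizer_le_normalizer _)) le_normalizer
  intro M hM
  by_cases hpM : p ∣ Nat.card M
  · exact h M hM hpM
  · haveI := Fact.mk hq
    have hMK : M ≤ K := Basics.le_of_coprime_index (by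
      rw [hKi]
      obtain ⟨k, hk⟩ := IsPGroup.iff_card.1 P.2
      rw [hk]; exact (hp.coprime_iff_not_dvd.2 hpM).symm.pow_right k)
    exact Basics.isNilpotent_of_le' hMK hKq.isNilpotent

theorem case_normal {p : ℕ} [Fact p.Prime] (hpG : p ∣ Nat.card G)
    (h : ∀ M : Subgroup G, IsCoatom M → p ∣ Nat.card M → Group.IsNilpotent M) (P : Sylow p G)
    (hPn : (P : Subgroup G).Normal) (M : Subgroup G) (hM : IsCoatom M) (hMn : ¬ Group.IsNilpotent M) :
    ∃ Z K : Subgroup G, Z.Normal ∧ K.Normal ∧ Z ⊓ K = ⊥ ∧ Z ⊔ K = ⊤ ∧ Nat.card Z = p ∧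
      Cfsg.IsMinimalNonNilpotent K ∧ ¬ p ∣ Nat.card K := by
  have hp : p.Prime := Fact.out
  haveI := hPn
  have hpM : ¬ p ∣ Nat.card M := fun hd => hMn (h M hM hd)
  have hPne : (P : Subgroup G) ≠ ⊥ := fun hb => P.not_dvd_index (by rw [hb, index_bot]; exact hpG)
  obtain ⟨k, hk⟩ := IsPGroup.iff_card.1 P.2
  have hk0 : k ≠ 0 := fun h0 => hPne (eq_bot_of_card_eq _ (by rw [hk, h0, pow_zero]))
  have hpP : p ∣ Nat.card (P : Subgroup G) := by rw [hk]; exact dvd_pow_self p hk0
  have hPM : (P : Subgroup G) ⊔ M = ⊤ := hM.2 _ (lt_of_le_of_ne le_sup_right fun e =>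
    hpM (hpP.trans (card_dvd_of_le (e ▸ le_sup_left))))
  have hnM : M ≤ normalizer ((P : Subgroup G) : Set G) := by rw [normalizer_eq_top]; exact le_top
  have hcop : (Nat.card (P : Subgroup G)).Coprime (Nat.card M) := by
    rw [hk]; exact (hp.coprime_iff_not_dvd.2 hpM).pow_left k
  have hcard : Nat.card G = Nat.card (P : Subgroup G) * Nat.card M := by
    refine Nat.dvd_antisymm ?_ (hcop.mul_dvd_of_dvd_of_dvd (card_subgroup_dvd_card _) (card_subgroup_dvd_card _))
    rw [← (P : Subgroup G).card_mul_index]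
    refine mul_dvd_mul_left _ ?_
    have h1 : (M.map (QuotientGroup.mk' (P : Subgroup G))) = ⊤ := by
      rw [eq_top_iff]
      intro w _
      obtain ⟨u, rfl⟩ := QuotientGroup.mk_surjective w
      obtain ⟨a, ha, b, hb, rfl⟩ := mem_sup_of_normal_left.1 (hPM ▸ mem_top u : u ∈ (P : Subgroup G) ⊔ M)
      refine ⟨b, hb, ?_⟩
      simp [(QuotientGroup.eq_one_iff a).2 ha]
    rw [index_eq_card, ← card_top (G := G ⧸ (P : Subgroup G)), ← h1]
    exact card_map_dvd _ _
  have hproper : ∀ H : Subgroup G, H ≤ M → H ≠ M → ∀ P₀ : Subgroup G, P₀ ≤ P →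
      H ≤ normalizer (P₀ : Set G) → P₀ ⊔ H ≠ ⊤ := by
    intro H hH hHne P₀ hP₀ hn htop
    have h1 := card_sup_le_mul hn
    rw [htop, card_top, hcard] at h1
    refine hHne (eq_of_le_of_card_ge hH ?_)
    exact Nat.le_of_mul_le_mul_left (h1.trans (Nat.mul_le_mul_right _ (card_le_of_le hP₀))) Nat.card_pos
  have hcomm : ∀ x ∈ (P : Subgroup G), ∀ m ∈ M, x * m = m * x := by
    intro x hx m hm
    have hne : zpowers m ≠ M := fun e => hMn (by
      haveI : IsMulCommutative M := e ▸ inferInstance
      letI : CommGroup M := { (inferInstance : Group M) with mul_comm := IsMulCommutative.is_comm.comm }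
      infer_instance)
    have hnil := proper_nilpotent h (hproper _ (zpowers_le.2 hm) hne _ le_rfl ((zpowers_le.2 hm).trans hnM))
      (hpP.trans (card_dvd_of_le le_sup_left))
    exact (Basics.commute_of_coprime_le hnil (mem_sup_left hx) (mem_sup_right (mem_zpowers m))
      ((hcop.coprime_dvd_left (orderOf_dvd_natCard _ hx)).coprime_dvd_right (orderOf_dvd_natCard _ hm))).eq
  have hPCM : (P : Subgroup G) ≤ centralizer (M : Set G) := fun x hx => mem_centralizer_iff.2 fun m hm =>
    (hcomm x hx m hm).symm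
  have hMnorm : M.Normal := by
    rw [← normalizer_eq_top_iff, eq_top_iff, ← hPM]
    exact sup_le (hPCM.trans (centralizer_le_normalizer _)) le_normalizer
  have hdisj : (P : Subgroup G) ⊓ M = ⊥ := inf_eq_bot_of_coprime hcop
  have hsub : ∀ P₀ : Subgroup G, P₀ ≤ P → P₀ ≠ ⊥ → P₀ = P := by
    intro P₀ hP₀ hne
    by_contra hne'
    have hn : M ≤ normalizer (P₀ : Set G) := fun m hm => (centralizer_le_normalizer _)
      (mem_centralizer_iff.2 fun x hx => (hcomm x (hP₀ hx) m hm) : m ∈ centralizer (P₀ : Set G))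
    have htop : P₀ ⊔ M ≠ ⊤ := fun e => by
      have h1 := card_sup_le_mul hn
      rw [e, card_top, hcard] at h1
      exact hne' (eq_of_le_of_card_ge hP₀ (Nat.le_of_mul_le_mul_right h1 Nat.card_pos))
    apply hMn
    refine Basics.isNilpotent_of_le' (le_sup_right (a := P₀)) (proper_nilpotent h htop ?_)
    haveI := (nontrivial_iff_ne_bot P₀).2 hne
    obtain ⟨i, hi0, hi⟩ := (P.2.to_le hP₀).nontrivial_iff_card.1 inferInstance
    exact ((hi ▸ dvd_pow_self p hi0.ne') : p ∣ Nat.card P₀).trans (card_dvd_of_le le_sup_left)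
  have hPcard : Nat.card (P : Subgroup G) = p := by
    obtain ⟨x, hx⟩ := exists_prime_orderOf_dvd_card' p hpP
    have hne : zpowers (x : G) ≠ ⊥ := by
      rw [ne_eq, zpowers_eq_bot, ← orderOf_eq_one_iff, Subgroup.orderOf_coe, hx]; exact hp.ne_one
    have h1 := hsub _ (zpowers_le.2 x.2) hne
    rw [← h1, Nat.card_zpowers, Subgroup.orderOf_coe, hx]
  refine ⟨(P : Subgroup G), M, hPn, hMnorm, hdisj, hPM, hPcard, ⟨hMn, fun H hH => ?_⟩, hpM⟩
  have hle : H.map M.subtype ≤ M := map_subtype_le _
  have hne : H.map M.subtype ≠ M := fun e => hH (map_injective M.subtype_injective (by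
    rw [e, ← MonoidHom.range_eq_map, range_subtype]))
  have hnil := proper_nilpotent h (hproper _ hle hne _ le_rfl (hle.trans hnM))
    (hpP.trans (card_dvd_of_le le_sup_left))
  haveI := Basics.isNilpotent_of_le' (le_sup_right (a := (P : Subgroup G))) hnil
  exact Group.nilpotent_of_mulEquiv (H.equivMapOfInjective _ M.subtype_injective).symm


/-- Let G be a finite group and p a prime dividing its order. Every maximal subgroup of G of order divisible by p is nilpotent if and only if G is nilpotent, or G is a minimal non-nilpotent group, or G is the internal direct product of a normal subgroup of order p and a normal minimal non-nilpotent subgroup of order prime to p. -/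
theorem result {G : Type*} [Group G] [Finite G] (p : ℕ) (hp : p.Prime) (hpG : p ∣ Nat.card G) :
    (∀ M : Subgroup G, IsCoatom M → p ∣ Nat.card M → Group.IsNilpotent M) ↔
      (Group.IsNilpotent G ∨ Cfsg.IsMinimalNonNilpotent G ∨
        ∃ Z K : Subgroup G, Z.Normal ∧ K.Normal ∧ Z ⊓ K = ⊥ ∧ Z ⊔ K = ⊤ ∧ Nat.card Z = p ∧
          Cfsg.IsMinimalNonNilpotent K ∧ ¬ p ∣ Nat.card K) := by
  haveI := Fact.mk hp
  constructor
  · intro h
    let P : Sylow p G := default
    by_cases hPn : (P : Subgroup G).Normal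
    · by_cases hall : ∀ M : Subgroup G, IsCoatom M → Group.IsNilpotent M
      · rcases nilpotent_or_minimal hall with h1 | h1
        · exact Or.inl h1
        · exact Or.inr (Or.inl h1)
      · push Not at hall
        obtain ⟨M, hM, hMn⟩ := hall
        exact Or.inr (Or.inr (case_normal hpG h P hPn M hM hMn))
    · rcases nilpotent_or_minimal (case_not_normal hpG h P hPn) with h1 | h1
      · exact Or.inl h1
      · exact Or.inr (Or.inl h1)
  · rintro (h | h | ⟨Z, K, hZ, hK, hd, hs, hZc, hKm, hpK⟩) M hM hpM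
    · haveI := h; infer_instance
    · exact h.2 M hM.1
    · haveI := hK
      haveI := hZ
      obtain ⟨x, hx⟩ := exists_prime_orderOf_dvd_card' p hpM
      have hxo : orderOf (x : G) = p := by rw [Subgroup.orderOf_coe, hx]
      have hZi : K.index = p := by
        rw [← hZc]
        exact (Subgroup.isComplement'_of_disjoint_and_mul_eq_univ (disjoint_iff.2 hd)
          (by rw [← Subgroup.normal_mul, hs]; rfl)).index_eq_card
      have hZM : Z ≤ M := by
        have hcomm : ∀ z ∈ Z, ∀ k ∈ K, z * k = k * z := fun z hz k hk =>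
          (Subgroup.commute_of_normal_of_disjoint _ _ hZ hK (disjoint_iff.2 hd) _ _ hz hk).eq
        obtain ⟨z, hz, k, hk, hzk⟩ := Subgroup.mem_sup_of_normal_left.1 (hs ▸ Subgroup.mem_top (x : G) : (x : G) ∈ Z ⊔ K)
        have hz' : z ^ p = 1 := orderOf_dvd_iff_pow_eq_one.1 (hZc ▸ Subgroup.orderOf_dvd_natCard _ hz)
        have hk' : k ^ p = 1 := by
          have h1 := (show Commute z k from hcomm z hz k hk).mul_pow p
          rw [hzk, hz', one_mul, ← hxo, pow_orderOf_eq_one, hxo] at h1
          exact h1.symm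
        have hk1 : k = 1 := by
          rw [← orderOf_eq_one_iff]
          exact Nat.eq_one_of_dvd_coprimes (hp.coprime_iff_not_dvd.2 hpK) (orderOf_dvd_of_pow_eq_one hk')
            (Subgroup.orderOf_dvd_natCard _ hk)
        have hxZ : Subgroup.zpowers (x : G) = Z := Subgroup.eq_of_le_of_card_ge
          (Subgroup.zpowers_le.2 (by rw [← hzk, hk1, mul_one]; exact hz)) (by rw [Nat.card_zpowers, hxo, hZc])
        rw [← hxZ]; exact Subgroup.zpowers_le.2 x.2
      have hMK : M ⊓ K ≠ K := fun e => hM.1 (eq_top_iff.2 (hs ▸ sup_le hZM (inf_eq_right.1 e)))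
      haveI h1 : Group.IsNilpotent ((M ⊓ K).subgroupOf K) := hKm.2 _ fun e => hMK
        (le_antisymm inf_le_right (Subgroup.subgroupOf_eq_top.1 e))
      haveI h2 : Group.IsNilpotent Z := (IsPGroup.of_card (n := 1) (by rw [hZc, pow_one]) : IsPGroup p Z).isNilpotent
      haveI h3 : Group.IsNilpotent (M ⊓ K : Subgroup G) := Group.nilpotent_of_mulEquiv (Subgroup.subgroupOfEquivOfLe inf_le_right)
      let f : Z × (M ⊓ K : Subgroup G) →* G := MonoidHom.noncommCoprod Z.subtype (M ⊓ K).subtype fun a b =>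
        Subgroup.commute_of_normal_of_disjoint _ _ hZ hK (disjoint_iff.2 hd) _ _ a.2 b.2.2
      have hr : M = f.range := by
        refine le_antisymm (fun m hm => ?_) ?_
        · obtain ⟨z, hz, k, hk, hzk⟩ := Subgroup.mem_sup_of_normal_left.1 (hs ▸ Subgroup.mem_top m : m ∈ Z ⊔ K)
          have hkM : k ∈ M := by
            have := mul_mem (inv_mem (hZM hz)) hm
            rwa [← hzk, inv_mul_cancel_left] at this
          exact ⟨(⟨z, hz⟩, ⟨k, hkM, hk⟩), hzk⟩
        · rintro _ ⟨⟨z, k⟩, rfl⟩
          exact mul_mem (hZM z.2) k.2.1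
      rw [hr]
      exact Group.nilpotent_of_surjective f.rangeRestrict f.rangeRestrict_surjective

end Cfsg.Agent.S4242
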