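import Cfsg.Statements.S4244
-- import your own Cfsg.Agent.* helpers here

set_option autoImplicit false
open Cfsg
open scoped Pointwise commutatorElement
set_option linter.all false

namespace Cfsg.Agent.S4244

lemma relIndex_dvd_index {G : Type*} [Group G] [Finite G] (H F : Subgroup G) [F.Normal] :
    H.relIndex F ∣ H.index := by
  refine Dvd.dvd.trans (dvd_of_eq (?_ : _ = H.relIndex (H ⊔ F)))
    (Dvd.intro _ (Subgroup.relIndex_mul_index (le_sup_left : H ≤ H ⊔ F)))
  have h1 := Subgroup.card_mul_index ((H ⊓ F).subgroupOf F)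
  have h2 := Subgroup.card_mul_index ((H ⊓ F).subgroupOf H)
  have h3 := Subgroup.card_mul_index (H.subgroupOf (H ⊔ F))
  have h4 := Subgroup.card_mul_index (F.subgroupOf (H ⊔ F))
  rw [Nat.card_congr (Subgroup.subgroupOfEquivOfLe (inf_le_right : H ⊓ F ≤ F)).toEquiv, ← Subgroup.relIndex, Subgroup.inf_relIndex_right] at h1
  rw [Nat.card_congr (Subgroup.subgroupOfEquivOfLe (inf_le_left : H ⊓ F ≤ H)).toEquiv, ← Subgroup.relIndex, Subgroup.inf_relIndex_left] at h2
  rw [Nat.card_congr (Subgroup.subgroupOfEquivOfLe (le_sup_left : H ≤ H ⊔ F)).toEquiv, ← Subgroup.relIndex] at h3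
  rw [Nat.card_congr (Subgroup.subgroupOfEquivOfLe (le_sup_right : F ≤ H ⊔ F)).toEquiv, ← Subgroup.relIndex, Subgroup.relIndex_sup_right, ← h3, ← h1, ← h2] at h4
  have hpos : 0 < Nat.card (H ⊓ F : Subgroup G) * F.relIndex H := h2 ▸ Nat.card_pos
  refine Nat.eq_of_mul_eq_mul_left hpos ?_
  linarith


/-- Let H be a subnormal subgroup of a finite group G. Then for every subgroup K of G the index of H ∩ K in H divides the index of K in G. -/
theorem result {G : Type*} [Group G] [Finite G] (H : Subgroup G) (hH : H.IsSubnormal) (K : Subgroup G) :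
    (H ⊓ K).relIndex H ∣ K.index := by
  rw [Subgroup.inf_relIndex_left]
  induction hH with
  | top => rw [Subgroup.relIndex_top_right]
  | step H M hle hM hN ih =>
    refine dvd_trans ?_ ih
    haveI := hN
    rw [← Subgroup.relIndex_subgroupOf hle]
    exact relIndex_dvd_index (K.subgroupOf M) (H.subgroupOf M)

end Cfsg.Agent.S4244
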