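import Cfsg.Statements.S4245
import Cfsg.Agent.Lib.CT.Integral

set_option autoImplicit false
open Cfsg
open scoped Pointwise commutatorElement
set_option linter.all false

namespace Cfsg.Agent.S4245

universe u

/-- The hypothesis of the theorem, stated for an arbitrary group. -/
def Good (G : Type u) [Group G] : Prop :=
  ∃ (A : Subgroup G) (p s : ℕ), p.Prime ∧ A.index = p ^ s ∧
    ∃ (B : Subgroup A) (_ : B.Normal), IsCyclic B ∧ IsCyclic (A ⧸ B) ∧ ∃ r : ℕ, Nat.card (A ⧸ B) = 2 ^ r

lemma good_transfer {G X : Type u} [Group G] [Group X] [Finite G] [Finite X]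
    (A : Subgroup G) (A' : Subgroup X) (B : Subgroup A) [B.Normal] (B' : Subgroup A') [B'.Normal]
    (p s t : ℕ) (hp : p.Prime) (hdvd : A'.index ∣ p ^ s)
    (hB' : IsCyclic B') (hQ : IsCyclic (A' ⧸ B')) (hr : Nat.card (A' ⧸ B') ∣ 2 ^ t) : Good X := by
  obtain ⟨i, -, hi⟩ := (Nat.dvd_prime_pow hp).mp hdvd
  obtain ⟨j, -, hj⟩ := (Nat.dvd_prime_pow Nat.prime_two).mp hr
  exact ⟨A', p, i, hp, hi, B', inferInstance, hB', hQ, j, hj⟩

lemma relIndex_dvd_index {G : Type*} [Group G] [Finite G] (H F : Subgroup G) [F.Normal] :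
    H.relIndex F ∣ H.index := by
  refine Dvd.dvd.trans (dvd_of_eq (?_ : _ = H.relIndex (H ⊔ F)))
    (Dvd.intro _ (Subgroup.relIndex_mul_index (le_sup_left : H ≤ H ⊔ F)))
  have h1 := Subgroup.card_mul_index ((H ⊓ F).subgroupOf F)
  have h2 := Subgroup.card_mul_index ((H ⊓ F).subgroupOf H)
  have h3 := Subgroup.card_mul_index (H.subgroupOf (H ⊔ F))
  have h4 := Subgroup.card_mul_index (F.subgroupOf (H ⊔ F))
  rw [Nat.card_congr (Subgroup.subgroupOfEquivOfLe (inf_le_right : H ⊓ F ≤ F)).toEquiv, ← Subgroup.relIndex, Subgroup.inf_relIndex_right] at h1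
  rw [Nat.card_congr (Subgroup.subgroupOfEquivOfLe (inf_le_left : H ⊓ F ≤ H)).toEquiv, ← Subgroup.relIndex, Subgroup.inf_relIndex_left] at h2
  rw [Nat.card_congr (Subgroup.subgroupOfEquivOfLe (le_sup_left : H ≤ H ⊔ F)).toEquiv, ← Subgroup.relIndex] at h3
  rw [Nat.card_congr (Subgroup.subgroupOfEquivOfLe (le_sup_right : F ≤ H ⊔ F)).toEquiv, ← Subgroup.relIndex, Subgroup.relIndex_sup_right, ← h3, ← h1, ← h2] at h4
  have hpos : 0 < Nat.card (H ⊓ F : Subgroup G) * F.relIndex H := h2 ▸ Nat.card_pos
  refine Nat.eq_of_mul_eq_mul_left hpos ?_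
  linarith

lemma Good.normal {G : Type u} [Group G] [Finite G] (h : Good G) (N : Subgroup G) [N.Normal] :
    Good N := by
  obtain ⟨A, p, s, hp, hA, B, hBn, hB, hQ, r, hr⟩ := h
  let f : A.subgroupOf N →* A := (N.subtype.comp (A.subgroupOf N).subtype).codRestrict A fun x => x.2
  have hf : Function.Injective f := fun x y h =>
    Subtype.ext (Subtype.ext (congrArg (fun z : A => (z : G)) h))
  let g : A.subgroupOf N →* A ⧸ B := (QuotientGroup.mk' B).comp f
  have hker : g.ker = B.comap f := by
    rw [← MonoidHom.comap_ker, QuotientGroup.ker_mk']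
  refine good_transfer A (A.subgroupOf N) B (B.comap f) p s r hp
    (hA ▸ relIndex_dvd_index A N) ?_ ?_ ?_
  · exact isCyclic_of_injective (f.subgroupComap B) (fun x y h => Subtype.ext (hf (congrArg Subtype.val h)))
  · exact isCyclic_of_injective ((QuotientGroup.kerLift g).comp (QuotientGroup.quotientMulEquivOfEq hker.symm).toMonoidHom)
      ((QuotientGroup.kerLift_injective g).comp (MulEquiv.injective _))
  · rw [← hr, Nat.card_congr (QuotientGroup.quotientMulEquivOfEq hker.symm).toEquiv]
    exact Subgroup.card_dvd_of_injective _ (QuotientGroup.kerLift_injective g)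

lemma Good.quotient {G : Type u} [Group G] [Finite G] (h : Good G) (N : Subgroup G) [N.Normal] :
    Good (G ⧸ N) := by
  obtain ⟨A, p, s, hp, hA, B, hBn, hB, hQ, r, hr⟩ := h
  let g := (QuotientGroup.mk' N).subgroupMap A
  have hg : Function.Surjective g := (QuotientGroup.mk' N).subgroupMap_surjective A
  haveI : (B.map g).Normal := hBn.map g hg
  let q : A ⧸ B →* (A.map (QuotientGroup.mk' N)) ⧸ B.map g :=
    QuotientGroup.map B (B.map g) g (Subgroup.le_comap_map g B)
  have hq : Function.Surjective q := by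
    intro y
    obtain ⟨y, rfl⟩ := QuotientGroup.mk'_surjective _ y
    obtain ⟨x, rfl⟩ := hg y
    exact ⟨QuotientGroup.mk x, rfl⟩
  refine good_transfer A (A.map (QuotientGroup.mk' N)) B (B.map g) p s r hp
    (hA ▸ Subgroup.index_map_dvd _ (QuotientGroup.mk'_surjective N)) ?_ ?_ ?_
  · exact isCyclic_of_surjective (g.subgroupMap B) (g.subgroupMap_surjective B)
  · exact isCyclic_of_surjective q hq
  · rw [← hr]; exact Subgroup.card_dvd_of_surjective q hq

lemma not_simple {G : Type u} [Group G] [Finite G] [IsSimpleGroup G] (h : Good G) :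
    ∀ a b : G, a * b = b * a := by
  classical
  haveI := Fintype.ofFinite G
  by_contra hnc
  have hnp : ∀ (g : G) (q k : ℕ), q.Prime → g ≠ 1 →
      (Subgroup.centralizer ({g} : Set G)).index ∣ q ^ k → False := by
    intro g q k hq hg hd
    obtain ⟨i, -, hi⟩ := (Nat.dvd_prime_pow hq).mp hd
    have hprime := CT.card_prime_of_class_prime_pow hq hg hi
    haveI : Fact (Nat.card G).Prime := ⟨hprime⟩
    haveI : IsCyclic G := isCyclic_of_prime_card rfl
    exact hnc fun a b => (IsCyclic.commutative (α := G)).is_comm.comm a b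
  obtain ⟨A, p, s, hp, hA, B, hBn, hB, hQ, r, hr⟩ := h
  have hcen : ∀ z : A, (∀ a : A, z * a = a * z) → z = 1 := by
    intro z hz
    by_contra hne
    refine hnp (z : G) p s hp (fun h => hne (Subtype.ext h)) (hA ▸ Subgroup.index_dvd_of_le fun a ha => ?_)
    rw [Subgroup.mem_centralizer_singleton_iff]
    exact (congrArg Subtype.val (hz ⟨a, ha⟩)).symm
  have hBcard : Nat.card A = 2 ^ r * Nat.card B := by
    rw [← hr, Subgroup.card_eq_card_quotient_mul_card_subgroup B]
  obtain ⟨c, hc, hc1⟩ : ∃ c : A, c ∈ B ∧ c ≠ 1 := by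
    by_contra hne
    push Not at hne
    have hbot : B = ⊥ := eq_bot_iff.mpr fun x hx => Subgroup.mem_bot.mpr (hne x hx)
    subst hbot
    haveI : IsCyclic A := isCyclic_of_surjective (QuotientGroup.quotientBot (G := A)).toMonoidHom (MulEquiv.surjective _)
    haveI : Subsingleton A := ⟨fun a b => by
      rw [hcen a fun x => (IsCyclic.commutative (α := A)).is_comm.comm a x,
        hcen b fun x => (IsCyclic.commutative (α := A)).is_comm.comm b x]⟩
    obtain ⟨g, hg⟩ := exists_ne (1 : G)
    refine hnp g p s hp hg ?_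
    rw [← hA]
    exact Subgroup.index_dvd_of_le (fun a ha => by
      have : (⟨a, ha⟩ : A) = 1 := Subsingleton.elim _ _
      rw [show a = 1 from congrArg Subtype.val this]; exact one_mem _)
  have hcB : (B.map A.subtype) ≤ Subgroup.centralizer ({(c : G)} : Set G) := by
    rintro x ⟨y, hy, rfl⟩
    rw [Subgroup.mem_centralizer_singleton_iff]
    exact congrArg (fun z : B => ((z : A) : G)) ((IsCyclic.commutative (α := B)).is_comm.comm ⟨y, hy⟩ ⟨c, hc⟩)
  rcases hp.eq_two_or_odd' with rfl | hpo
  · refine hnp (c : G) 2 (r + s) Nat.prime_two (fun h => hc1 (Subtype.ext h)) ?_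
    refine (Subgroup.index_dvd_of_le hcB).trans (dvd_of_eq ?_)
    rw [Subgroup.index_map_subtype, hA, show B.index = 2 ^ r from hr, pow_add]
  haveI : Fact (Nat.Prime 2) := ⟨Nat.prime_two⟩
  have hBodd : ¬ 2 ∣ Nat.card B := by
    intro h2
    obtain ⟨t, ht⟩ := exists_prime_orderOf_dvd_card' (G := B) 2 h2
    have ht1 : (t : A) ≠ 1 := by
      intro h
      have : t = 1 := Subtype.ext h
      rw [this, orderOf_one] at ht; omega
    refine ht1 (hcen t fun a => ?_)
    have hmem : a * (t : A) * a⁻¹ ∈ B := hBn.conj_mem _ t.2 a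
    have ht' : orderOf (⟨_, hmem⟩ : B) = 2 := by
      rw [← Subgroup.orderOf_coe]
      show orderOf ((MulAut.conj a) (t : A)) = 2
      rw [MulEquiv.orderOf_eq, Subgroup.orderOf_coe, ht]
    have huniq : (⟨_, hmem⟩ : B) = t := by
      haveI := Fintype.ofFinite B
      have h1 := IsCyclic.card_pow_eq_one_le (α := B) (n := 2) (by norm_num)
      by_contra hne
      have hsub : ({1, t, ⟨_, hmem⟩} : Finset B) ⊆ ({a | a ^ 2 = 1} : Finset B) := by
        intro x hx
        simp only [Finset.mem_insert, Finset.mem_singleton] at hx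
        simp only [Finset.mem_filter, Finset.mem_univ, true_and]
        rcases hx with rfl | rfl | rfl
        · simp
        · rw [← ht, pow_orderOf_eq_one]
        · rw [← ht', pow_orderOf_eq_one]
      have h3 := (Finset.card_le_card hsub).trans h1
      have hne1 : (1 : B) ≠ t := fun h => ht1 (by rw [← h]; rfl)
      have hne2 : (1 : B) ≠ ⟨_, hmem⟩ := fun h => by rw [← h, orderOf_one] at ht'; omega
      rw [Finset.card_insert_of_notMem (by simp [hne1, hne2]),
        Finset.card_insert_of_notMem (by simpa using fun h => hne h.symm), Finset.card_singleton] at h3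
      omega
    have := congrArg (fun z : B => (z : A)) huniq
    calc (t : A) * a = a * (t : A) * a⁻¹ * a := by rw [show a * (t : A) * a⁻¹ = t from this]
      _ = a * t := by group
  have hr0 : r ≠ 0 := by
    rintro rfl
    have htop : B = ⊤ := Subgroup.eq_top_of_card_eq B (by rw [hBcard, pow_zero, one_mul])
    refine hc1 (hcen c fun a => ?_)
    have ha : a ∈ B := htop ▸ Subgroup.mem_top a
    exact congrArg Subtype.val ((IsCyclic.commutative (α := B)).is_comm.comm ⟨c, hc⟩ ⟨a, ha⟩)
  obtain ⟨y, hy⟩ := hQ.exists_generator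
  obtain ⟨a, rfl⟩ := QuotientGroup.mk'_surjective B y
  have hda : 2 ^ r ∣ orderOf (a : G) := by
    rw [Subgroup.orderOf_coe, ← hr, ← orderOf_eq_card_of_forall_mem_zpowers hy]
    exact orderOf_map_dvd _ _
  obtain ⟨m, hm⟩ := hda
  set z := (a : G) ^ m
  have hz : Nat.card (Subgroup.zpowers z) = 2 ^ r := by
    rw [Nat.card_zpowers]
    have hm0 : m ≠ 0 := by
      rintro rfl
      exact (orderOf_pos (a : G)).ne' (by simpa using hm)
    rw [orderOf_pow_of_dvd hm0 ⟨2 ^ r, by rw [hm, mul_comm]⟩, hm, Nat.mul_div_cancel _ (Nat.pos_of_ne_zero hm0)]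
  have hG : Nat.card G = 2 ^ r * (Nat.card B * p ^ s) := by
    rw [← A.card_mul_index, hA, hBcard, mul_assoc]
  have hodd : ¬ 2 ∣ Nat.card B * p ^ s := by
    intro h
    rcases (Nat.Prime.dvd_mul Nat.prime_two).mp h with h | h
    · exact hBodd h
    · have := Nat.prime_two.dvd_of_dvd_pow h
      exact (Nat.odd_iff.mp hpo).symm.trans_ne (by omega) rfl
  have hfac : (Nat.card G).factorization 2 = r := by
    rw [hG, Nat.factorization_mul (pow_ne_zero _ two_ne_zero) (fun h0 => hodd (by rw [h0]; exact dvd_zero 2)),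
      Finsupp.add_apply, Nat.prime_two.factorization_pow, Nat.factorization_eq_zero_of_not_dvd hodd]
    simp
  let P : Sylow 2 G := Sylow.ofCard (Subgroup.zpowers z) (by rw [hz, hfac])
  have hPc : IsCyclic P := by
    show IsCyclic (Subgroup.zpowers z)
    infer_instance
  have hmin : (Nat.card G).minFac = 2 := by
    rw [Nat.minFac_eq_two_iff, hG]
    exact Dvd.dvd.mul_right (dvd_pow_self 2 hr0) _
  have hK := IsCyclic.isComplement' hmin hPc
  set K := (MonoidHom.transferSylow P (hPc.normalizer_le_centralizer hmin)).ker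
  have hcm := hK.card_mul
  have hP2 : Nat.card (P : Subgroup G) = 2 ^ r := hz
  rw [hP2] at hcm
  rcases (inferInstance : K.Normal).eq_bot_or_eq_top with h | h
  · -- the group is cyclic
    apply hnc
    rw [h, Subgroup.card_bot, one_mul] at hcm
    have htop : (P : Subgroup G) = ⊤ := Subgroup.eq_top_of_card_eq _ (by rw [hP2, hcm])
    intro u v
    have hu : u ∈ (P : Subgroup G) := htop ▸ Subgroup.mem_top u
    have hv : v ∈ (P : Subgroup G) := htop ▸ Subgroup.mem_top v
    exact congrArg Subtype.val ((IsCyclic.commutative (α := P)).is_comm.comm ⟨u, hu⟩ ⟨v, hv⟩)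
  · rw [h, Subgroup.card_top] at hcm
    have h1 : 1 < 2 ^ r := Nat.one_lt_pow hr0 (by norm_num)
    have h2 : 0 < Nat.card G := Nat.card_pos
    nlinarith

theorem main : ∀ (n : ℕ) (G : Type u) [Group G] [Finite G], Nat.card G = n → Good G → Group.IsSolvable G := by
  intro n
  induction n using Nat.strong_induction_on with
  | _ n ih =>
  intro G _ _ hn h
  by_cases hsub : Subsingleton G
  · infer_instance
  haveI : Nontrivial G := not_subsingleton_iff_nontrivial.mp hsub
  by_cases hs : IsSimpleGroup G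
  · exact Group.isSolvable_of_comm (not_simple h)
  · obtain ⟨N, hNn, hN0, hN1⟩ : ∃ N : Subgroup G, N.Normal ∧ N ≠ ⊥ ∧ N ≠ ⊤ := by
      by_contra hc
      push Not at hc
      exact hs ⟨fun H hH => or_iff_not_imp_left.mpr (hc H hH)⟩
    haveI := hNn
    have h1 : 1 < Nat.card N := Finite.one_lt_card_iff_nontrivial.mpr ((Subgroup.nontrivial_iff_ne_bot N).mpr hN0)
    have h2 : 1 < N.index := N.one_lt_index_of_ne_top hN1
    have h3 := N.card_mul_index
    haveI : Group.IsSolvable N := ih _ (by rw [← hn, ← h3]; exact lt_mul_right (by omega) h2) N rfl (h.normal N)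
    haveI : Group.IsSolvable (G ⧸ N) := ih _ (by rw [← hn, ← h3]; exact lt_mul_left (show 0 < N.index by omega) h1) (G ⧸ N) rfl (h.quotient N)
    exact Group.isSolvable_of_ker_le_range N.subtype (QuotientGroup.mk' N) (by simp)


/-- Let G be a finite group with a subgroup A of prime-power index. Suppose A has a normal cyclic subgroup B such that A/B is cyclic of order a power of 2. Then G is solvable. -/
theorem result {G : Type*} [Group G] [Finite G] (A : Subgroup G) (p s : ℕ) (hp : p.Prime) (hA : A.index = p ^ s)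
    (B : Subgroup A) [B.Normal] (hB : IsCyclic B) (hAB : IsCyclic (A ⧸ B)) (r : ℕ) (hr : Nat.card (A ⧸ B) = 2 ^ r) :
    Group.IsSolvable G := by
  exact main _ G rfl ⟨A, p, s, hp, hA, B, inferInstance, hB, hAB, r, hr⟩

end Cfsg.Agent.S4245
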