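import Cfsg.Statements.S4250
import Cfsg.Agent.Lib.Tech.AlperinP
import Mathlib

set_option autoImplicit false
open Cfsg
open scoped Pointwise
set_option linter.all false

namespace Cfsg.Agent.S4250

open Cfsg.Agent.Tech
open scoped commutatorElement

variable {G : Type*} [Group G] {p : ℕ} [Fact p.Prime]

theorem chain_comm (P : Sylow p G) (X : Subgroup G)
    (h1 : ∀ a ∈ (P : Subgroup G), ∀ x ∈ Subgroup.normalizer ((P : Subgroup G) : Set G), ⁅a, x⁆ ∈ X)
    (h2 : ∀ (Q : Sylow p G) (a x : G), a ∈ (P : Subgroup G) ⊓ (Q : Subgroup G) →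
      x ∈ Subgroup.normalizer (((P : Subgroup G) ⊓ (Q : Subgroup G) : Subgroup G) : Set G) →
      ¬ p ∣ ((P : Subgroup G) ⊓ Subgroup.normalizer (((P : Subgroup G) ⊓ (Q : Subgroup G) : Subgroup G) : Set G)).relIndex (Subgroup.normalizer (((P : Subgroup G) ⊓ (Q : Subgroup G) : Subgroup G) : Set G)) →
      ¬ p ∣ ((Q : Subgroup G) ⊓ Subgroup.normalizer (((P : Subgroup G) ⊓ (Q : Subgroup G) : Subgroup G) : Set G)).relIndex (Subgroup.normalizer (((P : Subgroup G) ⊓ (Q : Subgroup G) : Subgroup G) : Set G)) →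
      (∃ k : ℕ, orderOf x = p ^ k) → ⁅a, x⁆ ∈ X) :
    ∀ (l : List (Sylow p G × G)) (A : Set G) (a : G), a ∈ A → Chain P A l →
      a⁻¹ * ((l.map Prod.snd).prod⁻¹ * a * (l.map Prod.snd).prod) ∈ X
  | [], A, a, _, _ => by simp
  | s :: l, A, a, ha, ⟨⟨⟨hs1, hs2, hs3, hs4⟩, hA⟩, hl⟩ => by
    obtain ⟨haP, haQ⟩ := Subgroup.mem_inf.1 (hA ha)
    have hb : a⁻¹ * (s.2⁻¹ * a * s.2) ∈ X := by
      rw [show a⁻¹ * (s.2⁻¹ * a * s.2) = ⁅a⁻¹, s.2⁻¹⁆ by simp [commutatorElement_def, mul_assoc]]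
      rcases hs4 with h | ⟨k, hk⟩
      · refine h1 _ (inv_mem haP) _ (inv_mem ?_)
        rw [h, inf_idem] at hs1
        exact hs1
      · refine h2 s.1 _ _ (inv_mem (hA ha)) (inv_mem hs1) hs2 hs3 ⟨k, by rw [orderOf_inv, hk]⟩
    have h3 := mul_mem hb (chain_comm P X h1 h2 l (rconj s.2 A) (s.2⁻¹ * a * s.2) ⟨a, ha, rfl⟩ hl)
    rw [List.map_cons, List.prod_cons]
    convert h3 using 1
    group


/-- Let P be a Sylow p-subgroup of a finite group G. Call an intersection H = P ∩ Q with a Sylow p-subgroup Q tame when N_P(H) and N_Q(H) are Sylow p-subgroups of N_G(H). Then P ∩ G′ is generated by [P, N_G(P)] together with the commutator subgroups [P ∩ Q, ⟨x⟩] for all tame intersections P ∩ Q and all p-elements x of N_G(P ∩ Q). -/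
theorem result {G : Type*} [Group G] [Finite G] (p : ℕ) [Fact p.Prime] (P : Sylow p G) :
    (P : Subgroup G) ⊓ commutator G =
      ⁅(P : Subgroup G), Subgroup.normalizer ((P : Subgroup G) : Set G)⁆ ⊔
        ⨆ (Q : Sylow p G) (_ : (¬ p ∣ ((P : Subgroup G) ⊓ Subgroup.normalizer (((P : Subgroup G) ⊓ (Q : Subgroup G) : Subgroup G) : Set G)).relIndex (Subgroup.normalizer (((P : Subgroup G) ⊓ (Q : Subgroup G) : Subgroup G) : Set G)) ∧ ¬ p ∣ ((Q : Subgroup G) ⊓ Subgroup.normalizer (((P : Subgroup G) ⊓ (Q : Subgroup G) : Subgroup G) : Set G)).relIndex (Subgroup.normalizer (((P : Subgroup G) ⊓ (Q : Subgroup G) : Subgroup G) : Set G))))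
          (x : G) (_ : x ∈ Subgroup.normalizer (((P : Subgroup G) ⊓ (Q : Subgroup G) : Subgroup G) : Set G) ∧ ∃ k : ℕ, orderOf x = p ^ k),
          ⁅(P : Subgroup G) ⊓ (Q : Subgroup G), Subgroup.zpowers x⁆ := by
  refine le_antisymm ?_ (le_inf (sup_le ?_ (iSup_le fun Q => iSup_le fun _ => iSup_le fun x => iSup_le fun hx => ?_)) (sup_le ?_ ?_))
  · rw [inf_comm, show commutator G ⊓ (P : Subgroup G) = Subgroup.focalSubgroup (P : Subgroup G) from
      Subgroup.commutator_inf_eq_focalSubgroup P, Subgroup.focalSubgroup_def, Subgroup.closure_le]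
    rintro _ ⟨hg, x, hx, u, rfl⟩
    have hxu : u * x * u⁻¹ ∈ (P : Subgroup G) := by
      have h := mul_mem (inv_mem hg) hx
      simpa [commutatorElement_def, mul_assoc] using h
    let D := (P : Subgroup G) ⊓ (P : Subgroup G).map (MulAut.conj u⁻¹).toMonoidHom
    have hxD : x ∈ D := Subgroup.mem_inf.2 ⟨hx, ⟨u * x * u⁻¹, hxu, by simp [mul_assoc]⟩⟩
    obtain ⟨l, hl, hc⟩ := reach_of_conj_mem P _ D inf_le_left rfl u⁻¹ (fun a ha => by
      obtain ⟨c, hc, rfl⟩ := (Subgroup.mem_inf.mp ha).2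
      have e : u⁻¹⁻¹ * (u⁻¹ * c * u⁻¹⁻¹) * u⁻¹ = c := by group
      exact e.symm ▸ hc)
    set X := ⁅(P : Subgroup G), Subgroup.normalizer ((P : Subgroup G) : Set G)⁆ ⊔ _ with hX
    have h := chain_comm P X ?_ ?_ l (D : Set G) x⁻¹ (inv_mem hxD) hc
    · rw [hl] at h
      simpa [commutatorElement_def, mul_assoc] using h
    · exact fun a ha y hy => Subgroup.mem_sup_left (Subgroup.commutator_mem_commutator ha hy)
    · exact fun Q a y ha hy h1 h2 h3 => Subgroup.mem_sup_right (Subgroup.mem_iSup_of_mem Q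
        (Subgroup.mem_iSup_of_mem ⟨h1, h2⟩ (Subgroup.mem_iSup_of_mem y (Subgroup.mem_iSup_of_mem ⟨hy, h3⟩
          (Subgroup.commutator_mem_commutator ha (Subgroup.mem_zpowers y))))))
  · refine Subgroup.commutator_le.2 fun a ha z hz => ?_
    have h := (Subgroup.mem_normalizer_iff.1 hz a⁻¹).1 (inv_mem ha)
    simpa [commutatorElement_def, mul_assoc] using mul_mem ha h
  · refine Subgroup.commutator_le.2 fun a ha z hz => ?_
    obtain ⟨haP, -⟩ := Subgroup.mem_inf.1 ha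
    have h := (Subgroup.mem_normalizer_iff.1 ((Subgroup.zpowers_le.2 hx.1) hz) a⁻¹).1 (inv_mem ha)
    have h' := mul_mem haP (Subgroup.mem_inf.1 h).1
    simpa [commutatorElement_def, mul_assoc] using h'
  · exact Subgroup.commutator_mono le_top le_top
  · exact iSup_le fun Q => iSup_le fun _ => iSup_le fun x => iSup_le fun _ =>
      Subgroup.commutator_mono le_top le_top

end Cfsg.Agent.S4250
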