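import Cfsg.Statements.S4251
import Cfsg.Agent.Lib.Tech.AlperinP
import Cfsg.Agent.S0071

set_option autoImplicit false
open Cfsg

namespace Cfsg.Agent.S4251

open Subgroup
open scoped Pointwise

theorem exists_conj_agree {G : Type*} [Group G] {p : ℕ} (P : Sylow p G)
    (hstep : ∀ (A : Set G) (s : Sylow p G × G), Tech.Step P A s →
      ∃ w ∈ (P : Subgroup G), ∀ a ∈ A, s.2⁻¹ * a * s.2 = w⁻¹ * a * w) :
    ∀ (l : List (Sylow p G × G)) (A : Set G), Tech.Chain P A l →
      ∃ u ∈ (P : Subgroup G), ∀ a ∈ A,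
        ((l.map Prod.snd).prod)⁻¹ * a * (l.map Prod.snd).prod = u⁻¹ * a * u
  | [], A, _ => ⟨1, one_mem _, fun a _ => by simp⟩
  | s :: l, A, hc => by
    obtain ⟨w, hw, hwa⟩ := hstep A s hc.1
    obtain ⟨u, hu, hua⟩ := exists_conj_agree P hstep l _ hc.2
    refine ⟨w * u, mul_mem hw hu, fun a ha => ?_⟩
    have h2 := hua (s.2⁻¹ * a * s.2) ⟨a, ha, rfl⟩
    calc ((List.map Prod.snd (s :: l)).prod)⁻¹ * a * (List.map Prod.snd (s :: l)).prod
        = ((l.map Prod.snd).prod)⁻¹ * (s.2⁻¹ * a * s.2) * (l.map Prod.snd).prod := by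
          simp [mul_assoc]
      _ = u⁻¹ * (s.2⁻¹ * a * s.2) * u := h2
      _ = (w * u)⁻¹ * a * (w * u) := by rw [hwa a ha]; group

theorem conj_pow_agree {G : Type*} [Group G] (D : Subgroup G) {g u : G}
    (hg : g ∈ normalizer (D : Set G))
    (h : ∀ a ∈ D, g⁻¹ * a * g = u⁻¹ * a * u) :
    ∀ (m : ℕ) (a : G), a ∈ D → (g ^ m)⁻¹ * a * g ^ m = (u ^ m)⁻¹ * a * u ^ m
  | 0, a, _ => by simp
  | m + 1, a, ha => by
    have hb : g⁻¹ * a * g ∈ D := by
      have := (mem_normalizer_iff.mp (inv_mem hg) a).mp ha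
      rwa [inv_inv] at this
    calc (g ^ (m + 1))⁻¹ * a * g ^ (m + 1) = (g ^ m)⁻¹ * (g⁻¹ * a * g) * g ^ m := by
          rw [pow_succ']; group
      _ = (u ^ m)⁻¹ * (g⁻¹ * a * g) * u ^ m := conj_pow_agree D hg h m _ hb
      _ = (u ^ (m + 1))⁻¹ * a * u ^ (m + 1) := by rw [h a ha, pow_succ']; group

/-- Let P be a Sylow p-subgroup of a finite group G. Call an intersection H = P ∩ Q with a Sylow p-subgroup Q tame when N_P(H) and N_Q(H) are Sylow p-subgroups of N_G(H). If N_G(H)/C_G(H) is a p-group for every nontrivial tame intersection H = P ∩ Q, then G has a normal p-complement. -/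
theorem result {G : Type*} [Group G] [Finite G] (p : ℕ) [Fact p.Prime] (P : Sylow p G)
    (h : ∀ Q : Sylow p G, (P : Subgroup G) ⊓ (Q : Subgroup G) ≠ ⊥ → (¬ p ∣ ((P : Subgroup G) ⊓ Subgroup.normalizer (((P : Subgroup G) ⊓ (Q : Subgroup G) : Subgroup G) : Set G)).relIndex (Subgroup.normalizer (((P : Subgroup G) ⊓ (Q : Subgroup G) : Subgroup G) : Set G)) ∧ ¬ p ∣ ((Q : Subgroup G) ⊓ Subgroup.normalizer (((P : Subgroup G) ⊓ (Q : Subgroup G) : Subgroup G) : Set G)).relIndex (Subgroup.normalizer (((P : Subgroup G) ⊓ (Q : Subgroup G) : Subgroup G) : Set G))) →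
      IsPGroup p (Subgroup.normalizer (((P : Subgroup G) ⊓ (Q : Subgroup G) : Subgroup G) : Set G) ⧸
        (Subgroup.centralizer (((P : Subgroup G) ⊓ (Q : Subgroup G) : Subgroup G) : Set G)).subgroupOf
          (Subgroup.normalizer (((P : Subgroup G) ⊓ (Q : Subgroup G) : Subgroup G) : Set G)))) :
    Cfsg.HasNormalPComplement p G := by
  have hstep : ∀ (A : Set G) (s : Sylow p G × G), Tech.Step P A s →
      ∃ w ∈ (P : Subgroup G), ∀ a ∈ A, s.2⁻¹ * a * s.2 = w⁻¹ * a * w := by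
    rintro A ⟨T, z⟩ ⟨⟨hz, hP, hT, -⟩, hA⟩
    by_cases hH : (P : Subgroup G) ⊓ (T : Subgroup G) = ⊥
    · refine ⟨1, one_mem _, fun a ha => ?_⟩
      have := hA ha
      rw [hH] at this
      rw [show a = 1 by simpa using this]
      simp
    set H := (P : Subgroup G) ⊓ (T : Subgroup G)
    have hq := h T hH ⟨hP, hT⟩
    set M := Subgroup.normalizer (H : Set G)
    set C := (Subgroup.centralizer (H : Set G)).subgroupOf M
    set W := ((P : Subgroup G) ⊓ M).subgroupOf M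
    obtain ⟨k, hk⟩ := IsPGroup.iff_card.mp hq
    have htop : W ⊔ C = ⊤ := by
      rw [← Subgroup.index_eq_one]
      by_contra hne
      have h1 : (W ⊔ C).index ∣ p ^ k := hk ▸ Subgroup.index_dvd_of_le le_sup_right
      have h2 : (W ⊔ C).index ∣ W.index := Subgroup.index_dvd_of_le le_sup_left
      obtain ⟨j, -, hj⟩ := (Nat.dvd_prime_pow Fact.out).mp h1
      rcases j with _ | j
      · exact hne (by simpa using hj)
      · exact hP (dvd_trans (hj ▸ dvd_pow_self p (by omega)) h2)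
    have hm : (⟨z, hz⟩ : ↥M) ∈ W ⊔ C := htop ▸ Subgroup.mem_top _
    obtain ⟨w, hw, c, hc, hwc⟩ := Subgroup.mem_sup_of_normal_right.mp hm
    refine ⟨(w : G), (Subgroup.mem_inf.mp hw).1, fun a ha => ?_⟩
    have e : z = (w : G) * (c : G) := by rw [← Subgroup.coe_mul, hwc]
    have hb : (w : G)⁻¹ * a * (w : G) ∈ H := by
      have := (Subgroup.mem_normalizer_iff.mp (inv_mem w.2) a).mp (hA ha)
      rwa [inv_inv] at this
    have hcomm : (w : G)⁻¹ * a * (w : G) * (c : G) = (c : G) * ((w : G)⁻¹ * a * (w : G)) :=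
      Subgroup.mem_centralizer_iff.mp hc _ hb
    calc z⁻¹ * a * z = (c : G)⁻¹ * ((w : G)⁻¹ * a * (w : G) * (c : G)) := by rw [e]; group
      _ = (w : G)⁻¹ * a * (w : G) := by rw [hcomm]; group
  obtain ⟨N, hN, hNP⟩ := (S0071.result P).mpr (by
    intro D hD g hg hgo
    obtain ⟨l, hl, hc⟩ := Tech.reach_of_conj_mem P _ D hD rfl g fun a ha => hD (by
      have := (Subgroup.mem_normalizer_iff.mp (inv_mem hg) a).mp ha
      rwa [inv_inv] at this)
    obtain ⟨u, hu, hua⟩ := exists_conj_agree P hstep l _ hc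
    rw [hl] at hua
    obtain ⟨k, hk⟩ := P.2 ⟨u, hu⟩
    have huk : u ^ p ^ k = 1 := by simpa using congrArg Subtype.val hk
    obtain ⟨m, hm1, hm2⟩ := Nat.chineseRemainder (Nat.Coprime.pow_right k hgo) 1 0
    rw [Subgroup.mem_centralizer_iff]
    intro a ha
    have h3 := conj_pow_agree D hg hua m a ha
    have eg : g ^ m = g := by
      conv_rhs => rw [← pow_one g]
      exact pow_eq_pow_iff_modEq.mpr hm1
    have eu : u ^ m = 1 := by
      obtain ⟨d, hd⟩ := Nat.modEq_zero_iff_dvd.mp hm2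
      rw [hd, pow_mul, huk, one_pow]
    rw [eg, eu, inv_one, one_mul, mul_one, mul_assoc, inv_mul_eq_iff_eq_mul] at h3
    exact h3)
  exact ⟨P, N, hN, hNP⟩

end Cfsg.Agent.S4251
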