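import Cfsg.Statements.S4253
-- import your own Cfsg.Agent.* helpers here

set_option autoImplicit false
open Cfsg
open scoped Pointwise commutatorElement
set_option linter.all false

namespace Cfsg.Agent.S4253

/-- Let H be a Frobenius complement in a finite group G (a nontrivial proper subgroup meeting each conjugate gHg⁻¹ with g outside H trivially). Then in the action of G on the left cosets of H by left multiplication, no non-identity element of G fixes two distinct cosets. -/
theorem result {G : Type*} [Group G] [Finite G] (H : Subgroup G) (hH : Cfsg.IsFrobeniusComplement H)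
    (g : G) (hg : g ≠ 1) (a b : G ⧸ H) (ha : g • a = a) (hb : g • b = b) : a = b := by
  induction a using QuotientGroup.induction_on with | _ a =>
  induction b using QuotientGroup.induction_on with | _ b =>
  have ha' : a⁻¹ * g * a ∈ H := by
    have := QuotientGroup.eq.mp ha.symm
    simpa [mul_assoc] using this
  have hb' : b⁻¹ * g * b ∈ H := by
    have := QuotientGroup.eq.mp hb.symm
    simpa [mul_assoc] using this
  rw [QuotientGroup.eq]
  by_contra hab
  have hmem : a⁻¹ * g * a ∈ H ⊓ (MulAut.conj (a⁻¹ * b) • H) :=
    Subgroup.mem_inf.mpr ⟨ha', by
      rw [Subgroup.mem_pointwise_smul_iff_inv_smul_mem, ← map_inv, MulAut.smul_def, MulAut.conj_apply]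
      convert hb' using 1
      group⟩
  rw [hH.2.2 _ hab, Subgroup.mem_bot] at hmem
  apply hg
  calc g = a * (a⁻¹ * g * a) * a⁻¹ := by group
    _ = 1 := by rw [hmem]; simp

end Cfsg.Agent.S4253
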