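import Cfsg.Statements.S4255
import Cfsg.Statements.S4255
import Mathlib
import Cfsg.Agent.Lib.FGS.Kazarin
import Cfsg.Agent.Lib.FGS.SquarefreeClass
import Cfsg.Agent.Lib.FGB.Basic
import Cfsg.Agent.Lib.Basics.Frattini
import Cfsg.Agent.Lib.Basics.CoprimeAction
import Cfsg.Agent.Lib.Components.Fitting

set_option autoImplicit false
open Cfsg
open scoped Pointwise
set_option linter.all false

namespace Cfsg.Agent.S4255

open Subgroup
open scoped Pointwise commutatorElement
open Cfsg.Agent

local notation "C(" x ")" => Subgroup.centralizer ({x} : Set _)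

universe u

variable {G : Type u} [Group G]

/-- class size -/
private noncomputable def cl (x : G) : ℕ := (centralizer ({x} : Set G)).index

private theorem mem_of_parts [Finite G] (H : Subgroup G) : ∀ (n : ℕ) (g : G), n ≠ 0 → orderOf g ∣ n →
    (∀ r : ℕ, r.Prime → ∀ k : ℕ, (∃ e : ℕ, (g ^ k) ^ (r ^ e) = 1) → g ^ k ∈ H) → g ∈ H := by
  intro n
  induction n using Nat.recOnPosPrimePosCoprime with
  | zero => intro g h; exact absurd rfl h
  | one =>
    intro g _ h1 _
    rw [Nat.dvd_one, orderOf_eq_one_iff] at h1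
    rw [h1]; exact one_mem H
  | prime_pow r e hr he =>
    intro g _ h hp
    simpa using hp r hr 1 ⟨e, by rw [pow_one]; exact orderOf_dvd_iff_pow_eq_one.1 h⟩
  | coprime a b ha hb hab iha ihb =>
    intro g _ h hp
    have hgb : g ^ b ∈ H := iha (g ^ b) (by omega)
      (orderOf_dvd_iff_pow_eq_one.2 (by rw [← pow_mul, mul_comm]; exact orderOf_dvd_iff_pow_eq_one.1 h))
      (fun r hr k hk => by rw [← pow_mul] at hk ⊢; exact hp r hr _ hk)
    have hga : g ^ a ∈ H := ihb (g ^ a) (by omega)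
      (orderOf_dvd_iff_pow_eq_one.2 (by rw [← pow_mul]; exact orderOf_dvd_iff_pow_eq_one.1 h))
      (fun r hr k hk => by rw [← pow_mul] at hk ⊢; exact hp r hr _ hk)
    have hbez := Nat.gcd_eq_gcd_ab a b
    rw [hab] at hbez
    have : g = (g ^ a) ^ (Nat.gcdA a b) * (g ^ b) ^ (Nat.gcdB a b) := by
      rw [← zpow_natCast g a, ← zpow_natCast g b, ← zpow_mul, ← zpow_mul, ← zpow_add, ← hbez,
        Nat.cast_one, zpow_one]
    rw [this]
    exact mul_mem (zpow_mem hga _) (zpow_mem hgb _)

private theorem exists_part [Finite G] (H : Subgroup G) {g : G} (hg : g ∉ H) :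
    ∃ r : ℕ, r.Prime ∧ ∃ k : ℕ, (∃ e, (g ^ k) ^ (r ^ e) = 1) ∧ g ^ k ∉ H := by
  by_contra h
  push Not at h
  exact hg (mem_of_parts H (orderOf g) g (orderOf_pos g).ne' dvd_rfl fun r hr k hk => by
    obtain ⟨e, he⟩ := hk
    exact h r hr k ⟨e, he⟩)

private theorem cl_pow_dvd (g : G) (k : ℕ) : cl (g ^ k) ∣ cl g :=
  index_dvd_of_le fun c hc => by
    rw [mem_centralizer_singleton_iff] at hc ⊢
    exact (Commute.pow_right hc k).eq

private theorem cl_eq_one [Finite G] {x : G} : cl x = 1 ↔ x ∈ center G := by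
  rw [cl, index_eq_one, centralizer_eq_top_iff_subset, Set.singleton_subset_iff]
  rfl

private theorem dvd_mul_left_cl [Finite G] {a b : G} (hab : Commute a b)
    (hco : (orderOf a).Coprime (orderOf b)) : cl a ∣ cl (a * b) ∧ cl b ∣ cl (a * b) := by
  have e := Cfsg.Agent.FGB.centralizer_mul_of_coprime hab hco
  exact ⟨index_dvd_of_le (e ▸ inf_le_left), index_dvd_of_le (e ▸ inf_le_right)⟩

/-- conjugates can be made with elements of the other centralizer -/
private theorem exists_conj [Finite G] (C D : Subgroup G) (h : C.index.Coprime D.index) (g : G) :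
    ∃ c ∈ C, c⁻¹ * g ∈ D := by
  have h1 : D.index ≤ (C.subgroupOf C).index * 0 + D.relIndex C := by
    rw [mul_zero, zero_add]
    have h2 : (C ⊓ D).index = D.relIndex C * C.index := by
      rw [← relIndex_mul_index (inf_le_left : C ⊓ D ≤ C), inf_relIndex_left]
    have h3 : C.index * D.index ∣ (C ⊓ D).index :=
      h.mul_dvd_of_dvd_of_dvd (index_dvd_of_le inf_le_left) (index_dvd_of_le inf_le_right)
    rw [h2, mul_comm C.index] at h3
    refine Nat.le_of_dvd (Nat.pos_of_ne_zero ?_) (Nat.dvd_of_mul_dvd_mul_right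
      (Nat.pos_of_ne_zero index_ne_zero_of_finite) h3)
    exact index_ne_zero_of_finite
  simp only [mul_zero, zero_add] at h1
  let f : C ⧸ D.subgroupOf C → G ⧸ D :=
    Quotient.map' (fun x : C => (x : G)) (fun a b h => by
      rw [QuotientGroup.leftRel_apply] at h ⊢
      exact h)
  have hf : Function.Injective f := by
    intro a c
    induction a using QuotientGroup.induction_on with
    | _ a =>
    induction c using QuotientGroup.induction_on with
    | _ c =>
    intro hh
    have h4 : QuotientGroup.mk (s := D) (a : G) = QuotientGroup.mk (c : G) := hh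
    rw [QuotientGroup.eq] at h4
    exact QuotientGroup.eq.2 h4
  obtain ⟨q, hq⟩ := (hf.bijective_of_nat_card_le h1).2 (QuotientGroup.mk g)
  induction q using QuotientGroup.induction_on with
  | _ q =>
    exact ⟨q, q.2, QuotientGroup.eq.1 (show QuotientGroup.mk (s := D) (q : G)
      = QuotientGroup.mk g from hq)⟩

private theorem conj_eq_of_mem {c g x : G} (h : c⁻¹ * g ∈ centralizer ({x} : Set G)) :
    g * x * g⁻¹ = c * x * c⁻¹ := by
  rw [mem_centralizer_singleton_iff] at h
  calc g * x * g⁻¹ = c * ((c⁻¹ * g) * x) * g⁻¹ := by group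
    _ = c * (x * (c⁻¹ * g)) * g⁻¹ := by rw [h]
    _ = c * x * c⁻¹ := by group

private theorem class_eq (x : G) :
    Nat.card {a : G // IsConj x a} = cl x := by
  have h : cl x = (MulAction.stabilizer (ConjAct G) x).index := by
    rw [ConjAct.stabilizer_eq_centralizer x]; rfl
  rw [h, MulAction.index_stabilizer, ← Nat.card_coe_set_eq]
  refine Nat.card_congr (Equiv.subtypeEquivRight fun a => ?_)
  rw [ConjAct.mem_orbit_conjAct]
  exact isConj_comm

/-- the stabiliser of the largest class -/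
private theorem exists_stabilizer [Finite G] (x : G) :
    ∃ N : Subgroup G, N.Normal ∧ Nat.card N ∣ cl x ∧
      ∀ y : G, (cl x).Coprime (cl y) → (∀ z : G, cl z ≤ cl x) → ∀ g : G, g * y * g⁻¹ * y⁻¹ ∈ N := by
  classical
  set B : Set G := {a | IsConj x a} with hB
  let N : Subgroup G :=
    { carrier := {n | ∀ a : G, a * n ∈ B ↔ a ∈ B}
      mul_mem' := fun {m n} hm hn a => by rw [← mul_assoc, hn, hm]
      one_mem' := fun a => by rw [mul_one]
      inv_mem' := fun {n} hn a => by
        have := hn (a * n⁻¹)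
        rw [inv_mul_cancel_right] at this
        exact this.symm }
  have hNn : N.Normal := ⟨fun n hn g a => by
    have h1 : ∀ b, g⁻¹ * b * g ∈ B ↔ b ∈ B := fun b =>
      ⟨fun h => h.trans (isConj_iff.2 ⟨g, by group⟩), fun h => h.trans (isConj_iff.2 ⟨g⁻¹, by group⟩)⟩
    rw [← h1, ← h1 a]
    have := hn (g⁻¹ * a * g)
    rw [← this]
    simp [mul_assoc]⟩
  refine ⟨N, hNn, ?_, ?_⟩
  · have hpre : QuotientGroup.mk ⁻¹' ((QuotientGroup.mk : G → G ⧸ N) '' B) = B := by
      refine Set.Subset.antisymm ?_ (Set.subset_preimage_image _ _)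
      rintro a ⟨b, hb, e⟩
      have h1 : b⁻¹ * a ∈ N := QuotientGroup.eq.1 e
      simpa using (h1 b).2 hb
    rw [← class_eq x]
    have := Nat.card_congr (QuotientGroup.preimageMkEquivSubgroupProdSet N
      ((QuotientGroup.mk : G → G ⧸ N) '' B))
    rw [hpre, Nat.card_prod] at this
    exact ⟨_, this⟩
  · intro y hco hmax g
    have hcop : ∀ g : G, ∃ c ∈ centralizer ({x} : Set G), g * y * g⁻¹ = c * y * c⁻¹ := fun g => by
      obtain ⟨c, hc, hc'⟩ := exists_conj (centralizer ({x} : Set G)) (centralizer ({y} : Set G)) hco g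
      exact ⟨c, hc, conj_eq_of_mem hc'⟩
    set D : Set G := {a | IsConj (x * y) a} with hD
    have hsub : ∀ g : G, (fun a => a * (g * y * g⁻¹)) '' B ⊆ D := by
      rintro g _ ⟨a, ha, rfl⟩
      obtain ⟨k, hk⟩ := isConj_iff.1 (ha : IsConj x a)
      obtain ⟨c, hc, hce⟩ := hcop (k⁻¹ * g)
      rw [mem_centralizer_singleton_iff] at hc
      refine isConj_iff.2 ⟨k * c, ?_⟩
      have e2 : c * x * c⁻¹ = x := by rw [hc]; group
      calc k * c * (x * y) * (k * c)⁻¹ = k * (c * x * c⁻¹) * (c * y * c⁻¹) * k⁻¹ := by group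
        _ = k * x * (k⁻¹ * g * y * (k⁻¹ * g)⁻¹) * k⁻¹ := by rw [e2, hce]
        _ = k * x * k⁻¹ * (g * y * g⁻¹) := by group
        _ = a * (g * y * g⁻¹) := by rw [hk]
    have heq : ∀ g : G, (fun a => a * (g * y * g⁻¹)) '' B = D := fun g => by
      refine Set.eq_of_subset_of_ncard_le (hsub g) ?_ (Set.toFinite _)
      rw [Set.ncard_image_of_injective _ (mul_left_injective _), ← Nat.card_coe_set_eq,
        ← Nat.card_coe_set_eq]
      calc Nat.card D = cl (x * y) := class_eq (x * y)
        _ ≤ cl x := hmax _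
        _ = Nat.card B := (class_eq x).symm
    intro a
    constructor
    · intro ha
      have h1 : a * (g * y * g⁻¹ * y⁻¹) * (1 * y * 1⁻¹) ∈ D := hsub 1 ⟨_, ha, rfl⟩
      have e : a * (g * y * g⁻¹ * y⁻¹) * (1 * y * 1⁻¹) = a * (g * y * g⁻¹) := by group
      rw [e, ← heq g] at h1
      obtain ⟨b, hb, hbe⟩ := h1
      rwa [mul_left_injective _ hbe] at hb
    · intro ha
      have h1 : a * (g * y * g⁻¹) ∈ D := hsub g ⟨a, ha, rfl⟩
      rw [← heq 1] at h1
      obtain ⟨b, hb, hbe⟩ := h1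
      have : b = a * (g * y * g⁻¹ * y⁻¹) := by
        simp only [one_mul, inv_one, mul_one] at hbe
        rw [← mul_assoc a, ← hbe]; group
      rwa [← this]

private theorem orderOf_of_pow {r e : ℕ} (hr : r.Prime) {a : G} (ha : a ^ r ^ e = 1) :
    ∃ i, orderOf a = r ^ i := by
  obtain ⟨i, -, hi⟩ := (Nat.dvd_prime_pow hr).1 (orderOf_dvd_iff_pow_eq_one.2 ha)
  exact ⟨i, hi⟩

private theorem coprime_orders {p r : ℕ} (hp : p.Prime) (hr : r.Prime) (hne : p ≠ r) {a b : G}
    {i j : ℕ} (ha : a ^ p ^ i = 1) (hb : b ^ r ^ j = 1) : (orderOf a).Coprime (orderOf b) :=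
  Nat.Coprime.coprime_dvd_left (orderOf_dvd_iff_pow_eq_one.2 ha)
    (Nat.Coprime.coprime_dvd_right (orderOf_dvd_iff_pow_eq_one.2 hb)
      (Nat.Coprime.pow _ _ ((Nat.coprime_primes hp hr).2 hne)))

private theorem isPElem_zpowers {p i : ℕ} [hp : Fact p.Prime] {a : G} (ha : a ^ p ^ i = 1) :
    IsPGroup p (zpowers a) := by
  obtain ⟨j, hj⟩ := orderOf_of_pow hp.out ha
  exact IsPGroup.of_card (n := j) (by rw [Nat.card_zpowers, hj])

private theorem mem_conj_of_not_dvd [Finite G] {p i : ℕ} [hp : Fact p.Prime] (C : Subgroup G)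
    (hC : ¬ p ∣ C.index) {a : G} (ha : a ^ p ^ i = 1) : ∃ g : G, g * a * g⁻¹ ∈ C := by
  obtain ⟨P, hP⟩ := (isPElem_zpowers ha).exists_le_sylow
  obtain ⟨R⟩ := (inferInstance : Nonempty (Sylow p C))
  have hR : Nat.card ((R : Subgroup C).map C.subtype) = p ^ (Nat.card G).factorization p := by
    rw [card_map_of_injective C.subtype_injective, R.card_eq_multiplicity,
      ← card_mul_index C, Nat.factorization_mul Nat.card_pos.ne' index_ne_zero_of_finite,
      Finsupp.add_apply, Nat.factorization_eq_zero_of_not_dvd hC, add_zero]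
  set R' : Sylow p G := Sylow.ofCard ((R : Subgroup C).map C.subtype) hR
  obtain ⟨g, hg⟩ := MulAction.exists_smul_eq G P R'
  refine ⟨g, ?_⟩
  have h1 : MulAut.conj g • a ∈ MulAut.conj g • (P : Subgroup G) :=
    smul_mem_pointwise_smul a _ _ (hP (mem_zpowers a))
  rw [← Sylow.pointwise_smul_def, show (MulAut.conj g • P : Sylow p G) = g • P from rfl, hg] at h1
  exact map_subtype_le _ (by simpa [R', MulAut.smul_def] using h1)

private theorem cl_conj (g a : G) : cl (g * a * g⁻¹) = cl a := by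
  rw [← class_eq, ← class_eq]
  refine Nat.card_congr (Equiv.subtypeEquivRight fun b => ?_)
  exact ⟨fun h => (isConj_iff.2 ⟨g, rfl⟩).trans h, fun h => (isConj_iff.2 ⟨g, rfl⟩).symm.trans h⟩

private theorem relIndex_dvd_cl [Finite G] (N : Subgroup G) [N.Normal] (a : G) :
    (centralizer ({a} : Set G)).relIndex N ∣ cl a :=
  FGS.SquarefreeClass.index_dvd_subgroup.relIndex_dvd_index_of_normal_sup _ N

private theorem main [Finite G] (S : Set ℕ)
    (hdisc : ∀ (g : G) (p q : ℕ), p.Prime → q.Prime → p ∣ cl g → q ∣ cl g → p ∈ S → q ∈ S)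
    (x : G) (hmax : ∀ z : G, cl z ≤ cl x) (hxS : ∀ p : ℕ, p.Prime → p ∣ cl x → p ∈ S)
    (hy : ∃ y : G, ∃ q : ℕ, q.Prime ∧ q ∉ S ∧ q ∣ cl y) :
    ∃ H : Subgroup (G ⧸ center G), Cfsg.IsFrobeniusComplement H ∧ IsMulCommutative H ∧
      ∀ a ∈ Cfsg.frobeniusKernel H, ∀ b ∈ Cfsg.frobeniusKernel H, a * b = b * a := by
  classical
  -- `X2 a`: all primes of the class size of the noncentral element `a` lie outside `S`
  let X2 : G → Prop := fun a => a ∉ center G ∧ ∀ p : ℕ, p.Prime → p ∣ cl a → p ∉ S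
  have hnc : ∀ a : G, a ∉ center G → ∃ p : ℕ, p.Prime ∧ p ∣ cl a := fun a ha =>
    Nat.exists_prime_and_dvd fun h => ha (cl_eq_one.1 h)
  have hX2_of : ∀ a : G, (∃ q : ℕ, q.Prime ∧ q ∉ S ∧ q ∣ cl a) → X2 a := by
    rintro a ⟨q, hq, hqS, hqd⟩
    refine ⟨fun h => ?_, fun p hp hpd hpS => hqS (hdisc a p q hp hq hpd hqd hpS)⟩
    rw [cl_eq_one.2 h, Nat.dvd_one] at hqd
    exact hq.ne_one hqd
  have hX2_dvd : ∀ a b : G, cl a ∣ cl b → X2 b → a ∉ center G → X2 a := fun a b hab hb ha =>
    ⟨ha, fun p hp hpd => hb.2 p hp (hpd.trans hab)⟩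
  obtain ⟨N, hN, hNb, hNy⟩ := exists_stabilizer x
  haveI := hN
  have hcop : ∀ a : G, X2 a → (cl x).Coprime (cl a) := fun a ha =>
    Nat.coprime_of_dvd fun p hp h1 h2 => ha.2 p hp h2 (hxS p hp h1)
  -- prime power elements in X2
  have key : ∀ (p : ℕ) (a : G), p.Prime → (∃ i, a ^ p ^ i = 1) → X2 a →
      p ∈ S ∧ a ∈ pCore p G := by
    intro p a hp hai ha
    obtain ⟨i, hi⟩ := hai
    haveI := Fact.mk hp
    have hNC : N ≤ centralizer ({a} : Set G) := by
      rw [← relIndex_eq_one]
      have h1 : (centralizer ({a} : Set G)).relIndex N ∣ Nat.card N := by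
        rw [← relIndex_bot_left N]
        exact relIndex_dvd_of_le_left N bot_le
      have h2 : (centralizer ({a} : Set G)).relIndex N ∣ cl a := relIndex_dvd_cl N a
      exact Nat.eq_one_of_dvd_coprimes (hcop a ha) (h1.trans hNb) h2
    have hcomm : ∀ g h : G, Commute (g * a * g⁻¹) (h * a * h⁻¹) := fun g h => by
      have h1 : ((h⁻¹ * g) * a * (h⁻¹ * g)⁻¹ * a⁻¹) * a = a * ((h⁻¹ * g) * a * (h⁻¹ * g)⁻¹ * a⁻¹) :=
        mem_centralizer_singleton_iff.1 (hNC (hNy a (hcop a ha) hmax (h⁻¹ * g)))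
      have h2 : Commute ((h⁻¹ * g) * a * (h⁻¹ * g)⁻¹) a := by
        unfold Commute SemiconjBy
        calc _ = ((h⁻¹ * g) * a * (h⁻¹ * g)⁻¹ * a⁻¹) * a * a := by group
          _ = a * ((h⁻¹ * g) * a * (h⁻¹ * g)⁻¹ * a⁻¹) * a := by rw [h1]
          _ = _ := by group
      have h3 := h2.map (MulAut.conj h).toMonoidHom
      simpa [mul_assoc] using h3
    refine ⟨?_, ?_⟩
    · by_contra hpS
      have hpb : ¬ p ∣ Nat.card N := fun h => hpS (hxS p hp (h.trans hNb))
      refine ha.1 (cl_eq_one.1 ?_)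
      rw [cl, index_eq_one, eq_top_iff]
      intro g _
      have h1 : (g * a * g⁻¹ * a⁻¹) ^ p ^ i = 1 := by
        have hc : Commute (g * a * g⁻¹) a⁻¹ := by
          simpa using (hcomm g 1).inv_right
        rw [hc.mul_pow, inv_pow, hi, inv_one, mul_one, conj_pow, hi]
        group
      have h2 := hNy a (hcop a ha) hmax g
      have h3 : orderOf (g * a * g⁻¹ * a⁻¹) = 1 := by
        obtain ⟨j, hj⟩ := orderOf_of_pow hp h1
        rcases Nat.eq_zero_or_pos j with h0 | h0
        · rw [hj, h0, pow_zero]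
        · exfalso
          apply hpb
          have := Subgroup.orderOf_dvd_natCard N h2
          rw [hj] at this
          exact (dvd_pow_self p h0.ne').trans this
      rw [orderOf_eq_one_iff] at h3
      rw [mem_centralizer_singleton_iff]
      calc g * a = (g * a * g⁻¹ * a⁻¹) * a * g := by group
        _ = a * g := by rw [h3, one_mul]
    · have hK : IsPGroup p (normalClosure ({a} : Set G)) := by
        rintro ⟨z, hz⟩
        suffices z ^ p ^ i = 1 from ⟨i, Subtype.ext (by simpa using this)⟩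
        have key2 : z ^ p ^ i = 1 ∧ ∀ g : G, Commute z (g * a * g⁻¹) := by
          refine closure_induction (k := Group.conjugatesOfSet ({a} : Set G))
            (p := fun z _ => z ^ p ^ i = 1 ∧ ∀ g : G, Commute z (g * a * g⁻¹)) ?_ ?_ ?_ ?_ hz
          · intro w hw
            obtain ⟨a', ha', hc⟩ := Group.mem_conjugatesOfSet_iff.1 hw
            rw [Set.mem_singleton_iff] at ha'
            subst ha'
            obtain ⟨g, rfl⟩ := isConj_iff.1 hc
            exact ⟨by rw [conj_pow, hi]; group, fun h => hcomm g h⟩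
          · exact ⟨one_pow _, fun g => Commute.one_left _⟩
          · intro v w hv hw hv' hw'
            refine ⟨?_, fun g => (hv'.2 g).mul_left (hw'.2 g)⟩
            have : Commute v w := by
              refine closure_induction (k := Group.conjugatesOfSet ({a} : Set G))
                (p := fun w _ => Commute v w) ?_ (Commute.one_right _)
                (fun _ _ _ _ h1 h2 => h1.mul_right h2) (fun _ _ h => h.inv_right) hw
              intro w hw
              obtain ⟨a', ha', hc⟩ := Group.mem_conjugatesOfSet_iff.1 hw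
              rw [Set.mem_singleton_iff] at ha'
              subst ha'
              obtain ⟨g, rfl⟩ := isConj_iff.1 hc
              exact hv'.2 g
            rw [this.mul_pow, hv'.1, hw'.1, one_mul]
          · intro v _ hv
            exact ⟨by rw [inv_pow, hv.1, inv_one], fun g => (hv.2 g).inv_left⟩
        exact key2.1
      exact Components.le_pCore inferInstance hK (subset_normalClosure rfl)
  let Pi : ℕ → Prop := fun p => p.Prime ∧ ∃ (a : G) (i : ℕ), a ^ p ^ i = 1 ∧ X2 a
  have hPiS : ∀ p, Pi p → p ∈ S := fun p ⟨hp, a, i, hi, ha⟩ => (key p a hp ⟨i, hi⟩ ha).1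
  -- elements outside Pi commuting with some X2 element are central
  have F2 : ∀ (p r : ℕ) (a z : G) (i j : ℕ), p.Prime → r.Prime → ¬ Pi r → a ^ p ^ i = 1 →
      z ^ r ^ j = 1 → X2 a → Commute z a → z ∈ center G := by
    intro p r a z i j hp hr hPr hi hj ha hza
    by_contra hz
    have hne : r ≠ p := fun e => hPr ⟨hr, a, i, by rw [e]; exact hi, ha⟩
    obtain ⟨d1, d2⟩ := dvd_mul_left_cl hza (coprime_orders hr hp hne hj hi)
    obtain ⟨q, hq, hqd⟩ := hnc a ha.1
    exact hPr ⟨hr, z, j, hj,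
      hX2_dvd z (z * a) d1 (hX2_of _ ⟨q, hq, ha.2 q hq hqd, hqd.trans d2⟩) hz⟩
  -- fix an X2 element of prime power order
  obtain ⟨p₀, hp₀, u, i₀, hu₀, huX⟩ : ∃ p : ℕ, p.Prime ∧ ∃ (a : G) (i : ℕ), a ^ p ^ i = 1 ∧ X2 a := by
    obtain ⟨y, hy⟩ := hy
    have hyX := hX2_of y hy
    obtain ⟨r, hr, k, ⟨e, he⟩, hk⟩ := exists_part (center G) hyX.1
    exact ⟨r, hr, y ^ k, e, he, hX2_dvd _ y (cl_pow_dvd y k) hyX hk⟩
  have hS_central : ∀ (r : ℕ) (z : G) (j : ℕ), r.Prime → r ∈ S → ¬ Pi r → z ^ r ^ j = 1 →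
      z ∈ center G := by
    intro r z j hr hrS hPr hj
    haveI := Fact.mk hr
    obtain ⟨g, hg⟩ := mem_conj_of_not_dvd (centralizer ({u} : Set G))
      (fun h => huX.2 r hr h hrS) hj
    have h1 := F2 p₀ r u (g * z * g⁻¹) i₀ j hp₀ hr hPr hu₀ (by rw [conj_pow, hj]; group) huX
      (mem_centralizer_singleton_iff.1 hg)
    have h2 := (inferInstance : (center G).Normal).conj_mem _ h1 g⁻¹
    simpa [mul_assoc] using h2
  -- X1 elements of order a power of a prime in Pi have prime power class size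
  have F4 : ∀ (p : ℕ) (z : G) (i : ℕ), Pi p → z ^ p ^ i = 1 → ¬ X2 z →
      ∀ r : ℕ, r.Prime → r ∣ cl z → r = p := by
    intro p z i hp hi hz r hr hrd
    by_contra hrp
    haveI := Fact.mk hp.1
    haveI := Fact.mk hr
    have hrS : r ∈ S := by
      by_contra h
      exact hz (hX2_of z ⟨r, hr, h, hrd⟩)
    have hznc : z ∉ center G := fun h => by
      rw [cl_eq_one.2 h, Nat.dvd_one] at hrd; exact hr.ne_one hrd
    have hPr : Pi r := by
      by_contra hPr
      obtain ⟨R⟩ := (inferInstance : Nonempty (Sylow r G))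
      have hle : (R : Subgroup G) ≤ centralizer ({z} : Set G) := fun w hw => by
        obtain ⟨j, hj⟩ := R.isPGroup' ⟨w, hw⟩
        have hj' : w ^ r ^ j = 1 := by simpa using congrArg Subtype.val hj
        exact center_le_centralizer _ (hS_central r w j hr hrS hPr hj')
      exact R.not_dvd_index' (by exact index_ne_zero_of_finite) (hrd.trans (index_dvd_of_le hle))
    obtain ⟨-, a, j, hj, ha⟩ := hPr
    obtain ⟨g, hg⟩ := mem_conj_of_not_dvd (p := p) (centralizer ({a} : Set G))
      (fun h => ha.2 p hp.1 h (hPiS p hp)) hi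
    have hcm : Commute (g * z * g⁻¹) a := mem_centralizer_singleton_iff.1 hg
    obtain ⟨d1, d2⟩ := dvd_mul_left_cl hcm
      (coprime_orders hp.1 hr (Ne.symm hrp) (by rw [conj_pow, hi]; group) hj)
    obtain ⟨q, hq, hqd⟩ := hnc a ha.1
    exact ha.2 q hq hqd (hdisc _ r q hr hq ((cl_conj g z ▸ hrd).trans d1) (hqd.trans d2) hrS)
  have F4' : ∀ (p : ℕ) (z : G) (i : ℕ), Pi p → z ^ p ^ i = 1 → z ∈ pCore p G := by
    intro p z i hp hi
    haveI := Fact.mk hp.1
    by_cases hz : X2 z
    · exact (key p z hp.1 ⟨i, hi⟩ hz).2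
    · exact FGS.Kazarin.mem_pCore_of_pElement ⟨i, orderOf_dvd_iff_pow_eq_one.2 hi⟩
        ⟨_, Nat.eq_prime_pow_of_unique_prime_dvd index_ne_zero_of_finite
          (fun {r} hr hrd => F4 p z i hp hi hz r hr hrd)⟩
  have F5 : ∀ p : ℕ, Pi p → ∀ a ∈ pCore p G, ∀ b ∈ pCore p G, a * b = b * a := by
    intro p hp
    haveI := Fact.mk hp.1
    set T := pCore p G with hT
    have hTp : IsPGroup p T := Components.sSup_isPGroup_of_normal
    haveI hTn : T.Normal := by
      rw [hT]; unfold Cfsg.pCore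
      exact Subgroup.sSup_normal _ fun N hN => hN.1
    have hX2T : ∀ w ∈ T, X2 w → ∀ b ∈ T, b * w = w * b := by
      intro w hw hX b hb
      obtain ⟨j, hj⟩ := hTp ⟨b, hb⟩
      have hj' : b ^ p ^ j = 1 := by simpa using congrArg Subtype.val hj
      obtain ⟨P, hP⟩ := hTp.exists_le_sylow
      obtain ⟨R⟩ := (inferInstance : Nonempty (Sylow p (centralizer ({w} : Set G))))
      have hR : Nat.card ((R : Subgroup _).map (centralizer ({w} : Set G)).subtype) = p ^ (Nat.card G).factorization p := by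
        rw [card_map_of_injective (subtype_injective _), R.card_eq_multiplicity,
          ← card_mul_index (centralizer ({w} : Set G)),
          Nat.factorization_mul Nat.card_pos.ne' index_ne_zero_of_finite, Finsupp.add_apply,
          Nat.factorization_eq_zero_of_not_dvd (show ¬ p ∣ (centralizer ({w} : Set G)).index from fun h => hX.2 p hp.1 h (hPiS p hp)), add_zero]
      set R' : Sylow p G := Sylow.ofCard _ hR
      have hTR : T ≤ (R' : Subgroup G) := by
        obtain ⟨g, hg⟩ := MulAction.exists_smul_eq G P R'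
        intro t ht
        rw [← hg, Sylow.coe_subgroup_smul, mem_pointwise_smul_iff_inv_smul_mem]
        refine hP ?_
        simpa [MulAut.smul_def] using hTn.conj_mem t ht g⁻¹
      exact mem_centralizer_singleton_iff.1 (map_subtype_le _ (hTR hb))
    by_contra hab
    -- a generating set
    obtain ⟨-, w₀, i, hi, hw₀⟩ := id hp
    obtain ⟨q, hq, hqd⟩ := hnc w₀ hw₀.1
    haveI := Fact.mk hq
    obtain ⟨Q⟩ := (inferInstance : Nonempty (Sylow q G))
    have hQ : ¬ (Q : Subgroup G) ≤ centralizer ({w₀} : Set G) := fun h =>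
      Q.not_dvd_index' index_ne_zero_of_finite (hqd.trans (index_dvd_of_le h))
    obtain ⟨c, hcQ, hc⟩ := SetLike.not_le_iff_exists.1 hQ
    set A := zpowers c with hA
    have hAT : A ≤ normalizer (T : Set G) := by
      rw [normalizer_eq_top_iff.2 hTn]; exact le_top
    have hqp : q ≠ p := fun e => hw₀.2 q hq hqd (e ▸ hPiS p hp)
    have hco : (Nat.card A).Coprime (Nat.card T) := by
      obtain ⟨n, hn⟩ := IsPGroup.iff_card.1 (Q.isPGroup'.to_le (zpowers_le.2 hcQ))
      obtain ⟨m, hm⟩ := IsPGroup.iff_card.1 hTp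
      rw [hn, hm]
      exact Nat.Coprime.pow _ _ ((Nat.coprime_primes hq hp.1).2 hqp)
    haveI : Group.IsNilpotent T := hTp.isNilpotent
    have hTsolv : Group.IsSolvable T := inferInstance
    -- every element of T lies in F
    let F : Subgroup G :=
      { carrier := {t | t ∈ T ∧ ∀ g : G, g * t * g⁻¹ * t⁻¹ ∈ ⁅T, T⁆}
        one_mem' := ⟨one_mem _, fun g => by simp⟩
        mul_mem' := fun {a b} ha hb => ⟨mul_mem ha.1 hb.1, fun g => by
          have h1 := (Subgroup.commutator_normal T T).conj_mem _ (hb.2 g) a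
          have h2 := mul_mem (ha.2 g) h1
          have e : g * (a * b) * g⁻¹ * (a * b)⁻¹
              = g * a * g⁻¹ * a⁻¹ * (a * (g * b * g⁻¹ * b⁻¹) * a⁻¹) := by group
          rw [e]; exact h2⟩
        inv_mem' := fun {a} ha => ⟨inv_mem ha.1, fun g => by
          have h1 := (Subgroup.commutator_normal T T).conj_mem _ (inv_mem (ha.2 g)) a⁻¹
          have e : g * a⁻¹ * g⁻¹ * a⁻¹⁻¹ = a⁻¹ * (g * a * g⁻¹ * a⁻¹)⁻¹ * a⁻¹⁻¹ := by group
          rw [e]; exact h1⟩ }
    have hF : ∀ w ∈ T, (∃ b ∈ T, b * w ≠ w * b) → w ∈ F := by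
      intro w hw ⟨b, hb, hbw⟩
      refine ⟨hw, fun g => ?_⟩
      obtain ⟨j, hj⟩ := hTp ⟨w, hw⟩
      have hj' : w ^ p ^ j = 1 := by simpa using congrArg Subtype.val hj
      have hwX : ¬ X2 w := fun h => hbw (hX2T w hw h b hb)
      have hidx : ∃ e, (centralizer ({w} : Set G)).index = p ^ e :=
        ⟨_, Nat.eq_prime_pow_of_unique_prime_dvd index_ne_zero_of_finite
          (fun {r} hr hrd => F4 p w j hp hj' hwX r hr hrd)⟩
      obtain ⟨e, he⟩ := hidx
      have hTs : Basics.IsSylowIn p ⊤ T := ⟨le_top, by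
        obtain ⟨P, hP⟩ := hTp.exists_le_sylow
        have hPT : (P : Subgroup G) = T := le_antisymm (fun t ht => by
          obtain ⟨k, hk⟩ := P.isPGroup' ⟨t, ht⟩
          exact F4' p t k hp (by simpa using congrArg Subtype.val hk)) hP
        rw [card_top, ← hPT]; exact P.card_eq_multiplicity⟩
      obtain ⟨π, hπ, hπc⟩ := FGS.Kazarin.exists_mul_mem (C := centralizer ({w} : Set G)) le_top hTs
        (by rw [relIndex_top_right]; exact he) (mem_top g)
      rw [conj_eq_of_mem hπc]
      exact Subgroup.commutator_mem_commutator hπ hw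
    have hTF : T ≤ F := by
      intro t ht
      by_cases htc : ∃ b ∈ T, b * t ≠ t * b
      · exact hF t ht htc
      · push Not at htc hab
        obtain ⟨a, ha, b, hb, hne⟩ := hab
        have h1 : a ∈ F := hF a ha ⟨b, hb, Ne.symm hne⟩
        have h2 : a * t ∈ F := hF _ (mul_mem ha ht) ⟨b, hb, fun e => hne ?_⟩
        · simpa using mul_mem (inv_mem h1) h2
        · have e2 : b * t = t * b := htc b hb
          have : a * b * t = b * a * t := by
            rw [mul_assoc a b t, e2, ← mul_assoc, ← e, mul_assoc]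
          exact mul_right_cancel this
    have hK : ⁅T, A⁆ ≤ ⁅T, T⁆ := by
      rw [commutator_comm, commutator_le]
      intro g _ t ht
      rw [commutatorElement_def]
      exact (hTF ht).2 g
    have hsup := Basics.commutator_sup_inf_centralizer A T hAT hco (Or.inr hTsolv)
    have hC : T ≤ centralizer (A : Set G) := by
      set D := (centralizer (A : Set G)).subgroupOf T with hD
      have h1 : D ⊔ frattini T = ⊤ := by
        rw [eq_top_iff]
        intro t _
        have ht : (t : G) ∈ ⁅T, T⁆ ⊔ (T ⊓ centralizer (A : Set G)) :=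
          (sup_le_sup_right hK _) (hsup.symm ▸ t.2)
        have hmap : ⁅T, T⁆ ⊔ (T ⊓ centralizer (A : Set G)) ≤ (D ⊔ frattini T).map T.subtype := by
          refine sup_le ?_ ?_
          · refine le_trans ?_ (Subgroup.map_mono (le_sup_right : frattini T ≤ D ⊔ frattini T))
            refine le_trans (le_of_eq ?_) (Subgroup.map_mono Basics.commutator_le_frattini)
            rw [_root_.commutator_def, map_commutator, ← MonoidHom.range_eq_map, range_subtype]
          · intro z hz
            exact ⟨⟨z, hz.1⟩, Subgroup.mem_sup_left (mem_subgroupOf.2 hz.2), rfl⟩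
        obtain ⟨t', ht', e⟩ := hmap ht
        rwa [← Subtype.ext (e : (t' : G) = t)]
      have h2 := frattini_nongenerating h1
      intro t ht
      exact mem_subgroupOf.1 (h2 ▸ mem_top (⟨t, ht⟩ : T))
    apply hc
    rw [mem_centralizer_singleton_iff]
    exact mem_centralizer_iff.1 (hC (key p w₀ hp.1 ⟨i, hi⟩ hw₀).2) c (mem_zpowers c)
  -- prime power elements for Pi primes commute
  have hPiTcomm : ∀ (p r : ℕ) (a b : G) (i j : ℕ), Pi p → Pi r → a ^ p ^ i = 1 → b ^ r ^ j = 1 →
      a * b = b * a := by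
    intro p r a b i j hp hr hi hj
    have ha := F4' p a i hp hi
    have hb := F4' r b j hr hj
    by_cases hpr : p = r
    · subst hpr; exact F5 p hp a ha b hb
    · haveI := Fact.mk hp.1
      haveI := Fact.mk hr.1
      have h1 : IsPGroup p (pCore p G) := Components.sSup_isPGroup_of_normal
      have h2 : IsPGroup r (pCore r G) := Components.sSup_isPGroup_of_normal
      have n1 : (pCore p G).Normal := by
        unfold Cfsg.pCore; exact Subgroup.sSup_normal _ fun N hN => hN.1
      have n2 : (pCore r G).Normal := by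
        unfold Cfsg.pCore; exact Subgroup.sSup_normal _ fun N hN => hN.1
      exact (Subgroup.commute_of_normal_of_disjoint _ _ n1 n2 (IsPGroup.disjoint_of_ne p r hpr _ _ h1 h2) a b ha hb).eq
  -- the kernel
  set A : Subgroup G := closure ((center G : Set G) ∪
    {a | ∃ (p i : ℕ), Pi p ∧ a ^ p ^ i = 1}) with hA
  have hAab : ∀ a ∈ A, ∀ b ∈ A, a * b = b * a := by
    have hgen : ∀ a ∈ ((center G : Set G) ∪ {a | ∃ (p i : ℕ), Pi p ∧ a ^ p ^ i = 1}),
        ∀ b ∈ ((center G : Set G) ∪ {a | ∃ (p i : ℕ), Pi p ∧ a ^ p ^ i = 1}), a * b = b * a := by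
      rintro a (ha | ⟨p, i, hp, hi⟩) b (hb | ⟨r, j, hr, hj⟩)
      · exact (mem_center_iff.1 ha b).symm
      · exact (mem_center_iff.1 ha b).symm
      · exact mem_center_iff.1 hb a
      · exact hPiTcomm p r a b i j hp hr hi hj
    haveI := Subgroup.isMulCommutative_closure hgen
    intro a ha b hb
    exact congrArg Subtype.val (mul_comm' (⟨a, ha⟩ : A) ⟨b, hb⟩)
  have hZA : center G ≤ A := fun z hz => subset_closure (Or.inl hz)
  haveI hAn : A.Normal := ⟨fun a ha g => by
    refine closure_induction (p := fun a _ => g * a * g⁻¹ ∈ A) ?_ (by simp) ?_ ?_ ha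
    · rintro a (ha | ⟨p, i, hp, hi⟩)
      · exact hZA ((inferInstance : (center G).Normal).conj_mem a ha g)
      · exact subset_closure (Or.inr ⟨p, i, hp, by rw [conj_pow, hi]; group⟩)
    · intro a b _ _ h1 h2; simpa [mul_assoc] using mul_mem h1 h2
    · intro a _ h; simpa [mul_assoc] using inv_mem h⟩
  have hCu : ∀ (p : ℕ) (a : G) (i : ℕ), Pi p → a ^ p ^ i = 1 → X2 a →
      centralizer ({a} : Set G) = A := by
    intro p a i hp hi ha
    refine le_antisymm (fun c hc => ?_) (fun c hc => mem_centralizer_singleton_iff.2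
      (hAab c hc a (subset_closure (Or.inr ⟨p, i, hp, hi⟩))))
    by_contra hcA
    obtain ⟨r, hr, k, ⟨e, he⟩, hk⟩ := exists_part A hcA
    by_cases hPr : Pi r
    · exact hk (subset_closure (Or.inr ⟨r, e, hPr, he⟩))
    · exact hk (hZA (F2 p r a (c ^ k) i e hp.1 hr hPr hi he ha
        (Commute.pow_left (mem_centralizer_singleton_iff.1 hc) k)))
  have hu : Pi p₀ := ⟨hp₀, u, i₀, hu₀, huX⟩
  have hAu : centralizer ({u} : Set G) = A := hCu p₀ u i₀ hu hu₀ huX
  -- elements outside A
  have hout : ∀ g : G, g ∉ A → (cl g).Coprime (cl u) := by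
    intro g hg
    refine Nat.coprime_of_dvd fun q hq h1 h2 => ?_
    obtain ⟨r, hr, k, ⟨e, he⟩, hk⟩ := exists_part A hg
    have hgX : X2 g := hX2_of g ⟨q, hq, huX.2 q hq h2, h1⟩
    have hPr : ¬ Pi r := fun h => hk (subset_closure (Or.inr ⟨r, e, h, he⟩))
    exact hPr ⟨hr, g ^ k, e, he, hX2_dvd _ g (cl_pow_dvd g k) hgX (fun h => hk (hZA h))⟩
  have hAcomm : ∀ g h : G, g * h * (h * g)⁻¹ ∈ A := by
    intro g h
    by_cases hg : g ∈ A
    · have h1 : g * (h * g⁻¹ * h⁻¹) ∈ A := mul_mem hg (hAn.conj_mem _ (inv_mem hg) h)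
      simpa [mul_assoc] using h1
    · obtain ⟨c, hc, hc'⟩ := exists_conj (centralizer ({g} : Set G)) (centralizer ({u} : Set G))
        (hout g hg) h
      rw [hAu] at hc'
      rw [mem_centralizer_singleton_iff] at hc
      have e : g * h * (h * g)⁻¹ = c * (g * (c⁻¹ * h) * g⁻¹ * (c⁻¹ * h)⁻¹) * c⁻¹ := by
        calc g * h * (h * g)⁻¹ = (g * c) * (c⁻¹ * h) * g⁻¹ * h⁻¹ := by group
          _ = (c * g) * (c⁻¹ * h) * g⁻¹ * h⁻¹ := by rw [hc]
          _ = _ := by group
      rw [e]
      exact hAn.conj_mem _ (mul_mem (hAn.conj_mem _ hc' g) (inv_mem hc')) c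
  -- pass to the quotient
  set π := QuotientGroup.mk' (center G) with hπ
  set Ab := A.map π with hAb
  have hcomap : Ab.comap π = A := by
    rw [hAb, comap_map_eq, QuotientGroup.ker_mk', sup_eq_left.2 hZA]
  haveI : Ab.Normal := hAn.map π (QuotientGroup.mk'_surjective _)
  have hidx : Ab.index = cl u := by
    rw [cl, hAu, hAb]
    exact index_map_eq A (QuotientGroup.mk'_surjective _) (by rw [QuotientGroup.ker_mk']; exact hZA)
  have hprimes : ∀ r : ℕ, r.Prime → r ∣ Nat.card Ab → Pi r := by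
    intro r hr hd
    by_contra hPr
    haveI := Fact.mk hr
    obtain ⟨⟨z, hz⟩, hzo⟩ := exists_prime_orderOf_dvd_card' r hd
    obtain ⟨a, ha, rfl⟩ := hz
    rw [← Subgroup.orderOf_coe] at hzo
    simp only at hzo
    have hmem : π a = 1 := by
      rw [← MonoidHom.mem_ker, QuotientGroup.ker_mk']
      by_contra hac
      -- some prime power part of `a` survives
      obtain ⟨s, hs, k, ⟨e, he⟩, hk⟩ := exists_part (center G) hac
      by_cases hsr : s = r
      · subst hsr
        refine hk (F2 p₀ s u (a ^ k) i₀ e hp₀ hs hPr hu₀ he huX ?_)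
        exact Commute.pow_left (mem_centralizer_singleton_iff.1 (hAu ▸ ha)) k
      · have h1 : orderOf (π (a ^ k)) ∣ s ^ e :=
          (orderOf_map_dvd π _).trans (orderOf_dvd_iff_pow_eq_one.2 he)
        have h2 : orderOf (π (a ^ k)) ∣ r := by
          rw [map_pow]; exact orderOf_dvd_iff_pow_eq_one.2 (by rw [← pow_mul, mul_comm, pow_mul, show π a ^ r = 1 from hzo ▸ pow_orderOf_eq_one (π a), one_pow])
        have h3 := Nat.eq_one_of_dvd_coprimes
          (Nat.Coprime.pow_left e ((Nat.coprime_primes hs hr).2 hsr)) h1 h2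
        rw [orderOf_eq_one_iff, ← MonoidHom.mem_ker, QuotientGroup.ker_mk'] at h3
        exact hk h3
    rw [hmem, orderOf_one] at hzo
    exact hr.ne_one hzo.symm
  have hco : (Nat.card Ab).Coprime Ab.index := Nat.coprime_of_dvd fun r hr h1 h2 =>
    huX.2 r hr (hidx ▸ h2) (hPiS r (hprimes r hr h1))
  obtain ⟨H, hH⟩ := Subgroup.exists_right_complement'_of_coprime hco
  have hAbcomm : ∀ a ∈ Ab, ∀ b ∈ Ab, a * b = b * a := by
    rintro _ ⟨a, ha, rfl⟩ _ ⟨b, hb, rfl⟩
    rw [← map_mul, hAab a ha b hb, map_mul]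
  have hfix : ∀ n ∈ Ab, ∀ h ∈ H, n * h = h * n → n = 1 ∨ h = 1 := by
    rintro _ ⟨a, ha, rfl⟩ h hh hcomm
    obtain ⟨g, rfl⟩ := QuotientGroup.mk'_surjective (center G) h
    by_cases hgA : g ∈ A
    · exact Or.inr (Subgroup.disjoint_def.1 hH.disjoint ⟨g, hgA, rfl⟩ hh)
    refine Or.inl ?_
    rw [← MonoidHom.mem_ker, QuotientGroup.ker_mk']
    by_contra hac
    have hz : g * a * g⁻¹ * a⁻¹ ∈ center G := by
      refine (QuotientGroup.eq_one_iff _).1 ?_
      change π (g * a * g⁻¹ * a⁻¹) = 1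
      simp only [map_mul, map_inv]
      have hcomm' : π a * π g = π g * π a := hcomm
      rw [← hcomm']; group
    set z := g * a * g⁻¹ * a⁻¹ with hzdef
    have hzc : ∀ t : G, Commute z t := fun t => (mem_center_iff.1 hz t).symm
    have hga : g * a * g⁻¹ = z * a := by rw [hzdef]; group
    have hiter : ∀ k : ℕ, g ^ k * a * (g ^ k)⁻¹ = z ^ k * a := by
      intro k
      induction k with
      | zero => simp
      | succ k ih =>
        calc g ^ (k + 1) * a * (g ^ (k + 1))⁻¹ = g * (g ^ k * a * (g ^ k)⁻¹) * g⁻¹ := by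
              rw [pow_succ']; group
          _ = g * z ^ k * a * g⁻¹ := by rw [ih]; group
          _ = z ^ k * g * a * g⁻¹ := by rw [((hzc g).pow_left k).eq]
          _ = z ^ k * (g * a * g⁻¹) := by group
          _ = z ^ (k + 1) * a := by rw [hga, pow_succ]; group
    have hzm : z ^ A.index = 1 := by
      have h1 : g ^ A.index ∈ A := pow_index_mem A g
      have h2 := hiter A.index
      rw [show g ^ A.index * a * (g ^ A.index)⁻¹ = a by rw [hAab _ h1 a ha]; group] at h2
      exact mul_eq_right.1 h2.symm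
    have hze : z ^ Nat.card Ab = 1 := by
      have h1 : a ^ Nat.card Ab ∈ center G := by
        refine (QuotientGroup.eq_one_iff _).1 ?_
        change π (a ^ Nat.card Ab) = 1
        rw [map_pow]
        exact congrArg Subtype.val (pow_card_eq_one' (x := (⟨π a, a, ha, rfl⟩ : Ab)))
      have h2 : (g * a * g⁻¹) ^ Nat.card Ab = a ^ Nat.card Ab := by
        rw [conj_pow, (mem_center_iff.1 h1 g)]; group
      rw [hga, (hzc a).mul_pow] at h2
      exact mul_eq_right.1 h2
    have hAi : A.index = Ab.index := by rw [hidx, cl, hAu]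
    have hz1 : z = 1 := by
      rw [← orderOf_eq_one_iff]
      exact Nat.eq_one_of_dvd_coprimes hco (orderOf_dvd_iff_pow_eq_one.2 hze)
        (orderOf_dvd_iff_pow_eq_one.2 (hAi ▸ hzm))
    rw [hz1, one_mul] at hga
    have hgc : g ∈ centralizer ({a} : Set G) := mem_centralizer_singleton_iff.2 (by
      calc g * a = g * a * g⁻¹ * g := by group
        _ = a * g := by rw [hga])
    obtain ⟨r, hr, k, ⟨e, he⟩, hk⟩ := exists_part (center G) hac
    have hAk : A ≤ centralizer ({a ^ k} : Set G) := fun c hc =>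
      mem_centralizer_singleton_iff.2 (hAab c hc _ (pow_mem ha k))
    have hX : X2 (a ^ k) := hX2_dvd _ u (by
      rw [cl, cl, hAu]; exact index_dvd_of_le hAk) huX hk
    have := hCu r (a ^ k) e ⟨hr, _, e, he, hX⟩ he hX
    refine hgA (this ▸ mem_centralizer_singleton_iff.2 ?_)
    exact (Commute.pow_right (mem_centralizer_singleton_iff.1 hgc) k).eq
  refine ⟨H, ⟨?_, ?_, ?_⟩, ?_, ?_⟩
  · intro e
    subst e
    have := Subgroup.isComplement'_bot_right.1 hH
    have h2 : Ab.index = 1 := by rw [this, index_top]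
    rw [hidx] at h2
    exact huX.1 (cl_eq_one.1 h2)
  · intro e
    subst e
    have h1 := Subgroup.isComplement'_top_right.1 hH
    apply huX.1
    have h2 : π u ∈ Ab := ⟨u, subset_closure (Or.inr ⟨p₀, i₀, hu, hu₀⟩), rfl⟩
    rw [h1, mem_bot, ← MonoidHom.mem_ker, QuotientGroup.ker_mk'] at h2
    exact h2
  · intro g hg
    rw [eq_bot_iff]
    intro y hy
    obtain ⟨h, hh, n, hn, rfl⟩ : ∃ h ∈ H, ∃ n ∈ Ab, g = n * h := by
      obtain ⟨⟨⟨n, hn⟩, ⟨h, hh⟩⟩, e⟩ := hH.2 g
      exact ⟨h, hh, n, hn, e.symm⟩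
    have hn1 : n ≠ 1 := fun e => hg (by rw [e, one_mul]; exact hh)
    have hy2 : n⁻¹ * y * n ∈ H := by
      have h1 := mem_pointwise_smul_iff_inv_smul_mem.1 hy.2
      simp only [← map_inv, MulAut.smul_def, MulAut.conj_apply] at h1
      have h2 := mul_mem (mul_mem hh h1) (inv_mem hh)
      simpa [mul_assoc] using h2
    have h3 : y⁻¹ * (n⁻¹ * y * n) = 1 := by
      refine Subgroup.disjoint_def.1 hH.disjoint ?_ (mul_mem (inv_mem hy.1) hy2)
      have := mul_mem ((inferInstance : Ab.Normal).conj_mem _ (inv_mem hn) y⁻¹) hn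
      simpa [mul_assoc] using this
    have h4 : n * y = y * n := by
      have : n⁻¹ * y * n = y := (inv_mul_eq_one.1 h3).symm
      calc n * y = n * (n⁻¹ * y * n) := by rw [this]
        _ = y * n := by group
    exact (hfix n hn y hy.1 h4).resolve_left hn1
  · refine ⟨⟨fun a b => Subtype.ext ?_⟩⟩
    obtain ⟨a, ha⟩ := a
    obtain ⟨b, hb⟩ := b
    obtain ⟨g, rfl⟩ := QuotientGroup.mk'_surjective (center G) a
    obtain ⟨h, rfl⟩ := QuotientGroup.mk'_surjective (center G) b
    show π g * π h = π h * π g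
    refine mul_inv_eq_one.1 (Subgroup.disjoint_def.1 hH.disjoint ?_
      (mul_mem (mul_mem ha hb) (inv_mem (mul_mem hb ha))))
    exact ⟨_, hAcomm g h, by simp⟩
  · intro a ha b hb
    have hker : ∀ a ∈ Cfsg.frobeniusKernel H, a ∈ Ab := by
      rintro a (rfl | ha)
      · exact one_mem _
      by_contra haA
      obtain ⟨h, hh, n, hn, rfl⟩ : ∃ h ∈ H, ∃ n ∈ Ab, a = n * h := by
        obtain ⟨⟨⟨n, hn⟩, ⟨h, hh⟩⟩, e⟩ := hH.2 a
        exact ⟨h, hh, n, hn, e.symm⟩
      have hh1 : h ≠ 1 := fun e => haA (by rw [e, mul_one]; exact hn)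
      let f : Ab → Ab := fun m => ⟨(m : G ⧸ center G) * (h * (m : G ⧸ center G)⁻¹ * h⁻¹),
        mul_mem m.2 ((inferInstance : Ab.Normal).conj_mem _ (inv_mem m.2) h)⟩
      have hf : Function.Injective f := by
        intro m m' e
        have e' := congrArg Subtype.val e
        simp only [f] at e'
        have e2 : (m : G ⧸ center G) * h * (m : G ⧸ center G)⁻¹
            = (m' : G ⧸ center G) * h * (m' : G ⧸ center G)⁻¹ := by
          have := congrArg (· * h) e'
          simpa [mul_assoc] using this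
        have e3 : ((m' : G ⧸ center G)⁻¹ * m) * h = h * ((m' : G ⧸ center G)⁻¹ * m) := by
          calc _ = (m' : G ⧸ center G)⁻¹ * ((m : G ⧸ center G) * h * (m : G ⧸ center G)⁻¹) * m := by group
            _ = _ := by rw [e2]; group
        have := (hfix _ (mul_mem (inv_mem m'.2) m.2) h hh e3).resolve_right hh1
        exact Subtype.ext (inv_mul_eq_one.1 this).symm
      obtain ⟨m, hm⟩ := (Finite.injective_iff_surjective.1 hf) ⟨n, hn⟩
      refine ha (m : G ⧸ center G) ?_
      rw [mem_pointwise_smul_iff_inv_smul_mem]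
      have hm' : (m : G ⧸ center G) * (h * (m : G ⧸ center G)⁻¹ * h⁻¹) = n := congrArg Subtype.val hm
      rw [← hm']
      simpa [MulAut.smul_def, mul_assoc] using hh
    exact hAbcomm a (hker a ha) b (hker b hb)


/-- Let G be a finite group. Call a prime a vertex if it divides some conjugacy class size of G, and two distinct vertices adjacent if their product divides some class size. Suppose this graph is disconnected: the vertices split into two nonempty parts with no vertex of one part adjacent to a vertex of the other. Then G/Z(G) is a Frobenius group with abelian Frobenius complement and with a Frobenius kernel all of whose elements commute. -/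
theorem result {G : Type*} [Group G] [Finite G] (S : Set ℕ) (hS : ∃ p ∈ S, (p.Prime ∧ ∃ g : G, p ∣ (Subgroup.centralizer ({g} : Set G)).index)) (hS' : ∃ q ∉ S, (q.Prime ∧ ∃ g : G, q ∣ (Subgroup.centralizer ({g} : Set G)).index))
    (hdisc : ∀ p q : ℕ, (p.Prime ∧ ∃ g : G, p ∣ (Subgroup.centralizer ({g} : Set G)).index) → (q.Prime ∧ ∃ g : G, q ∣ (Subgroup.centralizer ({g} : Set G)).index) → p ∈ S → q ∉ S → ¬ (∃ g : G, p * q ∣ (Subgroup.centralizer ({g} : Set G)).index)) :
    ∃ H : Subgroup (G ⧸ Subgroup.center G), Cfsg.IsFrobeniusComplement H ∧ IsMulCommutative H ∧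
      ∀ x ∈ Cfsg.frobeniusKernel H, ∀ y ∈ Cfsg.frobeniusKernel H, x * y = y * x := by
  haveI : Fintype G := Fintype.ofFinite G
  obtain ⟨x, -, hmax⟩ := Finset.exists_max_image (Finset.univ : Finset G) (cl (G := G)) Finset.univ_nonempty
  replace hmax : ∀ z : G, cl z ≤ cl x := fun z => hmax z (Finset.mem_univ _)
  have hd : ∀ T : Set ℕ, (T = S ∨ T = Sᶜ) → ∀ (g : G) (p q : ℕ), p.Prime → q.Prime → p ∣ cl g → q ∣ cl g → p ∈ T → q ∈ T := by
    intro T hT g p q hp hq hpd hqd hpT
    by_contra hqT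
    rcases hT with rfl | rfl
    · exact hdisc p q ⟨hp, g, hpd⟩ ⟨hq, g, hqd⟩ hpT hqT
        ⟨g, Nat.Coprime.mul_dvd_of_dvd_of_dvd ((Nat.coprime_primes hp hq).2 (fun e => hqT (e ▸ hpT))) hpd hqd⟩
    · have hqS : q ∈ S := not_not.1 hqT
      exact hdisc q p ⟨hq, g, hqd⟩ ⟨hp, g, hpd⟩ hqS hpT
        ⟨g, Nat.Coprime.mul_dvd_of_dvd_of_dvd ((Nat.coprime_primes hq hp).2 (fun e => hpT (e ▸ hqS))) hqd hpd⟩
  by_cases hxS : ∀ p : ℕ, p.Prime → p ∣ cl x → p ∈ S
  · obtain ⟨q, hq, hqp, g, hg⟩ := hS'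
    exact main S (hd S (Or.inl rfl)) x hmax hxS ⟨g, q, hqp, hq, hg⟩
  · push Not at hxS
    obtain ⟨p₀, hp₀, hpd, hpS⟩ := hxS
    obtain ⟨p, hp, hpp, g, hg⟩ := hS
    exact main Sᶜ (hd _ (Or.inr rfl)) x hmax
      (fun r hr hrd => hd _ (Or.inr rfl) x p₀ r hp₀ hr hpd hrd hpS) ⟨g, p, hpp, fun h => h hp, hg⟩

end Cfsg.Agent.S4255
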