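import Cfsg.Statements.S4257
import Mathlib
import Cfsg.Agent.Lib.FGS.SquarefreeClass
import Cfsg.Agent.Lib.FGB.Basic
-- import your own Cfsg.Agent.* helpers here

set_option autoImplicit false
open Cfsg

set_option linter.all false

namespace Cfsg.Agent.S4257

open Subgroup
open scoped Pointwise commutatorElement

universe u

variable {G : Type u} [Group G]

/-- class size -/
private noncomputable def cl (x : G) : ℕ := (centralizer ({x} : Set G)).index

private theorem cl_eq_one [Finite G] {x : G} : cl x = 1 ↔ x ∈ center G := by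
  rw [cl, index_eq_one, centralizer_eq_top_iff_subset, Set.singleton_subset_iff]
  rfl

private theorem dvd_mul_left_cl [Finite G] {a b : G} (hab : Commute a b)
    (hco : (orderOf a).Coprime (orderOf b)) : cl a ∣ cl (a * b) ∧ cl b ∣ cl (a * b) := by
  have e := Cfsg.Agent.FGB.centralizer_mul_of_coprime hab hco
  exact ⟨index_dvd_of_le (e ▸ inf_le_left), index_dvd_of_le (e ▸ inf_le_right)⟩

/-- conjugates can be made with elements of the other centralizer -/
private theorem exists_conj [Finite G] (C D : Subgroup G) (h : C.index.Coprime D.index) (g : G) :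
    ∃ c ∈ C, c⁻¹ * g ∈ D := by
  have h1 : D.index ≤ (C.subgroupOf C).index * 0 + D.relIndex C := by
    rw [mul_zero, zero_add]
    have h2 : (C ⊓ D).index = D.relIndex C * C.index := by
      rw [← relIndex_mul_index (inf_le_left : C ⊓ D ≤ C), inf_relIndex_left]
    have h3 : C.index * D.index ∣ (C ⊓ D).index :=
      h.mul_dvd_of_dvd_of_dvd (index_dvd_of_le inf_le_left) (index_dvd_of_le inf_le_right)
    rw [h2, mul_comm C.index] at h3
    refine Nat.le_of_dvd (Nat.pos_of_ne_zero ?_) (Nat.dvd_of_mul_dvd_mul_right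
      (Nat.pos_of_ne_zero index_ne_zero_of_finite) h3)
    exact index_ne_zero_of_finite
  simp only [mul_zero, zero_add] at h1
  let f : C ⧸ D.subgroupOf C → G ⧸ D :=
    Quotient.map' (fun x : C => (x : G)) (fun a b h => by
      rw [QuotientGroup.leftRel_apply] at h ⊢
      exact h)
  have hf : Function.Injective f := by
    intro a c
    induction a using QuotientGroup.induction_on with
    | _ a =>
    induction c using QuotientGroup.induction_on with
    | _ c =>
    intro hh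
    have h4 : QuotientGroup.mk (s := D) (a : G) = QuotientGroup.mk (c : G) := hh
    rw [QuotientGroup.eq] at h4
    exact QuotientGroup.eq.2 h4
  obtain ⟨q, hq⟩ := (hf.bijective_of_nat_card_le h1).2 (QuotientGroup.mk g)
  induction q using QuotientGroup.induction_on with
  | _ q =>
    exact ⟨q, q.2, QuotientGroup.eq.1 (show QuotientGroup.mk (s := D) (q : G)
      = QuotientGroup.mk g from hq)⟩

private theorem conj_eq_of_mem {c g x : G} (h : c⁻¹ * g ∈ centralizer ({x} : Set G)) :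
    g * x * g⁻¹ = c * x * c⁻¹ := by
  rw [mem_centralizer_singleton_iff] at h
  calc g * x * g⁻¹ = c * ((c⁻¹ * g) * x) * g⁻¹ := by group
    _ = c * (x * (c⁻¹ * g)) * g⁻¹ := by rw [h]
    _ = c * x * c⁻¹ := by group

private theorem class_eq (x : G) :
    Nat.card {a : G // IsConj x a} = cl x := by
  have h : cl x = (MulAction.stabilizer (ConjAct G) x).index := by
    rw [ConjAct.stabilizer_eq_centralizer x]; rfl
  rw [h, MulAction.index_stabilizer, ← Nat.card_coe_set_eq]
  refine Nat.card_congr (Equiv.subtypeEquivRight fun a => ?_)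
  rw [ConjAct.mem_orbit_conjAct]
  exact isConj_comm

/-- the stabiliser of the largest class -/
private theorem exists_stabilizer [Finite G] (x y : G) (hco : (cl x).Coprime (cl y))
    (hle : cl (x * y) ≤ cl x) :
    ∃ N : Subgroup G, N.Normal ∧ Nat.card N ∣ cl x ∧
      ∀ g : G, g * y * g⁻¹ * y⁻¹ ∈ N := by
  classical
  set B : Set G := {a | IsConj x a} with hB
  let N : Subgroup G :=
    { carrier := {n | ∀ a : G, a * n ∈ B ↔ a ∈ B}
      mul_mem' := fun {m n} hm hn a => by rw [← mul_assoc, hn, hm]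
      one_mem' := fun a => by rw [mul_one]
      inv_mem' := fun {n} hn a => by
        have := hn (a * n⁻¹)
        rw [inv_mul_cancel_right] at this
        exact this.symm }
  have hNn : N.Normal := ⟨fun n hn g a => by
    have h1 : ∀ b, g⁻¹ * b * g ∈ B ↔ b ∈ B := fun b =>
      ⟨fun h => h.trans (isConj_iff.2 ⟨g, by group⟩), fun h => h.trans (isConj_iff.2 ⟨g⁻¹, by group⟩)⟩
    rw [← h1, ← h1 a]
    have := hn (g⁻¹ * a * g)
    rw [← this]
    simp [mul_assoc]⟩
  refine ⟨N, hNn, ?_, ?_⟩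
  · have hpre : QuotientGroup.mk ⁻¹' ((QuotientGroup.mk : G → G ⧸ N) '' B) = B := by
      refine Set.Subset.antisymm ?_ (Set.subset_preimage_image _ _)
      rintro a ⟨b, hb, e⟩
      have h1 : b⁻¹ * a ∈ N := QuotientGroup.eq.1 e
      simpa using (h1 b).2 hb
    rw [← class_eq x]
    have := Nat.card_congr (QuotientGroup.preimageMkEquivSubgroupProdSet N
      ((QuotientGroup.mk : G → G ⧸ N) '' B))
    rw [hpre, Nat.card_prod] at this
    exact ⟨_, this⟩
  · intro g
    have hcop : ∀ g : G, ∃ c ∈ centralizer ({x} : Set G), g * y * g⁻¹ = c * y * c⁻¹ := fun g => by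
      obtain ⟨c, hc, hc'⟩ := exists_conj (centralizer ({x} : Set G)) (centralizer ({y} : Set G)) hco g
      exact ⟨c, hc, conj_eq_of_mem hc'⟩
    set D : Set G := {a | IsConj (x * y) a} with hD
    have hsub : ∀ g : G, (fun a => a * (g * y * g⁻¹)) '' B ⊆ D := by
      rintro g _ ⟨a, ha, rfl⟩
      obtain ⟨k, hk⟩ := isConj_iff.1 (ha : IsConj x a)
      obtain ⟨c, hc, hce⟩ := hcop (k⁻¹ * g)
      rw [mem_centralizer_singleton_iff] at hc
      refine isConj_iff.2 ⟨k * c, ?_⟩
      have e2 : c * x * c⁻¹ = x := by rw [hc]; group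
      calc k * c * (x * y) * (k * c)⁻¹ = k * (c * x * c⁻¹) * (c * y * c⁻¹) * k⁻¹ := by group
        _ = k * x * (k⁻¹ * g * y * (k⁻¹ * g)⁻¹) * k⁻¹ := by rw [e2, hce]
        _ = k * x * k⁻¹ * (g * y * g⁻¹) := by group
        _ = a * (g * y * g⁻¹) := by rw [hk]
    have heq : ∀ g : G, (fun a => a * (g * y * g⁻¹)) '' B = D := fun g => by
      refine Set.eq_of_subset_of_ncard_le (hsub g) ?_ (Set.toFinite _)
      rw [Set.ncard_image_of_injective _ (mul_left_injective _), ← Nat.card_coe_set_eq,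
        ← Nat.card_coe_set_eq]
      calc Nat.card D = cl (x * y) := class_eq (x * y)
        _ ≤ cl x := hle
        _ = Nat.card B := (class_eq x).symm
    intro a
    constructor
    · intro ha
      have h1 : a * (g * y * g⁻¹ * y⁻¹) * (1 * y * 1⁻¹) ∈ D := hsub 1 ⟨_, ha, rfl⟩
      have e : a * (g * y * g⁻¹ * y⁻¹) * (1 * y * 1⁻¹) = a * (g * y * g⁻¹) := by group
      rw [e, ← heq g] at h1
      obtain ⟨b, hb, hbe⟩ := h1
      rwa [mul_left_injective _ hbe] at hb
    · intro ha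
      have h1 : a * (g * y * g⁻¹) ∈ D := hsub g ⟨a, ha, rfl⟩
      rw [← heq 1] at h1
      obtain ⟨b, hb, hbe⟩ := h1
      have : b = a * (g * y * g⁻¹ * y⁻¹) := by
        simp only [one_mul, inv_one, mul_one] at hbe
        rw [← mul_assoc a, ← hbe]; group
      rwa [← this]

private theorem orderOf_of_pow {r e : ℕ} (hr : r.Prime) {a : G} (ha : a ^ r ^ e = 1) :
    ∃ i, orderOf a = r ^ i := by
  obtain ⟨i, -, hi⟩ := (Nat.dvd_prime_pow hr).1 (orderOf_dvd_iff_pow_eq_one.2 ha)
  exact ⟨i, hi⟩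

private theorem coprime_orders {p r : ℕ} (hp : p.Prime) (hr : r.Prime) (hne : p ≠ r) {a b : G}
    {i j : ℕ} (ha : a ^ p ^ i = 1) (hb : b ^ r ^ j = 1) : (orderOf a).Coprime (orderOf b) :=
  Nat.Coprime.coprime_dvd_left (orderOf_dvd_iff_pow_eq_one.2 ha)
    (Nat.Coprime.coprime_dvd_right (orderOf_dvd_iff_pow_eq_one.2 hb)
      (Nat.Coprime.pow _ _ ((Nat.coprime_primes hp hr).2 hne)))

private theorem isPElem_zpowers {p i : ℕ} [hp : Fact p.Prime] {a : G} (ha : a ^ p ^ i = 1) :
    IsPGroup p (zpowers a) := by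
  obtain ⟨j, hj⟩ := orderOf_of_pow hp.out ha
  exact IsPGroup.of_card (n := j) (by rw [Nat.card_zpowers, hj])

private theorem mem_conj_of_not_dvd [Finite G] {p i : ℕ} [hp : Fact p.Prime] (C : Subgroup G)
    (hC : ¬ p ∣ C.index) {a : G} (ha : a ^ p ^ i = 1) : ∃ g : G, g * a * g⁻¹ ∈ C := by
  obtain ⟨P, hP⟩ := (isPElem_zpowers ha).exists_le_sylow
  obtain ⟨R⟩ := (inferInstance : Nonempty (Sylow p C))
  have hR : Nat.card ((R : Subgroup C).map C.subtype) = p ^ (Nat.card G).factorization p := by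
    rw [card_map_of_injective C.subtype_injective, R.card_eq_multiplicity,
      ← card_mul_index C, Nat.factorization_mul Nat.card_pos.ne' index_ne_zero_of_finite,
      Finsupp.add_apply, Nat.factorization_eq_zero_of_not_dvd hC, add_zero]
  set R' : Sylow p G := Sylow.ofCard ((R : Subgroup C).map C.subtype) hR
  obtain ⟨g, hg⟩ := MulAction.exists_smul_eq G P R'
  refine ⟨g, ?_⟩
  have h1 : MulAut.conj g • a ∈ MulAut.conj g • (P : Subgroup G) :=
    smul_mem_pointwise_smul a _ _ (hP (mem_zpowers a))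
  rw [← Sylow.pointwise_smul_def, show (MulAut.conj g • P : Sylow p G) = g • P from rfl, hg] at h1
  exact map_subtype_le _ (by simpa [R', MulAut.smul_def] using h1)

private theorem relIndex_dvd_cl [Finite G] (N : Subgroup G) [N.Normal] (a : G) :
    (centralizer ({a} : Set G)).relIndex N ∣ cl a :=
  FGS.SquarefreeClass.index_dvd_subgroup.relIndex_dvd_index_of_normal_sup _ N


variable [Finite G]

private def Adj (G : Type u) [Group G] (p q : ℕ) : Prop := ∃ g : G, p * q ∣ cl g

private def Vert (G : Type u) [Group G] (p : ℕ) : Prop := p.Prime ∧ ∃ g : G, p ∣ cl g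

private def Phi (G : Type u) [Group G] (t : ℕ) : Prop :=
  ∃ T : Subgroup G, T.Normal ∧ IsPGroup t T ∧ ¬ T ≤ center G

private theorem Adj.symm {p q : ℕ} (h : Adj G p q) : Adj G q p := by
  obtain ⟨g, hg⟩ := h
  exact ⟨g, by rwa [mul_comm]⟩

private theorem adj_of {p q : ℕ} (hp : p.Prime) (hq : q.Prime) (hne : p ≠ q) {g : G}
    (h1 : p ∣ cl g) (h2 : q ∣ cl g) : Adj G p q :=
  ⟨g, ((Nat.coprime_primes hp hq).2 hne).mul_dvd_of_dvd_of_dvd h1 h2⟩

private theorem exists_notMem_two {H K : Subgroup G} (hH : H ≠ ⊤) (hK : K ≠ ⊤) :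
    ∃ g : G, g ∉ H ∧ g ∉ K := by
  obtain ⟨a, ha⟩ : ∃ a, a ∉ H := by
    by_contra hc
    push Not at hc
    exact hH (eq_top_iff' H |>.2 hc)
  obtain ⟨b, hb⟩ : ∃ b, b ∉ K := by
    by_contra hc
    push Not at hc
    exact hK (eq_top_iff' K |>.2 hc)
  by_cases haK : a ∈ K
  · by_cases hbH : b ∈ H
    · exact ⟨a * b, fun h => ha ((H.mul_mem_cancel_right hbH).1 h),
        fun h => hb ((K.mul_mem_cancel_left haK).1 h)⟩
    · exact ⟨b, hbH, hb⟩
  · exact ⟨a, ha, haK⟩

private theorem dvd_of_notMem {t : ℕ} (ht : t.Prime) (T : Subgroup G) [T.Normal] (hT : IsPGroup t T)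
    {g : G} (hg : g ∉ centralizer (T : Set G)) : t ∣ cl g := by
  haveI := Fact.mk ht
  obtain ⟨k, hk⟩ := hT.exists_card_eq
  have h1 : (centralizer ({g} : Set G)).relIndex T ∣ Nat.card T := by
    rw [← relIndex_bot_left T]
    exact relIndex_dvd_of_le_left T bot_le
  rw [hk] at h1
  obtain ⟨i, -, hi⟩ := (Nat.dvd_prime_pow ht).1 h1
  rcases Nat.eq_zero_or_pos i with h0 | h0
  · exfalso
    rw [h0, pow_zero, relIndex_eq_one] at hi
    exact hg (mem_centralizer_iff.2 fun z hz =>
      (mem_centralizer_singleton_iff.1 (hi hz)))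
  · exact (dvd_pow_self t h0.ne').trans (hi ▸ relIndex_dvd_cl T g)

private theorem phi_adj {t s : ℕ} (ht : t.Prime) (hs : s.Prime) (hne : t ≠ s)
    (h1 : Phi G t) (h2 : Phi G s) : Adj G t s := by
  obtain ⟨T, hT, hTp, hTc⟩ := h1
  obtain ⟨S, hS, hSp, hSc⟩ := h2
  haveI := hT
  haveI := hS
  obtain ⟨g, hgT, hgS⟩ := exists_notMem_two (H := centralizer (T : Set G))
    (K := centralizer (S : Set G))
    (fun h => hTc (centralizer_eq_top_iff_subset.1 h))
    (fun h => hSc (centralizer_eq_top_iff_subset.1 h))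
  exact adj_of ht hs hne (dvd_of_notMem ht T hTp hgT) (dvd_of_notMem hs S hSp hgS)

private theorem comm_closure {y a : G} (hco : (cl y).Coprime (cl a))
    (hle : cl (y * a) ≤ cl y) : IsMulCommutative (normalClosure ({a} : Set G)) := by
  obtain ⟨N, hN, hNc, hNa⟩ := exists_stabilizer y a hco hle
  haveI := hN
  have hNC : N ≤ centralizer ({a} : Set G) := by
    rw [← relIndex_eq_one]
    have h1 : (centralizer ({a} : Set G)).relIndex N ∣ Nat.card N := by
      rw [← relIndex_bot_left N]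
      exact relIndex_dvd_of_le_left N bot_le
    exact Nat.eq_one_of_dvd_coprimes hco (h1.trans hNc) (relIndex_dvd_cl N a)
  have h2 : ∀ g : G, Commute (g * a * g⁻¹) a := fun g => by
    have h := mem_centralizer_singleton_iff.1 (hNC (hNa g))
    unfold Commute SemiconjBy
    calc g * a * g⁻¹ * a = (g * a * g⁻¹ * a⁻¹) * a * a := by group
      _ = a * (g * a * g⁻¹ * a⁻¹) * a := by rw [h]
      _ = a * (g * a * g⁻¹) := by group
  refine (Subgroup.isMulCommutative_closure fun u hu v hv => ?_)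
  obtain ⟨a', ha', hc⟩ := Group.mem_conjugatesOfSet_iff.1 hu
  rw [Set.mem_singleton_iff] at ha'
  subst ha'
  obtain ⟨g, rfl⟩ := isConj_iff.1 hc
  obtain ⟨a'', ha'', hc'⟩ := Group.mem_conjugatesOfSet_iff.1 hv
  rw [Set.mem_singleton_iff] at ha''
  subst ha''
  obtain ⟨h, rfl⟩ := isConj_iff.1 hc'
  have h3 := (h2 (h⁻¹ * g)).map (MulAut.conj h).toMonoidHom
  simpa [mul_assoc, Commute, SemiconjBy] using h3

private theorem central_of_comm {t : ℕ} (hPhi : ¬ Phi G t) {w z : G}
    (hT : IsMulCommutative (normalClosure ({w} : Set G))) (hz : z ∈ normalClosure ({w} : Set G))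
    {e : ℕ} (he : z ^ t ^ e = 1) : z ∈ center G := by
  have hc : ∀ u ∈ normalClosure ({w} : Set G), ∀ v ∈ normalClosure ({w} : Set G), Commute u v :=
    fun u hu v hv => congrArg Subtype.val (hT.1.comm (⟨u, hu⟩ : normalClosure ({w} : Set G)) ⟨v, hv⟩)
  let W : Subgroup G :=
    { carrier := {u | u ∈ normalClosure ({w} : Set G) ∧ u ^ t ^ e = 1}
      one_mem' := ⟨one_mem _, one_pow _⟩
      mul_mem' := fun {u v} hu hv => ⟨mul_mem hu.1 hv.1, by
        rw [(hc u hu.1 v hv.1).mul_pow, hu.2, hv.2, one_mul]⟩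
      inv_mem' := fun {u} hu => ⟨inv_mem hu.1, by rw [inv_pow, hu.2, inv_one]⟩ }
  have hWn : W.Normal := ⟨fun u hu g =>
    ⟨normalClosure_normal.conj_mem u hu.1 g, by rw [conj_pow, hu.2, mul_one, mul_inv_cancel]⟩⟩
  have hWp : IsPGroup t W := fun u => ⟨e, Subtype.ext (by simpa using u.2.2)⟩
  by_contra hzc
  exact hPhi ⟨W, hWn, hWp, fun h => hzc (h ⟨hz, he⟩)⟩

private theorem phi_of {p : ℕ} (hp : Vert G p)
    (hcomm : ∀ a : G, p ∣ cl a → IsMulCommutative (normalClosure ({a} : Set G)))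
    {t : ℕ} (ht : Vert G t) (htp : t ≠ p) (hadj : ¬ Adj G p t) : Phi G t := by
  classical
  by_contra hPhi
  haveI := Fact.mk ht.1
  obtain ⟨hpp, a, ha⟩ := hp
  obtain ⟨e, m, hem, hmt⟩ : ∃ e m : ℕ, t ^ e * m = orderOf a ∧ t.Coprime m :=
    ⟨(orderOf a).factorization t, orderOf a / t ^ (orderOf a).factorization t,
      Nat.ordProj_mul_ordCompl_eq_self _ _, Nat.coprime_ordCompl ht.1 (orderOf_pos a).ne'⟩
  have hcop : m.Coprime (t ^ e) := hmt.symm.pow_right _
  have hself : ∀ w : G, ∀ k : ℕ, w ^ k ∈ normalClosure ({w} : Set G) := fun w k =>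
    pow_mem (subset_normalClosure (Set.mem_singleton w)) k
  have hcent : a ^ m ∈ center G := central_of_comm hPhi (hcomm a ha) (hself a m) (e := e)
    ((pow_mul a m (t ^ e)).symm.trans (by rw [Nat.mul_comm, hem, pow_orderOf_eq_one]))
  obtain ⟨a2, ha2⟩ : ∃ a2, a2 = a ^ t ^ e := ⟨_, rfl⟩
  have hle : centralizer ({a2} : Set G) ≤ centralizer ({a} : Set G) := by
    intro c hc
    rw [mem_centralizer_singleton_iff] at hc ⊢
    have h1 : Commute c (a ^ m) := mem_center_iff.1 hcent c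
    have h2 : Commute c a2 := hc
    have hbez := Nat.gcd_eq_gcd_ab m (t ^ e)
    rw [hcop] at hbez
    have : a = (a ^ m) ^ (Nat.gcdA m (t ^ e)) * a2 ^ (Nat.gcdB m (t ^ e)) := by
      rw [ha2, ← zpow_natCast a m, ← zpow_natCast a (t ^ e), ← zpow_mul, ← zpow_mul, ← zpow_add,
        ← hbez, Nat.cast_one, zpow_one]
    rw [this]
    exact ((h1.zpow_right _).mul_right (h2.zpow_right _)).eq
  have hpa2 : p ∣ cl a2 := ha.trans (index_dvd_of_le hle)
  have hta2 : ¬ t ∣ cl a2 := fun h => hadj (adj_of hpp ht.1 htp.symm hpa2 h)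
  have ha2m : a2 ^ m = 1 := by rw [ha2, ← pow_mul, hem, pow_orderOf_eq_one]
  obtain ⟨R⟩ := (inferInstance : Nonempty (Sylow t G))
  obtain ⟨g, hg⟩ := ht.2
  refine R.not_dvd_index' (by exact index_ne_zero_of_finite) (hg.trans (index_dvd_of_le ?_))
  intro u hu
  obtain ⟨j, hj⟩ := R.isPGroup' ⟨u, hu⟩
  have hj' : u ^ t ^ j = 1 := by simpa using congrArg Subtype.val hj
  obtain ⟨c, hc⟩ := mem_conj_of_not_dvd (p := t) (centralizer ({a2} : Set G)) hta2 hj'
  set v := c * u * c⁻¹ with hv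
  have hvj : v ^ t ^ j = 1 := by rw [hv, conj_pow, hj', mul_one, mul_inv_cancel]
  have hva : Commute v a2 := mem_centralizer_singleton_iff.1 hc
  have hcopj : m.Coprime (t ^ j) := hmt.symm.pow_right _
  have horder : (orderOf v).Coprime (orderOf a2) :=
    Nat.Coprime.coprime_dvd_left (orderOf_dvd_iff_pow_eq_one.2 hvj)
      (Nat.Coprime.coprime_dvd_right (orderOf_dvd_iff_pow_eq_one.2 ha2m) hcopj.symm)
  have hpw : p ∣ cl (v * a2) := hpa2.trans (index_dvd_of_le
    ((Cfsg.Agent.FGB.centralizer_mul_of_coprime hva horder).le.trans inf_le_right))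
  have hvm : v ^ m ∈ center G := by
    refine central_of_comm hPhi (hcomm _ hpw) ?_ (e := j) ?_
    · have := hself (v * a2) m
      rwa [hva.mul_pow, ha2m, mul_one] at this
    · rw [← pow_mul, Nat.mul_comm, pow_mul, hvj, one_pow]
  have hvc : v ∈ center G := by
    have hbez := Nat.gcd_eq_gcd_ab m (t ^ j)
    rw [hcopj] at hbez
    have : v = (v ^ m) ^ (Nat.gcdA m (t ^ j)) * (v ^ t ^ j) ^ (Nat.gcdB m (t ^ j)) := by
      rw [← zpow_natCast v m, ← zpow_natCast v (t ^ j), ← zpow_mul, ← zpow_mul, ← zpow_add,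
        ← hbez, Nat.cast_one, zpow_one]
    rw [this, hvj, one_zpow, mul_one]
    exact zpow_mem hvm _
  have h2 := (inferInstance : (center G).Normal).conj_mem _ hvc c⁻¹
  refine center_le_centralizer _ ?_
  simpa [hv, mul_assoc] using h2

private structure Far (G : Type u) [Group G] (p q : ℕ) : Prop where
  one : ¬ Adj G p q
  two : ∀ r : ℕ, r.Prime → r ≠ p → r ≠ q → Adj G p r → Adj G r q → False
  three : ∀ r s : ℕ, r.Prime → s.Prime → r ≠ p → s ≠ q → r ≠ s → r ≠ q → s ≠ p →
    Adj G p r → Adj G r s → Adj G s q → False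

private theorem Far.symm {p q : ℕ} (h : Far G p q) : Far G q p :=
  ⟨fun a => h.one a.symm, fun r hr h1 h2 a b => h.two r hr h2 h1 b.symm a.symm,
   fun r s hr hs h1 h2 h3 h4 h5 a b c =>
     h.three s r hs hr h2 h1 h3.symm h5 h4 c.symm b.symm a.symm⟩

private theorem Far.coprime {p q : ℕ} (h : Far G p q) (hp : p.Prime) (hq : q.Prime) (hpq : p ≠ q)
    {a y : G} (ha : p ∣ cl a) (hy : q ∣ cl y) : (cl a).Coprime (cl y) := by
  refine Nat.coprime_of_dvd fun r hr h1 h2 => ?_
  by_cases hrp : r = p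
  · subst hrp
    exact h.one (adj_of hr hq hpq h2 hy)
  by_cases hrq : r = q
  · subst hrq
    exact h.one (adj_of hp hr hpq ha h1)
  exact h.two r hr hrp hrq (adj_of hp hr (Ne.symm hrp) ha h1) (adj_of hr hq hrq h2 hy)

private theorem cl_mul_dvd {a y : G} (hco : (cl y).Coprime (cl a)) :
    cl (y * a) ∣ cl y * cl a := by
  have h1 : cl (y * a) ∣ (centralizer ({y} : Set G) ⊓ centralizer ({a} : Set G)).index :=
    index_dvd_of_le fun c hc => by
      obtain ⟨h1, h2⟩ := mem_inf.1 hc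
      rw [mem_centralizer_singleton_iff] at h1 h2 ⊢
      exact (Commute.mul_right (h1 : Commute c y) (h2 : Commute c a)).eq
  have h3 : cl y * cl a ∣ (centralizer ({y} : Set G) ⊓ centralizer ({a} : Set G)).index :=
    hco.mul_dvd_of_dvd_of_dvd (index_dvd_of_le inf_le_left) (index_dvd_of_le inf_le_right)
  have h4 : (centralizer ({y} : Set G) ⊓ centralizer ({a} : Set G)).index = cl y * cl a :=
    le_antisymm (index_inf_le) (Nat.le_of_dvd (Nat.pos_of_ne_zero index_ne_zero_of_finite) h3)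
  rwa [h4] at h1

private theorem side {p q : ℕ} (hF : Far G p q) (hp : Vert G p) (hq : Vert G q) (hpq : p ≠ q)
    (hconn : ∀ S : Set ℕ, p ∈ S → q ∉ S →
      ∃ a b : ℕ, Vert G a ∧ Vert G b ∧ a ∈ S ∧ b ∉ S ∧ Adj G a b)
    {y : G} (hy : q ∣ cl y) (hsmall : ∀ a : G, p ∣ cl a → cl a < cl y) : False := by
  have hcomm : ∀ a : G, p ∣ cl a → IsMulCommutative (normalClosure ({a} : Set G)) := by
    intro a ha
    have hco : (cl y).Coprime (cl a) := (hF.coprime hp.1 hq.1 hpq ha hy).symm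
    refine comm_closure hco ?_
    have hE := cl_mul_dvd hco
    by_cases h1 : (cl (y * a)).Coprime (cl a)
    · exact Nat.le_of_dvd (Nat.pos_of_ne_zero index_ne_zero_of_finite) (h1.dvd_of_dvd_mul_right hE)
    by_cases h2 : (cl (y * a)).Coprime (cl y)
    · exact (Nat.le_of_dvd (Nat.pos_of_ne_zero index_ne_zero_of_finite)
        (h2.dvd_of_dvd_mul_left hE)).trans (hsmall a ha).le
    exfalso
    obtain ⟨s, hs, hsE, hsa⟩ := Nat.Prime.not_coprime_iff_dvd.1 h1
    obtain ⟨t, ht, htE, hty⟩ := Nat.Prime.not_coprime_iff_dvd.1 h2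
    have hst : s ≠ t := fun e => by
      subst e
      exact hs.ne_one (Nat.eq_one_of_dvd_coprimes hco hty hsa)
    have hsp : s ≠ p := fun e => by
      subst e
      exact ht.ne_one (Nat.eq_one_of_dvd_coprimes (hF.coprime hp.1 hq.1 hpq hsE hy) htE hty)
    have htq : t ≠ q := fun e => by
      subst e
      exact hs.ne_one (Nat.eq_one_of_dvd_coprimes (hF.coprime hp.1 hq.1 hpq ha htE) hsa hsE)
    have hsq : s ≠ q := fun e => by
      subst e
      exact hF.one (adj_of hp.1 hs hpq ha hsa)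
    have htp' : t ≠ p := fun e => by
      subst e
      exact hF.one (adj_of ht hq.1 hpq hty hy)
    exact hF.three s t hs ht hsp htq hst hsq htp' (adj_of hp.1 hs hsp.symm ha hsa)
      (adj_of hs ht hst hsE htE) (adj_of ht hq.1 htq hty hy)
  obtain ⟨a, b, hVa, hVb, haS, hbS, hab⟩ := hconn {r | r = p ∨ Adj G p r} (Or.inl rfl)
    (fun h => h.elim (fun e => hpq e.symm) hF.one)
  have hbp : b ≠ p := fun e => hbS (Or.inl e)
  have hpb : ¬ Adj G p b := fun e => hbS (Or.inr e)
  have hap : a ≠ p := fun e => by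
    subst e
    exact hpb hab
  have hpa : Adj G p a := haS.resolve_left hap
  have haq : a ≠ q := fun e => by
    subst e
    exact hF.one hpa
  have hab' : a ≠ b := fun e => by
    subst e
    exact hbS haS
  by_cases hbq : b = q
  · subst hbq
    exact hF.two a hVa.1 hap haq hpa hab
  · exact hF.three a b hVa.1 hVb.1 hap hbq hab' haq hbp hpa hab
      (phi_adj hVb.1 hq.1 hbq (phi_of hp hcomm hVb hbp hpb)
        (phi_of hp hcomm hq hpq.symm hF.one))


/-- Let G be a finite group. Call a prime a vertex if it divides some conjugacy class size of G, and two distinct vertices adjacent if their product divides some class size. If this graph is connected, then its diameter is at most 3: any two distinct vertices p and q are adjacent, or joined through one or two intermediate vertices. -/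
theorem result {G : Type*} [Group G] [Finite G]
    (hconn : ∀ S : Set ℕ, (∃ p ∈ S, (p.Prime ∧ ∃ g : G, p ∣ (Subgroup.centralizer ({g} : Set G)).index)) → (∃ q ∉ S, (q.Prime ∧ ∃ g : G, q ∣ (Subgroup.centralizer ({g} : Set G)).index)) →
      ∃ p q : ℕ, (p.Prime ∧ ∃ g : G, p ∣ (Subgroup.centralizer ({g} : Set G)).index) ∧ (q.Prime ∧ ∃ g : G, q ∣ (Subgroup.centralizer ({g} : Set G)).index) ∧ p ∈ S ∧ q ∉ S ∧ (∃ g : G, p * q ∣ (Subgroup.centralizer ({g} : Set G)).index))
    (p q : ℕ) (hp : (p.Prime ∧ ∃ g : G, p ∣ (Subgroup.centralizer ({g} : Set G)).index)) (hq : (q.Prime ∧ ∃ g : G, q ∣ (Subgroup.centralizer ({g} : Set G)).index)) (hpq : p ≠ q) :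
    (∃ g : G, p * q ∣ (Subgroup.centralizer ({g} : Set G)).index) ∨ (∃ r : ℕ, (r.Prime ∧ ∃ g : G, r ∣ (Subgroup.centralizer ({g} : Set G)).index) ∧ r ≠ p ∧ r ≠ q ∧ (∃ g : G, p * r ∣ (Subgroup.centralizer ({g} : Set G)).index) ∧ (∃ g : G, r * q ∣ (Subgroup.centralizer ({g} : Set G)).index)) ∨
      (∃ r s : ℕ, (r.Prime ∧ ∃ g : G, r ∣ (Subgroup.centralizer ({g} : Set G)).index) ∧ (s.Prime ∧ ∃ g : G, s ∣ (Subgroup.centralizer ({g} : Set G)).index) ∧ r ≠ p ∧ s ≠ q ∧ r ≠ s ∧ r ≠ q ∧ s ≠ p ∧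
        (∃ g : G, p * r ∣ (Subgroup.centralizer ({g} : Set G)).index) ∧ (∃ g : G, r * s ∣ (Subgroup.centralizer ({g} : Set G)).index) ∧ (∃ g : G, s * q ∣ (Subgroup.centralizer ({g} : Set G)).index)) := by
  by_contra hcon
  have hp' : Vert G p := hp
  have hq' : Vert G q := hq
  have vert_of : ∀ r : ℕ, r.Prime → ∀ s : ℕ, Adj G r s → Vert G r := fun r hr s ⟨g, hg⟩ =>
    ⟨hr, g, (dvd_mul_right r s).trans hg⟩
  have hF : Far G p q := by
    refine ⟨fun h => hcon (Or.inl h), fun r hr h1 h2 a b => ?_,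
      fun r s hr hs h1 h2 h3 h4 h5 a b c => ?_⟩
    · exact hcon (Or.inr (Or.inl ⟨r, vert_of r hr q b, h1, h2, a, b⟩))
    · exact hcon (Or.inr (Or.inr ⟨r, s, vert_of r hr s b, vert_of s hs q c, h1, h2, h3, h4, h5,
        a, b, c⟩))
  have hmax : ∀ r : ℕ, Vert G r → ∃ y : G, r ∣ cl y ∧ ∀ a : G, r ∣ cl a → cl a ≤ cl y := by
    rintro r ⟨-, g, hg⟩
    obtain ⟨y, hy, hymax⟩ := Set.exists_max_image {a : G | r ∣ cl a} cl (Set.toFinite _) ⟨g, hg⟩
    exact ⟨y, hy, hymax⟩
  obtain ⟨a, ha, hamax⟩ := hmax p hp'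
  obtain ⟨y, hy, hymax⟩ := hmax q hq'
  rcases lt_trichotomy (cl a) (cl y) with hlt | heq | hgt
  · exact side hF hp' hq' hpq
      (fun S h1 h2 => hconn S ⟨p, h1, hp⟩ ⟨q, h2, hq⟩)
      hy fun b hb => (hamax b hb).trans_lt hlt
  · have hco := hF.coprime hp.1 hq.1 hpq ha hy
    rw [heq, Nat.coprime_self] at hco
    rw [hco, Nat.dvd_one] at hy
    exact hq.1.ne_one hy
  · exact side hF.symm hq' hp' hpq.symm
      (fun S h1 h2 => hconn S ⟨q, h1, hq⟩ ⟨p, h2, hp⟩)
      ha fun b hb => (hymax b hb).trans_lt hgt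

end Cfsg.Agent.S4257
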