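import Cfsg.Statements.S4260
-- import your own Cfsg.Agent.* helpers here

set_option autoImplicit false
open Cfsg
open scoped Pointwise commutatorElement
set_option linter.all false

namespace Cfsg.Agent.S4260

/-- Let H be a Hall subgroup of a finite group G (the order of H is coprime to its index) such that x^[G : H] lies in H for every x in G. Then H is normal in G. -/
theorem result {G : Type*} [Group G] [Finite G] (H : Subgroup G) (hHall : (Nat.card H).Coprime H.index)
    (hexp : ∀ x : G, x ^ H.index ∈ H) : H.Normal := by
  have key : ∀ x : G, orderOf x ∣ Nat.card H → x ∈ H := by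
    intro x hx
    obtain ⟨m, hm⟩ := exists_pow_eq_self_of_coprime (hHall.symm.coprime_dvd_right hx)
    rw [← hm]
    exact pow_mem (hexp x) m
  refine ⟨fun n hn g => key _ ?_⟩
  rw [← MulAut.conj_apply, MulEquiv.orderOf_eq (MulAut.conj g) n]
  exact Subgroup.orderOf_dvd_natCard _ hn

end Cfsg.Agent.S4260
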