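import Cfsg.Statements.S4261
-- import your own Cfsg.Agent.* helpers here

set_option autoImplicit false
open Cfsg
open scoped Pointwise commutatorElement
set_option linter.all false

namespace Cfsg.Agent.S4261

universe u

lemma step {G : Type u} [Group G] [Finite G]
    (ih : ∀ (Q : Type u) [Group Q] [Finite Q], Nat.card Q < Nat.card G → Group.IsSolvable Q →
      ∀ M : Subgroup Q, IsCoatom M → (∀ x : Q, x ^ M.index ∈ M) → M.Normal)
    (hG : Group.IsSolvable G) (M : Subgroup G) (hM : IsCoatom M) (hexp : ∀ x : G, x ^ M.index ∈ M)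
    (N : Subgroup G) [N.Normal] (hN : N ≠ ⊥) (hNM : N ≤ M) : M.Normal := by
  set f := QuotientGroup.mk' N with hf
  have hs : Function.Surjective f := QuotientGroup.mk'_surjective N
  have hker : f.ker ≤ M := by rwa [hf, QuotientGroup.ker_mk']
  have hcm : (M.map f).comap f = M := Subgroup.comap_map_eq_self hker
  have hidx : (M.map f).index = M.index := Subgroup.index_map_eq M hs hker
  have hlt : Nat.card (G ⧸ N) < Nat.card G := by
    rw [← N.card_mul_index]
    refine lt_mul_left (Nat.pos_of_ne_zero Subgroup.index_ne_zero_of_finite) ?_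
    exact Finite.one_lt_card_iff_nontrivial.mpr (Subgroup.nontrivial_iff_ne_bot N |>.mpr hN)
  have := ih (G ⧸ N) hlt inferInstance (M.map f) ⟨fun h => hM.1 (by rw [← hcm, h, Subgroup.comap_top]), fun b hb => ?_⟩ fun y => ?_
  · rw [← hcm]; exact this.comap f
  · have : M < b.comap f := by
      rw [← hcm]
      exact (Subgroup.comap_lt_comap_of_surjective hs).mpr hb
    rw [← Subgroup.map_comap_eq_self_of_surjective hs b, hM.2 _ this, Subgroup.map_top_of_surjective f hs]
  · obtain ⟨x, rfl⟩ := hs y
    rw [hidx, ← map_pow]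
    exact Subgroup.mem_map_of_mem f (hexp x)

lemma exists_normal_pgroup {G : Type u} [Group G] [Finite G] [Nontrivial G] (hG : Group.IsSolvable G) :
    ∃ (p : ℕ) (_ : p.Prime) (N : Subgroup G), N.Normal ∧ N ≠ ⊥ ∧ IsPGroup p N := by
  classical
  have hex : ∃ n, derivedSeries G n = ⊥ := hG.solvable
  obtain ⟨n, hn, hmin⟩ : ∃ n, derivedSeries G (n + 1) = ⊥ ∧ derivedSeries G n ≠ ⊥ := by
    have h0 : Nat.find hex ≠ 0 := by
      intro h0
      have := Nat.find_spec hex
      rw [h0, derivedSeries_zero] at this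
      exact top_ne_bot this
    refine ⟨Nat.find hex - 1, ?_, Nat.find_min hex (by omega)⟩
    rw [Nat.sub_add_cancel (by omega)]; exact Nat.find_spec hex
  set A := derivedSeries G n with hA
  have hc : IsMulCommutative A := by
    rw [← Subgroup.commutator_self_eq_bot_iff, ← hn, derivedSeries_succ]
  obtain ⟨p, hp, hpd⟩ := Nat.exists_prime_and_dvd (n := Nat.card A)
    (fun h => hmin (A.eq_bot_of_card_eq h))
  haveI := Fact.mk hp
  obtain ⟨P⟩ : Nonempty (Sylow p A) := inferInstance
  haveI : (P : Subgroup A).Normal := ⟨fun a ha g => by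
    rw [hc.is_comm.comm g a, mul_assoc, mul_inv_cancel, mul_one]; exact ha⟩
  haveI : (P : Subgroup A).Characteristic := P.characteristic_of_normal inferInstance
  haveI : A.Normal := derivedSeries_normal G n
  refine ⟨p, hp, (P : Subgroup A).map A.subtype, inferInstance, ?_, P.isPGroup'.map _⟩
  rw [Ne, Subgroup.map_eq_bot_iff_of_injective _ A.subtype_injective]
  exact P.ne_bot_of_dvd_card hpd

theorem normal_of_pow : ∀ (n : ℕ) (G : Type u) [Group G] [Finite G], Nat.card G = n → Group.IsSolvable G →
    ∀ M : Subgroup G, IsCoatom M → (∀ x : G, x ^ M.index ∈ M) → M.Normal := by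
  intro n
  induction n using Nat.strong_induction_on with
  | _ n IH =>
  intro G _ _ hcard hG M hM hexp
  have ih : ∀ (Q : Type u) [Group Q] [Finite Q], Nat.card Q < Nat.card G → Group.IsSolvable Q →
      ∀ M : Subgroup Q, IsCoatom M → (∀ x : Q, x ^ M.index ∈ M) → M.Normal :=
    fun Q _ _ h => IH _ (hcard ▸ h) Q rfl
  haveI : Nontrivial G := by
    by_contra h
    rw [not_nontrivial_iff_subsingleton] at h
    exact hM.1 (Subsingleton.elim _ _)
  obtain ⟨p, hp, N, hN, hN0, hNp⟩ := exists_normal_pgroup hG
  haveI := Fact.mk hp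
  haveI := hN
  by_cases hNM : N ≤ M
  · exact step ih hG M hM hexp N hN0 hNM
  have htop : N ⊔ M = ⊤ := hM.2 _ (lt_of_le_of_ne le_sup_right (fun h => hNM (h ▸ le_sup_left)))
  obtain ⟨k, hk⟩ : ∃ k, M.index = p ^ k := by
    have h1 : M.index = M.relIndex N := by
      have hi := Subgroup.card_mul_index M
      have h2 := Subgroup.relIndex_sup_right (H := M) (K := N)
      rw [sup_comm, htop, Subgroup.relIndex_top_right] at h2
      have h3 := Subgroup.card_mul_index N
      have h4 := Subgroup.card_mul_index ((M ⊓ N).subgroupOf N)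
      have h5 := Subgroup.card_mul_index ((M ⊓ N).subgroupOf M)
      rw [Nat.card_congr (Subgroup.subgroupOfEquivOfLe (inf_le_right : M ⊓ N ≤ N)).toEquiv,
        ← Subgroup.relIndex, Subgroup.inf_relIndex_right] at h4
      rw [Nat.card_congr (Subgroup.subgroupOfEquivOfLe (inf_le_left : M ⊓ N ≤ M)).toEquiv,
        ← Subgroup.relIndex, Subgroup.inf_relIndex_left] at h5
      rw [h2, ← hi, ← h4, ← h5] at h3
      have hpos : 0 < Nat.card (M ⊓ N : Subgroup G) * N.relIndex M := h5 ▸ Nat.card_pos
      refine Nat.eq_of_mul_eq_mul_left hpos ?_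
      linarith
    rw [h1]
    exact hNp.index (M.subgroupOf N)
  set K := Subgroup.closure {x : G | ¬ p ∣ orderOf x} with hK
  haveI : K.Normal := ⟨fun a ha g => by
    induction ha using Subgroup.closure_induction with
    | mem y hy =>
      refine Subgroup.subset_closure ?_
      show ¬ p ∣ orderOf (g * y * g⁻¹)
      rw [← MulAut.conj_apply, MulEquiv.orderOf_eq (MulAut.conj g) y]
      exact hy
    | one => simp
    | mul a b _ _ ha hb => rw [show g * (a * b) * g⁻¹ = (g * a * g⁻¹) * (g * b * g⁻¹) by group]; exact mul_mem ha hb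
    | inv a _ ha => rw [show g * a⁻¹ * g⁻¹ = (g * a * g⁻¹)⁻¹ by group]; exact inv_mem ha⟩
  have hKM : K ≤ M := by
    rw [hK, Subgroup.closure_le]
    intro x hx
    have hc : Nat.Coprime M.index (orderOf x) := hk ▸ ((Nat.Prime.coprime_iff_not_dvd hp).mpr hx).pow_left k
    obtain ⟨m, hm⟩ := exists_pow_eq_self_of_coprime hc
    rw [← hm]
    exact pow_mem (hexp x) m
  by_cases hK0 : K = ⊥
  · have hpg : IsPGroup p G := by
      rw [IsPGroup.iff_card]
      refine ⟨_, Nat.eq_prime_pow_of_unique_prime_dvd Nat.card_pos.ne' (fun {d} hd hdd => ?_)⟩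
      by_contra hne
      haveI := Fact.mk hd
      obtain ⟨x, hx⟩ := exists_prime_orderOf_dvd_card' d hdd
      have hmem : x ∈ K := Subgroup.subset_closure (show ¬ p ∣ orderOf x by
        rw [hx]; exact fun h => hne ((Nat.prime_dvd_prime_iff_eq hp hd).mp h).symm)
      rw [hK0, Subgroup.mem_bot] at hmem
      rw [hmem, orderOf_one] at hx
      exact hd.one_lt.ne hx
    haveI := hpg.isNilpotent
    exact Subgroup.NormalizerCondition.normal_of_coatom M Group.normalizerCondition_of_isNilpotent hM
  · exact step ih hG M hM hexp K hK0 hKM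


/-- Let M be a maximal subgroup of a finite solvable group G such that x^[G : M] lies in M for every x in G. Then M is normal in G. -/
theorem result {G : Type*} [Group G] [Finite G] (hG : Group.IsSolvable G) (M : Subgroup G) (hM : IsCoatom M)
    (hexp : ∀ x : G, x ^ M.index ∈ M) : M.Normal := by
  exact normal_of_pow _ G rfl hG M hM hexp

end Cfsg.Agent.S4261
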