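import Cfsg.Statements.S4262
import Mathlib
import Cfsg.Agent.Lib.FGS.NilpotentMaximal

set_option autoImplicit false
open Cfsg
open scoped Pointwise
set_option linter.all false

namespace Cfsg.Agent.S4262

open Subgroup in
lemma centralizer_mono {G : Type*} [Group G] {x z : G} (h : x ∈ zpowers z) :
    centralizer ({z} : Set G) ≤ centralizer ({x} : Set G) := by
  intro g hg
  rw [mem_centralizer_singleton_iff] at hg ⊢
  obtain ⟨i, rfl⟩ := mem_zpowers_iff.1 h
  exact (show Commute g z from hg).zpow_right i


/-- Let G be a finite group in which the centralizer of every non-central element is a maximal subgroup of G. Then G is solvable. -/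
theorem result {G : Type*} [Group G] [Finite G]
    (h : ∀ g : G, g ∉ Subgroup.center G → IsCoatom (Subgroup.centralizer ({g} : Set G))) :
    Group.IsSolvable G := by
  by_cases hA : ∃ q : ℕ, q.Prime ∧ q ≠ 2 ∧ ∃ x : G, x ∉ Subgroup.center G ∧ ∃ k, orderOf x ∣ q ^ k
  · obtain ⟨q, hq, hq2, x, hx, k, hk⟩ := hA
    haveI := Fact.mk hq
    set M := Subgroup.centralizer ({x} : Set G) with hMdef
    have hM : IsCoatom M := h x hx
    have key : ∀ y ∈ M, (orderOf y).Coprime q → ∀ m ∈ M, Commute y m := by
      intro y hy hyq m hm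
      by_cases hyc : y ∈ Subgroup.center G
      · exact (Subgroup.mem_center_iff.1 hyc m).symm
      have hxy : Commute x y := (Subgroup.mem_centralizer_singleton_iff.1 hy).symm
      have hcop : (orderOf x).Coprime (orderOf y) :=
        Nat.Coprime.coprime_dvd_left hk (hyq.symm.pow_left k)
      have hxz : x ∈ Subgroup.zpowers (x * y) := by
        obtain ⟨m, hm⟩ := exists_pow_eq_self_of_coprime (x := x) (n := orderOf y) hcop.symm
        have e0 : (x * y) ^ orderOf y = x ^ orderOf y := by
          rw [hxy.mul_pow, pow_orderOf_eq_one, mul_one]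
        have e1 := Subgroup.pow_mem _
          (Subgroup.pow_mem _ (Subgroup.mem_zpowers (x * y)) (orderOf y)) m
        rwa [e0, hm] at e1
      have hyz : y ∈ Subgroup.zpowers (x * y) := by
        have := Subgroup.mul_mem _ (Subgroup.inv_mem _ hxz) (Subgroup.mem_zpowers (x * y))
        rwa [inv_mul_cancel_left] at this
      have hz : x * y ∉ Subgroup.center G := fun hc =>
        hx ((Subgroup.zpowers_le.2 hc) hxz)
      have hzc := h _ hz
      have e1 : M = Subgroup.centralizer ({x * y} : Set G) :=
        ((eq_or_lt_of_le (centralizer_mono hxz)).resolve_right fun hlt =>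
          hM.1 (hzc.2 _ hlt)).symm
      have hm' := centralizer_mono hyz (e1.le hm)
      exact (Subgroup.mem_centralizer_singleton_iff.1 hm').symm
    have hnil : Group.IsNilpotent M := by
      refine Group.of_quotient_center_nilpotent ?_
      refine IsPGroup.isNilpotent (p := q) fun g => ?_
      obtain ⟨⟨g, hg⟩, rfl⟩ := QuotientGroup.mk'_surjective _ g
      obtain ⟨a, b, ha, hb, hab, ⟨j, hj⟩, hbc⟩ := Transfer.exists_pPart_mul (p := q) g
      have haM : a ∈ M := Subgroup.zpowers_le.2 hg ha
      have hbM : b ∈ M := Subgroup.zpowers_le.2 hg hb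
      refine ⟨j, ?_⟩
      have e : (⟨g, hg⟩ : M) = ⟨a, haM⟩ * ⟨b, hbM⟩ := Subtype.ext hab.symm
      have hbz : (⟨b, hbM⟩ : M) ∈ Subgroup.center M :=
        Subgroup.mem_center_iff.2 fun m => Subtype.ext (key b hbM hbc m m.2).eq.symm
      rw [e, map_mul, (QuotientGroup.eq_one_iff _).2 hbz |> fun h => show QuotientGroup.mk' _ _ = 1 from h,
        mul_one, ← map_pow]
      refine (congrArg _ ?_).trans (map_one _)
      exact Subtype.ext (orderOf_dvd_iff_pow_eq_one.1 hj)
    refine FGS.isSolvable_of_nilpotent_coatom _ G rfl M hM hnil fun a ha b hb hak _ => ?_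
    obtain ⟨i, hi⟩ := hak
    exact key a ha (Nat.Coprime.coprime_dvd_left hi
      (Nat.Coprime.pow_left i ((Nat.coprime_primes Nat.prime_two hq).2 hq2.symm))) b hb
  · push Not at hA
    haveI : Group.IsNilpotent (G ⧸ Subgroup.center G) := by
      haveI : Fact (Nat.Prime 2) := ⟨Nat.prime_two⟩
      refine IsPGroup.isNilpotent (p := 2) fun g => ?_
      refine ⟨(orderOf g).factorization 2, ?_⟩
      rw [← Nat.eq_pow_of_factorization_eq_single (orderOf_pos g).ne' (p := 2)
        (k := (orderOf g).factorization 2) ?_, pow_orderOf_eq_one]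
      refine Finsupp.ext fun r => ?_
      by_cases hr2 : r = 2
      · subst hr2; simp
      rw [Finsupp.single_eq_of_ne hr2]
      by_contra hne
      have hm := Finsupp.mem_support_iff.2 hne
      rw [Nat.support_factorization, Nat.mem_primeFactors] at hm
      haveI := Fact.mk hm.1
      obtain ⟨x, rfl⟩ := QuotientGroup.mk'_surjective _ g
      obtain ⟨a, b, ha, hb, hab, ⟨j, hj⟩, hbc⟩ := Transfer.exists_pPart_mul (p := r) x
      have haz : a ∈ Subgroup.center G := by
        by_contra hna
        exact hA r hm.1 hr2 a hna j hj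
      have : QuotientGroup.mk' (Subgroup.center G) x = QuotientGroup.mk' _ b := by
        rw [← hab, map_mul]
        simp [(QuotientGroup.eq_one_iff a).2 haz]
      rw [this] at hm
      exact hm.1.one_lt.ne' (Nat.eq_one_of_dvd_coprimes hbc (hm.2.1.trans (orderOf_map_dvd _ _)) dvd_rfl)
    haveI : Group.IsNilpotent G := Group.of_quotient_center_nilpotent inferInstance
    infer_instance

end Cfsg.Agent.S4262
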