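import Cfsg.Statements.S4263
-- import your own Cfsg.Agent.* helpers here

set_option autoImplicit false
set_option linter.style.haveILetI false
set_option linter.unusedSectionVars false
open Cfsg
open scoped Pointwise

namespace Cfsg.Agent.S4263

lemma pCore_isPGroup {G : Type*} [Group G] [Finite G] (p : ℕ) [Fact p.Prime] :
    IsPGroup p (Cfsg.pCore p G) := by
  obtain ⟨P⟩ : Nonempty (Sylow p G) := inferInstance
  refine P.isPGroup'.to_le ?_
  refine sSup_le ?_
  rintro N ⟨hN, hp⟩
  haveI := hN
  obtain ⟨Q, hQ⟩ := hp.exists_le_sylow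
  obtain ⟨g, rfl⟩ := MulAction.exists_smul_eq G Q P
  calc N = MulAut.conj g • N := (Subgroup.Normal.conjAct hN g).symm
    _ ≤ _ := Subgroup.pointwise_smul_le_pointwise_smul_iff.mpr hQ

lemma mem_pCore_of_mem_all {G : Type*} [Group G] [Finite G] (p : ℕ) [Fact p.Prime] (y : G)
    (h : ∀ P : Sylow p G, y ∈ (P : Subgroup G)) : y ∈ Cfsg.pCore p G := by
  obtain ⟨P⟩ : Nonempty (Sylow p G) := inferInstance
  have hle : (⨅ Q : Sylow p G, (Q : Subgroup G)) ≤ Cfsg.pCore p G := by
    refine le_sSup ⟨⟨fun n hn g => ?_⟩, P.isPGroup'.to_le (iInf_le _ P)⟩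
    simp only [Subgroup.mem_iInf] at hn ⊢
    intro Q
    have := hn (g⁻¹ • Q)
    rw [Sylow.coe_subgroup_smul, Subgroup.mem_pointwise_smul_iff_inv_smul_mem] at this
    simpa using this
  exact hle (by simpa [Subgroup.mem_iInf] using h)

/-- The Fitting subgroup of a finite group is nilpotent. -/
lemma fitting_isNilpotent {G : Type*} [Group G] [Finite G] :
    Group.IsNilpotent (Cfsg.fittingSubgroup G) := by
  classical
  let ι := {p : ℕ // p ∈ (Nat.card G).primeFactors}
  haveI hfact : ∀ p : ι, Fact (p : ℕ).Prime := fun p => ⟨Nat.prime_of_mem_primeFactors p.2⟩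
  let H : ι → Subgroup G := fun p => Cfsg.pCore p G
  have hN : ∀ p : ι, (H p).Normal := fun p => Subgroup.sSup_normal _ (fun _ h => h.1)
  have hdisj : ∀ p q : ι, p ≠ q → Disjoint (H p) (H q) := by
    intro p q hpq
    exact IsPGroup.disjoint_of_ne _ _ (fun h => hpq (Subtype.ext h)) _ _
      (pCore_isPGroup (p : ℕ)) (pCore_isPGroup (q : ℕ))
  have hcomm : Pairwise fun p q : ι => ∀ x y : G, x ∈ H p → y ∈ H q → Commute x y :=
    fun p q hpq x y hx hy => Subgroup.commute_of_normal_of_disjoint _ _ (hN p) (hN q) (hdisj p q hpq) x y hx hy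
  have hle : Cfsg.fittingSubgroup G ≤ ⨆ p, H p := by
    refine sSup_le ?_
    rintro N ⟨hNn, hNnil⟩
    haveI := hNn
    haveI := hNnil
    intro x hx
    obtain ⟨e⟩ := (Group.isNilpotent_of_finite_tfae (G := N)).out 0 4 rfl rfl |>.mp hNnil
    have hsyl : ∀ (p : ℕ) [Fact p.Prime] (P : Sylow p N), p ∈ (Nat.card N).primeFactors →
        (P : Subgroup N).map N.subtype ≤ ⨆ p, H p := by
      intro p _ P hp
      haveI : (P : Subgroup N).Characteristic := P.characteristic_of_normal inferInstance
      have hpG : p ∈ (Nat.card G).primeFactors :=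
        Nat.primeFactors_mono N.card_subgroup_dvd_card Nat.card_pos.ne' hp
      refine le_trans ?_ (le_iSup H ⟨p, hpG⟩)
      exact le_sSup ⟨inferInstance, P.isPGroup'.map _⟩
    have htop : (⊤ : Subgroup N) ≤ (⨆ p, H p).comap N.subtype := by
      rw [top_le_iff]
      refine Subgroup.eq_top_of_card_eq _ (Nat.dvd_antisymm (Subgroup.card_subgroup_dvd_card _) ?_)
      refine (Nat.factorization_le_iff_dvd Nat.card_pos.ne' Nat.card_pos.ne').mp ?_
      intro p
      by_cases hp : p ∈ (Nat.card N).primeFactors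
      · haveI : Fact p.Prime := ⟨Nat.prime_of_mem_primeFactors hp⟩
        obtain ⟨P⟩ : Nonempty (Sylow p N) := inferInstance
        refine (Nat.Prime.pow_dvd_iff_le_factorization Fact.out Nat.card_pos.ne').mp ?_
        rw [← P.card_eq_multiplicity]
        exact Subgroup.card_dvd_of_le (Subgroup.map_le_iff_le_comap.mp (hsyl p P hp))
      · have : (Nat.card N).factorization p = 0 := by
          simpa [← Nat.support_factorization] using hp
        simp [this]
    exact htop (Subgroup.mem_top (⟨x, hx⟩ : N))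
  have hnil : Group.IsNilpotent (↥(⨆ p, H p)) := by
    haveI : ∀ p : ι, Group.IsNilpotent (H p) := fun p => (pCore_isPGroup (p : ℕ)).isNilpotent
    haveI : Group.IsNilpotent (∀ p : ι, H p) := Group.isNilpotent_pi
    have hr := Subgroup.noncommPiCoprod_range (hcomm := hcomm)
    haveI := Group.nilpotent_of_surjective (Subgroup.noncommPiCoprod hcomm).rangeRestrict
      (Subgroup.noncommPiCoprod hcomm).rangeRestrict_surjective
    exact Group.nilpotent_of_mulEquiv (MulEquiv.subgroupCongr hr)
  haveI := hnil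
  exact Group.nilpotent_of_mulEquiv (Subgroup.subgroupOfEquivOfLe hle)

/-- In a finite nilpotent group, `x ^ [F : H] ∈ H` for every subgroup. -/
lemma pow_index_mem_of_nilpotent {F : Type*} [Group F] [Finite F] [Group.IsNilpotent F]
    (H : Subgroup F) (x : F) : x ^ H.index ∈ H := by
  induction H using WellFoundedGT.induction generalizing x with
  | _ H ih =>
    rcases eq_or_ne H ⊤ with rfl | hH
    · simp
    have hlt : H < Subgroup.normalizer (H : Set F) :=
      Group.normalizerCondition_of_isNilpotent H (lt_top_iff_ne_top.mpr hH)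
    set N := Subgroup.normalizer (H : Set F) with hN
    have hx : x ^ N.index ∈ N := ih N hlt x
    have : (⟨x ^ N.index, hx⟩ : N) ^ (H.subgroupOf N).index ∈ H.subgroupOf N := by
      haveI : (H.subgroupOf N).Normal := Subgroup.normal_in_normalizer
      exact Subgroup.pow_index_mem _ _
    rw [Subgroup.mem_subgroupOf] at this
    rw [← Subgroup.relIndex_mul_index hlt.le, mul_comm, pow_mul]
    exact this


lemma relIndex_dvd_index {G : Type*} [Group G] [Finite G] (H F : Subgroup G) [F.Normal] :
    H.relIndex F ∣ H.index := by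
  refine Dvd.dvd.trans (dvd_of_eq (?_ : _ = H.relIndex (H ⊔ F)))
    (Dvd.intro _ (Subgroup.relIndex_mul_index (le_sup_left : H ≤ H ⊔ F)))
  have h1 := Subgroup.card_mul_index ((H ⊓ F).subgroupOf F)
  have h2 := Subgroup.card_mul_index ((H ⊓ F).subgroupOf H)
  have h3 := Subgroup.card_mul_index (H.subgroupOf (H ⊔ F))
  have h4 := Subgroup.card_mul_index (F.subgroupOf (H ⊔ F))
  rw [Nat.card_congr (Subgroup.subgroupOfEquivOfLe (inf_le_right : H ⊓ F ≤ F)).toEquiv, ← Subgroup.relIndex, Subgroup.inf_relIndex_right] at h1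
  rw [Nat.card_congr (Subgroup.subgroupOfEquivOfLe (inf_le_left : H ⊓ F ≤ H)).toEquiv, ← Subgroup.relIndex, Subgroup.inf_relIndex_left] at h2
  rw [Nat.card_congr (Subgroup.subgroupOfEquivOfLe (le_sup_left : H ≤ H ⊔ F)).toEquiv, ← Subgroup.relIndex] at h3
  rw [Nat.card_congr (Subgroup.subgroupOfEquivOfLe (le_sup_right : F ≤ H ⊔ F)).toEquiv, ← Subgroup.relIndex, Subgroup.relIndex_sup_right, ← h3, ← h1, ← h2] at h4
  have hpos : 0 < Nat.card (H ⊓ F : Subgroup G) * F.relIndex H := h2 ▸ Nat.card_pos
  refine Nat.eq_of_mul_eq_mul_left hpos ?_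
  linarith

lemma mem_fitting_of_pow_index_mem {G : Type*} [Group G] [Finite G] (x : G)
    (h : ∀ H : Subgroup G, x ^ H.index ∈ H) : x ∈ Cfsg.fittingSubgroup G := by
  induction hn : orderOf x using Nat.strong_induction_on generalizing x with
  | _ n ih =>
    subst hn
    by_cases h1 : orderOf x = 1
    · simp [orderOf_eq_one_iff.mp h1]
    obtain ⟨p, hp, hpd⟩ := Nat.exists_prime_and_dvd h1
    haveI := Fact.mk hp
    have hne : orderOf x ≠ 0 := (orderOf_pos x).ne'
    set a := p ^ (orderOf x).factorization p with ha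
    set b := orderOf x / a with hb
    have hab : a * b = orderOf x := Nat.mul_div_cancel' (Nat.ordProj_dvd _ _)
    have hcop : Nat.Coprime a b := (Nat.coprime_ordCompl hp hne).pow_left _
    by_cases hb1 : b = 1
    · have hord : orderOf x = a := by rw [← hab, hb1, mul_one]
      have hmem : x ∈ Cfsg.pCore p G := by
        refine mem_pCore_of_mem_all p x fun P => ?_
        have hc : Nat.Coprime (P : Subgroup G).index (orderOf x) := by
          rw [hord]
          exact (((Nat.Prime.coprime_iff_not_dvd hp).mpr P.not_dvd_index).pow_left _).symm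
        obtain ⟨m, hm⟩ := exists_pow_eq_self_of_coprime hc
        rw [← hm]
        exact pow_mem (h P) m
      have hle : Cfsg.pCore p G ≤ Cfsg.fittingSubgroup G :=
        le_sSup ⟨Subgroup.sSup_normal _ (fun _ h => h.1), (pCore_isPGroup p).isNilpotent⟩
      exact hle hmem
    · have hlt : ∀ k : ℕ, 1 < k → k ∣ orderOf x → x ^ k ∈ Cfsg.fittingSubgroup G := by
        intro k hk hkd
        refine ih _ ?_ (x ^ k) (fun H => ?_) rfl
        · rw [orderOf_pow_of_dvd (by omega) hkd]
          exact Nat.div_lt_self (Nat.pos_of_ne_zero hne) hk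
        · rw [← pow_mul, mul_comm, pow_mul]
          exact pow_mem (h H) k
      have ha1 : 1 < a :=
        Nat.one_lt_pow (Nat.pos_iff_ne_zero.mp (hp.factorization_pos_of_dvd hne hpd)) hp.one_lt
      have hb2 : 1 < b := by
        rcases Nat.eq_zero_or_pos b with h0 | h0
        · simp [h0] at hab; omega
        · omega
      obtain hx : x ^ (Nat.gcd a b : ℤ) ∈ Cfsg.fittingSubgroup G := by
        rw [Nat.gcd_eq_gcd_ab, zpow_add, zpow_mul, zpow_mul, zpow_natCast, zpow_natCast]
        exact mul_mem (zpow_mem (hlt a ha1 (hab ▸ Dvd.intro b rfl)) _)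
          (zpow_mem (hlt b hb2 (hab ▸ Dvd.intro_left a rfl)) _)
      simpa [hcop.gcd_eq_one] using hx

/-- Let G be a finite group. An element x lies in the Fitting subgroup F(G) if and only if, for every subgroup H of G, the power x^[G : H] lies in H. -/
theorem result {G : Type*} [Group G] [Finite G] (x : G) :
    x ∈ Cfsg.fittingSubgroup G ↔ ∀ H : Subgroup G, x ^ H.index ∈ H := by
  refine ⟨fun hx H => ?_, mem_fitting_of_pow_index_mem x⟩
  haveI : (Cfsg.fittingSubgroup G).Normal := Subgroup.sSup_normal _ (fun _ h => h.1)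
  haveI := fitting_isNilpotent (G := G)
  have h := pow_index_mem_of_nilpotent (H.subgroupOf (Cfsg.fittingSubgroup G)) ⟨x, hx⟩
  rw [Subgroup.mem_subgroupOf] at h
  have hd : H.relIndex (Cfsg.fittingSubgroup G) ∣ H.index := by
    exact relIndex_dvd_index H _
  obtain ⟨k, hk⟩ := hd
  rw [hk, pow_mul]
  exact pow_mem h k

end Cfsg.Agent.S4263
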