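import Cfsg.Statements.S4269
-- import your own Cfsg.Agent.* helpers here

set_option autoImplicit false
open Cfsg
open scoped Pointwise
set_option linter.all false

namespace Cfsg.Agent.S4269

open Subgroup
open scoped commutatorElement


/-- Let G be a finite group, V an abelian normal subgroup and H a subgroup with HV = G. Then H is pronormal in G (H and gHg⁻¹ are conjugate inside the subgroup they generate, for every g) if and only if every H-invariant subgroup U of V satisfies U = N_U(H)·[H, U], that is, U is the join of U ∩ N_G(H) and the commutator subgroup [H, U]. -/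
theorem result {G : Type*} [Group G] [Finite G]
    (V : Subgroup G) [V.Normal] (hV : IsMulCommutative ↥V) (H : Subgroup G) (hHV : H ⊔ V = ⊤) :
    Cfsg.IsPronormal H ↔
      ∀ U : Subgroup G, U ≤ V → (∀ h ∈ H, U.map (MulAut.conj h).toMonoidHom = U) →
        U = (U ⊓ Subgroup.normalizer (H : Set G)) ⊔ ⁅H, U⁆ := by
  classical
  have hc : ∀ a ∈ V, ∀ b ∈ V, a * b = b * a := fun a ha b hb =>
    congrArg Subtype.val (hV.is_comm.comm ⟨a, ha⟩ ⟨b, hb⟩)
  have hdec : ∀ g : G, ∃ v ∈ V, ∃ h ∈ H, g = v * h := by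
    intro g
    have : g ∈ V ⊔ H := by rw [sup_comm, hHV]; exact mem_top g
    obtain ⟨v, hv, h, hh, rfl⟩ := mem_sup_of_normal_left.1 this
    exact ⟨v, hv, h, hh, rfl⟩
  have hcon : ∀ h ∈ H, H.map (MulAut.conj h).toMonoidHom = H := by
    intro h hh
    ext y
    simp only [mem_map, MulEquiv.coe_toMonoidHom, MulAut.conj_apply]
    constructor
    · rintro ⟨z, hz, rfl⟩; exact mul_mem (mul_mem hh hz) (inv_mem hh)
    · exact fun hy => ⟨h⁻¹ * y * h, mul_mem (mul_mem (inv_mem hh) hy) hh, by group⟩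
  have hmapmul : ∀ a b : G, H.map (MulAut.conj (a * b)).toMonoidHom =
      (H.map (MulAut.conj b).toMonoidHom).map (MulAut.conj a).toMonoidHom := by
    intro a b
    rw [map_map]; congr 1; ext y
    simp [mul_assoc]
  have hnorm : ∀ n : G, n ∈ normalizer (H : Set G) ↔ H.map (MulAut.conj n).toMonoidHom = H := by
    intro n
    constructor
    · intro hn
      ext y
      simp only [mem_map, MulEquiv.coe_toMonoidHom, MulAut.conj_apply]
      constructor
      · rintro ⟨z, hz, rfl⟩; exact (mem_normalizer_iff.1 hn z).1 hz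
      · intro hy
        refine ⟨n⁻¹ * y * n, (mem_normalizer_iff.1 hn _).2 ?_, by group⟩
        rwa [show n * (n⁻¹ * y * n) * n⁻¹ = y by group]
    · intro hn
      refine mem_normalizer_iff.2 fun z => ⟨fun hz => ?_, fun hz => ?_⟩
      · rw [← hn]; exact ⟨z, hz, rfl⟩
      · rw [← hn] at hz
        obtain ⟨z', hz', he⟩ := hz
        have : z' = z := (MulAut.conj n).injective he
        exact this ▸ hz'
  constructor
  · intro hP U hUV hUinv
    have hhu : ∀ h ∈ H, ∀ u ∈ U, h * u * h⁻¹ ∈ U := fun h hh u hu => by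
      rw [← hUinv h hh]; exact ⟨u, hu, rfl⟩
    have hWU : ⁅H, U⁆ ≤ U := commutator_le.2 fun h hh u hu => by
      rw [commutatorElement_def]; exact mul_mem (hhu h hh u hu) (inv_mem hu)
    have hHW : ∀ h ∈ H, ∀ w ∈ ⁅H, U⁆, h * w * h⁻¹ ∈ ⁅H, U⁆ := by
      intro h hh w hw
      have hle : (⁅H, U⁆).map (MulAut.conj h).toMonoidHom ≤ ⁅H, U⁆ := by
        rw [map_commutator, hcon h hh, hUinv h hh]
      exact hle ⟨w, hw, rfl⟩
    have hHN : H ≤ normalizer (⁅H, U⁆ : Subgroup G) := fun h hh => by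
      refine mem_normalizer_iff.2 fun w => ⟨fun hw => hHW h hh w hw, fun hw => ?_⟩
      have := hHW h⁻¹ (inv_mem hh) _ hw
      rwa [show h⁻¹ * (h * w * h⁻¹) * h⁻¹⁻¹ = w by group] at this
    refine le_antisymm (fun u hu => ?_) (sup_le inf_le_left hWU)
    obtain ⟨j, hj, hje⟩ := hP u
    have hle : H ⊔ H.map (MulAut.conj u).toMonoidHom ≤ ⁅H, U⁆ ⊔ H := by
      refine sup_le le_sup_right ?_
      rintro _ ⟨h, hh, rfl⟩
      show u * h * u⁻¹ ∈ _
      rw [show u * h * u⁻¹ = ⁅h, u⁆⁻¹ * h by rw [commutatorElement_def]; group]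
      exact mul_mem (mem_sup_left (inv_mem (commutator_mem_commutator hh hu))) (mem_sup_right hh)
    obtain ⟨w, hw, h, hh, rfl⟩ : ∃ w ∈ ⁅H, U⁆, ∃ h ∈ H, w * h = j := by
      have h2 := hle hj
      rwa [← SetLike.mem_coe, coe_mul_of_right_le_normalizer_left _ _ hHN, Set.mem_mul] at h2
    rw [hmapmul w h, hcon h hh] at hje
    have hn : w⁻¹ * u ∈ normalizer (H : Set G) := by
      rw [hnorm, hmapmul, hje, ← hmapmul, inv_mul_cancel, map_one]
      exact H.map_id
    rw [show u = w * (w⁻¹ * u) by group]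
    exact mul_mem (mem_sup_right hw) (mem_sup_left (mem_inf.2 ⟨mul_mem (inv_mem (hWU hw)) hu, hn⟩))
  · intro hU g
    obtain ⟨v, hv, h₀, hh₀, rfl⟩ := hdec g
    rw [hmapmul v h₀, hcon h₀ hh₀]
    let U : Subgroup G := closure ((fun h => h * v * h⁻¹) '' (H : Set G))
    have hUV : U ≤ V := (closure_le V).2 (by
      rintro _ ⟨h, _, rfl⟩; exact Normal.conj_mem inferInstance v hv h)
    have hUle : ∀ h ∈ H, U.map (MulAut.conj h).toMonoidHom ≤ U := by
      intro h hh
      rw [MonoidHom.map_closure, closure_le]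
      rintro _ ⟨_, ⟨k, hk, rfl⟩, rfl⟩
      refine subset_closure ⟨h * k, mul_mem hh hk, ?_⟩
      simp [mul_assoc]
    have hUinv : ∀ h ∈ H, U.map (MulAut.conj h).toMonoidHom = U := fun h hh =>
      le_antisymm (hUle h hh) fun u hu =>
        ⟨h⁻¹ * u * h, by
          have := hUle h⁻¹ (inv_mem hh) ⟨u, hu, rfl⟩
          simpa [mul_assoc] using this, by simp [mul_assoc]⟩
    have hvU : v ∈ U := subset_closure ⟨1, one_mem H, by simp⟩
    set J := H ⊔ H.map (MulAut.conj v).toMonoidHom with hJ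
    have hHJ : H ≤ J := le_sup_left
    have hWJ : ⁅H, U⁆ ≤ J := by
      refine commutator_le.2 fun h hh u hu => ?_
      have hcm : ∀ h ∈ H, ∀ a ∈ V, ⁅h, a⁆ ∈ V := fun h hh a ha => by
        rw [commutatorElement_def]
        exact mul_mem (Normal.conj_mem inferInstance a ha h) (inv_mem ha)
      suffices hs : u ∈ V ∧ ∀ h ∈ H, ⁅h, u⁆ ∈ J from hs.2 h hh
      clear hh h
      induction hu using closure_induction with
      | mem u hu =>
        obtain ⟨k, hk, rfl⟩ := hu
        refine ⟨Normal.conj_mem inferInstance v hv k, fun h hh => ?_⟩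
        have h2 : ⁅k⁻¹ * h * k, v⁆ ∈ J := by
          rw [commutatorElement_def, mul_assoc (k⁻¹ * h * k), mul_assoc (k⁻¹ * h * k)]
          refine mul_mem (hHJ (mul_mem (mul_mem (inv_mem hk) hh) hk)) ?_
          exact mem_sup_right ⟨(k⁻¹ * h * k)⁻¹, inv_mem (mul_mem (mul_mem (inv_mem hk) hh) hk), by
            simp [mul_assoc]⟩
        rw [show ⁅h, k * v * k⁻¹⁆ = k * ⁅k⁻¹ * h * k, v⁆ * k⁻¹ by
          simp only [commutatorElement_def]; group]
        exact mul_mem (mul_mem (hHJ hk) h2) (inv_mem (hHJ hk))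
      | one => exact ⟨one_mem _, fun h _ => by simp⟩
      | mul a b _ _ ha hb =>
        refine ⟨mul_mem ha.1 hb.1, fun h hh => ?_⟩
        rw [show ⁅h, a * b⁆ = ⁅h, a⁆ * (a * ⁅h, b⁆ * a⁻¹) by
          simp only [commutatorElement_def]; group, hc a ha.1 _ (hcm h hh b hb.1),
          mul_inv_cancel_right]
        exact mul_mem (ha.2 h hh) (hb.2 h hh)
      | inv a _ ha =>
        refine ⟨inv_mem ha.1, fun h hh => ?_⟩
        have : ⁅h, a⁻¹⁆ = ⁅h, a⁆⁻¹ := by
          rw [show ⁅h, a⁻¹⁆ = a⁻¹ * (⁅h, a⁆⁻¹ * a) by simp only [commutatorElement_def]; group,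
            hc _ (inv_mem (hcm h hh a ha.1)) a ha.1, inv_mul_cancel_left]
        rw [this]; exact inv_mem (ha.2 h hh)
    have hvd : v ∈ ⁅H, U⁆ ⊔ U ⊓ normalizer (H : Set G) := by
      rw [sup_comm, ← hU U hUV hUinv]; exact hvU
    have hWV : ⁅H, U⁆ ≤ V := le_trans (commutator_mono le_rfl hUV) (commutator_le_right _ _)
    have hNW : U ⊓ normalizer (H : Set G) ≤ normalizer (⁅H, U⁆ : Subgroup G) := by
      intro n hn
      have hnV := hUV hn.1
      refine mem_normalizer_iff.2 fun w => ⟨fun hw => ?_, fun hw => ?_⟩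
      · rwa [hc n hnV w (hWV hw), mul_inv_cancel_right]
      · have hwV : w ∈ V := by
          have := mul_mem (mul_mem (inv_mem hnV) (hWV hw)) hnV
          simpa [mul_assoc] using this
        rwa [hc n hnV w hwV, mul_inv_cancel_right] at hw
    rw [← SetLike.mem_coe, coe_mul_of_right_le_normalizer_left _ _ hNW, Set.mem_mul] at hvd
    obtain ⟨c, hcW, n, hn, hcn⟩ := hvd
    refine ⟨c, hWJ hcW, ?_⟩
    conv_lhs => rw [← hcn, hmapmul c n, (hnorm n).1 hn.2]

end Cfsg.Agent.S4269
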