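import Cfsg.Statements.S4274
import Cfsg.Agent.Lib.FGS.Order175560

set_option autoImplicit false
open Cfsg
open scoped Pointwise
set_option linter.all false

namespace Cfsg.Agent.S4274

/-- A finite group of order 175560 = 2³·3·5·7·11·19 is either simple or has a normal Sylow 19-subgroup. -/
theorem result {G : Type*} [Group G] [Finite G] (hG : Nat.card G = 175560) : IsSimpleGroup G ∨ ∀ P : Sylow 19 G, (P : Subgroup G).Normal := by
  classical
  have : Fact (Nat.Prime 19) := ⟨by norm_num⟩
  have hg : Nat.card G ∣ 175560 := dvd_of_eq hG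
  have h19 : 19 ∣ Nat.card G := by rw [hG]; norm_num
  suffices IsSimpleGroup G ∨ Nat.card (Sylow 19 G) = 1 by
    rcases this with h | h
    · exact Or.inl h
    · have : Subsingleton (Sylow 19 G) := (Nat.card_eq_one_iff_unique.1 h).1
      exact Or.inr fun P => Sylow.normal_of_subsingleton P
  have hnt : Nontrivial G := Finite.one_lt_card_iff_nontrivial.1 (by omega)
  refine or_iff_not_imp_left.2 fun hs => ?_
  obtain ⟨N, hNn, hN0, hN1⟩ : ∃ N : Subgroup G, N.Normal ∧ N ≠ ⊥ ∧ N ≠ ⊤ := by
    by_contra h
    push Not at h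
    exact hs ⟨fun H hH => or_iff_not_imp_left.2 fun h0 => h H hH h0⟩
  exact Order175560.top_case hG N hN0 hN1

end Cfsg.Agent.S4274
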