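import Cfsg.Statements.S4275
-- import your own Cfsg.Agent.* helpers here

set_option autoImplicit false
open Cfsg
open scoped Pointwise
set_option linter.all false

namespace Cfsg.Agent.S4275

/-- Let G be a transitive group of permutations of a finite set Ω, let o ∈ Ω, and let α be an automorphism of G. Then α is induced by conjugation by a permutation of Ω normalizing G if and only if the image under α of the stabilizer of o fixes some point of Ω. -/
theorem result {Ω : Type*} [Fintype Ω] (G : Subgroup (Equiv.Perm Ω)) (htr : MulAction.IsPretransitive G Ω) (o : Ω) (α : G ≃* G) : (∃ σ : Equiv.Perm Ω, σ ∈ Subgroup.normalizer (G : Set (Equiv.Perm Ω)) ∧ ∀ g : G, ((α g : G) : Equiv.Perm Ω) = σ * (g : Equiv.Perm Ω) * σ⁻¹) ↔ ∃ ω : Ω, ∀ g ∈ (MulAction.stabilizer G o).map α.toMonoidHom, g • ω = ω := by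
  classical
  constructor
  · rintro ⟨σ, hσ, hα⟩
    refine ⟨σ o, ?_⟩
    rintro _ ⟨g, hg, rfl⟩
    show ((α g : G) : Equiv.Perm Ω) (σ o) = σ o
    rw [hα g]
    have hgo : (g : Equiv.Perm Ω) o = o := hg
    simp [hgo]
  · rintro ⟨ω, hω⟩
    set S := MulAction.stabilizer G o
    have hle : S.map α.toMonoidHom ≤ MulAction.stabilizer G ω := fun g hg => hω g hg
    have heq : S.map α.toMonoidHom = MulAction.stabilizer G ω := by
      refine Subgroup.eq_of_le_of_card_ge hle (le_of_eq ?_)
      rw [Subgroup.card_map_of_injective (show Function.Injective α.toMonoidHom from α.injective)]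
      have h1 := (MulAction.stabilizer G ω).index_mul_card
      have h2 := S.index_mul_card
      rw [MulAction.index_stabilizer_of_transitive G ω] at h1
      rw [MulAction.index_stabilizer_of_transitive G o, ← h1] at h2
      haveI : Nonempty Ω := ⟨o⟩
      exact (Nat.eq_of_mul_eq_mul_left Nat.card_pos h2).symm
    have key : ∀ g h : G, g • o = h • o ↔ (α g) • ω = (α h) • ω := by
      intro g h
      have e1 : g • o = h • o ↔ h⁻¹ * g ∈ S := by
        rw [MulAction.mem_stabilizer_iff, mul_smul, inv_smul_eq_iff]
      have e2 : α g • ω = α h • ω ↔ α (h⁻¹ * g) ∈ MulAction.stabilizer G ω := by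
        rw [MulAction.mem_stabilizer_iff, map_mul, map_inv, mul_smul, inv_smul_eq_iff]
      rw [e1, e2, ← heq, Subgroup.mem_map_equiv, MulEquiv.symm_apply_apply]
    choose t ht using fun a : Ω => htr.exists_smul_eq o a
    let f : Ω → Ω := fun a => α (t a) • ω
    have hfinj : Function.Injective f := fun a b h => by
      rw [← ht a, ← ht b]; exact (key _ _).mpr h
    let σ : Equiv.Perm Ω := Equiv.ofBijective f (Finite.injective_iff_bijective.mp hfinj)
    have hσ : ∀ (g : G) (a : Ω), σ (g • a) = α g • σ a := by
      intro g a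
      show α (t (g • a)) • ω = α g • α (t a) • ω
      rw [smul_smul, ← map_mul]
      apply (key _ _).mp
      rw [ht, mul_smul, ht]
    have hconj : ∀ g : G, ((α g : G) : Equiv.Perm Ω) = σ * (g : Equiv.Perm Ω) * σ⁻¹ := by
      intro g
      rw [eq_mul_inv_iff_mul_eq]
      ext a
      exact (hσ g a).symm
    refine ⟨σ, ?_, hconj⟩
    rw [Subgroup.mem_normalizer_iff]
    intro x
    constructor
    · intro hx
      rw [← hconj ⟨x, hx⟩]; exact (α ⟨x, hx⟩).2
    · intro hx
      have h := hconj (α.symm ⟨_, hx⟩)
      rw [MulEquiv.apply_symm_apply] at h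
      simp only [mul_left_inj, mul_right_inj] at h
      rw [h]; exact (α.symm ⟨_, hx⟩).2

end Cfsg.Agent.S4275
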