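import Cfsg.Statements.S4276
import Cfsg.Agent.Lib.FGS.TwoTransDesign
import Mathlib

set_option autoImplicit false
open Cfsg
open scoped Pointwise
set_option linter.all false

namespace Cfsg.Agent.S4276

open Cfsg.Agent.FGS MulAction

variable {Ω : Type*} [Fintype Ω] (G : Subgroup (Equiv.Perm Ω))

theorem solve (h2 : IsMultiplyPretransitive G Ω 2) (o : Ω) (α : MulAut G) (hα : Odd (orderOf α)) (ω : Ω)
    (hk : (Nat.card (MulAction.orbit ((stabilizer G o).map α.toMonoidHom) ω)).Coprime (Fintype.card Ω)) :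
    (∃ σ : Equiv.Perm Ω, σ ∈ Subgroup.normalizer (G : Set (Equiv.Perm Ω)) ∧
      ∀ g : G, ((α g : G) : Equiv.Perm Ω) = σ * (g : Equiv.Perm Ω) * σ⁻¹) ∧
    (Nat.card (MulAction.orbit ((stabilizer G o).map α.toMonoidHom) ω) = 1 ∨
      Nat.card (MulAction.orbit ((stabilizer G o).map α.toMonoidHom) ω) = Fintype.card Ω - 1) := by
  classical
  have hfin : ∀ σ : Equiv.Perm Ω, (∀ g : G, ((α g : G) : Equiv.Perm Ω) = σ * (g : Equiv.Perm Ω) * σ⁻¹) →
      σ ∈ Subgroup.normalizer (G : Set (Equiv.Perm Ω)) := fun σ hσ =>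
    Subgroup.mem_normalizer_iff.2 fun x => ⟨fun hx => hσ ⟨x, hx⟩ ▸ (α ⟨x, hx⟩).2, fun hx => by
      have h1 := hσ (α.symm ⟨_, hx⟩)
      rw [α.apply_symm_apply] at h1
      have h2 : (σ * x * σ⁻¹ : Equiv.Perm Ω) = σ * ((α.symm ⟨_, hx⟩ : G) : Equiv.Perm Ω) * σ⁻¹ := h1
      rw [mul_left_inj, mul_right_inj] at h2
      rw [h2]; exact SetLike.coe_mem _⟩
  rcases le_or_gt (Fintype.card Ω) 1 with hle | hn
  · haveI : Subsingleton Ω := Fintype.card_le_one_iff_subsingleton.1 hle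
    have h1 : ∀ g : G, ((α g : G) : Equiv.Perm Ω) = (1 : Equiv.Perm Ω) * (g : Equiv.Perm Ω) * 1⁻¹ := fun g => Subsingleton.elim _ _
    exact ⟨⟨1, hfin 1 h1, h1⟩, Or.inl (Nat.card_eq_one_iff_unique.2 ⟨inferInstance, ⟨⟨ω, mem_orbit_self ω⟩⟩⟩)⟩
  haveI : IsMultiplyPretransitive G Ω 2 := h2
  haveI : IsPretransitive G Ω := isPretransitive_of_is_two_pretransitive
  have htwo : ∀ a b c d : Ω, a ≠ b → c ≠ d → ∃ g : G, g • a = c ∧ g • b = d := fun a b c d hab hcd =>
    is_two_pretransitive_iff.1 h2 hab hcd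
  obtain ⟨p, hp⟩ := TwoTransDesign.main_aux α hα o (TwoTransDesign.sq_step htwo α o ω hn hk)
  obtain ⟨σ, hσ⟩ := TwoTransDesign.exists_perm α o hp
  have hconj : ∀ g : G, ((α g : G) : Equiv.Perm Ω) = σ * (g : Equiv.Perm Ω) * σ⁻¹ := fun g => by
    ext x
    have h := hσ g (σ⁻¹ x)
    rw [show σ (σ⁻¹ x) = x from σ.apply_symm_apply x] at h
    exact h.symm
  refine ⟨⟨σ, hfin σ hconj, hconj⟩, ?_⟩
  rw [hp]
  exact TwoTransDesign.orbit_card_of_stabilizer htwo p ω


/-- Let G be a doubly transitive group of permutations of a finite set Ω of size n, let o ∈ Ω, and let α be an automorphism of G of odd order. Suppose that the image under α of the stabilizer of o has an orbit on Ω whose length k is coprime to n. Then α is induced by conjugation by a permutation of Ω normalizing G, and k = 1 or k = n − 1. -/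
theorem result {Ω : Type*} [Fintype Ω] (G : Subgroup (Equiv.Perm Ω)) (h2 : MulAction.IsMultiplyPretransitive G Ω 2) (o : Ω) (α : MulAut G) (hα : Odd (orderOf α)) (ω : Ω) (hk : (Nat.card (MulAction.orbit ((MulAction.stabilizer G o).map α.toMonoidHom) ω)).Coprime (Fintype.card Ω)) : (∃ σ : Equiv.Perm Ω, σ ∈ Subgroup.normalizer (G : Set (Equiv.Perm Ω)) ∧ ∀ g : G, ((α g : G) : Equiv.Perm Ω) = σ * (g : Equiv.Perm Ω) * σ⁻¹) ∧ (Nat.card (MulAction.orbit ((MulAction.stabilizer G o).map α.toMonoidHom) ω) = 1 ∨ Nat.card (MulAction.orbit ((MulAction.stabilizer G o).map α.toMonoidHom) ω) = Fintype.card Ω - 1) := by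
  exact solve G h2 o α hα ω hk

end Cfsg.Agent.S4276
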