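import Cfsg.Statements.S4277
import Cfsg.Agent.Lib.PrimeIndexOut.Core

set_option autoImplicit false
open Cfsg

namespace Cfsg.Agent.S4277

/-- An automorphism fixing an element of order equal to the prime index has inner square. -/
theorem sq_inner {G : Type*} [Group G] [Finite G] {p : ℕ} [Fact p.Prime] (hp2 : p ≠ 2) {Ω : Type*}
    [MulAction G Ω] [FaithfulSMul G Ω] (hΩ : Nat.card Ω = p) (hsq : ¬ p ^ 2 ∣ Nat.card G)
    (t : G) (ht : orderOf t = p) (hnc : t ∉ Subgroup.center G) (a : MulAut G) (hat : a t = t) :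
    ∃ n : ℕ, a * a = MulAut.conj (t ^ n) := by
  classical
  have hp : p.Prime := Fact.out
  obtain ⟨ω, hω⟩ : ∃ ω : Ω, t • ω ≠ ω := by
    by_contra hc
    push Not at hc
    have : t = 1 := eq_of_smul_eq_smul (α := Ω) fun ω => by rw [hc ω, one_smul]
    rw [this, orderOf_one] at ht
    exact hp.ne_one ht.symm
  let tp : ZMod p → G := fun i => t ^ i.val
  have htadd : ∀ i j, tp (i + j) = tp i * tp j := fun i j => by
    simp only [tp]
    rw [ZMod.val_add, ← pow_add, show (i.val + j.val) % p = (i.val + j.val) % orderOf t by rw [ht], pow_mod_orderOf]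
  have hinj : Function.Injective fun i => tp i • ω := by
    intro i j h
    by_contra hne
    have h' : tp (i - j) • tp j • ω = tp j • ω := by
      rw [← mul_smul, ← htadd, sub_add_cancel]
      exact h
    have hfix : tp (i - j) • ω = ω := by
      rw [← mul_smul, ← htadd, add_comm, htadd, mul_smul, smul_left_cancel_iff] at h'
      exact h'
    have hco : Nat.Coprime (i - j).val (orderOf t) := by
      rw [ht, Nat.coprime_comm, hp.coprime_iff_not_dvd]
      intro hd
      have h0 := Nat.eq_zero_of_dvd_of_lt hd (ZMod.val_lt _)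
      exact hne (sub_eq_zero.mp ((ZMod.val_eq_zero _).mp h0))
    obtain ⟨m, hm⟩ := exists_pow_eq_self_of_coprime hco
    refine hω ?_
    rw [← hm]
    exact MulAction.mem_stabilizer_iff.mp ((MulAction.stabilizer G ω).pow_mem hfix m)
  haveI : Finite Ω := Nat.finite_of_card_ne_zero (hΩ ▸ hp.ne_zero)
  let e : ZMod p ≃ Ω := Equiv.ofBijective (fun i => tp i • ω)
    ((Nat.bijective_iff_injective_and_card _).2 ⟨hinj, by rw [hΩ]; simp⟩)
  have he0 : e 0 = ω := by simp [e, tp]
  let π : G →* Equiv.Perm (ZMod p) := e.symm.permCongrHom.toMonoidHom.comp (MulAction.toPermHom G Ω)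
  have hπe : ∀ x i, e (π x i) = x • e i := fun x i => by simp [π]
  have hπinj : Function.Injective π := fun x y h => eq_of_smul_eq_smul (α := Ω) fun w => by
    obtain ⟨i, rfl⟩ := e.surjective w
    rw [← hπe, ← hπe, h]
  have hπt : ∀ i, π t i = i + 1 := fun i => e.injective (by
    rw [hπe]
    show t • tp i • ω = tp (i + 1) • ω
    rw [← mul_smul, add_comm i 1, htadd]
    simp only [tp, ZMod.val_one, pow_one])
  let O : Set (ZMod p × ZMod p) := {q | ∃ x : G, x • ω = e q.1 ∧ a x • ω = e q.2}
  have hne : O ≠ Set.univ := by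
    intro hO
    have hs : ∀ q : ZMod p × ZMod p, ∃ x : G, x • ω = e q.1 ∧ a x • ω = e q.2 := fun q => by
      have := Set.mem_univ q
      rw [← hO] at this
      exact this
    choose sec hsec using hs
    let S : Subgroup G := MulAction.stabilizer G ω ⊓ (MulAction.stabilizer G ω).comap a.toMonoidHom
    let img : G → ZMod p × ZMod p := fun x => (e.symm (x • ω), e.symm (a x • ω))
    have hS : ∀ x : G, (sec (img x))⁻¹ * x ∈ S := fun x => by
      have h := hsec (img x)
      simp only [img, Equiv.apply_symm_apply] at h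
      refine ⟨MulAction.mem_stabilizer_iff.mpr ?_, ?_⟩
      · rw [mul_smul, inv_smul_eq_iff]
        exact h.1.symm
      · show a ((sec (img x))⁻¹ * x) • ω = ω
        rw [map_mul, map_inv, mul_smul, inv_smul_eq_iff]
        exact h.2.symm
    let E : G ≃ (ZMod p × ZMod p) × S :=
      { toFun := fun x => (img x, ⟨_, hS x⟩)
        invFun := fun q => sec q.1 * q.2
        left_inv := fun x => by simp
        right_inv := fun ⟨q, y⟩ => by
          have h1 : img (sec q * y) = q := by
            have ha : a y.1 • ω = ω := y.2.2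
            have hb : y.1 • ω = ω := y.2.1
            simp [img, mul_smul, ha, hb, (hsec q).1, (hsec q).2]
          refine Prod.ext h1 (Subtype.ext ?_)
          show (sec (img (sec q * y)))⁻¹ * (sec q * y) = y
          rw [h1, inv_mul_cancel_left] }
    refine hsq ⟨Nat.card S, ?_⟩
    rw [Nat.card_congr E, Nat.card_prod, Nat.card_prod, Nat.card_zmod, pow_two]
  obtain ⟨n, hn⟩ := Cfsg.Agent.PrimeIndexOut.exists_square_inner hp2 π hπinj t hπt hnc a hat
    (isOfFinOrder_of_finite a) O
    (fun x i j ⟨y, hy1, hy2⟩ => ⟨x * y, by rw [mul_smul, hy1, hπe], by rw [map_mul, mul_smul, hy2, hπe]⟩)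
    ⟨1, by simp [he0], by simp [he0]⟩ hne
  exact ⟨n, MulEquiv.ext fun x => hn x⟩

/-- A case of the Schreier conjecture: if a finite simple group G has a subgroup of prime index, then the outer automorphism group of G is solvable. -/
theorem result {G : Type*} [Group G] [Finite G] [IsSimpleGroup G] (H : Subgroup G) (hH : H.index.Prime) : Group.IsSolvable (Cfsg.Out G) := by
  classical
  by_cases hab : ∀ x y : G, x * y = y * x
  · letI : CommGroup G := { (inferInstance : Group G) with mul_comm := hab }
    haveI : IsCyclic G := IsSimpleGroup.isCyclic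
    haveI : Group.IsSolvable (MulAut G) := isSolvable_of_comm fun a b => MulEquiv.ext fun x => by
      obtain ⟨m, hm⟩ := MonoidHom.map_cyclic a.toMonoidHom
      obtain ⟨n, hn⟩ := MonoidHom.map_cyclic b.toMonoidHom
      have hm' : ∀ g, a g = g ^ m := hm
      have hn' : ∀ g, b g = g ^ n := hn
      simp only [MulAut.mul_apply, hm', hn', ← zpow_mul, mul_comm]
    exact solvable_of_surjective (QuotientGroup.mk'_surjective (Cfsg.Inn G))
  have hcen : Subgroup.center G = ⊥ :=
    (Subgroup.Normal.eq_bot_or_eq_top (inferInstance : (Subgroup.center G).Normal)).resolve_right fun h =>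
      hab fun x y => (Subgroup.mem_center_iff.mp (h ▸ Subgroup.mem_top y) x)
  set p := H.index with hp
  haveI := Fact.mk hH
  have hcore : H.normalCore = ⊥ := by
    refine (Subgroup.Normal.eq_bot_or_eq_top H.normalCore_normal).resolve_right fun h => ?_
    have hH1 : H = ⊤ := top_le_iff.mp (h ▸ H.normalCore_le)
    exact hH.ne_one (by rw [hp, hH1, Subgroup.index_top])
  haveI : FaithfulSMul G (G ⧸ H) := ⟨fun {x y} h => by
    have hker : (MulAction.toPermHom G (G ⧸ H)).ker = ⊥ := by rw [← Subgroup.normalCore_eq_ker, hcore]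
    exact (MonoidHom.ker_eq_bot_iff _).mp hker (Equiv.ext h)⟩
  have hcardΩ : Nat.card (G ⧸ H) = p := rfl
  have hfac : Nat.card G ∣ p.factorial := by
    have h := Subgroup.card_dvd_of_injective (MulAction.toPermHom G (G ⧸ H))
      fun x y h => eq_of_smul_eq_smul (α := G ⧸ H) fun w => congrArg (fun f : Equiv.Perm _ => f w) h
    rwa [Nat.card_perm, hcardΩ] at h
  have hsq : ¬ p ^ 2 ∣ Nat.card G := fun h => by
    have h' := h.trans hfac
    rw [← Nat.mul_factorial_pred hH.ne_zero, pow_two] at h'
    have h'' := (hH.dvd_factorial).mp (Nat.dvd_of_mul_dvd_mul_left hH.pos h')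
    have := hH.pos
    omega
  have hp2 : p ≠ 2 := fun h => by
    rcases (Subgroup.normal_of_index_eq_two h).eq_bot_or_eq_top with hb | hb
    · have h' : Nat.card G = 2 := by rw [← h, hp, hb, Subgroup.index_bot]
      haveI : IsCyclic G := isCyclic_of_prime_card h'
      exact hab fun x y => (IsCyclic.commGroup (α := G)).mul_comm x y
    · exact hH.ne_one (by rw [hp, hb, Subgroup.index_top])
  obtain ⟨t, ht⟩ := exists_prime_orderOf_dvd_card' (G := G) p H.index_dvd_card
  have hnc : t ∉ Subgroup.center G := by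
    rw [hcen, Subgroup.mem_bot]
    rintro rfl
    rw [orderOf_one] at ht
    exact hH.ne_one ht.symm
  -- the centraliser of t among automorphisms
  let C : Subgroup (MulAut G) :=
    { carrier := {a | a t = t}
      mul_mem' := fun {a b} ha hb => by
        show a (b t) = t
        rw [show b t = t from hb]; exact ha
      one_mem' := rfl
      inv_mem' := fun {a} ha => by
        show a.symm t = t
        rw [MulEquiv.symm_apply_eq]; exact ha.symm }
  let z : C := ⟨MulAut.conj t, show t * t * t⁻¹ = t by group⟩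
  have hzc : ∀ a : C, a * z = z * a := fun a => Subtype.ext (MulEquiv.ext fun x => by
    show a.1 (t * x * t⁻¹) = t * a.1 x * t⁻¹
    rw [map_mul, map_mul, map_inv, show a.1 t = t from a.2])
  haveI hZ : (Subgroup.zpowers z).Normal := ⟨fun x hx g => by
    have hle : Subgroup.zpowers z ≤ Subgroup.center C :=
      Subgroup.zpowers_le.mpr (Subgroup.mem_center_iff.mpr hzc)
    rw [Subgroup.mem_center_iff.mp (hle hx) g, mul_inv_cancel_right]
    exact hx⟩
  have hexp : ∀ a : C ⧸ Subgroup.zpowers z, a * a = 1 := fun a => by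
    obtain ⟨a, rfl⟩ := QuotientGroup.mk_surjective a
    obtain ⟨n, hn⟩ := sq_inner hp2 hcardΩ hsq t ht hnc a.1 a.2
    refine (QuotientGroup.eq_one_iff _).mpr ⟨(n : ℤ), Subtype.ext ?_⟩
    show ((z ^ (n : ℤ) : C) : MulAut G) = a.1 * a.1
    rw [zpow_natCast, SubmonoidClass.coe_pow, hn, map_pow]
  haveI : Group.IsSolvable (C ⧸ Subgroup.zpowers z) := isSolvable_of_comm fun a b => by
    have ha : a⁻¹ = a := inv_eq_of_mul_eq_one_right (hexp a)
    have hb : b⁻¹ = b := inv_eq_of_mul_eq_one_right (hexp b)
    calc a * b = (a * b)⁻¹ := (inv_eq_of_mul_eq_one_right (hexp (a * b))).symm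
      _ = b * a := by rw [mul_inv_rev, ha, hb]
  haveI : Group.IsSolvable (Subgroup.zpowers z) := isSolvable_of_comm fun a b => mul_comm' a b
  haveI hC : Group.IsSolvable C := solvable_of_ker_le_range (Subgroup.zpowers z).subtype
    (QuotientGroup.mk' (Subgroup.zpowers z)) (by simp)
  -- the normaliser of the group generated by t
  let tp : ZMod p → G := fun i => t ^ i.val
  have htmul : ∀ i j, tp (i * j) = tp i ^ j.val := fun i j => by
    simp only [tp]
    rw [ZMod.val_mul, ← pow_mul, show (i.val * j.val) % p = (i.val * j.val) % orderOf t by rw [ht], pow_mod_orderOf]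
  have htinj : Function.Injective tp := fun i j h => ZMod.val_injective p
    (pow_injOn_Iio_orderOf (by simp [ht, ZMod.val_lt]) (by simp [ht, ZMod.val_lt]) h)
  have htone : tp 1 = t := by simp [tp, ZMod.val_one]
  have hcomp : ∀ (a b : MulAut G) (u v : ZMod p), a t = tp u → b t = tp v → (a * b) t = tp (u * v) := by
    intro a b u v ha hb
    show a (b t) = _
    rw [hb, htmul]
    show a (t ^ v.val) = _
    rw [map_pow, ha]
  let N : Subgroup (MulAut G) :=
    { carrier := {a | ∃ u : (ZMod p)ˣ, a t = tp u}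
      mul_mem' := fun {a b} ⟨u, hu⟩ ⟨v, hv⟩ => ⟨u * v, hcomp a b u v hu hv⟩
      one_mem' := ⟨1, htone.symm⟩
      inv_mem' := fun {a} ⟨u, hu⟩ => ⟨u⁻¹, by
        show a.symm t = _
        rw [MulEquiv.symm_apply_eq]
        show t = a (t ^ ((u⁻¹ : (ZMod p)ˣ) : ZMod p).val)
        rw [map_pow, hu, ← htmul, ← Units.val_mul, mul_inv_cancel]
        exact htone.symm⟩ }
  choose uf huf using fun a : N => a.2
  let f : N →* (ZMod p)ˣ := MonoidHom.mk' uf fun a b => Units.ext (htinj (by
    rw [← huf, Units.val_mul]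
    exact hcomp a b _ _ (huf a) (huf b)))
  have hker : ∀ a : f.ker, (a : N).1 ∈ C := fun a => by
    show (a : N).1 t = t
    rw [huf, show uf a = 1 from a.2, Units.val_one, htone]
  let ι : f.ker →* C := MonoidHom.mk' (fun a => ⟨_, hker a⟩) fun a b => rfl
  haveI : Group.IsSolvable f.ker := solvable_of_solvable_injective (f := ι) fun a b h =>
    Subtype.ext (Subtype.ext (by have h' := congrArg (fun c : C => c.1) h; exact h'))
  haveI : Group.IsSolvable (ZMod p)ˣ := isSolvable_of_comm mul_comm
  haveI : Group.IsSolvable N := solvable_of_ker_le_range f.ker.subtype f (by simp)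
  refine solvable_of_surjective (f := (QuotientGroup.mk' (Cfsg.Inn G)).comp N.subtype) fun q => ?_
  obtain ⟨a, rfl⟩ := QuotientGroup.mk_surjective q
  have hfz : (Nat.card G).factorization p = 1 := by
    refine le_antisymm ?_ ?_
    · by_contra hc
      exact hsq ((pow_dvd_pow p (by omega)).trans (Nat.ordProj_dvd _ _))
    · exact hH.factorization_pos_of_dvd Nat.card_pos.ne' H.index_dvd_card
  have hsy : ∀ g : G, orderOf g = p → ∃ P : Sylow p G, (P : Subgroup G) = Subgroup.zpowers g := fun g hg =>
    ⟨Sylow.ofCard (Subgroup.zpowers g) (by rw [Nat.card_zpowers, hg, hfz, pow_one]), rfl⟩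
  obtain ⟨P, hP⟩ := hsy t ht
  obtain ⟨Q, hQ⟩ := hsy (a t) ((orderOf_injective a.toMonoidHom a.injective t).trans ht)
  obtain ⟨g, hg⟩ := MulAction.exists_smul_eq G P Q
  have hmem : g⁻¹ * a t * g ∈ Subgroup.zpowers t := by
    have h1 : a t ∈ ((g • P : Sylow p G) : Subgroup G) := by
      rw [hg, hQ]; exact Subgroup.mem_zpowers _
    rw [Sylow.coe_subgroup_smul, Subgroup.mem_pointwise_smul_iff_inv_smul_mem, hP] at h1
    simpa [MulAut.smul_def] using h1
  set b : MulAut G := MulAut.conj g⁻¹ * a with hb
  have hbt : b t = g⁻¹ * a t * g := by simp [hb]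
  rw [← hbt] at hmem
  obtain ⟨k, hk⟩ := (mem_powers_iff_mem_zpowers (x := t) (y := b t)).mpr hmem
  simp only at hk
  have hbk : b t = tp k := by
    rw [← hk]
    simp only [tp, ZMod.val_natCast]
    rw [show k % p = k % orderOf t by rw [ht], pow_mod_orderOf]
  have hk0 : (k : ZMod p) ≠ 0 := fun h => by
    rw [h] at hbk
    simp only [tp, ZMod.val_zero, pow_zero, EmbeddingLike.map_eq_one_iff] at hbk
    rw [hbk, orderOf_one] at ht
    exact hH.ne_one ht.symm
  refine ⟨⟨b, ⟨Units.mk0 _ hk0, hbk⟩⟩, ?_⟩
  show (b : MulAut G ⧸ Cfsg.Inn G) = (a : MulAut G ⧸ Cfsg.Inn G)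
  rw [hb, QuotientGroup.mk_mul, (QuotientGroup.eq_one_iff _).mpr (show MulAut.conj g⁻¹ ∈ Cfsg.Inn G from ⟨g⁻¹, rfl⟩), one_mul]

end Cfsg.Agent.S4277
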