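import Cfsg.Statements.S4280
import Cfsg.Agent.Lib.Chev.InvolOdd.F4

set_option autoImplicit false
open Cfsg

namespace Cfsg.Agent.S4280

/-- In the Chevalley group of type F₄ over a finite field of odd order q there are exactly two conjugacy classes of involutions; the centralizer of an involution in one class has order q¹⁶(q² − 1)(q⁴ − 1)(q⁶ − 1)(q⁸ − 1), and in the other class q¹⁰(q² − 1)²(q⁴ − 1)(q⁶ − 1). -/
theorem result {F : Type*} [Field F] [Fintype F] (hF : Odd (Fintype.card F)) : ∃ s t : ↥(Cfsg.Lie.chevF4.group F), orderOf s = 2 ∧ orderOf t = 2 ∧ ¬ IsConj s t ∧ (∀ u : ↥(Cfsg.Lie.chevF4.group F), orderOf u = 2 → IsConj u s ∨ IsConj u t) ∧ Nat.card (Subgroup.centralizer ({s} : Set ↥(Cfsg.Lie.chevF4.group F))) = Fintype.card F ^ 16 * (Fintype.card F ^ 2 - 1) * (Fintype.card F ^ 4 - 1) * (Fintype.card F ^ 6 - 1) * (Fintype.card F ^ 8 - 1) ∧ Nat.card (Subgroup.centralizer ({t} : Set ↥(Cfsg.Lie.chevF4.group F)))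 = Fintype.card F ^ 10 * (Fintype.card F ^ 2 - 1) ^ 2 * (Fintype.card F ^ 4 - 1) * (Fintype.card F ^ 6 - 1) := by
  classical
  have hq : Fintype.card F % 2 = 1 := Nat.odd_iff.1 hF
  open Cfsg.Agent.Chev Cfsg.Agent.Chev.InvolOdd in
  have hne := ne_two F4.ok hq
  open Cfsg.Agent.Chev Cfsg.Agent.Chev.InvolOdd in
  obtain ⟨c₁, s, hs, h1, hs2, hsc⟩ := exists_class F4.ok (F := F) ckComm_F4 hne cert_F4a (x := [0, 1, 0, 0]) (by decide +kernel)
    orb_F4a (J := [3, 2, 1, 0]) (by decide) ckOrb_F4 poinP_F4 num_F4a poly_F4a (by decide) torus_F4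
  open Cfsg.Agent.Chev Cfsg.Agent.Chev.InvolOdd in
  obtain ⟨c₂, t, ht, h2, ht2, htc⟩ := exists_class F4.ok (F := F) ckComm_F4 hne cert_F4b (x := [1, 0, 1, 0]) (by decide +kernel)
    orb_F4b (J := [3, 2, 1, 0]) (by decide) ckOrb_F4 poinP_F4 num_F4b poly_F4b (by decide) torus_F4
  open Cfsg.Agent.Chev Cfsg.Agent.Chev.InvolOdd in
  rw [even_F4.1] at hsc
  open Cfsg.Agent.Chev Cfsg.Agent.Chev.InvolOdd in
  rw [even_F4.2] at htc
  open Cfsg.Agent.Chev Cfsg.Agent.Chev.InvolOdd in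
  refine ⟨s, t, hs2, ht2, fun hst => ?_, fun u hu => ?_, ?_, ?_⟩
  · have hc := Cfsg.Agent.Chev.InvolOdd.card_centralizer_eq hst
    rw [hsc, htc] at hc
    refine Cfsg.Agent.Chev.InvolOdd.pow_mul_ne Fintype.one_lt_card (Cfsg.Agent.Chev.InvolOdd.coprime_prod Fintype.one_lt_card _ (by decide))
      (Cfsg.Agent.Chev.InvolOdd.coprime_prod Fintype.one_lt_card _ (by decide)) (by norm_num) hc
  · open Cfsg.Agent.Chev Cfsg.Agent.Chev.InvolOdd in
    exact every_involution F4.ok ckComm_F4 ckRefl_F4 orth_F4 odd_F4 hq cover_F4 (cert_spec F4.ok cert_F4a).2.2.2.2.2.1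
      (cert_spec F4.ok cert_F4b).2.2.2.2.2.1 hs ht h1 h2 u hu
  · rw [hsc]; simp only [List.map_cons, List.map_nil, List.prod_cons, List.prod_nil, mul_one]; ring
  · rw [htc]; simp only [List.map_cons, List.map_nil, List.prod_cons, List.prod_nil, mul_one]; ring

end Cfsg.Agent.S4280
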