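import Cfsg.Statements.S4281
import Cfsg.Agent.Lib.Chev.InvolOdd.E8

set_option autoImplicit false
open scoped BigOperators
open Cfsg

namespace Cfsg.Agent.S4281

/-- In the Chevalley group of type E₈ over a finite field of odd order q there are exactly two conjugacy classes of involutions; the centralizer of an involution in one class has order q⁵⁶(q⁸ − 1)·∏_{i=1}^{7}(q^{2i} − 1), and in the other class q⁶⁴(q² − 1)²(q⁶ − 1)(q⁸ − 1)(q¹⁰ − 1)(q¹² − 1)(q¹⁴ − 1)(q¹⁸ − 1). -/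
theorem result {F : Type*} [Field F] [Fintype F] (hF : Odd (Fintype.card F)) : ∃ s t : ↥(Cfsg.Lie.chevE8.group F), orderOf s = 2 ∧ orderOf t = 2 ∧ ¬ IsConj s t ∧ (∀ u : ↥(Cfsg.Lie.chevE8.group F), orderOf u = 2 → IsConj u s ∨ IsConj u t) ∧ Nat.card (Subgroup.centralizer ({s} : Set ↥(Cfsg.Lie.chevE8.group F))) = Fintype.card F ^ 56 * (Fintype.card F ^ 8 - 1) * ∏ i ∈ Finset.Icc 1 7, (Fintype.card F ^ (2 * i) - 1) ∧ Nat.card (Subgroup.centralizer ({t} : Set ↥(Cfsg.Lie.chevE8.group F))) = Fintype.card F ^ 64 * (Fintype.card F ^ 2 - 1) ^ 2 * (Fintype.card F ^ 6 - 1) * (Fintype.card F ^ 8 - 1) * (Fintype.card F ^ 10 - 1) * (Fintype.card F ^ 12 - 1) * (Fintype.card F ^ 14 - 1) * (Fintype.card F ^ 18 - 1) := by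
  classical
  have hq : Fintype.card F % 2 = 1 := Nat.odd_iff.1 hF
  open Cfsg.Agent.Chev Cfsg.Agent.Chev.InvolOdd in
  have hne := ne_two E8.ok hq
  open Cfsg.Agent.Chev Cfsg.Agent.Chev.InvolOdd in
  obtain ⟨c₁, s, hs, h1, hs2, hsc⟩ := exists_class E8.ok (F := F) ckComm_E8 hne cert_E8a (x := [0, 1, 1, 0, 0, 0, 0, 0]) (by decide +kernel)
    orb_E8a (J := [7, 6, 5, 4, 3, 2, 1, 0]) (by decide) ckOrb_E8 poinP_E8 num_E8a poly_E8a (by decide) torus_E8
  open Cfsg.Agent.Chev Cfsg.Agent.Chev.InvolOdd in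
  obtain ⟨c₂, t, ht, h2, ht2, htc⟩ := exists_class E8.ok (F := F) ckComm_E8 hne cert_E8b (x := [0, 1, 0, 0, 1, 0, 1, 0]) (by decide +kernel)
    ckOrb_E8_sub (J := [7, 6, 5, 4, 3, 2, 1, 0]) (by decide) ckOrb_E8 poinP_E8 num_E8b poly_E8b (by decide) torus_E8
  open Cfsg.Agent.Chev Cfsg.Agent.Chev.InvolOdd in
  rw [even_E8.1] at hsc
  open Cfsg.Agent.Chev Cfsg.Agent.Chev.InvolOdd in
  rw [even_E8.2] at htc
  open Cfsg.Agent.Chev Cfsg.Agent.Chev.InvolOdd in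
  refine ⟨s, t, hs2, ht2, fun hst => ?_, fun u hu => ?_, ?_, ?_⟩
  · have hc := Cfsg.Agent.Chev.InvolOdd.card_centralizer_eq hst
    rw [hsc, htc] at hc
    refine Cfsg.Agent.Chev.InvolOdd.pow_mul_ne Fintype.one_lt_card (Cfsg.Agent.Chev.InvolOdd.coprime_prod Fintype.one_lt_card _ (by decide))
      (Cfsg.Agent.Chev.InvolOdd.coprime_prod Fintype.one_lt_card _ (by decide)) (by norm_num) hc
  · open Cfsg.Agent.Chev Cfsg.Agent.Chev.InvolOdd in
    exact every_involution E8.ok ckComm_E8 ckRefl_E8 orth_E8 odd_E8 hq cover_E8 (cert_spec E8.ok cert_E8a).2.2.2.2.2.1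
      (cert_spec E8.ok cert_E8b).2.2.2.2.2.1 hs ht h1 h2 u hu
  · rw [hsc]; simp only [List.map_cons, List.map_nil, List.prod_cons, List.prod_nil, mul_one]; rw [show Finset.Icc 1 7 = ({1, 2, 3, 4, 5, 6, 7} : Finset ℕ) from rfl]; simp; ring
  · rw [htc]; simp only [List.map_cons, List.map_nil, List.prod_cons, List.prod_nil, mul_one]; ring

end Cfsg.Agent.S4281
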