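import Cfsg.Statements.S4282
import Cfsg.Agent.Lib.HallHigman.Core
import Cfsg.Agent.Lib.HallHigman.Abelian
-- import your own Cfsg.Agent.* helpers here

set_option autoImplicit false
open Cfsg

namespace Cfsg.Agent.S4282

/-- A critical case behind the Hall–Higman theorem. Let p ≠ q be primes and G a finite group generated by a normal q-subgroup Q and a cyclic p-subgroup generated by x, such that the centralizer of every non-identity element of that cyclic subgroup is its product with the centre of G. Let K be an algebraically closed field of characteristic p and ρ a faithful representation of G on a nonzero finite-dimensional K-space whose restriction to Q is irreducible. If s is the least exponent with (ρ(x) − 1)^s = 0, then |⟨x⟩| − 1 ≤ s ≤ |⟨x⟩|; and if s = |⟨x⟩| − 1 then |⟨x⟩| − 1 is a power of q and Q is non-abelian. -/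
theorem result {G : Type*} [Group G] [Finite G] (p q : ℕ) [Fact p.Prime] [Fact q.Prime] (hpq : p ≠ q) (Q : Subgroup G) [Q.Normal] (hQ : IsPGroup q Q) (x : G) (hx : IsPGroup p (Subgroup.zpowers x)) (hgen : Q ⊔ Subgroup.zpowers x = ⊤) (hC : ∀ y ∈ Subgroup.zpowers x, y ≠ 1 → Subgroup.centralizer ({y} : Set G) = Subgroup.zpowers x ⊔ Subgroup.center G) {K : Type*} [Field K] [IsAlgClosed K] [CharP K p] {V : Type*} [AddCommGroup V] [Module K V] [FiniteDimensional K V] [Nontrivial V] (ρ : Representation K G V) (hfaith : Function.Injective ρ) (hirr : ∀ W : Submodule K V, (∀ g ∈ Q, Submodule.map (ρ g) W ≤ W) → W = ⊥ ∨ W = ⊤) (s : ℕ) (hs : (ρ x - 1) ^ s = 0) (hmin : ∀ k < s, (ρ x - 1) ^ k ≠ 0) : Nat.card (Subgroup.zpowers x) - 1 ≤ s ∧ s ≤ Nat.card (Subgroup.zpowers x) ∧ (s = Nat.card (Subgroup.zpowers x) - 1 → (∃ b : ℕ, Nat.card (Subgroup.zpowers x) - 1 = q ^ b) ∧ ¬ IsMulCommutative Q) := by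
  classical
  haveI hQnil : Group.IsNilpotent ↥Q := hQ.isNilpotent
  obtain ⟨e, he⟩ := hx.exists_card_eq
  rw [he]
  have hxN : x ^ p ^ e = 1 := by
    rw [← he, Nat.card_zpowers, pow_orderOf_eq_one]
  have hTN : (ρ x - 1) ^ p ^ e = 0 := by
    haveI : CharP (Module.End K V) p := charP_of_injective_algebraMap
      (FaithfulSMul.algebraMap_injective K (Module.End K V)) p
    rw [sub_pow_char_pow_of_commute p e (Commute.one_right _), one_pow, ← map_pow, hxN, map_one,
      sub_self]
  have hupper : s ≤ p ^ e := by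
    by_contra h
    exact hmin _ (Nat.lt_of_not_ge h) hTN
  have hs0 : s ≠ 0 := by
    rintro rfl
    rw [pow_zero] at hs
    exact one_ne_zero hs
  rcases Nat.eq_zero_or_pos e with rfl | he1
  · rw [pow_zero] at hupper ⊢
    refine ⟨by omega, hupper, fun h => absurd h ?_⟩
    omega
  have schur : ∀ f : Module.End K V, (∀ g ∈ Q, Commute f (ρ g)) → ∃ c : K, f = c • 1 := by
    intro f hf
    obtain ⟨c, hc⟩ := Module.End.exists_eigenvalue f
    refine ⟨c, ?_⟩
    rcases hirr (f.eigenspace c) (fun g hg => by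
      rintro _ ⟨w, hw, rfl⟩
      rw [SetLike.mem_coe, Module.End.mem_eigenspace_iff] at hw
      rw [Module.End.mem_eigenspace_iff, ← Module.End.mul_apply, (hf g hg).eq,
        Module.End.mul_apply, hw, map_smul]) with h | h
    · exact absurd h hc
    · refine LinearMap.ext fun v => ?_
      have hv : v ∈ f.eigenspace c := by rw [h]; trivial
      rw [Module.End.mem_eigenspace_iff] at hv
      simpa using hv
  set z := x ^ p ^ (e - 1) with hz
  have hz1 : z ≠ 1 := by
    intro h
    have h1 := orderOf_dvd_of_pow_eq_one h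
    rw [← Nat.card_zpowers, he, Nat.pow_dvd_pow_iff_le_right (Fact.out : p.Prime).one_lt] at h1
    omega
  have hordQ : ∀ g ∈ Q, ∃ j, orderOf g = q ^ j := fun g hg => by
    obtain ⟨j, hj⟩ := IsPGroup.iff_orderOf.mp hQ ⟨g, hg⟩
    exact ⟨j, by rw [← hj, Subgroup.orderOf_mk]⟩
  have hcop : ∀ g ∈ Q, (orderOf g : K) ≠ 0 := by
    intro g hg h
    obtain ⟨j, hj⟩ := hordQ g hg
    rw [hj, CharP.cast_eq_zero_iff K p] at h
    exact hpq ((Nat.prime_dvd_prime_iff_eq Fact.out Fact.out).mp
      ((Fact.out : p.Prime).dvd_of_dvd_pow h))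
  -- the fixed points of `z` in `Q` are central
  have hfix : ∀ g ∈ Q, z * g * z⁻¹ = g → g ∈ Subgroup.center G := by
    intro g hg hzg
    have hgC : g ∈ Subgroup.centralizer ({z} : Set G) :=
      Subgroup.mem_centralizer_singleton_iff.mpr
        ((mul_inv_eq_iff_eq_mul.mp hzg).symm)
    rw [hC z (Subgroup.npow_mem_zpowers _ _) hz1, ← SetLike.mem_coe, Subgroup.mul_normal] at hgC
    obtain ⟨a, ha, c, hc, hac⟩ := hgC
    have hcc : ∀ b : G, Commute c b := fun b => (Subgroup.mem_center_iff.mp hc b).symm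
    have ha1 : a ^ p ^ e = 1 := by
      obtain ⟨i, rfl⟩ := Subgroup.mem_zpowers_iff.mp ha
      rw [← zpow_natCast, ← zpow_mul, mul_comm, zpow_mul, zpow_natCast, hxN, one_zpow]
    have hgp : g ^ p ^ e ∈ Subgroup.center G := by
      rw [← hac]
      show (a * c) ^ p ^ e ∈ _
      rw [((hcc a).symm).mul_pow, ha1, one_mul]
      exact pow_mem hc _
    obtain ⟨j, hj⟩ := hordQ g hg
    have hco : (p ^ e).Coprime (q ^ j) :=
      ((Nat.coprime_primes Fact.out Fact.out).mpr hpq).pow e j
    obtain ⟨m, hm⟩ := exists_pow_eq_self_of_coprime (hj ▸ hco : (p ^ e).Coprime (orderOf g))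
    rw [← hm]
    exact pow_mem hgp m
  have hscalC : ∀ g : G, (∀ t ∈ Q, g * t = t * g) → ∃ c : K, ρ g = c • 1 := fun g hg =>
    schur _ fun t ht => by
      show ρ g * ρ t = ρ t * ρ g
      rw [← map_mul, ← map_mul, hg t ht]
  -- `Q` is non-abelian
  have hQab : ¬ IsMulCommutative Q := by
    intro hab
    have hc : ∀ g ∈ Q, ∀ t ∈ Q, g * t = t * g := fun g hg t ht =>
      congrArg Subtype.val (hab.is_comm.comm ⟨g, hg⟩ ⟨t, ht⟩)
    obtain ⟨c, hc'⟩ := schur (ρ x) fun t ht => by
      obtain ⟨d, hd⟩ := hscalC t (fun u hu => hc t ht u hu)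
      rw [hd]
      exact (Commute.one_right _).smul_right d
    have h1 : c ^ p ^ e = 1 := by
      have h := congrArg (fun X : Module.End K V => X ^ p ^ e) hc'
      simp only [← map_pow, hxN, map_one, smul_pow, one_pow] at h
      obtain ⟨v, hv⟩ := exists_ne (0 : V)
      have hv' := LinearMap.congr_fun h v
      simp only [Module.End.one_apply, LinearMap.smul_apply] at hv'
      exact smul_left_injective K hv (by simpa using hv'.symm)
    have hc1 : c = 1 := by
      have h2 : (c - 1) ^ p ^ e = 0 := by rw [sub_pow_char_pow, one_pow, h1, sub_self]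
      exact sub_eq_zero.mp (eq_zero_of_pow_eq_zero h2)
    have hx1 : x = 1 := hfaith (by rw [hc', hc1, one_smul, map_one])
    exact hz1 (by rw [hz, hx1, one_pow])
  -- the second centre
  set S := (Subgroup.upperCentralSeries ↥Q 2).map Q.subtype with hSdef
  have hSQ : S ≤ Q := Subgroup.map_subtype_le _
  haveI hSn : S.Normal := inferInstance
  have hxS : x ∈ Subgroup.normalizer (S : Set G) := by
    rw [Subgroup.normalizer_eq_top]; trivial
  have hcom : ∀ a ∈ S, ∀ b ∈ Q, ∀ t ∈ Q, a * b * a⁻¹ * b⁻¹ * t = t * (a * b * a⁻¹ * b⁻¹) := by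
    rintro _ ⟨a, ha, rfl⟩ b hb t ht
    have h := Subgroup.mem_upperCentralSeries_succ_iff.mp ha ⟨b, hb⟩
    rw [upperCentralSeries_one] at h
    exact (congrArg Subtype.val (Subgroup.mem_center_iff.mp h ⟨t, ht⟩)).symm
  have hne : ∃ a ∈ S, ∃ b ∈ Q, a * b ≠ b * a := by
    by_contra hcon
    push Not at hcon
    apply hQab
    have h21 : Subgroup.upperCentralSeries ↥Q 2 ≤ Subgroup.upperCentralSeries ↥Q 1 := by
      intro a ha
      rw [upperCentralSeries_one, Subgroup.mem_center_iff]
      intro b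
      exact Subtype.ext (hcon _ ⟨a, ha, rfl⟩ b b.2).symm
    have hall : ∀ m, Subgroup.upperCentralSeries ↥Q m ≤ Subgroup.upperCentralSeries ↥Q 1 := by
      intro m
      induction m with
      | zero => exact Subgroup.upperCentralSeries_mono _ (Nat.zero_le 1)
      | succ m ih =>
        intro a ha
        refine h21 (Subgroup.mem_upperCentralSeries_succ_iff.mpr fun b => ih ?_)
        exact Subgroup.mem_upperCentralSeries_succ_iff.mp ha b
    obtain ⟨m, hm⟩ := Group.IsNilpotent.nilpotent ↥Q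
    have h1 := hall m
    rw [hm, upperCentralSeries_one, top_le_iff] at h1
    exact ⟨⟨fun a b => (Subgroup.mem_center_iff.mp (h1.ge (Subgroup.mem_top b)) a)⟩⟩
  have main : (ρ x - 1) ^ (p ^ e - 1) ≠ 0 ∨
      ((ρ x - 1) ^ (p ^ e - 2) ≠ 0 ∧ ∃ m, p ^ e - 1 = q ^ m) := by
    by_cases hab : ∀ a ∈ S, ∀ b ∈ S, a * b = b * a
    · obtain ⟨a, ha, b, hb, hab'⟩ := hne
      refine Or.inl (HallHigman.full_degree_of_abelian ρ S x hxS hxN
        (fun a ha b hb => by
          show ρ a * ρ b = ρ b * ρ a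
          rw [← map_mul, ← map_mul, hab a ha b hb])
        (fun a ha => hcop a (hSQ ha)) ⟨a, ha, fun h => hab' ?_⟩)
      have := hfix a (hSQ ha) (hfaith h)
      exact (Subgroup.mem_center_iff.mp this b).symm
    · push Not at hab
      obtain ⟨a, ha, b, hb, hab'⟩ := hab
      have hne' : ρ (a * b * a⁻¹ * b⁻¹) ≠ 1 := fun h => hab' (commutatorElement_eq_one_iff_mul_comm.mp
          (by rw [commutatorElement_def]; exact hfaith (h.trans (map_one ρ).symm)))
      rcases HallHigman.degree_of_symplectic ρ S (q := q) hpq.symm (hQ.to_le hSQ) x hxS he1 hxN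
        (fun s hs t ht => hscalC _ (fun u hu => hcom s hs t (hSQ ht) u hu))
        ⟨a, ha, b, hb, hne'⟩
        (fun s hs hzs => hscalC s (fun u _ => (Subgroup.mem_center_iff.mp
          (hfix s (hSQ hs) hzs) u).symm)) with h | ⟨h, m, -, hm, -⟩
      · exact Or.inl h
      · exact Or.inr ⟨h, m, hm⟩
  refine ⟨?_, hupper, fun hse => ⟨?_, hQab⟩⟩
  · rcases main with h | ⟨h, -⟩
    · by_contra hlt
      exact h (pow_eq_zero_of_le (by omega) hs)
    · by_contra hlt
      exact h (pow_eq_zero_of_le (by omega) hs)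
  · rcases main with h | ⟨-, m, hm⟩
    · exact absurd (pow_eq_zero_of_le hse.le hs) h
    · exact ⟨m, hm⟩

end Cfsg.Agent.S4282
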