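import Cfsg.Statements.S4283
import Cfsg.Agent.Lib.Basics.FrobeniusBasic

set_option autoImplicit false
open Cfsg
open scoped Pointwise
set_option linter.all false

namespace Cfsg.Agent.S4283

open Subgroup


/-- Let G be a finite group with centre Z and let K, H be abelian subgroups of G containing Z such that G/Z is a Frobenius group with complement H/Z and kernel K/Z. Then the conjugacy class sizes of G are exactly 1, [G : K] and [G : H], and these two indices are coprime. (This is the converse half of the characterization of finite groups whose conjugacy class sizes are exactly 1, m and n with m and n coprime.) -/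
theorem result {G : Type*} [Group G] [Finite G] (K H : Subgroup G) (hZK : Subgroup.center G ≤ K) (hZH : Subgroup.center G ≤ H) (hK : IsMulCommutative K) (hH : IsMulCommutative H) (hFrob : Cfsg.IsFrobeniusComplement (H.map (QuotientGroup.mk' (Subgroup.center G)))) (hker : Cfsg.frobeniusKernel (H.map (QuotientGroup.mk' (Subgroup.center G))) = (K.map (QuotientGroup.mk' (Subgroup.center G)) : Set (G ⧸ Subgroup.center G))) : Set.range (fun x : G => (Subgroup.centralizer ({x} : Set G)).index) = ({1, K.index, H.index} : Set ℕ) ∧ K.index.Coprime H.index := by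
  classical
  set Z := center G with hZ
  set π := QuotientGroup.mk' Z with hπ
  set Hb := H.map π with hHb
  set Kb := K.map π with hKb
  obtain ⟨N, hN, hNn, hNc, hNi⟩ := Basics.frobenius_kernel_exists hFrob
  have hNK : N = Kb := SetLike.coe_injective (hN.trans hker)
  subst hNK
  have hker' : ∀ L : Subgroup G, Z ≤ L → ∀ g, π g ∈ L.map π ↔ g ∈ L := fun L hL g => by
    rw [← mem_comap, comap_map_eq, hπ, QuotientGroup.ker_mk', sup_eq_left.2 hL]
  have hidx : ∀ L : Subgroup G, Z ≤ L → (L.map π).index = L.index := fun L hL =>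
    index_map_eq _ (QuotientGroup.mk'_surjective Z) (by rw [hπ, QuotientGroup.ker_mk']; exact hL)
  have hconj : ∀ (g x : G), π x ∈ MulAut.conj (π g) • Hb ↔ g⁻¹ * x * g ∈ H := fun g x => by
    rw [mem_pointwise_smul_iff_inv_smul_mem, MulAut.smul_def, MulAut.conj_inv_apply,
      ← map_inv, ← map_mul, ← map_mul]
    exact hker' H hZH _
  have hcov : ∀ x, x ∉ K → ∃ g, g⁻¹ * x * g ∈ H := by
    intro x hx
    by_contra hcon
    push Not at hcon
    apply hx
    rw [← hker' K hZK, ← SetLike.mem_coe, ← hker]
    refine Or.inr fun q => ?_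
    obtain ⟨g, rfl⟩ := QuotientGroup.mk'_surjective Z q
    exact fun h => hcon g ((hconj g x).1 h)
  have hsame : ∀ g x y : G, g⁻¹ * x * g ∈ H → x ∉ Z → Commute x y → g⁻¹ * y * g ∈ H := by
    intro g x y hxH hxZ hxy
    set a := g⁻¹ * x * g with ha
    set b := g⁻¹ * y * g with hb
    have hab : Commute a b := by
      show a * b = b * a
      rw [ha, hb, show g⁻¹ * x * g * (g⁻¹ * y * g) = g⁻¹ * (x * y) * g by group, hxy.eq]; group
    by_contra hbH
    have hbH' : π b ∉ Hb := fun h => hbH ((hker' H hZH b).1 h)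
    have h1 : π a ∈ Hb ⊓ MulAut.conj (π b) • Hb := by
      refine mem_inf.2 ⟨(hker' H hZH a).2 hxH, (hconj b a).2 ?_⟩
      rw [mul_assoc, hab.eq, inv_mul_cancel_left]; exact hxH
    rw [hFrob.2.2 _ hbH', mem_bot] at h1
    have h2 : a ∈ Z := by
      rw [← QuotientGroup.ker_mk' Z]; exact h1
    apply hxZ
    have := (inferInstance : Z.Normal).conj_mem a h2 g
    rwa [ha, show g * (g⁻¹ * x * g) * g⁻¹ = x by group] at this
  have hKmem : ∀ x y, x ∈ K → y ∈ K → Commute x y := fun x y hx hy =>
    congrArg Subtype.val (hK.is_comm.comm ⟨x, hx⟩ ⟨y, hy⟩)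
  have hHmem : ∀ x y, x ∈ H → y ∈ H → Commute x y := fun x y hx hy =>
    congrArg Subtype.val (hH.is_comm.comm ⟨x, hx⟩ ⟨y, hy⟩)
  have hKHdisj : ∀ x g, x ∈ K → g⁻¹ * x * g ∈ H → x ∈ Z := by
    intro x g hx hxg
    have h1 : π x ∈ Cfsg.frobeniusKernel Hb := by
      rw [hker]; exact (hker' K hZK x).2 hx
    rcases h1 with h1 | h1
    · rw [← QuotientGroup.ker_mk' Z]; exact h1
    · exact absurd ((hconj g x).2 hxg) (h1 _)
  have hCK : ∀ x ∈ K, x ∉ Z → centralizer ({x} : Set G) = K := by
    intro x hx hxZ
    ext y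
    rw [mem_centralizer_singleton_iff]
    refine ⟨fun h => ?_, fun hy => (hKmem y x hy hx).eq⟩
    have hyx : Commute y x := by first | exact h | exact h.symm
    by_contra hy
    obtain ⟨g, hg⟩ := hcov y hy
    have hyZ : y ∉ Z := fun hz => hy (hZK hz)
    exact hxZ (hKHdisj x g hx (hsame g y x hg hyZ hyx))
  have hCH : ∀ x g, x ∉ Z → g⁻¹ * x * g ∈ H → centralizer ({x} : Set G) = MulAut.conj g • H := by
    intro x g hxZ hxg
    ext y
    rw [mem_centralizer_singleton_iff, mem_pointwise_smul_iff_inv_smul_mem, MulAut.smul_def,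
      MulAut.conj_inv_apply]
    refine ⟨fun h => hsame g x y hxg hxZ (by first | exact h | exact h.symm), fun hy => ?_⟩
    have h1 := (hHmem _ _ hy hxg).eq
    rw [show g⁻¹ * y * g * (g⁻¹ * x * g) = g⁻¹ * (y * x) * g by group,
      show g⁻¹ * x * g * (g⁻¹ * y * g) = g⁻¹ * (x * y) * g by group] at h1
    exact mul_left_cancel (mul_right_cancel h1)
  have hHcard : Nat.card Hb = K.index := by
    rw [← hidx K hZK]; exact hNc.symm.index_eq_card.symm
  have hKcard : Nat.card Kb = H.index := by rw [hNi, hidx H hZH]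
  refine ⟨?_, ?_⟩
  · ext n
    simp only [Set.mem_range, Set.mem_insert_iff, Set.mem_singleton_iff]
    constructor
    · rintro ⟨x, rfl⟩
      by_cases hxZ : x ∈ Z
      · left
        rw [index_eq_one, eq_top_iff]
        intro y _
        rw [mem_centralizer_singleton_iff]
        first | exact (mem_center_iff.1 hxZ y) | exact (mem_center_iff.1 hxZ y).symm
      by_cases hxK : x ∈ K
      · right; left; rw [hCK x hxK hxZ]
      · obtain ⟨g, hg⟩ := hcov x hxK
        right; right
        rw [hCH x g hxZ hg]
        exact index_map_equiv H (MulAut.conj g)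
    · rintro (rfl | rfl | rfl)
      · refine ⟨1, ?_⟩
        rw [index_eq_one, eq_top_iff]
        intro y _
        rw [mem_centralizer_singleton_iff]; simp
      · obtain ⟨x, hxK, hxZ⟩ : ∃ x ∈ K, x ∉ Z := by
          by_contra hcon
          push Not at hcon
          have : Kb = ⊥ := by rw [hKb, Subgroup.map_eq_bot_iff, hπ, QuotientGroup.ker_mk']; exact hcon
          rw [this, card_bot] at hKcard
          apply hFrob.2.1
          rw [← index_eq_one, hidx H hZH, ← hKcard]
        exact ⟨x, by rw [hCK x hxK hxZ]⟩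
      · obtain ⟨x, hxH, hxZ⟩ : ∃ x ∈ H, x ∉ Z := by
          by_contra hcon
          push Not at hcon
          apply hFrob.1
          rw [Subgroup.map_eq_bot_iff, hπ, QuotientGroup.ker_mk']; exact hcon
        refine ⟨x, ?_⟩
        show (centralizer ({x} : Set G)).index = _
        rw [hCH x 1 hxZ (by simpa using hxH)]
        exact index_map_equiv H (MulAut.conj 1)
  · rw [← hHcard, ← hidx H hZH]
    exact Basics.frobenius_coprime hFrob

end Cfsg.Agent.S4283
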