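import Cfsg.Statements.S4290
import Cfsg.Agent.S4276
import Cfsg.Agent.Lib.FGS.TwoTransDesign
import Mathlib

set_option autoImplicit false
open Cfsg
open scoped Pointwise
set_option linter.all false

namespace Cfsg.Agent.S4290

/-- Let G be a doubly transitive group of permutations of a finite set Ω in which a point stabilizer is a Hall subgroup of G (its order is coprime to its index). Then every automorphism of G of odd order is induced by conjugation by a permutation of Ω normalizing G. -/
theorem result {Ω : Type*} [Fintype Ω] (G : Subgroup (Equiv.Perm Ω)) (h2 : MulAction.IsMultiplyPretransitive G Ω 2) (o : Ω) (hHall : (Nat.card (MulAction.stabilizer G o)).Coprime (MulAction.stabilizer G o).index) (α : MulAut G) (hα : Odd (orderOf α)) : ∃ σ : Equiv.Perm Ω, σ ∈ Subgroup.normalizer (G : Set (Equiv.Perm Ω)) ∧ ∀ g : G, ((α g : G) : Equiv.Perm Ω) = σ * (g : Equiv.Perm Ω) * σ⁻¹ := by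
  refine (S4276.solve G h2 o α hα o ?_).1
  classical
  have hidx : (MulAction.stabilizer G o).index = Fintype.card Ω := by
    rcases le_or_gt (Fintype.card Ω) 1 with hle | hn
    · haveI : Subsingleton Ω := Fintype.card_le_one_iff_subsingleton.1 hle
      haveI : Subsingleton G := ⟨fun a b => Subtype.ext (Subsingleton.elim _ _)⟩
      rw [Subgroup.index_eq_one.2 (eq_top_iff.2 fun g _ => (Subsingleton.elim _ _ : g • o = o))]
      have : 0 < Fintype.card Ω := Fintype.card_pos_iff.2 ⟨o⟩
      omega
    · haveI : MulAction.IsMultiplyPretransitive G Ω 2 := h2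
      haveI : MulAction.IsPretransitive G Ω := MulAction.isPretransitive_of_is_two_pretransitive
      rw [MulAction.index_stabilizer_of_transitive, Nat.card_eq_fintype_card]
  rw [hidx] at hHall
  refine hHall.coprime_dvd_left ?_
  rw [← Subgroup.card_map_of_injective (f := α.toMonoidHom) α.injective, Nat.card_coe_set_eq, ← MulAction.index_stabilizer]
  exact Subgroup.index_dvd_card _

end Cfsg.Agent.S4290
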