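import Cfsg.Statements.S4292
import Cfsg.Agent.Lib.Zassenhaus.CharZero
import Cfsg.Agent.Lib.Zassenhaus.Structure
import Cfsg.Agent.Lib.Zassenhaus.DivRing

set_option autoImplicit false
open Cfsg

namespace Cfsg.Agent.S4292

open Zassenhaus

/-- Let A and B be nontrivial finite groups. Then the direct product A × B occurs as a Frobenius complement if and only if A and B both occur as Frobenius complements and the orders of A and B are coprime. -/
theorem result {A B : Type*} [Group A] [Finite A] [Nontrivial A] [Group B] [Finite B] [Nontrivial B] :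
    (∃ (L : Type) (_ : Group L) (_ : Finite L) (H : Subgroup L), Cfsg.IsFrobeniusComplement H ∧ Nonempty ((A × B) ≃* H)) ↔
    ((∃ (L : Type) (_ : Group L) (_ : Finite L) (H : Subgroup L), Cfsg.IsFrobeniusComplement H ∧ Nonempty (A ≃* H)) ∧
     (∃ (L : Type) (_ : Group L) (_ : Finite L) (H : Subgroup L), Cfsg.IsFrobeniusComplement H ∧ Nonempty (B ≃* H)) ∧
     (Nat.card A).Coprime (Nat.card B)) := by
  constructor
  · intro h
    have hF := fc_of_exists h
    refine ⟨(hF.comap (f := MonoidHom.inl A B) fun a b e => congrArg Prod.fst e).exists_complement,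
      (hF.comap (f := MonoidHom.inr A B) fun a b e => congrArg Prod.snd e).exists_complement, ?_⟩
    refine Nat.coprime_of_dvd fun p hp hpA hpB => ?_
    haveI := Fact.mk hp
    obtain ⟨a, ha⟩ := exists_prime_orderOf_dvd_card' p hpA
    obtain ⟨b, hb⟩ := exists_prime_orderOf_dvd_card' p hpB
    have ha' : orderOf ((a, 1) : A × B) = p := by rw [Prod.orderOf, orderOf_one, Nat.lcm_one_right, ha]
    have hb' : orderOf ((1, b) : A × B) = p := by rw [Prod.orderOf, orderOf_one, Nat.lcm_one_left, hb]
    have ha1 : a ≠ 1 := by rintro rfl; rw [orderOf_one] at ha; exact hp.one_lt.ne ha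
    by_cases h2 : p = 2
    · subst h2
      have e := hF.invol_unique (a := ((a, 1) : A × B)) (b := (1, b))
        (fun e => ha1 (congrArg Prod.fst e)) (ha' ▸ pow_orderOf_eq_one _)
        (fun e => by rw [e, orderOf_one] at hb'; exact absurd hb' (by norm_num)) (hb' ▸ pow_orderOf_eq_one _)
      exact ha1 (congrArg Prod.fst e)
    · have hc : Commute ((a, 1) : A × B) (1, b) := Prod.ext (by simp) (by simp)
      have hm : ((a, 1) : A × B) ∈ Subgroup.zpowers ((1, b) : A × B) := by
        rw [← hF.zpowers_eq h2 ha' hb' hc]; exact Subgroup.mem_zpowers _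
      obtain ⟨i, hi⟩ := Subgroup.mem_zpowers_iff.mp hm
      apply ha1
      have := congrArg Prod.fst hi
      simpa using this.symm
  · rintro ⟨hA, hB, hco⟩
    exact ((fc_of_exists hA).intFpf.prod (fc_of_exists hB).intFpf hco).fc.exists_complement

end Cfsg.Agent.S4292
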