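import Cfsg.Statements.S4296
import Cfsg.Agent.Lib.Zassenhaus.KernelSquare
import Cfsg.Agent.Lib.Zassenhaus.SixTypes

set_option autoImplicit false
open Cfsg
open scoped Pointwise

namespace Cfsg.Agent.S4296

open Zassenhaus QuaternionGroup

/-- Let H be a Frobenius complement in a finite group, and suppose some Sylow subgroup of H is not cyclic. Then the number of elements of the Frobenius kernel (the identity together with the elements lying in no conjugate of H) is an odd perfect square. -/
theorem result {L : Type*} [Group L] [Finite L] (H : Subgroup L) (hF : Cfsg.IsFrobeniusComplement H)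
    (hZ : ∃ (p : ℕ) (_ : Fact p.Prime) (P : Sylow p H), ¬ IsCyclic P) :
    Odd (Nat.card (Cfsg.frobeniusKernel H)) ∧ IsSquare (Nat.card (Cfsg.frobeniusKernel H)) := by
  classical
  obtain ⟨N, hNset, hN, hc, hcard⟩ := Basics.frobenius_kernel_exists hF
  rw [← hNset, SetLike.coe_sort_coe]
  obtain ⟨p, hp, P, hP⟩ := hZ
  haveI := hp
  have hFC := fc_of_complement hF
  obtain rfl : p = 2 := by
    by_contra h
    exact hP (hFC.isCyclic_sylow h P)
  obtain ⟨n, ⟨e⟩⟩ := ((hFC.subgroup (P : Subgroup H)).two_group P.isPGroup').resolve_left hP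
  -- the quaternion generators
  have hn : 1 ≤ n := by
    by_contra h
    obtain rfl : n = 0 := by omega
    haveI : IsCyclic (QuaternionGroup (2 ^ 0)) := isCyclic_of_orderOf_eq_card (xa 0 : QuaternionGroup (2 ^ 0))
      (by rw [orderOf_xa, Nat.card_eq_fintype_card, QuaternionGroup.card]; rfl)
    exact hP (isCyclic_of_surjective e.symm.toMonoidHom e.symm.surjective)
  obtain ⟨k, hk⟩ : ∃ k : ℕ, 2 ^ n = k + k := ⟨2 ^ (n - 1), by
    rw [← two_mul, ← pow_succ', Nat.sub_add_cancel hn]⟩
  set z : QuaternionGroup (2 ^ n) := a ((2 ^ n : ℕ) : ZMod (2 * 2 ^ n)) with hz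
  have hz1 : z ≠ 1 := by
    intro h
    rw [hz, one_def] at h
    injection h with h
    rw [ZMod.natCast_eq_zero_iff] at h
    have := Nat.le_of_dvd (Nat.two_pow_pos n) h
    have := Nat.two_pow_pos n
    omega
  have hmm : ((2 ^ n : ℕ) : ZMod (2 * 2 ^ n)) + ((2 ^ n : ℕ) : ZMod (2 * 2 ^ n)) = 0 := by
    rw [← Nat.cast_add, ← two_mul, ZMod.natCast_self]
  set i : QuaternionGroup (2 ^ n) := a (k : ZMod (2 * 2 ^ n)) with hi
  set j : QuaternionGroup (2 ^ n) := xa 0 with hj
  have hi2 : i * i = z := by rw [hi, hz, a_mul_a, hk, Nat.cast_add]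
  have hj2 : j * j = z := by rw [hj, hz, xa_mul_xa, sub_zero, add_zero]
  have hji : j * i = z * (i * j) := by
    rw [hi, hj, hz, xa_mul_a, a_mul_xa, a_mul_xa, zero_add]
    congr 1
    rw [hk, Nat.cast_add] at hmm ⊢
    linear_combination hmm
  -- the action
  let c : QuaternionGroup (2 ^ n) →* MulAut N :=
    ((MulAut.conjNormal (H := N)).comp H.subtype).comp ((P : Subgroup H).subtype.comp e.symm.toMonoidHom)
  have hfix : MonoidHom.FixedPointFree (c z) := by
    intro u hu
    by_contra hu1
    let hh : L := (((e.symm z : (P : Subgroup H)) : H) : L)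
    have h1 := congrArg (fun v : N => (v : L)) hu
    change ((MulAut.conjNormal hh u : N) : L) = (u : L) at h1
    rw [MulAut.conjNormal_apply] at h1
    have hh1 : hh ≠ 1 := by
      intro h
      apply hz1
      apply e.symm.injective
      rw [map_one]
      exact Subtype.ext (Subtype.ext h)
    have hhH : hh ∈ H := ((e.symm z : (P : Subgroup H)) : H).2
    have hkH : (u : L) ∉ H := fun hm => hu1 (Subtype.ext (by
      have : (u : L) ∈ N ⊓ H := ⟨u.2, hm⟩
      rwa [hc.disjoint.eq_bot, Subgroup.mem_bot] at this))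
    have h2 : hh ∈ H ⊓ (MulAut.conj (u : L) • H) := by
      refine Subgroup.mem_inf.mpr ⟨hhH, ?_⟩
      rw [Subgroup.mem_pointwise_smul_iff_inv_smul_mem, MulAut.smul_def, ← map_inv, MulAut.conj_apply,
        inv_inv]
      have e : (u : L)⁻¹ * hh * u = hh := by
        rw [mul_assoc, inv_mul_eq_iff_eq_mul, ← mul_inv_eq_iff_eq_mul.mp h1]
      rw [e]; exact hhH
    rw [hF.2.2 _ hkH, Subgroup.mem_bot] at h2
    exact hh1 h2
  have hinvol : Function.Involutive (c z) := fun u => by
    rw [← MulAut.mul_apply, ← map_mul, hz, a_mul_a, hmm, ← one_def, map_one, MulAut.one_apply]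
  have hzinv : ∀ u, c z u = u⁻¹ := congrFun (hfix.coe_eq_inv_of_involutive hinvol)
  have hodd := hfix.odd_card_of_involutive hinvol
  refine ⟨hodd, ?_⟩
  letI : CommGroup N := { (inferInstance : Group N) with mul_comm := hfix.commute_all_of_involutive hinvol }
  refine isSquare_card_of_quaternion hodd (c i).toMonoidHom (c j).toMonoidHom ?_ ?_ ?_
  · intro u
    show c i (c i u) = u⁻¹
    rw [← MulAut.mul_apply, ← map_mul, hi2, hzinv]
  · intro u
    show c j (c j u) = u⁻¹
    rw [← MulAut.mul_apply, ← map_mul, hj2, hzinv]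
  · intro u
    show c j (c i u) = (c i (c j u))⁻¹
    rw [← MulAut.mul_apply, ← map_mul, hji, map_mul, MulAut.mul_apply, hzinv, map_mul, MulAut.mul_apply]

end Cfsg.Agent.S4296
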