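import Cfsg.Statements.S4295
import Cfsg.Agent.S4296
import Cfsg.Agent.Lib.Invol.Quaternion

set_option autoImplicit false
open Cfsg

namespace Cfsg.Agent.S4295

open scoped Pointwise in
theorem exists_group {R : Type} [CommRing R] [Finite R] (a b : R) (hab : a ^ 2 + b ^ 2 = -1)
    (h2 : ∀ r : R, r + r = 0 → r = 0) (hne : (1 : R) ≠ 0) :
    ∃ (L : Type) (_ : Group L) (_ : Finite L) (H : Subgroup L), Cfsg.IsFrobeniusComplement H ∧
      Nonempty (H ≃* QuaternionGroup 2) ∧ Nat.card (Cfsg.frobeniusKernel H) = Nat.card R * Nat.card R := by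
  classical
  let eI : (R × R) ≃+ (R × R) :=
    { toFun := fun v => (-v.2, v.1)
      invFun := fun v => (v.2, -v.1)
      left_inv := fun v => by simp
      right_inv := fun v => by simp
      map_add' := fun v w => by ext <;> simp [add_comm] }
  let eJ : (R × R) ≃+ (R × R) :=
    { toFun := fun v => (a * v.1 + b * v.2, b * v.1 - a * v.2)
      invFun := fun v => (-(a * v.1 + b * v.2), -(b * v.1 - a * v.2))
      left_inv := fun v => by
        refine Prod.ext ?_ ?_
        · linear_combination (-v.1) * hab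
        · linear_combination (-v.2) * hab
      right_inv := fun v => by
        refine Prod.ext ?_ ?_
        · linear_combination (-v.1) * hab
        · linear_combination (-v.2) * hab
      map_add' := fun v w => by ext <;> simp <;> ring }
  let N := Multiplicative (R × R)
  let i : MulAut N := AddEquiv.toMultiplicative eI
  let j : MulAut N := AddEquiv.toMultiplicative eJ
  have hji : j * i * j⁻¹ = i⁻¹ := by
    rw [mul_inv_eq_iff_eq_mul, eq_inv_mul_iff_mul_eq]
    apply MulEquiv.ext
    intro u
    apply Multiplicative.toAdd.injective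
    show eI (eJ (eI u.toAdd)) = eJ u.toAdd
    refine Prod.ext ?_ ?_
    · show -(b * -u.toAdd.2 - a * u.toAdd.1) = a * u.toAdd.1 + b * u.toAdd.2
      ring
    · show a * -u.toAdd.2 + b * u.toAdd.1 = b * u.toAdd.1 - a * u.toAdd.2
      ring
  have hjj : j * j = i ^ 2 := by
    rw [pow_two]
    apply MulEquiv.ext
    intro u
    apply Multiplicative.toAdd.injective
    show eJ (eJ u.toAdd) = eI (eI u.toAdd)
    refine Prod.ext ?_ ?_
    · show a * (a * u.toAdd.1 + b * u.toAdd.2) + b * (b * u.toAdd.1 - a * u.toAdd.2) = -u.toAdd.1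
      linear_combination u.toAdd.1 * hab
    · show b * (a * u.toAdd.1 + b * u.toAdd.2) - a * (b * u.toAdd.1 - a * u.toAdd.2) = -u.toAdd.2
      linear_combination u.toAdd.2 * hab
  have hi4 : i ^ (2 * 2) = 1 := by
    apply MulEquiv.ext
    intro u
    apply Multiplicative.toAdd.injective
    show eI (eI (eI (eI u.toAdd))) = u.toAdd
    simp [eI]
  obtain ⟨φ, hφa, -⟩ := Invol.exists_quaternionHom hji 2 hjj hi4
  have hz : ∀ u : N, φ (QuaternionGroup.a 2) u = u → u = 1 := by
    intro u hu
    rw [show (2 : ZMod (2 * 2)) = ((2 : ℤ) : ZMod (2 * 2)) by decide, hφa,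
      show (2 : ℤ) = ((2 : ℕ) : ℤ) by norm_num, zpow_natCast, pow_two] at hu
    have h1 := congrArg (fun w : N => w.toAdd) hu
    change eI (eI u.toAdd) = u.toAdd at h1
    have e1 : -u.toAdd.1 = u.toAdd.1 := congrArg Prod.fst h1
    have e2 : -u.toAdd.2 = u.toAdd.2 := congrArg Prod.snd h1
    apply Multiplicative.toAdd.injective
    refine Prod.ext (h2 _ ?_) (h2 _ ?_)
    · show u.toAdd.1 + u.toAdd.1 = 0
      linear_combination -e1
    · show u.toAdd.2 + u.toAdd.2 = 0
      linear_combination -e2
  have hfpf : ∀ x : QuaternionGroup 2, x ≠ 1 → ∀ u : N, φ x u = u → u = 1 := by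
    intro x hx u hu
    have hd : ∀ x : QuaternionGroup 2, x ≠ 1 → x = QuaternionGroup.a 2 ∨ x * x = QuaternionGroup.a 2 := by decide
    rcases hd x hx with rfl | h
    · exact hz u hu
    · refine hz u ?_
      rw [← h, map_mul, MulAut.mul_apply, hu, hu]
  haveI : Finite (N ⋊[φ] QuaternionGroup 2) := Finite.of_equiv _ (SemidirectProduct.equivProd).symm
  let H : Subgroup (N ⋊[φ] QuaternionGroup 2) := (SemidirectProduct.inr : QuaternionGroup 2 →* _).range
  have hmem : ∀ g, g ∈ H ↔ g.left = 1 := by
    intro g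
    constructor
    · rintro ⟨x, rfl⟩; exact SemidirectProduct.left_inr x
    · intro h
      exact ⟨g.right, SemidirectProduct.ext (by rw [SemidirectProduct.left_inr, h]) (SemidirectProduct.right_inr _)⟩
  have hHeq : H ≃* QuaternionGroup 2 :=
    (MonoidHom.ofInjective (SemidirectProduct.inr_injective (φ := φ))).symm
  have hcH : Nat.card H = Nat.card (QuaternionGroup 2) := Nat.card_congr hHeq.toEquiv
  have hcN : Nat.card N = Nat.card R * Nat.card R :=
    (Nat.card_congr Multiplicative.toAdd).trans (Nat.card_prod R R)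
  have hidx : H.index = Nat.card N := by
    refine Nat.eq_of_mul_eq_mul_left (Nat.card_pos (α := H)) ?_
    rw [H.card_mul_index, SemidirectProduct.card, hcH, mul_comm]
  have hR : 1 < Nat.card R := Finite.one_lt_card_iff_nontrivial.mpr ⟨⟨1, 0, hne⟩⟩
  have hF : Cfsg.IsFrobeniusComplement H := by
    refine ⟨?_, ?_, fun g hg => ?_⟩
    · intro h
      rw [h, Subgroup.card_bot] at hcH
      rw [Nat.card_eq_fintype_card, QuaternionGroup.card] at hcH
      omega
    · intro h
      rw [h, Subgroup.index_top, hcN] at hidx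
      nlinarith
    · rw [Subgroup.eq_bot_iff_forall]
      rintro x ⟨hx1, ⟨y, hy, hyx⟩⟩
      change g * y * g⁻¹ = x at hyx
      rw [hmem] at hg
      have e : x * g = g * y := by rw [← hyx]; group
      have el := congrArg SemidirectProduct.left e
      rw [SemidirectProduct.mul_left, SemidirectProduct.mul_left, (hmem x).mp hx1, (hmem y).mp hy,
        one_mul, map_one, mul_one] at el
      by_contra hne1
      exact hg (hfpf x.right (fun h => hne1 (SemidirectProduct.ext ((hmem x).mp hx1) h)) _ el)
  obtain ⟨K, hK, -, -, hKc⟩ := Basics.frobenius_kernel_exists hF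
  refine ⟨_, inferInstance, inferInstance, H, hF, ⟨hHeq⟩, ?_⟩
  rw [← hK, SetLike.coe_sort_coe, hKc, hidx, hcN]

theorem prime_roots {p : ℕ} (hp : p.Prime) (h2 : p ≠ 2) :
    ∃ a b : ZMod p, a ^ 2 + b ^ 2 = -1 ∧ ∀ r : ZMod p, r + r = 0 → r = 0 := by
  haveI := Fact.mk hp
  obtain ⟨a, b, h⟩ := ZMod.sq_add_sq p (-1)
  refine ⟨a, b, h, fun r hr => ?_⟩
  have : (2 : ZMod p) * r = 0 := by rw [two_mul]; exact hr
  refine (mul_eq_zero.mp this).resolve_left fun e => h2 ?_
  rw [show (2 : ZMod p) = ((2 : ℕ) : ZMod p) from Nat.cast_ofNat.symm, ZMod.natCast_eq_zero_iff] at e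
  exact (Nat.prime_dvd_prime_iff_eq hp Nat.prime_two).mp e

/-- For a natural number m the following are equivalent: (a) some finite group has a Frobenius complement isomorphic to the quaternion group of order 8 whose Frobenius kernel (the identity together with the elements lying in no conjugate of the complement) has exactly m elements; (b) m is an odd perfect square greater than 1. -/
theorem result (m : ℕ) :
    (∃ (L : Type) (_ : Group L) (_ : Finite L) (H : Subgroup L), Cfsg.IsFrobeniusComplement H ∧
        Nonempty (H ≃* QuaternionGroup 2) ∧ Nat.card (Cfsg.frobeniusKernel H) = m) ↔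
    (Odd m ∧ IsSquare m ∧ 1 < m) := by
  classical
  constructor
  · rintro ⟨L, _, _, H, hF, ⟨e⟩, hm⟩
    obtain ⟨P⟩ : Nonempty (Sylow 2 H) := inferInstance
    have hnc : ¬ IsCyclic (P : Subgroup H) := by
      intro hc
      have hH8 : Nat.card H = 2 ^ 3 := by
        rw [Nat.card_congr e.toEquiv, Nat.card_eq_fintype_card, QuaternionGroup.card]; rfl
      have htop : (P : Subgroup H) = ⊤ := Subgroup.eq_top_of_card_eq _ (by
        rw [P.card_eq_multiplicity, hH8]
        rw [Nat.Prime.factorization_pow Nat.prime_two, Finsupp.single_eq_same])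
      haveI := hc
      haveI : IsCyclic H := isCyclic_of_surjective (P : Subgroup H).subtype (fun h => ⟨⟨h, htop ▸ Subgroup.mem_top h⟩, rfl⟩)
      haveI : IsCyclic (QuaternionGroup 2) := isCyclic_of_surjective e.toMonoidHom e.surjective
      obtain ⟨x, hx⟩ := IsCyclic.exists_ofOrder_eq_natCard (α := QuaternionGroup 2)
      rw [Nat.card_eq_fintype_card, QuaternionGroup.card] at hx
      have h4 : ∀ x : QuaternionGroup 2, x * x * (x * x) = 1 := by decide
      have := orderOf_dvd_of_pow_eq_one (show x ^ 4 = 1 by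
        rw [pow_succ, pow_succ, pow_succ, pow_one, mul_assoc (x * x)]; exact h4 x)
      rw [hx] at this
      omega
    obtain ⟨h1, h2⟩ := S4296.result H hF ⟨2, inferInstance, P, hnc⟩
    refine ⟨hm ▸ h1, hm ▸ h2, ?_⟩
    obtain ⟨K, hK, -, -, hKc⟩ := Basics.frobenius_kernel_exists hF
    rw [← hK, SetLike.coe_sort_coe, hKc] at hm
    have h0 : H.index ≠ 0 := Subgroup.index_ne_zero_of_finite
    have : H.index ≠ 1 := fun h => hF.2.1 (Subgroup.index_eq_one.mp h)
    omega
  · rintro ⟨hodd, ⟨n, rfl⟩, h1⟩
    have hn0 : n ≠ 0 := by rintro rfl; simp at h1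
    have hn : Odd n := Nat.Odd.of_mul_left hodd
    let l := n.primeFactorsList
    have hl : ∀ i : Fin l.length, (l[i]).Prime ∧ l[i] ≠ 2 := fun i => by
      have hm : l[i] ∈ n.primeFactorsList := List.getElem_mem _
      refine ⟨Nat.prime_of_mem_primeFactorsList hm, fun e => ?_⟩
      have := Nat.dvd_of_mem_primeFactorsList hm
      rw [e] at this
      exact (Nat.not_even_iff_odd.mpr hn) (even_iff_two_dvd.mpr this)
    choose a b hab h2 using fun i => prime_roots (hl i).1 (hl i).2
    haveI : ∀ i : Fin l.length, Fact (l[i]).Prime := fun i => ⟨(hl i).1⟩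
    haveI : ∀ i : Fin l.length, NeZero l[i] := fun i => ⟨(hl i).1.ne_zero⟩
    have hcard : Nat.card (∀ i : Fin l.length, ZMod l[i]) = n := by
      rw [Nat.card_pi]
      simp only [Nat.card_zmod]
      show ∏ x : Fin l.length, l[(x : ℕ)] = n
      rw [Fin.prod_univ_getElem]
      exact Nat.prod_primeFactorsList hn0
    obtain ⟨L, g, f, H, hF, he, hm⟩ := exists_group (R := ∀ i : Fin l.length, ZMod l[i]) a b
      (funext hab) (fun r hr => funext fun i => h2 i (r i) (congrFun hr i)) (by
        intro h
        have : Subsingleton (∀ i : Fin l.length, ZMod l[i]) := subsingleton_of_zero_eq_one h.symm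
        have h3 : Nat.card (∀ i : Fin l.length, ZMod l[i]) = 1 := Nat.card_eq_one_iff_unique.mpr ⟨this, ⟨0⟩⟩
        rw [hcard] at h3
        subst h3
        simp at h1)
    exact ⟨L, g, f, H, hF, he, by rw [hm, hcard]⟩

end Cfsg.Agent.S4295
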