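import Cfsg.Statements.S4297
import Cfsg.Agent.Lib.FrobExamples.Basic
import Mathlib.NumberTheory.PrimesCongruentOne
import Mathlib.RingTheory.IntegralDomain
import Mathlib.GroupTheory.SpecificGroups.Quaternion
import Mathlib.LinearAlgebra.Matrix.SpecialLinearGroup
import Mathlib.Tactic

set_option autoImplicit false
open Cfsg
open scoped Pointwise
set_option linter.all false

namespace Cfsg.Agent.S4297

lemma exists_root (m : ℕ) (hm : m ≠ 0) : ∃ (q : ℕ) (_ : Fact q.Prime) (ζ : (ZMod q)ˣ), m < q ∧ orderOf ζ = m := by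
  obtain ⟨q, hq, hgt, hmod⟩ := Nat.exists_prime_gt_modEq_one m hm
  haveI := Fact.mk hq
  obtain ⟨g, hg⟩ := IsCyclic.exists_ofOrder_eq_natCard (α := (ZMod q)ˣ)
  have hd : m ∣ q - 1 := (Nat.modEq_iff_dvd' hq.one_le).mp hmod.symm
  rw [Nat.card_eq_fintype_card, ZMod.card_units] at hg
  refine ⟨q, ‹_›, g ^ ((q - 1) / m), hgt, ?_⟩
  have hq1 : q - 1 ≠ 0 := by have := hq.two_le; omega
  rw [orderOf_pow_of_dvd ((Nat.div_pos (Nat.le_of_dvd (by omega) hd) (Nat.pos_of_ne_zero hm)).ne') (by rw [hg]; exact Nat.div_dvd_of_dvd hd), hg,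
    Nat.div_div_self hd hq1]

open QuaternionGroup in
lemma main (n : ℕ) (hn : 2 ≤ n) :
    ∃ (L : Type) (_ : Group L) (_ : Finite L) (H : Subgroup L),
      Cfsg.IsFrobeniusComplement H ∧ Nonempty (QuaternionGroup n ≃* H) := by
  haveI : NeZero n := ⟨by omega⟩
  obtain ⟨q, _, ζ, hgt, hζ⟩ := exists_root (2 * n) (by omega)
  let e : ZMod (2 * n) → ZMod q := fun i => ((ζ ^ i.val : (ZMod q)ˣ) : ZMod q)
  have he : ∀ i j, e (i + j) = e i * e j := fun i j => by
    simp only [e, ← Units.val_mul, ← pow_add, ZMod.val_add]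
    conv_rhs => rw [← pow_mod_orderOf, hζ]
  have he0 : e 0 = 1 := by simp [e]
  have he1 : ∀ i, e i = 1 → i = 0 := fun i h => by
    have h' : ζ ^ i.val = 1 := Units.ext h
    have := orderOf_dvd_of_pow_eq_one h'
    rw [hζ] at this
    exact (ZMod.val_eq_zero i).mp (Nat.eq_zero_of_dvd_of_lt this (ZMod.val_lt i))
  have hn2 : (n : ZMod (2 * n)) + n = 0 := by
    rw [← Nat.cast_add, ← two_mul, ZMod.natCast_self]
  have hen : e (n : ZMod (2 * n)) = -1 := by
    have h2 : e (n : ZMod (2 * n)) * e (n : ZMod (2 * n)) = 1 := by rw [← he, hn2, he0]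
    rcases mul_self_eq_one_iff.mp h2 with h | h
    · exfalso
      have := congrArg ZMod.val (he1 _ h)
      rw [ZMod.val_natCast, ZMod.val_zero, Nat.mod_eq_of_lt (by omega)] at this
      omega
    · exact h
  have hei : ∀ i, e (-i) * e i = 1 := fun i => by rw [← he, neg_add_cancel, he0]
  let M : QuaternionGroup n → Matrix (Fin 2) (Fin 2) (ZMod q) := fun g => match g with
    | a i => !![e i, 0; 0, e (-i)]
    | xa i => !![0, -e (-i); e i, 0]
  have hM : ∀ g h, M (g * h) = M g * M h := by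
    rintro (i | i) (j | j)
    · show !![e (i + j), 0; 0, e (-(i + j))] = !![e i, 0; 0, e (-i)] * !![e j, 0; 0, e (-j)]
      rw [Matrix.mul_fin_two, neg_add]
      simp [he]
    · show !![0, -e (-(j - i)); e (j - i), 0] = !![e i, 0; 0, e (-i)] * !![0, -e (-j); e j, 0]
      rw [Matrix.mul_fin_two, show -(j - i) = i + -j by ring, show j - i = -i + j by ring]
      simp [he]
    · show !![0, -e (-(i + j)); e (i + j), 0] = !![0, -e (-i); e i, 0] * !![e j, 0; 0, e (-j)]
      rw [Matrix.mul_fin_two, neg_add]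
      simp [he]
    · show !![e (n + j - i), 0; 0, e (-(n + j - i))] = !![0, -e (-i); e i, 0] * !![0, -e (-j); e j, 0]
      have hnn : -(n : ZMod (2 * n)) = n := neg_eq_of_add_eq_zero_left hn2
      rw [Matrix.mul_fin_two, show (n : ZMod (2 * n)) + j - i = n + (-i + j) by ring, neg_add, neg_add, neg_neg, hnn]
      simp [he, hen]
  let ρ : QuaternionGroup n →* Matrix (Fin 2) (Fin 2) (ZMod q) :=
    { toFun := M
      map_one' := by
        show !![e 0, 0; 0, e (-0)] = 1
        rw [neg_zero, he0, Matrix.one_fin_two]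
      map_mul' := hM }
  refine FrobExamples.exists_of_matrix ρ ?_
  rintro (i | i) hg
  · show (!![e i, 0; 0, e (-i)] - 1).det ≠ 0
    have hi : i ≠ 0 := fun h => hg (by rw [h, QuaternionGroup.a_zero])
    simp [Matrix.one_fin_two, Matrix.det_fin_two, sub_ne_zero]
    refine ⟨fun h => hi (he1 i h), fun h => hi (neg_eq_zero.mp (he1 _ h))⟩
  · show (!![0, -e (-i); e i, 0] - 1).det ≠ 0
    simp [Matrix.one_fin_two, Matrix.det_fin_two, hei i]
    rw [show (1 : ZMod q) + 1 = ((2 : ℕ) : ZMod q) by norm_num, ZMod.natCast_eq_zero_iff 2 q]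
    exact fun h => absurd (Nat.le_of_dvd (by norm_num) h) (by omega)


/-- For every n ≥ 2 the dicyclic group of order 4n (generated by an element a of order 2n and an element x with x² = aⁿ and x a x⁻¹ = a⁻¹) occurs as a Frobenius complement of some finite Frobenius group. -/
theorem result (n : ℕ) (hn : 2 ≤ n) :
    ∃ (L : Type) (_ : Group L) (_ : Finite L) (H : Subgroup L), Cfsg.IsFrobeniusComplement H ∧ Nonempty (H ≃* QuaternionGroup n) := by
  obtain ⟨L, i1, i2, H, hH, ⟨e⟩⟩ := main n hn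
  exact ⟨L, i1, i2, H, hH, ⟨e.symm⟩⟩

end Cfsg.Agent.S4297
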