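import Cfsg.Statements.S4298
import Cfsg.Agent.Lib.FrobExamples.Basic
import Mathlib.NumberTheory.PrimesCongruentOne
import Mathlib.RingTheory.IntegralDomain
import Mathlib.GroupTheory.SpecificGroups.Quaternion
import Mathlib.LinearAlgebra.Matrix.SpecialLinearGroup
import Mathlib.Tactic

set_option autoImplicit false
open Cfsg
open scoped Pointwise
set_option linter.all false

namespace Cfsg.Agent.S4298

def tab : List ℕ := [0, 0, 0, 0, 0, 0, 0, 0, 0, 0, 0, 0, 0, 0, 0, 382, 309, 94, 0, 0, 0, 273, 61, 471, 0, 0, 0, 0, 126, 0, 0, 292, 0, 0, 362, 0, 0, 49, 0, 0, 0, 541, 215, 0, 0, 0, 605, 0, 597, 0, 0, 0, 0, 328, 0, 0, 504, 0, 0, 418, 0, 0, 488, 0, 0, 170, 0, 427, 0, 183, 0, 0, 0, 0, 106, 560, 0, 0, 0, 239, 0]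

/-- The entries of the image of `(a b; c d)` in `SL(2,5)`. -/
def img (a b c d : ZMod 3) : ZMod 5 × ZMod 5 × ZMod 5 × ZMod 5 :=
  let v := tab.getD (a.val * 27 + b.val * 9 + c.val * 3 + d.val) 0
  (((v / 125 : ℕ) : ZMod 5), ((v / 25 : ℕ) : ZMod 5), ((v / 5 : ℕ) : ZMod 5), ((v : ℕ) : ZMod 5))

lemma img_spec : ∀ a b c d : ZMod 3, a * d - b * c = 1 →
    ((((img a b c d).1 - 1) * ((img a b c d).2.2.2 - 1) - (img a b c d).2.1 * (img a b c d).2.2.1 ≠ 0) ∨
      (a = 1 ∧ b = 0 ∧ c = 0 ∧ d = 1)) := by decide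

lemma img_mul : ∀ a b c d a' b' c' d' : ZMod 3, a * d - b * c = 1 → a' * d' - b' * c' = 1 →
    img (a * a' + b * c') (a * b' + b * d') (c * a' + d * c') (c * b' + d * d') =
      ((img a b c d).1 * (img a' b' c' d').1 + (img a b c d).2.1 * (img a' b' c' d').2.2.1,
       (img a b c d).1 * (img a' b' c' d').2.1 + (img a b c d).2.1 * (img a' b' c' d').2.2.2,
       (img a b c d).2.2.1 * (img a' b' c' d').1 + (img a b c d).2.2.2 * (img a' b' c' d').2.2.1,
       (img a b c d).2.2.1 * (img a' b' c' d').2.1 + (img a b c d).2.2.2 * (img a' b' c' d').2.2.2) := by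
  decide +kernel

lemma img_one : img 1 0 0 1 = (1, 0, 0, 1) := by decide

lemma main :
    ∃ (L : Type) (_ : Group L) (_ : Finite L) (H : Subgroup L),
      Cfsg.IsFrobeniusComplement H ∧ Nonempty (Matrix.SpecialLinearGroup (Fin 2) (ZMod 3) ≃* H) := by
  haveI : Fact (Nat.Prime 5) := ⟨by norm_num⟩
  let P := fun A : Matrix.SpecialLinearGroup (Fin 2) (ZMod 3) => img (A 0 0) (A 0 1) (A 1 0) (A 1 1)
  have hdet : ∀ A : Matrix.SpecialLinearGroup (Fin 2) (ZMod 3), A 0 0 * A 1 1 - A 0 1 * A 1 0 = 1 := fun A => by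
    have := A.2
    rwa [Matrix.det_fin_two] at this
  let ρ : Matrix.SpecialLinearGroup (Fin 2) (ZMod 3) →* Matrix (Fin 2) (Fin 2) (ZMod 5) :=
    { toFun := fun A => !![(P A).1, (P A).2.1; (P A).2.2.1, (P A).2.2.2]
      map_one' := by
        simp only [P, Matrix.SpecialLinearGroup.coe_one, Matrix.one_apply_eq, Matrix.one_apply_ne (show (0 : Fin 2) ≠ 1 by decide),
          Matrix.one_apply_ne (show (1 : Fin 2) ≠ 0 by decide), img_one]
        exact Matrix.one_fin_two.symm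
      map_mul' := fun A B => by
        have h : P (A * B) = _ := (by
          simp only [P, Matrix.SpecialLinearGroup.coe_mul, Matrix.mul_apply, Fin.sum_univ_two]
          exact img_mul _ _ _ _ _ _ _ _ (hdet A) (hdet B))
        simp only [h]
        rw [Matrix.mul_fin_two] }
  haveI : Nontrivial (Matrix.SpecialLinearGroup (Fin 2) (ZMod 3)) := ⟨⟨⟨!![1, 1; 0, 1], by simp [Matrix.det_fin_two]⟩, 1, by
    intro h
    have := congrArg (fun A : Matrix.SpecialLinearGroup (Fin 2) (ZMod 3) => A 0 1) h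
    simp at this⟩⟩
  refine FrobExamples.exists_of_matrix ρ fun A hA => ?_
  rcases img_spec _ _ _ _ (hdet A) with h | ⟨h1, h2, h3, h4⟩
  · show (!![(P A).1, (P A).2.1; (P A).2.2.1, (P A).2.2.2] - 1).det ≠ 0
    simpa [Matrix.one_fin_two, Matrix.det_fin_two] using h
  · refine absurd ?_ hA
    ext i j
    fin_cases i <;> fin_cases j <;> simp [h1, h2, h3, h4]


/-- The group SL(2,3) of order 24 (the binary tetrahedral group) occurs as a Frobenius complement of some finite Frobenius group. -/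
theorem result :
    ∃ (L : Type) (_ : Group L) (_ : Finite L) (H : Subgroup L), Cfsg.IsFrobeniusComplement H ∧ Nonempty (H ≃* Matrix.SpecialLinearGroup (Fin 2) (ZMod 3)) := by
  obtain ⟨L, i1, i2, H, hH, ⟨e⟩⟩ := main
  exact ⟨L, i1, i2, H, hH, ⟨e.symm⟩⟩

end Cfsg.Agent.S4298
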