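import Cfsg.Statements.S4299
import Cfsg.Agent.Lib.FrobExamples.Basic
import Mathlib.NumberTheory.PrimesCongruentOne
import Mathlib.RingTheory.IntegralDomain
import Mathlib.GroupTheory.SpecificGroups.Quaternion
import Mathlib.LinearAlgebra.Matrix.SpecialLinearGroup
import Mathlib.Tactic

set_option autoImplicit false
open Cfsg
open scoped Pointwise
set_option linter.all false

namespace Cfsg.Agent.S4299

lemma exists_root (m : ℕ) (hm : m ≠ 0) : ∃ (q : ℕ) (_ : Fact q.Prime) (ζ : (ZMod q)ˣ), m < q ∧ orderOf ζ = m := by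
  obtain ⟨q, hq, hgt, hmod⟩ := Nat.exists_prime_gt_modEq_one m hm
  haveI := Fact.mk hq
  obtain ⟨g, hg⟩ := IsCyclic.exists_ofOrder_eq_natCard (α := (ZMod q)ˣ)
  have hd : m ∣ q - 1 := (Nat.modEq_iff_dvd' hq.one_le).mp hmod.symm
  rw [Nat.card_eq_fintype_card, ZMod.card_units] at hg
  refine ⟨q, ‹_›, g ^ ((q - 1) / m), hgt, ?_⟩
  have hq1 : q - 1 ≠ 0 := by have := hq.two_le; omega
  rw [orderOf_pow_of_dvd ((Nat.div_pos (Nat.le_of_dvd (by omega) hd) (Nat.pos_of_ne_zero hm)).ne') (by rw [hg]; exact Nat.div_dvd_of_dvd hd), hg,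
    Nat.div_div_self hd hq1]


/-- Every nontrivial finite cyclic group occurs as a Frobenius complement of some finite Frobenius group. -/
theorem result {C : Type*} [Group C] [Finite C] [IsCyclic C] [Nontrivial C] :
    ∃ (L : Type) (_ : Group L) (_ : Finite L) (H : Subgroup L), Cfsg.IsFrobeniusComplement H ∧ Nonempty (C ≃* H) := by
  obtain ⟨q, _, ζ, -, hζ⟩ := exists_root (Nat.card C) Nat.card_pos.ne'
  let e : C ≃* Subgroup.zpowers ζ := mulEquivOfCyclicCardEq (by rw [Nat.card_zpowers, hζ])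
  let u : C →* (ZMod q)ˣ := (Subgroup.zpowers ζ).subtype.comp e.toMonoidHom
  let ρ : C →* Matrix (Fin 1) (Fin 1) (ZMod q) := (Matrix.scalar (Fin 1)).toMonoidHom.comp ((Units.coeHom (ZMod q)).comp u)
  refine FrobExamples.exists_of_matrix ρ fun g hg => ?_
  have hu : u g ≠ 1 := fun h => hg (e.injective (Subtype.ext (h.trans (by simp))))
  simp only [Matrix.det_fin_one, ρ]
  simp only [MonoidHom.coe_comp, Function.comp_apply, RingHom.toMonoidHom_eq_coe, MonoidHom.coe_coe, Units.coeHom_apply,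
    Matrix.sub_apply, Matrix.scalar_apply, Matrix.diagonal_apply_eq, Matrix.one_apply_eq]
  rw [sub_ne_zero]
  exact fun h => hu (Units.ext h)

end Cfsg.Agent.S4299
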