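import Cfsg.Statements.S4300
-- import your own Cfsg.Agent.* helpers here

set_option autoImplicit false
open Cfsg
open scoped Pointwise
set_option linter.all false

namespace Cfsg.Agent.S4300

/-- Let G act faithfully and primitively on a set X, and suppose the stabilizer of some point is a simple group. Then either G is simple, or G has a normal subgroup, neither trivial nor the whole group, that acts regularly on X (transitively with trivial point stabilizers). -/
theorem result {G : Type*} [Group G] {X : Type*} [MulAction G X] [FaithfulSMul G X]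
    (hprim : MulAction.IsPreprimitive G X) (x : X) (hsimple : IsSimpleGroup (MulAction.stabilizer G x)) :
    IsSimpleGroup G ∨ ∃ N : Subgroup G, N.Normal ∧ N ≠ ⊥ ∧ N ≠ ⊤ ∧
      MulAction.IsPretransitive N X ∧ ∀ y : X, MulAction.stabilizer N y = ⊥ := by
  classical
  haveI := hprim
  by_cases hG : IsSimpleGroup G
  · exact Or.inl hG
  refine Or.inr ?_
  haveI : Nontrivial G := by
    haveI := hsimple.toNontrivial
    exact Subtype.coe_injective.nontrivial (f := fun g : MulAction.stabilizer G x => (g : G))
  obtain ⟨N, hN, hN1, hN2⟩ : ∃ N : Subgroup G, N.Normal ∧ N ≠ ⊥ ∧ N ≠ ⊤ := by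
    by_contra hcon
    push Not at hcon
    exact hG ⟨fun N hN => or_iff_not_imp_left.2 (hcon N hN)⟩
  haveI := hN
  have hfix : MulAction.fixedPoints N X ≠ Set.univ := by
    intro h
    apply hN1
    rw [eq_bot_iff]
    intro n hn
    rw [Subgroup.mem_bot]
    refine eq_of_smul_eq_smul (α := X) fun y => ?_
    have := (Set.ext_iff.1 h y).2 trivial ⟨n, hn⟩
    rw [one_smul]
    exact this
  have htr : MulAction.IsPretransitive N X :=
    MulAction.IsQuasiPreprimitive.isPretransitive_of_normal hfix
  refine ⟨N, hN, hN1, hN2, htr, ?_⟩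
  have hx : ∀ n ∈ N, n • x = x → n = 1 := by
    rcases hsimple.eq_bot_or_eq_top_of_normal (N.subgroupOf (MulAction.stabilizer G x))
      inferInstance with h | h
    · intro n hn hnx
      have : (⟨n, hnx⟩ : MulAction.stabilizer G x) ∈ N.subgroupOf (MulAction.stabilizer G x) := hn
      rw [h, Subgroup.mem_bot] at this
      exact congrArg Subtype.val this
    · exfalso
      apply hN2
      rw [Subgroup.subgroupOf_eq_top] at h
      rw [eq_top_iff]
      intro g _
      obtain ⟨n, hn⟩ := MulAction.exists_smul_eq N x (g • x)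
      have hn' : (n : G) • x = g • x := hn
      have : (n : G)⁻¹ * g ∈ N := h (show ((n : G)⁻¹ * g) • x = x by
        rw [mul_smul, ← hn', inv_smul_smul])
      simpa using mul_mem n.2 this
  intro y
  rw [eq_bot_iff]
  rintro ⟨n, hn⟩ hny
  obtain ⟨g, rfl⟩ := MulAction.exists_smul_eq G x y
  have h1 : g⁻¹ * n * g = 1 := hx _ (hN.conj_mem' n hn g) (by
    rw [mul_smul, mul_smul, show n • g • x = g • x from hny, inv_smul_smul])
  rw [Subgroup.mem_bot]
  refine Subtype.ext ?_
  rw [mul_eq_one_iff_eq_inv, inv_mul_eq_iff_eq_mul, mul_inv_cancel] at h1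
  exact h1

end Cfsg.Agent.S4300
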