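import Cfsg.Statements.S4301
-- import your own Cfsg.Agent.* helpers here

set_option autoImplicit false
open Cfsg
open scoped Pointwise
set_option linter.all false

namespace Cfsg.Agent.S4301

/-- One-point extension of a multiply transitive group. Let X be a set and G a group of permutations of Option X (the set X with one extra point ∗ = none) all of whose elements fix ∗, such that G is k-transitive on the points of X for some k ≥ 2, X having at least k points. Suppose a permutation h of Option X and an element g of G satisfy: h interchanges ∗ with a point x of X and fixes a point y of X; g interchanges x and y; (g h)³ and h² lie in G; and for every f in G fixing x, the product h f h lies in G and fixes x. Then an element of the group generated by G and h fixes ∗ exactly when it lies in G, and that group acts (k+1)-transitively on Option X. -/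
theorem result {X : Type*} (G : Subgroup (Equiv.Perm (Option X))) (hfix : ∀ f ∈ G, f none = none)
    (k : ℕ) (hk : 2 ≤ k) (hkX : Nonempty (Fin k ↪ X))
    (htrans : ∀ a b : Fin k ↪ X, ∃ f ∈ G, ∀ i, f (some (a i)) = some (b i))
    (h g : Equiv.Perm (Option X)) (hg : g ∈ G) (x y : X)
    (h1 : h none = some x) (h2 : h (some x) = none) (h3 : h (some y) = some y)
    (h4 : g (some x) = some y) (h5 : g (some y) = some x)
    (h6 : (g * h) ^ 3 ∈ G) (h7 : h ^ 2 ∈ G)
    (h8 : ∀ f ∈ G, f (some x) = some x → h * f * h ∈ G ∧ (h * f * h) (some x) = some x) :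
    (∀ f ∈ Subgroup.closure ((G : Set (Equiv.Perm (Option X))) ∪ {h}), f none = none ↔ f ∈ G) ∧
      MulAction.IsMultiplyPretransitive (Subgroup.closure ((G : Set (Equiv.Perm (Option X))) ∪ {h})) (Option X) (k + 1) := by
  classical
  set T := Subgroup.closure ((G : Set (Equiv.Perm (Option X))) ∪ {h}) with hT
  have hxy : x ≠ y := fun e => by rw [← e, h2] at h3; exact Option.some_ne_none x h3.symm
  obtain ⟨e₀⟩ := hkX
  have hpad : ∀ z z' : X, z ≠ z' → ∃ e : Fin k ↪ X, e ⟨0, by omega⟩ = z ∧ e ⟨1, by omega⟩ = z' := by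
    intro z z' hz
    let e1 := e₀.trans (Equiv.swap (e₀ ⟨0, by omega⟩) z).toEmbedding
    have h10 : e1 ⟨0, by omega⟩ = z := Equiv.swap_apply_left _ _
    refine ⟨e1.trans (Equiv.swap (e1 ⟨1, by omega⟩) z').toEmbedding, ?_, Equiv.swap_apply_left _ _⟩
    show Equiv.swap _ _ (e1 _) = z
    rw [h10, Equiv.swap_apply_of_ne_of_ne _ hz]
    intro e
    rw [← h10] at e
    exact absurd (congrArg Fin.val (e1.injective e)) (by simp)
  have h2t : ∀ z z' w w' : X, z ≠ z' → w ≠ w' → ∃ f ∈ G, f (some z) = some w ∧ f (some z') = some w' := by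
    intro z z' w w' hz hw
    obtain ⟨a, ha0, ha1⟩ := hpad z z' hz
    obtain ⟨b, hb0, hb1⟩ := hpad w w' hw
    obtain ⟨f, hf, hfab⟩ := htrans a b
    exact ⟨f, hf, by rw [← ha0, hfab, hb0], by rw [← ha1, hfab, hb1]⟩
  have hh2 : h * h ∈ G := by rw [← sq]; exact h7
  have hghh : ∃ a ∈ G, ∃ b ∈ G, h * g * h = a * h * b := by
    refine ⟨g⁻¹ * (g * h) ^ 3, mul_mem (inv_mem hg) h6, (h * h)⁻¹ * g⁻¹,
      mul_mem (inv_mem hh2) (inv_mem hg), ?_⟩
    simp only [pow_succ, pow_zero, one_mul]
    group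
  have hmid : ∀ f ∈ G, h * f * h ∈ G ∨ ∃ a ∈ G, ∃ b ∈ G, h * f * h = a * h * b := by
    intro f hf
    by_cases hfx : f (some x) = some x
    · exact Or.inl (h8 f hf hfx).1
    right
    obtain ⟨z, hz⟩ : ∃ z, f (some z) = some x := by
      rcases hfx' : f.symm (some x) with _ | z
      · have := f.apply_symm_apply (some x)
        rw [hfx', hfix f hf] at this
        exact absurd this (by simp)
      · exact ⟨z, by rw [← hfx', f.apply_symm_apply]⟩
    have hzx : z ≠ x := fun e => hfx (e ▸ hz)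
    obtain ⟨b, hb, hbx, hbz⟩ := h2t x z x y hzx.symm hxy
    set a := f * b⁻¹ * g⁻¹ with ha
    have haG : a ∈ G := mul_mem (mul_mem hf (inv_mem hb)) (inv_mem hg)
    have hax : a (some x) = some x := by
      show f (b⁻¹ (g⁻¹ (some x))) = _
      rw [show g⁻¹ (some x) = some y from g.symm_apply_eq.2 h5.symm,
        show b⁻¹ (some y) = some z from b.symm_apply_eq.2 hbz.symm, hz]
    obtain ⟨ga, hga, gb, hgb, hgg⟩ := hghh
    refine ⟨(h * a * h) * (h * h)⁻¹ * ga, mul_mem (mul_mem (h8 a haG hax).1 (inv_mem hh2)) hga,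
      gb * (h * h)⁻¹ * (h * b * h), mul_mem (mul_mem hgb (inv_mem hh2)) (h8 b hb hbx).1, ?_⟩
    rw [show h * a * h * (h * h)⁻¹ * ga * h * (gb * (h * h)⁻¹ * (h * b * h)) =
      h * a * h * (h * h)⁻¹ * (ga * h * gb) * (h * h)⁻¹ * (h * b * h) by group, ← hgg, ha]
    group
  let S : Subgroup (Equiv.Perm (Option X)) :=
    { carrier := {f | f ∈ G ∨ ∃ a ∈ G, ∃ b ∈ G, f = a * h * b}
      one_mem' := Or.inl (one_mem G)
      mul_mem' := by
        rintro u v (hu | ⟨a, ha, b, hb, rfl⟩) (hv | ⟨c, hc, d, hd, rfl⟩)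
        · exact Or.inl (mul_mem hu hv)
        · exact Or.inr ⟨u * c, mul_mem hu hc, d, hd, by group⟩
        · exact Or.inr ⟨a, ha, b * v, mul_mem hb hv, by group⟩
        · have e : a * h * b * (c * h * d) = a * (h * (b * c) * h) * d := by group
          rw [Set.mem_setOf_eq, e]
          rcases hmid (b * c) (mul_mem hb hc) with h9 | ⟨p, hp, q, hq, h9⟩
          · exact Or.inl (mul_mem (mul_mem ha h9) hd)
          · exact Or.inr ⟨a * p, mul_mem ha hp, q * d, mul_mem hq hd, by rw [h9]; group⟩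
      inv_mem' := by
        rintro u (hu | ⟨a, ha, b, hb, rfl⟩)
        · exact Or.inl (inv_mem hu)
        · exact Or.inr ⟨b⁻¹ * (h * h)⁻¹, mul_mem (inv_mem hb) (inv_mem hh2), a⁻¹, inv_mem ha, by group⟩ }
  have hTS : T ≤ S := (Subgroup.closure_le S).2 (by
    rintro u (hu | rfl)
    · exact Or.inl hu
    · exact Or.inr ⟨1, one_mem G, 1, one_mem G, by group⟩)
  have hGT : G ≤ T := fun u hu => Subgroup.subset_closure (Or.inl hu)
  have hhT : h ∈ T := Subgroup.subset_closure (Or.inr rfl)
  refine ⟨fun f hf => ⟨fun hfn => ?_, fun hfG => hfix f hfG⟩, ?_⟩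
  · rcases hTS hf with h9 | ⟨a, ha, b, hb, rfl⟩
    · exact h9
    · exfalso
      rw [Equiv.Perm.mul_apply, Equiv.Perm.mul_apply, hfix b hb, h1] at hfn
      exact Option.some_ne_none x (a.injective (hfn.trans (hfix a ha).symm))
  have hto : ∀ o : Option X, ∃ f ∈ T, f o = none := by
    rintro (_ | z)
    · exact ⟨1, one_mem T, rfl⟩
    · by_cases hz : z = x
      · exact ⟨h, hhT, by rw [hz, h2]⟩
      · obtain ⟨f, hf, hf1, -⟩ := h2t z x x y hz hxy
        exact ⟨h * f, mul_mem hhT (hGT hf), by rw [Equiv.Perm.mul_apply, hf1, h2]⟩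
  refine ⟨fun a b => ?_⟩
  obtain ⟨u, hu, hua⟩ := hto (a 0)
  obtain ⟨v, hv, hvb⟩ := hto (b 0)
  have hsome : ∀ (e : Fin (k + 1) ↪ Option X) (w : Equiv.Perm (Option X)), w (e 0) = none →
      ∃ c : Fin k ↪ X, ∀ i, w (e i.succ) = some (c i) := by
    intro e w hw
    have hne : ∀ i : Fin k, ∃ z, w (e i.succ) = some z := fun i =>
      Option.ne_none_iff_exists'.1 fun h0 =>
        Fin.succ_ne_zero i (e.injective (w.injective (h0.trans hw.symm)))
    choose c hc using hne
    refine ⟨⟨c, fun i j hij => ?_⟩, hc⟩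
    have : w (e i.succ) = w (e j.succ) := by rw [hc, hc, hij]
    exact Fin.succ_injective _ (e.injective (w.injective this))
  obtain ⟨c, hc⟩ := hsome a u hua
  obtain ⟨d, hd⟩ := hsome b v hvb
  obtain ⟨f, hf, hfcd⟩ := htrans c d
  refine ⟨⟨v⁻¹ * f * u, mul_mem (mul_mem (inv_mem hv) (hGT hf)) hu⟩, ?_⟩
  ext i : 1
  show v⁻¹ (f (u (a i))) = b i
  refine v.symm_apply_eq.2 ?_
  cases i using Fin.cases with
  | zero => rw [hua, hfix f hf, hvb]
  | succ i => rw [hc, hfcd, hd]

end Cfsg.Agent.S4301
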