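import Cfsg.Statements.S4303
import Mathlib
import Cfsg.Agent.Lib.FGS.SylowNumber

set_option autoImplicit false
universe u
open Cfsg
open scoped Pointwise
set_option linter.all false

namespace Cfsg.Agent.S4303

/-- For a finite group `G` and a prime `p`, the number of Sylow `p`-subgroups of `G` is a product of natural numbers each of which is either a prime power congruent to 1 modulo `p` or the number of Sylow `p`-subgroups of some finite simple group. -/
theorem result {G : Type u} [Group G] [Finite G]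
    (p : ℕ) [Fact p.Prime] :
    ∃ l : List ℕ, l.prod = Nat.card (Sylow p G) ∧
      ∀ m ∈ l, (IsPrimePow m ∧ m % p = 1) ∨
        ∃ (S : Type u) (_ : Group S) (_ : Finite S), IsSimpleGroup S ∧ m = Nat.card (Sylow p S) := by
  refine FGS.SylowNumber.induction_on_sylow_number p (fun _ _ => True) (fun _ _ _ _ _ => trivial)
    (fun _ _ _ _ _ _ => trivial)
    (fun n => ∃ l : List ℕ, l.prod = n ∧ ∀ m ∈ l, (IsPrimePow m ∧ m % p = 1) ∨
      ∃ (S : Type u) (_ : Group S) (_ : Finite S), IsSimpleGroup S ∧ m = Nat.card (Sylow p S))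
    ⟨[], rfl, by simp⟩ ?_ ?_ ?_ _ G rfl trivial
  · rintro a b ⟨l, rfl, hl⟩ ⟨l', rfl, hl'⟩
    exact ⟨l ++ l', List.prod_append, fun m hm => (List.mem_append.1 hm).elim (hl m) (hl' m)⟩
  · intro q e hq hmod
    rcases Nat.eq_zero_or_pos e with rfl | he
    · exact ⟨[], by simp, by simp⟩
    refine ⟨[q ^ e], by simp, fun m hm => Or.inl ?_⟩
    rw [List.mem_singleton] at hm
    subst hm
    exact ⟨hq.isPrimePow.pow he.ne', Eq.trans hmod (Nat.mod_eq_of_lt (Fact.out : p.Prime).one_lt)⟩
  · intro S _ _ _ hS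
    refine ⟨[Nat.card (Sylow p S)], by simp, fun m hm => Or.inr ?_⟩
    rw [List.mem_singleton] at hm
    exact ⟨S, inferInstance, inferInstance, hS, hm⟩

end Cfsg.Agent.S4303
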