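import Cfsg.Statements.S4304
-- import your own Cfsg.Agent.* helpers here

set_option autoImplicit false
open Cfsg
open scoped Pointwise
set_option linter.all false

namespace Cfsg.Agent.S4304

section Basic
variable {G : Type*} [Group G] [Finite G] {p : ℕ} [Fact p.Prime]

lemma sylow_le_of_not_dvd_index (K : Subgroup G) [K.Normal] (hK : ¬ p ∣ K.index) (P : Sylow p G) :
    (P : Subgroup G) ≤ K := by
  intro x hx
  rw [← QuotientGroup.eq_one_iff, ← orderOf_eq_one_iff]
  obtain ⟨k, hk⟩ := P.isPGroup' ⟨x, hx⟩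
  have h1 : orderOf (x : G ⧸ K) ∣ p ^ k := by
    apply orderOf_dvd_of_pow_eq_one
    rw [← QuotientGroup.mk_pow]
    have := congrArg Subtype.val hk
    simp only [SubgroupClass.coe_pow, OneMemClass.coe_one] at this
    rw [this, QuotientGroup.mk_one]
  have h2 : orderOf (x : G ⧸ K) ∣ K.index := orderOf_dvd_natCard _
  exact Nat.eq_one_of_dvd_coprimes
    (Nat.Coprime.pow_left k ((Nat.Prime.coprime_iff_not_dvd Fact.out).mpr hK)) h1 h2

lemma card_sylow_normal (K : Subgroup G) [K.Normal] (hK : ¬ p ∣ K.index) :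
    Nat.card (Sylow p K) = Nat.card (Sylow p G) := by
  refine (Nat.card_eq_of_bijective (fun P : Sylow p G => P.subtype (sylow_le_of_not_dvd_index K hK P))
    ⟨fun P Q h => Sylow.subtype_injective h, fun R => ?_⟩).symm
  obtain ⟨P, hP⟩ := R.exists_comap_subtype_eq
  exact ⟨P, Sylow.ext hP⟩

lemma card_sylow_dvd (P : Sylow p G) :
    Nat.card (Sylow p G) * Nat.card (P : Subgroup G) ∣ Nat.card G := by
  rw [← (P : Subgroup G).index_mul_card]
  exact Nat.mul_dvd_mul_right (P.card_dvd_index) _

lemma sylow_eq_of_le_normalizer {P Q : Sylow p G}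
    (h : (Q : Subgroup G) ≤ Subgroup.normalizer (P : Set G)) : Q = P := by
  have hle : (Q : Subgroup G) ≤ P := by
    have := Q.isPGroup'.inf_normalizer_sylow P
    rw [inf_eq_left.mpr h] at this
    rw [this]; exact inf_le_right
  exact Sylow.ext (Q.is_maximal' P.isPGroup' hle).symm

end Basic

lemma fact_eq {n p : ℕ} (k m : ℕ) (hp : p.Prime) (h : n = p ^ k * m) (hm : ¬ p ∣ m) :
    n.factorization p = k := by
  rw [h, Nat.factorization_mul (pow_ne_zero _ hp.ne_zero) (fun h0 => hm (by rw [h0]; exact dvd_zero p)),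
    Finsupp.add_apply, hp.factorization_pow, Nat.factorization_eq_zero_of_not_dvd hm]
  simp

/-- A finite group of order `2 * m`, `m` odd, has a normal subgroup of index two. -/
lemma exists_index_two {G : Type*} [Group G] [Finite G] (m : ℕ) (hm : Odd m)
    (hG : Nat.card G = 2 * m) : ∃ K : Subgroup G, K.Normal ∧ K.index = 2 := by
  classical
  haveI := Fintype.ofFinite G
  obtain ⟨t, ht⟩ := exists_prime_orderOf_dvd_card' (G := G) 2 ⟨m, hG⟩
  set φ := MulAction.toPermHom G G with hφ
  let s : G →* ℤˣ := Equiv.Perm.sign.comp φ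
  have hsupp : (φ t).support = Finset.univ := by
    ext x
    simp only [Equiv.Perm.mem_support, Finset.mem_univ, iff_true]
    show t * x ≠ x
    intro h
    have : t = 1 := mul_eq_right.mp h
    simp [this] at ht
  have hsq : φ t ^ 2 = 1 := by
    rw [← map_pow, ← ht, pow_orderOf_eq_one, map_one]
  have hct := Equiv.Perm.cycleType_of_pow_prime_eq_one (σ := φ t) (p := 2) hsq
  set n := (φ t).cycleType.card with hn
  have hnm : n = m := by
    have := (φ t).sum_cycleType
    rw [hsupp, Finset.card_univ, ← Nat.card_eq_fintype_card, hG, hct] at this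
    simp at this
    omega
  have hst : s t = -1 := by
    show Equiv.Perm.sign (φ t) = -1
    rw [Equiv.Perm.sign_of_cycleType, hct]
    simp only [Multiset.sum_replicate, Multiset.card_replicate, smul_eq_mul, ← hn, hnm]
    rw [show m * 2 + m = 2 * m + m by ring]
    rw [pow_add, pow_mul]
    simp [hm.neg_one_pow]
  refine ⟨s.ker, inferInstance, ?_⟩
  rw [Subgroup.index_ker]
  have : s.range = ⊤ := by
    rw [MonoidHom.range_eq_top]
    intro u
    rcases Int.units_eq_one_or u with rfl | rfl
    · exact ⟨1, map_one s⟩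
    · exact ⟨t, hst⟩
  rw [this]
  simp [Nat.card_eq_fintype_card]

/-- No group of order 105 or 315 has fifteen Sylow 7-subgroups. -/
lemma odd_case {G : Type*} [Group G] [Finite G] (hG : Nat.card G = 105 ∨ Nat.card G = 315)
    (hn : Nat.card (Sylow 7 G) = 15) : False := by
  haveI : Fact (Nat.Prime 5) := ⟨by norm_num⟩
  haveI : Fact (Nat.Prime 7) := ⟨by norm_num⟩
  obtain ⟨Q⟩ : Nonempty (Sylow 5 G) := inferInstance
  have hQ : Nat.card (Q : Subgroup G) = 5 := by
    rw [Q.card_eq_multiplicity]
    rcases hG with h | h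
    · rw [fact_eq 1 21 (by norm_num) (h.trans (by norm_num)) (by norm_num), pow_one]
    · rw [fact_eq 1 63 (by norm_num) (h.trans (by norm_num)) (by norm_num), pow_one]
  -- any normal subgroup of index prime to 7 is big
  have key : ∀ K : Subgroup G, K.Normal → ¬ 7 ∣ K.index → 105 ∣ Nat.card K := by
    intro K hKn hK
    obtain ⟨R⟩ : Nonempty (Sylow 7 K) := inferInstance
    have h1 := card_sylow_dvd R
    rw [card_sylow_normal K hK, hn] at h1
    have h7 : 7 ∣ Nat.card (R : Subgroup K) := by
      refine R.dvd_card_of_dvd_card ?_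
      have := K.index_mul_card
      have h7 : 7 ∣ K.index * Nat.card K := by rw [this]; rcases hG with h | h <;> omega
      exact ((Nat.Prime.dvd_mul (by norm_num)).mp h7).resolve_left hK
    exact (show 105 = 15 * 7 by norm_num) ▸ (Nat.mul_dvd_mul_left 15 h7).trans h1
  have hidx : (Q : Subgroup G).index * 5 = Nat.card G := by
    have h := (Q : Subgroup G).index_mul_card
    rwa [hQ] at h
  have hdvd : Nat.card (Sylow 5 G) ∣ (Q : Subgroup G).index := Q.card_dvd_index
  have hmod : Nat.card (Sylow 5 G) % 5 = 1 := card_sylow_modEq_one 5 G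
  have hn5 : Nat.card (Sylow 5 G) = 1 ∨ Nat.card (Sylow 5 G) = 21 := by
    have h63 : Nat.card (Sylow 5 G) ∣ 63 := by
      rcases (show (Q : Subgroup G).index = 21 ∨ (Q : Subgroup G).index = 63 by omega) with h | h
      · rw [h] at hdvd; exact hdvd.trans (by norm_num)
      · rw [h] at hdvd; exact hdvd
    have hmem : Nat.card (Sylow 5 G) ∈ Nat.divisors 63 := Nat.mem_divisors.mpr ⟨h63, by norm_num⟩
    rw [show Nat.divisors 63 = {1, 3, 7, 9, 21, 63} by decide] at hmem
    simp only [Finset.mem_insert, Finset.mem_singleton] at hmem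
    omega
  rcases hn5 with h5 | h5
  · -- normal Sylow 5: look at the preimage of a Sylow 7 of the quotient
    haveI : Subsingleton (Sylow 5 G) := (Nat.card_eq_one_iff_unique.mp h5).1
    haveI : (Q : Subgroup G).Normal := Q.normal_of_subsingleton
    obtain ⟨R⟩ : Nonempty (Sylow 7 (G ⧸ (Q : Subgroup G))) := inferInstance
    have hc : Nat.card (G ⧸ (Q : Subgroup G)) = (Q : Subgroup G).index := rfl
    have hRn : (R : Subgroup (G ⧸ (Q : Subgroup G))).Normal := by
      have h1 := R.card_dvd_index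
      have h2 := card_sylow_modEq_one 7 (G ⧸ (Q : Subgroup G))
      have h7 : Nat.card (R : Subgroup (G ⧸ (Q : Subgroup G))) = 7 ^ 1 := by
        rw [R.card_eq_multiplicity, hc]
        congr 1
        rcases (show (Q : Subgroup G).index = 7 ^ 1 * 3 ∨ (Q : Subgroup G).index = 7 ^ 1 * 9 by omega) with hi | hi
        · exact fact_eq 1 3 (by norm_num) hi (by norm_num)
        · exact fact_eq 1 9 (by norm_num) hi (by norm_num)
      have h3 := (R : Subgroup (G ⧸ (Q : Subgroup G))).index_mul_card
      rw [h7, hc] at h3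
      have hle : (R : Subgroup (G ⧸ (Q : Subgroup G))).index ≤ 9 := by omega
      have hle' := Nat.le_of_dvd (Nat.pos_of_ne_zero (Subgroup.index_ne_zero_of_finite)) h1
      have : Nat.card (Sylow 7 (G ⧸ (Q : Subgroup G))) = 1 := by
        rcases Nat.lt_or_ge (Nat.card (Sylow 7 (G ⧸ (Q : Subgroup G)))) 8 with h | h
        · unfold Nat.ModEq at h2; omega
        · have h8 : (R : Subgroup (G ⧸ (Q : Subgroup G))).index = 9 := by omega
          rw [h8] at h1
          have h9 := Nat.le_of_dvd (by norm_num) h1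
          unfold Nat.ModEq at h2
          interval_cases (Nat.card (Sylow 7 (G ⧸ (Q : Subgroup G)))) <;> norm_num at h2 <;> norm_num at h1
      haveI := (Nat.card_eq_one_iff_unique.mp this).1
      exact R.normal_of_subsingleton
    set K := (R : Subgroup (G ⧸ (Q : Subgroup G))).comap (QuotientGroup.mk' _) with hK
    have hKi : K.index = (R : Subgroup (G ⧸ (Q : Subgroup G))).index :=
      Subgroup.index_comap_of_surjective _ (QuotientGroup.mk'_surjective _)
    have hnd : ¬ 7 ∣ K.index := hKi ▸ R.not_dvd_index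
    have h105 := key K inferInstance hnd
    have hKc : Nat.card K = 35 := by
      have h3 := (R : Subgroup (G ⧸ (Q : Subgroup G))).index_mul_card
      have h7 : 7 ∣ (R : Subgroup (G ⧸ (Q : Subgroup G))).index * Nat.card (R : Subgroup (G ⧸ (Q : Subgroup G))) := by
        rw [h3, hc]; omega
      obtain ⟨k, hk⟩ := R.isPGroup'.exists_card_eq
      have hk1 : k ≤ 1 := by
        by_contra hk'
        have : 7 ^ 2 ∣ (Q : Subgroup G).index :=
          (pow_dvd_pow 7 (by omega : 2 ≤ k)).trans (hk ▸ (Subgroup.card_subgroup_dvd_card _))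
        omega
      have hk0 : k ≠ 0 := by
        rintro rfl
        rw [hk, pow_zero, mul_one] at h7
        exact R.not_dvd_index h7
      obtain rfl : k = 1 := by omega
      have h4 := K.index_mul_card
      rw [hKi] at h4
      rw [hk, pow_one, hc] at h3
      set a := (R : Subgroup (G ⧸ (Q : Subgroup G))).index
      have : a ≠ 0 := Subgroup.index_ne_zero_of_finite
      refine Nat.eq_of_mul_eq_mul_left (Nat.pos_of_ne_zero this) ?_
      rw [h4, ← hidx, ← h3, mul_assoc]
      norm_num
    omega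
  · have hN := Q.card_eq_index_normalizer
    set N := Subgroup.normalizer (Q : Set G) with hNdef
    have hNc : N.index * Nat.card N = Nat.card G := N.index_mul_card
    rw [← hN, h5] at hNc
    have hC : N ≤ Subgroup.centralizer (Q : Set G) := by
      intro x hx
      let f := (Q : Subgroup G).normalizerMonoidHom
      have hcyc : IsCyclic (Q : Subgroup G) := isCyclic_of_prime_card hQ
      have h1 : orderOf (f ⟨x, hx⟩) ∣ 4 := by
        have := orderOf_dvd_natCard (f ⟨x, hx⟩)
        rwa [IsCyclic.card_mulAut, hQ, Nat.totient_prime (by norm_num)] at this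
      have h2 : orderOf (f ⟨x, hx⟩) ∣ Nat.card N :=
        (orderOf_map_dvd f _).trans (orderOf_dvd_natCard _)
      have h3 : orderOf (f ⟨x, hx⟩) = 1 := by
        refine Nat.eq_one_of_dvd_coprimes ?_ h1 h2
        have : Nat.card N = 5 ∨ Nat.card N = 15 := by omega
        rcases this with h | h <;> rw [h] <;> norm_num
      rw [orderOf_eq_one_iff, ← MonoidHom.mem_ker, Subgroup.normalizerMonoidHom_ker] at h3
      exact h3
    have hcompl := MonoidHom.ker_transferSylow_isComplement' Q hC
    have hkc := hcompl.card_mul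
    rw [hQ] at hkc
    have := key (MonoidHom.transferSylow Q hC).ker inferInstance ?_
    · omega
    · rw [hcompl.symm.index_eq_card, hQ]; norm_num

section Core
variable {G : Type*} [Group G] [Finite G] [hp7 : Fact (Nat.Prime 7)]
  (hn : Nat.card (Sylow 7 G) = 15)
  (hfaith : ∀ g : G, (∀ Q : Sylow 7 G, g • Q = Q) → g = 1)

include hn in
lemma card_orbit_sylow {P Q : Sylow 7 G} (h : Q ≠ P) :
    Nat.card (MulAction.orbit (P : Subgroup G) Q) = 7 := by
  obtain ⟨k, hk⟩ := P.isPGroup'.card_orbit Q
  have hP : P ∉ MulAction.orbit (P : Subgroup G) Q := by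
    rintro ⟨g, hg⟩
    apply h
    have hfix : (g : G) • P = P := Sylow.smul_eq_iff_mem_normalizer.mpr (Subgroup.le_normalizer g.2)
    have hg' : (g : G) • Q = P := hg
    exact MulAction.injective (g : G) (hg'.trans hfix.symm)
  have hlt : Nat.card (MulAction.orbit (P : Subgroup G) Q) < 15 := by
    rw [Nat.card_coe_set_eq, ← hn, ← Set.ncard_univ]
    refine Set.ncard_lt_ncard ⟨Set.subset_univ _, fun hs => hP (hs (Set.mem_univ _))⟩ Set.finite_univ
  rcases Nat.lt_or_ge k 2 with hk2 | hk2
  · interval_cases k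
    · exfalso
      apply h
      rw [pow_zero, Nat.card_eq_one_iff_unique] at hk
      haveI := hk.1
      refine sylow_eq_of_le_normalizer (fun x hx => ?_) |>.symm
      rw [← Sylow.smul_eq_iff_mem_normalizer]
      exact congrArg Subtype.val (Subsingleton.elim
        (⟨(⟨x, hx⟩ : (P : Subgroup G)) • Q, MulAction.mem_orbit _ _⟩ : MulAction.orbit (P : Subgroup G) Q)
        ⟨Q, MulAction.mem_orbit_self Q⟩)
    · simpa using hk
  · have : 7 ^ 2 ≤ 7 ^ k := Nat.pow_le_pow_right (by norm_num) hk2
    omega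

lemma stabilizer_eq_inf (P Q : Sylow 7 G) :
    MulAction.stabilizer (P : Subgroup G) Q = ((P : Subgroup G) ⊓ Q).subgroupOf P := by
  ext x
  rw [← P.isPGroup'.inf_normalizer_sylow Q, MulAction.mem_stabilizer_iff, Subgroup.mem_subgroupOf,
    Subgroup.mem_inf, ← Sylow.smul_eq_iff_mem_normalizer]
  exact ⟨fun h => ⟨x.2, h⟩, fun h => h.2⟩

include hn in
lemma index_stab {P Q : Sylow 7 G} (h : Q ≠ P) :
    (MulAction.stabilizer (P : Subgroup G) Q).index = 7 := by
  rw [MulAction.index_stabilizer, ← Nat.card_coe_set_eq, card_orbit_sylow hn h]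

include hn in
lemma stab_normal {P Q : Sylow 7 G} (h : Q ≠ P) :
    (MulAction.stabilizer (P : Subgroup G) Q).Normal := by
  refine Subgroup.normal_of_index_eq_minFac_card ?_
  rw [index_stab hn h]
  obtain ⟨k, hk⟩ := P.isPGroup'.exists_card_eq
  rw [hk]
  have hk0 : k ≠ 0 := by
    rintro rfl
    have := (MulAction.stabilizer (P : Subgroup G) Q).index_dvd_card
    rw [index_stab hn h, hk] at this
    norm_num at this
  rw [Nat.pow_minFac hk0, Nat.Prime.minFac_eq hp7.out]

include hn in
lemma stab_smul {P Q : Sylow 7 G} (h : Q ≠ P) (g : (P : Subgroup G)) :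
    MulAction.stabilizer (P : Subgroup G) (g • Q) = MulAction.stabilizer (P : Subgroup G) Q := by
  haveI := stab_normal hn h
  ext x
  rw [MulAction.mem_stabilizer_iff, MulAction.mem_stabilizer_iff, ← inv_smul_eq_iff.trans eq_comm |>.trans eq_comm]
  have hiff : g⁻¹ • x • g • Q = Q ↔ g⁻¹ * x * g ∈ MulAction.stabilizer (P : Subgroup G) Q := by
    rw [MulAction.mem_stabilizer_iff, mul_smul, mul_smul]
  constructor
  · intro h'
    have := (hiff.mp h')
    have := Subgroup.Normal.conj_mem (inferInstance : (MulAction.stabilizer (P : Subgroup G) Q).Normal) _ this g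
    simpa [mul_assoc, MulAction.mem_stabilizer_iff] using this
  · intro h'
    refine hiff.mpr ?_
    simpa [mul_assoc] using Subgroup.Normal.conj_mem (inferInstance : (MulAction.stabilizer (P : Subgroup G) Q).Normal) x h' g⁻¹

include hn in
/-- The fourteen Sylow subgroups other than `P` form two orbits of size seven. -/
lemma two_orbits (P : Sylow 7 G) : ∃ Q₁ Q₂ : Sylow 7 G, Q₁ ≠ P ∧ Q₂ ≠ P ∧
    (∀ Q : Sylow 7 G, Q ≠ P → Q ∈ MulAction.orbit (P : Subgroup G) Q₁ ∨ Q ∈ MulAction.orbit (P : Subgroup G) Q₂) ∧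
    Q₂ ∉ MulAction.orbit (P : Subgroup G) Q₁ := by
  classical
  haveI : Nontrivial (Sylow 7 G) := Finite.one_lt_card_iff_nontrivial.mp (by omega)
  obtain ⟨Q₁, h1⟩ := exists_ne P
  obtain ⟨Q₂, h2, h2'⟩ : ∃ Q₂ : Sylow 7 G, Q₂ ≠ P ∧ Q₂ ∉ MulAction.orbit (P : Subgroup G) Q₁ := by
    by_contra hc
    push Not at hc
    have hsub : (Set.univ : Set (Sylow 7 G)) ⊆ insert P (MulAction.orbit (P : Subgroup G) Q₁) :=
      fun Q _ => (em (Q = P)).imp id (hc Q)
    have := (Set.ncard_le_ncard hsub).trans (Set.ncard_insert_le _ _)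
    rw [Set.ncard_univ, hn, ← Nat.card_coe_set_eq, card_orbit_sylow hn h1] at this
    omega
  refine ⟨Q₁, Q₂, h1, h2, fun Q hQ => ?_, h2'⟩
  by_contra hc
  push Not at hc
  set A := MulAction.orbit (P : Subgroup G) Q₁
  set B := MulAction.orbit (P : Subgroup G) Q₂
  set C := MulAction.orbit (P : Subgroup G) Q
  have hAB : Disjoint A B := by
    rw [Set.disjoint_left]
    intro x hxA hxB
    exact h2' (MulAction.orbit_eq_iff.mp ((MulAction.orbit_eq_iff.mpr hxB).symm.trans (MulAction.orbit_eq_iff.mpr hxA)))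
  have hABC : Disjoint (A ∪ B) C := by
    rw [Set.disjoint_left]
    rintro x (hxA | hxA) hxC
    · exact hc.1 (MulAction.orbit_eq_iff.mp ((MulAction.orbit_eq_iff.mpr hxC).symm.trans (MulAction.orbit_eq_iff.mpr hxA)))
    · exact hc.2 (MulAction.orbit_eq_iff.mp ((MulAction.orbit_eq_iff.mpr hxC).symm.trans (MulAction.orbit_eq_iff.mpr hxA)))
  have hle : (A ∪ B ∪ C).ncard ≤ 15 := by
    rw [← hn, ← Set.ncard_univ]; exact Set.ncard_le_ncard (Set.subset_univ _)
  rw [Set.ncard_union_eq hABC, Set.ncard_union_eq hAB, ← Nat.card_coe_set_eq, ← Nat.card_coe_set_eq,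
    ← Nat.card_coe_set_eq, card_orbit_sylow hn h1, card_orbit_sylow hn h2, card_orbit_sylow hn hQ] at hle
  omega

include hn hfaith in
lemma stab_inf_eq_bot {P Q₁ Q₂ : Sylow 7 G} (h1 : Q₁ ≠ P) (h2 : Q₂ ≠ P)
    (hall : ∀ Q : Sylow 7 G, Q ≠ P → Q ∈ MulAction.orbit (P : Subgroup G) Q₁ ∨ Q ∈ MulAction.orbit (P : Subgroup G) Q₂) :
    MulAction.stabilizer (P : Subgroup G) Q₁ ⊓ MulAction.stabilizer (P : Subgroup G) Q₂ = ⊥ := by
  rw [eq_bot_iff]
  intro x hx
  rw [Subgroup.mem_bot]
  refine Subtype.ext (hfaith (x : G) fun Q => ?_)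
  rcases eq_or_ne Q P with rfl | hQ
  · exact Sylow.smul_eq_iff_mem_normalizer.mpr (Subgroup.le_normalizer x.2)
  have hmem : x ∈ MulAction.stabilizer (P : Subgroup G) Q := by
    rcases hall Q hQ with ⟨g, rfl⟩ | ⟨g, rfl⟩
    · exact (stab_smul hn h1 g).symm ▸ hx.1
    · exact (stab_smul hn h2 g).symm ▸ hx.2
  exact hmem

include hn hfaith in
lemma card_sylow7 (P : Sylow 7 G) : Nat.card (P : Subgroup G) = 7 := by
  classical
  obtain ⟨k, hk⟩ := P.isPGroup'.exists_card_eq
  obtain ⟨Q₁, Q₂, h1, h2, hall, -⟩ := two_orbits hn P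
  have hbot := stab_inf_eq_bot hn hfaith h1 h2 hall
  have hle : Nat.card (P : Subgroup G) ≤ 49 := by
    have := Subgroup.index_inf_le (H := MulAction.stabilizer (P : Subgroup G) Q₁)
      (K := MulAction.stabilizer (P : Subgroup G) Q₂)
    rwa [hbot, Subgroup.index_bot, index_stab hn h1, index_stab hn h2] at this
  have hk2 : k ≤ 2 := by
    by_contra hk'
    have : 7 ^ 3 ≤ 7 ^ k := Nat.pow_le_pow_right (by norm_num) (by omega)
    omega
  have hk0 : k ≠ 0 := by
    rintro rfl
    have := (MulAction.stabilizer (P : Subgroup G) Q₁).index_dvd_card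
    rw [index_stab hn h1, hk] at this
    norm_num at this
  rcases (show k = 1 ∨ k = 2 by omega) with rfl | rfl
  · simpa using hk
  -- order 49: count incidences
  exfalso
  have hall49 : ∀ R : Sylow 7 G, Nat.card (R : Subgroup G) = 49 := fun R => by
    rw [Nat.card_congr (R.equiv P).toEquiv, hk]; norm_num
  have hsub7 : ∀ {R S : Sylow 7 G}, S ≠ R → Nat.card ((R : Subgroup G) ⊓ S : Subgroup G) = 7 := by
    intro R S hS
    have := (MulAction.stabilizer (R : Subgroup G) S).index_mul_card
    rw [index_stab hn hS, hall49 R, stabilizer_eq_inf,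
      Nat.card_congr (Subgroup.subgroupOfEquivOfLe inf_le_left).toEquiv] at this
    omega
  haveI := Fintype.ofFinite (Sylow 7 G)
  let T : Finset (Subgroup G) :=
    ((Finset.univ : Finset (Sylow 7 G × Sylow 7 G)).filter fun x => x.2 ≠ x.1).image
      fun x => (x.1 : Subgroup G) ⊓ x.2
  have hT : ∀ R S : Sylow 7 G, S ≠ R → ((R : Subgroup G) ⊓ S : Subgroup G) ∈ T := fun R S h =>
    Finset.mem_image.mpr ⟨(R, S), by simpa using h, rfl⟩
  -- the intersections inside a given Sylow subgroup
  have hdata : ∀ R : Sylow 7 G, ∃ A B : Subgroup G, A ≠ B ∧ A ∈ T ∧ B ∈ T ∧ A ≤ R ∧ B ≤ R ∧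
      (∀ S : Sylow 7 G, S ≠ R → (R : Subgroup G) ⊓ S = A ∨ (R : Subgroup G) ⊓ S = B) ∧
      ((Finset.univ : Finset (Sylow 7 G)).filter fun S : Sylow 7 G => A ≤ (S : Subgroup G)).card = 8 ∧
      ((Finset.univ : Finset (Sylow 7 G)).filter fun S : Sylow 7 G => B ≤ (S : Subgroup G)).card = 8 := by
    intro R
    obtain ⟨S₁, S₂, g1, g2, gall, -⟩ := two_orbits hn R
    have gbot := stab_inf_eq_bot hn hfaith g1 g2 gall
    have hconst : ∀ S₀ : Sylow 7 G, S₀ ≠ R → ∀ S ∈ MulAction.orbit (R : Subgroup G) S₀,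
        (R : Subgroup G) ⊓ S = (R : Subgroup G) ⊓ S₀ := by
      rintro S₀ h0 S ⟨g, rfl⟩
      have := stab_smul hn h0 g
      rw [stabilizer_eq_inf, stabilizer_eq_inf] at this
      simpa [inf_right_comm] using Subgroup.subgroupOf_inj.mp this
    have hne : (R : Subgroup G) ⊓ S₁ ≠ (R : Subgroup G) ⊓ S₂ := by
      intro h
      have hst : MulAction.stabilizer (R : Subgroup G) S₁ = MulAction.stabilizer (R : Subgroup G) S₂ := by
        rw [stabilizer_eq_inf, stabilizer_eq_inf, h]
      rw [hst, inf_idem, stabilizer_eq_inf, Subgroup.subgroupOf_eq_bot] at gbot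
      have h7 := hsub7 g2
      rw [show (R : Subgroup G) ⊓ S₂ = ⊥ from eq_bot_iff.mpr (fun x hx => gbot.le_bot ⟨hx, hx.1⟩),
        Subgroup.card_bot] at h7
      omega
    have hcount : ∀ S₀ S' : Sylow 7 G, S₀ ≠ R → S' ≠ R →
        (∀ S : Sylow 7 G, S ≠ R → S ∈ MulAction.orbit (R : Subgroup G) S₀ ∨ S ∈ MulAction.orbit (R : Subgroup G) S') →
        (R : Subgroup G) ⊓ S₀ ≠ (R : Subgroup G) ⊓ S' →
        ((Finset.univ : Finset (Sylow 7 G)).filter fun S : Sylow 7 G => (R : Subgroup G) ⊓ S₀ ≤ (S : Subgroup G)).card = 8 := by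
      intro S₀ S' h0 h' hal hne'
      rw [← Set.ncard_coe_finset]
      have : (↑((Finset.univ : Finset (Sylow 7 G)).filter fun S : Sylow 7 G => (R : Subgroup G) ⊓ S₀ ≤ (S : Subgroup G)) : Set (Sylow 7 G))
          = insert R (MulAction.orbit (R : Subgroup G) S₀) := by
        ext S
        simp only [Finset.coe_filter, Finset.mem_univ, true_and, Set.mem_setOf_eq, Set.mem_insert_iff]
        constructor
        · intro hle
          rcases eq_or_ne S R with rfl | hS
          · exact Or.inl rfl
          refine Or.inr ((hal S hS).resolve_right fun hm => hne' ?_)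
          refine Subgroup.eq_of_le_of_card_ge ?_ (by rw [hsub7 h0, hsub7 h'])
          rw [← hconst S' h' S hm]
          exact le_inf inf_le_left hle
        · rintro (rfl | hm)
          · exact inf_le_left
          · rw [← hconst S₀ h0 S hm]; exact inf_le_right
      rw [this, Set.ncard_insert_of_notMem, ← Nat.card_coe_set_eq, card_orbit_sylow hn h0]
      rintro ⟨g, hg⟩
      exact h0 (MulAction.injective (g : G)
        ((hg : (g : G) • S₀ = R).trans (Sylow.smul_eq_iff_mem_normalizer.mpr (Subgroup.le_normalizer g.2)).symm))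
    refine ⟨_, _, hne, hT R S₁ g1, hT R S₂ g2, inf_le_left, inf_le_left, fun S hS => ?_,
      hcount S₁ S₂ g1 g2 gall hne, hcount S₂ S₁ g2 g1 (fun S hS => (gall S hS).symm) hne.symm⟩
    exact (gall S hS).imp (hconst S₁ g1 S) (hconst S₂ g2 S)
  have hm : ∀ R ∈ (Finset.univ : Finset (Sylow 7 G)),
      (T.bipartiteAbove (fun (R : Sylow 7 G) (A : Subgroup G) => A ≤ R) R).card = 2 := by
    intro R _
    obtain ⟨A, B, hAB, hA, hB, hAR, hBR, hS, -, -⟩ := hdata R
    rw [Finset.card_eq_two]
    refine ⟨A, B, hAB, ?_⟩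
    ext X
    simp only [Finset.mem_bipartiteAbove, Finset.mem_insert, Finset.mem_singleton]
    refine ⟨fun ⟨hX, hXR⟩ => ?_, ?_⟩
    · obtain ⟨⟨R', S'⟩, hne', rfl⟩ := Finset.mem_image.mp hX
      simp only [Finset.mem_filter, Finset.mem_univ, true_and] at hne'
      dsimp only at hXR ⊢
      rcases eq_or_ne R R' with rfl | hR
      · exact hS S' hne'
      refine (hS R' hR.symm).imp ?_ ?_ <;>
      · intro h
        rw [← h]
        exact Subgroup.eq_of_le_of_card_ge (le_inf hXR inf_le_left) (by rw [hsub7 hR.symm, hsub7 hne'])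
    · rintro (rfl | rfl)
      · exact ⟨hA, hAR⟩
      · exact ⟨hB, hBR⟩
  have hn' : ∀ X ∈ T,
      ((Finset.univ : Finset (Sylow 7 G)).bipartiteBelow (fun (R : Sylow 7 G) (A : Subgroup G) => A ≤ R) X).card = 8 := by
    intro X hX
    obtain ⟨⟨R', S'⟩, hne', rfl⟩ := Finset.mem_image.mp hX
    simp only [Finset.mem_filter, Finset.mem_univ, true_and] at hne'
    obtain ⟨A, B, -, -, -, -, -, hS, hA8, hB8⟩ := hdata R'
    unfold Finset.bipartiteBelow
    rcases hS S' hne' with h | h <;> dsimp only <;> rw [h]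
    · exact hA8
    · exact hB8
  have := Finset.card_mul_eq_card_mul _ hm hn'
  rw [Finset.card_univ, ← Nat.card_eq_fintype_card, hn] at this
  omega

include hn hfaith in
lemma centralizer_even_eq (P : Sylow 7 G)
    (heven : ∀ [Fintype (Sylow 7 G)] [DecidableEq (Sylow 7 G)] (g : G),
      Equiv.Perm.sign (MulAction.toPermHom G (Sylow 7 G) g) = 1) :
    Nat.card (Subgroup.centralizer ((P : Subgroup G) : Set G)) ∣ 7 := by
  classical
  haveI := Fintype.ofFinite (Sylow 7 G)
  have hP := card_sylow7 hn hfaith P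
  set φ := MulAction.toPermHom G (Sylow 7 G) with hφ
  have hinj : Function.Injective φ := (injective_iff_map_eq_one φ).mpr fun g hg => hfaith g fun Q => by
    have := congrArg (fun e : Equiv.Perm (Sylow 7 G) => e Q) hg
    simpa [hφ] using this
  have hprime : ∀ r : ℕ, r.Prime → r ∣ Nat.card (Subgroup.centralizer ((P : Subgroup G) : Set G)) → r = 7 := by
    intro r hr hrd
    haveI := Fact.mk hr
    by_contra h7
    obtain ⟨⟨c, hc⟩, hco⟩ := exists_prime_orderOf_dvd_card' r hrd
    rw [← Subgroup.orderOf_coe] at hco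
    have hco' : orderOf (φ c) = r := by rw [orderOf_injective φ hinj]; exact hco
    have hcyc : IsCyclic (P : Subgroup G) := isCyclic_of_prime_card hP
    obtain ⟨g, hg⟩ := hcyc.exists_generator
    have hgc : c * g = g * c := (hc g g.2).symm
    set S := (φ c).support with hS
    have hPS : P ∉ S := by
      simp only [hS, Equiv.Perm.mem_support, not_not]
      show c • P = P
      rw [Sylow.smul_eq_iff_mem_normalizer]
      exact Subgroup.centralizer_le_normalizer _ hc
    have hinv : ∀ Q, φ g Q ∈ S ↔ Q ∈ S := by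
      intro Q
      have h' : φ c (φ g Q) = φ g (φ c Q) := by
        rw [← Equiv.Perm.mul_apply, ← map_mul, hgc, map_mul, Equiv.Perm.mul_apply]
      simp only [hS, Equiv.Perm.mem_support, h']
      exact (φ g).injective.ne_iff
    have h7dvd : 7 ∣ S.card := by
      by_contra hnd
      have hnd' : ¬ 7 ∣ Fintype.card {Q // Q ∈ S} := by rwa [Fintype.card_coe]
      let σ : Equiv.Perm {Q // Q ∈ S} := (φ g).subtypePerm hinv
      have hσ : σ ^ 7 ^ 1 = 1 := by
        ext Q
        have h1 : φ (g : G) ^ 7 = 1 := by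
          have h7 : g ^ 7 = 1 := by
            have := pow_card_eq_one' (x := g)
            rwa [hP] at this
          rw [← map_pow, ← Subgroup.coe_pow, h7, OneMemClass.coe_one, map_one]
        simp [σ, Equiv.Perm.subtypePerm_pow, h1]
      obtain ⟨⟨Q, hQS⟩, hQ⟩ := Equiv.Perm.exists_fixed_point_of_prime hnd' hσ
      have hQ' : (g : G) • Q = Q := congrArg Subtype.val hQ
      have hle : (P : Subgroup G) ≤ Subgroup.normalizer (Q : Set G) := by
        intro x hx
        obtain ⟨n, hn'⟩ := hg ⟨x, hx⟩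
        have hx' : x = (g : G) ^ n := by rw [← Subgroup.coe_zpow]; exact congrArg Subtype.val hn'.symm
        rw [hx']
        exact zpow_mem (Sylow.smul_eq_iff_mem_normalizer.mp hQ') n
      exact hPS (sylow_eq_of_le_normalizer hle ▸ hQS)
    have hcard : S.card ≤ 14 := by
      have : S.card < Fintype.card (Sylow 7 G) :=
        Finset.card_lt_univ_of_notMem hPS
      rw [← Nat.card_eq_fintype_card, hn] at this
      omega
    have hpr : φ c ^ r = 1 := by rw [← hco']; exact pow_orderOf_eq_one _
    have hct := Equiv.Perm.cycleType_of_pow_prime_eq_one hpr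
    set m := (φ c).cycleType.card
    have hsum := (φ c).sum_cycleType
    rw [hct, Multiset.sum_replicate, smul_eq_mul, ← hS] at hsum
    have hm0 : m ≠ 0 := by
      intro h0
      rw [h0] at hct
      have : φ c = 1 := Equiv.Perm.cycleType_eq_zero.mp (by simpa using hct)
      rw [this, orderOf_one] at hco'
      exact hr.one_lt.ne hco'
    have hrS : r ∣ S.card := ⟨m, by rw [← hsum, mul_comm]⟩
    have h14 : S.card = 7 ∨ S.card = 14 := by
      rcases h7dvd with ⟨k, hk⟩
      have : S.card ≠ 0 := by rw [← hsum]; exact Nat.mul_ne_zero hm0 hr.ne_zero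
      omega
    have hr2 : r = 2 ∧ m = 7 := by
      rcases h14 with h | h <;> rw [h] at hrS
      · exact absurd ((Nat.prime_dvd_prime_iff_eq hr (by norm_num)).mp hrS) h7
      · have : r ∣ 2 * 7 := hrS
        rcases (Nat.Prime.dvd_mul hr).mp this with h2 | h2
        · obtain rfl := (Nat.prime_dvd_prime_iff_eq hr Nat.prime_two).mp h2
          omega
        · exact absurd ((Nat.prime_dvd_prime_iff_eq hr (by norm_num)).mp h2) h7
    have := heven c
    rw [Equiv.Perm.sign_of_cycleType] at this
    rw [hct, hr2.1, hr2.2] at this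
    exact absurd this (by decide)
  have hpg : IsPGroup 7 (Subgroup.centralizer ((P : Subgroup G) : Set G)) := by
    rw [IsPGroup.iff_card]
    exact ⟨_, Nat.eq_prime_pow_of_unique_prime_dvd Nat.card_pos.ne' (fun {d} hd hdd => hprime d hd hdd)⟩
  obtain ⟨R, hR⟩ := hpg.exists_le_sylow
  exact (Subgroup.card_dvd_of_le hR).trans (dvd_of_eq (card_sylow7 hn hfaith R))

end Core

/-- Transport of the count through a surjection whose kernel normalizes every Sylow subgroup. -/
lemma mapSurjective_bijective {G H : Type*} [Group G] [Finite G] [Group H] {p : ℕ} [Fact p.Prime]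
    (f : G →* H) (hf : Function.Surjective f)
    (hker : ∀ g ∈ f.ker, ∀ Q : Sylow p G, g • Q = Q) :
    Function.Bijective (fun Q : Sylow p G => Q.mapSurjective hf) := by
  refine ⟨fun P Q h => ?_, Sylow.mapSurjective_surjective hf p⟩
  have h' : (P : Subgroup G).map f = (Q : Subgroup G).map f := congrArg (fun R : Sylow p H => (R : Subgroup H)) h
  refine (sylow_eq_of_le_normalizer (fun x hx => ?_)).symm
  obtain ⟨y, hy, hyx⟩ := (h'.symm ▸ Subgroup.mem_map_of_mem f hx : f x ∈ (P : Subgroup G).map f)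
  have hk : y⁻¹ * x ∈ f.ker := by simp [MonoidHom.mem_ker, map_mul, hyx]
  have : x = y * (y⁻¹ * x) := by group
  rw [this]
  exact mul_mem (Subgroup.le_normalizer hy) (Sylow.smul_eq_iff_mem_normalizer.mp (hker _ hk P))

lemma core {G : Type*} [Group G] [Finite G] [Fact (Nat.Prime 7)] (hn : Nat.card (Sylow 7 G) = 15)
    (hfaith : ∀ g : G, (∀ Q : Sylow 7 G, g • Q = Q) → g = 1)
    (heven : ∀ [Fintype (Sylow 7 G)] [DecidableEq (Sylow 7 G)] (g : G),
      Equiv.Perm.sign (MulAction.toPermHom G (Sylow 7 G) g) = 1) : False := by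
  obtain ⟨P⟩ : Nonempty (Sylow 7 G) := inferInstance
  have hP := card_sylow7 hn hfaith P
  have hC := centralizer_even_eq hn hfaith P heven
  set N := Subgroup.normalizer (P : Set G)
  have hNi : N.index = 15 := by rw [← hn]; exact P.card_eq_index_normalizer.symm
  have hG : 15 * Nat.card N = Nat.card G := by rw [← hNi]; exact N.index_mul_card
  let f := (P : Subgroup G).normalizerMonoidHom
  have hcyc : IsCyclic (P : Subgroup G) := isCyclic_of_prime_card hP
  have h42 : Nat.card N ∣ 42 := by
    show Nat.card (Subgroup.normalizer ((P : Subgroup G) : Set G)) ∣ 42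
    rw [← f.ker.index_mul_card, show (42 : ℕ) = 6 * 7 by norm_num]
    refine Nat.mul_dvd_mul ?_ ?_
    · rw [Subgroup.index_ker]
      have := Subgroup.card_subgroup_dvd_card f.range
      rwa [IsCyclic.card_mulAut, hP, Nat.totient_prime (by norm_num)] at this
    · rw [Subgroup.normalizerMonoidHom_ker,
        Nat.card_congr (Subgroup.subgroupOfEquivOfLe (Subgroup.centralizer_le_normalizer _)).toEquiv]
      exact hC
  have h7 : 7 ∣ Nat.card N := hP ▸ Subgroup.card_dvd_of_le Subgroup.le_normalizer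
  have h4 : Nat.card N = 7 ∨ Nat.card N = 14 ∨ Nat.card N = 21 ∨ Nat.card N = 42 := by
    have hmem : Nat.card N ∈ Nat.divisors 42 := Nat.mem_divisors.mpr ⟨h42, by norm_num⟩
    rw [show Nat.divisors 42 = {1, 2, 3, 6, 7, 14, 21, 42} by decide] at hmem
    simp only [Finset.mem_insert, Finset.mem_singleton] at hmem
    omega
  have key : ∀ m : ℕ, (m = 105 ∨ m = 315) → Nat.card G = 2 * m → False := by
    intro m hm hcard
    obtain ⟨K, hKn, hK⟩ := exists_index_two m (by rcases hm with rfl | rfl <;> decide) hcard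
    have hmul := K.index_mul_card
    refine odd_case (G := K) ?_ (by rw [card_sylow_normal K (by rw [hK]; norm_num), hn])
    rw [hK, hcard] at hmul
    omega
  rcases h4 with h | h | h | h <;> rw [h] at hG
  · exact odd_case (Or.inl hG.symm) hn
  · exact key 105 (Or.inl rfl) hG.symm
  · exact odd_case (Or.inr hG.symm) hn
  · exact key 315 (Or.inr rfl) hG.symm

lemma faithful_case {G : Type*} [Group G] [Finite G] [Fact (Nat.Prime 7)] (hn : Nat.card (Sylow 7 G) = 15)
    (hfaith : ∀ g : G, (∀ Q : Sylow 7 G, g • Q = Q) → g = 1) : False := by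
  classical
  haveI := Fintype.ofFinite (Sylow 7 G)
  let s : G →* ℤˣ := Equiv.Perm.sign.comp (MulAction.toPermHom G (Sylow 7 G))
  have hidx : ¬ 7 ∣ s.ker.index := by
    rw [Subgroup.index_ker]
    intro h
    have := h.trans (Subgroup.card_subgroup_dvd_card s.range)
    simp [Nat.card_eq_fintype_card] at this
  let e : Sylow 7 G → Sylow 7 s.ker := fun Q => Q.subtype (sylow_le_of_not_dvd_index s.ker hidx Q)
  have hbij : Function.Bijective e :=
    ⟨fun P Q h => Sylow.subtype_injective h, fun R => by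
      obtain ⟨P, hP⟩ := R.exists_comap_subtype_eq; exact ⟨P, Sylow.ext hP⟩⟩
  have hequiv : ∀ (g : s.ker) (Q : Sylow 7 G), g • e Q = e ((g : G) • Q) := fun g Q =>
    Sylow.smul_subtype _ g
  refine core (G := s.ker) (by rw [card_sylow_normal s.ker hidx, hn]) (fun g hg => ?_) ?_
  · refine Subtype.ext (hfaith g fun Q => hbij.1 ?_)
    rw [← hequiv]; exact hg _
  · intro _ _ g
    have h1 : s (g : G) = 1 := g.2
    rw [← h1]
    refine (Equiv.Perm.sign_eq_sign_of_equiv _ _ (Equiv.ofBijective e hbij) fun Q => ?_).symm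
    exact (hequiv g Q).symm

lemma main {G : Type*} [Group G] [Finite G] : Nat.card (Sylow 7 G) ≠ 15 := by
  haveI : Fact (Nat.Prime 7) := ⟨by norm_num⟩
  intro hn
  let φ := MulAction.toPermHom G (Sylow 7 G)
  have hs : Function.Surjective φ.rangeRestrict := φ.rangeRestrict_surjective
  have hker : ∀ g ∈ φ.rangeRestrict.ker, ∀ Q : Sylow 7 G, g • Q = Q := by
    intro g hg Q
    have : φ g = 1 := congrArg Subtype.val (MonoidHom.mem_ker.mp hg)
    simpa [φ] using congrArg (fun e : Equiv.Perm (Sylow 7 G) => e Q) this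
  have hbij := mapSurjective_bijective φ.rangeRestrict hs hker
  refine faithful_case (G := φ.range) ((Nat.card_eq_of_bijective _ hbij).symm.trans hn) ?_
  intro x hx
  obtain ⟨g, rfl⟩ := hs x
  have : ∀ Q : Sylow 7 G, g • Q = Q := by
    intro Q
    apply hbij.1
    refine Eq.trans (Sylow.ext ?_) (hx (Q.mapSurjective hs))
    simp only [Sylow.coe_mapSurjective, Sylow.coe_subgroup_smul]
    ext y
    simp only [Subgroup.mem_map, Subgroup.mem_pointwise_smul_iff_inv_smul_mem]
    constructor
    · rintro ⟨a, ha, rfl⟩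
      refine ⟨_, ha, ?_⟩
      simp [map_mul]
    · rintro ⟨a, ha, hay⟩
      refine ⟨g * a * g⁻¹, by simpa [mul_assoc] using ha, ?_⟩
      have : y = φ.rangeRestrict g * φ.rangeRestrict a * (φ.rangeRestrict g)⁻¹ := by
        rw [hay]; simp [mul_assoc]
      rw [this]; simp [map_mul]
  ext Q
  simp [φ, this]


/-- No finite group has exactly 15 Sylow 7-subgroups. -/
theorem result {G : Type*} [Group G] [Finite G] : Nat.card (Sylow 7 G) ≠ 15 := by
  exact main

end Cfsg.Agent.S4304
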