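import Cfsg.Statements.S4305
import Cfsg.Agent.Lib.FGB.S3Nilpotent

set_option autoImplicit false
open Cfsg

namespace Cfsg.Agent.S4305

/-- Let the symmetric group of degree 3 act by automorphisms on a finite solvable group `G` of order prime to 6, so that only the identity of `G` is fixed by all of it. Then the derived subgroup of `G` is nilpotent. -/
theorem result {G : Type*} [Group G] [Finite G] [Group.IsSolvable G]
    [MulDistribMulAction (Equiv.Perm (Fin 3)) G] (hcop : (Nat.card G).Coprime 6)
    (hfpf : ∀ g : G, (∀ a : Equiv.Perm (Fin 3), a • g = g) → g = 1) :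
    Group.IsNilpotent ↥(commutator G) := by
  refine Cfsg.Agent.FGB.isNilpotent_commutator_of_s3 (finRotate 3) (Equiv.swap 1 2) (by decide)
    (by decide) (by decide) (MulDistribMulAction.toMulAut (Equiv.Perm (Fin 3)) G)
    (fun x ha ht => hfpf x ?_) hcop
  have hgen : ∀ b : Equiv.Perm (Fin 3), b = 1 ∨ b = finRotate 3 ∨ b = finRotate 3 * finRotate 3 ∨
      b = Equiv.swap 1 2 ∨ b = finRotate 3 * Equiv.swap 1 2 ∨
      b = finRotate 3 * finRotate 3 * Equiv.swap 1 2 := by decide
  change finRotate 3 • x = x at ha
  change (Equiv.swap 1 2 : Equiv.Perm (Fin 3)) • x = x at ht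
  intro b
  rcases hgen b with rfl | rfl | rfl | rfl | rfl | rfl <;> simp only [one_smul, mul_smul, ha, ht]

end Cfsg.Agent.S4305
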