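import Cfsg.Statements.S4309
-- import your own Cfsg.Agent.* helpers here

set_option autoImplicit false
open Cfsg
open scoped Pointwise commutatorElement
set_option linter.all false

namespace Cfsg.Agent.S4309

lemma relIndex_dvd_index {G : Type*} [Group G] [Finite G] (H F : Subgroup G) [F.Normal] :
    H.relIndex F ∣ H.index := by
  refine Dvd.dvd.trans (dvd_of_eq (?_ : _ = H.relIndex (H ⊔ F)))
    (Dvd.intro _ (Subgroup.relIndex_mul_index (le_sup_left : H ≤ H ⊔ F)))
  have h1 := Subgroup.card_mul_index ((H ⊓ F).subgroupOf F)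
  have h2 := Subgroup.card_mul_index ((H ⊓ F).subgroupOf H)
  have h3 := Subgroup.card_mul_index (H.subgroupOf (H ⊔ F))
  have h4 := Subgroup.card_mul_index (F.subgroupOf (H ⊔ F))
  rw [Nat.card_congr (Subgroup.subgroupOfEquivOfLe (inf_le_right : H ⊓ F ≤ F)).toEquiv, ← Subgroup.relIndex, Subgroup.inf_relIndex_right] at h1
  rw [Nat.card_congr (Subgroup.subgroupOfEquivOfLe (inf_le_left : H ⊓ F ≤ H)).toEquiv, ← Subgroup.relIndex, Subgroup.inf_relIndex_left] at h2
  rw [Nat.card_congr (Subgroup.subgroupOfEquivOfLe (le_sup_left : H ≤ H ⊔ F)).toEquiv, ← Subgroup.relIndex] at h3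
  rw [Nat.card_congr (Subgroup.subgroupOfEquivOfLe (le_sup_right : F ≤ H ⊔ F)).toEquiv, ← Subgroup.relIndex, Subgroup.relIndex_sup_right, ← h3, ← h1, ← h2] at h4
  have hpos : 0 < Nat.card (H ⊓ F : Subgroup G) * F.relIndex H := h2 ▸ Nat.card_pos
  refine Nat.eq_of_mul_eq_mul_left hpos ?_
  linarith


/-- Let `π` be a set of primes, `G` a finite group with a Hall `π`-subgroup `H` (every prime divisor of the order of `H` lies in `π` and no prime of `π` divides its index), and `A` a normal subgroup of `G`. Then `H ∩ A` is a Hall `π`-subgroup of `A` and the image of `H` in `G/A` is a Hall `π`-subgroup of `G/A`. -/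
theorem result {G : Type*} [Group G] [Finite G] (π : Set ℕ)
    (H A : Subgroup G) [A.Normal] (hH : Cfsg.IsPiHall π H) :
    Cfsg.IsPiHall π ((H ⊓ A).subgroupOf A) ∧ Cfsg.IsPiHall π (H.map (QuotientGroup.mk' A)) := by
  refine ⟨⟨fun p hp hd => hH.1 p hp ?_, fun p hp hmem hd => hH.2 p hp hmem ?_⟩,
    fun p hp hd => hH.1 p hp (hd.trans (Subgroup.card_map_dvd _ _)),
    fun p hp hmem hd => hH.2 p hp hmem (hd.trans (Subgroup.index_map_dvd _ (QuotientGroup.mk'_surjective A)))⟩
  · rw [Nat.card_congr (Subgroup.subgroupOfEquivOfLe inf_le_right).toEquiv] at hd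
    exact hd.trans (Subgroup.card_dvd_of_le inf_le_left)
  · refine hd.trans ?_
    rw [← Subgroup.relIndex, Subgroup.inf_relIndex_right]
    exact relIndex_dvd_index H A

end Cfsg.Agent.S4309
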