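import Cfsg.Statements.S4314
import Mathlib

set_option autoImplicit false
open Cfsg
open scoped Pointwise
set_option linter.all false

namespace Cfsg.Agent.S4314

open Subgroup MulAction

theorem map_centralizer_index_dvd {G H : Type*} [Group G] [Group H] (f : G →* H) (hf : Function.Surjective f) (y : G) :
    (centralizer ({f y} : Set H)).index ∣ (centralizer ({y} : Set G)).index := by
  refine (index_dvd_of_le ?_).trans ((centralizer ({y} : Set G)).index_map_dvd hf)
  rintro _ ⟨z, hz, rfl⟩
  rw [mem_centralizer_singleton_iff, ← map_mul, ← map_mul, mem_centralizer_singleton_iff.1 hz]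


/-- Let `G` be a finite group every conjugacy class of which has size 1 or a prime. Then either `G` is nilpotent of class at most 2, or `G/Z(G)` is a non-abelian group of order `pq` for distinct primes `p, q` (a Frobenius group of order `pq`). -/
theorem result {G : Type*} [Group G] [Finite G]
    (h : ∀ x : G, (Subgroup.centralizer ({x} : Set G)).index = 1 ∨ ((Subgroup.centralizer ({x} : Set G)).index).Prime) :
    Subgroup.upperCentralSeries G 2 = ⊤ ∨
      ∃ p q : ℕ, p.Prime ∧ q.Prime ∧ p ≠ q ∧ Nat.card (G ⧸ Subgroup.center G) = p * q ∧ ¬ IsMulCommutative (G ⧸ Subgroup.center G) := by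
  classical
  by_cases hall : ∀ x : G, (Subgroup.centralizer ({x} : Set G)).Normal
  · left
    refine eq_top_iff.2 fun x _ => (Subgroup.mem_upperCentralSeries_succ_iff (n := 1)).2 fun y => ?_
    rw [Subgroup.upperCentralSeries_one, Subgroup.mem_center_iff]
    intro z
    haveI := hall z
    have hz : x * y * x⁻¹ * y⁻¹ ∈ Subgroup.centralizer ({z} : Set G) := by
      rcases h z with h1 | h1
      · rw [Subgroup.index_eq_one.1 h1]; exact Subgroup.mem_top _
      · haveI := Fact.mk h1
        have hc : IsCyclic (G ⧸ Subgroup.centralizer ({z} : Set G)) :=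
          isCyclic_of_prime_card (p := (Subgroup.centralizer ({z} : Set G)).index) (Subgroup.index_eq_card _).symm
        rw [← QuotientGroup.eq_one_iff]
        simp only [QuotientGroup.mk_mul, QuotientGroup.mk_inv]
        rw [hc.isMulCommutative.is_comm.comm (x : G ⧸ Subgroup.centralizer ({z} : Set G)) y]
        group
    exact (Subgroup.mem_centralizer_singleton_iff.1 hz).symm
  right
  push Not at hall
  obtain ⟨x, hx⟩ := hall
  set M := Subgroup.centralizer ({x} : Set G) with hM
  have hp : M.index.Prime := (h x).resolve_left fun h1 => hx (by rw [hM, Subgroup.index_eq_one.1 h1]; infer_instance)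
  set p := M.index with hpdef
  haveI := Fact.mk hp
  set f := MulAction.toPermHom G (G ⧸ M) with hf
  set K := f.ker with hK
  have hKM : K ≤ M := by
    rw [hK, hf, ← Subgroup.normalCore_eq_ker]; exact M.normalCore_le
  let π := f.rangeRestrict
  have hπ : Function.Surjective π := f.rangeRestrict_surjective
  have hcardX : Nat.card (G ⧸ M) = p := (Subgroup.index_eq_card M).symm
  have hcR : K.index = Nat.card f.range := Subgroup.index_ker f
  have hpR : p ∣ Nat.card f.range := hcR ▸ Subgroup.index_dvd_of_le hKM
  obtain ⟨w, hw⟩ := exists_prime_orderOf_dvd_card' p hpR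
  obtain ⟨y, hy⟩ := hπ w
  have hwp : orderOf (w : Equiv.Perm (G ⧸ M)) = p := by rw [Subgroup.orderOf_coe, hw]
  haveI := Fintype.ofFinite (G ⧸ M)
  have htrans : ∀ a b : G ⧸ M, ∃ k : ℤ, ((w : Equiv.Perm (G ⧸ M)) ^ k) a = b := by
    intro a b
    have hcard : (Fintype.card (G ⧸ M)).Prime := by rwa [← Nat.card_eq_fintype_card, hcardX]
    have hcyc := Equiv.Perm.isCycle_of_prime_order' (σ := (w : Equiv.Perm (G ⧸ M)))
      (by rw [hwp]; exact hp) (by
        rw [hwp, ← Nat.card_eq_fintype_card, hcardX]
        have := hp.pos; omega)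
    have hsupp : (w : Equiv.Perm (G ⧸ M)).support = Finset.univ := by
      refine Finset.eq_univ_of_card _ ?_
      rw [← hcyc.orderOf, hwp, ← Nat.card_eq_fintype_card, hcardX]
    exact hcyc.exists_zpow_eq (Equiv.Perm.mem_support.1 (hsupp ▸ Finset.mem_univ a))
      (Equiv.Perm.mem_support.1 (hsupp ▸ Finset.mem_univ b))
  have hCw : Nat.card (Subgroup.centralizer ({w} : Set f.range)) = p := by
    have : Subgroup.centralizer ({w} : Set f.range) = Subgroup.zpowers w := by
      refine le_antisymm (fun c hc => ?_) (Subgroup.zpowers_le.2 (Subgroup.mem_centralizer_singleton_iff.2 rfl))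
      obtain ⟨a⟩ : Nonempty (G ⧸ M) := inferInstance
      obtain ⟨k, hk⟩ := htrans a ((c : Equiv.Perm (G ⧸ M)) a)
      refine ⟨k, Subtype.ext (Equiv.ext fun b => ?_)⟩
      show ((w : Equiv.Perm (G ⧸ M)) ^ k) b = (c : Equiv.Perm (G ⧸ M)) b
      obtain ⟨j, rfl⟩ := htrans a b
      have hcw : Commute (c : Equiv.Perm (G ⧸ M)) ((w : Equiv.Perm (G ⧸ M)) ^ j) :=
        Commute.zpow_right (congrArg Subtype.val (Subgroup.mem_centralizer_singleton_iff.1 hc)) j
      rw [← Equiv.Perm.mul_apply, ← Equiv.Perm.mul_apply (c : Equiv.Perm (G ⧸ M)), ← zpow_add, add_comm,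
        zpow_add, Equiv.Perm.mul_apply, hk, hcw.eq, Equiv.Perm.mul_apply]
    rw [this, Nat.card_zpowers, hw]
  have hidxw : (Subgroup.centralizer ({w} : Set f.range)).index * p = Nat.card f.range := by
    rw [← hCw]; exact Subgroup.index_mul_card _
  have hdiv := map_centralizer_index_dvd π hπ y
  rw [hy] at hdiv
  have hRne : Nat.card f.range ≠ p := fun e => hx (by
    have h1 : K = M := by
      have h2 := Subgroup.relIndex_mul_index hKM
      rw [hcR, e] at h2
      exact le_antisymm hKM (Subgroup.relIndex_eq_one.1 (mul_eq_right₀ hp.ne_zero |>.1 h2))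
    rw [← h1]; exact MonoidHom.normal_ker f)
  obtain ⟨q, hq, hR⟩ : ∃ q, q.Prime ∧ Nat.card f.range = p * q := by
    refine ⟨(Subgroup.centralizer ({w} : Set f.range)).index, ?_, by rw [← hidxw, mul_comm]⟩
    rcases h y with h1 | h1
    · rw [h1, Nat.dvd_one] at hdiv
      exact absurd (by rw [← hidxw, hdiv, one_mul]) hRne
    · rcases (Nat.dvd_prime h1).1 hdiv with h2 | h2
      · exact absurd (by rw [← hidxw, h2, one_mul]) hRne
      · rwa [h2]
  have hqp : p ≠ q := by
    rintro rfl
    have h1 : p * p ∣ p.factorial := by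
      rw [← hR, ← hcardX, ← Nat.card_perm]; exact Subgroup.card_subgroup_dvd_card _
    obtain ⟨m, hm⟩ := Nat.exists_eq_add_of_le' hp.pos
    rw [hm, Nat.factorial_succ, ← hm] at h1
    have h2 := (hp.dvd_factorial).1 (Nat.dvd_of_mul_dvd_mul_left hp.pos h1)
    omega
  have hna : ¬ IsMulCommutative f.range := fun hc => hx ⟨fun m hm g => by
    have hc' : π (g * m * g⁻¹) = π m := by
      rw [map_mul, map_mul, map_inv, hc.is_comm.comm (π g), mul_inv_cancel_right]
    have h1 : g * m * g⁻¹ * m⁻¹ ∈ K := by
      rw [hK, ← MonoidHom.ker_rangeRestrict, MonoidHom.mem_ker, map_mul, map_inv, hc', mul_inv_cancel]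
    simpa using mul_mem (hKM h1) hm⟩
  have hZ1 : Subgroup.center f.range = ⊥ := by
    by_contra hne
    have hd := (Subgroup.center f.range).card_mul_index
    rw [hR] at hd
    have hi : (Subgroup.center f.range).index = 1 ∨ ((Subgroup.center f.range).index).Prime := by
      have h1 : (Subgroup.center f.range).index ∣ p * q := Dvd.intro_left _ hd
      obtain ⟨d1, d2, h1', h2', he⟩ := exists_dvd_and_dvd_of_dvd_mul h1
      rcases (Nat.dvd_prime hp).1 h1' with rfl | rfl <;> rcases (Nat.dvd_prime hq).1 h2' with rfl | rfl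
      · left; simpa using he
      · right; rw [he, one_mul]; exact hq
      · right; rw [he, mul_one]; exact hp
      · exfalso
        apply hne
        rw [← Subgroup.card_eq_one]
        rw [he] at hd
        exact mul_eq_right₀ (Nat.mul_ne_zero hp.ne_zero hq.ne_zero) |>.1 hd
    apply hna
    have hcyc : IsCyclic (f.range ⧸ Subgroup.center f.range) := by
      rcases hi with hi | hi
      · haveI : Subsingleton (f.range ⧸ Subgroup.center f.range) :=
          Finite.card_le_one_iff_subsingleton.1 (by rw [← Subgroup.index_eq_card, hi])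
        infer_instance
      · haveI := Fact.mk hi
        exact isCyclic_of_prime_card (Subgroup.index_eq_card _).symm
    refine ⟨⟨fun a b => ?_⟩⟩
    exact commutative_of_cyclic_center_quotient (QuotientGroup.mk' (Subgroup.center f.range))
      (by rw [QuotientGroup.ker_mk']) a b
  have hcent : ∀ v : G, v ∉ K → K ≤ Subgroup.centralizer ({v} : Set G) := by
    intro v hv
    have h1 : (Subgroup.centralizer ({π v} : Set f.range)).index ≠ 1 := by
      rw [ne_eq, Subgroup.index_eq_one, Subgroup.centralizer_eq_top_iff_subset, Set.singleton_subset_iff,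
        SetLike.mem_coe, hZ1, Subgroup.mem_bot]
      exact fun e => hv (by rw [hK, ← MonoidHom.ker_rangeRestrict]; exact e)
    have h2 := map_centralizer_index_dvd π hπ v
    have h3 : (Subgroup.centralizer ({v} : Set G)).index.Prime := (h v).resolve_left fun e => h1 (by
      rw [e, Nat.dvd_one] at h2; exact h2)
    have h4 := ((Nat.dvd_prime h3).1 h2).resolve_left h1
    have h5 : ((Subgroup.centralizer ({v} : Set G)).map π).index = (Subgroup.centralizer ({v} : Set G)).index := by
      refine Nat.dvd_antisymm ((Subgroup.centralizer ({v} : Set G)).index_map_dvd hπ) ?_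
      rw [← h4]
      refine Subgroup.index_dvd_of_le ?_
      rintro _ ⟨z, hz, rfl⟩
      rw [Subgroup.mem_centralizer_singleton_iff, ← map_mul, ← map_mul, Subgroup.mem_centralizer_singleton_iff.1 hz]
    rw [Subgroup.index_map, MonoidHom.range_eq_top.2 hπ, Subgroup.index_top, mul_one,
      show π.ker = K from f.ker_rangeRestrict] at h5
    have h6 := Subgroup.relIndex_mul_index (le_sup_left : Subgroup.centralizer ({v} : Set G) ≤ _ ⊔ K)
    rw [h5] at h6
    exact le_sup_right.trans (Subgroup.relIndex_eq_one.1 ((mul_eq_right₀ h3.ne_zero).1 h6))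
  have hKne : ∃ v, v ∉ K := ⟨y, fun e => by
    rw [hK, ← MonoidHom.ker_rangeRestrict, MonoidHom.mem_ker] at e
    rw [e] at hy
    rw [← hy, orderOf_one] at hw
    exact hp.ne_one hw.symm⟩
  have hKZ : K = Subgroup.center G := by
    refine le_antisymm (fun k hk => Subgroup.mem_center_iff.2 fun g => ?_) fun z hz => ?_
    · by_cases hg : g ∈ K
      · obtain ⟨v, hv⟩ := hKne
        have h1 : v * g ∉ K := fun e => hv (by simpa using mul_mem e (inv_mem hg))
        have c1 : k * v = v * k := Subgroup.mem_centralizer_singleton_iff.1 (hcent v hv hk)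
        have c2 : k * (v * g) = v * g * k := Subgroup.mem_centralizer_singleton_iff.1 (hcent _ h1 hk)
        rw [← mul_assoc, c1, mul_assoc, mul_assoc] at c2
        exact (mul_left_cancel c2).symm
      · exact (Subgroup.mem_centralizer_singleton_iff.1 (hcent g hg hk)).symm
    · have h1 : π z ∈ Subgroup.center f.range := by
        refine Subgroup.mem_center_iff.2 fun r => ?_
        obtain ⟨g, rfl⟩ := hπ r
        rw [← map_mul, ← map_mul, Subgroup.mem_center_iff.1 hz g]
      rw [hZ1, Subgroup.mem_bot] at h1
      rw [hK, ← MonoidHom.ker_rangeRestrict]; exact h1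
  refine ⟨p, q, hp, hq, hqp, ?_, fun hc => hna ⟨⟨fun a b => ?_⟩⟩⟩
  · rw [← Subgroup.index_eq_card, ← hKZ, hcR, hR]
  · obtain ⟨g, rfl⟩ := hπ a
    obtain ⟨g', rfl⟩ := hπ b
    have h1 := hc.is_comm.comm (g : G ⧸ Subgroup.center G) g'
    rw [← QuotientGroup.mk_mul, ← QuotientGroup.mk_mul, QuotientGroup.eq, ← hKZ, hK,
      ← MonoidHom.ker_rangeRestrict, MonoidHom.mem_ker, map_mul, map_inv, inv_mul_eq_one, map_mul, map_mul] at h1
    exact h1

end Cfsg.Agent.S4314
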