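import Cfsg.Statements.S4316
import Cfsg.Agent.Lib.CT.DerivedFixed.ClassBound
import Cfsg.Agent.Lib.CT.DerivedFixed.Closure
import Mathlib.GroupTheory.SemidirectProduct

set_option autoImplicit false
universe u
open Cfsg

namespace Cfsg.Agent.S4316

open scoped commutatorElement
open Subgroup Cfsg.Agent.DerivedFixed

/-- There is a function `f` of two natural-number arguments with the following property. Let `q` be a prime and `A` an elementary abelian group of order `q³` acting by automorphisms on a finite group `G` of order prime to `q`, and suppose that for every non-identity `a ∈ A` the derived subgroup of the fixed-point subgroup `C_G(a)` has order at most `m`. Then the derived subgroup of `G` has order at most `f(q, m)`. -/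
theorem result :
    ∃ f : ℕ → ℕ → ℕ, ∀ (q m : ℕ) (A G : Type u) [Group A] [Finite A] [Group G] [Finite G] [MulDistribMulAction A G],
      q.Prime → Nat.card A = q ^ 3 → (∀ a b : A, a * b = b * a) → (∀ a : A, a ^ q = 1) → ¬ q ∣ Nat.card G →
      (∀ a : A, a ≠ 1 → Nat.card ↥(commutator ↥(FixedPoints.subgroup (Subgroup.zpowers a) G)) ≤ m) →
      Nat.card ↥(commutator G) ≤ f q m := by
  refine ⟨fun q m => derivedBound
    (q ^ 3 * m * ((m ^ q ^ 3) ^ (m ^ q ^ 3 + 1) * (m ^ q ^ 3) ^ (m ^ q ^ 3 + 1))) m, ?_⟩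
  intro q m A G _ _ _ _ _ hq hAcard hcomm hexp hqG hfix
  classical
  haveI := Fact.mk hq
  haveI := Fintype.ofFinite A
  haveI := Fintype.ofFinite G
  set M1 := (m ^ q ^ 3) ^ (m ^ q ^ 3 + 1) with hM1
  set θ : A →* MulAut G := MulDistribMulAction.toMulAut A G with hθ
  haveI : Finite (G ⋊[θ] A) := Finite.of_injective (fun x => (x.left, x.right))
    fun x y h => SemidirectProduct.ext (congrArg Prod.fst h) (congrArg Prod.snd h)
  set ι : G →* G ⋊[θ] A := SemidirectProduct.inl
  set κ : A →* G ⋊[θ] A := SemidirectProduct.inr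
  have hι : Function.Injective ι := SemidirectProduct.inl_injective
  have hκ : Function.Injective κ := SemidirectProduct.inr_injective
  have hconj : ∀ (a : A) (g : G), κ a * ι g * κ a⁻¹ = ι (a • g) := fun a g =>
    (SemidirectProduct.inl_aut a g).symm
  have hcomm_iff : ∀ (a : A) (g : G), κ a * ι g = ι g * κ a ↔ a • g = g := by
    intro a g
    have h := hconj a g
    rw [map_inv, mul_inv_eq_iff_eq_mul] at h
    rw [h, mul_left_inj]
    exact hι.eq_iff
  have hAne : ∃ a : A, a ≠ 1 := by
    by_contra hc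
    push Not at hc
    have : Subsingleton A := ⟨fun a b => by rw [hc a, hc b]⟩
    rw [Nat.card_of_subsingleton (1 : A)] at hAcard
    exact absurd hAcard (Nat.one_lt_pow (by norm_num) hq.one_lt).ne
  have hm1 : 1 ≤ m := by
    obtain ⟨a, ha⟩ := hAne
    exact le_trans Nat.card_pos (hfix a ha)
  have hK : Nat.card ι.range = Nat.card G :=
    (Nat.card_congr (MonoidHom.ofInjective hι).toEquiv).symm
  have hKn : (ι.range).Normal := by
    rw [show ι.range = (SemidirectProduct.rightHom : G ⋊[θ] A →* A).ker from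
      SemidirectProduct.range_inl_eq_ker_rightHom]
    infer_instance
  have helem : ∀ B : Subgroup A, Cfsg.IsElementaryAbelian q (B.map κ) := by
    intro B
    refine ⟨⟨⟨fun x y => ?_⟩⟩, ?_⟩
    · obtain ⟨a, -, ha⟩ := mem_map.mp x.2
      obtain ⟨b, -, hb⟩ := mem_map.mp y.2
      refine Subtype.ext ?_
      show (x : G ⋊[θ] A) * y = y * x
      rw [← ha, ← hb, ← map_mul, hcomm, map_mul]
    · rintro _ ⟨a, -, rfl⟩
      rw [← map_pow, hexp, map_one]
  -- the derived subgroups of the fixed points, as subgroups of `G`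
  let D : A → Subgroup G := fun a =>
    ⁅FixedPoints.subgroup (zpowers a) G, FixedPoints.subgroup (zpowers a) G⁆
  have hD : ∀ a : A, a ≠ 1 → Nat.card (D a) ≤ m := by
    intro a ha
    refine le_trans (le_of_eq ?_) (hfix a ha)
    show Nat.card (⁅_, _⁆ : Subgroup G) = _
    rw [← map_subtype_commutator, card_subtype]
  have hmemfix : ∀ (a : A) (g : G), a • g = g → g ∈ FixedPoints.subgroup (zpowers a) G := by
    intro a g hg
    rw [FixedPoints.mem_subgroup]
    intro c
    have h1 : (c : A) ∈ MulAction.stabilizer A g :=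
      (zpowers_le.mpr (MulAction.mem_stabilizer_iff.mpr hg)) c.2
    exact MulAction.mem_stabilizer_iff.mp h1
  -- the generators
  let X : Set G := {g | ∃ B : Subgroup A, q ^ 2 ≤ Nat.card B ∧ ∀ a ∈ B, a • g = g}
  have hXgen : closure X = ⊤ := by
    have hAelem := helem ⊤
    have hgen := Components.le_iSup_centralizer_index_le (p := q) hAelem (X := ι.range)
      (hK ▸ hqG) (fun b _ => by rw [normalizer_eq_top]; exact mem_top b)
    have hle : ι.range ≤ (closure X).map ι := by
      refine hgen.trans (iSup_le ?_)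
      rintro ⟨C, hCA, hCi⟩ k ⟨⟨g, rfl⟩, hk⟩
      refine mem_map_of_mem ι (subset_closure ⟨C.comap κ, ?_, fun a ha => ?_⟩)
      · have hC : Nat.card (C.comap κ) = Nat.card C := by
          refine Nat.card_congr ((C.comap κ).equivMapOfInjective κ hκ |>.toEquiv.trans
            (Equiv.setCongr ?_))
          rw [map_comap_eq, inf_eq_right.mpr (hCA.trans (map_le_range κ ⊤))]
        have h := relIndex_mul_relIndex ⊥ C _ bot_le hCA
        rw [relIndex_bot_left, relIndex_bot_left] at h
        rw [Nat.card_congr ((⊤ : Subgroup A).equivMapOfInjective κ hκ).toEquiv.symm, card_top,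
          hAcard] at h
        refine hC ▸ Nat.le_of_mul_le_mul_right (c := q) ?_ hq.pos
        calc q ^ 2 * q = q ^ 3 := by ring
          _ = Nat.card C * C.relIndex _ := h.symm
          _ ≤ Nat.card C * q := Nat.mul_le_mul_left _ hCi
      · exact (hcomm_iff a g).mp (mem_centralizer_iff.mp hk (κ a) ha)
    rw [eq_top_iff]
    intro g _
    obtain ⟨g', hg', e⟩ := hle ⟨g, rfl⟩
    exact hι e ▸ hg'
  -- two generators are centralised by a common nontrivial element
  have hcommon : ∀ x ∈ X, ∀ y ∈ X, ∃ a : A, a ≠ 1 ∧ ⁅x, y⁆ ∈ D a := by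
    rintro x ⟨B, hB, hBx⟩ y ⟨B', hB', hBy⟩
    obtain ⟨a, ha, ha1⟩ : ∃ a ∈ B ⊓ B', a ≠ 1 := by
      by_contra hc
      push Not at hc
      have hbot : B ⊓ B' = ⊥ := (eq_bot_iff_forall _).mpr hc
      have hnorm : B' ≤ normalizer (B : Set A) := fun b _ => mem_normalizer_iff.mpr fun c => by
        rw [hcomm b c, mul_inv_cancel_right]
      have h := Basics.card_mul_card_eq_card_sup_mul_card_inf hnorm
      rw [hbot, card_bot, mul_one] at h
      have h4 := Nat.mul_le_mul hB hB'
      rw [h] at h4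
      have h5 := h4.trans (card_le_card_group _)
      rw [hAcard, ← pow_add] at h5
      exact absurd ((Nat.pow_le_pow_iff_right hq.one_lt).mp h5) (by norm_num)
    exact ⟨a, ha1, commutator_mem_commutator (hmemfix a x (hBx a ha.1))
      (hmemfix a y (hBy a ha.2))⟩
  -- the class bound
  have hclass : ∀ x ∈ X, (centralizer ({x} : Set G)).index ≤ M1 := by
    rintro x ⟨B, hB, hBx⟩
    have hBcard : Nat.card (B.map κ) = Nat.card B :=
      (Nat.card_congr (B.equivMapOfInjective κ hκ).toEquiv).symm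
    have h := card_le_of_fixed q (K := ι.range) (helem B) (hBcard ▸ hB)
      (fun b _ => by rw [normalizer_eq_top]; exact mem_top b) (hK ▸ hqG) m (q ^ 3)
      (hBcard ▸ hAcard ▸ card_le_card_group B) hm1 ?_ (x := ι x) ⟨x, rfl⟩ ?_
    · have hC : ι.range ⊓ centralizer {ι x} = (centralizer ({x} : Set G)).map ι := by
        ext k
        constructor
        · rintro ⟨⟨g, rfl⟩, hk⟩
          refine mem_map_of_mem ι (mem_centralizer_singleton_iff.mpr (hι ?_))
          rw [map_mul, map_mul]
          exact mem_centralizer_singleton_iff.mp hk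
        · rintro ⟨g, hg, rfl⟩
          refine ⟨⟨g, rfl⟩, mem_centralizer_singleton_iff.mpr ?_⟩
          rw [← map_mul, ← map_mul, mem_centralizer_singleton_iff.mp hg]
      rw [hC, hK, ← Nat.card_congr ((centralizer ({x} : Set G)).equivMapOfInjective ι hι).toEquiv,
        ← card_mul_index (centralizer ({x} : Set G)), mul_comm M1] at h
      exact Nat.le_of_mul_le_mul_left h Nat.card_pos
    · rintro _ ⟨a, -, rfl⟩ ha
      have ha1 : a ≠ 1 := fun h => ha (by rw [h, map_one])
      have hle : ι.range ⊓ centralizer {κ a} ≤ (FixedPoints.subgroup (zpowers a) G).map ι := by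
        rintro _ ⟨⟨g, rfl⟩, hk⟩
        exact mem_map_of_mem ι (hmemfix a g
          ((hcomm_iff a g).mp (mem_centralizer_singleton_iff.mp hk).symm))
      refine le_trans (card_le_of_le (commutator_mono hle hle)) ?_
      rw [← map_commutator, ← Nat.card_congr (equivMapOfInjective _ ι hι).toEquiv]
      exact hD a ha1
    · rw [mem_centralizer_iff]
      rintro _ ⟨a, ha, rfl⟩
      exact (hcomm_iff a x).mpr (hBx a ha)
  -- the commutators
  set S : Set G := {s | ∃ x ∈ X, ∃ y ∈ X, s = ⁅x, y⁆} with hS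
  set T : Set G := {g | ∃ s ∈ S, ∃ k : G, g = k * s * k⁻¹} with hT
  have hSord : ∀ s ∈ S, orderOf s ≤ m := by
    rintro _ ⟨x, hx, y, hy, rfl⟩
    obtain ⟨a, ha, hm'⟩ := hcommon x hx y hy
    refine le_trans ?_ (hD a ha)
    rw [← Subgroup.orderOf_mk _ hm']
    exact Nat.le_of_dvd Nat.card_pos (orderOf_dvd_natCard _)
  have hScard : S.ncard ≤ q ^ 3 * m := by
    have hsub : S ⊆ ⋃ a ∈ (Finset.univ.filter fun a : A => a ≠ 1), (D a : Set G) := by
      rintro _ ⟨x, hx, y, hy, rfl⟩
      obtain ⟨a, ha, hm'⟩ := hcommon x hx y hy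
      exact Set.mem_biUnion (Finset.mem_filter.mpr ⟨Finset.mem_univ a, ha⟩) hm'
    refine le_trans (Set.ncard_le_ncard hsub) (le_trans (Finset.set_ncard_biUnion_le _ _) ?_)
    refine le_trans (Finset.sum_le_card_nsmul _ _ m fun a ha => ?_) ?_
    · rw [← Nat.card_coe_set_eq]
      exact hD a (Finset.mem_filter.mp ha).2
    · rw [smul_eq_mul]
      refine Nat.mul_le_mul_right _ ?_
      rw [← hAcard, Nat.card_eq_fintype_card]
      exact Finset.card_le_univ _
  have hTclass : ∀ s ∈ S, {g | ∃ k : G, g = k * s * k⁻¹}.ncard ≤ M1 * M1 := by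
    rintro _ ⟨x, hx, y, hy, rfl⟩
    set L := centralizer ({x} : Set G) ⊓ centralizer ({y} : Set G) with hL
    have hLs : ∀ l ∈ L, l * ⁅x, y⁆ * l⁻¹ = ⁅x, y⁆ := by
      intro l hl
      have h1 : ∀ z : G, l ∈ centralizer ({z} : Set G) → MulAut.conj l z = z := by
        intro z hz
        rw [MulAut.conj_apply, mem_centralizer_singleton_iff.mp hz, mul_inv_cancel_right]
      rw [← MulAut.conj_apply, map_commutatorElement, h1 x hl.1, h1 y hl.2]
    have hsub : {g | ∃ k : G, g = k * ⁅x, y⁆ * k⁻¹} ⊆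
        Set.range (fun c : G ⧸ L => c.out * ⁅x, y⁆ * c.out⁻¹) := by
      rintro _ ⟨k, rfl⟩
      refine ⟨(k : G ⧸ L), ?_⟩
      obtain ⟨l, hl⟩ := QuotientGroup.mk_out_eq_mul L k
      show (k : G ⧸ L).out * _ * ((k : G ⧸ L).out)⁻¹ = _
      rw [hl]
      calc k * (l : G) * ⁅x, y⁆ * (k * l)⁻¹ = k * ((l : G) * ⁅x, y⁆ * (l : G)⁻¹) * k⁻¹ := by group
        _ = _ := by rw [hLs l l.2]
    refine le_trans (Set.ncard_le_ncard hsub) ?_
    rw [← Nat.card_coe_set_eq]
    refine le_trans (Finite.card_range_le _) ?_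
    exact le_trans index_inf_le (Nat.mul_le_mul (hclass x hx) (hclass y hy))
  have hTcard : T.ncard ≤ q ^ 3 * m * (M1 * M1) := by
    have hsub : T ⊆ ⋃ s ∈ S.toFinset, {g | ∃ k : G, g = k * s * k⁻¹} := by
      rintro g ⟨s, hs, hk⟩
      exact Set.mem_biUnion (Set.mem_toFinset.mpr hs) hk
    refine le_trans (Set.ncard_le_ncard hsub) (le_trans (Finset.set_ncard_biUnion_le _ _) ?_)
    refine le_trans (Finset.sum_le_card_nsmul _ _ (M1 * M1) fun s hs => ?_) ?_
    · exact hTclass s (Set.mem_toFinset.mp hs)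
    · rw [smul_eq_mul, ← Set.ncard_eq_toFinset_card']
      exact Nat.mul_le_mul_right _ hScard
  refine card_commutator_le_of_invariant_set hXgen ?_ ?_ hTcard ?_ hm1
  · rintro g _ ⟨s, hs, k, rfl⟩
    exact ⟨s, hs, g * k, by group⟩
  · intro x hx y hy
    exact ⟨_, ⟨x, hx, y, hy, rfl⟩, 1, by group⟩
  · rintro _ ⟨s, hs, k, rfl⟩
    rw [← MulAut.conj_apply, MulEquiv.orderOf_eq]
    exact hSord s hs

end Cfsg.Agent.S4316
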