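import Cfsg.Statements.S4320
import Mathlib

set_option autoImplicit false
open Cfsg
open scoped Pointwise
set_option linter.all false

namespace Cfsg.Agent.S4320

open Subgroup

variable {G : Type*} [Group G]

abbrev Q (G : Type*) [Group G] := Abelianization G
abbrev A' (G : Type*) [Group G] := Additive (Abelianization (commutator G))
abbrev R (G : Type*) [Group G] := MonoidAlgebra ℤ (Q G)

/-- Functions on `G/G'` with values in `G'/G''`, acted on by translation. -/
def Nfun (G : Type*) [Group G] := Q G → A' G

instance : AddCommGroup (Nfun G) := inferInstanceAs (AddCommGroup (Q G → A' G))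

theorem nfun_ext {f f' : Nfun G} (h : ∀ p, f p = f' p) : f = f' := funext h

def shift : Q G →* Module.End ℤ (Nfun G) where
  toFun q :=
    { toFun := fun f p => f (q * p)
      map_add' := fun f f' => rfl
      map_smul' := fun n f => rfl }
  map_one' := LinearMap.ext fun f => nfun_ext fun p => by
    show f (1 * p) = f p
    rw [one_mul]
  map_mul' q q' := LinearMap.ext fun f => nfun_ext fun p => by
    show f (q * q' * p) = f (q' * (q * p))
    rw [mul_comm q q', mul_assoc]

noncomputable instance : Module (R G) (Nfun G) :=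
  Module.compHom (Nfun G) (MonoidAlgebra.lift ℤ (Module.End ℤ (Nfun G)) (Q G) shift).toRingHom

theorem of_smul (q p : Q G) (f : Nfun G) :
    (MonoidAlgebra.of ℤ (Q G) q • f : Nfun G) p = f (q * p) := by
  show (MonoidAlgebra.lift ℤ (Module.End ℤ (Nfun G)) (Q G) shift (MonoidAlgebra.of ℤ (Q G) q) f : Nfun G) p = _
  rw [MonoidAlgebra.lift_of]
  rfl

section

variable (t : Q G → G) (ht : ∀ q, Abelianization.of (t q) = q)

include ht in
theorem u_mem (p : Q G) (g : G) :
    (t (Abelianization.of g * p))⁻¹ * g * t p ∈ commutator G := by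
  refine (QuotientGroup.eq_one_iff _).1 ?_
  show Abelianization.of _ = 1
  rw [map_mul, map_mul, map_inv, ht, ht, mul_assoc, inv_mul_cancel]

def ψ (p : Q G) (g : G) : A' G :=
  Additive.ofMul (Abelianization.of (⟨_, u_mem t ht p g⟩ : commutator G))

theorem ψ_mul (p : Q G) (g h : G) :
    ψ t ht p (g * h) = ψ t ht (Abelianization.of h * p) g + ψ t ht p h := by
  unfold ψ
  rw [← ofMul_mul, ← map_mul]
  refine congrArg (fun z => Additive.ofMul (Abelianization.of z)) (Subtype.ext ?_)
  show (t (Abelianization.of (g * h) * p))⁻¹ * (g * h) * t p = _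
  rw [map_mul, mul_assoc (Abelianization.of g)]
  simp [mul_assoc]

/-- The derivation `g ↦ g - 1`. -/
noncomputable def e (g : G) : R G × Nfun G :=
  (MonoidAlgebra.of ℤ (Q G) (Abelianization.of g) - 1, fun p => ψ t ht p g)

theorem e_mul (g h : G) :
    e t ht (g * h) = MonoidAlgebra.of ℤ (Q G) (Abelianization.of h) • e t ht g + e t ht h := by
  refine Prod.ext ?_ (nfun_ext fun p => ?_)
  · simp only [e, Prod.fst_add, Prod.smul_fst, smul_eq_mul, map_mul]
    ring
  · show ψ t ht p (g * h) = (MonoidAlgebra.of ℤ (Q G) (Abelianization.of h) • (e t ht g).2 : Nfun G) p + ψ t ht p h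
    rw [of_smul]
    exact ψ_mul t ht p g h

/-- The augmentation. -/
noncomputable def aug (G : Type*) [Group G] : R G →ₐ[ℤ] ℤ := MonoidAlgebra.lift ℤ ℤ (Q G) 1

theorem aug_of (q : Q G) : aug G (MonoidAlgebra.of ℤ (Q G) q) = 1 := by
  rw [aug, MonoidAlgebra.lift_of]; rfl

variable [Fintype G]

include ht in
theorem norm_smul_eq_zero [Fintype (Q G)] (g : G) :
    (∑ q : Q G, MonoidAlgebra.of ℤ (Q G) q) • e t ht g = 0 := by
  classical
  set of' := MonoidAlgebra.of ℤ (Q G) with hof
  let ρ : (G → ℤ) →ₗ[ℤ] Additive (Q G) :=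
    Fintype.linearCombination ℤ fun j => Additive.ofMul (Abelianization.of j)
  set L := LinearMap.ker ρ with hL
  have hρ : Function.Surjective ρ := fun q => by
    obtain ⟨j, hj⟩ := QuotientGroup.mk_surjective (Additive.toMul q)
    exact ⟨Pi.single j 1, by
      rw [Fintype.linearCombination_apply_single, one_smul]
      exact congrArg Additive.ofMul hj⟩
  have hcard : Nat.card ((G → ℤ) ⧸ L) = Nat.card (Q G) :=
    Nat.card_congr ((ρ.quotKerEquivOfSurjective hρ).toEquiv.trans Additive.toMul)
  haveI : Finite ((G → ℤ) ⧸ L) := Nat.finite_of_card_ne_zero (hcard ▸ Nat.card_pos.ne')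
  let bL : Module.Basis G ℤ L :=
    Submodule.smithNormalFormBotBasis (Pi.basisFun ℤ G) ((Submodule.finiteQuotient_iff L).1 inferInstance)
  have hdet : ((Matrix.of fun i j => (bL i : G → ℤ) j).det).natAbs = Nat.card (Q G) := by
    rw [← hcard, ← Submodule.natAbs_det_basis_change (Pi.basisFun ℤ G) L bL, Module.Basis.det_apply,
      ← Matrix.det_transpose]
    rfl
  let Λ : (G → R G) →ₗ[R G] R G × Nfun G := Fintype.linearCombination (R G) (e t ht)
  let J := (Submodule.pi Set.univ fun _ : G => (RingHom.ker (aug G).toRingHom : Submodule (R G) (R G))).map Λ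
  let φ : G →* Multiplicative ((R G × Nfun G) ⧸ J) := MonoidHom.mk'
    (fun j => Multiplicative.ofAdd (J.mkQ (e t ht j))) fun a b => by
      rw [← ofAdd_add, ← map_add, e_mul]
      refine congrArg _ ((Submodule.Quotient.eq J).2 ⟨Pi.single a (of' (Abelianization.of b) - 1), ?_, ?_⟩)
      · intro j _
        rcases eq_or_ne j a with rfl | hj
        · rw [Pi.single_eq_same]
          show aug G (of' (Abelianization.of b) - 1) = 0
          rw [map_sub, map_one, hof, aug_of, sub_self]
        · rw [Pi.single_eq_of_ne hj]; exact zero_mem _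
      · show Fintype.linearCombination (R G) (e t ht) (Pi.single a _) = _
        rw [Fintype.linearCombination_apply_single, sub_smul, one_smul]
        abel
  let Φ : Additive (Q G) →+ (R G × Nfun G) ⧸ J := MonoidHom.toAdditiveLeft (Abelianization.lift φ)
  have hrel : ∀ i : G, ∃ c : G → R G, (∀ j, aug G (c j) = 0) ∧
      Λ c = ∑ j, (bL i : G → ℤ) j • e t ht j := by
    intro i
    have h1 : J.mkQ (∑ j, (bL i : G → ℤ) j • e t ht j) = 0 := by
      have h0 : ρ (bL i : G → ℤ) = 0 := (bL i).2
      rw [Fintype.linearCombination_apply] at h0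
      have := congrArg Φ h0
      rw [map_zero, map_sum] at this
      rw [map_sum, ← this]
      refine Finset.sum_congr rfl fun j _ => ?_
      rw [map_zsmul, map_zsmul]
      rfl
    obtain ⟨c, hc, hc'⟩ := (Submodule.Quotient.mk_eq_zero J).1 h1
    exact ⟨c, fun j => hc j (Set.mem_univ j), hc'⟩
  choose c hc hc' using hrel
  let M : Matrix G G (R G) := Matrix.of fun i j => (((bL i : G → ℤ) j : ℤ) : R G) - c i j
  have hM : ∀ i, ∑ j, M i j • e t ht j = 0 := by
    intro i
    simp only [M, Matrix.of_apply, sub_smul, Finset.sum_sub_distrib, Int.cast_smul_eq_zsmul]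
    rw [← hc' i]
    exact sub_eq_zero.2 (Fintype.linearCombination_apply _ _ _)
  have hdetM : ∀ k, M.det • e t ht k = 0 := by
    intro k
    calc M.det • e t ht k = ∑ j, (M.det • (1 : Matrix G G (R G))) k j • e t ht j := by
          simp [Matrix.one_apply, ite_smul]
      _ = ∑ j, (M.adjugate * M) k j • e t ht j := by rw [Matrix.adjugate_mul]
      _ = ∑ i, M.adjugate k i • ∑ j, M i j • e t ht j := by
          simp only [Matrix.mul_apply, Finset.sum_smul, Finset.smul_sum, mul_smul]
          exact Finset.sum_comm
      _ = 0 := by simp [hM]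
  have haug : (aug G M.det).natAbs = Nat.card (Q G) := by
    rw [AlgHom.map_det, ← hdet]
    congr 2
    ext i j
    simp [M, hc]
  set N := ∑ q : Q G, of' q with hN
  have hfix : ∀ q : Q G, M.det * of' q = M.det := by
    intro q
    obtain ⟨j, rfl⟩ := QuotientGroup.mk_surjective q
    have := congrArg Prod.fst (hdetM j)
    rw [Prod.smul_fst, smul_eq_mul, Prod.fst_zero] at this
    exact sub_eq_zero.1 (by rwa [show (e t ht j).1 = of' (Abelianization.of j) - 1 from rfl,
      mul_sub, mul_one] at this)
  have hx : ∀ x : R G, x * N = aug G x • N := by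
    intro x
    induction x using MonoidAlgebra.induction_on with
    | of q =>
      rw [aug_of, one_smul, hN, Finset.mul_sum]
      exact Fintype.sum_equiv (Equiv.mulLeft q) _ _ fun p => (map_mul of' q p).symm
    | add x y hx hy => rw [add_mul, hx, hy, map_add, add_smul]
    | smul r x hx => rw [smul_mul_assoc, hx, map_smul, smul_assoc]
  have h2 : (Nat.card (Q G) : ℤ) • M.det = aug G M.det • N := by
    rw [← hx, hN, Finset.mul_sum, Finset.sum_congr rfl fun q _ => hfix q, Finset.sum_const,
      Finset.card_univ, ← Nat.card_eq_fintype_card, natCast_zsmul]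
  have hn : (Nat.card (Q G) : ℤ) ≠ 0 := Int.natCast_ne_zero.2 Nat.card_pos.ne'
  have h3 : N = M.det ∨ N = -M.det := by
    rcases Int.natAbs_eq (aug G M.det) with h | h
    · exact Or.inl (smul_right_injective (R G) hn (by rw [haug] at h; rw [h] at h2; exact h2.symm))
    · right
      rw [haug] at h
      rw [h, neg_smul] at h2
      exact smul_right_injective (R G) hn (show (Nat.card (Q G) : ℤ) • N = _ • -M.det by
        rw [smul_neg, h2, neg_neg])
  rcases h3 with h | h
  · rw [h]; exact hdetM g
  · rw [h, neg_smul, hdetM g, neg_zero]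

end

theorem transfer_commutator_eq_one [Fintype G] (g : G) :
    MonoidHom.transfer (Abelianization.of : ↥(commutator G) →* Abelianization ↥(commutator G)) g = 1 := by
  classical
  let T : (commutator G).LeftTransversal := default
  let t : Q G → G := fun q => (T.2.leftQuotientEquiv q : G)
  have ht : ∀ q, Abelianization.of (t q) = q := fun q =>
    Subgroup.IsComplement.quotientGroupMk_leftQuotientEquiv T.2 q
  haveI : Fintype (Q G) := Fintype.ofFinite _
  let ev : R G × Nfun G →+ A' G :=
    { toFun := fun z => z.2 (1 : Q G), map_zero' := rfl, map_add' := fun _ _ => rfl }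
  have h1 : ∑ q : Q G, ψ t ht q g = 0 := by
    have h := congrArg ev (norm_smul_eq_zero t ht g)
    rw [Finset.sum_smul, map_sum, map_zero] at h
    refine Eq.trans (Finset.sum_congr rfl fun q _ => ?_) h
    show _ = (MonoidAlgebra.of ℤ (Q G) q • (e t ht g).2 : Nfun G) 1
    rw [of_smul, mul_one]; rfl
  have h2 : ∏ q : Q G, Abelianization.of (⟨_, u_mem t ht q g⟩ : commutator G) = 1 := by
    have := congrArg Additive.toMul h1
    rw [toMul_sum] at this
    exact this
  rw [MonoidHom.transfer_def _ T]
  refine Eq.trans ?_ h2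
  unfold Subgroup.leftTransversals.diff
  dsimp only
  refine @Fintype.prod_equiv (Q G) (Q G) _ (_) (_) _ (Equiv.mulLeft (Abelianization.of g)⁻¹) _ _ fun q => ?_
  have key : ∀ (a : Q G) (b : commutator G), (b : G) = (t q)⁻¹ * (g * t a) → a = (Abelianization.of g)⁻¹ * q →
      Abelianization.of b = Abelianization.of (⟨_, u_mem t ht a g⟩ : commutator G) := by
    intro a b hb ha
    subst ha
    refine congrArg _ (Subtype.ext ?_)
    show (b : G) = (t _)⁻¹ * g * t _
    rw [hb, mul_inv_cancel_left, mul_assoc]
  refine key _ _ ?_ rfl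
  show (t q)⁻¹ * ((g • T).2.leftQuotientEquiv q : G) = (t q)⁻¹ * _
  congr 1
  refine (Subgroup.smul_apply_eq_smul_apply_inv_smul g T q).trans ?_
  refine congrArg (fun z : Q G => g * (T.2.leftQuotientEquiv z : G)) ?_
  induction q using QuotientGroup.induction_on with
  | _ x => rfl


/-- The Principal Ideal Theorem of class field theory in its group-theoretic form: for every finite group `G`, the transfer homomorphism from `G` into the abelianization `G'/G''` of its derived subgroup `G'` is the trivial homomorphism. -/
theorem result {G : Type*} [Group G] [Finite G] :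
    MonoidHom.transfer (Abelianization.of : ↥(commutator G) →* Abelianization ↥(commutator G)) =
      (1 : G →* Abelianization ↥(commutator G)) := by
  haveI := Fintype.ofFinite G
  exact MonoidHom.ext fun g => transfer_commutator_eq_one g

end Cfsg.Agent.S4320
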