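import Cfsg.Statements.S4321
import Cfsg.Statements.S4321
import Mathlib
import Cfsg.Agent.S4035
import Cfsg.Agent.Lib.FGS.Kazarin
import Cfsg.Agent.Lib.FGS.SquarefreeClass
import Cfsg.Agent.Lib.FGB.Basic
import Cfsg.Agent.Lib.Basics.Frattini
import Cfsg.Agent.Lib.Basics.CoprimeAction
import Cfsg.Agent.Lib.Components.Fitting

set_option autoImplicit false
open Cfsg
open scoped Pointwise
set_option linter.all false

namespace Cfsg.Agent.S4321

open Subgroup
open scoped Pointwise commutatorElement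
open Cfsg.Agent

local notation "C(" x ")" => Subgroup.centralizer ({x} : Set _)

universe u

variable {G : Type u} [Group G]

/-- class size -/
private noncomputable def cl (x : G) : ℕ := (centralizer ({x} : Set G)).index

private theorem mem_of_parts [Finite G] (H : Subgroup G) : ∀ (n : ℕ) (g : G), n ≠ 0 → orderOf g ∣ n →
    (∀ r : ℕ, r.Prime → ∀ k : ℕ, (∃ e : ℕ, (g ^ k) ^ (r ^ e) = 1) → g ^ k ∈ H) → g ∈ H := by
  intro n
  induction n using Nat.recOnPosPrimePosCoprime with
  | zero => intro g h; exact absurd rfl h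
  | one =>
    intro g _ h1 _
    rw [Nat.dvd_one, orderOf_eq_one_iff] at h1
    rw [h1]; exact one_mem H
  | prime_pow r e hr he =>
    intro g _ h hp
    simpa using hp r hr 1 ⟨e, by rw [pow_one]; exact orderOf_dvd_iff_pow_eq_one.1 h⟩
  | coprime a b ha hb hab iha ihb =>
    intro g _ h hp
    have hgb : g ^ b ∈ H := iha (g ^ b) (by omega)
      (orderOf_dvd_iff_pow_eq_one.2 (by rw [← pow_mul, mul_comm]; exact orderOf_dvd_iff_pow_eq_one.1 h))
      (fun r hr k hk => by rw [← pow_mul] at hk ⊢; exact hp r hr _ hk)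
    have hga : g ^ a ∈ H := ihb (g ^ a) (by omega)
      (orderOf_dvd_iff_pow_eq_one.2 (by rw [← pow_mul]; exact orderOf_dvd_iff_pow_eq_one.1 h))
      (fun r hr k hk => by rw [← pow_mul] at hk ⊢; exact hp r hr _ hk)
    have hbez := Nat.gcd_eq_gcd_ab a b
    rw [hab] at hbez
    have : g = (g ^ a) ^ (Nat.gcdA a b) * (g ^ b) ^ (Nat.gcdB a b) := by
      rw [← zpow_natCast g a, ← zpow_natCast g b, ← zpow_mul, ← zpow_mul, ← zpow_add, ← hbez,
        Nat.cast_one, zpow_one]
    rw [this]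
    exact mul_mem (zpow_mem hga _) (zpow_mem hgb _)

private theorem exists_part [Finite G] (H : Subgroup G) {g : G} (hg : g ∉ H) :
    ∃ r : ℕ, r.Prime ∧ ∃ k : ℕ, (∃ e, (g ^ k) ^ (r ^ e) = 1) ∧ g ^ k ∉ H := by
  by_contra h
  push Not at h
  exact hg (mem_of_parts H (orderOf g) g (orderOf_pos g).ne' dvd_rfl fun r hr k hk => by
    obtain ⟨e, he⟩ := hk
    exact h r hr k ⟨e, he⟩)

private theorem cl_pow_dvd (g : G) (k : ℕ) : cl (g ^ k) ∣ cl g :=
  index_dvd_of_le fun c hc => by
    rw [mem_centralizer_singleton_iff] at hc ⊢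
    exact (Commute.pow_right hc k).eq

private theorem cl_eq_one [Finite G] {x : G} : cl x = 1 ↔ x ∈ center G := by
  rw [cl, index_eq_one, centralizer_eq_top_iff_subset, Set.singleton_subset_iff]
  rfl

private theorem dvd_mul_left_cl [Finite G] {a b : G} (hab : Commute a b)
    (hco : (orderOf a).Coprime (orderOf b)) : cl a ∣ cl (a * b) ∧ cl b ∣ cl (a * b) := by
  have e := Cfsg.Agent.FGB.centralizer_mul_of_coprime hab hco
  exact ⟨index_dvd_of_le (e ▸ inf_le_left), index_dvd_of_le (e ▸ inf_le_right)⟩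

/-- conjugates can be made with elements of the other centralizer -/
private theorem exists_conj [Finite G] (C D : Subgroup G) (h : C.index.Coprime D.index) (g : G) :
    ∃ c ∈ C, c⁻¹ * g ∈ D := by
  have h1 : D.index ≤ (C.subgroupOf C).index * 0 + D.relIndex C := by
    rw [mul_zero, zero_add]
    have h2 : (C ⊓ D).index = D.relIndex C * C.index := by
      rw [← relIndex_mul_index (inf_le_left : C ⊓ D ≤ C), inf_relIndex_left]
    have h3 : C.index * D.index ∣ (C ⊓ D).index :=
      h.mul_dvd_of_dvd_of_dvd (index_dvd_of_le inf_le_left) (index_dvd_of_le inf_le_right)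
    rw [h2, mul_comm C.index] at h3
    refine Nat.le_of_dvd (Nat.pos_of_ne_zero ?_) (Nat.dvd_of_mul_dvd_mul_right
      (Nat.pos_of_ne_zero index_ne_zero_of_finite) h3)
    exact index_ne_zero_of_finite
  simp only [mul_zero, zero_add] at h1
  let f : C ⧸ D.subgroupOf C → G ⧸ D :=
    Quotient.map' (fun x : C => (x : G)) (fun a b h => by
      rw [QuotientGroup.leftRel_apply] at h ⊢
      exact h)
  have hf : Function.Injective f := by
    intro a c
    induction a using QuotientGroup.induction_on with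
    | _ a =>
    induction c using QuotientGroup.induction_on with
    | _ c =>
    intro hh
    have h4 : QuotientGroup.mk (s := D) (a : G) = QuotientGroup.mk (c : G) := hh
    rw [QuotientGroup.eq] at h4
    exact QuotientGroup.eq.2 h4
  obtain ⟨q, hq⟩ := (hf.bijective_of_nat_card_le h1).2 (QuotientGroup.mk g)
  induction q using QuotientGroup.induction_on with
  | _ q =>
    exact ⟨q, q.2, QuotientGroup.eq.1 (show QuotientGroup.mk (s := D) (q : G)
      = QuotientGroup.mk g from hq)⟩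

private theorem conj_eq_of_mem {c g x : G} (h : c⁻¹ * g ∈ centralizer ({x} : Set G)) :
    g * x * g⁻¹ = c * x * c⁻¹ := by
  rw [mem_centralizer_singleton_iff] at h
  calc g * x * g⁻¹ = c * ((c⁻¹ * g) * x) * g⁻¹ := by group
    _ = c * (x * (c⁻¹ * g)) * g⁻¹ := by rw [h]
    _ = c * x * c⁻¹ := by group

private theorem class_eq (x : G) :
    Nat.card {a : G // IsConj x a} = cl x := by
  have h : cl x = (MulAction.stabilizer (ConjAct G) x).index := by
    rw [ConjAct.stabilizer_eq_centralizer x]; rfl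
  rw [h, MulAction.index_stabilizer, ← Nat.card_coe_set_eq]
  refine Nat.card_congr (Equiv.subtypeEquivRight fun a => ?_)
  rw [ConjAct.mem_orbit_conjAct]
  exact isConj_comm

/-- the stabiliser of the largest class -/
private theorem exists_stabilizer [Finite G] (x : G) :
    ∃ N : Subgroup G, N.Normal ∧ Nat.card N ∣ cl x ∧
      ∀ y : G, (cl x).Coprime (cl y) → cl (x * y) ≤ cl x → ∀ g : G, g * y * g⁻¹ * y⁻¹ ∈ N := by
  classical
  set B : Set G := {a | IsConj x a} with hB
  let N : Subgroup G :=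
    { carrier := {n | ∀ a : G, a * n ∈ B ↔ a ∈ B}
      mul_mem' := fun {m n} hm hn a => by rw [← mul_assoc, hn, hm]
      one_mem' := fun a => by rw [mul_one]
      inv_mem' := fun {n} hn a => by
        have := hn (a * n⁻¹)
        rw [inv_mul_cancel_right] at this
        exact this.symm }
  have hNn : N.Normal := ⟨fun n hn g a => by
    have h1 : ∀ b, g⁻¹ * b * g ∈ B ↔ b ∈ B := fun b =>
      ⟨fun h => h.trans (isConj_iff.2 ⟨g, by group⟩), fun h => h.trans (isConj_iff.2 ⟨g⁻¹, by group⟩)⟩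
    rw [← h1, ← h1 a]
    have := hn (g⁻¹ * a * g)
    rw [← this]
    simp [mul_assoc]⟩
  refine ⟨N, hNn, ?_, ?_⟩
  · have hpre : QuotientGroup.mk ⁻¹' ((QuotientGroup.mk : G → G ⧸ N) '' B) = B := by
      refine Set.Subset.antisymm ?_ (Set.subset_preimage_image _ _)
      rintro a ⟨b, hb, e⟩
      have h1 : b⁻¹ * a ∈ N := QuotientGroup.eq.1 e
      simpa using (h1 b).2 hb
    rw [← class_eq x]
    have := Nat.card_congr (QuotientGroup.preimageMkEquivSubgroupProdSet N
      ((QuotientGroup.mk : G → G ⧸ N) '' B))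
    rw [hpre, Nat.card_prod] at this
    exact ⟨_, this⟩
  · intro y hco hmax g
    have hcop : ∀ g : G, ∃ c ∈ centralizer ({x} : Set G), g * y * g⁻¹ = c * y * c⁻¹ := fun g => by
      obtain ⟨c, hc, hc'⟩ := exists_conj (centralizer ({x} : Set G)) (centralizer ({y} : Set G)) hco g
      exact ⟨c, hc, conj_eq_of_mem hc'⟩
    set D : Set G := {a | IsConj (x * y) a} with hD
    have hsub : ∀ g : G, (fun a => a * (g * y * g⁻¹)) '' B ⊆ D := by
      rintro g _ ⟨a, ha, rfl⟩
      obtain ⟨k, hk⟩ := isConj_iff.1 (ha : IsConj x a)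
      obtain ⟨c, hc, hce⟩ := hcop (k⁻¹ * g)
      rw [mem_centralizer_singleton_iff] at hc
      refine isConj_iff.2 ⟨k * c, ?_⟩
      have e2 : c * x * c⁻¹ = x := by rw [hc]; group
      calc k * c * (x * y) * (k * c)⁻¹ = k * (c * x * c⁻¹) * (c * y * c⁻¹) * k⁻¹ := by group
        _ = k * x * (k⁻¹ * g * y * (k⁻¹ * g)⁻¹) * k⁻¹ := by rw [e2, hce]
        _ = k * x * k⁻¹ * (g * y * g⁻¹) := by group
        _ = a * (g * y * g⁻¹) := by rw [hk]
    have heq : ∀ g : G, (fun a => a * (g * y * g⁻¹)) '' B = D := fun g => by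
      refine Set.eq_of_subset_of_ncard_le (hsub g) ?_ (Set.toFinite _)
      rw [Set.ncard_image_of_injective _ (mul_left_injective _), ← Nat.card_coe_set_eq,
        ← Nat.card_coe_set_eq]
      calc Nat.card D = cl (x * y) := class_eq (x * y)
        _ ≤ cl x := hmax
        _ = Nat.card B := (class_eq x).symm
    intro a
    constructor
    · intro ha
      have h1 : a * (g * y * g⁻¹ * y⁻¹) * (1 * y * 1⁻¹) ∈ D := hsub 1 ⟨_, ha, rfl⟩
      have e : a * (g * y * g⁻¹ * y⁻¹) * (1 * y * 1⁻¹) = a * (g * y * g⁻¹) := by group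
      rw [e, ← heq g] at h1
      obtain ⟨b, hb, hbe⟩ := h1
      rwa [mul_left_injective _ hbe] at hb
    · intro ha
      have h1 : a * (g * y * g⁻¹) ∈ D := hsub g ⟨a, ha, rfl⟩
      rw [← heq 1] at h1
      obtain ⟨b, hb, hbe⟩ := h1
      have : b = a * (g * y * g⁻¹ * y⁻¹) := by
        simp only [one_mul, inv_one, mul_one] at hbe
        rw [← mul_assoc a, ← hbe]; group
      rwa [← this]

private theorem orderOf_of_pow {r e : ℕ} (hr : r.Prime) {a : G} (ha : a ^ r ^ e = 1) :
    ∃ i, orderOf a = r ^ i := by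
  obtain ⟨i, -, hi⟩ := (Nat.dvd_prime_pow hr).1 (orderOf_dvd_iff_pow_eq_one.2 ha)
  exact ⟨i, hi⟩

private theorem coprime_orders {p r : ℕ} (hp : p.Prime) (hr : r.Prime) (hne : p ≠ r) {a b : G}
    {i j : ℕ} (ha : a ^ p ^ i = 1) (hb : b ^ r ^ j = 1) : (orderOf a).Coprime (orderOf b) :=
  Nat.Coprime.coprime_dvd_left (orderOf_dvd_iff_pow_eq_one.2 ha)
    (Nat.Coprime.coprime_dvd_right (orderOf_dvd_iff_pow_eq_one.2 hb)
      (Nat.Coprime.pow _ _ ((Nat.coprime_primes hp hr).2 hne)))

private theorem isPElem_zpowers {p i : ℕ} [hp : Fact p.Prime] {a : G} (ha : a ^ p ^ i = 1) :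
    IsPGroup p (zpowers a) := by
  obtain ⟨j, hj⟩ := orderOf_of_pow hp.out ha
  exact IsPGroup.of_card (n := j) (by rw [Nat.card_zpowers, hj])

private theorem mem_conj_of_not_dvd [Finite G] {p i : ℕ} [hp : Fact p.Prime] (C : Subgroup G)
    (hC : ¬ p ∣ C.index) {a : G} (ha : a ^ p ^ i = 1) : ∃ g : G, g * a * g⁻¹ ∈ C := by
  obtain ⟨P, hP⟩ := (isPElem_zpowers ha).exists_le_sylow
  obtain ⟨R⟩ := (inferInstance : Nonempty (Sylow p C))
  have hR : Nat.card ((R : Subgroup C).map C.subtype) = p ^ (Nat.card G).factorization p := by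
    rw [card_map_of_injective C.subtype_injective, R.card_eq_multiplicity,
      ← card_mul_index C, Nat.factorization_mul Nat.card_pos.ne' index_ne_zero_of_finite,
      Finsupp.add_apply, Nat.factorization_eq_zero_of_not_dvd hC, add_zero]
  set R' : Sylow p G := Sylow.ofCard ((R : Subgroup C).map C.subtype) hR
  obtain ⟨g, hg⟩ := MulAction.exists_smul_eq G P R'
  refine ⟨g, ?_⟩
  have h1 : MulAut.conj g • a ∈ MulAut.conj g • (P : Subgroup G) :=
    smul_mem_pointwise_smul a _ _ (hP (mem_zpowers a))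
  rw [← Sylow.pointwise_smul_def, show (MulAut.conj g • P : Sylow p G) = g • P from rfl, hg] at h1
  exact map_subtype_le _ (by simpa [R', MulAut.smul_def] using h1)

private theorem cl_conj (g a : G) : cl (g * a * g⁻¹) = cl a := by
  rw [← class_eq, ← class_eq]
  refine Nat.card_congr (Equiv.subtypeEquivRight fun b => ?_)
  exact ⟨fun h => (isConj_iff.2 ⟨g, rfl⟩).trans h, fun h => (isConj_iff.2 ⟨g, rfl⟩).symm.trans h⟩

private theorem relIndex_dvd_cl [Finite G] (N : Subgroup G) [N.Normal] (a : G) :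
    (centralizer ({a} : Set G)).relIndex N ∣ cl a :=
  FGS.SquarefreeClass.index_dvd_subgroup.relIndex_dvd_index_of_normal_sup _ N

/-- `a` and `b` are joined by no edge of the graph -/
private def NE (p : ℕ) (a b : G) : Prop :=
  ∀ z : G, p ∣ orderOf z → ∀ t u : ℕ, t.Prime → u.Prime → t ∣ cl a → u ∣ cl b → t ∣ cl z → u ∣ cl z → False

private theorem dvd_of_NE [Finite G] {p : ℕ} {a b z : G} (h : NE p a b) (hz : p ∣ orderOf z)
    (hd : cl z ∣ cl a * cl b) : cl z ∣ cl a ∨ cl z ∣ cl b := by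
  by_contra hc
  push Not at hc
  obtain ⟨u, hu, hu1, hu2⟩ : ∃ u : ℕ, u.Prime ∧ u ∣ cl z ∧ u ∣ cl b := by
    by_contra h
    push Not at h
    exact hc.1 ((Nat.coprime_of_dvd fun u hu h1 h2 => h u hu h1 h2).dvd_of_dvd_mul_right hd)
  obtain ⟨t, ht, ht1, ht2⟩ : ∃ t : ℕ, t.Prime ∧ t ∣ cl z ∧ t ∣ cl a := by
    by_contra h
    push Not at h
    exact hc.2 ((Nat.coprime_of_dvd fun t ht h1 h2 => h t ht h1 h2).dvd_of_dvd_mul_left hd)
  exact h z hz t u ht hu ht2 hu2 ht1 hu1

private theorem core_commute [Finite G] (p : ℕ) [hp : Fact p.Prime] (hZ : ¬ p ∣ Nat.card (center G)) (a b : G)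
    (hao : orderOf a = p) (hbo : orderOf b = p) (hba : Commute b a)
    (hco : (cl a).Coprime (cl b)) (hlt : cl a < cl b) (hNE : NE p a b) : False := by
  classical
  have hpp := hp.out
  have hnc : ∀ c : G, orderOf c = p → cl c ≠ 1 := fun c hc h => by
    have := Subgroup.orderOf_dvd_natCard _ (cl_eq_one.1 h)
    rw [hc] at this
    exact hZ this
  set A := centralizer ({a} : Set G) with hA
  set B := centralizer ({b} : Set G) with hB
  set c := b * a with hc
  have hpow : ∀ z : G, orderOf z = p → z ^ p ^ 1 = 1 := fun z hz => by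
    rw [pow_one, ← hz]; exact pow_orderOf_eq_one z
  have hAB : (A ⊓ B).index = cl a * cl b := by
    refine le_antisymm index_inf_le (Nat.le_of_dvd (Nat.pos_of_ne_zero index_ne_zero_of_finite) ?_)
    exact hco.mul_dvd_of_dvd_of_dvd (index_dvd_of_le inf_le_left) (index_dvd_of_le inf_le_right)
  have hc1 : c ≠ 1 := fun h => by
    have e : b = a⁻¹ := eq_inv_of_mul_eq_one_left h
    have hle : cl b = cl a := by
      rw [e, cl, cl]; congr 1; ext y
      rw [mem_centralizer_singleton_iff, mem_centralizer_singleton_iff]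
      exact ⟨fun h => by simpa using (Commute.inv_right (show Commute y a⁻¹ from h)).eq,
        fun h => (Commute.inv_right (show Commute y a from h)).eq⟩
    omega
  have hco' : orderOf c = p := by
    refine orderOf_eq_prime ?_ hc1
    rw [hc, hba.mul_pow, ← pow_one p, hpow b hbo, hpow a hao, one_mul]
  have hcd : cl c ∣ cl a * cl b := by
    rw [← hAB]
    exact index_dvd_of_le fun y hy => mem_centralizer_singleton_iff.2
      (Commute.mul_right (show Commute y b from mem_centralizer_singleton_iff.1 hy.2) (mem_centralizer_singleton_iff.1 hy.1)).eq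
  have hcn : cl c = cl b := by
    have hge : cl b ≤ cl c := by
      refine Nat.le_of_mul_le_mul_left (?_ : cl a * cl b ≤ cl a * cl c) (Nat.pos_of_ne_zero (show cl a ≠ 0 from index_ne_zero_of_finite))
      rw [← hAB, mul_comm]
      refine le_trans (Nat.le_of_dvd (Nat.pos_of_ne_zero index_ne_zero_of_finite)
        (index_dvd_of_le (H := centralizer ({c} : Set G) ⊓ A) ?_)) index_inf_le
      intro y hy
      refine ⟨hy.2, mem_centralizer_singleton_iff.2 ?_⟩
      have h1 : Commute y c := mem_centralizer_singleton_iff.1 hy.1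
      have h2 : Commute y a := mem_centralizer_singleton_iff.1 hy.2
      have := h1.mul_right h2.inv_right
      rw [hc, mul_inv_cancel_right] at this
      exact this.eq
    rcases dvd_of_NE hNE hco'.symm.dvd hcd with h | h
    · exact absurd (hge.trans (Nat.le_of_dvd (Nat.pos_of_ne_zero index_ne_zero_of_finite) h)) (not_le.2 hlt)
    · exact le_antisymm (Nat.le_of_dvd (Nat.pos_of_ne_zero index_ne_zero_of_finite) h) hge
  obtain ⟨N, hN, hNb, hNy⟩ := exists_stabilizer b
  haveI := hN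
  have hNm : ∀ g : G, g * a * g⁻¹ * a⁻¹ ∈ N := hNy a hco.symm hcn.le
  have hNC : N ≤ A := by
    rw [← relIndex_eq_one]
    have h1 : A.relIndex N ∣ Nat.card N := by
      rw [← relIndex_bot_left N]
      exact relIndex_dvd_of_le_left N bot_le
    exact Nat.eq_one_of_dvd_coprimes hco.symm (h1.trans hNb) (relIndex_dvd_cl N a)
  have hcomm : ∀ g : G, Commute (g * a * g⁻¹) a := fun g => by
    have h1 := mem_centralizer_singleton_iff.1 (hNC (hNm g))
    unfold Commute SemiconjBy
    calc _ = (g * a * g⁻¹ * a⁻¹) * a * a := by group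
      _ = a * (g * a * g⁻¹ * a⁻¹) * a := by rw [h1]
      _ = _ := by group
  -- the normal closure of `a` is a `p`-group
  set O := pCore p G with hO
  haveI hOn : O.Normal := by
    rw [hO]; unfold Cfsg.pCore
    exact Subgroup.sSup_normal _ fun N hN => hN.1
  have hOp : IsPGroup p O := Components.sSup_isPGroup_of_normal
  have haO : a ∈ O := by
    have hgen : ∀ x ∈ Group.conjugatesOfSet ({a} : Set G), ∀ y ∈ Group.conjugatesOfSet ({a} : Set G),
        x * y = y * x := by
      intro x hx y hy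
      obtain ⟨a', ha', hc⟩ := Group.mem_conjugatesOfSet_iff.1 hx
      rw [Set.mem_singleton_iff] at ha'
      subst a'
      obtain ⟨g, rfl⟩ := isConj_iff.1 hc
      obtain ⟨a', ha', hc⟩ := Group.mem_conjugatesOfSet_iff.1 hy
      rw [Set.mem_singleton_iff] at ha'
      subst a'
      obtain ⟨h, rfl⟩ := isConj_iff.1 hc
      have h3 := (hcomm (h⁻¹ * g)).map (MulAut.conj h).toMonoidHom
      have := h3.eq
      simpa [mul_assoc] using this
    haveI hab := Subgroup.isMulCommutative_closure hgen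
    refine Components.le_pCore (p := p) (inferInstance : (normalClosure ({a} : Set G)).Normal) ?_ (subset_normalClosure rfl)
    rintro ⟨z, hz⟩
    refine ⟨1, Subtype.ext ?_⟩
    show z ^ p ^ 1 = 1
    induction hz using closure_induction with
    | mem z hz =>
      obtain ⟨a', ha', hc⟩ := Group.mem_conjugatesOfSet_iff.1 hz
      rw [Set.mem_singleton_iff] at ha'
      subst a'
      obtain ⟨g, rfl⟩ := isConj_iff.1 hc
      rw [conj_pow, hpow a hao]; group
    | one => exact one_pow _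
    | mul v w hv hw ihv ihw =>
      have : Commute v w := congrArg Subtype.val
        (hab.is_comm.comm (⟨v, hv⟩ : closure (Group.conjugatesOfSet ({a} : Set G))) ⟨w, hw⟩)
      rw [this.mul_pow, ihv, ihw, one_mul]
    | inv v _ ihv => rw [inv_pow, ihv, inv_one]
  have hpn : p ∣ cl b := by
    refine (Classical.em (p ∣ Nat.card N)).elim (fun h => h.trans hNb) fun hpN => ?_
    exfalso
    apply hnc a hao
    rw [cl, index_eq_one, eq_top_iff]
    intro g _
    set v := g * a * g⁻¹ * a⁻¹ with hv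
    have h1 : v ^ p = 1 := by
      rw [hv, (hcomm g).inv_right.mul_pow, inv_pow, conj_pow, ← pow_one p, hpow a hao]
      group
    have h2 : v = 1 := by
      rw [← orderOf_eq_one_iff]
      rcases (Nat.dvd_prime hpp).1 (orderOf_dvd_of_pow_eq_one h1) with h | h
      · exact h
      · exact absurd (h ▸ Subgroup.orderOf_dvd_natCard N (hNm g)) hpN
    rw [mem_centralizer_singleton_iff]
    calc g * a = v * a * g := by rw [hv]; group
      _ = a * g := by rw [h2, one_mul]
  have hpm : ¬ p ∣ cl a := fun h => hpp.not_dvd_one (hco ▸ Nat.dvd_gcd h hpn)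
  obtain ⟨t₀, ht₀, ht₀d⟩ := Nat.exists_prime_and_dvd (hnc a hao)
  -- the structure of the centraliser of `a`
  have hreg : ∀ v : A, (orderOf v).Coprime p → ¬ p ∣ (ConjClasses.mk v).carrier.ncard := by
    intro v hv hd
    rw [FGB.ncard_carrier_eq_index_centralizer] at hd
    have hav : Commute a (v : G) := (mem_centralizer_singleton_iff.1 v.2).symm
    have hco2 : (orderOf a).Coprime (orderOf (v : G)) := by
      rw [hao, Subgroup.orderOf_coe]; exact hv.symm
    have e := Cfsg.Agent.FGB.centralizer_mul_of_coprime hav hco2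
    have h1 : (centralizer ({a * (v : G)} : Set G)).index = (centralizer ({v} : Set A)).index * cl a := by
      rw [e, ← relIndex_mul_index (inf_le_left : A ⊓ centralizer ({(v : G)} : Set G) ≤ A), relIndex]
      congr 2
      ext y
      simp only [mem_subgroupOf, mem_inf, mem_centralizer_singleton_iff, Subtype.ext_iff, Subgroup.coe_mul]
      exact ⟨fun h => h.2, fun h => ⟨y.2, h⟩⟩
    refine hNE (a * v) ?_ t₀ p ht₀ hpp ht₀d hpn ?_ ?_
    · rw [hav.orderOf_mul_eq_mul_orderOf_of_coprime hco2, hao]; exact dvd_mul_right _ _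
    · exact (ht₀d.trans (dvd_mul_left _ _)).trans h1.symm.dvd
    · exact (hd.trans (dvd_mul_right _ _)).trans h1.symm.dvd
  obtain ⟨P₀⟩ := (inferInstance : Nonempty (Sylow p A))
  obtain ⟨hP₀n, H₀, hH₀n, hH₀p, hdisj, hsup⟩ := S4035.result hreg P₀
  have hPA : ∀ z : A, (∃ k, z ^ p ^ k = 1) → z ∈ (P₀ : Subgroup A) := by
    rintro z ⟨k, hk⟩
    obtain ⟨Q, hQ⟩ := (isPElem_zpowers hk).exists_le_sylow
    haveI : Subsingleton (Sylow p A) := (Sylow.unique_of_normal P₀ hP₀n).instSubsingleton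
    exact (Subsingleton.elim Q P₀) ▸ hQ (mem_zpowers z)
  have hPH : ∀ z ∈ (P₀ : Subgroup A), ∀ h ∈ H₀, z * h = h * z := fun z hz h hh =>
    (Subgroup.commute_of_normal_of_disjoint _ _ hP₀n hH₀n (disjoint_iff.2 hdisj) z h hz hh).eq
  set H := H₀.map A.subtype with hH
  -- class sizes of p-elements of A
  have hclA : ∀ w ∈ A, (∃ k, w ^ p ^ k = 1) → cl w ∣ Nat.card (P₀ : Subgroup A) * cl a := by
    intro w hw ⟨k, hk⟩
    have hle : H ≤ centralizer ({w} : Set G) := by
      rintro _ ⟨h, hh, rfl⟩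
      exact mem_centralizer_singleton_iff.2 (congrArg Subtype.val
        (hPH ⟨w, hw⟩ (hPA _ ⟨k, Subtype.ext (by simpa using hk)⟩) h hh).symm)
    refine (index_dvd_of_le hle).trans (dvd_of_eq ?_)
    rw [← relIndex_mul_index (map_subtype_le H₀ : H ≤ A)]
    congr 1
    rw [relIndex, subgroupOf, comap_map_eq_self_of_injective A.subtype_injective]
    have h3 : Subgroup.IsComplement' H₀ (P₀ : Subgroup A) := by
      refine Subgroup.isComplement'_of_disjoint_and_mul_eq_univ (disjoint_iff.2 (by rw [inf_comm]; exact hdisj)) ?_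
      rw [← Subgroup.normal_mul, sup_comm, hsup, coe_top]
    exact h3.symm.index_eq_card
  have hbA : b ∈ A := mem_centralizer_singleton_iff.2 hba.eq
  obtain ⟨e₀, he₀⟩ := IsPGroup.iff_card.1 P₀.2
  have hbn : cl b ∣ p ^ e₀ := by
    have := hclA b hbA ⟨1, hpow b hbo⟩
    rw [he₀] at this
    exact hco.symm.dvd_of_dvd_mul_right this
  have hbO : b ∈ O := by
    obtain ⟨j, -, hj⟩ := (Nat.dvd_prime_pow hpp).1 hbn
    exact FGS.Kazarin.mem_pCore_of_pElement ⟨1, by rw [pow_one, hbo]⟩ ⟨j, hj⟩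
  -- a Sylow subgroup centralising `a`
  have hPG : Nat.card ((P₀ : Subgroup A).map A.subtype) = p ^ (Nat.card G).factorization p := by
    rw [card_map_of_injective A.subtype_injective, P₀.card_eq_multiplicity,
      ← card_mul_index A, Nat.factorization_mul Nat.card_pos.ne' index_ne_zero_of_finite,
      Finsupp.add_apply, Nat.factorization_eq_zero_of_not_dvd (show ¬ p ∣ A.index from hpm), add_zero]
  set P : Sylow p G := Sylow.ofCard ((P₀ : Subgroup A).map A.subtype) hPG with hP
  have hPA' : (P : Subgroup G) ≤ A := map_subtype_le _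
  have hPel : ∀ w ∈ (P : Subgroup G), ∃ k, w ^ p ^ k = 1 := fun w hw => by
    obtain ⟨k, hk⟩ := P.isPGroup' ⟨w, hw⟩
    exact ⟨k, by simpa using congrArg Subtype.val hk⟩
  have hclP : ∀ w ∈ (P : Subgroup G), (∀ r : ℕ, r.Prime → r ∣ cl w → r = p) ∨ ¬ p ∣ cl w := by
    intro w hw
    by_cases hpw : p ∣ cl w
    · left
      intro r hr hrd
      by_contra hrp
      obtain ⟨k, hk⟩ := hPel w hw
      have hw1 : w ≠ 1 := fun h => by
        rw [h, cl_eq_one.2 (one_mem _), Nat.dvd_one] at hpw; exact hpp.ne_one hpw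
      have hpo : p ∣ orderOf w := by
        obtain ⟨i, hi⟩ := orderOf_of_pow hpp hk
        rw [hi]
        exact dvd_pow_self p fun h0 => hw1 (orderOf_eq_one_iff.1 (by rw [hi, h0, pow_zero]))
      have hd := hclA w (hPA' hw) ⟨k, hk⟩
      rw [he₀] at hd
      have hrm : r ∣ cl a := (hr.dvd_mul.1 (hrd.trans hd)).resolve_left
        fun h => hrp ((Nat.prime_dvd_prime_iff_eq hr hpp).1 (hr.dvd_of_dvd_pow h))
      exact hNE w hpo r p hr hpp hrm hpn hrd hpw
    · exact Or.inr hpw
  -- `P` is normal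
  have hPO : (P : Subgroup G) = O := by
    refine le_antisymm (fun w hw => ?_) ?_
    · obtain ⟨k, hk⟩ := hPel w hw
      rcases hclP w hw with h | h
      · exact FGS.Kazarin.mem_pCore_of_pElement ⟨k, orderOf_dvd_iff_pow_eq_one.2 hk⟩
          ⟨_, Nat.eq_prime_pow_of_unique_prime_dvd index_ne_zero_of_finite (fun {r} hr hrd => h r hr hrd)⟩
      · obtain ⟨R, hR⟩ := (IsPGroup.to_le hOp le_rfl).exists_le_sylow
        obtain ⟨Q₀⟩ := (inferInstance : Nonempty (Sylow p (centralizer ({w} : Set G))))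
        have hQc : Nat.card ((Q₀ : Subgroup _).map (centralizer ({w} : Set G)).subtype) = p ^ (Nat.card G).factorization p := by
          rw [card_map_of_injective (subtype_injective _), Q₀.card_eq_multiplicity,
            ← card_mul_index (centralizer ({w} : Set G)),
            Nat.factorization_mul Nat.card_pos.ne' index_ne_zero_of_finite, Finsupp.add_apply,
            Nat.factorization_eq_zero_of_not_dvd (show ¬ p ∣ (centralizer ({w} : Set G)).index from h), add_zero]
        set Q : Sylow p G := Sylow.ofCard _ hQc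
        have hOQ : O ≤ (Q : Subgroup G) := by
          obtain ⟨g, hg⟩ := MulAction.exists_smul_eq G R Q
          intro t ht
          rw [← hg, Sylow.coe_subgroup_smul, mem_pointwise_smul_iff_inv_smul_mem]
          refine hR ?_
          simpa [MulAut.smul_def] using hOn.conj_mem t ht g⁻¹
        have hwC : w ∈ centralizer (O : Set G) := mem_centralizer_iff.2 fun t ht =>
          mem_centralizer_singleton_iff.1 (map_subtype_le _ (hOQ ht))
        have hCA : centralizer (O : Set G) ≤ A := fun y hy =>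
          mem_centralizer_singleton_iff.2 (mem_centralizer_iff.1 hy a haO).symm
        haveI : (centralizer (O : Set G)).Normal := Subgroup.normal_centralizer
        have hn : ((P : Subgroup G) ⊓ centralizer (O : Set G)).Normal := ⟨by
          rintro z ⟨hzP, hzC⟩ g
          have hzC' := Normal.conj_mem inferInstance z hzC g
          refine ⟨?_, hzC'⟩
          obtain ⟨i, hi⟩ := hPel z hzP
          exact ⟨⟨_, hCA hzC'⟩, hPA _ ⟨i, Subtype.ext (by
            show (g * z * g⁻¹) ^ p ^ i = 1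
            rw [conj_pow, hi]; group)⟩, rfl⟩⟩
        exact Components.le_pCore hn (P.isPGroup'.to_le inf_le_left) ⟨hw, hwC⟩
    · intro t ht
      obtain ⟨R, hR⟩ := (IsPGroup.to_le hOp le_rfl).exists_le_sylow
      obtain ⟨g, hg⟩ := MulAction.exists_smul_eq G R P
      rw [← hg, Sylow.coe_subgroup_smul, mem_pointwise_smul_iff_inv_smul_mem]
      refine hR ?_
      simpa [MulAut.smul_def] using hOn.conj_mem t ht g⁻¹
  set T := (P : Subgroup G) with hT
  haveI hTn : T.Normal := hPO ▸ hOn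
  have hTp : IsPGroup p T := P.isPGroup'
  haveI hsub : Subsingleton (Sylow p G) := (Sylow.unique_of_normal P hTn).instSubsingleton
  have hcentral : ∀ w ∈ T, ¬ p ∣ cl w → ∀ y ∈ T, y * w = w * y := by
    intro w hw h y hy
    obtain ⟨k, hk⟩ := hPel y hy
    obtain ⟨g, hg⟩ := mem_conj_of_not_dvd (centralizer ({w} : Set G)) h hk
    obtain ⟨Q₀⟩ := (inferInstance : Nonempty (Sylow p (centralizer ({w} : Set G))))
    have hQc : Nat.card ((Q₀ : Subgroup _).map (centralizer ({w} : Set G)).subtype) = p ^ (Nat.card G).factorization p := by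
      rw [card_map_of_injective (subtype_injective _), Q₀.card_eq_multiplicity,
        ← card_mul_index (centralizer ({w} : Set G)),
        Nat.factorization_mul Nat.card_pos.ne' index_ne_zero_of_finite, Finsupp.add_apply,
        Nat.factorization_eq_zero_of_not_dvd (show ¬ p ∣ (centralizer ({w} : Set G)).index from h), add_zero]
    set Q : Sylow p G := Sylow.ofCard _ hQc
    have hy' : y ∈ (Q : Subgroup G) := Subsingleton.elim P Q ▸ hy
    exact mem_centralizer_singleton_iff.1 (map_subtype_le _ hy')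
  obtain ⟨y₀, hy₀, hy₀b⟩ : ∃ y ∈ T, y * b ≠ b * y := by
    by_contra h
    push Not at h
    exact P.not_dvd_index' index_ne_zero_of_finite (hpn.trans (index_dvd_of_le
      (fun y hy => mem_centralizer_singleton_iff.2 (h y hy))))
  -- an element moving `a`
  haveI := Fact.mk ht₀
  obtain ⟨Qs⟩ := (inferInstance : Nonempty (Sylow t₀ G))
  obtain ⟨g₀, hg₀Q, hg₀⟩ := SetLike.not_le_iff_exists.1 (fun h : (Qs : Subgroup G) ≤ A =>
    Qs.not_dvd_index' index_ne_zero_of_finite (ht₀d.trans (index_dvd_of_le h)))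
  set C0 := zpowers g₀ with hC0
  have hAT : C0 ≤ normalizer (T : Set G) := by
    rw [normalizer_eq_top_iff.2 hTn]; exact le_top
  have hcoT : (Nat.card C0).Coprime (Nat.card T) := by
    obtain ⟨i, hi⟩ := IsPGroup.iff_card.1 (Qs.isPGroup'.to_le (zpowers_le.2 hg₀Q))
    obtain ⟨j, hj⟩ := IsPGroup.iff_card.1 hTp
    rw [hi, hj]
    exact Nat.Coprime.pow _ _ ((Nat.coprime_primes ht₀ hpp).2 fun e => hpm (e ▸ ht₀d))
  haveI : Group.IsNilpotent T := hTp.isNilpotent
  let F : Subgroup G :=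
    { carrier := {t | t ∈ T ∧ ∀ g : G, g * t * g⁻¹ * t⁻¹ ∈ ⁅T, T⁆}
      one_mem' := ⟨one_mem _, fun g => by simp⟩
      mul_mem' := fun {a b} ha hb => ⟨mul_mem ha.1 hb.1, fun g => by
        have h1 := (Subgroup.commutator_normal T T).conj_mem _ (hb.2 g) a
        have h2 := mul_mem (ha.2 g) h1
        have e : g * (a * b) * g⁻¹ * (a * b)⁻¹
            = g * a * g⁻¹ * a⁻¹ * (a * (g * b * g⁻¹ * b⁻¹) * a⁻¹) := by group
        rw [e]; exact h2⟩
      inv_mem' := fun {a} ha => ⟨inv_mem ha.1, fun g => by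
        have h1 := (Subgroup.commutator_normal T T).conj_mem _ (inv_mem (ha.2 g)) a⁻¹
        have e : g * a⁻¹ * g⁻¹ * a⁻¹⁻¹ = a⁻¹ * (g * a * g⁻¹ * a⁻¹)⁻¹ * a⁻¹⁻¹ := by group
        rw [e]; exact h1⟩ }
  have hF : ∀ w ∈ T, (∃ y ∈ T, y * w ≠ w * y) → w ∈ F := by
    rintro w hw ⟨y, hy, hne⟩
    refine ⟨hw, fun g => ?_⟩
    have hpd : p ∣ cl w := by
      by_contra h; exact hne (hcentral w hw h y hy)
    have hpp' := (hclP w hw).resolve_right (fun h => h hpd)
    have hTs : Basics.IsSylowIn p ⊤ T := ⟨le_top, by rw [card_top]; exact P.card_eq_multiplicity⟩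
    obtain ⟨e, he⟩ : ∃ e, (centralizer ({w} : Set G)).index = p ^ e :=
      ⟨_, Nat.eq_prime_pow_of_unique_prime_dvd index_ne_zero_of_finite (fun {r} hr hrd => hpp' r hr hrd)⟩
    obtain ⟨σ, hσ, hσc⟩ := FGS.Kazarin.exists_mul_mem (C := centralizer ({w} : Set G)) le_top hTs
      (by rw [relIndex_top_right]; exact he) (mem_top g)
    rw [conj_eq_of_mem hσc]
    exact Subgroup.commutator_mem_commutator hσ hw
  have hbT : b ∈ T := hPO ▸ hbO
  have hTF : T ≤ F := by
    intro t ht
    by_cases htc : ∃ y ∈ T, y * t ≠ t * y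
    · exact hF t ht htc
    · push Not at htc
      have h1 : b ∈ F := hF b hbT ⟨y₀, hy₀, hy₀b⟩
      have h2 : b * t ∈ F := hF _ (mul_mem hbT ht) ⟨y₀, hy₀, fun e => hy₀b ?_⟩
      · simpa using mul_mem (inv_mem h1) h2
      · have : y₀ * b * t = b * y₀ * t := by
          rw [mul_assoc b y₀ t, htc y₀ hy₀, ← mul_assoc b, ← e, mul_assoc]
        exact mul_right_cancel this
  have hK : ⁅T, C0⁆ ≤ ⁅T, T⁆ := by
    rw [commutator_comm, commutator_le]
    intro g _ t ht
    rw [commutatorElement_def]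
    exact (hTF ht).2 g
  have hsup2 := Basics.commutator_sup_inf_centralizer C0 T hAT hcoT (Or.inr inferInstance)
  have hC : T ≤ centralizer (C0 : Set G) := by
    set D := (centralizer (C0 : Set G)).subgroupOf T with hD
    have h1 : D ⊔ frattini T = ⊤ := by
      rw [eq_top_iff]
      intro t _
      have ht : (t : G) ∈ ⁅T, T⁆ ⊔ (T ⊓ centralizer (C0 : Set G)) :=
        (sup_le_sup_right hK _) (hsup2.symm ▸ t.2)
      have hmap : ⁅T, T⁆ ⊔ (T ⊓ centralizer (C0 : Set G)) ≤ (D ⊔ frattini T).map T.subtype := by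
        refine sup_le ?_ ?_
        · refine le_trans ?_ (Subgroup.map_mono (le_sup_right : frattini T ≤ D ⊔ frattini T))
          refine le_trans (le_of_eq ?_) (Subgroup.map_mono Basics.commutator_le_frattini)
          rw [_root_.commutator_def, map_commutator, ← MonoidHom.range_eq_map, range_subtype]
        · intro z hz
          exact ⟨⟨z, hz.1⟩, Subgroup.mem_sup_left (mem_subgroupOf.2 hz.2), rfl⟩
      obtain ⟨t', ht', e⟩ := hmap ht
      rwa [← Subtype.ext (e : (t' : G) = t)]
    have h2 := frattini_nongenerating h1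
    intro t ht
    exact mem_subgroupOf.1 (h2 ▸ mem_top (⟨t, ht⟩ : T))
  apply hg₀
  rw [mem_centralizer_singleton_iff]
  exact mem_centralizer_iff.1 (hC (hPO ▸ haO)) g₀ (mem_zpowers g₀)

private theorem core [Finite G] (p : ℕ) [hp : Fact p.Prime] (hZ : ¬ p ∣ Nat.card (center G)) (a b : G)
    (hao : orderOf a = p) (hbo : orderOf b = p)
    (hco : (cl a).Coprime (cl b)) (hlt : cl a < cl b) (hNE : NE p a b) : False := by
  have hconj : ∀ g x : G, orderOf x = p → orderOf (g * x * g⁻¹) = p := fun g x hx => by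
    rw [show g * x * g⁻¹ = MulAut.conj g x from rfl, MulEquiv.orderOf_eq]; exact hx
  by_cases hpa : p ∣ cl a
  · have hpb : ¬ p ∣ cl b := fun h => hp.out.not_dvd_one (hco ▸ Nat.dvd_gcd hpa h)
    obtain ⟨g, hg⟩ := mem_conj_of_not_dvd (i := 1) (centralizer ({b} : Set G)) hpb
      (show a ^ p ^ 1 = 1 by rw [pow_one, ← hao]; exact pow_orderOf_eq_one a)
    exact core_commute p hZ (g * a * g⁻¹) b (hconj g a hao) hbo
      (mem_centralizer_singleton_iff.1 hg).symm (by rw [cl_conj]; exact hco) (by rw [cl_conj]; exact hlt)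
      (by unfold NE; rw [cl_conj]; exact hNE)
  · obtain ⟨g, hg⟩ := mem_conj_of_not_dvd (i := 1) (centralizer ({a} : Set G)) hpa
      (show b ^ p ^ 1 = 1 by rw [pow_one, ← hbo]; exact pow_orderOf_eq_one b)
    exact core_commute p hZ a (g * b * g⁻¹) hao (hconj g b hbo)
      (mem_centralizer_singleton_iff.1 hg) (by rw [cl_conj]; exact hco) (by rw [cl_conj]; exact hlt)
      (by unfold NE; rw [cl_conj]; exact hNE)


/-- Let `G` be a finite group and `p` a prime not dividing the order of the centre of `G`. Consider the primes dividing the size of some conjugacy class of a `p`-singular element (an element of order divisible by `p`), two of them adjacent when their product divides such a class size. Then any two distinct such primes are joined by a path with at most 3 edges (the graph is connected of diameter at most 3). -/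
theorem result {G : Type*} [Group G] [Finite G] (p : ℕ) [Fact p.Prime]
    (hZ : ¬ p ∣ Nat.card ↥(Subgroup.center G)) (r s : ℕ) (hr : (r.Prime ∧ ∃ x : G, p ∣ orderOf x ∧ r ∣ (Subgroup.centralizer ({x} : Set G)).index)) (hs : (s.Prime ∧ ∃ x : G, p ∣ orderOf x ∧ s ∣ (Subgroup.centralizer ({x} : Set G)).index)) (hrs : r ≠ s) :
    (∃ x : G, p ∣ orderOf x ∧ r * s ∣ (Subgroup.centralizer ({x} : Set G)).index) ∨ (∃ t : ℕ, (t.Prime ∧ ∃ x : G, p ∣ orderOf x ∧ t ∣ (Subgroup.centralizer ({x} : Set G)).index) ∧ t ≠ r ∧ t ≠ s ∧ (∃ x : G, p ∣ orderOf x ∧ r * t ∣ (Subgroup.centralizer ({x} : Set G)).index) ∧ (∃ x : G, p ∣ orderOf x ∧ t * s ∣ (Subgroup.centralizer ({x} : Set G)).index)) ∨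
      (∃ t u : ℕ, (t.Prime ∧ ∃ x : G, p ∣ orderOf x ∧ t ∣ (Subgroup.centralizer ({x} : Set G)).index) ∧ (u.Prime ∧ ∃ x : G, p ∣ orderOf x ∧ u ∣ (Subgroup.centralizer ({x} : Set G)).index) ∧ t ≠ r ∧ u ≠ s ∧ t ≠ u ∧ (∃ x : G, p ∣ orderOf x ∧ r * t ∣ (Subgroup.centralizer ({x} : Set G)).index) ∧ (∃ x : G, p ∣ orderOf x ∧ t * u ∣ (Subgroup.centralizer ({x} : Set G)).index) ∧ (∃ x : G, p ∣ orderOf x ∧ u * s ∣ (Subgroup.centralizer ({x} : Set G)).index)) := by
  classical
  obtain ⟨hr, x, hxp, hrx⟩ := hr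
  obtain ⟨hs, y, hyp, hsy⟩ := hs
  -- elements of order p
  obtain ⟨a, hao, hax⟩ : ∃ a, orderOf a = p ∧ cl a ∣ cl x :=
    ⟨x ^ (orderOf x / p), orderOf_pow_orderOf_div (orderOf_pos x).ne' hxp, cl_pow_dvd _ _⟩
  obtain ⟨b, hbo, hby⟩ : ∃ b, orderOf b = p ∧ cl b ∣ cl y :=
    ⟨y ^ (orderOf y / p), orderOf_pow_orderOf_div (orderOf_pos y).ne' hyp, cl_pow_dvd _ _⟩
  have hnc : ∀ c : G, orderOf c = p → cl c ≠ 1 := fun c hc h => by
    have := Subgroup.orderOf_dvd_natCard _ (cl_eq_one.1 h)
    rw [hc] at this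
    exact hZ this
  have mk2 : ∀ {u v : ℕ} {z : G}, u.Prime → v.Prime → u ≠ v → u ∣ cl z → v ∣ cl z → u * v ∣ cl z :=
    fun hu hv huv h1 h2 => ((Nat.coprime_primes hu hv).2 huv).mul_dvd_of_dvd_of_dvd h1 h2
  have two : ∀ t : ℕ, t.Prime → t ∣ cl x → t ∣ cl y →
      (∃ x : G, p ∣ orderOf x ∧ r * s ∣ cl x) ∨ (∃ t : ℕ, (t.Prime ∧ ∃ x : G, p ∣ orderOf x ∧ t ∣ cl x) ∧ t ≠ r ∧ t ≠ s ∧ (∃ x : G, p ∣ orderOf x ∧ r * t ∣ cl x) ∧ (∃ x : G, p ∣ orderOf x ∧ t * s ∣ cl x)) := by
    intro t ht h1 h2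
    by_cases htr : t = r
    · subst htr; exact Or.inl ⟨y, hyp, mk2 hr hs hrs h2 hsy⟩
    by_cases hts : t = s
    · subst hts; exact Or.inl ⟨x, hxp, mk2 hr hs hrs hrx h1⟩
    exact Or.inr ⟨t, ⟨ht, x, hxp, h1⟩, htr, hts, ⟨x, hxp, mk2 hr ht (Ne.symm htr) hrx h1⟩,
      ⟨y, hyp, mk2 ht hs hts h2 hsy⟩⟩
  by_cases hco : (cl a).Coprime (cl b)
  swap
  · obtain ⟨t, ht, h1, h2⟩ := Nat.Prime.not_coprime_iff_dvd.1 hco
    rcases two t ht (h1.trans hax) (h2.trans hby) with h | h
    · exact Or.inl h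
    · exact Or.inr (Or.inl h)
  obtain ⟨z, hzp, t, u, ht, hu, hta, hub, htz, huz⟩ : ∃ z : G, p ∣ orderOf z ∧ ∃ t u : ℕ,
      t.Prime ∧ u.Prime ∧ t ∣ cl a ∧ u ∣ cl b ∧ t ∣ cl z ∧ u ∣ cl z := by
    by_contra h
    push Not at h
    have hNE : NE p a b := fun z hz t u ht hu h1 h2 h3 h4 => h z hz t u ht hu h1 h2 h3 h4
    have hNE' : NE p b a := fun z hz t u ht hu h1 h2 h3 h4 => h z hz u t hu ht h2 h1 h4 h3
    rcases lt_trichotomy (cl a) (cl b) with hlt | heq | hlt
    · exact core p hZ a b hao hbo hco hlt hNE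
    · rw [heq, Nat.coprime_self] at hco
      exact hnc b hbo hco
    · exact core p hZ b a hbo hao hco.symm hlt hNE'
  have htu : t ≠ u := fun e => ht.not_dvd_one (hco ▸ Nat.dvd_gcd hta (e ▸ hub))
  by_cases hty : t ∣ cl y
  · rcases two t ht (hta.trans hax) hty with h | h
    · exact Or.inl h
    · exact Or.inr (Or.inl h)
  by_cases hux : u ∣ cl x
  · rcases two u hu hux (hub.trans hby) with h | h
    · exact Or.inl h
    · exact Or.inr (Or.inl h)
  have hts : t ≠ s := fun e => hty (e ▸ hsy)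
  have hur : u ≠ r := fun e => hux (e ▸ hrx)
  by_cases htr : t = r
  · subst htr
    by_cases hus : u = s
    · subst hus; exact Or.inl ⟨z, hzp, mk2 hr hs hrs htz huz⟩
    · exact Or.inr (Or.inl ⟨u, ⟨hu, z, hzp, huz⟩, hur, hus, ⟨z, hzp, mk2 hr hu (Ne.symm hur) htz huz⟩,
        ⟨y, hyp, mk2 hu hs hus (hub.trans hby) hsy⟩⟩)
  by_cases hus : u = s
  · subst hus
    exact Or.inr (Or.inl ⟨t, ⟨ht, z, hzp, htz⟩, htr, hts, ⟨x, hxp, mk2 hr ht (Ne.symm htr) hrx (hta.trans hax)⟩,
      ⟨z, hzp, mk2 ht hs hts htz huz⟩⟩)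
  exact Or.inr (Or.inr ⟨t, u, ⟨ht, z, hzp, htz⟩, ⟨hu, z, hzp, huz⟩, htr, hus, htu,
    ⟨x, hxp, mk2 hr ht (Ne.symm htr) hrx (hta.trans hax)⟩, ⟨z, hzp, mk2 ht hu htu htz huz⟩,
    ⟨y, hyp, mk2 hu hs hus (hub.trans hby) hsy⟩⟩)

end Cfsg.Agent.S4321
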