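import Cfsg.Statements.S4325
import Cfsg.Agent.Lib.FGS.Transpositions

set_option autoImplicit false
open Cfsg
open scoped Pointwise
set_option linter.all false

namespace Cfsg.Agent.S4325

/-- Let r be a prime and m a natural number with m + 1 < r, and let π be a set of primes containing every prime below r but not r itself. Then in the symmetric group of degree r any m transpositions generate a π-subgroup, while O_π of the symmetric group is trivial. (So no bound on the number of conjugates that works for all π exists in the π-radical analogue of the Baer–Suzuki Theorem.) -/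
theorem result (r m : ℕ) (hr : r.Prime)
    (hm : m + 1 < r) (π : Set ℕ) (hπ : ∀ q : ℕ, q.Prime → q < r → q ∈ π) (hrπ : r ∉ π)
    (t : Fin m → Equiv.Perm (Fin r)) (ht : ∀ i, (t i).IsSwap) :
    Cfsg.IsPiSubgroup π (Subgroup.closure (Set.range t)) ∧ Cfsg.piCore π (Equiv.Perm (Fin r)) = ⊥ := by
  classical
  haveI := Fact.mk hr
  constructor
  · obtain ⟨L, hL, hc⟩ := FGS.Transpos.exists_label m t ht
    have hle := FGS.Transpos.closure_le_labelStab t L hL
    intro q hq hqd
    have h1 : q ∣ r.factorial := by
      refine hqd.trans ?_
      refine (Subgroup.card_subgroup_dvd_card _).trans ?_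
      rw [Nat.card_perm, Nat.card_eq_fintype_card, Fintype.card_fin]
    rcases (Nat.Prime.dvd_factorial hq).1 h1 |>.lt_or_eq with h | rfl
    · exact hπ q hq h
    exfalso
    haveI := Fact.mk hq
    obtain ⟨g, hg⟩ := exists_prime_orderOf_dvd_card' q hqd
    have hgo : orderOf (g : Equiv.Perm (Fin q)) = q := by rw [Subgroup.orderOf_coe]; exact hg
    have hcyc : (g : Equiv.Perm (Fin q)).IsCycle :=
      Equiv.Perm.isCycle_of_prime_order' (by rw [hgo]; exact hq)
        (by rw [hgo, Fintype.card_fin]; have := hq.pos; omega)
    have hsupp : (g : Equiv.Perm (Fin q)).support = Finset.univ := by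
      rw [← Finset.card_eq_iff_eq_univ, ← hcyc.orderOf, hgo, Fintype.card_fin]
    have hconst : ∀ x y, L x = L y := by
      intro x y
      obtain ⟨i, hi⟩ := hcyc.sameCycle (Equiv.Perm.mem_support.1 (hsupp ▸ Finset.mem_univ x))
        (Equiv.Perm.mem_support.1 (hsupp ▸ Finset.mem_univ y))
      rw [← hi]
      exact ((zpow_mem (hle g.2) i) x).symm
    have h2 : (Finset.univ.image L).card ≤ 1 :=
      Finset.card_le_one.2 fun u hu v hv => by
        simp only [Finset.mem_image, Finset.mem_univ, true_and] at hu hv
        obtain ⟨x, rfl⟩ := hu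
        obtain ⟨y, rfl⟩ := hv
        exact hconst x y
    rw [Fintype.card_fin] at hc
    omega
  · refine FGS.Transpos.sSup_eq_bot_of_not_dvd _ (fun N hN => hN.1) fun N hN h => hrπ ?_
    rw [Fintype.card_fin] at h
    exact hN.2 r hr h

end Cfsg.Agent.S4325
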