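import Cfsg.Statements.S4326
-- import your own Cfsg.Agent.* helpers here

set_option autoImplicit false
open Pointwise
open Cfsg
open scoped Pointwise
set_option linter.all false

namespace Cfsg.Agent.S4326

/-- Let G be a finite group, p a prime, x an automorphism of G of p-power order and M the subgroup of fixed points of x. Suppose that p divides the index of M and that either M is self-normalizing or M has trivial center. Then some conjugate of M is mapped onto itself by x but is not fixed elementwise by x. -/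
theorem result {G : Type*} [Group G] [Finite G]
    (p : ℕ) [Fact p.Prime] (x : MulAut G) (hx : ∃ k : ℕ, orderOf x = p ^ k) (M : Subgroup G)
    (hM : ∀ g : G, g ∈ M ↔ x g = g) (hp : p ∣ M.index)
    (hself : Subgroup.normalizer (M : Set G) = M ∨ Subgroup.center M = ⊥) :
    ∃ g : G, (∀ y ∈ MulAut.conj g • M, x y ∈ MulAut.conj g • M) ∧ ∃ y ∈ MulAut.conj g • M, x y ≠ y := by
  classical
  obtain ⟨k, hk⟩ := hx
  let f : MulAut G → (G ⧸ M → G ⧸ M) := fun φ => if h : ∀ m ∈ M, φ m = m then
    Quotient.map' φ (fun a b hab => by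
      rw [QuotientGroup.leftRel_apply] at hab ⊢
      rw [← map_inv, ← map_mul, h _ hab]; exact hab) else id
  have hxM : ∀ m ∈ M, x m = m := fun m hm => (hM m).1 hm
  have hfx : ∀ g : G, f x (g : G ⧸ M) = ((x g : G) : G ⧸ M) := fun g => by
    simp only [f, dif_pos hxM]; rfl
  have hsM : ∀ m ∈ M, x.symm m = m := fun m hm => by
    conv_lhs => rw [← hxM m hm]
    exact x.symm_apply_apply m
  have hfs : ∀ g : G, f x.symm (g : G ⧸ M) = ((x.symm g : G) : G ⧸ M) := fun g => by
    simp only [f, dif_pos hsM]; rfl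
  let σ : Equiv.Perm (G ⧸ M) :=
    { toFun := f x
      invFun := f x.symm
      left_inv := fun a => by
        induction a using QuotientGroup.induction_on with
        | _ g => rw [hfx, hfs, x.symm_apply_apply]
      right_inv := fun a => by
        induction a using QuotientGroup.induction_on with
        | _ g => rw [hfs, hfx, x.apply_symm_apply] }
  have hσ : ∀ (n : ℕ) (g : G), (σ ^ n) (g : G ⧸ M) = (((x ^ n) g : G) : G ⧸ M) := by
    intro n
    induction n with
    | zero => intro g; simp
    | succ n ih =>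
      intro g
      rw [pow_succ', pow_succ', Equiv.Perm.mul_apply, ih, MulAut.mul_apply]
      exact hfx _
  have hσ1 : σ ^ p ^ k = 1 := by
    ext a
    induction a using QuotientGroup.induction_on with
    | _ g => rw [hσ, ← hk, pow_orderOf_eq_one]; rfl
  haveI := Fintype.ofFinite (G ⧸ M)
  have hcard : p ∣ Fintype.card (G ⧸ M) := by
    rwa [← Nat.card_eq_fintype_card]
  have hfix1 : σ ((1 : G) : G ⧸ M) = ((1 : G) : G ⧸ M) := by
    show f x _ = _
    rw [hfx, map_one]
  obtain ⟨b, hb, hb1⟩ := Equiv.Perm.exists_fixed_point_of_prime' hcard hσ1 hfix1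
  obtain ⟨g, rfl⟩ := QuotientGroup.mk_surjective b
  have hgM : g ∉ M := fun h => hb1 (QuotientGroup.eq.2 (by simpa using inv_mem h))
  have hb' : ((x g : G) : G ⧸ M) = (g : G ⧸ M) := (hfx g).symm.trans hb
  have hm : g⁻¹ * x g ∈ M := QuotientGroup.eq.1 hb'.symm
  set m := g⁻¹ * x g with hm0
  have hxg : x g = g * m := by rw [hm0, mul_inv_cancel_left]
  have key : ∀ n ∈ M, x (g * n * g⁻¹) = g * (m * n * m⁻¹) * g⁻¹ := fun n hn => by
    rw [map_mul, map_mul, map_inv, hxM n hn, hxg]; group
  have hmem : ∀ y, y ∈ MulAut.conj g • M ↔ ∃ n ∈ M, g * n * g⁻¹ = y := by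
    intro y
    rw [Subgroup.mem_smul_pointwise_iff_exists]
    simp [MulAut.smul_def]
  refine ⟨g, ?_, ?_⟩
  · intro y hy
    obtain ⟨n, hn, rfl⟩ := (hmem y).1 hy
    exact (hmem _).2 ⟨m * n * m⁻¹, mul_mem (mul_mem hm hn) (inv_mem hm), (key n hn).symm⟩
  · by_contra hcon
    push Not at hcon
    have h1 : ∀ n ∈ M, x (g * n * g⁻¹) = g * n * g⁻¹ := fun n hn => hcon _ ((hmem _).2 ⟨n, hn, rfl⟩)
    rcases hself with hN | hZ
    · apply hgM
      rw [← hN]
      refine Subgroup.mem_normalizer_iff.2 fun n => ⟨fun hn => (hM _).2 (h1 n hn), fun hn => ?_⟩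
      have hsub : MulAut.conj g • M ≤ M := fun y hy => by
        obtain ⟨n', hn', rfl⟩ := (hmem y).1 hy
        exact (hM _).2 (h1 n' hn')
      have hc : Nat.card (MulAut.conj g • M : Subgroup G) = Nat.card M :=
        Nat.card_congr (Subgroup.equivSMul (MulAut.conj g) M).toEquiv.symm
      have he := Subgroup.eq_of_le_of_card_ge hsub hc.ge
      rw [← he] at hn
      obtain ⟨n', hn', he'⟩ := (hmem _).1 hn
      have : n' = n := mul_left_cancel (mul_right_cancel he')
      exact this ▸ hn'
    · have hmc : (⟨m, hm⟩ : M) ∈ Subgroup.center M := by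
        refine Subgroup.mem_center_iff.2 fun ⟨n, hn⟩ => Subtype.ext ?_
        have h2 := (key n hn).symm.trans (h1 n hn)
        have h3 : m * n * m⁻¹ = n := mul_left_cancel (mul_right_cancel h2)
        show n * m = m * n
        exact (mul_inv_eq_iff_eq_mul.1 h3).symm
      rw [hZ, Subgroup.mem_bot] at hmc
      have hm1 : m = 1 := congrArg Subtype.val hmc
      exact hgM ((hM g).2 (by rw [hxg, hm1, mul_one]))

end Cfsg.Agent.S4326
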