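import Cfsg.Statements.S4330
import Cfsg.Agent.Lib.RegOrbit23.Avoid
import Cfsg.Agent.Lib.LocalEvenA.Core
import Cfsg.Agent.Lib.PairStable23.Core
import Cfsg.Agent.Lib.Recog.MinNormal
import Cfsg.Agent.Lib.OddLocal.FitFacts
-- import your own Cfsg.Agent.* helpers here

set_option autoImplicit false
open Pointwise
open Cfsg

namespace Cfsg.Agent.S4330

universe u

open scoped Pointwise

/-- The hypothesis passes to the images. -/
theorem hyp_map {G : Type u} [Group G] {Q : Type u} [Group Q] (f : G →* Q)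
    (hf : Function.Surjective f) (A : Subgroup G)
    (h : ∀ c : G, ∃ g : G, IsConj c g ∧ (A.subgroupOf (A ⊔ MulAut.conj g • A)).IsSubnormal) :
    ∀ c : Q, ∃ g : Q, IsConj c g ∧
      ((A.map f).subgroupOf (A.map f ⊔ MulAut.conj g • A.map f)).IsSubnormal := by
  intro c
  obtain ⟨c, rfl⟩ := hf c
  obtain ⟨g, hcg, hsn⟩ := h c
  refine ⟨f g, f.map_isConj hcg, ?_⟩
  have hsm : (MulAut.conj g • A).map f = MulAut.conj (f g) • A.map f := by
    ext y
    constructor
    · rintro ⟨_, ⟨x, hx, rfl⟩, rfl⟩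
      exact ⟨f x, Subgroup.mem_map_of_mem _ hx, by simp [MulAut.smul_def]⟩
    · rintro ⟨_, ⟨x, hx, rfl⟩, rfl⟩
      exact ⟨g * x * g⁻¹, ⟨x, hx, by simp [MulAut.smul_def]⟩, by simp [MulAut.smul_def]⟩
  have hJ : (A ⊔ MulAut.conj g • A).map f = A.map f ⊔ MulAut.conj (f g) • A.map f := by
    rw [Subgroup.map_sup, hsm]
  rw [← hJ]
  have h1 := hsn.map (f := f.subgroupMap _) (f.subgroupMap_surjective _)
  convert h1 using 1
  ext ⟨y, hy⟩
  simp only [Subgroup.mem_subgroupOf, Subgroup.mem_map]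
  constructor
  · rintro ⟨x, hx, hxy⟩
    exact ⟨⟨x, Subgroup.mem_sup_left hx⟩, hx, Subtype.ext hxy⟩
  · rintro ⟨x, hx, hxy⟩
    exact ⟨x, hx, congrArg Subtype.val hxy⟩

theorem key {p : ℕ} [hp : Fact p.Prime] (hp2 : p ≠ 2) : ∀ (n : ℕ) (G : Type u) [Group G] [Finite G],
    Nat.card G = n → Group.IsSolvable G → ∀ A : Subgroup G, IsPGroup p A →
    (∀ c : G, ∃ g : G, IsConj c g ∧ (A.subgroupOf (A ⊔ MulAut.conj g • A)).IsSubnormal) →
    A ≤ Cfsg.pCore p G := by
  intro n
  induction n using Nat.strong_induction_on with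
  | _ n ih =>
  intro G _ _ hn hG A hA h
  haveI := hG
  have hquot : ∀ M : Subgroup G, [M.Normal] → M ≠ ⊥ →
      A.map (QuotientGroup.mk' M) ≤ Cfsg.pCore p (G ⧸ M) := by
    intro M _ hM
    refine ih _ ?_ (G ⧸ M) rfl inferInstance _ (hA.map _)
      (hyp_map _ (QuotientGroup.mk'_surjective M) A h)
    rw [← hn, Subgroup.card_eq_card_quotient_mul_card_subgroup M]
    exact lt_mul_of_one_lt_right Nat.card_pos ((Subgroup.one_lt_card_iff_ne_bot M).mpr hM)
  by_cases hO : Cfsg.pCore p G = ⊥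
  swap
  · haveI : (Cfsg.pCore p G).Normal := inferInstance
    intro a ha
    have h1 := hquot _ hO (Subgroup.mem_map_of_mem _ ha)
    rw [PairStable23.pCore_quotient_eq_bot, Subgroup.mem_bot] at h1
    exact (QuotientGroup.eq_one_iff a).mp h1
  intro a ha
  rw [hO, Subgroup.mem_bot]
  by_contra ha1
  haveI : Nontrivial G := ⟨⟨a, 1, ha1⟩⟩
  obtain ⟨N, hN⟩ := Recog.exists_isMinNormal (G := G)
  haveI := hN.normal
  have hNab : IsMulCommutative N := by
    have hnt : Nontrivial N := (Subgroup.nontrivial_iff_ne_bot N).mpr hN.ne_bot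
    rcases hN.minimal ⁅N, N⁆ inferInstance (Subgroup.commutator_le_left N N) with hb | hb
    · refine ⟨⟨fun x y => Subtype.ext ?_⟩⟩
      have := Subgroup.commutator_mem_commutator x.2 y.2
      rw [hb, Subgroup.mem_bot] at this
      exact commutatorElement_eq_one_iff_mul_comm.mp this
    · exfalso
      refine (Group.IsSolvable.commutator_lt_top_of_nontrivial N).ne ?_
      refine Subgroup.map_injective N.subtype_injective ?_
      rw [Subgroup.map_subtype_commutator, ← MonoidHom.range_eq_map, Subgroup.range_subtype, hb]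
  have hNc : ∀ x ∈ N, ∀ y ∈ N, x * y = y * x := fun x hx y hy =>
    congrArg Subtype.val (hNab.is_comm.comm ⟨x, hx⟩ ⟨y, hy⟩)
  obtain ⟨r, hr, hrN⟩ := hN.exists_prime_pow_eq_one hNab
  haveI := Fact.mk hr
  have hNr : IsPGroup r N := fun x => ⟨1, Subtype.ext (by simpa using hrN x x.2)⟩
  have hrp : r ≠ p := by
    rintro rfl
    exact hN.ne_bot (le_bot_iff.mp (hO ▸ LocalEvenA.subnormal_le_pCore hN.normal.isSubnormal hNr))
  have hcop : (Nat.card N).Coprime p := by
    obtain ⟨k, hk⟩ := hNr.exists_card_eq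
    rw [hk]
    exact ((Nat.coprime_primes hr hp.out).mpr hrp).pow_left k
  set π := QuotientGroup.mk' N
  set K := (Cfsg.pCore p (G ⧸ N)).comap π
  have hAK : A ≤ K := fun x hx => hquot N hN.ne_bot (Subgroup.mem_map_of_mem _ hx)
  have hKpow : ∀ k ∈ K, ∃ j : ℕ, k ^ p ^ j ∈ N := by
    intro k hk
    obtain ⟨j, hj⟩ := (LocalEvenA.pCore_isPGroup' p (G ⧸ N)) ⟨π k, hk⟩
    exact ⟨j, (QuotientGroup.eq_one_iff _).mp ((map_pow π k _).trans (congrArg Subtype.val hj))⟩
  set C := Subgroup.centralizer (N : Set G) with hC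
  by_cases haC : a ∈ C
  · -- then `a` is subnormal
    set D := K ⊓ C
    haveI : D.Normal := inferInstance
    let f : D →* G ⧸ N := π.comp D.subtype
    haveI : Group.IsNilpotent f.range := by
      refine (IsPGroup.isNilpotent (p := p) ?_)
      refine (LocalEvenA.pCore_isPGroup' p (G ⧸ N)).to_le ?_
      rintro _ ⟨d, rfl⟩
      exact d.2.1
    haveI : Group.IsNilpotent D := by
      refine Subgroup.isNilpotent_of_ker_le_center f.rangeRestrict ?_
      intro d hd
      rw [MonoidHom.ker_rangeRestrict, MonoidHom.mem_ker] at hd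
      have hdN : (d : G) ∈ N := (QuotientGroup.eq_one_iff _).mp hd
      exact Subgroup.mem_center_iff.mpr fun e => Subtype.ext
        (Subgroup.mem_centralizer_iff.mp e.2.2 d hdN).symm
    have hsn : (Subgroup.zpowers a).IsSubnormal :=
      Subgroup.IsSubnormal.trans (K := D) (Subgroup.zpowers_le.mpr ⟨hAK ha, haC⟩)
        (OddLocal.isSubnormal_of_isNilpotent _) (Subgroup.Normal.isSubnormal inferInstance)
    have h1 := LocalEvenA.subnormal_le_pCore hsn (hA.to_le (Subgroup.zpowers_le.mpr ha))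
      (Subgroup.mem_zpowers a)
    rw [hO, Subgroup.mem_bot] at h1
    exact ha1 h1
  · haveI : C.Normal := inferInstance
    letI : CommGroup N := { (inferInstance : Group N) with mul_comm := hNab.is_comm.comm }
    let φ : G ⧸ C →* MulAut N := QuotientGroup.lift C MulAut.conjNormal fun c hc =>
      MulEquiv.ext fun v => Subtype.ext (by
        rw [MulAut.conjNormal_apply, MulAut.one_apply, mul_inv_eq_iff_eq_mul]
        exact (Subgroup.mem_centralizer_iff.mp hc v v.2).symm)
    letI act : MulDistribMulAction (G ⧸ C) N := MulDistribMulAction.compHom N φ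
    have hsmul : ∀ (x : G) (v : N), (((QuotientGroup.mk' C x) • v : N) : G) = x * v * x⁻¹ :=
      fun x v => MulAut.conjNormal_apply x v
    obtain ⟨v, hv⟩ := RegOrbit23.exists_vector_avoiding_class (H := G ⧸ C) (N := N) hp2
      (fun q hq => by
        obtain ⟨x, rfl⟩ := QuotientGroup.mk'_surjective C q
        refine (QuotientGroup.eq_one_iff x).mpr (Subgroup.mem_centralizer_iff.mpr fun v hv => ?_)
        have h1 := congrArg Subtype.val (hq ⟨v, hv⟩)
        rw [hsmul, mul_inv_eq_iff_eq_mul] at h1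
        exact h1.symm)
      (fun X hX => by
        have hXn : (X.map N.subtype).Normal := ⟨by
          rintro _ ⟨v, hv, rfl⟩ x
          exact ⟨_, hX (QuotientGroup.mk' C x) v hv, hsmul x v⟩⟩
        rcases hN.minimal _ hXn (Subgroup.map_subtype_le _) with h1 | h1
        · exact Or.inl ((Subgroup.map_eq_bot_iff_of_injective _ N.subtype_injective).mp h1)
        · refine Or.inr (Subgroup.map_injective N.subtype_injective ?_)
          rw [h1, ← MonoidHom.range_eq_map, Subgroup.range_subtype])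
      hcop (hPn := Subgroup.Normal.map inferInstance _ (QuotientGroup.mk'_surjective C))
      (K.map (QuotientGroup.mk' C)) (by
        rintro ⟨_, k, hk, rfl⟩
        obtain ⟨j, hj⟩ := hKpow k hk
        refine ⟨j, Subtype.ext ?_⟩
        rw [Subgroup.coe_pow, Subgroup.coe_one, ← map_pow]
        exact (QuotientGroup.eq_one_iff _).mpr (Subgroup.mem_centralizer_iff.mpr fun y hy =>
          hNc y hy _ hj))
      (Subgroup.mem_map_of_mem _ (hAK ha)) (fun h1 => haC ((QuotientGroup.eq_one_iff a).mp h1))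
    obtain ⟨g, hcg, hsn⟩ := h (v : G)
    obtain ⟨x, hx⟩ := isConj_iff.mp hcg
    have hgN : g ∈ N := hx ▸ hN.normal.conj_mem v v.2 x
    set J := A ⊔ MulAut.conj g • A with hJ
    have haJ : a ∈ J := Subgroup.mem_sup_left ha
    have hAcore : A.subgroupOf J ≤ Cfsg.pCore p J :=
      LocalEvenA.subnormal_le_pCore hsn (hA.comap_of_injective J.subtype J.subtype_injective)
    set t := g * a * g⁻¹ * a⁻¹ with ht
    have htJ : t ∈ J := mul_mem (Subgroup.mem_sup_right (show g * a * g⁻¹ ∈ MulAut.conj g • A from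
      ⟨a, ha, rfl⟩)) (inv_mem haJ)
    have htN : t ∈ N := by
      rw [ht, show g * a * g⁻¹ * a⁻¹ = g * (a * g⁻¹ * a⁻¹) by group]
      exact mul_mem hgN (hN.normal.conj_mem _ (inv_mem hgN) a)
    have hat : a * t = t * a := by
      set d := a * t * a⁻¹ * t⁻¹ with hd
      have hdN : d ∈ N := mul_mem (hN.normal.conj_mem t htN a) (inv_mem htN)
      have ha' : (⟨a, haJ⟩ : J) ∈ Cfsg.pCore p J := hAcore ha
      have hd' : (⟨a, haJ⟩ * ⟨t, htJ⟩ * (⟨a, haJ⟩ : J)⁻¹ * (⟨t, htJ⟩ : J)⁻¹) ∈ Cfsg.pCore p J := by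
        rw [mul_assoc, mul_assoc]
        refine mul_mem ha' ?_
        rw [← mul_assoc]
        exact (inferInstance : (Cfsg.pCore p J).Normal).conj_mem _ (inv_mem ha') _
      obtain ⟨j, hj⟩ := LocalEvenA.pCore_isPGroup' p J ⟨_, hd'⟩
      have hj' : d ^ p ^ j = 1 := congrArg Subtype.val (congrArg Subtype.val hj)
      have hd1 : d = 1 := by
        refine orderOf_eq_one_iff.mp (Nat.eq_one_of_dvd_coprimes
          (((Nat.coprime_primes hr hp.out).mpr hrp).pow_right j)
          (orderOf_dvd_of_pow_eq_one (hrN d hdN)) (orderOf_dvd_of_pow_eq_one hj'))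
      rw [hd, mul_inv_eq_one, mul_inv_eq_iff_eq_mul] at hd1
      exact hd1
    have hfix : g * a = a * g := by
      have hconj : a * g * a⁻¹ = t⁻¹ * g := by
        rw [ht]; group
      obtain ⟨j, hj⟩ := hA ⟨a, ha⟩
      have hj' : a ^ p ^ j = 1 := congrArg Subtype.val hj
      have hpow : ∀ k : ℕ, a ^ k * g * (a ^ k)⁻¹ = t⁻¹ ^ k * g :=
        RegOrbit23.conj_pow_mul hconj (show Commute a t from hat).inv_right
      have h1 := hpow (p ^ j)
      rw [hj', one_mul, inv_one, mul_one, right_eq_mul, inv_pow, inv_eq_one] at h1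
      have ht1 : t = 1 := orderOf_eq_one_iff.mp (Nat.eq_one_of_dvd_coprimes
        (((Nat.coprime_primes hr hp.out).mpr hrp).pow_right j)
        (orderOf_dvd_of_pow_eq_one (hrN t htN)) (orderOf_dvd_of_pow_eq_one h1))
      rw [ht, mul_inv_eq_one, mul_inv_eq_iff_eq_mul] at ht1
      exact ht1
    refine hv (QuotientGroup.mk' C x⁻¹) ?_
    rw [← map_inv, ← map_mul, ← map_mul]
    refine Subtype.ext ?_
    rw [hsmul, inv_inv]
    calc x⁻¹ * a * x * (v : G) * (x⁻¹ * a * x)⁻¹ = x⁻¹ * (a * (x * v * x⁻¹) * a⁻¹) * x := by group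
      _ = x⁻¹ * g * x := by rw [hx, ← hfix, mul_inv_cancel_right]
      _ = (v : G) := by rw [← hx]; group

/-- Let G be a finite solvable group, p an odd prime and A a p-subgroup of G such that every conjugacy class of G contains an element g for which A is subnormal in the subgroup generated by A and its conjugate by g. Then A is contained in O_p(G). (The hypothesis that p is odd is needed.) -/
theorem result {G : Type*} [Group G] [Finite G]
    (hG : Group.IsSolvable G) (p : ℕ) [Fact p.Prime] (hp : p ≠ 2) (A : Subgroup G) (hA : IsPGroup p A)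
    (h : ∀ c : G, ∃ g : G, IsConj c g ∧ (A.subgroupOf (A ⊔ MulAut.conj g • A)).IsSubnormal) :
    A ≤ Cfsg.pCore p G := by
  exact key hp _ G rfl hG A hA h

end Cfsg.Agent.S4330
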