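import Cfsg.Statements.S4331
import Cfsg.Agent.Lib.OddLocal.FitFacts

set_option autoImplicit false
open Cfsg
open scoped Pointwise
set_option linter.all false

namespace Cfsg.Agent.S4331

/-- The plane over the field with three elements. -/
abbrev V := ZMod 3 × ZMod 3

/-- The semidihedral group of order sixteen, by exponents. -/
structure SD where
  i : ZMod 8
  e : Bool
deriving DecidableEq

/-- The pairs of exponents. -/
def sdEquiv : SD ≃ ZMod 8 × Bool where
  toFun a := (a.i, a.e)
  invFun p := ⟨p.1, p.2⟩
  left_inv _ := rfl
  right_inv _ := rfl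

instance : Fintype SD := Fintype.ofEquiv _ sdEquiv.symm

instance : Mul SD := ⟨fun a b => ⟨a.i + (if a.e then 3 * b.i else b.i), xor a.e b.e⟩⟩

instance : One SD := ⟨⟨0, false⟩⟩

instance : Inv SD := ⟨fun a => ⟨if a.e then -(3 * a.i) else -a.i, a.e⟩⟩

set_option maxRecDepth 20000 in
instance : Group SD := Group.ofLeftAxioms (by decide +kernel) (by decide +kernel) (by decide +kernel)

/-- The powers of a primitive eighth root of unity in the field with nine elements. -/
def root : ZMod 8 → V := fun i =>
  match i.val with
  | 0 => (1, 0) | 1 => (1, 1) | 2 => (0, 2) | 3 => (1, 2)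
  | 4 => (2, 0) | 5 => (2, 2) | 6 => (0, 1) | _ => (2, 1)

/-- The field multiplication. -/
def fmul (r v : V) : V := (r.1 * v.1 - r.2 * v.2, r.1 * v.2 + r.2 * v.1)

/-- The action of the semidihedral group. -/
def actFun (a : SD) (v : V) : V := fmul (root a.i) (if a.e then (v.1, -v.2) else v)

set_option maxRecDepth 20000 in
theorem actFun_add : ∀ (a : SD) (u v : V), actFun a (u + v) = actFun a u + actFun a v := by
  decide +kernel

set_option maxRecDepth 20000 in
theorem actFun_mul : ∀ (a b : SD) (v : V), actFun (a * b) v = actFun a (actFun b v) := by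
  decide +kernel

set_option maxRecDepth 20000 in
theorem actFun_one : ∀ (v : V), actFun 1 v = v := by decide +kernel

set_option maxRecDepth 20000 in
theorem actFun_faithful : ∀ (a : SD), (∀ v, actFun a v = v) → a = 1 := by decide +kernel

/-- The action on the plane. -/
def act : SD →* MulAut (Multiplicative V) where
  toFun a :=
    { toFun := fun v => Multiplicative.ofAdd (actFun a v.toAdd)
      invFun := fun v => Multiplicative.ofAdd (actFun a⁻¹ v.toAdd)
      left_inv := fun v => by simp [← actFun_mul, actFun_one]
      right_inv := fun v => by simp [← actFun_mul, actFun_one]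
      map_mul' := fun u v => by
        show Multiplicative.ofAdd (actFun a (u.toAdd + v.toAdd)) = _
        rw [actFun_add, ofAdd_add] }
  map_one' := MulEquiv.ext fun v => congrArg Multiplicative.ofAdd (actFun_one v.toAdd)
  map_mul' := fun a b => MulEquiv.ext fun v => congrArg Multiplicative.ofAdd (actFun_mul a b v.toAdd)

/-- The group of affine semilinear maps of the line over the field with nine elements. -/
abbrev GG := Multiplicative V ⋊[act] SD

instance : DecidableEq GG := fun a b => decidable_of_iff (a.left = b.left ∧ a.right = b.right)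
  ⟨fun h => SemidirectProduct.ext h.1 h.2, fun h => by rw [h]; exact ⟨rfl, rfl⟩⟩

instance : Fintype GG := Fintype.ofEquiv _ SemidirectProduct.equivProd.symm

/-- The involution. -/
def tt : GG := SemidirectProduct.inr ⟨0, true⟩

set_option synthInstance.maxSize 4000 in
set_option maxRecDepth 20000 in
theorem classes : ∀ c : GG, ∃ k : GG, (k * c * k⁻¹) * tt = tt * (k * c * k⁻¹) ∨
    (k * c * k⁻¹).left = 1 := by decide +kernel

set_option maxRecDepth 20000 in
theorem tt_facts : tt * tt = 1 ∧ tt ≠ 1 := by decide +kernel


/-- There is a finite solvable group G with a subgroup A of order 2 such that every conjugacy class of G contains an element g for which A is subnormal in the subgroup generated by A and g, and yet A is not contained in O_2(G). (So the corresponding criteria for odd primes fail at the prime 2, even for solvable groups.) -/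
theorem result :
    ∃ (G : Type) (_ : Group G) (_ : Finite G) (A : Subgroup G), Group.IsSolvable G ∧ Nat.card A = 2 ∧
      (∀ c : G, ∃ g : G, IsConj c g ∧ (A.subgroupOf (A ⊔ Subgroup.zpowers g)).IsSubnormal) ∧
      ¬ A ≤ Cfsg.pCore 2 G := by
  classical
  refine ⟨GG, inferInstance, inferInstance, Subgroup.zpowers tt, ?_, ?_, fun c => ?_, ?_⟩
  · have hP : IsPGroup 2 SD := IsPGroup.of_card (n := 4) (by
      rw [Nat.card_eq_fintype_card]
      exact rfl)
    haveI : Group.IsNilpotent SD := hP.isNilpotent
    exact solvable_of_ker_le_range (SemidirectProduct.inl : Multiplicative V →* GG)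
      (SemidirectProduct.rightHom : GG →* SD) SemidirectProduct.range_inl_eq_ker_rightHom.ge
  · rw [Nat.card_zpowers]
    exact orderOf_eq_prime (by rw [sq]; exact tt_facts.1) tt_facts.2
  · obtain ⟨k, hk⟩ := classes c
    refine ⟨k * c * k⁻¹, isConj_iff.2 ⟨k, rfl⟩, ?_⟩
    rcases hk with hk | hk
    · refine (Subgroup.normal_subgroupOf_of_le_normalizer (sup_le Subgroup.le_normalizer ?_)).isSubnormal
      refine le_trans ?_ (Subgroup.centralizer_le_normalizer _)
      rw [Subgroup.zpowers_le]
      refine Subgroup.mem_centralizer_iff.2 fun s hs => ?_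
      obtain ⟨j, rfl⟩ := Subgroup.mem_zpowers_iff.1 hs
      exact ((show Commute tt (k * c * k⁻¹) from hk.symm).zpow_left j).eq
    · set g := k * c * k⁻¹
      have hle : Subgroup.zpowers tt ⊔ Subgroup.zpowers g ≤
          (SemidirectProduct.inr : SD →* GG).range := by
        refine sup_le (Subgroup.zpowers_le.2 ⟨_, rfl⟩) (Subgroup.zpowers_le.2 ⟨g.right, ?_⟩)
        exact SemidirectProduct.ext hk.symm rfl
      have hP : IsPGroup 2 (SemidirectProduct.inr : SD →* GG).range := by
        refine (IsPGroup.of_card (n := 4) ?_ : IsPGroup 2 SD).of_surjective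
          (SemidirectProduct.inr : SD →* GG).rangeRestrict (MonoidHom.rangeRestrict_surjective _)
        rw [Nat.card_eq_fintype_card]
        exact rfl
      haveI : Group.IsNilpotent (Subgroup.zpowers tt ⊔ Subgroup.zpowers g : Subgroup GG) :=
        (hP.to_le hle).isNilpotent
      exact OddLocal.isSubnormal_of_isNilpotent _
  · intro hle
    have hbot : Cfsg.pCore 2 GG = ⊥ := by
      rw [Cfsg.pCore, sSup_eq_bot]
      rintro N ⟨hN, hN2⟩
      rw [eq_bot_iff]
      intro n hn
      rw [Subgroup.mem_bot]
      obtain ⟨i, hi⟩ := hN2 ⟨n, hn⟩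
      have hi' : n ^ 2 ^ i = 1 := congrArg Subtype.val hi
      have hcent : ∀ v : Multiplicative V, act n.right v = v := by
        intro v
        set w : Multiplicative V := (act n.right v) * v⁻¹ with hw
        have hm : (SemidirectProduct.inl w : GG) ∈ N := by
          have h1 := mul_mem hn (hN.conj_mem _ (inv_mem hn) (SemidirectProduct.inl v : GG))
          convert h1 using 1
          refine SemidirectProduct.ext ?_ ?_
          · simp [hw, mul_comm, mul_assoc, mul_left_comm]
            rw [mul_left_comm n.left, mul_inv_cancel_left]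
          · simp
        obtain ⟨j, hj⟩ := hN2 ⟨_, hm⟩
        have hj' : w ^ 2 ^ j = 1 := by
          refine SemidirectProduct.inl_injective (φ := act) ?_
          rw [map_pow, map_one]; exact congrArg Subtype.val hj
        have h3 : w ^ 3 = 1 := by
          have : ∀ w : Multiplicative V, w ^ 3 = 1 := by decide +kernel
          exact this w
        have h9 := orderOf_dvd_of_pow_eq_one hj'
        have h8 := orderOf_dvd_of_pow_eq_one h3
        have : orderOf w = 1 := Nat.dvd_one.1 (by
          have hc : Nat.Coprime 3 (2 ^ j) := Nat.Coprime.pow_right j (by norm_num)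
          rw [← Nat.coprime_iff_gcd_eq_one.1 hc]
          exact Nat.dvd_gcd h8 h9)
        exact mul_inv_eq_one.1 (orderOf_eq_one_iff.1 this)
      have hr : n.right = 1 := actFun_faithful _ fun v => congrArg Multiplicative.toAdd (hcent (Multiplicative.ofAdd v))
      have hl : n = SemidirectProduct.inl n.left := SemidirectProduct.ext rfl hr
      have h3 : n.left ^ 3 = 1 := by
        have : ∀ w : Multiplicative V, w ^ 3 = 1 := by decide +kernel
        exact this _
      have h3' : n ^ 3 = 1 := by rw [hl, ← map_pow, h3, map_one]
      have h9 := orderOf_dvd_of_pow_eq_one hi'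
      have h8 := orderOf_dvd_of_pow_eq_one h3'
      have : orderOf n = 1 := Nat.dvd_one.1 (by
        have hc : Nat.Coprime 3 (2 ^ i) := Nat.Coprime.pow_right i (by norm_num)
        rw [← Nat.coprime_iff_gcd_eq_one.1 hc]
        exact Nat.dvd_gcd h8 h9)
      exact orderOf_eq_one_iff.1 this
    rw [hbot] at hle
    exact tt_facts.2 (Subgroup.mem_bot.1 (hle (Subgroup.mem_zpowers tt)))

end Cfsg.Agent.S4331
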