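import Cfsg.Statements.S4332
import Cfsg.Agent.Lib.FGS.Transpositions

set_option autoImplicit false
open Pointwise
open Cfsg
open scoped Pointwise
set_option linter.all false

namespace Cfsg.Agent.S4332

open Equiv

/-- The three-cycle on three given points. -/
def tri {α : Type*} [DecidableEq α] (x y z : α) : Perm α := swap x y * swap x z

theorem conj_tri {α : Type*} [DecidableEq α] (c : Perm α) (x y z : α) :
    c * tri x y z * c⁻¹ = tri (c x) (c y) (c z) := by
  rw [tri, tri, ← conj_mul, ← swap_apply_apply, ← swap_apply_apply]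

theorem commute_swap {α : Type*} [DecidableEq α] [Fintype α] {a b u v : α} (hau : a ≠ u) (hav : a ≠ v)
    (hbu : b ≠ u) (hbv : b ≠ v) : Commute (swap a b) (swap u v) := by
  refine Perm.Disjoint.commute fun x => ?_
  by_cases h : x = a ∨ x = b
  · right
    rcases h with rfl | rfl
    · exact swap_apply_of_ne_of_ne hau hav
    · exact swap_apply_of_ne_of_ne hbu hbv
  · left
    push Not at h
    exact swap_apply_of_ne_of_ne h.1 h.2

theorem tri_rot {α : Type*} [DecidableEq α] {x y z : α} (hxy : x ≠ y) (hxz : x ≠ z) (hyz : y ≠ z) :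
    tri y z x = tri x y z := by
  ext w
  rcases eq_or_ne w x with rfl | hwx
  · simp [tri, Perm.mul_apply, swap_apply_def, hxy, hxz, hyz, hxy.symm, hxz.symm, hyz.symm]
  rcases eq_or_ne w y with rfl | hwy
  · simp [tri, Perm.mul_apply, swap_apply_def, hxy, hxz, hyz, hxy.symm, hxz.symm, hyz.symm]
  rcases eq_or_ne w z with rfl | hwz
  · simp [tri, Perm.mul_apply, swap_apply_def, hxy, hxz, hyz, hxy.symm, hxz.symm, hyz.symm]
  · simp [tri, Perm.mul_apply, swap_apply_of_ne_of_ne hwy hwz, swap_apply_of_ne_of_ne hwx hwz,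
      swap_apply_of_ne_of_ne hwx hwy, swap_apply_of_ne_of_ne hwy hwx, swap_apply_of_ne_of_ne hwz hwy,
      swap_apply_of_ne_of_ne hwz hwx, hwx, hwy, hwz]

theorem exists_tri (c : Perm (Fin 8)) : ∃ x y z : Fin 8, x ≠ y ∧ x ≠ z ∧ y ≠ z ∧
    Commute (tri x y z) (c * tri x y z * c⁻¹) := by
  classical
  by_cases h3 : ∃ x, c x ≠ x ∧ c (c (c x)) = x
  · obtain ⟨x, hx, hx3⟩ := h3
    have h12 : c x ≠ c (c x) := fun e => hx (c.injective e).symm
    have h02 : x ≠ c (c x) := fun e => by
      have := congrArg c e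
      rw [hx3] at this
      exact hx this
    refine ⟨x, c x, c (c x), fun e => hx e.symm, h02, h12, ?_⟩
    rw [conj_tri, hx3, tri_rot (fun e => hx e.symm) h02 h12]
  push Not at h3
  set M := Finset.univ.filter fun x => c x ≠ x with hM
  by_cases hf : 2 < (Finset.univ.filter fun x => c x = x).card
  · obtain ⟨x, hx, y, hy, z, hz, hxy, hxz, hyz⟩ := Finset.two_lt_card.1 hf
    simp only [Finset.mem_filter, Finset.mem_univ, true_and] at hx hy hz
    refine ⟨x, y, z, hxy, hxz, hyz, ?_⟩
    rw [conj_tri, hx, hy, hz]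
  have hM6 : 6 ≤ M.card := by
    have := Finset.card_filter_add_card_filter_not (s := (Finset.univ : Finset (Fin 8))) (fun x => c x = x)
    rw [Finset.card_univ, Fintype.card_fin] at this
    rw [hM]; simp only [ne_eq] at this ⊢; omega
  have pick : ∀ s : Finset (Fin 8), s.card ≤ 5 → ∃ z ∈ M, z ∉ s := fun s hs =>
    Finset.exists_mem_notMem_of_card_lt_card (by omega)
  obtain ⟨x, y, hxy, hx, hy, hexc⟩ : ∃ x y, x ≠ y ∧ c x ≠ x ∧ c y ≠ y ∧ (c y ≠ x ∧ c x ≠ y ∧
      ({x, y, c x, c y, c.symm x, c.symm y} : Finset (Fin 8)).card ≤ 5) := by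
    by_cases h2 : ∃ x, c x ≠ x ∧ c (c x) = x
    · obtain ⟨x, hx, hx2⟩ := h2
      obtain ⟨y, hy, hyn⟩ := pick {x, c x} (Finset.card_le_two.trans (by norm_num))
      simp only [hM, Finset.mem_filter, Finset.mem_univ, true_and] at hy
      simp only [Finset.mem_insert, Finset.mem_singleton, not_or] at hyn
      refine ⟨x, y, fun e => hyn.1 e.symm, hx, hy, fun e => hyn.2 ?_, fun e => hyn.2 e.symm, ?_⟩
      · refine c.injective ?_
        rw [e, hx2]
      · rw [show c.symm x = c x from c.symm_apply_eq.2 hx2.symm]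
        refine le_trans (Finset.card_le_card ?_) (Finset.card_le_five (a := x) (b := y) (c := c x)
          (d := c y) (e := c.symm y))
        intro w; simp only [Finset.mem_insert, Finset.mem_singleton]; tauto
    · push Not at h2
      obtain ⟨x, hx, -⟩ := pick ∅ (by simp)
      simp only [hM, Finset.mem_filter, Finset.mem_univ, true_and] at hx
      refine ⟨x, c (c x), (h2 x hx).symm, hx, fun e => hx (c.injective (c.injective e)), ?_, ?_, ?_⟩
      · exact h3 x hx
      · exact fun e => hx (c.injective e).symm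
      · rw [c.symm_apply_apply]
        refine le_trans (Finset.card_le_card ?_) (Finset.card_le_five (a := x) (b := c (c x))
          (c := c x) (d := c (c (c x))) (e := c.symm x))
        intro w; simp only [Finset.mem_insert, Finset.mem_singleton]; tauto
  obtain ⟨hyx, hxy', hcard⟩ := hexc
  obtain ⟨z, hz, hzn⟩ := pick _ hcard
  simp only [hM, Finset.mem_filter, Finset.mem_univ, true_and] at hz
  simp only [Finset.mem_insert, Finset.mem_singleton, not_or] at hzn
  obtain ⟨hzx, hzy, hzcx, hzcy, hzsx, hzsy⟩ := hzn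
  refine ⟨x, y, z, hxy, fun e => hzx e.symm, fun e => hzy e.symm, ?_⟩
  have e1 : x ≠ c z := fun e => hzsx (c.symm_apply_eq.2 e).symm
  have e2 : y ≠ c z := fun e => hzsy (c.symm_apply_eq.2 e).symm
  rw [conj_tri, tri, tri]
  exact ((commute_swap hx.symm hyx.symm (fun e => hxy' e.symm) hy.symm).mul_right
    (commute_swap hx.symm e1 (fun e => hxy' e.symm) e2)).mul_left
    ((commute_swap hx.symm hyx.symm hzcx hzcy).mul_right (commute_swap hx.symm e1 hzcx hz.symm))


/-- In the symmetric group of degree 8, let A be the subgroup generated by a 3-cycle. Then every conjugacy class contains an element g for which A is subnormal in the subgroup generated by A and its conjugate by g, although O_3 of the symmetric group of degree 8 is trivial. -/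
theorem result
    (σ : Equiv.Perm (Fin 8)) (hσ : σ.IsThreeCycle) :
    (∀ c : Equiv.Perm (Fin 8), ∃ g : Equiv.Perm (Fin 8), IsConj c g ∧
      ((Subgroup.zpowers σ).subgroupOf (Subgroup.zpowers σ ⊔ MulAut.conj g • Subgroup.zpowers σ)).IsSubnormal) ∧
    Cfsg.pCore 3 (Equiv.Perm (Fin 8)) = ⊥ := by
  classical
  refine ⟨fun c => ?_, ?_⟩
  · obtain ⟨x, y, z, hxy, hxz, hyz, hcm⟩ := exists_tri c
    have h3 : (tri x y z).IsThreeCycle := Equiv.Perm.isThreeCycle_swap_mul_swap_same hxy hxz hyz
    obtain ⟨k, hk⟩ := isConj_iff.1 (Equiv.Perm.isConj_iff_cycleType_eq.2 (h3.trans hσ.symm))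
    refine ⟨k * c * k⁻¹, isConj_iff.2 ⟨k, rfl⟩, ?_⟩
    refine (Subgroup.normal_subgroupOf_of_le_normalizer (sup_le Subgroup.le_normalizer ?_)).isSubnormal
    have hcm' : Commute σ (k * c * k⁻¹ * σ * (k * c * k⁻¹)⁻¹) := by
      have := hcm.map (MulAut.conj k).toMonoidHom
      simp only [MulEquiv.coe_toMonoidHom, MulAut.conj_apply, hk] at this
      rw [← hk]
      rw [show k * c * k⁻¹ * (k * tri x y z * k⁻¹) * (k * c * k⁻¹)⁻¹ =
        k * (c * tri x y z * c⁻¹) * k⁻¹ by group, hk]
      exact this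
    refine le_trans ?_ (Subgroup.centralizer_le_normalizer _)
    intro w hw
    obtain ⟨v, hv, rfl⟩ := (Subgroup.mem_smul_pointwise_iff_exists w _ _).1 hw
    obtain ⟨i, rfl⟩ := Subgroup.mem_zpowers_iff.1 hv
    refine Subgroup.mem_centralizer_iff.2 fun s hs => ?_
    obtain ⟨j, rfl⟩ := Subgroup.mem_zpowers_iff.1 hs
    rw [MulAut.smul_def, MulAut.conj_apply, ← conj_zpow]
    exact (hcm'.zpow_zpow j i).eq
  · refine FGS.Transpos.sSup_eq_bot_of_not_dvd _ (fun N hN => hN.1) fun N hN h => ?_
    obtain ⟨n, hn⟩ := IsPGroup.iff_card.1 hN.2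
    rw [Fintype.card_fin, hn] at h
    have h2 : 2 ∣ 3 ^ n := dvd_trans (by norm_num) h
    have := Nat.Prime.dvd_of_dvd_pow Nat.prime_two h2
    norm_num at this

end Cfsg.Agent.S4332
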