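import Cfsg.Statements.S4334
import Cfsg.Agent.Lib.FGS.WielandtHall

set_option autoImplicit false
open Cfsg
open scoped Pointwise
set_option linter.all false

namespace Cfsg.Agent.S4334

open Subgroup in
open scoped Pointwise in
theorem exists_conj_le {G : Type*} [Group G] [Finite G]
    (σ τ π : Set ℕ) (hπ : π = σ ∪ τ) (hd : Disjoint σ τ) (H Hs Ht : Subgroup G)
    (hH : Cfsg.IsPiHall π H) (hs : Cfsg.IsPiSubgroup σ Hs) (ht : Cfsg.IsPiSubgroup τ Ht)
    (hsn : Group.IsNilpotent Hs) (hjoin : Hs ⊔ Ht = H)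
    (hcomm : ∀ a ∈ Hs, ∀ b ∈ Ht, a * b = b * a) (hD : Cfsg.IsDPiGroup τ G)
    (U : Subgroup G) (hU : Cfsg.IsPiSubgroup π U) : ∃ x : G, MulAut.conj x • U ≤ H := by
  open FGS.ThreeSizes in
  -- membership in the two factors
  have hmem : ∀ r : ℕ, r.Prime → ∀ w ∈ H, PEl r w → (r ∉ τ → w ∈ Hs) ∧ (r ∉ σ → w ∈ Ht) := by
    intro r hr w hw hwr
    haveI := Fact.mk hr
    have hn : Ht ≤ normalizer (Hs : Set G) := fun b hb => mem_normalizer_iff.2 fun a => by
      constructor
      · intro ha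
        rwa [← hcomm a ha b hb, mul_inv_cancel_right]
      · intro ha
        have h1 := hcomm _ ha b hb
        rw [inv_mul_cancel_right] at h1
        exact (mul_left_cancel h1).symm ▸ ha
    obtain ⟨s, hs', t, ht', hst⟩ := (Basics.mem_sup_of_le_normalizer hn).1 (hjoin.symm ▸ hw)
    obtain ⟨k, hk⟩ := hwr
    have hcop : (orderOf s).Coprime (orderOf t) := Nat.coprime_of_dvd fun l hl h1 h2 =>
      Set.disjoint_left.1 hd (hs l hl (h1.trans (Subgroup.orderOf_dvd_natCard _ hs')))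
        (ht l hl (h2.trans (Subgroup.orderOf_dvd_natCard _ ht')))
    have ho := (show Commute s t from hcomm s hs' t ht').orderOf_mul_eq_mul_orderOf_of_coprime hcop
    have hst' : s * t = w := hst.symm
    rw [hst'] at ho
    refine ⟨fun hrt => ?_, fun hrs => ?_⟩
    · have : t = 1 := by
        by_contra h1
        obtain ⟨l, hl, hl'⟩ := Nat.exists_prime_and_dvd (fun h => h1 (orderOf_eq_one_iff.1 h))
        have h2 := (Nat.prime_dvd_prime_iff_eq hl hr).1
          (hl.dvd_of_dvd_pow (hl'.trans ((Dvd.intro_left _ ho.symm).trans hk)))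
        exact hrt (h2 ▸ ht l hl (hl'.trans (Subgroup.orderOf_dvd_natCard _ ht')))
      rw [← hst', this, mul_one]
      exact hs'
    · have : s = 1 := by
        by_contra h1
        obtain ⟨l, hl, hl'⟩ := Nat.exists_prime_and_dvd (fun h => h1 (orderOf_eq_one_iff.1 h))
        have h2 := (Nat.prime_dvd_prime_iff_eq hl hr).1
          (hl.dvd_of_dvd_pow (hl'.trans ((Dvd.intro _ ho.symm).trans hk)))
        exact hrs (h2 ▸ hs l hl (hl'.trans (Subgroup.orderOf_dvd_natCard _ hs')))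
      rw [← hst', this, one_mul]
      exact ht'
  have hτσ : ∀ r, r ∈ σ → r ∉ τ := fun r h1 h2 => Set.disjoint_left.1 hd h1 h2
  have hHs : Hs ≤ H := hjoin ▸ le_sup_left
  have hHt : Ht ≤ H := hjoin ▸ le_sup_right
  have hνH : ∀ r : ℕ, r.Prime → r ∈ π → nu r H = nu r (⊤ : Subgroup G) := by
    intro r hr hrπ
    rw [nu_top, ← nu_add_index (p := r) H, Nat.factorization_eq_zero_of_not_dvd (hH.2 r hr hrπ),
      add_zero]
  have hνs : ∀ r : ℕ, r.Prime → r ∈ σ → nu r Hs = nu r (⊤ : Subgroup G) := by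
    intro r hr hrσ
    haveI := Fact.mk hr
    refine le_antisymm (nu_mono le_top) ?_
    rw [← hνH r hr (hπ ▸ Or.inl hrσ)]
    refine not_lt.1 fun hlt => ?_
    obtain ⟨w, hw, hwr, hwn⟩ := exists_pel_not_mem (H := H) (K := Hs)
      (by rwa [inf_eq_right.2 hHs])
    exact hwn ((hmem r hr w hw hwr).1 (hτσ r hrσ))
  have hνt : ∀ r : ℕ, r.Prime → r ∈ τ → nu r Ht = nu r (⊤ : Subgroup G) := by
    intro r hr hrτ
    haveI := Fact.mk hr
    refine le_antisymm (nu_mono le_top) ?_
    rw [← hνH r hr (hπ ▸ Or.inr hrτ)]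
    refine not_lt.1 fun hlt => ?_
    obtain ⟨w, hw, hwr, hwn⟩ := exists_pel_not_mem (H := H) (K := Ht)
      (by rwa [inf_eq_right.2 hHt])
    exact hwn ((hmem r hr w hw hwr).2 fun h => hτσ r h hrτ)
  have hcs : ∀ p : ℕ, p.Prime → p ∈ σ → ∀ q : ℕ, q.Prime → q ∈ π → q ≠ p →
      FGS.WielandtHall.CommSyl (⊤ : Subgroup G) p q := by
    intro p hp hpσ q hq hqπ hqp
    rcases (hπ ▸ hqπ : q ∈ σ ∪ τ) with hqσ | hqτ
    · exact FGS.WielandtHall.commSyl_of_nilpotent hsn le_top hp hq hqp.symm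
        (hνs p hp hpσ) (hνs q hq hqσ)
    · haveI := Fact.mk hp
      haveI := Fact.mk hq
      obtain ⟨S, hS, -⟩ := exists_sylowIn_ge (p := p) IsPGroup.of_bot (bot_le : ⊥ ≤ Hs)
      obtain ⟨T, hT, -⟩ := exists_sylowIn_ge (p := q) IsPGroup.of_bot (bot_le : ⊥ ≤ Ht)
      exact ⟨S, T, ⟨le_top, by rw [hS.2]; exact congrArg (p ^ ·) (hνs p hp hpσ)⟩,
        ⟨le_top, by rw [hT.2]; exact congrArg (q ^ ·) (hνt q hq hqτ)⟩,
        fun a ha b hb => hcomm a (hS.1 ha) b (hT.1 hb)⟩
  have hUc : ∀ p : ℕ, p.Prime → p ∈ σ → ∀ q : ℕ, q.Prime → q ∣ Nat.card U → q ≠ p →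
      FGS.WielandtHall.CommSyl (⊤ : Subgroup G) p q :=
    fun p hp hpσ q hq hqU hqp => hcs p hp hpσ q hq (hU q hq hqU) hqp
  -- the two parts of `U`
  set V := closure {w : G | w ∈ U ∧ ∃ r : ℕ, r.Prime ∧ r ∈ τ ∧ PEl r w} with hV
  set S := closure {w : G | w ∈ U ∧ ∃ r : ℕ, r.Prime ∧ r ∈ σ ∧ PEl r w} with hS
  have hVU : V ≤ U := (closure_le _).2 fun w hw => hw.1
  have hSU : S ≤ U := (closure_le _).2 fun w hw => hw.1
  have hVτ : Cfsg.IsPiSubgroup τ V := by
    intro p hp hpV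
    rcases (hπ ▸ hU p hp (hpV.trans (card_dvd_of_le hVU)) : p ∈ σ ∪ τ) with hpσ | hpτ
    · exfalso
      haveI := Fact.mk hp
      have hK : V ≤ (Cfsg.pResidual p U).map U.subtype := by
        refine (closure_le _).2 ?_
        rintro w ⟨hw, r, hr, hrτ, hwr⟩
        haveI := Fact.mk hr
        refine ⟨⟨w, hw⟩, Transfer.mem_pResidual_of_coprime ?_, rfl⟩
        rw [orderOf_mk]
        exact hwr.coprime hp fun e => hτσ p hpσ (e ▸ hrτ)
      have h1 := hpV.trans (card_dvd_of_le hK)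
      rw [card_map_of_injective U.subtype_injective] at h1
      exact Transfer.hasNormalPComplement_iff.1
        (FGS.WielandtHall.complement_in le_top (hUc p hp hpσ)) h1
    · exact hpτ
  have hSV : S ≤ centralizer (V : Set G) := by
    refine (closure_le _).2 ?_
    rintro a ⟨ha, p, hp, hpσ, hap⟩
    haveI := Fact.mk hp
    have h1 : V ≤ cz a := by
      refine (closure_le _).2 ?_
      rintro w ⟨hw, r, hr, hrτ, hwr⟩
      haveI := Fact.mk hr
      exact mem_cz.2 (FGS.WielandtHall.commute_in le_top (hUc p hp hpσ) ha hw hap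
        (hwr.coprime hp fun e => hτσ p hpσ (e ▸ hrτ))).symm
    exact mem_centralizer_iff.2 fun w hw => (mem_cz.1 (h1 hw)).eq
  have hSσ : Cfsg.IsPiSubgroup σ S := by
    intro q hq hqS
    rcases (hπ ▸ hU q hq (hqS.trans (card_dvd_of_le hSU)) : q ∈ σ ∪ τ) with hqσ | hqτ
    · exact hqσ
    · exfalso
      haveI := Fact.mk hq
      have hnc : Cfsg.HasNormalPComplement q S := by
        refine Transfer.hasNormalPComplement_of_frobenius fun D hD g _ _ => ?_
        refine mem_centralizer_iff.2 fun d hd => Subtype.ext ?_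
        have hdV : (d : G) ∈ V := subset_closure ⟨hSU d.2, q, hq, hqτ, by
          obtain ⟨k, hk⟩ := pel_of_mem hD hd
          exact ⟨k, by rwa [orderOf_coe]⟩⟩
        exact (mem_centralizer_iff.1 (hSV g.2) (d : G) hdV)
      have htop : Cfsg.pResidual q S = ⊤ := by
        refine map_injective S.subtype_injective ?_
        rw [← MonoidHom.range_eq_map, range_subtype]
        refine le_antisymm (map_subtype_le _) ((closure_le _).2 ?_)
        rintro w ⟨hw, r, hr, hrσ, hwr⟩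
        haveI := Fact.mk hr
        refine ⟨⟨w, subset_closure ⟨hw, r, hr, hrσ, hwr⟩⟩,
          Transfer.mem_pResidual_of_coprime ?_, rfl⟩
        rw [orderOf_mk]
        exact hwr.coprime hq fun e => hτσ r hrσ (e ▸ hqτ)
      have h1 := Transfer.hasNormalPComplement_iff.1 hnc
      rw [htop, card_top] at h1
      exact h1 hqS
  have hUVS : U ≤ V ⊔ S := le_of_pel fun r hr w hw hwr => by
    by_cases h1 : w = 1
    · rw [h1]; exact one_mem _
    have hrd : r ∣ Nat.card U := by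
      obtain ⟨k, hk⟩ := hwr
      obtain ⟨j, -, hj⟩ := (Nat.dvd_prime_pow hr).1 hk
      have hj0 : j ≠ 0 := fun h0 => h1 (orderOf_eq_one_iff.1 (by rw [hj, h0, pow_zero]))
      exact (hj ▸ dvd_pow_self r hj0).trans (Subgroup.orderOf_dvd_natCard _ hw)
    rcases (hπ ▸ hU r hr hrd : r ∈ σ ∪ τ) with h2 | h2
    · exact mem_sup_right (subset_closure ⟨hw, r, hr, h2, hwr⟩)
    · exact mem_sup_left (subset_closure ⟨hw, r, hr, h2, hwr⟩)
  -- conjugate
  obtain ⟨A, hVA, hA⟩ := Finite.exists_le_maximal (p := Cfsg.IsPiSubgroup τ) hVτ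
  obtain ⟨B, hTB, hB⟩ := Finite.exists_le_maximal (p := Cfsg.IsPiSubgroup τ) ht
  obtain ⟨x, hx⟩ := hD A B hA hB
  have hBT : B ≤ Ht := le_of_pel fun r hr w hw hwr => by
    by_cases h1 : w = 1
    · rw [h1]; exact one_mem _
    haveI := Fact.mk hr
    have hrd : r ∣ Nat.card B := by
      obtain ⟨k, hk⟩ := hwr
      obtain ⟨j, -, hj⟩ := (Nat.dvd_prime_pow hr).1 hk
      have hj0 : j ≠ 0 := fun h0 => h1 (orderOf_eq_one_iff.1 (by rw [hj, h0, pow_zero]))
      exact (hj ▸ dvd_pow_self r hj0).trans (Subgroup.orderOf_dvd_natCard _ hw)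
    by_contra hwT
    have hBT' : Ht = B := by
      refine Subgroup.eq_of_le_of_card_ge hTB (le_of_eq ?_)
      refine Nat.eq_of_factorization_eq Nat.card_pos.ne' Nat.card_pos.ne' fun l => ?_
      by_cases hl : l.Prime ∧ l ∣ Nat.card B
      · exact le_antisymm ((nu_mono le_top).trans_eq (hνt l hl.1 (hB.prop l hl.1 hl.2)).symm)
          (nu_mono hTB)
      · rw [Nat.factorization_eq_zero_iff .. |>.2, Nat.factorization_eq_zero_iff .. |>.2]
        · by_cases hl1 : l.Prime
          · exact Or.inr (Or.inl fun h => hl ⟨hl1, h.trans (card_dvd_of_le hTB)⟩)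
          · exact Or.inl hl1
        · by_cases hl1 : l.Prime
          · exact Or.inr (Or.inl fun h => hl ⟨hl1, h⟩)
          · exact Or.inl hl1
    exact hwT (hBT' ▸ hw)
  have hxV : MulAut.conj x • V ≤ Ht :=
    (pointwise_smul_le_pointwise_smul_iff.2 hVA).trans ((show MulAut.conj x • A = B from hx.symm).le.trans hBT)
  obtain ⟨y, hy, hyS⟩ := FGS.WielandtHall.exists_conj_le _
    (centralizer ((MulAut.conj x • V : Subgroup G) : Set G)) Hs (MulAut.conj x • S) rfl
    (fun a ha => mem_centralizer_iff.2 fun b hb => by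
      rw [SetLike.mem_coe, Basics.mem_conj_smul] at hb
      rw [Basics.mem_conj_smul] at ha
      have h1 := commute_conj x (show Commute _ _ from mem_centralizer_iff.1 (hSV ha) _ hb)
      rwa [show x * (x⁻¹ * b * x) * x⁻¹ = b by group,
        show x * (x⁻¹ * a * x) * x⁻¹ = a by group] at h1)
    (fun a ha => mem_centralizer_iff.2 fun b hb => (hcomm a ha b (hxV hb)).symm) hsn
    fun p hp hpS => by
      rw [Basics.card_conj_smul] at hpS
      refine le_antisymm ?_ ?_
      · exact nu_mono fun a ha => mem_centralizer_iff.2 fun b hb => (hcomm a ha b (hxV hb)).symm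
      · exact (nu_mono le_top).trans_eq (hνs p hp (hSσ p hp hpS)).symm
  refine ⟨y * x, ?_⟩
  rw [← Basics.conj_smul_conj_smul]
  refine (pointwise_smul_le_pointwise_smul_iff.2
    (pointwise_smul_le_pointwise_smul_iff.2 hUVS)).trans ?_
  rw [Subgroup.smul_sup, Subgroup.smul_sup]
  refine sup_le ?_ (hyS.trans hHs)
  intro a ha
  rw [Basics.mem_conj_smul] at ha
  have h1 := mem_centralizer_iff.1 hy _ ha
  have h2 : y⁻¹ * a * y = a := mul_right_cancel (h1.trans (by group))
  exact hHt (hxV (h2 ▸ ha))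


/-- Let σ and τ be disjoint sets of primes with union π. Suppose a finite group G has a Hall π-subgroup H which is the direct product of a nilpotent σ-subgroup and a τ-subgroup (two elementwise-commuting subgroups generating H), and that the maximal τ-subgroups of G are pairwise conjugate. Then the maximal π-subgroups of G are pairwise conjugate. -/
theorem result {G : Type*} [Group G] [Finite G]
    (σ τ π : Set ℕ) (hπ : π = σ ∪ τ) (hd : Disjoint σ τ) (H Hs Ht : Subgroup G) (hH : Cfsg.IsPiHall π H)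
    (hs : Cfsg.IsPiSubgroup σ Hs) (ht : Cfsg.IsPiSubgroup τ Ht) (hsn : Group.IsNilpotent Hs)
    (hjoin : Hs ⊔ Ht = H) (hcomm : ∀ a ∈ Hs, ∀ b ∈ Ht, a * b = b * a) (hD : Cfsg.IsDPiGroup τ G) :
    Cfsg.IsDPiGroup π G := by
  intro A B hA hB
  have hHπ : Cfsg.IsPiSubgroup π H := hH.1
  have key : ∀ U : Subgroup G, Maximal (Cfsg.IsPiSubgroup π) U →
      ∃ x : G, U.map (MulAut.conj x).toMonoidHom = H := by
    intro U hU
    obtain ⟨x, hx⟩ := exists_conj_le σ τ π hπ hd H Hs Ht hH hs ht hsn hjoin hcomm hD U hU.prop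
    refine ⟨x, le_antisymm hx ?_⟩
    have h1 : U ≤ H.map (MulAut.conj x⁻¹).toMonoidHom := fun u hu => by
      refine ⟨x * u * x⁻¹, hx ⟨u, hu, rfl⟩, ?_⟩
      simp [mul_assoc]
    have h2 : Cfsg.IsPiSubgroup π (H.map (MulAut.conj x⁻¹).toMonoidHom) := fun p hp hd' => by
      rw [Subgroup.card_map_of_injective (MulAut.conj x⁻¹).injective] at hd'
      exact hHπ p hp hd'
    have h3 := hU.2 h2 h1
    intro a ha
    exact ⟨x⁻¹ * a * x, h3 ⟨a, ha, by simp⟩, by simp [mul_assoc]⟩
  obtain ⟨x, hx⟩ := key A hA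
  obtain ⟨y, hy⟩ := key B hB
  refine ⟨y⁻¹ * x, ?_⟩
  have h4 : A.map (MulAut.conj (y⁻¹ * x)).toMonoidHom = H.map (MulAut.conj y⁻¹).toMonoidHom := by
    rw [← hx, Subgroup.map_map]
    congr 1
    ext u
    simp [mul_assoc]
  rw [h4, ← hy, Subgroup.map_map]
  refine (Subgroup.map_id B).symm.trans ?_
  congr 1
  ext u
  simp [mul_assoc]

end Cfsg.Agent.S4334
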