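import Cfsg.Statements.S4337
import Cfsg.Agent.Lib.FGS.Transpositions
import Cfsg.Agent.Lib.Zassenhaus.Nonsolvable

set_option autoImplicit false
open Cfsg
open scoped Pointwise
set_option linter.all false

namespace Cfsg.Agent.S4337

/-- In a finite symmetric group, any three transpositions generate a solvable subgroup. -/
theorem result (n : ℕ) (a b c : Equiv.Perm (Fin n))
    (ha : a.IsSwap) (hb : b.IsSwap) (hc : c.IsSwap) :
    Group.IsSolvable (Subgroup.closure ({a, b, c} : Set (Equiv.Perm (Fin n)))) := by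
  classical
  obtain ⟨L, hL, hc⟩ := FGS.Transpos.exists_label 3 ![a, b, c] (by
    intro i; fin_cases i <;> assumption)
  set H := Subgroup.closure ({a, b, c} : Set (Equiv.Perm (Fin n))) with hH
  have hle : H ≤ FGS.Transpos.labelStab L := by
    refine le_trans (Subgroup.closure_mono ?_) (FGS.Transpos.closure_le_labelStab ![a, b, c] L hL)
    rintro x (rfl | rfl | rfl)
    · exact ⟨0, rfl⟩
    · exact ⟨1, rfl⟩
    · exact ⟨2, rfl⟩
  obtain ⟨k, hk⟩ := (isSolvable_def _).1 Zassenhaus.perm_fin_four_isSolvable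
  refine (isSolvable_def _).2 ⟨k, ?_⟩
  rw [eq_bot_iff]
  intro f hf
  rw [Subgroup.mem_bot]
  refine Subtype.ext (Equiv.ext fun x => ?_)
  let ρ : H →* Equiv.Perm {y : Fin n // L y = L x} :=
    { toFun := fun f => f.1.subtypePerm (fun y => by rw [hle f.2 y])
      map_one' := rfl
      map_mul' := fun _ _ => rfl }
  obtain ⟨ι⟩ : Nonempty ({y : Fin n // L y = L x} ↪ Fin 4) := by
    rw [Function.Embedding.nonempty_iff_card_le, Fintype.card_fin]
    exact FGS.Transpos.fiber_le L 3 hc _
  have h1 := map_derivedSeries_le_derivedSeries ((Equiv.Perm.viaEmbeddingHom ι).comp ρ) k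
    ⟨f, hf, rfl⟩
  rw [hk, Subgroup.mem_bot, MonoidHom.comp_apply] at h1
  have h2 : ρ f = 1 := Equiv.Perm.viaEmbeddingHom_injective ι (h1.trans (map_one _).symm)
  exact congrArg (fun (e : Equiv.Perm {y : Fin n // L y = L x}) => (e ⟨x, rfl⟩ : Fin n)) h2

end Cfsg.Agent.S4337
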