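import Cfsg.Statements.S4343
import Cfsg.Statements.S4343
import Mathlib

set_option autoImplicit false
open Cfsg
open scoped Pointwise
set_option linter.all false

namespace Cfsg.Agent.S4343

open scoped Pointwise

private theorem relIndex_inf {S : Type*} [Group S] [Finite S] (p : ℕ) [Fact p.Prime]
    (hn : Nat.card (Sylow p S) < p ^ 2) (P Q : Sylow p S) (h : Q ≠ P) :
    ((P : Subgroup S) ⊓ Q).relIndex P = p := by
  have hstab : MulAction.stabilizer (P : Subgroup S) Q
      = ((P : Subgroup S) ⊓ Q).subgroupOf P := by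
    ext x
    have h1 := P.isPGroup'.inf_normalizer_sylow Q
    rw [MulAction.mem_stabilizer_iff, Subgroup.mem_subgroupOf, ← h1, Subgroup.mem_inf]
    exact ⟨fun hx => ⟨x.2, Sylow.smul_eq_iff_mem_normalizer.1 hx⟩,
      fun hx => Sylow.smul_eq_iff_mem_normalizer.2 hx.2⟩
  have hi := MulAction.index_stabilizer (P : Subgroup S) Q
  rw [hstab] at hi
  have hle : ((MulAction.orbit (P : Subgroup S) Q)).ncard ≤ Nat.card (Sylow p S) := by
    rw [← Nat.card_coe_set_eq]
    exact Nat.card_le_card_of_injective _ Subtype.val_injective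
  obtain ⟨k, hk⟩ := P.isPGroup'.index (((P : Subgroup S) ⊓ Q).subgroupOf P)
  show (((P : Subgroup S) ⊓ Q).subgroupOf P).index = p
  have hp := (Fact.out : p.Prime)
  have hlt : p ^ k < p ^ 2 := by rw [← hk, hi]; exact lt_of_le_of_lt hle hn
  have hk2 : k < 2 := (Nat.pow_lt_pow_iff_right hp.one_lt).1 hlt
  rcases Nat.lt_or_ge k 1 with hk0 | hk1
  · exfalso
    have hk0' : k = 0 := by omega
    rw [hk0', pow_zero, Subgroup.index_eq_one, Subgroup.subgroupOf_eq_top] at hk
    have h2 : (P : Subgroup S) ≤ Q := le_trans hk inf_le_right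
    exact h (Sylow.ext (P.is_maximal' Q.isPGroup' h2))
  · have : k = 1 := by omega
    rw [hk, this, pow_one]

private theorem normal_inf {S : Type*} [Group S] [Finite S] (p : ℕ) [Fact p.Prime]
    (hn : Nat.card (Sylow p S) < p ^ 2) (P Q : Sylow p S) (h : Q ≠ P) :
    (P : Subgroup S) ≤ Subgroup.normalizer (((P : Subgroup S) ⊓ Q : Subgroup S) : Set S) := by
  haveI : (((P : Subgroup S) ⊓ Q).subgroupOf P).Normal := by
    apply Subgroup.normal_of_index_eq_minFac_card
    rw [show (((P : Subgroup S) ⊓ Q).subgroupOf P).index = p from relIndex_inf p hn P Q h]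
    obtain ⟨k, hk⟩ := IsPGroup.iff_card.1 P.isPGroup'
    have hk0 : k ≠ 0 := by
      intro hk0
      have h1 := relIndex_inf p hn P Q h
      have h2 : (P : Subgroup S) = ⊥ :=
        Subgroup.card_eq_one.1 (by rw [hk, hk0, pow_zero])
      rw [h2, Subgroup.relIndex_bot_right] at h1
      exact (Fact.out : p.Prime).one_lt.ne h1
    rw [hk, Nat.pow_minFac hk0, (Fact.out : p.Prime).minFac_eq]
  exact Subgroup.le_normalizer_of_normal_subgroupOf inf_le_left

private theorem conj_smul_eq {S : Type*} [Group S] (H : Subgroup S) (x : S)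
    (hx : x ∈ Subgroup.normalizer (H : Set S)) : MulAut.conj x • H = H := by
  ext y
  rw [Subgroup.mem_pointwise_smul_iff_inv_smul_mem, Subgroup.mem_normalizer_iff.1 hx ((MulAut.conj x)⁻¹ • y)]
  simp [MulAut.smul_def, mul_assoc]

private theorem inf_sylow_unique {S : Type*} [Group S] [Finite S] (p : ℕ) [Fact p.Prime]
    (hn : Nat.card (Sylow p S) < p ^ 2) (P Q R : Sylow p S) (hQ : Q ≠ P) (hR : R ≠ P) :
    (P : Subgroup S) ⊓ Q = (P : Subgroup S) ⊓ R := by
  by_contra hne
  have hQR : R ≠ Q := fun e => hne (by rw [e])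
  have hp := (Fact.out : p.Prime)
  have card_eq : ∀ A B : Sylow p S, B ≠ A →
      Nat.card ↥((A : Subgroup S) ⊓ B) * p = Nat.card (P : Subgroup S) := by
    intro A B hBA
    have h1 := Subgroup.relIndex_mul_relIndex ⊥ ((A : Subgroup S) ⊓ B) A bot_le inf_le_left
    rw [Subgroup.relIndex_bot_left, Subgroup.relIndex_bot_left, relIndex_inf p hn A B hBA] at h1
    rw [h1, Sylow.card_eq_multiplicity, Sylow.card_eq_multiplicity]
  have hsub : (Q : Subgroup S) ⊓ R ≤ (P : Subgroup S) := by
    intro x hx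
    have hx1 : x ∈ Subgroup.normalizer (((P : Subgroup S) ⊓ Q : Subgroup S) : Set S) := by
      rw [inf_comm]
      exact normal_inf p hn Q P hQ.symm hx.1
    have hx2 : x ∈ Subgroup.normalizer (((P : Subgroup S) ⊓ R : Subgroup S) : Set S) := by
      rw [inf_comm]
      exact normal_inf p hn R P hR.symm hx.2
    set D1 := (P : Subgroup S) ⊓ Q with hD1
    set D2 := (P : Subgroup S) ⊓ R with hD2
    have hjoin : D1 ⊔ D2 = (P : Subgroup S) := by
      have hle : D1 ⊔ D2 ≤ (P : Subgroup S) := sup_le inf_le_left inf_le_left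
      have h1 := Subgroup.relIndex_mul_relIndex D1 (D1 ⊔ D2) P le_sup_left hle
      rw [relIndex_inf p hn P Q hQ] at h1
      rcases (Nat.Prime.eq_one_or_self_of_dvd hp _ ⟨_, h1.symm⟩) with h2 | h2
      · exfalso
        have h3 : D2 ≤ D1 := le_trans le_sup_right (Subgroup.relIndex_eq_one.1 h2)
        apply hne
        refine (Subgroup.eq_of_le_of_card_ge h3 ?_).symm
        have a1 := card_eq P Q hQ
        have a2 := card_eq P R hR
        exact (Nat.eq_of_mul_eq_mul_right hp.pos (a1.trans a2.symm)).le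
      · rw [h2] at h1
        have h4 : (D1 ⊔ D2).relIndex P = 1 :=
          Nat.eq_of_mul_eq_mul_left hp.pos (by rw [h1, mul_one])
        exact le_antisymm hle (Subgroup.relIndex_eq_one.1 h4)
    have hxN : x ∈ Subgroup.normalizer ((P : Subgroup S) : Set S) := by
      have e1 : MulAut.conj x • D1 = D1 := conj_smul_eq _ _ hx1
      have e2 : MulAut.conj x • D2 = D2 := conj_smul_eq _ _ hx2
      have e3 : MulAut.conj x • (P : Subgroup S) = P := by
        rw [← hjoin, Subgroup.smul_sup, e1, e2]
      have e4 : x • P = P := Sylow.ext e3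
      exact Sylow.smul_eq_iff_mem_normalizer.1 e4
    exact ((Q.isPGroup'.inf_normalizer_sylow P).le ⟨hx.1, hxN⟩).2
  apply hne
  have c1 := card_eq Q R hQR
  have c2 := card_eq P Q hQ
  have c3 := card_eq P R hR
  have e1 : (Q : Subgroup S) ⊓ R = (P : Subgroup S) ⊓ Q :=
    Subgroup.eq_of_le_of_card_ge (le_inf hsub inf_le_left)
      (Nat.eq_of_mul_eq_mul_right hp.pos (c2.trans c1.symm)).le
  have e2 : (Q : Subgroup S) ⊓ R = (P : Subgroup S) ⊓ R :=
    Subgroup.eq_of_le_of_card_ge (le_inf hsub inf_le_right)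
      (Nat.eq_of_mul_eq_mul_right hp.pos (c3.trans c1.symm)).le
  exact e1.symm.trans e2


/-- Let S be a finite non-abelian simple group and p a prime dividing its order. If S has fewer than p² Sylow p-subgroups, then its Sylow p-subgroups have order p. -/
theorem result {S : Type*} [Group S] [Finite S]
    [IsSimpleGroup S] (hS : ¬ IsMulCommutative S) (p : ℕ) [Fact p.Prime] (hp : p ∣ Nat.card S)
    (hn : Nat.card (Sylow p S) < p ^ 2) (P : Sylow p S) : Nat.card P = p := by
  have hpp := (Fact.out : p.Prime)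
  have hPbot : (P : Subgroup S) ≠ ⊥ := P.ne_bot_of_dvd_card hp
  have hPtop : (P : Subgroup S) ≠ ⊤ := by
    intro htop
    have hS' : IsPGroup p S := IsPGroup.of_equiv (htop ▸ P.isPGroup') Subgroup.topEquiv
    have hc := hS'.center_nontrivial
    rcases (Subgroup.center S).normal_of_characteristic.eq_bot_or_eq_top with h | h
    · exact (Subgroup.nontrivial_iff_ne_bot _).1 hc h
    · exact hS ⟨⟨fun a b => (Subgroup.mem_center_iff.1 (h ▸ Subgroup.mem_top a : a ∈ Subgroup.center S) b).symm⟩⟩
  obtain ⟨Q, hQ⟩ : ∃ Q : Sylow p S, Q ≠ P := by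
    by_contra hall
    push Not at hall
    haveI : Subsingleton (Sylow p S) := ⟨fun a b => (hall a).trans (hall b).symm⟩
    rcases (P.normal_of_subsingleton).eq_bot_or_eq_top with h | h
    · exact hPbot h
    · exact hPtop h
  set D := (P : Subgroup S) ⊓ Q with hD
  have hDcore : D ≤ (P : Subgroup S).normalCore := by
    intro d hd b
    by_cases hb : b⁻¹ • P = P
    · have h1 : b⁻¹ ∈ Subgroup.normalizer ((P : Subgroup S) : Set S) :=
        Sylow.smul_eq_iff_mem_normalizer.1 hb
      exact (Subgroup.mem_normalizer_iff.1 (inv_mem_iff.1 h1) d).1 hd.1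
    · have h2 : d ∈ ((b⁻¹ • P : Sylow p S) : Subgroup S) := by
        have := hd
        rw [hD, inf_sylow_unique p hn P Q (b⁻¹ • P) hQ hb] at this
        exact this.2
      rw [Sylow.coe_subgroup_smul, Subgroup.mem_pointwise_smul_iff_inv_smul_mem] at h2
      simpa [MulAut.smul_def] using h2
  have hDbot : D = ⊥ := by
    rcases (P : Subgroup S).normalCore_normal.eq_bot_or_eq_top with h | h
    · exact le_bot_iff.1 (h ▸ hDcore)
    · exact absurd (top_le_iff.1 (h ▸ Subgroup.normalCore_le _)) hPtop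
  have := relIndex_inf p hn P Q hQ
  rw [← hD, hDbot, Subgroup.relIndex_bot_left] at this
  exact this

end Cfsg.Agent.S4343
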