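import Cfsg.Statements.S4344
-- import your own Cfsg.Agent.* helpers here

set_option autoImplicit false
open Cfsg
open scoped Pointwise
set_option linter.all false

namespace Cfsg.Agent.S4344

lemma eq_of_card_eq_cyclic {C : Type*} [Group C] [Finite C] [IsCyclic C] (A B : Subgroup C)
    (h : Nat.card A = Nat.card B) : A = B := by
  classical
  haveI := Fintype.ofFinite C
  have key : ∀ A : Subgroup C, (Finset.univ.filter fun x : C => x ∈ A) = Finset.univ.filter fun x : C => x ^ Nat.card A = 1 := by
    intro A
    refine Finset.eq_of_subset_of_card_le (fun x hx => ?_) ?_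
    · simp only [Finset.mem_filter, Finset.mem_univ, true_and] at hx ⊢
      exact congrArg Subtype.val (pow_card_eq_one' (x := (⟨x, hx⟩ : A)))
    · refine (IsCyclic.card_pow_eq_one_le Nat.card_pos).trans (le_of_eq ?_)
      rw [Nat.card_eq_fintype_card, ← Fintype.card_subtype]
  ext x
  have hA := Finset.ext_iff.mp (key A) x
  have hB := Finset.ext_iff.mp (key B) x
  simp only [Finset.mem_filter, Finset.mem_univ, true_and] at hA hB
  rw [hA, hB, h]


/-- Let S be a finite non-abelian simple group, M a maximal subgroup of S and C a cyclic normal subgroup of M. If a Sylow p-subgroup P of S (for a prime p dividing the order of S) is contained in C, then the number of Sylow p-subgroups of S equals the index of M. -/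
theorem result {S : Type*} [Group S] [Finite S]
    [IsSimpleGroup S] (hS : ¬ IsMulCommutative S) (p : ℕ) [Fact p.Prime] (hp : p ∣ Nat.card S)
    (M : Subgroup S) (hM : IsCoatom M) (C : Subgroup S) (hCM : C ≤ M) (hCn : (C.subgroupOf M).Normal)
    (hC : IsCyclic C) (P : Sylow p S) (hP : (P : Subgroup S) ≤ C) :
    Nat.card (Sylow p S) = M.index := by
  have hP1 : (P : Subgroup S) ≠ ⊥ := P.ne_bot_of_dvd_card hp
  have hPn : ¬ (P : Subgroup S).Normal := by
    intro hn
    rcases hn.eq_bot_or_eq_top with h | h
    · exact hP1 h
    · haveI : Group.IsNilpotent S := by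
        have := P.isPGroup'.of_equiv ((MulEquiv.subgroupCongr h).trans Subgroup.topEquiv)
        exact this.isNilpotent
      exact hS (IsCyclic.commutative (α := S))
  have hle : M ≤ Subgroup.normalizer (P : Set S) := by
    intro m hm
    rw [← Sylow.smul_eq_iff_mem_normalizer]
    refine Sylow.ext ?_
    rw [Sylow.coe_subgroup_smul]
    have hle' : MulAut.conj m • (P : Subgroup S) ≤ C := by
      intro y hy
      rw [Subgroup.mem_pointwise_smul_iff_inv_smul_mem] at hy
      have hc := hP hy
      simp only [← map_inv, MulAut.smul_def, MulAut.conj_apply, inv_inv] at hc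
      have := hCn.conj_mem (⟨_, hCM hc⟩ : M) (Subgroup.mem_subgroupOf.mpr hc) ⟨m, hm⟩
      rw [Subgroup.mem_subgroupOf] at this
      simpa [mul_assoc] using this
    have e := eq_of_card_eq_cyclic ((MulAut.conj m • (P : Subgroup S)).subgroupOf C) ((P : Subgroup S).subgroupOf C) ?_
    · rwa [Subgroup.subgroupOf_inj, inf_eq_left.mpr hle', inf_eq_left.mpr hP] at e
    · rw [Nat.card_congr (Subgroup.subgroupOfEquivOfLe hle').toEquiv, Nat.card_congr (Subgroup.subgroupOfEquivOfLe hP).toEquiv]
      exact (Nat.card_congr (Subgroup.equivSMul (MulAut.conj m) (P : Subgroup S)).toEquiv).symm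
  have hne : Subgroup.normalizer (P : Set S) ≠ ⊤ := fun h => hPn (Subgroup.normalizer_eq_top_iff.mp h)
  have hNM : Subgroup.normalizer (P : Set S) = M := by
    rcases eq_or_lt_of_le hle with h | h
    · exact h.symm
    · exact absurd (hM.2 _ h) hne
  rw [P.card_eq_index_normalizer, hNM]

end Cfsg.Agent.S4344
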