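import Cfsg.Statements.S4345
import Mathlib
import Cfsg.Agent.Lib.FGS.SylowNumber

set_option autoImplicit false
open Cfsg
open scoped Pointwise
set_option linter.all false

namespace Cfsg.Agent.S4345

/-- Let G be a finite solvable group and p, ℓ primes. Then the largest power of ℓ dividing the number of Sylow p-subgroups of G is congruent to 1 modulo p. -/
theorem result {G : Type*} [Group G] [Finite G]
    (hG : Group.IsSolvable G) (p ℓ : ℕ) [Fact p.Prime] (hℓ : ℓ.Prime) :
    ℓ ^ (Nat.card (Sylow p G)).factorization ℓ ≡ 1 [MOD p] := by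
  have key := FGS.SylowNumber.induction_on_sylow_number p
    (fun H _ => Group.IsSolvable H) (fun H _ _ K h => by haveI := h; infer_instance)
    (fun H _ _ K _ h => by
      haveI := h
      exact solvable_of_surjective (QuotientGroup.mk'_surjective K))
    (fun n => n ≠ 0 ∧ ℓ ^ n.factorization ℓ ≡ 1 [MOD p])
    ⟨one_ne_zero, by simp [Nat.ModEq.refl]⟩ ?_ ?_ ?_ _ G rfl hG
  · exact key.2
  · rintro a b ⟨ha, ha'⟩ ⟨hb, hb'⟩
    refine ⟨mul_ne_zero ha hb, ?_⟩
    rw [Nat.factorization_mul ha hb, Finsupp.add_apply, pow_add]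
    simpa using ha'.mul hb'
  · intro q e hq hmod
    refine ⟨pow_ne_zero e hq.ne_zero, ?_⟩
    rw [hq.factorization_pow]
    by_cases h : q = ℓ
    · subst h; simpa using hmod
    · rw [Finsupp.single_eq_of_ne (Ne.symm h), pow_zero]
  · intro S _ _ hS hsimp
    haveI := hS
    haveI := hsimp
    obtain ⟨P⟩ : Nonempty (Sylow p S) := inferInstance
    have hc : ∀ a b : S, a * b = b * a := fun a b =>
      (IsSimpleGroup.comm_iff_isSolvable.2 hS) a b
    have h1 : Nat.card (Sylow p S) = 1 := by
      rw [Sylow.card_eq_index_normalizer P, Subgroup.index_eq_one]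
      show Subgroup.normalizer ((P : Subgroup S) : Set S) = ⊤
      rw [Subgroup.normalizer_eq_top_iff]
      exact ⟨fun n hn g => by rwa [hc g n, mul_inv_cancel_right]⟩
    rw [h1]
    exact ⟨one_ne_zero, by simp [Nat.ModEq.refl]⟩

end Cfsg.Agent.S4345
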