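import Cfsg.Statements.S4346
import Mathlib
import Cfsg.Agent.S4303
import Cfsg.Agent.Lib.FGS.SylowThree

set_option autoImplicit false
open Cfsg
open scoped Pointwise
set_option linter.all false

namespace Cfsg.Agent.S4346

/-- No finite group has exactly 22 Sylow 3-subgroups. -/
theorem result {G : Type*} [Group G] [Finite G] : Nat.card (Sylow 3 G) ≠ 22 := by
  intro h22
  obtain ⟨l, hl, hm⟩ := S4303.result (G := G) 3
  rw [h22] at hl
  obtain ⟨m, hml, h2⟩ := (Nat.prime_two.prime.dvd_prod_iff).1 (hl ▸ (by norm_num : (2 : ℕ) ∣ 22))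
  have hdvd : m ∣ 22 := hl ▸ List.dvd_prod hml
  have hdiv : m = 2 ∨ m = 22 := by
    have key : ∀ m ∈ (22 : ℕ).divisors, 2 ∣ m → m = 2 ∨ m = 22 := by decide
    exact key m (Nat.mem_divisors.2 ⟨hdvd, by norm_num⟩) h2
  rcases hm m hml with ⟨hp, h1⟩ | ⟨S, i1, i2, i3, hS⟩
  · rcases hdiv with rfl | rfl
    · norm_num at h1
    · obtain ⟨p, k, hp', hk, he⟩ := hp
      have hpp : p.Prime := Nat.prime_iff.2 hp'
      have e2 := (Nat.prime_dvd_prime_iff_eq Nat.prime_two hpp).1
        (Nat.prime_two.dvd_of_dvd_pow (he ▸ (by norm_num : (2 : ℕ) ∣ 22)))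
      have e11 := (Nat.prime_dvd_prime_iff_eq (by norm_num : Nat.Prime 11) hpp).1
        ((by norm_num : Nat.Prime 11).dvd_of_dvd_pow (he ▸ (by norm_num : (11 : ℕ) ∣ 22)))
      omega
  · letI := i1
    haveI := i2
    haveI := i3
    have h1 : Nat.card (Sylow 3 S) % 3 = 1 := card_sylow_modEq_one 3 S
    rcases hdiv with rfl | rfl
    · omega
    · exact FGS.SylowThree.false_of_card_sylow hS.symm

end Cfsg.Agent.S4346
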