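import Cfsg.Statements.S4348
-- import your own Cfsg.Agent.* helpers here

set_option autoImplicit false
open Cfsg
open scoped Pointwise
set_option linter.all false

namespace Cfsg.Agent.S4348

lemma pCore_le {G : Type*} [Group G] [Finite G] (p : ℕ) [Fact p.Prime] (Q : Sylow p G) :
    Cfsg.pCore p G ≤ (Q : Subgroup G) := by
  refine sSup_le ?_
  rintro N ⟨hN, hp⟩
  haveI := hN
  exact hp.le_sylow_of_normal Q


/-- Let G be a finite group, p a prime and P a Sylow p-subgroup of G, and let O_p(G) be the largest normal p-subgroup of G. If P/O_p(G) is cyclic, then some element of p-power order of G lies in exactly one Sylow p-subgroup. -/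
theorem result {G : Type*} [Group G] [Finite G]
    (p : ℕ) [Fact p.Prime] (P : Sylow p G)
    [hn : ((Cfsg.pCore p G).subgroupOf (P : Subgroup G)).Normal]
    (hc : IsCyclic ((P : Subgroup G) ⧸ (Cfsg.pCore p G).subgroupOf (P : Subgroup G))) :
    ∃ x : G, (∃ k : ℕ, orderOf x = p ^ k) ∧ ∃! Q : Sylow p G, x ∈ Q := by
  obtain ⟨y, hy⟩ := hc.exists_generator
  obtain ⟨x, rfl⟩ := QuotientGroup.mk'_surjective _ y
  obtain ⟨k, hk⟩ := IsPGroup.iff_orderOf.mp P.isPGroup' x
  refine ⟨(x : G), ⟨k, by rw [Subgroup.orderOf_coe]; exact hk⟩, P, x.2, fun Q hQ => ?_⟩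
  have hle : (P : Subgroup G) ≤ Q := by
    intro z hz
    obtain ⟨i, hi⟩ := hy (QuotientGroup.mk ⟨z, hz⟩)
    simp only [QuotientGroup.mk'_apply, ← QuotientGroup.mk_zpow] at hi
    have h := QuotientGroup.eq.mp hi
    rw [Subgroup.mem_subgroupOf] at h
    have h' : ((x : G) ^ i)⁻¹ * z ∈ (Q : Subgroup G) := pCore_le p Q (by simpa using h)
    have := mul_mem (zpow_mem (show (x : G) ∈ (Q : Subgroup G) from hQ) i) h'
    simpa using this
  exact Sylow.ext (P.is_maximal' Q.isPGroup' hle)

end Cfsg.Agent.S4348
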