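import Cfsg.Statements.S4349
import Cfsg.Agent.Lib.SymSylow.Two

set_option autoImplicit false
open Cfsg
open scoped Pointwise
set_option linter.all false

namespace Cfsg.Agent.S4349

open Equiv Equiv.Perm Cfsg.Agent

private def Cond {α : Type*} (x : Perm α) : Prop :=
  (∀ a b c, x a = a → x b = b → x c = c → a = b ∨ a = c ∨ b = c) ∧
    ∀ a b, x a ≠ a → Function.minimalPeriod x a = Function.minimalPeriod x b → ∃ i : ℕ, (x ^ i) a = b

private theorem per_iff {α : Type*} (x : Perm α) (a : α) (j : ℕ) :
    (x ^ j) a = a ↔ Function.minimalPeriod x a ∣ j := by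
  rw [← Function.isPeriodicPt_iff_minimalPeriod_dvd, Function.IsPeriodicPt, Function.IsFixedPt, Perm.iterate_eq_pow]

variable {α : Type*} [DecidableEq α] [Fintype α]

private theorem per_pos (x : Perm α) (a : α) : 0 < Function.minimalPeriod x a :=
  Function.IsPeriodicPt.minimalPeriod_pos (n := orderOf x) (orderOf_pos x) (by
    rw [Function.IsPeriodicPt, Function.IsFixedPt, Perm.iterate_eq_pow, pow_orderOf_eq_one, Perm.one_apply])

private theorem iap (g : Perm α) (a : α) : g⁻¹ (g a) = a := g.symm_apply_apply a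

private theorem conj_pow_mem {T : Subgroup (Perm α)} {x : Perm α} (hx : x ∈ T) {τ : Perm α}
    (hτ : τ ∈ SymSylow.swaps T) (j : ℕ) : x ^ j * τ * (x ^ j)⁻¹ ∈ SymSylow.swaps T :=
  ⟨SymSylow.isSwap_conj hτ.1 _, mul_mem (mul_mem (pow_mem hx j) hτ.2) (inv_mem (pow_mem hx j))⟩

private theorem partner {T : Subgroup (Perm α)} (hT : IsPGroup 2 T) {τ σ : Perm α}
    (hτ : τ ∈ SymSylow.swaps T) (hσ : σ ∈ SymSylow.swaps T) {u : α} (hu : τ u ≠ u) (hu' : σ u ≠ u) :
    σ u = τ u := by rw [SymSylow.swaps_common hT hσ hτ hu' hu]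

private theorem pair_formula {T : Subgroup (Perm α)} (hT : IsPGroup 2 T) {x : Perm α} (hx : x ∈ T)
    (hC : Cond x) {τ : Perm α} (hτ : τ ∈ SymSylow.swaps T) {u : α} (hu : τ u ≠ u) :
    (x u = u → x (τ u) = τ u) ∧
      (x u ≠ u → τ u = (x ^ (Function.minimalPeriod x u / 2)) u ∧
        2 * (Function.minimalPeriod x u / 2) = Function.minimalPeriod x u) := by
  have hsym : τ (τ u) = u := by
    have e := SymSylow.swap_of_moved hτ.1 hu
    rw [e, swap_apply_left, swap_apply_right]
  have stab : ∀ w, τ w ≠ w → ∀ j : ℕ, (x ^ j) w = w → (x ^ j) (τ w) = τ w := by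
    intro w hw j hj
    have hm : (x ^ j * τ * (x ^ j)⁻¹) w = (x ^ j) (τ w) := by
      have : (x ^ j)⁻¹ w = w := by rw [Perm.inv_eq_iff_eq, hj]
      rw [Perm.mul_apply, Perm.mul_apply, this]
    have hne : (x ^ j * τ * (x ^ j)⁻¹) w ≠ w := by
      rw [hm]; intro h
      exact hw ((x ^ j).injective (h.trans hj.symm))
    rw [← hm]
    exact partner hT hτ (conj_pow_mem hx hτ j) hw hne
  have hv : τ (τ u) ≠ τ u := by rw [hsym]; exact hu.symm
  refine ⟨fun h => by simpa using stab u hu 1 (by simpa using h), fun hxu => ?_⟩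
  set L := Function.minimalPeriod x u with hL
  have hLv : Function.minimalPeriod x (τ u) = L := by
    apply Nat.dvd_antisymm
    · exact (per_iff x _ _).1 (stab u hu L ((per_iff x u L).2 dvd_rfl))
    · have := stab (τ u) hv _ ((per_iff x (τ u) _).2 dvd_rfl)
      rw [hsym] at this
      exact (per_iff x u _).1 this
  obtain ⟨i, hi⟩ := hC.2 u (τ u) hxu hLv.symm
  have hi2 : (x ^ (i % L)) u = τ u := by
    rw [← hi]
    conv_rhs => rw [← Nat.mod_add_div i L, pow_add, Perm.mul_apply, (per_iff x u _).2 (dvd_mul_right L _)]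
  set k := i % L with hk
  have hkL : k < L := Nat.mod_lt _ (per_pos x u)
  have hk0 : k ≠ 0 := fun h => hu (by rw [← hi2, h, pow_zero, Perm.one_apply])
  have hm : (x ^ k * τ * (x ^ k)⁻¹) (τ u) = (x ^ k) (τ u) := by
    have : (x ^ k)⁻¹ (τ u) = u := by rw [Perm.inv_eq_iff_eq, hi2]
    rw [Perm.mul_apply, Perm.mul_apply, this]
  have hne : (x ^ k * τ * (x ^ k)⁻¹) (τ u) ≠ τ u := by
    rw [hm]; intro h
    exact hu ((x ^ k).injective (h.trans hi2.symm))
  have h2 := partner hT hτ (conj_pow_mem hx hτ k) hv hne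
  rw [hm, hsym, ← hi2, ← Perm.mul_apply, ← pow_add] at h2
  have hd := (per_iff x u _).1 h2
  rw [← hL] at hd
  obtain ⟨c, hc⟩ := hd
  have hc1 : c = 1 := by
    rcases Nat.lt_or_ge c 2 with h | h
    · interval_cases c
      · omega
      · rfl
    · have := Nat.mul_le_mul_left L h
      omega
  subst hc1
  have hk2 : L / 2 = k := by omega
  rw [hk2]
  exact ⟨hi2.symm, by omega⟩

private theorem unique_aux : ∀ (n : ℕ) (α : Type) [DecidableEq α] [Fintype α], Fintype.card α = n →
    ∀ x : Perm α, Cond x → ∀ S T : Sylow 2 (Perm α), x ∈ S → x ∈ T → S = T := by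
  intro n
  induction n using Nat.strong_induction_on with
  | _ n ih =>
    intro α _ _ hn x hC S T hxS hxT
    classical
    haveI := Fact.mk Nat.prime_two
    rcases Nat.lt_or_ge n 2 with h2 | h2
    · haveI : Subsingleton α := Fintype.card_le_one_iff_subsingleton.1 (by omega)
      exact Sylow.ext (Subsingleton.elim _ _)
    have hsub : ∀ S T : Sylow 2 (Perm α), x ∈ S → x ∈ T →
        SymSylow.swaps (S : Subgroup (Perm α)) ⊆ SymSylow.swaps (T : Subgroup (Perm α)) := by
      intro S T hxS hxT τ hτ
      obtain ⟨a, b, hab, he⟩ := hτ.1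
      have hu : τ a ≠ a := by rw [he, swap_apply_left]; exact hab.symm
      obtain ⟨hf1, hf2⟩ := pair_formula S.2 hxS hC hτ hu
      by_cases hp : ∀ σ ∈ SymSylow.swaps (T : Subgroup (Perm α)), σ a = a
      · exfalso
        have hxa : x a = a := by
          refine SymSylow.unpaired_unique T (fun σ hσ => ?_) hp
          by_contra h
          have hσ' := conj_pow_mem (show x⁻¹ ∈ (T : Subgroup (Perm α)) from inv_mem hxT) hσ 1
          have := hp _ hσ'
          rw [pow_one, inv_inv, Perm.mul_apply, Perm.mul_apply, Perm.inv_eq_iff_eq] at this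
          exact h this
        have hv := hf1 hxa
        by_cases hpv : ∀ σ ∈ SymSylow.swaps (T : Subgroup (Perm α)), σ (τ a) = τ a
        · exact hu (SymSylow.unpaired_unique T hpv hp)
        push Not at hpv
        obtain ⟨σ, hσ, hσv⟩ := hpv
        have hw := (pair_formula T.2 hxT hC hσ hσv).1 hv
        rcases hC.1 a (τ a) (σ (τ a)) hxa hv hw with h | h | h
        · exact hu h.symm
        · have h' := SymSylow.swap_of_moved hσ.1 hσv
          have := hp σ hσ
          rw [h', ← h, swap_apply_right] at this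
          exact hu this
        · exact hσv h.symm
      · push Not at hp
        obtain ⟨σ, hσ, hσa⟩ := hp
        obtain ⟨hg1, hg2⟩ := pair_formula T.2 hxT hC hσ hσa
        have e : τ a = σ a := by
          by_cases hxa : x a = a
          · rcases hC.1 a (τ a) (σ a) hxa (hf1 hxa) (hg1 hxa) with h | h | h
            · exact absurd h.symm hu
            · exact absurd h.symm hσa
            · exact h
          · rw [(hf2 hxa).1, (hg2 hxa).1]
        rw [SymSylow.swap_of_moved hτ.1 hu, e, ← SymSylow.swap_of_moved hσ.1 hσa]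
        exact hσ
    set M := SymSylow.swaps (T : Subgroup (Perm α)) with hM
    have hMS : SymSylow.swaps (S : Subgroup (Perm α)) = M :=
      Set.Subset.antisymm (hsub S T hxS hxT) (hsub T S hxT hxS)
    set N := Subgroup.normalizer M with hN
    have hSN : (S : Subgroup (Perm α)) ≤ N := by
      have := SymSylow.self_le_normalizer_swaps (S : Subgroup (Perm α))
      rw [hMS] at this
      exact this
    have hTN : (T : Subgroup (Perm α)) ≤ N := SymSylow.self_le_normalizer_swaps _
    set φ := SymSylow.phi (T : Subgroup (Perm α)) with hφ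
    obtain ⟨QT, hQT⟩ := SymSylow.phi_image_sylow T
    obtain ⟨Q', hQ'⟩ := ((S.2.of_equiv (Subgroup.subgroupOfEquivOfLe hSN).symm).map φ).exists_le_sylow
    set xb := φ ⟨x, hTN hxT⟩ with hxb
    have hiter : ∀ (j : ℕ) (τ : M), ((xb ^ j) τ : Perm α) = x ^ j * τ.1 * (x ^ j)⁻¹ := by
      intro j τ
      rw [hxb, ← map_pow]
      rfl
    -- a moved point
    have hrep : ∀ τ : M, ∃ u, τ.1 u ≠ u := fun τ => ⟨_, SymSylow.rep_moved (T : Subgroup (Perm α)) τ⟩
    have hsame : ∀ (τ σ : M) (w : α), τ.1 w ≠ w → σ.1 w ≠ w → τ = σ := fun τ σ w h h' =>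
      Subtype.ext (SymSylow.swaps_common T.2 τ.2 σ.2 h h')
    have hfix : ∀ (τ : M) (u : α), τ.1 u ≠ u → ∀ j : ℕ, ((xb ^ j) τ = τ ↔ (x ^ j) u = u ∨ (x ^ j) u = τ.1 u) := by
      intro τ u hu j
      have e := SymSylow.swap_of_moved τ.2.1 hu
      have hmv : ((xb ^ j) τ).1 ((x ^ j) u) ≠ (x ^ j) u := by
        rw [hiter, Perm.mul_apply, Perm.mul_apply, iap]
        exact (x ^ j).injective.ne hu
      constructor
      · intro h
        rw [h] at hmv
        by_contra hc
        push Not at hc
        apply hmv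
        rw [e]
        exact swap_apply_of_ne_of_ne hc.1 hc.2
      · intro h
        refine hsame _ _ _ hmv ?_
        rcases h with h | h <;> rw [h]
        · exact hu
        · rw [e, swap_apply_left, swap_apply_right]; exact hu.symm
    have hper : ∀ (τ : M) (u : α), τ.1 u ≠ u → x u ≠ u →
        2 * Function.minimalPeriod xb τ = Function.minimalPeriod x u := by
      intro τ u hu hxu
      obtain ⟨hv, heven⟩ := (pair_formula T.2 hxT hC τ.2 hu).2 hxu
      set L := Function.minimalPeriod x u
      have : Function.minimalPeriod xb τ = L / 2 := by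
        apply Nat.dvd_antisymm
        · exact (per_iff xb τ _).1 ((hfix τ u hu _).2 (Or.inr hv.symm))
        · set j := Function.minimalPeriod xb τ
          rcases (hfix τ u hu j).1 ((per_iff xb τ j).2 dvd_rfl) with h | h
          · exact (Dvd.intro_left 2 heven).trans ((per_iff x u j).1 h)
          · rw [hv] at h
            have h' : (x ^ (j + L / 2)) u = u := by
              rw [add_comm, pow_add, Perm.mul_apply, h, ← Perm.mul_apply, ← pow_add, ← two_mul, heven]
              exact (per_iff x u L).2 dvd_rfl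
            exact (Nat.dvd_add_left dvd_rfl).1 ((Dvd.intro_left 2 heven).trans ((per_iff x u _).1 h'))
      rw [this, heven]
    have hCb : Cond xb := by
      refine ⟨?_, ?_⟩
      · intro τ1 τ2 τ3 h1 h2 h3
        have hcl : ∀ τ : M, xb τ = τ → ∀ u, τ.1 u ≠ u → (x u = u ∧ x (τ.1 u) = τ.1 u) ∨
            (x u ≠ u ∧ Function.minimalPeriod x u = 2) := by
          intro τ hτ u hu
          by_cases hxu : x u = u
          · exact Or.inl ⟨hxu, (pair_formula T.2 hxT hC τ.2 hu).1 hxu⟩
          · refine Or.inr ⟨hxu, ?_⟩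
            rw [← hper τ u hu hxu, Function.minimalPeriod_eq_one_iff_isFixedPt.2 hτ]
        have same : ∀ τ σ : M, xb τ = τ → ∀ u w, τ.1 u ≠ u → σ.1 w ≠ w →
            ((x u = u ∧ x (τ.1 u) = τ.1 u ∧ x w = w) ∨
              (x u ≠ u ∧ Function.minimalPeriod x u = Function.minimalPeriod x w)) → τ = σ := by
          intro τ σ hτ u w hu hw h
          rcases h with ⟨a1, a2, a3⟩ | ⟨a1, a2⟩
          · rcases hC.1 u (τ.1 u) w a1 a2 a3 with e | e | e
            · exact absurd e.symm hu
            · exact hsame τ σ u hu (by rwa [e])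
            · refine hsame τ σ w ?_ hw
              rw [← e, SymSylow.swap_of_moved τ.2.1 hu, swap_apply_left, swap_apply_right]
              exact hu.symm
          · obtain ⟨i, hi⟩ := hC.2 u w a1 a2
            have hti : (xb ^ i) τ = τ := (per_iff xb τ i).2 (by
              rw [Function.minimalPeriod_eq_one_iff_isFixedPt.2 hτ]; exact one_dvd _)
            refine hsame τ σ w ?_ hw
            rw [← hti, hiter, Perm.mul_apply, Perm.mul_apply, ← hi, iap]
            exact (x ^ i).injective.ne hu
        obtain ⟨u1, hu1⟩ := hrep τ1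
        obtain ⟨u2, hu2⟩ := hrep τ2
        obtain ⟨u3, hu3⟩ := hrep τ3
        rcases hcl τ1 h1 u1 hu1 with a | a <;> rcases hcl τ2 h2 u2 hu2 with b | b <;>
          rcases hcl τ3 h3 u3 hu3 with c | c
        all_goals first
          | exact Or.inl (same τ1 τ2 h1 u1 u2 hu1 hu2 (Or.inl ⟨a.1, a.2, b.1⟩))
          | exact Or.inl (same τ1 τ2 h1 u1 u2 hu1 hu2 (Or.inr ⟨a.1, a.2.trans b.2.symm⟩))
          | exact Or.inr (Or.inl (same τ1 τ3 h1 u1 u3 hu1 hu3 (Or.inl ⟨a.1, a.2, c.1⟩)))
          | exact Or.inr (Or.inl (same τ1 τ3 h1 u1 u3 hu1 hu3 (Or.inr ⟨a.1, a.2.trans c.2.symm⟩)))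
          | exact Or.inr (Or.inr (same τ2 τ3 h2 u2 u3 hu2 hu3 (Or.inl ⟨b.1, b.2, c.1⟩)))
          | exact Or.inr (Or.inr (same τ2 τ3 h2 u2 u3 hu2 hu3 (Or.inr ⟨b.1, b.2.trans c.2.symm⟩)))
      · intro τ σ hτ hper'
        obtain ⟨u, hu⟩ := hrep τ
        obtain ⟨w, hw⟩ := hrep σ
        have hmoved : ∀ (ρ : M) (a : α), ρ.1 a ≠ a → xb ρ ≠ ρ → x a ≠ a := fun ρ a ha hρ h =>
          hρ (by simpa using (hfix ρ a ha 1).2 (Or.inl (by simpa using h)))
        have hσ : xb σ ≠ σ := fun h => hτ (Function.minimalPeriod_eq_one_iff_isFixedPt.1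
          (hper'.trans (Function.minimalPeriod_eq_one_iff_isFixedPt.2 h)))
        have h1 := hper τ u hu (hmoved τ u hu hτ)
        have h2 := hper σ w hw (hmoved σ w hw hσ)
        obtain ⟨i, hi⟩ := hC.2 u w (hmoved τ u hu hτ) (by rw [← h1, ← h2, hper'])
        refine ⟨i, hsame _ _ w ?_ hw⟩
        rw [hiter, Perm.mul_apply, Perm.mul_apply, ← hi, iap]
        exact (x ^ i).injective.ne hu
    have hcard : Fintype.card M < n := by
      have := Nat.card_le_card_of_injective _ (SymSylow.pts_injective (T : Subgroup (Perm α)) T.2)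
      rw [Nat.card_prod, Nat.card_eq_fintype_card (α := Bool), Fintype.card_bool,
        Nat.card_eq_fintype_card (α := α), hn] at this
      rw [← Nat.card_eq_fintype_card]
      show Nat.card (SymSylow.swaps (T : Subgroup (Perm α))) < n
      omega
    have hQ : Q' = QT := ih _ hcard M rfl xb hCb Q' QT
      (hQ' ⟨⟨x, hTN hxT⟩, hxS, rfl⟩) (by show xb ∈ (QT : Subgroup _); rw [hQT]; exact ⟨⟨x, hTN hxT⟩, hxT, rfl⟩)
    have hker : IsPGroup 2 φ.ker := fun k => ⟨1, Subtype.ext (Subtype.ext (by
      simpa [pow_two] using SymSylow.ker_phi T (MonoidHom.mem_ker.1 k.2)))⟩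
    have h1 : IsPGroup 2 ((QT : Subgroup _).comap φ) := QT.2.comap_of_ker_isPGroup _ hker
    have h2' : ((QT : Subgroup _).comap φ).map N.subtype = (T : Subgroup (Perm α)) := by
      refine T.3 (h1.map _) fun t ht => ?_
      exact ⟨⟨t, hTN ht⟩, by show φ _ ∈ (QT : Subgroup _); rw [hQT]; exact ⟨⟨t, hTN ht⟩, ht, rfl⟩, rfl⟩
    have hST : (S : Subgroup (Perm α)) ≤ T := fun s hs => h2'.le
      ⟨⟨s, hSN hs⟩, hQ ▸ hQ' ⟨⟨s, hSN hs⟩, hs, rfl⟩, rfl⟩
    exact (Sylow.ext (S.3 T.2 hST)).symm


/-- Let n ≥ 2 and let x be an element of 2-power order of the symmetric group of degree n. Then x lies in exactly one Sylow 2-subgroup if and only if x has at most two fixed points and the nontrivial cycles of x have pairwise different lengths. -/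
theorem result (n : ℕ) (hn : 2 ≤ n)
    (x : Equiv.Perm (Fin n)) (hx : ∃ k : ℕ, orderOf x = 2 ^ k) :
    (∃! P : Sylow 2 (Equiv.Perm (Fin n)), x ∈ P) ↔ (n ≤ x.support.card + 2 ∧ x.cycleType.Nodup) := by
  classical
  haveI := Fact.mk Nat.prime_two
  have hlen : ∀ a, x a ≠ a → (x.cycleOf a).support.card = Function.minimalPeriod x a := by
    intro a ha
    have hcyc := Equiv.Perm.isCycle_cycleOf x ha
    apply Nat.dvd_antisymm
    · rw [← hcyc.orderOf, orderOf_dvd_iff_pow_eq_one, hcyc.pow_eq_one_iff]
      exact ⟨a, by rw [Equiv.Perm.cycleOf_apply_self]; exact ha,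
        by rw [Equiv.Perm.cycleOf_pow_apply_self]; exact (per_iff x a _).2 dvd_rfl⟩
    · rw [← per_iff]
      have h := Equiv.Perm.pow_mod_card_support_cycleOf_self_apply x (x.cycleOf a).support.card a
      rw [Nat.mod_self, pow_zero, Perm.one_apply] at h
      exact h.symm
  have hfixc : n ≤ x.support.card + 2 ↔ ∀ a b c, x a = a → x b = b → x c = c → a = b ∨ a = c ∨ b = c := by
    constructor
    · intro h a b c ha hb hc
      by_contra hne
      push Not at hne
      have hs : ({a, b, c} : Finset (Fin n)) ⊆ x.supportᶜ := by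
        intro y hy
        simp only [Finset.mem_insert, Finset.mem_singleton] at hy
        rw [Finset.mem_compl, Equiv.Perm.notMem_support]
        rcases hy with rfl | rfl | rfl <;> assumption
      have := Finset.card_le_card hs
      rw [Finset.card_compl, Fintype.card_fin, Finset.card_insert_of_notMem (by simp [hne.1, hne.2.1]),
        Finset.card_pair hne.2.2] at this
      omega
    · intro h
      by_contra hlt
      have h3 : 2 < x.supportᶜ.card := by rw [Finset.card_compl, Fintype.card_fin]; omega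
      obtain ⟨a, b, c, ha, hb, hc, hab, hac, hbc⟩ := Finset.two_lt_card_iff.1 h3
      rw [Finset.mem_compl, Equiv.Perm.notMem_support] at ha hb hc
      rcases h a b c ha hb hc with e | e | e <;> contradiction
  have hnd : x.cycleType.Nodup ↔ ∀ a b, x a ≠ a → x b ≠ b →
      Function.minimalPeriod x a = Function.minimalPeriod x b → x.SameCycle a b := by
    rw [Equiv.Perm.cycleType_def, Finset.nodup_map_iff_injOn]
    constructor
    · intro h a b ha hb e
      have e2 := h (Equiv.Perm.cycleOf_mem_cycleFactorsFinset_iff.2 (mem_support.2 ha))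
        (Equiv.Perm.cycleOf_mem_cycleFactorsFinset_iff.2 (mem_support.2 hb))
        (by simp only [Function.comp_apply]; rw [hlen a ha, hlen b hb, e])
      have : b ∈ (x.cycleOf a).support := by
        rw [e2, Equiv.Perm.mem_support, Equiv.Perm.cycleOf_apply_self]; exact hb
      exact (Equiv.Perm.mem_support_cycleOf_iff.1 this).1
    · intro h f hf g hg e
      have key : ∀ f ∈ x.cycleFactorsFinset, ∃ a, x a ≠ a ∧ f = x.cycleOf a := fun f hf => by
        obtain ⟨a, ha⟩ := (Equiv.Perm.mem_cycleFactorsFinset_iff.1 hf).1.nonempty_support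
        exact ⟨a, mem_support.1 (Equiv.Perm.mem_cycleFactorsFinset_support_le hf ha),
          Equiv.Perm.cycle_is_cycleOf ha hf⟩
      obtain ⟨a, ha, rfl⟩ := key f hf
      obtain ⟨b, hb, rfl⟩ := key g hg
      simp only [Function.comp_apply] at e
      rw [hlen a ha, hlen b hb] at e
      exact (h a b ha hb e).cycleOf_eq
  constructor
  · rintro ⟨P, hxP, huniq⟩
    have cmem : ∀ g : Perm (Fin n), Commute g x → g ∈ (P : Subgroup (Perm (Fin n))) := fun g hg => by
      refine SymSylow.normalizer_sylow P (Sylow.smul_eq_iff_mem_normalizer.1 (huniq _ ?_))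
      show x ∈ ((g • P : Sylow 2 (Perm (Fin n))) : Subgroup (Perm (Fin n)))
      rw [Sylow.coe_subgroup_smul, Subgroup.mem_pointwise_smul_iff_inv_smul_mem, MulAut.smul_def,
        MulAut.conj_inv_apply, mul_assoc, ← hg.eq, inv_mul_cancel_left]
      exact hxP
    refine ⟨hfixc.2 fun a b c ha hb hc => ?_, hnd.2 fun a b ha hb e => ?_⟩
    · by_contra hne
      push Not at hne
      have hsw : ∀ u v, x u = u → x v = v → swap u v ∈ (P : Subgroup (Perm (Fin n))) := fun u v hu hv =>
        cmem _ (by
          have := Equiv.mul_swap_eq_swap_mul x u v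
          rw [hu, hv] at this
          exact this.symm)
      exact hne.2.2 (SymSylow.partner_unique P.2 hne.1 hne.2.1 (hsw a b ha hb) (hsw a c ha hc))
    · by_contra hns
      let s : ℕ → Perm (Fin n) := fun i => swap ((x ^ i) a) ((x ^ i) b)
      have hdiff : ∀ i j : ℕ, (x ^ i) a ≠ (x ^ j) b := fun i j h =>
        hns (Equiv.Perm.sameCycle_pow_left.1 (Equiv.Perm.sameCycle_pow_right.1 (show x.SameCycle ((x ^ i) a) ((x ^ j) b) by rw [h])))
      have hcomm : ∀ i j, Commute (s i) (s j) := by
        intro i j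
        have hmod : ∀ (u : Fin n) (i : ℕ), (x ^ (i % Function.minimalPeriod x u)) u = (x ^ i) u := by
          intro u i
          conv_rhs => rw [← Nat.mod_add_div i (Function.minimalPeriod x u), pow_add, Perm.mul_apply,
            (per_iff x u _).2 (dvd_mul_right _ _)]
        have hinv : ∀ (u : Fin n) (i j : ℕ), (x ^ i) u = (x ^ j) u ↔
            (i % Function.minimalPeriod x u = j % Function.minimalPeriod x u) := by
          intro u i j
          rw [← hmod u i, ← hmod u j]
          refine ⟨fun h => ?_, fun h => by rw [h]⟩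
          exact Function.iterate_injOn_Iio_minimalPeriod (Set.mem_Iio.2 (Nat.mod_lt _ (per_pos x u)))
            (Set.mem_Iio.2 (Nat.mod_lt _ (per_pos x u))) (by simp only [Perm.iterate_eq_pow]; exact h)
        by_cases h : (x ^ i) a = (x ^ j) a
        · have h' : (x ^ i) b = (x ^ j) b := (hinv b i j).2 (e ▸ (hinv a i j).1 h)
          show Commute (swap ((x ^ i) a) ((x ^ i) b)) _
          rw [h, h']
        · have h' : (x ^ i) b ≠ (x ^ j) b := fun h' => h ((hinv a i j).2 (e ▸ (hinv b i j).1 h'))
          refine (fun hd => Equiv.Perm.Disjoint.commute hd) ?_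
          intro y
          by_cases y1 : y = (x ^ i) a
          · right; rw [y1]; exact swap_apply_of_ne_of_ne h (hdiff i j)
          by_cases y2 : y = (x ^ i) b
          · right; rw [y2]; exact swap_apply_of_ne_of_ne (hdiff j i).symm h'
          exact Or.inl (swap_apply_of_ne_of_ne y1 y2)
      set E := Subgroup.closure (Set.range s) with hE
      have hEc : IsMulCommutative E := Subgroup.isMulCommutative_closure (by
        rintro _ ⟨i, rfl⟩ _ ⟨j, rfl⟩; exact hcomm i j)
      have hEp : IsPGroup 2 E := by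
        rintro ⟨g, hgE⟩
        refine ⟨1, Subtype.ext ?_⟩
        rw [pow_one, Subgroup.coe_pow, OneMemClass.coe_one]
        show g ^ 2 = 1
        induction hgE using Subgroup.closure_induction with
        | mem y hy => obtain ⟨i, rfl⟩ := hy; rw [pow_two]; exact swap_mul_self _ _
        | one => simp
        | mul y z hy hz h1 h2 =>
          rw [(show Commute y z from congrArg Subtype.val (hEc.is_comm.comm ⟨y, hy⟩ ⟨z, hz⟩)).mul_pow, h1, h2, one_mul]
        | inv y _ h1 => rw [inv_pow, h1, inv_one]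
      have hnorm : x ∈ Subgroup.normalizer (E : Set (Perm (Fin n))) := by
        have hconj : ∀ i, x * s i * x⁻¹ = s (i + 1) := fun i => by
          show x * swap _ _ * x⁻¹ = swap _ _
          rw [← Equiv.swap_apply_apply, pow_succ', Perm.mul_apply, Perm.mul_apply]
        have hle : E.map (MulAut.conj x).toMonoidHom ≤ E := by
          rw [hE, MonoidHom.map_closure, Subgroup.closure_le]
          rintro _ ⟨_, ⟨i, rfl⟩, rfl⟩
          exact Subgroup.subset_closure ⟨i + 1, (hconj i).symm⟩
        have heq := Subgroup.eq_of_le_of_card_ge hle (by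
          rw [Subgroup.card_map_of_injective (MulAut.conj x).injective])
        refine Subgroup.mem_normalizer_iff.2 fun g => ⟨fun hg => hle ⟨g, hg, rfl⟩, fun hg => ?_⟩
        rw [← heq] at hg
        obtain ⟨g', hg', hge⟩ := hg
        exact ((MulAut.conj x).injective (show MulAut.conj x g' = MulAut.conj x g from hge)) ▸ hg'
      obtain ⟨k, hk⟩ := hx
      have hZ : IsPGroup 2 (Subgroup.zpowers x) := IsPGroup.of_card (n := k) (by rw [Nat.card_zpowers, hk])
      obtain ⟨Q, hQ⟩ := (hEp.to_sup_of_normal_left' hZ (Subgroup.zpowers_le.2 hnorm)).exists_le_sylow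
      have hQP : Q = P := huniq Q (hQ (Subgroup.mem_sup_right (Subgroup.mem_zpowers x)))
      have hs0 : swap a b ∈ (P : Subgroup (Perm (Fin n))) := by
        rw [← hQP]
        exact hQ (Subgroup.mem_sup_left (Subgroup.subset_closure ⟨0, by simp [s]⟩))
      have hab : a ≠ b := fun h => hns (h ▸ Equiv.Perm.SameCycle.refl x a)
      set h := x.cycleOf a with hh
      have hhP : h ∈ (P : Subgroup (Perm (Fin n))) := cmem _
        (Equiv.Perm.self_mem_cycle_factors_commute (Equiv.Perm.cycleOf_mem_cycleFactorsFinset_iff.2 (mem_support.2 ha)))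
      have hs1 : swap (x a) b ∈ (P : Subgroup (Perm (Fin n))) := by
        have := mul_mem (mul_mem hhP hs0) (inv_mem hhP)
        rw [← Equiv.swap_apply_apply, hh, Equiv.Perm.cycleOf_apply_self,
          Equiv.Perm.cycleOf_apply_of_not_sameCycle hns] at this
        exact this
      have hxab : b ≠ x a := fun h => hns (h ▸ Equiv.Perm.sameCycle_apply_right.2 (Equiv.Perm.SameCycle.refl x a))
      rw [swap_comm a b] at hs0
      rw [swap_comm] at hs1
      exact ha (SymSylow.partner_unique P.2 hab.symm hxab hs0 hs1).symm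
  · rintro ⟨h1, h2⟩
    have hC : Cond x := by
      refine ⟨hfixc.1 h1, fun a b ha e => ?_⟩
      have hb : x b ≠ b := fun h => ha (Function.minimalPeriod_eq_one_iff_isFixedPt.1
        (e.trans (Function.minimalPeriod_eq_one_iff_isFixedPt.2 h)))
      obtain ⟨i, hi⟩ := (hnd.1 h2 a b ha hb e).exists_pow_eq'
      exact ⟨i, hi.2⟩
    obtain ⟨k, hk⟩ := hx
    obtain ⟨P, hP⟩ := (IsPGroup.of_card (p := 2) (n := k)
      (by rw [Nat.card_zpowers, hk]) : IsPGroup 2 (Subgroup.zpowers x)).exists_le_sylow
    exact ⟨P, hP (Subgroup.mem_zpowers x), fun Q hQ => unique_aux n (Fin n) (Fintype.card_fin n) x hC Q P hQ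
      (hP (Subgroup.mem_zpowers x))⟩

end Cfsg.Agent.S4349
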