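import Cfsg.Statements.S4354
import Mathlib
import Cfsg.Agent.Lib.FGS.SylowNumber
import Cfsg.Agent.Lib.SmallSimple.SylowFive
import Cfsg.Agent.Lib.Transfer.Residual

set_option autoImplicit false
open Cfsg
open scoped Pointwise
set_option linter.all false

namespace Cfsg.Agent.S4354

open Subgroup

/-- Elements of `p`-power order are `p`-central. -/
def PCent (p : ℕ) (G : Type*) [Group G] : Prop :=
  ∀ x : G, (∃ k : ℕ, orderOf x = p ^ k) → ¬ p ∣ (centralizer ({x} : Set G)).index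

variable {G : Type*} [Group G] [Finite G] {p : ℕ} [Fact p.Prime]

theorem pcent_subgroup (h : PCent p G) (N : Subgroup G) [N.Normal] : PCent p N := by
  intro x hx hd
  refine h (x : G) (by rwa [orderOf_coe]) (hd.trans ?_)
  have e : (centralizer ({x} : Set N)) = (centralizer ({(x : G)} : Set G)).subgroupOf N := by
    ext y
    rw [mem_subgroupOf, mem_centralizer_singleton_iff, mem_centralizer_singleton_iff, Subtype.ext_iff]
    rfl
  have hN : centralizer ({(x : G)} : Set G) ≤ normalizer (N : Set G) := by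
    rw [normalizer_eq_top_iff.2 inferInstance]; exact le_top
  rw [e, ← relIndex, ← FGS.SylowNumber.relIndex_sup_of_le_normalizer hN,
    ← relIndex_mul_index (le_sup_right : centralizer ({(x : G)} : Set G) ≤ N ⊔ _)]
  exact dvd_mul_right _ _

theorem pcent_quotient (h : PCent p G) (N : Subgroup G) [N.Normal] : PCent p (G ⧸ N) := by
  intro x hx hd
  obtain ⟨k, hk⟩ := hx
  obtain ⟨R, hR⟩ := (IsPGroup.of_card (p := p) (n := k) (G := zpowers x)
    (by rw [Nat.card_zpowers, hk])).exists_le_sylow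
  obtain ⟨Q, rfl⟩ := Sylow.mapSurjective_surjective (QuotientGroup.mk'_surjective N) p R
  have hxR := hR (mem_zpowers x)
  rw [Sylow.coe_mapSurjective] at hxR
  obtain ⟨q, hq, rfl⟩ := mem_map.1 hxR
  obtain ⟨j, hj⟩ := IsPGroup.iff_orderOf.1 Q.2 ⟨q, hq⟩
  refine h q ⟨j, (orderOf_coe (⟨q, hq⟩ : (Q : Subgroup G))).trans hj⟩ (hd.trans ?_)
  refine (index_dvd_of_le ?_).trans (index_map_dvd _ (QuotientGroup.mk'_surjective N))
  rintro _ ⟨c, hc, rfl⟩
  rw [SetLike.mem_coe, mem_centralizer_singleton_iff] at hc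
  rw [mem_centralizer_singleton_iff, ← map_mul, ← map_mul, hc]

theorem exists_central_conj (h : PCent p G) (P : Sylow p G) {x : G} (hx : x ∈ (P : Subgroup G)) :
    ∃ g : G, g⁻¹ * x * g ∈ (P : Subgroup G) ∧
      ∀ e ∈ (P : Subgroup G), e * (g⁻¹ * x * g) = g⁻¹ * x * g * e := by
  have hp : p.Prime := Fact.out
  obtain ⟨j, hj⟩ := IsPGroup.iff_orderOf.1 P.2 ⟨x, hx⟩
  replace hj : orderOf x = p ^ j := (orderOf_coe (⟨x, hx⟩ : (P : Subgroup G))).trans hj
  set C := centralizer ({x} : Set G) with hC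
  obtain ⟨R⟩ : Nonempty (Sylow p C) := inferInstance
  have hcard : Nat.card ((R : Subgroup C).map C.subtype) = p ^ (Nat.card G).factorization p := by
    rw [card_map_of_injective C.subtype_injective, R.card_eq_multiplicity, ← card_mul_index C,
      Nat.factorization_mul Nat.card_pos.ne' index_ne_zero_of_finite, Finsupp.add_apply,
      Nat.factorization_eq_zero_of_not_dvd (h x ⟨j, hj⟩), add_zero]
  let Q : Sylow p G := Sylow.ofCard _ hcard
  have hQC : (Q : Subgroup G) ≤ C := map_subtype_le _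
  have hxQ : x ∈ (Q : Subgroup G) := by
    refine SylowFive.sylow_le_of_mem_normalizer Q ?_ j (by rw [← hj, pow_orderOf_eq_one])
    refine SmallSimple.centralizer_le_normalizer _ (mem_centralizer_iff.2 fun e he => ?_)
    exact mem_centralizer_singleton_iff.1 (hQC he)
  obtain ⟨g, hg⟩ := MulAction.exists_smul_eq G P Q
  have hmem : ∀ e, g * e * g⁻¹ ∈ (Q : Subgroup G) ↔ e ∈ (P : Subgroup G) := fun e => by
    rw [← hg, Sylow.coe_subgroup_smul, mem_pointwise_smul_iff_inv_smul_mem]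
    simp [MulAut.smul_def, mul_assoc]
  refine ⟨g, (hmem _).1 (by simpa [mul_assoc] using hxQ), fun e he => ?_⟩
  have h1 := mem_centralizer_singleton_iff.1 (hQC ((hmem e).2 he))
  calc e * (g⁻¹ * x * g) = g⁻¹ * (g * e * g⁻¹ * x) * g := by group
    _ = g⁻¹ * (x * (g * e * g⁻¹)) * g := by rw [h1]
    _ = g⁻¹ * x * g * e := by group

theorem isMulCommutative_of_quotient (h : PCent p G) (P : Sylow p G) (N : Subgroup G) [N.Normal]
    (hN : ∀ Q : Sylow p N, IsMulCommutative Q) (hq : ∀ Q : Sylow p (G ⧸ N), IsMulCommutative Q) :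
    IsMulCommutative P := by
  let Pb := P.mapSurjective (QuotientGroup.mk'_surjective N)
  haveI := hq Pb
  have hPb : ∀ a ∈ (Pb : Subgroup (G ⧸ N)), ∀ b ∈ (Pb : Subgroup (G ⧸ N)), a * b = b * a :=
    fun a ha b hb => congrArg Subtype.val
      ((inferInstance : IsMulCommutative (Pb : Subgroup (G ⧸ N))).is_comm.comm ⟨a, ha⟩ ⟨b, hb⟩)
  obtain ⟨Pn, hPn⟩ := Transfer.exists_sylow_eq_subgroupOf P N
  have hD : ∀ a b : G, a ∈ (P : Subgroup G) → a ∈ N → b ∈ (P : Subgroup G) → b ∈ N →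
      a * b = b * a := by
    intro a b ha ha' hb hb'
    have h1 : (⟨a, ha'⟩ : N) ∈ (Pn : Subgroup N) := by rw [hPn, mem_subgroupOf]; exact ha
    have h2 : (⟨b, hb'⟩ : N) ∈ (Pn : Subgroup N) := by rw [hPn, mem_subgroupOf]; exact hb
    exact congrArg (fun t : (Pn : Subgroup N) => ((t : N) : G))
      ((hN Pn).is_comm.comm ⟨_, h1⟩ ⟨_, h2⟩)
  -- each element is, modulo `P ⊓ N`, conjugate in `N(P)` to a central one
  have key : ∀ x ∈ (P : Subgroup G), ∃ n ∈ normalizer ((P : Subgroup G) : Set G), ∃ y d : G,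
      n⁻¹ * x * n = y * d ∧ (∀ e ∈ (P : Subgroup G), e * y = y * e) ∧
        d ∈ (P : Subgroup G) ∧ d ∈ N := by
    intro x hx
    obtain ⟨g, hy, hyc⟩ := exists_central_conj h P hx
    have hxb : (QuotientGroup.mk' N x) ∈ (Pb : Subgroup (G ⧸ N)) := by
      rw [Sylow.coe_mapSurjective]; exact mem_map_of_mem _ hx
    have hyb : (QuotientGroup.mk' N g)⁻¹ * QuotientGroup.mk' N x * QuotientGroup.mk' N g ∈
        (Pb : Subgroup (G ⧸ N)) := by
      rw [← map_inv, ← map_mul, ← map_mul, Sylow.coe_mapSurjective]; exact mem_map_of_mem _ hy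
    obtain ⟨nb, hnb, heq⟩ := Pb.conj_eq_normalizer_conj_of_mem _ _ hxb hyb
    obtain ⟨n0, rfl⟩ := QuotientGroup.mk'_surjective N nb
    have hX : ((P : Subgroup G) ⊔ N) = (Pb : Subgroup (G ⧸ N)).comap (QuotientGroup.mk' N) := by
      rw [Sylow.coe_mapSurjective, comap_map_eq, QuotientGroup.ker_mk']
    have hn0 : ((n0 • P : Sylow p G) : Subgroup G) ≤ (P : Subgroup G) ⊔ N := by
      intro e he
      rw [Sylow.coe_subgroup_smul, mem_pointwise_smul_iff_inv_smul_mem] at he
      simp only [MulAut.smul_def, MulAut.conj_inv_apply] at he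
      rw [hX, mem_comap]
      have h1 : QuotientGroup.mk' N (n0⁻¹ * e * n0) ∈ (Pb : Subgroup (G ⧸ N)) := by
        rw [Sylow.coe_mapSurjective]; exact mem_map_of_mem _ he
      have h2 := (mem_normalizer_iff.1 hnb _).1 h1
      rw [← map_inv, ← map_mul, ← map_mul] at h2
      simpa [mul_assoc] using h2
    obtain ⟨k, hk, hkP⟩ := SylowFive.exists_conj_of_sylow_le P (n0 • P) _ le_sup_left hn0
    have hn : k⁻¹ * n0 ∈ normalizer ((P : Subgroup G) : Set G) :=
      (SylowFive.smul_sylow_eq P).1 (by rw [mul_smul, ← hkP, inv_smul_smul])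
    have hkb : QuotientGroup.mk' N k ∈ (Pb : Subgroup (G ⧸ N)) := by
      rw [← mem_comap, ← hX]; exact hk
    refine ⟨_, hn, g⁻¹ * x * g, (g⁻¹ * x * g)⁻¹ * ((k⁻¹ * n0)⁻¹ * x * (k⁻¹ * n0)),
      by group, hyc, ?_, ?_⟩
    · refine mul_mem (inv_mem hy) ?_
      exact (mem_normalizer_iff''.1 hn x).1 hx
    · rw [← QuotientGroup.ker_mk' N, MonoidHom.mem_ker, map_mul, map_inv, inv_mul_eq_one,
        map_mul, map_mul, map_inv, heq, map_mul, map_mul, map_inv, map_mul, map_inv]
      have hc := hPb _ hkb _ hxb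
      generalize QuotientGroup.mk' N k = a at hc
      generalize QuotientGroup.mk' N x = b at hc
      generalize QuotientGroup.mk' N n0 = c
      calc c⁻¹ * b * c = c⁻¹ * (b * a) * a⁻¹ * c := by group
        _ = c⁻¹ * (a * b) * a⁻¹ * c := by rw [hc]
        _ = (a⁻¹ * c)⁻¹ * b * (a⁻¹ * c) := by group
  have hcD : ∀ x ∈ (P : Subgroup G), ∀ e ∈ (P : Subgroup G), e ∈ N → e * x = x * e := by
    intro x hx e he heN
    obtain ⟨n, hn, y, d, hyd, hy, hdP, hdN⟩ := key x hx
    have he' : n⁻¹ * e * n ∈ (P : Subgroup G) := (mem_normalizer_iff''.1 hn e).1 he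
    have heN' : n⁻¹ * e * n ∈ N := by
      simpa using Normal.conj_mem ‹N.Normal› e heN n⁻¹
    have h1 : n⁻¹ * e * n * (n⁻¹ * x * n) = n⁻¹ * x * n * (n⁻¹ * e * n) := by
      rw [hyd, ← mul_assoc, hy _ he', mul_assoc, hD _ _ he' heN' hdP hdN, ← mul_assoc]
    calc e * x = n * (n⁻¹ * e * n * (n⁻¹ * x * n)) * n⁻¹ := by group
      _ = n * (n⁻¹ * x * n * (n⁻¹ * e * n)) * n⁻¹ := by rw [h1]
      _ = x * e := by group
  refine ⟨⟨fun a b => Subtype.ext ?_⟩⟩
  obtain ⟨n, hn, y, d, hyd, hy, hdP, hdN⟩ := key a a.2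
  have he' : n⁻¹ * (b : G) * n ∈ (P : Subgroup G) := (mem_normalizer_iff''.1 hn b).1 b.2
  have h1 : n⁻¹ * (b : G) * n * (n⁻¹ * a * n) = n⁻¹ * a * n * (n⁻¹ * b * n) := by
    rw [hyd, ← mul_assoc, hy _ he', mul_assoc, ← hcD _ he' d hdP hdN, ← mul_assoc]
  show (a : G) * b = b * a
  calc (a : G) * b = n * (n⁻¹ * a * n * (n⁻¹ * b * n)) * n⁻¹ := by group
    _ = n * (n⁻¹ * b * n * (n⁻¹ * a * n)) * n⁻¹ := by rw [h1]
    _ = b * a := by group


/-- Let G be a finite group and p a prime such that the Sylow p-subgroups of G are non-abelian while every element of p-power order has conjugacy class size prime to p, and suppose no nontrivial proper normal subgroup N of G has this property and no quotient G/N by such an N has it. Then G is simple. -/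
theorem result {G : Type*} [Group G] [Finite G]
    (p : ℕ) [Fact p.Prime] (h : ((∃ P : Sylow p G, ¬ IsMulCommutative P) ∧ ∀ x : G, (∃ k : ℕ, orderOf x = p ^ k) → ¬ p ∣ (Subgroup.centralizer ({x} : Set G)).index))
    (hmin : ∀ (N : Subgroup G) [N.Normal], N ≠ ⊥ → N ≠ ⊤ →
      ¬ ((∃ P : Sylow p N, ¬ IsMulCommutative P) ∧ ∀ x : N, (∃ k : ℕ, orderOf x = p ^ k) → ¬ p ∣ (Subgroup.centralizer ({x} : Set N)).index) ∧
      ¬ ((∃ P : Sylow p (G ⧸ N), ¬ IsMulCommutative P) ∧ ∀ x : (G ⧸ N), (∃ k : ℕ, orderOf x = p ^ k) → ¬ p ∣ (Subgroup.centralizer ({x} : Set (G ⧸ N))).index)) :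
    IsSimpleGroup G := by
  obtain ⟨⟨P, hP⟩, hc⟩ := h
  have hnt : Nontrivial G := by
    by_contra hs
    rw [not_nontrivial_iff_subsingleton] at hs
    exact hP ⟨⟨fun a b => Subsingleton.elim _ _⟩⟩
  exact { eq_bot_or_eq_top_of_normal := fun N hN => by
            by_contra hne
            push Not at hne
            obtain ⟨h1, h2⟩ := @hmin N hN hne.1 hne.2
            haveI := hN
            refine hP (isMulCommutative_of_quotient hc P N (fun Q => ?_) (fun Q => ?_))
            · by_contra hQ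
              exact h1 ⟨⟨Q, hQ⟩, pcent_subgroup hc N⟩
            · by_contra hQ
              exact h2 ⟨⟨Q, hQ⟩, pcent_quotient hc N⟩ }

end Cfsg.Agent.S4354
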