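import Cfsg.Statements.S4356
import Cfsg.Agent.Lib.FGS.RedundantSL2

set_option autoImplicit false
open Cfsg
open scoped Pointwise
set_option linter.all false

namespace Cfsg.Agent.S4356

theorem ker_two {F : Type*} [Field F] (z : Matrix.SpecialLinearGroup (Fin 2) F) (hz : SL2.π z = 1) :
    (∀ u, Commute z u) ∧ z ^ 2 = 1 := by
  have hs := SL2.π_eq_one.1 hz
  refine ⟨fun u => (Subgroup.mem_center_iff.1 ((SL2.scal_iff_mem_center z).1 hs) u).symm, ?_⟩
  rcases (SL2.scal_iff z).1 hs with e | e <;> rw [e, pow_two] <;> simp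


/-- Let F be a finite field with q elements, p a prime and G = PSL(2, F). Say a Sylow p-subgroup Q of G is redundant when every element of p-power order lies in some Sylow p-subgroup other than Q. Then G has a redundant Sylow p-subgroup if and only if p = 2 and q is not of any of the forms 2ᵏ - 1, 2ᵏ, 2ᵏ + 1. -/
theorem result {F : Type*} [Field F] [Fintype F] (p : ℕ) [Fact p.Prime] :
    (∃ Q : Sylow p (Matrix.ProjectiveSpecialLinearGroup (Fin 2) F), ∀ x : Matrix.ProjectiveSpecialLinearGroup (Fin 2) F,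
        (∃ k : ℕ, orderOf x = p ^ k) → ∃ P : Sylow p (Matrix.ProjectiveSpecialLinearGroup (Fin 2) F), P ≠ Q ∧ x ∈ P) ↔
      (p = 2 ∧ (¬ ∃ k : ℕ, Fintype.card F + 1 = 2 ^ k) ∧ (¬ ∃ k : ℕ, Fintype.card F = 2 ^ k) ∧
        ¬ ∃ k : ℕ, Fintype.card F = 2 ^ k + 1) := by
  rw [RedundantSL2.iff_two]
  constructor
  · intro h
    by_contra hbad
    obtain ⟨x, hx, hu⟩ := RedundantSL2.map_unique SL2.π_surjective ker_two
      (RedundantSL2.unique_of_bad p hbad)
    obtain ⟨P, P', hne, hP, hP'⟩ := h x hx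
    exact hne (hu P P' hP hP')
  · rintro ⟨hp, h1, h2, h3⟩
    exact RedundantSL2.map_two SL2.π_surjective ker_two
      (RedundantSL2.two_of_cond p hp h1 h2 h3)

end Cfsg.Agent.S4356
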