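import Cfsg.Statements.S4358
import Mathlib

set_option autoImplicit false
open Cfsg
open scoped Pointwise
set_option linter.all false

namespace Cfsg.Agent.S4358

open Matrix
open scoped Pointwise

section
variable {F : Type*} [Field F] [Fintype F] {p : ℕ} [hp : Fact p.Prime]

private def mon (d : ZMod p → F) (j : ZMod p) : Matrix (ZMod p) (ZMod p) F :=
  fun i k => if i = k + j then d i else 0

private theorem mon_mul (d e : ZMod p → F) (j l : ZMod p) :
    mon d j * mon e l = mon (fun i => d i * e (i - j)) (j + l) := by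
  ext i k
  rw [Matrix.mul_apply, Finset.sum_eq_single (i - j)]
  · simp only [mon, sub_add_cancel, if_true]
    by_cases h : i = k + (j + l)
    · rw [if_pos h, if_pos (by rw [h]; ring)]
    · rw [if_neg h, if_neg (fun h' => h (by linear_combination h')), mul_zero]
  · intro t _ ht
    simp only [mon]
    rw [if_neg (fun h => ht (by rw [h]; ring)), zero_mul]
  · intro h; exact absurd (Finset.mem_univ _) h

private theorem mon_one : mon (fun _ => (1 : F)) (0 : ZMod p) = 1 := by
  ext i k
  simp [mon, Matrix.one_apply]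

private theorem mon_pow (d : ZMod p → F) (j : ZMod p) : ∀ t : ℕ,
    mon d j ^ t = mon (fun i => ∏ s ∈ Finset.range t, d (i - (s : ZMod p) * j)) ((t : ZMod p) * j) := by
  intro t
  induction t with
  | zero => simp [mon_one]
  | succ t ih =>
    rw [pow_succ, ih, mon_mul]
    congr 1
    · funext i; rw [Finset.prod_range_succ]
    · push_cast; ring

private theorem trace_mon (d : ZMod p → F) {j : ZMod p} (hj : j ≠ 0) : Matrix.trace (mon d j) = 0 := by
  refine Finset.sum_eq_zero fun i _ => ?_
  simp [mon, Matrix.diag, hj]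

local notation "GG" => (Matrix (ZMod p) (ZMod p) F)ˣ

variable (F p) in
/-- The monomial subgroup. -/
private def QQ : Subgroup GG where
  carrier := {g | ∃ d j, (∀ i, d i ^ p = (1 : F)) ∧ (g : Matrix (ZMod p) (ZMod p) F) = mon d j}
  one_mem' := ⟨fun _ => 1, 0, fun _ => one_pow _, by rw [Units.val_one, mon_one]⟩
  mul_mem' := by
    rintro g h ⟨d, j, hd, eg⟩ ⟨e, l, he, eh⟩
    exact ⟨fun i => d i * e (i - j), j + l, fun i => by rw [mul_pow, hd, he, one_mul], by rw [Units.val_mul, eg, eh, mon_mul]⟩
  inv_mem' := by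
    rintro g ⟨d, j, hd, eg⟩
    refine ⟨fun i => (d (i + j))⁻¹, -j, fun i => by rw [inv_pow, hd, inv_one], ?_⟩
    refine (left_inv_eq_right_inv (Units.inv_mul g) (?_ : (g : Matrix (ZMod p) (ZMod p) F) * _ = 1))
    rw [eg, mon_mul, add_neg_cancel, ← mon_one]
    congr 1
    funext i
    rw [sub_add_cancel]
    exact mul_inv_cancel₀ (fun h => by have := hd i; rw [h, zero_pow hp.out.ne_zero] at this; exact zero_ne_one this)

private theorem root_ne_zero {a : F} (h : a ^ p = 1) : a ≠ 0 := fun h0 => by
  rw [h0, zero_pow hp.out.ne_zero] at h; exact zero_ne_one h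

private theorem exists_root (h1 : p ∣ Fintype.card F - 1) : ∃ w : Fˣ, orderOf w = p := by
  classical
  refine exists_prime_orderOf_dvd_card p ?_
  rwa [Fintype.card_units]

private theorem card_QQ (h1 : p ∣ Fintype.card F - 1) : Nat.card (QQ F p) = p ^ (p + 1) := by
  classical
  obtain ⟨w, hw⟩ := exists_root (F := F) h1
  have hroot : IsPrimitiveRoot (w : F) p := by
    rw [← hw, ← orderOf_units]; exact IsPrimitiveRoot.orderOf _
  let unit : (ZMod p → rootsOfUnity p F) × ZMod p → Matrix (ZMod p) (ZMod p) F :=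
    fun t => mon (fun i => ((t.1 i : Fˣ) : F)) t.2
  have hinv : ∀ t, IsUnit (unit t) := fun t => by
    refine IsUnit.of_mul_eq_one (mon (fun i => ((((t.1 (i + t.2) : Fˣ))⁻¹ : Fˣ) : F)) (-t.2)) ?_
    simp only [unit]
    rw [mon_mul, add_neg_cancel, ← mon_one]
    congr 1
    funext i
    rw [sub_add_cancel, Units.mul_inv]
  let f : (ZMod p → rootsOfUnity p F) × ZMod p → QQ F p := fun t =>
    ⟨(hinv t).unit, _, _, fun i => by
      have := (mem_rootsOfUnity' p (t.1 i : Fˣ)).1 (t.1 i).2
      exact this, (hinv t).unit_spec⟩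
  have hinj : Function.Injective f := by
    intro s t h
    have h' : unit s = unit t := by
      have := congrArg (fun z : QQ F p => ((z : GG) : Matrix (ZMod p) (ZMod p) F)) h
      simpa [f] using this
    have key : ∀ i, (if i = i - s.2 + t.2 then ((t.1 i : Fˣ) : F) else 0) = ((s.1 i : Fˣ) : F) := fun i => by
      have := congrArg (fun M : Matrix (ZMod p) (ZMod p) F => M i (i - s.2)) h'
      simp only [unit, mon, sub_add_cancel, if_true] at this
      exact this.symm
    have hj : s.2 = t.2 := by
      have := key 0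
      split_ifs at this with hh
      · linear_combination hh
      · exact absurd this.symm (Units.ne_zero _)
    refine Prod.ext (funext fun i => ?_) hj
    have := key i
    rw [if_pos (by rw [hj]; ring)] at this
    exact (Subtype.ext (Units.ext this)).symm
  have hsurj : Function.Surjective f := by
    rintro ⟨g, d, j, hd, eg⟩
    refine ⟨(fun i => ⟨Units.mk0 (d i) (root_ne_zero (hd i)), ?_⟩, j), Subtype.ext (Units.ext ?_)⟩
    · rw [mem_rootsOfUnity']; exact hd i
    · show _ = (g : Matrix (ZMod p) (ZMod p) F)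
      rw [eg]; exact (hinv _).unit_spec
  rw [← Nat.card_eq_of_bijective f ⟨hinj, hsurj⟩, Nat.card_prod, Nat.card_fun, Nat.card_zmod,
    hroot.card_rootsOfUnity, pow_succ]

private theorem factorization_GL (hp2 : p ≠ 2) (h1 : p ∣ Fintype.card F - 1) (h2 : ¬ p ^ 2 ∣ Fintype.card F - 1) :
    (Nat.card (GL (Fin p) F)).factorization p = p + 1 := by
  classical
  set q := Fintype.card F with hq
  have hq1 : 1 < q := Fintype.one_lt_card
  have hpq : ¬ p ∣ q := fun h => by
    have := Nat.dvd_sub h h1
    rw [show q - (q - 1) = 1 by omega] at this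
    exact hp.out.not_dvd_one this
  have hv : padicValNat p (q - 1) = 1 := by
    have hne : q - 1 ≠ 0 := by omega
    have a1 : 1 ≤ padicValNat p (q - 1) := one_le_padicValNat_of_dvd hne h1
    have a2 : ¬ 2 ≤ padicValNat p (q - 1) := fun h => h2 ((padicValNat_dvd_iff_le hne).2 h)
    omega
  have hterm : ∀ i ∈ (Finset.univ : Finset (Fin p)), (q ^ p - q ^ (i : ℕ)).factorization p = 1 + if (i : ℕ) = 0 then 1 else 0 := by
    intro i _
    have hi := i.2
    have e : q ^ p - q ^ (i : ℕ) = q ^ (i : ℕ) * (q ^ (p - i) - 1 ^ (p - i)) := by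
      rw [one_pow, Nat.mul_sub, mul_one, ← pow_add, Nat.add_sub_cancel' hi.le]
    have hpos : q ^ (p - i) - 1 ^ (p - i) ≠ 0 := by
      rw [one_pow]
      have := Nat.one_lt_pow (show p - (i : ℕ) ≠ 0 by omega) hq1
      omega
    rw [e, Nat.factorization_mul (pow_ne_zero _ (by omega)) hpos, Finsupp.add_apply,
      Nat.factorization_eq_zero_of_not_dvd (fun h => hpq (hp.out.dvd_of_dvd_pow h)), zero_add,
      Nat.factorization_def _ hp.out, padicValNat.pow_sub_pow (hp.out.odd_of_ne_two hp2) hq1 h1 hpq (by omega), hv]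
    congr 1
    split_ifs with h0
    · rw [h0, Nat.sub_zero, padicValNat_self]
    · refine padicValNat.eq_zero_of_not_dvd fun h => ?_
      have := Nat.le_of_dvd (by omega) h
      omega
  rw [Matrix.card_GL_field, ← hq, Nat.factorization_prod_apply (fun i _ => by
    have := Nat.pow_lt_pow_right hq1 i.2
    omega), Finset.sum_congr rfl hterm, Finset.sum_add_distrib, Finset.sum_boole]
  rw [Finset.sum_const, Finset.card_univ, Fintype.card_fin, smul_eq_mul, mul_one, Nat.cast_id]
  rw [show Finset.univ.filter (fun i : Fin p => (i : ℕ) = 0) = {⟨0, hp.out.pos⟩} by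
    ext i; simp only [Finset.mem_filter, Finset.mem_univ, true_and, Finset.mem_singleton, Fin.ext_iff], Finset.card_singleton]

/-- An element normalising the monomial subgroup has one nonzero entry in each row. -/
private theorem row_unique (hp2 : p ≠ 2) (h1 : p ∣ Fintype.card F - 1) {g : GG}
    (hg : ∀ z ∈ QQ F p, g * z * g⁻¹ ∈ QQ F p) {r k k' : ZMod p}
    (hk : (g : Matrix (ZMod p) (ZMod p) F) r k ≠ 0) (hk' : (g : Matrix (ZMod p) (ZMod p) F) r k' ≠ 0) : k = k' := by
  classical
  obtain ⟨w, hw⟩ := exists_root (F := F) h1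
  have hwp : (w : F) ^ p = 1 := by rw [← Units.val_pow_eq_pow_val, ← hw, pow_orderOf_eq_one, Units.val_one]
  have hw1 : (w : F) ≠ 1 := fun h => by
    rw [Units.val_eq_one.1 h, orderOf_one] at hw; exact hp.out.ne_one hw.symm
  by_contra hne
  set d : ZMod p → F := fun i => if i = k then (w : F) else 1 with hd
  have hdp : ∀ i, d i ^ p = 1 := fun i => by simp only [hd]; split_ifs; exacts [hwp, one_pow _]
  have hu : IsUnit (mon d 0) := IsUnit.of_mul_eq_one (mon (fun i => (d i)⁻¹) 0) (by
    rw [mon_mul, add_zero, ← mon_one]; congr 1; funext i; rw [sub_zero, mul_inv_cancel₀ (root_ne_zero (hdp i))])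
  have hmem : hu.unit ∈ QQ F p := ⟨d, 0, hdp, hu.unit_spec⟩
  obtain ⟨e, l, he, hz⟩ := hg _ hmem
  have hz' : (g : Matrix (ZMod p) (ZMod p) F) * mon d 0 * ((g⁻¹ : GG) : Matrix (ZMod p) (ZMod p) F) = mon e l := by
    rw [← hz, Units.val_mul, Units.val_mul, hu.unit_spec]
  have hl : l = 0 := by
    by_contra hl
    have t1 : Matrix.trace (mon d 0) = 0 := by
      rw [← Matrix.trace_units_conj g, hz', trace_mon _ hl]
    have t2 : Matrix.trace (mon d 0 * mon d 0) = 0 := by
      have e2 : (g : Matrix (ZMod p) (ZMod p) F) * (mon d 0 * mon d 0) * ((g⁻¹ : GG) : Matrix (ZMod p) (ZMod p) F) =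
          mon e l * mon e l := by
        rw [← hz']
        simp only [mul_assoc, Units.inv_mul_cancel_left]
      rw [← Matrix.trace_units_conj g, e2, mon_mul]
      refine trace_mon _ fun h => hl ?_
      have h2 : (2 : ZMod p) ≠ 0 := fun h2 => hp2 ((Nat.prime_dvd_prime_iff_eq hp.out Nat.prime_two).1
        ((ZMod.natCast_eq_zero_iff 2 p).1 (by exact_mod_cast h2)))
      rw [← two_mul] at h
      exact (mul_eq_zero.1 h).resolve_left h2
    have s1 : ∀ a : F, ∑ i : ZMod p, (if i = k then a else 1) = a - 1 + (p : F) := by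
      intro a
      rw [← Finset.add_sum_erase _ _ (Finset.mem_univ k), if_pos rfl,
        Finset.sum_congr rfl (fun i hi => if_neg (Finset.ne_of_mem_erase hi)), Finset.sum_const,
        Finset.card_erase_of_mem (Finset.mem_univ k), Finset.card_univ, ZMod.card, nsmul_one,
        Nat.cast_sub hp.out.pos, Nat.cast_one]
      ring
    rw [mon_mul] at t2
    simp only [Matrix.trace, Matrix.diag, mon, add_zero, sub_zero, if_true, hd] at t1 t2
    rw [s1] at t1
    rw [Finset.sum_congr rfl (fun i _ => show (if i = k then (w : F) else 1) * (if i = k then (w : F) else 1)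
      = if i = k then (w : F) * w else 1 by split_ifs <;> simp), s1] at t2
    have : (w : F) * ((w : F) - 1) = 0 := by linear_combination t2 - t1
    rcases mul_eq_zero.1 this with h | h
    · exact w.ne_zero h
    · exact hw1 (sub_eq_zero.1 h)
  rw [hl] at hz'
  have heq : (g : Matrix (ZMod p) (ZMod p) F) * mon d 0 = mon e 0 * g := by
    rw [← hz', mul_assoc _ ((g⁻¹ : GG) : Matrix (ZMod p) (ZMod p) F), Units.inv_mul, mul_one]
  have entry : ∀ c, (g : Matrix (ZMod p) (ZMod p) F) r c ≠ 0 → d c = e r := by
    intro c hc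
    have h := congrArg (fun M : Matrix (ZMod p) (ZMod p) F => M r c) heq
    simp only [Matrix.mul_apply, mon, add_zero] at h
    rw [Finset.sum_eq_single c (fun t _ ht => by rw [if_neg ht, mul_zero]) (by simp), if_pos rfl,
      Finset.sum_eq_single r (fun t _ ht => by rw [if_neg (Ne.symm ht), zero_mul]) (by simp), if_pos rfl,
      mul_comm] at h
    exact mul_right_cancel₀ hc h
  have := (entry k hk).trans (entry k' hk').symm
  simp only [hd, if_pos rfl, if_neg (Ne.symm hne)] at this
  exact hw1 this

private theorem main (hp2 : p ≠ 2) (h1 : p ∣ Fintype.card F - 1) (h2 : ¬ p ^ 2 ∣ Fintype.card F - 1) :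
    ∃ Q : Sylow p GG, ∀ x : GG, (∃ k : ℕ, orderOf x = p ^ k) → ∃ P : Sylow p GG, P ≠ Q ∧ x ∈ P := by
  classical
  have hp3 : 3 ≤ p := by have := hp.out.two_le; omega
  let e : Fin p ≃ ZMod p :=
    { toFun := fun t => ((t : ℕ) : ZMod p)
      invFun := fun z => ⟨z.val, ZMod.val_lt z⟩
      left_inv := fun t => Fin.ext (ZMod.val_natCast_of_lt t.2)
      right_inv := fun z => ZMod.natCast_zmod_val z }
  have hcard : (Nat.card GG).factorization p = p + 1 := by
    rw [← Nat.card_congr (Units.mapEquiv (Matrix.reindexAlgEquiv F F e).toMulEquiv).toEquiv]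
    exact factorization_GL hp2 h1 h2
  set Q : Sylow p GG := Sylow.ofCard (QQ F p) (by rw [card_QQ h1, hcard]) with hQ
  have hQc : (Q : Subgroup GG) = QQ F p := rfl
  refine ⟨Q, fun x hx => ?_⟩
  by_cases hxQ : x ∈ Q
  swap
  · obtain ⟨k, hk⟩ := hx
    obtain ⟨P, hP⟩ := (IsPGroup.of_card (p := p) (n := k) (by rw [Nat.card_zpowers, hk]) :
      IsPGroup p (Subgroup.zpowers x)).exists_le_sylow
    exact ⟨P, fun h => hxQ (h ▸ hP (Subgroup.mem_zpowers x)), hP (Subgroup.mem_zpowers x)⟩
  -- a non-monomial element carrying a point of `Q` to `x`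
  suffices h : ∃ g z : GG, z ∈ QQ F p ∧ x = g * z * g⁻¹ ∧
      ∃ r k k', k ≠ k' ∧ (g : Matrix (ZMod p) (ZMod p) F) r k ≠ 0 ∧ (g : Matrix (ZMod p) (ZMod p) F) r k' ≠ 0 by
    obtain ⟨g, z, hz, hxz, r, k, k', hne, hk, hk'⟩ := h
    refine ⟨g • Q, fun hgQ => hne ?_, ?_⟩
    · refine row_unique hp2 h1 (fun y hy => ?_) hk hk'
      have := Sylow.smul_eq_iff_mem_normalizer.1 hgQ
      exact (Subgroup.mem_normalizer_iff.1 this y).1 hy
    · show x ∈ ((g • Q : Sylow p GG) : Subgroup GG)
      rw [Sylow.coe_subgroup_smul, hxz]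
      exact Subgroup.smul_mem_pointwise_smul z (MulAut.conj g) _ hz
  obtain ⟨d, j, hd, hX⟩ := hxQ
  have hcentral : ∀ g : GG, Commute (g : Matrix (ZMod p) (ZMod p) F) (x : Matrix (ZMod p) (ZMod p) F) →
      x = g * x * g⁻¹ := fun g hg => by
    rw [show g * x = x * g from Units.ext hg.eq, mul_inv_cancel_right]
  have hxQQ : x ∈ QQ F p := ⟨d, j, hd, hX⟩
  by_cases hj : j = 0
  · subst hj
    by_cases hrep : ∃ i k, i ≠ k ∧ d i = d k
    · obtain ⟨i, k, hik, hdk⟩ := hrep
      have hu : IsUnit (1 + Matrix.single i k (1 : F)) := IsUnit.of_mul_eq_one (1 - Matrix.single i k (1 : F)) (by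
        rw [add_mul, mul_sub, mul_sub, one_mul, mul_one, one_mul, Matrix.single_mul_single_of_ne _ i k i (Ne.symm hik)]
        abel)
      refine ⟨hu.unit, x, hxQQ, hcentral _ ?_, i, i, k, hik, ?_, ?_⟩
      · rw [hu.unit_spec, hX]
        refine Commute.add_left (Commute.one_left _) ?_
        show Matrix.single i k (1 : F) * mon d 0 = mon d 0 * Matrix.single i k (1 : F)
        have hmd : mon d (0 : ZMod p) = Matrix.diagonal d := by
          ext a b; simp [mon, Matrix.diagonal_apply]
        rw [hmd]
        ext a b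
        rw [Matrix.mul_diagonal, Matrix.diagonal_mul]
        by_cases h : i = a ∧ k = b
        · obtain ⟨rfl, rfl⟩ := h; simp [hdk]
        · simp [Matrix.single_apply, h]
      · rw [hu.unit_spec]; simp [Matrix.single_apply, Ne.symm hik]
      · rw [hu.unit_spec]; simp [Matrix.one_apply, hik]
    · push Not at hrep
      set h : Matrix (ZMod p) (ZMod p) F := fun i k => d i ^ k.val with hh
      have hdet : h.det ≠ 0 := by
        rw [← Matrix.det_submatrix_equiv_self e h,
          show h.submatrix e e = Matrix.vandermonde (d ∘ e) by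
            ext a b
            show d (e a) ^ (e b).val = d (e a) ^ (b : ℕ)
            rw [show (e b).val = (b : ℕ) from ZMod.val_natCast_of_lt b.2]]
        rw [Matrix.det_vandermonde_ne_zero_iff]
        exact (fun a b hab => e.injective (by_contra fun hne => hrep _ _ hne hab))
      have hu : IsUnit h := (Matrix.isUnit_iff_isUnit_det h).2 (isUnit_iff_ne_zero.2 hdet)
      have hs : IsUnit (mon (fun _ => (1 : F)) (1 : ZMod p)) := IsUnit.of_mul_eq_one (mon (fun _ => 1) (-1)) (by
        rw [mon_mul, add_neg_cancel, ← mon_one]; simp)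
      refine ⟨hu.unit, hs.unit, ⟨fun _ => 1, 1, fun _ => one_pow _, hs.unit_spec⟩, ?_, 0, 0, 1, zero_ne_one, ?_, ?_⟩
      · rw [eq_mul_inv_iff_mul_eq]
        refine Units.ext ?_
        rw [Units.val_mul, Units.val_mul, hu.unit_spec, hs.unit_spec, hX]
        ext i k
        rw [Matrix.mul_apply, Matrix.mul_apply, Finset.sum_eq_single i, Finset.sum_eq_single (k + 1)]
        · simp only [mon, add_zero, if_true, hh]
          rw [mul_one, ← pow_succ', ZMod.val_add, ZMod.val_one_eq_one_mod, Nat.add_mod_mod]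
          conv_lhs => rw [← Nat.mod_add_div (k.val + 1) p, pow_add, pow_mul, hd, one_pow, mul_one]
        · intro t _ ht; simp [mon, ht]
        · simp
        · intro t _ ht; simp [mon, Ne.symm ht]
        · simp
      · rw [hu.unit_spec]; exact pow_ne_zero _ (root_ne_zero (hd 0))
      · rw [hu.unit_spec]; exact pow_ne_zero _ (root_ne_zero (hd 0))
  · -- a full cycle
    set X := mon d j with hXdef
    set c := ∏ i : ZMod p, d i with hc
    have hXp : X ^ p = c • (1 : Matrix (ZMod p) (ZMod p) F) := by
      rw [hXdef, mon_pow, ZMod.natCast_self, zero_mul]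
      have hprod : ∀ i, ∏ s ∈ Finset.range p, d (i - (s : ZMod p) * j) = c := by
        intro i
        refine Finset.prod_bij' (fun s _ => i - (s : ZMod p) * j) (fun z _ => ((i - z) * j⁻¹).val)
          (fun _ _ => Finset.mem_univ _) (fun z _ => Finset.mem_range.2 (ZMod.val_lt _)) ?_ ?_ (fun _ _ => rfl)
        · intro s hs
          rw [sub_sub_cancel, mul_assoc, mul_inv_cancel₀ hj, mul_one, ZMod.val_natCast_of_lt (Finset.mem_range.1 hs)]
        · intro z _
          rw [ZMod.natCast_zmod_val, mul_assoc, inv_mul_cancel₀ hj, mul_one, sub_sub_cancel]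
      simp only [hprod]
      ext a b
      simp [mon, Matrix.one_apply]
    by_cases hb : ∃ b : F, b ≠ 0 ∧ b ^ p ≠ c
    · obtain ⟨b, hb0, hbc⟩ := hb
      set B := b • (1 : Matrix (ZMod p) (ZMod p) F) with hB
      have hcomm : Commute X B := (Commute.one_right X).smul_right b
      have hu : IsUnit (X - B) := by
        have he := hcomm.mul_geom_sum₂ p
        have hsc : X ^ p - B ^ p = (c - b ^ p) • (1 : Matrix (ZMod p) (ZMod p) F) := by
          rw [hXp, hB, smul_pow, one_pow, sub_smul]
        refine IsUnit.of_mul_eq_one ((c - b ^ p)⁻¹ • ∑ i ∈ Finset.range p, X ^ i * B ^ (p - 1 - i)) ?_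
        rw [mul_smul_comm, he, hsc, smul_smul, inv_mul_cancel₀ (sub_ne_zero.2 (Ne.symm hbc)), one_smul]
      refine ⟨hu.unit, x, hxQQ, hcentral _ ?_, 0, 0, -j, fun h => hj (neg_eq_zero.1 h.symm), ?_, ?_⟩
      · rw [hu.unit_spec, hX]; exact (Commute.refl X).sub_left hcomm.symm
      · rw [hu.unit_spec]; simp [hXdef, hB, mon, Ne.symm hj, hb0]
      · rw [hu.unit_spec]; simp [hXdef, hB, mon, Matrix.one_apply, Ne.symm hj, hj, root_ne_zero (hd 0)]
    · push Not at hb
      have hc1 : c = 1 := by rw [← hb 1 one_ne_zero, one_pow]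
      rw [hc1, one_smul] at hXp
      obtain ⟨a, ha0, ha1⟩ : ∃ a : F, a ≠ 0 ∧ a ≠ 1 := by
        by_contra h
        push Not at h
        obtain ⟨w, hw⟩ := exists_root (F := F) h1
        have := h w w.ne_zero
        rw [Units.val_eq_one.1 this, orderOf_one] at hw
        exact hp.out.ne_one hw.symm
      have hpF : (p : F) ≠ 0 := by
        intro h
        obtain ⟨c', hc'⟩ := CharP.exists F
        haveI := hc'
        haveI := Fact.mk (CharP.char_is_prime F c')
        obtain ⟨f, -, hf⟩ := FiniteField.card F c'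
        have hcp : c' = p := (Nat.prime_dvd_prime_iff_eq Fact.out hp.out).1 ((CharP.cast_eq_zero_iff F c' p).1 h)
        have h3 : p ∣ Fintype.card F := by rw [hf, hcp]; exact dvd_pow_self p f.pos.ne'
        have h4 := Nat.dvd_sub h3 h1
        have : 0 < Fintype.card F := Fintype.card_pos
        rw [show Fintype.card F - (Fintype.card F - 1) = 1 by omega] at h4
        exact hp.out.not_dvd_one h4
      set S := ∑ t ∈ Finset.range p, X ^ t with hS
      have hXS : X * S = S := by
        have h1' := geom_sum_succ (x := X) (n := p)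
        rw [Finset.sum_range_succ, hXp] at h1'
        exact (add_right_cancel h1').symm
      have hSS : S * S = (p : F) • S := by
        have : ∀ t, X ^ t * S = S := fun t => by
          induction t with
          | zero => simp
          | succ t ih => rw [pow_succ, mul_assoc, hXS, ih]
        conv_lhs => arg 1; rw [hS]
        rw [Finset.sum_mul, Finset.sum_congr rfl (fun t _ => this t), Finset.sum_const, Finset.card_range,
          Nat.cast_smul_eq_nsmul]
      have hu : IsUnit (1 + ((a - 1) / p) • S) := by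
        refine IsUnit.of_mul_eq_one (1 + ((a⁻¹ - 1) / p) • S) ?_
        rw [add_mul, one_mul, mul_add, mul_one, smul_mul_smul_comm, hSS, smul_smul, add_assoc, ← add_smul, ← add_smul]
        convert add_zero (1 : Matrix (ZMod p) (ZMod p) F) using 2
        convert zero_smul F S using 2
        field_simp
        ring
      have ent : ∀ t : ℕ, t < p → t ≠ 0 → S 0 (-((t : ZMod p) * j)) ≠ 0 ∧ -((t : ZMod p) * j) ≠ 0 := by
        intro t ht ht0
        have hne : (t : ZMod p) * j ≠ 0 := mul_ne_zero (fun h => ht0 (by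
          have := congrArg ZMod.val h; rwa [ZMod.val_natCast_of_lt ht, ZMod.val_zero] at this)) hj
        refine ⟨?_, neg_ne_zero.2 hne⟩
        rw [hS, Matrix.sum_apply, Finset.sum_eq_single t]
        · rw [hXdef, mon_pow]
          simp only [mon, neg_add_cancel, if_true]
          exact Finset.prod_ne_zero_iff.2 fun s _ => root_ne_zero (hd _)
        · intro s hs hst
          rw [hXdef, mon_pow]
          simp only [mon]
          rw [if_neg]
          intro h
          refine hst ?_
          have h' : (s : ZMod p) = (t : ZMod p) := mul_right_cancel₀ hj (by linear_combination -h)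
          have := congrArg ZMod.val h'
          rwa [ZMod.val_natCast_of_lt (Finset.mem_range.1 hs), ZMod.val_natCast_of_lt ht] at this
        · intro h; exact absurd (Finset.mem_range.2 ht) h
      obtain ⟨s1, n1⟩ := ent 1 (by omega) one_ne_zero
      obtain ⟨s2, n2⟩ := ent 2 (by omega) (by norm_num)
      refine ⟨hu.unit, x, hxQQ, hcentral _ ?_, 0, -(((1 : ℕ) : ZMod p) * j), -(((2 : ℕ) : ZMod p) * j), ?_, ?_, ?_⟩
      · rw [hu.unit_spec, hX]
        refine (Commute.one_left _).add_left (Commute.smul_left ?_ _)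
        exact Commute.sum_left _ _ _ fun t _ => (Commute.refl X).pow_left t
      pick_goal 2
      · rw [hu.unit_spec]
        simp only [Matrix.add_apply, Matrix.one_apply_ne (Ne.symm n1), Matrix.smul_apply, zero_add, smul_eq_mul]
        exact mul_ne_zero (div_ne_zero (sub_ne_zero.2 ha1) hpF) s1
      pick_goal 2
      · rw [hu.unit_spec]
        simp only [Matrix.add_apply, Matrix.one_apply_ne (Ne.symm n2), Matrix.smul_apply, zero_add, smul_eq_mul]
        exact mul_ne_zero (div_ne_zero (sub_ne_zero.2 ha1) hpF) s2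
      intro h
      have h' := mul_right_cancel₀ hj (neg_injective h)
      have := congrArg ZMod.val h'
      rw [ZMod.val_natCast_of_lt (by omega : 1 < p), ZMod.val_natCast_of_lt (by omega : 2 < p)] at this
      omega

end


/-- Let p be an odd prime and F a finite field with q elements such that p divides q - 1 but p² does not. Then GL(p, F) has a Sylow p-subgroup Q such that every element of p-power order lies in some Sylow p-subgroup other than Q (a redundant Sylow p-subgroup). -/
theorem result {F : Type*} [Field F] [Fintype F] (p : ℕ) [Fact p.Prime]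
    (hp : p ≠ 2) (h1 : p ∣ Fintype.card F - 1) (h2 : ¬ p ^ 2 ∣ Fintype.card F - 1) :
    ∃ Q : Sylow p (Matrix.GeneralLinearGroup (Fin p) F), ∀ x : Matrix.GeneralLinearGroup (Fin p) F,
      (∃ k : ℕ, orderOf x = p ^ k) → ∃ P : Sylow p (Matrix.GeneralLinearGroup (Fin p) F), P ≠ Q ∧ x ∈ P := by
  classical
  let e : Fin p ≃ ZMod p :=
    { toFun := fun t => ((t : ℕ) : ZMod p)
      invFun := fun z => ⟨z.val, ZMod.val_lt z⟩
      left_inv := fun t => Fin.ext (ZMod.val_natCast_of_lt t.2)
      right_inv := fun z => ZMod.natCast_zmod_val z }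
  let φ : Matrix.GeneralLinearGroup (Fin p) F ≃* (Matrix (ZMod p) (ZMod p) F)ˣ :=
    Units.mapEquiv (Matrix.reindexAlgEquiv F F e).toMulEquiv
  obtain ⟨Q, hQ⟩ := main (F := F) hp h1 h2
  have hc : Nat.card ((Q : Subgroup _).map φ.symm.toMonoidHom) = p ^ (Nat.card (GL (Fin p) F)).factorization p := by
    rw [Subgroup.card_map_of_injective (K := (Q : Subgroup _)) (f := φ.symm.toMonoidHom) φ.symm.injective, Q.card_eq_multiplicity, Nat.card_congr φ.toEquiv]
  refine ⟨Sylow.ofCard _ hc, fun x hx => ?_⟩
  obtain ⟨k, hk⟩ := hx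
  obtain ⟨P, hne, hxP⟩ := hQ (φ x) ⟨k, by rw [MulEquiv.orderOf_eq]; exact hk⟩
  have hc' : Nat.card ((P : Subgroup _).map φ.symm.toMonoidHom) = p ^ (Nat.card (GL (Fin p) F)).factorization p := by
    rw [Subgroup.card_map_of_injective (K := (P : Subgroup _)) (f := φ.symm.toMonoidHom) φ.symm.injective, P.card_eq_multiplicity, Nat.card_congr φ.toEquiv]
  refine ⟨Sylow.ofCard _ hc', fun h => hne (Sylow.ext ?_), ⟨φ x, hxP, φ.symm_apply_apply x⟩⟩
  exact Subgroup.map_injective φ.symm.injective (congrArg (fun R : Sylow p (GL (Fin p) F) => (R : Subgroup (GL (Fin p) F))) h :)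

end Cfsg.Agent.S4358
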