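import Cfsg.Statements.S4359

set_option autoImplicit false
open Pointwise
open Cfsg

namespace Cfsg.Agent.S4359

variable {G : Type*} [Group G] [Finite G]

omit [Finite G] in
theorem gl_card_smul (f : MulAut G) (S : Subgroup G) : Nat.card ↥(f • S) = Nat.card S :=
  (Nat.card_congr (Subgroup.equivSMul f S).toEquiv).symm

theorem gl_eq_of_le_card {H K : Subgroup G} (h : H ≤ K) (hc : Nat.card H = Nat.card K) : H = K :=
  Subgroup.eq_of_le_of_card_ge h hc.ge

theorem gl_between {p : ℕ} (hp : p.Prime) {H L M : Subgroup G} (h1 : H ≤ L) (h2 : L ≤ M)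
    (hc : Nat.card M = p * Nat.card H) : L = H ∨ L = M := by
  obtain ⟨m, hm⟩ := Subgroup.card_dvd_of_le h1
  obtain ⟨k, hk⟩ := Subgroup.card_dvd_of_le h2
  have hH : 0 < Nat.card H := Nat.card_pos
  have : p = m * k := by
    rw [hm] at hk; rw [hk] at hc
    exact Nat.eq_of_mul_eq_mul_left hH (by linarith)
  rcases hp.eq_one_or_self_of_dvd m ⟨k, this⟩ with h | h
  · left; exact (gl_eq_of_le_card h1 (by rw [hm, h, mul_one])).symm
  · right; exact gl_eq_of_le_card h2 (by rw [hm, hc, h, mul_comm])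

/-- The combinatorial part: generators `a l` translated by an automorphism. -/
theorem gl_combinatorics {p : ℕ} (hp : p.Prime) (d : MulAut G) (a : ℤ → G)
    (hshift : ∀ j l : ℤ, (d ^ j) (a l) = a (l + j))
    (A : ℤ → ℕ → Subgroup G) (hA : ∀ i m, A i m = Subgroup.closure (a '' Set.Ico i (i + (m : ℤ))))
    (t : ℕ) (ht : 1 ≤ t) (hcard : ∀ i m, m ≤ t → Nat.card (A i m) = p ^ m)
    (n : ℕ) (hn : 1 ≤ n)
    (hcen : ∀ i : ℤ, 0 ≤ i → i < t → ∃ l : ℤ, -(n : ℤ) ≤ l ∧ l < t ∧ ¬ Commute (a i) (a l)) :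
    t ≤ 3 * n ∧ t ≠ 3 * n - 1 := by
  have hmem : ∀ (i : ℤ) (m : ℕ) (l : ℤ), i ≤ l → l < i + m → a l ∈ A i m := fun i m l h h' => by
    rw [hA]; exact Subgroup.subset_closure ⟨l, ⟨h, h'⟩, rfl⟩
  have hmono : ∀ (i j : ℤ) (m k : ℕ), i ≤ j → j + (k : ℤ) ≤ i + m → A j k ≤ A i m := by
    intro i j m k h h'
    rw [hA j k, Subgroup.closure_le]
    rintro _ ⟨l, ⟨hl, hl'⟩, rfl⟩
    exact hmem i m l (by omega) (by omega)
  -- intersection of a block with a block shifted by one
  have hinf : ∀ (i : ℤ) (k M : ℕ), 1 ≤ k → k ≤ M + 1 → M + 1 ≤ t →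
      A i k ⊓ A (i + 1) M = A (i + 1) (k - 1) := by
    intro i k M hk hkM hM
    have hlow : A (i + 1) (k - 1) ≤ A i k ⊓ A (i + 1) M :=
      le_inf (hmono _ _ _ _ (by omega) (by omega)) (hmono _ _ _ _ (by omega) (by omega))
    have hc : Nat.card (A i k) = p * Nat.card (A (i + 1) (k - 1)) := by
      rw [hcard _ _ (by omega), hcard _ _ (by omega), ← pow_succ']
      congr 1; omega
    rcases gl_between hp hlow inf_le_left hc with h | h
    · exact h
    · exfalso
      have hle : A i k ≤ A (i + 1) M := inf_eq_left.1 h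
      have hbig : A i (M + 1) ≤ A (i + 1) M := by
        rw [hA i (M + 1), Subgroup.closure_le]
        rintro _ ⟨l, ⟨hl, hl'⟩, rfl⟩
        by_cases he : l = i
        · subst he; exact hle (hmem _ _ _ le_rfl (by omega))
        · exact hmem _ _ _ (by omega) (by push_cast at hl' ⊢; omega)
      have := Subgroup.card_le_of_le hbig
      rw [hcard _ _ hM, hcard _ _ (by omega), pow_succ'] at this
      have hp2 := hp.two_le
      have hpos : 0 < p ^ M := pow_pos hp.pos M
      nlinarith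
  -- disjointness of adjacent blocks
  have hdisj : ∀ (k : ℕ) (i : ℤ) (l : ℕ), k + l ≤ t → A i k ⊓ A (i + (k : ℤ)) l = ⊥ := by
    intro k
    induction k with
    | zero =>
      intro i l _
      rw [hA i 0]; simp
    | succ k ih =>
      intro i l hkl
      rw [eq_bot_iff]
      intro x hx
      have h1 : x ∈ A i (k + 1) := hx.1
      have h2 : x ∈ A (i + ((k + 1 : ℕ) : ℤ)) l := hx.2
      have h3 : x ∈ A (i + 1) (k + l) := hmono _ _ _ _ (by push_cast; omega) (by push_cast; omega) h2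
      have h4 : x ∈ A (i + 1) k := by
        have := hinf i (k + 1) (k + l) (by omega) (by omega) (by omega)
        rw [show k + 1 - 1 = k by omega] at this
        rw [← this]; exact ⟨h1, h3⟩
      rw [← ih (i + 1) l (by omega)]
      exact ⟨h4, by rwa [show i + 1 + (k : ℤ) = i + ((k + 1 : ℕ) : ℤ) by push_cast; omega]⟩
  -- commutators
  have hcommut : ∀ (i j : ℤ) (m : ℕ), j = i + (m : ℤ) → 1 ≤ m → m + 1 ≤ t →
      a i * a j * (a i)⁻¹ * (a j)⁻¹ ∈ A (i + 1) (m - 1) := by
    intro i j m hj hm hmt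
    subst hj
    rw [← hinf i m m hm (by omega) hmt]
    have hM : Nat.card (A i (m + 1)) = p ^ (m + 1) := hcard _ _ hmt
    have hnorm : ∀ H : Subgroup G, H ≤ A i (m + 1) → Nat.card H = p ^ m →
        ∀ x ∈ A i (m + 1), ∀ y ∈ H, x * y * x⁻¹ ∈ H := by
      intro H hH hHc x hx y hy
      have hidx : (H.subgroupOf (A i (m + 1))).index = (Nat.card (A i (m + 1))).minFac := by
        rw [hM, Nat.pow_minFac (by omega), hp.minFac_eq]
        have h := Subgroup.card_mul_index (H.subgroupOf (A i (m + 1)))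
        rw [Nat.card_congr (Subgroup.subgroupOfEquivOfLe hH).toEquiv, hHc, hM, pow_succ] at h
        exact Nat.eq_of_mul_eq_mul_left (pow_pos hp.pos m) h
      have := Subgroup.normal_of_index_eq_minFac_card hidx
      exact this.conj_mem ⟨y, hH hy⟩ (Subgroup.mem_subgroupOf.2 hy) ⟨x, hx⟩
    have hH : A i m ≤ A i (m + 1) := hmono _ _ _ _ le_rfl (by push_cast; omega)
    have hL : A (i + 1) m ≤ A i (m + 1) := hmono _ _ _ _ (by omega) (by push_cast; omega)
    have hx : a i ∈ A i m := hmem _ _ _ le_rfl (by omega)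
    have hy : a (i + m) ∈ A (i + 1) m := hmem _ _ _ (by omega) (by omega)
    refine ⟨?_, ?_⟩
    · show a i * a (i + m) * (a i)⁻¹ * (a (i + m))⁻¹ ∈ A i m
      have := hnorm _ hH (hcard _ _ (by omega)) _ (hL hy) _ (inv_mem hx)
      simpa [mul_assoc] using mul_mem hx this
    · show a i * a (i + m) * (a i)⁻¹ * (a (i + m))⁻¹ ∈ A (i + 1) m
      exact mul_mem (hnorm _ hL (hcard _ _ (by omega)) _ (hH hx) _ hy) (inv_mem hy)
  have hex : ∃ l : ℕ, 1 ≤ l ∧ (¬ Commute (a 0) (a (l : ℤ)) ∨ l = t) := ⟨t, ht, Or.inr rfl⟩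
  classical
  obtain ⟨s, hs1, hst, hsmin, hsnc⟩ : ∃ s : ℕ, 1 ≤ s ∧ s ≤ t ∧
      (∀ l : ℕ, l < s → Commute (a 0) (a (l : ℤ))) ∧ (s < t → ¬ Commute (a 0) (a (s : ℤ))) := by
    refine ⟨Nat.find hex, (Nat.find_spec hex).1, Nat.find_le ⟨ht, Or.inr rfl⟩, ?_, ?_⟩
    · intro l hl
      rcases Nat.eq_zero_or_pos l with h | h
      · subst h; exact Commute.refl _
      · by_contra hc; exact Nat.find_min hex hl ⟨h, Or.inl hc⟩
    · intro h
      rcases (Nat.find_spec hex).2 with h' | h'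
      · exact h'
      · omega
  have hcm : ∀ i j : ℤ, j - i < s → i - j < s → Commute (a i) (a j) := by
    have key : ∀ i j : ℤ, i ≤ j → j - i < s → Commute (a i) (a j) := by
      intro i j hij h
      have := (hsmin (j - i).toNat (by omega)).map (d ^ i).toMonoidHom
      simp only [MulEquiv.toMonoidHom_eq_coe, MonoidHom.coe_coe, hshift, zero_add,
        Int.toNat_of_nonneg (by omega : 0 ≤ j - i), sub_add_cancel] at this
      exact this
    intro i j h h'
    rcases le_total i j with hij | hij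
    · exact key i j hij h
    · exact (key j i hij h').symm
  have hnc : s < t → ∀ i j : ℤ, j = i + (s : ℤ) → ¬ Commute (a i) (a j) := by
    intro hlt i j hj hc
    apply hsnc hlt
    have := hc.map (d ^ (-i)).toMonoidHom
    simp only [MulEquiv.toMonoidHom_eq_coe, MonoidHom.coe_coe, hshift] at this
    rwa [add_neg_cancel, show j + -i = (s : ℤ) by omega] at this
  have hc1 : ∀ (x : G) (i : ℤ) (m : ℕ), (∀ l : ℤ, i ≤ l → l < i + m → Commute x (a l)) →
      ∀ z ∈ A i m, Commute x z := by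
    intro x i m h z hz
    have : A i m ≤ Subgroup.centralizer ({x} : Set G) := by
      rw [hA, Subgroup.closure_le]
      rintro _ ⟨l, ⟨hl, hl'⟩, rfl⟩
      exact Subgroup.mem_centralizer_singleton_iff.2 (h l hl hl').eq.symm
    exact (Subgroup.mem_centralizer_singleton_iff.1 (this hz)).symm
  have hkey2 : 2 * s ≤ t + n := by
    by_contra hcon
    obtain ⟨l, hl, hl', hne⟩ := hcen ((t : ℤ) - s) (by omega) (by omega)
    exact hne (hcm _ _ (by omega) (by omega))
  rcases hst.eq_or_lt with hst' | hst'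
  · constructor <;> omega
  suffices h : 2 * t ≤ 3 * s by constructor <;> omega
  obtain ⟨w, hw⟩ : ∃ w, w = a 0 * a (s : ℤ) * (a 0)⁻¹ * (a (s : ℤ))⁻¹ := ⟨_, rfl⟩
  have hwA : w ∈ A 1 (s - 1) := hw ▸ (by simpa using hcommut 0 (s : ℤ) s (by omega) hs1 (by omega))
  have hwne : w ≠ 1 := by
    intro h
    apply hsnc hst'
    rw [hw, mul_inv_eq_one, mul_inv_eq_iff_eq_mul] at h
    exact h
  -- left end of w
  obtain ⟨r, hr1, hrs, hwr, hwr'⟩ : ∃ r : ℕ, 1 ≤ r ∧ r < s ∧ w ∈ A (r : ℤ) (s - r) ∧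
      w ∉ A ((r : ℤ) + 1) (s - r - 1) := by
    have hexr : ∃ k : ℕ, w ∉ A (1 + (k : ℤ)) (s - 1 - k) := by
      refine ⟨s - 1, fun h => hwne ?_⟩
      rw [Nat.sub_self, hA] at h; simpa using h
    have hle : Nat.find hexr ≤ s - 1 := Nat.find_le (fun h => hwne (by
      rw [Nat.sub_self, hA] at h; simpa using h))
    have hpos : Nat.find hexr ≠ 0 := by
      intro h
      have := Nat.find_spec hexr
      rw [h] at this
      exact this (by simpa using hwA)
    have hmin := Nat.find_min hexr (m := Nat.find hexr - 1) (by omega)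
    push Not at hmin
    refine ⟨Nat.find hexr, by omega, by omega, ?_, ?_⟩
    · convert hmin using 2 <;> omega
    · convert Nat.find_spec hexr using 3 <;> omega
  -- right end of w
  obtain ⟨m, hm1, hms, hwm, hwm'⟩ : ∃ m : ℕ, 1 ≤ m ∧ m < s ∧ w ∈ A 1 m ∧ w ∉ A 1 (m - 1) := by
    have hexm : ∃ k : ℕ, w ∈ A 1 k := ⟨_, hwA⟩
    have hpos : Nat.find hexm ≠ 0 := by
      intro h
      have := Nat.find_spec hexm
      rw [h, hA] at this
      exact hwne (by simpa using this)
    have hle : Nat.find hexm ≤ s - 1 := Nat.find_le hwA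
    exact ⟨Nat.find hexm, by omega, by omega, Nat.find_spec hexm,
      Nat.find_min hexm (by omega)⟩
  have hR : t ≤ r + s := by
    by_contra hcon
    have hxw : ¬ Commute (a ((r : ℤ) + s)) w := by
      intro hc
      have hbig : A ((r : ℤ)) (s - r) ≤ Subgroup.centralizer ({a ((r : ℤ) + s)} : Set G) := by
        have hlow : A ((r : ℤ) + 1) (s - r - 1) ≤
            A (r : ℤ) (s - r) ⊓ Subgroup.centralizer ({a ((r : ℤ) + s)} : Set G) := by
          refine le_inf (hmono _ _ _ _ (by omega) (by omega)) ?_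
          intro z hz
          exact Subgroup.mem_centralizer_singleton_iff.2
            (hc1 _ _ _ (fun l hl hl' => hcm _ _ (by omega) (by omega)) z hz).eq.symm
        have hcd : Nat.card (A (r : ℤ) (s - r)) = p * Nat.card (A ((r : ℤ) + 1) (s - r - 1)) := by
          rw [hcard _ _ (by omega), hcard _ _ (by omega), ← pow_succ']
          congr 1; omega
        rcases gl_between hp hlow inf_le_left hcd with h | h
        · exact absurd (h ▸ ⟨hwr, Subgroup.mem_centralizer_singleton_iff.2 hc.eq.symm⟩) hwr'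
        · exact inf_eq_left.1 h
      have := Subgroup.mem_centralizer_singleton_iff.1 (hbig (hmem _ _ (r : ℤ) le_rfl (by omega)))
      exact hnc hst' _ _ rfl this
    apply hxw
    obtain ⟨x, hx⟩ : ∃ x, x = a ((r : ℤ) + s) := ⟨_, rfl⟩
    rw [← hx]
    obtain ⟨u, hu⟩ : ∃ u, u = x * a 0 * x⁻¹ * (a 0)⁻¹ := ⟨_, rfl⟩
    have huA : u ∈ A 1 (r + s - 1) := by
      have h := inv_mem (hcommut 0 ((r : ℤ) + s) (r + s) (by push_cast; omega) (by omega) (by omega))
      rw [hu, hx]; simpa [mul_assoc] using h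
    have hxs : Commute x (a (s : ℤ)) := hx ▸ hcm _ _ (by omega) (by omega)
    have hus : Commute (a (s : ℤ)) u :=
      hc1 _ _ _ (fun l hl hl' => hcm _ _ (by omega) (by omega)) u huA
    have huw : Commute w u := by
      refine hc1 _ _ _ (fun l hl hl' => ?_) u huA
      exact (hc1 _ _ _ (fun l' hl2 hl2' => hcm _ _ (by omega) (by omega)) w hwr).symm
    have h0 : x * a 0 * x⁻¹ = u * a 0 := by rw [hu]; group
    have hkey : x * w * x⁻¹ = w := by
      calc x * w * x⁻¹ = (x * a 0 * x⁻¹) * (x * a (s : ℤ) * x⁻¹) * (x * a 0 * x⁻¹)⁻¹ *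
            (x * a (s : ℤ) * x⁻¹)⁻¹ := by rw [hw]; group
        _ = u * a 0 * a (s : ℤ) * (a 0)⁻¹ * (u⁻¹ * (a (s : ℤ))⁻¹) := by
          rw [h0, hxs.eq, mul_inv_cancel_right]; group
        _ = u * a 0 * a (s : ℤ) * (a 0)⁻¹ * ((a (s : ℤ))⁻¹ * u⁻¹) := by
          rw [(hus.symm.inv_inv).eq]
        _ = u * w * u⁻¹ := by rw [hw]; group
        _ = w := by rw [← huw.eq, mul_inv_cancel_right]
    exact mul_inv_eq_iff_eq_mul.1 hkey
  have hL : t + m ≤ 2 * s := by
    by_contra hcon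
    have hxw : ¬ Commute (a ((m : ℤ) - s)) w := by
      intro hc
      have hbig : A 1 m ≤ Subgroup.centralizer ({a ((m : ℤ) - s)} : Set G) := by
        have hlow : A 1 (m - 1) ≤ A 1 m ⊓ Subgroup.centralizer ({a ((m : ℤ) - s)} : Set G) := by
          refine le_inf (hmono _ _ _ _ le_rfl (by omega)) ?_
          intro z hz
          exact Subgroup.mem_centralizer_singleton_iff.2
            (hc1 _ _ _ (fun l hl hl' => hcm _ _ (by omega) (by omega)) z hz).eq.symm
        have hcd : Nat.card (A 1 m) = p * Nat.card (A 1 (m - 1)) := by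
          rw [hcard _ _ (by omega), hcard _ _ (by omega), ← pow_succ']
          congr 1; omega
        rcases gl_between hp hlow inf_le_left hcd with h | h
        · exact absurd (h ▸ ⟨hwm, Subgroup.mem_centralizer_singleton_iff.2 hc.eq.symm⟩) hwm'
        · exact inf_eq_left.1 h
      have := Subgroup.mem_centralizer_singleton_iff.1 (hbig (hmem _ _ (m : ℤ) (by omega) (by omega)))
      exact hnc hst' ((m : ℤ) - s) m (by omega) (Eq.symm this)
    apply hxw
    obtain ⟨x, hx⟩ : ∃ x, x = a ((m : ℤ) - s) := ⟨_, rfl⟩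
    rw [← hx]
    obtain ⟨u, hu⟩ : ∃ u, u = x * a (s : ℤ) * x⁻¹ * (a (s : ℤ))⁻¹ := ⟨_, rfl⟩
    have huA : u ∈ A ((m : ℤ) - s + 1) (2 * s - m - 1) := by
      rw [hu, hx]
      exact hcommut _ _ _ (by omega) (by omega) (by omega)
    have hx0 : Commute x (a 0) := hx ▸ hcm _ _ (by omega) (by omega)
    have hu0 : Commute (a 0) u :=
      hc1 _ _ _ (fun l hl hl' => hcm _ _ (by omega) (by omega)) u huA
    have huw : Commute w u := by
      refine hc1 _ _ _ (fun l hl hl' => ?_) u huA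
      exact (hc1 _ _ _ (fun l' hl2 hl2' => hcm _ _ (by omega) (by omega)) w hwm).symm
    have hs' : x * a (s : ℤ) * x⁻¹ = u * a (s : ℤ) := by rw [hu]; group
    have hkey : x * w * x⁻¹ = w := by
      calc x * w * x⁻¹ = (x * a 0 * x⁻¹) * (x * a (s : ℤ) * x⁻¹) * (x * a 0 * x⁻¹)⁻¹ *
            (x * a (s : ℤ) * x⁻¹)⁻¹ := by rw [hw]; group
        _ = (a 0 * u) * a (s : ℤ) * (a 0)⁻¹ * (a (s : ℤ))⁻¹ * u⁻¹ := by
          rw [hs', hx0.eq, mul_inv_cancel_right]; group
        _ = u * w * u⁻¹ := by rw [hu0.eq, hw]; group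
        _ = w := by rw [← huw.eq, mul_inv_cancel_right]
    exact mul_inv_eq_iff_eq_mul.1 hkey
  have hrm : r ≤ m := by
    by_contra hcon
    apply hwne
    have h := hdisj m 1 (s - 1 - m) (by omega)
    have h2 : w ∈ A (1 + (m : ℤ)) (s - 1 - m) := hmono _ _ _ _ (by omega) (by omega) hwr
    exact Subgroup.mem_bot.1 (h ▸ ⟨hwm, h2⟩)
  omega

theorem result {G : Type*} [Group G] [Finite G]
    (P : Subgroup G) (g : G) (p : ℕ) (hp : p.Prime)
    (hN : ((P ⊓ MulAut.conj g⁻¹ • P).subgroupOf (MulAut.conj g⁻¹ • P)).Normal)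
    (hidx : (P ⊓ MulAut.conj g⁻¹ • P).relIndex (MulAut.conj g⁻¹ • P) = p)
    (n : ℕ) (hn : 1 ≤ n) (K : Subgroup G) (hK : K = ⨆ i ∈ Finset.range (n + 1), MulAut.conj (g ^ i)⁻¹ • P)
    (h1 : ∀ Q : Subgroup G, Q ≤ P → (Q.subgroupOf P).Normal → MulAut.conj g • Q = Q → Q = ⊥)
    (h2 : P ⊓ (Subgroup.center K).map K.subtype = ⊥) :
    ∃ t : ℕ, Nat.card P = p ^ t ∧ 1 ≤ t ∧ t ≤ 3 * n ∧ t ≠ 3 * n - 1 := by
  classical
  obtain ⟨d, hd⟩ : ∃ d : MulAut G, d = MulAut.conj g := ⟨_, rfl⟩
  rw [map_inv, ← hd] at hN hidx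
  rw [← hd] at h1
  obtain ⟨Q, hQ0, hQs⟩ : ∃ Q : ℕ → Subgroup G, Q 0 = P ∧ ∀ k, Q (k + 1) = P ⊓ d⁻¹ • Q k :=
    ⟨fun k => Nat.rec P (fun _ R => P ⊓ d⁻¹ • R) k, rfl, fun _ => rfl⟩
  have hQ1 : Q 1 = P ⊓ d⁻¹ • P := by rw [hQs 0, hQ0]
  have hQmono : ∀ k, Q (k + 1) ≤ Q k := by
    intro k
    induction k with
    | zero => rw [hQ1, hQ0]; exact inf_le_left
    | succ k ih =>
      exact (hQs (k + 1)).le.trans ((inf_le_inf le_rfl
        (Subgroup.pointwise_smul_le_pointwise_smul_iff.2 ih)).trans (hQs k).ge)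
  have hQle : ∀ k, Q k ≤ P := fun k => by
    cases k with
    | zero => exact hQ0.le
    | succ k => rw [hQs]; exact inf_le_left
  have hQeq : ∀ k, Q (k + 1) = Q 1 ⊓ d⁻¹ • Q k := fun k => by
    have : d⁻¹ • Q k ≤ d⁻¹ • P := Subgroup.pointwise_smul_le_pointwise_smul_iff.2 (hQle k)
    rw [hQs k, hQ1, inf_assoc, inf_eq_right.2 this]
  have hnormal : ∀ k, ∀ x ∈ d⁻¹ • Q k, ∀ y ∈ Q (k + 1), x * y * x⁻¹ ∈ Q (k + 1) := by
    intro k x hx y hy
    rw [hQeq k, hQ1] at hy ⊢
    have hxP : x ∈ d⁻¹ • P := Subgroup.pointwise_smul_le_pointwise_smul_iff.2 (hQle k) hx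
    have hy1 := (Subgroup.mem_inf.1 hy).1
    refine Subgroup.mem_inf.2 ⟨?_, mul_mem (mul_mem hx (Subgroup.mem_inf.1 hy).2) (inv_mem hx)⟩
    exact Subgroup.mem_subgroupOf.1
      (hN.conj_mem ⟨y, (Subgroup.mem_inf.1 hy1).2⟩ (Subgroup.mem_subgroupOf.2 hy1) ⟨x, hxP⟩)
  have hdich : ∀ k, Q (k + 1) = Q k ∨ Nat.card ↥(Q k) = p * Nat.card ↥(Q (k + 1)) := by
    intro k
    have hle : d⁻¹ • Q k ≤ d⁻¹ • P := Subgroup.pointwise_smul_le_pointwise_smul_iff.2 (hQle k)
    have hdvd : (Q (k + 1)).relIndex (d⁻¹ • Q k) ∣ p := by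
      rw [hQeq k, hQ1, Subgroup.inf_relIndex_right, ← Subgroup.relIndex_subgroupOf hle, ← hidx]
      exact @Subgroup.relIndex_dvd_index_of_normal _ _ ((P ⊓ d⁻¹ • P).subgroupOf (d⁻¹ • P))
        ((d⁻¹ • Q k).subgroupOf (d⁻¹ • P)) hN
    have hsub : Q (k + 1) ≤ d⁻¹ • Q k := by rw [hQs]; exact inf_le_right
    have hmul : Nat.card ↥(Q (k + 1)) * (Q (k + 1)).relIndex (d⁻¹ • Q k) = Nat.card ↥(Q k) := by
      rw [← Subgroup.relIndex_bot_left, Subgroup.relIndex_mul_relIndex ⊥ _ _ bot_le hsub,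
        Subgroup.relIndex_bot_left, gl_card_smul]
    rcases hp.eq_one_or_self_of_dvd _ hdvd with h | h
    · left; rw [h, mul_one] at hmul; exact gl_eq_of_le_card (hQmono k) hmul
    · right; rw [h] at hmul; rw [← hmul, mul_comm]
  have hstab : ∃ k, Q (k + 1) = Q k := by
    by_contra hcon
    push Not at hcon
    have : ∀ k, Nat.card ↥(Q k) + k ≤ Nat.card P := by
      intro k
      induction k with
      | zero => simp [hQ0]
      | succ k ih =>
        have h := ((hdich k).resolve_left (hcon k))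
        have hpos : 0 < Nat.card ↥(Q (k + 1)) := Nat.card_pos
        nlinarith [hp.two_le]
    have := this (Nat.card P)
    have : 0 < Nat.card ↥(Q (Nat.card P)) := Nat.card_pos
    omega
  obtain ⟨t, htdef, htmin⟩ : ∃ t, Q (t + 1) = Q t ∧ ∀ k < t, Q (k + 1) ≠ Q k :=
    ⟨Nat.find hstab, Nat.find_spec hstab, fun k hk => Nat.find_min hstab hk⟩
  have hstep : ∀ k < t, Nat.card ↥(Q k) = p * Nat.card ↥(Q (k + 1)) := fun k hk =>
    (hdich k).resolve_left (htmin k hk)
  have ht1 : 1 ≤ t := by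
    by_contra h
    have h0 : t = 0 := by omega
    subst h0
    have e : P ⊓ d⁻¹ • P = P := by rw [← hQ1, htdef, hQ0]
    rw [e] at hidx
    have he : P = d⁻¹ • P := gl_eq_of_le_card (inf_eq_left.1 e) (gl_card_smul _ _).symm
    rw [← he, Subgroup.relIndex_self] at hidx
    exact hp.ne_one hidx.symm
  have hjoin : ∀ k, k + 1 < t → Q k = Q (k + 1) ⊔ d • Q (k + 1) := by
    intro k hk
    have hle : d • Q (k + 1) ≤ Q k := by
      have hsub : Q (k + 1) ≤ d⁻¹ • Q k := by rw [hQs]; exact inf_le_right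
      have : d • Q (k + 1) ≤ d • (d⁻¹ • Q k) := Subgroup.pointwise_smul_le_pointwise_smul_iff.2 hsub
      rwa [smul_inv_smul] at this
    rcases gl_between hp le_sup_left (sup_le (hQmono k) hle) (hstep k (by omega)) with h | h
    · exfalso
      have he : d • Q (k + 1) = Q (k + 1) :=
        gl_eq_of_le_card (le_sup_right.trans h.le) (gl_card_smul _ _)
      have he2 : d⁻¹ • Q (k + 1) = Q (k + 1) := by
        conv_lhs => rw [← he]
        rw [inv_smul_smul]
      exact htmin (k + 1) hk ((hQs (k + 1)).trans (by rw [he2, inf_eq_right.2 (hQle _)]))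
    · exact h.symm
  have hinv : d⁻¹ • Q t = Q t :=
    (gl_eq_of_le_card (htdef.symm.le.trans ((hQs t).le.trans inf_le_right)) (gl_card_smul _ _).symm).symm
  have hinv' : d • Q t = Q t := by
    conv_lhs => rw [← hinv]
    rw [smul_inv_smul]
  have hbot : Q t = ⊥ := by
    have hN' : ∀ j, j < t → ∀ x ∈ Q (t - 1 - j), ∀ y ∈ Q t, x * y * x⁻¹ ∈ Q t := by
      intro j
      induction j with
      | zero =>
        intro _ x hx y hy
        have hx' : d⁻¹ • x ∈ d⁻¹ • Q (t - 1) := Subgroup.smul_mem_pointwise_smul _ _ _ (by simpa using hx)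
        have hy' : d⁻¹ • y ∈ Q t := hinv ▸ Subgroup.smul_mem_pointwise_smul _ _ _ hy
        have h := hnormal (t - 1) _ hx' (d⁻¹ • y) (by rwa [Nat.sub_add_cancel ht1])
        rw [Nat.sub_add_cancel ht1] at h
        have h' := Subgroup.smul_mem_pointwise_smul _ d _ h
        rw [hinv'] at h'
        simpa [smul_mul', smul_inv'] using h'
      | succ j ih =>
        intro hj x hx
        have hk : t - 1 - j = (t - 1 - (j + 1)) + 1 := by omega
        have hS := ih (by omega)
        rw [hk] at hS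
        let N : Subgroup G :=
          { carrier := {x | ∀ y, y ∈ Q t ↔ x * y * x⁻¹ ∈ Q t}
            one_mem' := by simp
            mul_mem' := fun {a b} ha hb y => by
              rw [hb y, ha (b * y * b⁻¹)]; simp [mul_assoc]
            inv_mem' := fun {a} ha y => by
              rw [ha (a⁻¹ * y * a⁻¹⁻¹)]; simp [mul_assoc] }
        have hfull : ∀ S : Subgroup G, (∀ x ∈ S, ∀ y ∈ Q t, x * y * x⁻¹ ∈ Q t) → S ≤ N := by
          intro S h x hx y
          refine ⟨h x hx y, fun hy => ?_⟩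
          have := h x⁻¹ (inv_mem hx) _ hy
          simpa [mul_assoc] using this
        have hd' : d • Q (t - 1 - (j + 1) + 1) ≤ N := by
          apply hfull
          intro x hx y hy
          obtain ⟨x₀, hx₀, rfl⟩ := hx
          rw [← hinv'] at hy ⊢
          obtain ⟨y₀, hy₀, rfl⟩ := hy
          refine ⟨_, hS x₀ hx₀ y₀ hy₀, ?_⟩
          simp
        have := hjoin (t - 1 - (j + 1)) (by omega) ▸ hx
        intro y hy
        exact ((sup_le (hfull _ hS) hd') this y).1 hy
    have h := hN' (t - 1) (by omega)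
    rw [Nat.sub_self, hQ0] at h
    refine h1 _ (hQle t) ?_ hinv'
    exact ⟨fun y hy x => Subgroup.mem_subgroupOf.2 (h x x.2 y (Subgroup.mem_subgroupOf.1 hy))⟩
  have hcardQ : ∀ m, m ≤ t → Nat.card ↥(Q (t - m)) = p ^ m := by
    intro m
    induction m with
    | zero => intro _; simp [hbot]
    | succ m ih =>
      intro hm
      rw [hstep (t - (m + 1)) (by omega), show t - (m + 1) + 1 = t - m by omega, ih (by omega), pow_succ']
  obtain ⟨e, he, hene⟩ : ∃ e ∈ Q (t - 1), e ≠ 1 := by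
    by_contra hcon
    push Not at hcon
    have : Q (t - 1) = ⊥ := (Subgroup.eq_bot_iff_forall _).2 hcon
    have h := hcardQ 1 ht1
    rw [this, Subgroup.card_bot, pow_one] at h
    exact hp.ne_one h.symm
  obtain ⟨a, ha⟩ : ∃ a : ℤ → G, ∀ l, a l = (d ^ l) e := ⟨_, fun l => rfl⟩
  have hshift : ∀ j l : ℤ, (d ^ j) (a l) = a (l + j) := by
    intro j l
    rw [ha, ha, add_comm l j, zpow_add]; rfl
  obtain ⟨A, hA⟩ : ∃ A : ℤ → ℕ → Subgroup G,
      ∀ i m, A i m = Subgroup.closure (a '' Set.Ico i (i + (m : ℤ))) := ⟨_, fun i m => rfl⟩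
  have hAs : ∀ (j i : ℤ) (m : ℕ), (d ^ j) • A i m = A (i + j) m := by
    intro j i m
    rw [hA, hA, Subgroup.smul_closure]
    congr 1
    ext x
    constructor
    · rintro ⟨_, ⟨l, ⟨hl, hl'⟩, rfl⟩, rfl⟩
      exact ⟨l + j, ⟨by omega, by omega⟩, (hshift j l).symm⟩
    · rintro ⟨l, ⟨hl, hl'⟩, rfl⟩
      exact ⟨a (l - j), ⟨l - j, ⟨by omega, by omega⟩, rfl⟩,
        (hshift j (l - j)).trans (by rw [sub_add_cancel])⟩
  have hgen : ∀ m, 1 ≤ m → m ≤ t → A 0 m = Q (t - m) := by
    intro m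
    induction m with
    | zero => intro h; omega
    | succ m ih =>
      intro _ hm
      rcases Nat.eq_zero_or_pos m with h | h
      · subst h
        have hle : A 0 1 ≤ Q (t - 1) := by
          rw [hA, Subgroup.closure_le]
          rintro _ ⟨l, ⟨hl, hl'⟩, rfl⟩
          have : l = 0 := by push_cast at hl'; omega
          subst this
          simpa [ha] using he
        rcases gl_between hp bot_le hle (by rw [Subgroup.card_bot, mul_one, hcardQ 1 ht1, pow_one]) with h | h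
        · exfalso
          apply hene
          have : a 0 ∈ A 0 1 := by rw [hA]; exact Subgroup.subset_closure ⟨0, ⟨le_rfl, by simp⟩, rfl⟩
          rw [h] at this
          simpa [ha] using this
        · exact h
      · have h' := ih h (by omega)
        have hj := hjoin (t - (m + 1)) (by omega)
        rw [show t - (m + 1) + 1 = t - m by omega, ← h'] at hj
        have hds : d • A 0 m = A 1 m := by simpa using hAs 1 0 m
        rw [hj, hds, hA, hA, hA, ← Subgroup.closure_union, ← Set.image_union]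
        congr 2
        ext l
        simp only [Set.mem_union, Set.mem_Ico]
        push_cast
        omega
  have hcardA : ∀ i m, m ≤ t → Nat.card (A i m) = p ^ m := by
    intro i m hm
    have : A i m = (d ^ i) • A 0 m := by rw [hAs, zero_add]
    rw [this, gl_card_smul]
    rcases Nat.eq_zero_or_pos m with h | h
    · subst h; rw [hA]; simp
    · rw [hgen m h hm, hcardQ m hm]
  have hP : A 0 t = P := by rw [hgen t ht1 le_rfl, Nat.sub_self, hQ0]
  refine ⟨t, by simpa [hQ0] using hcardQ t le_rfl, ht1, ?_⟩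
  refine gl_combinatorics hp d a hshift A hA t ht1 hcardA n hn ?_
  intro i hi hit
  by_contra hcon
  push Not at hcon
  have hconj : ∀ k : ℕ, MulAut.conj (g ^ k)⁻¹ • P = A (-(k : ℤ)) t := by
    intro k
    rw [← hP, map_inv, map_pow, ← hd, ← zpow_natCast, ← zpow_neg, hAs, zero_add]
  have hiP : a i ∈ P := hP ▸ (hA 0 t ▸ Subgroup.subset_closure ⟨i, ⟨hi, by omega⟩, rfl⟩)
  have hPK : P ≤ K := by
    rw [hK]
    refine le_iSup₂_of_le 0 (by simp) ?_
    simp
  have hKc : K ≤ Subgroup.centralizer ({a i} : Set G) := by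
    rw [hK, iSup₂_le_iff]
    intro k hk
    rw [Finset.mem_range] at hk
    rw [hconj k, hA, Subgroup.closure_le]
    rintro _ ⟨l, ⟨hl, hl'⟩, rfl⟩
    exact Subgroup.mem_centralizer_singleton_iff.2 (hcon l (by omega) (by omega)).eq.symm
  have hai : a i ∈ P ⊓ (Subgroup.center K).map K.subtype := by
    refine ⟨hiP, ⟨⟨a i, hPK hiP⟩, Subgroup.mem_center_iff.2 (fun y => Subtype.ext ?_), rfl⟩⟩
    exact Subgroup.mem_centralizer_singleton_iff.1 (hKc y.2)
  rw [h2, Subgroup.mem_bot, ha] at hai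
  apply hene
  have := congrArg (d ^ (-i)) hai
  simpa [← MulAut.mul_apply, ← zpow_add] using this

end Cfsg.Agent.S4359
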