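import Cfsg.Statements.S4364
import Mathlib
import Cfsg.Agent.Lib.FGS.Kazarin
import Cfsg.Agent.Lib.Basics.Cores

set_option autoImplicit false
open Cfsg
open scoped Pointwise
set_option linter.all false

namespace Cfsg.Agent.S4364

open Subgroup in
lemma commute_fitting {H : Type*} [Group H] [Finite H] {p : ℕ} [hp : Fact p.Prime]
    (hO : Cfsg.pCore p H = ⊥) {y : H}
    (hy : ∃ a, (centralizer ({y} : Set H)).index = p ^ a) :
    ∀ w ∈ Cfsg.fittingSubgroup H, Commute w y := by
  obtain ⟨a, ha⟩ := hy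
  suffices h : Cfsg.fittingSubgroup H ≤ centralizer ({y} : Set H) from fun w hw =>
    mem_centralizer_singleton_iff.1 (h hw)
  rw [Components.fitting_eq_iSup_pCore]
  refine iSup_le fun q => ?_
  haveI := Fact.mk (Nat.prime_of_mem_primeFactors q.2)
  by_cases hq : (q : ℕ) = p
  · rw [hq, hO]; exact bot_le
  obtain ⟨Q⟩ : Nonempty (Sylow (q : ℕ) (centralizer ({y} : Set H))) := inferInstance
  have hQ : ¬ (q : ℕ) ∣ ((Q : Subgroup (centralizer ({y} : Set H))).map
      (centralizer ({y} : Set H)).subtype).index := by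
    rw [index_map_subtype]
    intro h
    rcases (Nat.prime_of_mem_primeFactors q.2).dvd_mul.1 h with h | h
    · exact Q.not_dvd_index h
    · rw [ha] at h
      exact hq ((Nat.prime_dvd_prime_iff_eq (Nat.prime_of_mem_primeFactors q.2) hp.out).1
        ((Nat.prime_of_mem_primeFactors q.2).dvd_of_dvd_pow h))
  exact (Basics.pCore_le_sylow (q : ℕ) ((Q.2.map _).toSylow hQ)).trans (map_subtype_le _)


/-- Let G be a finite group, p a prime and x an element whose conjugacy class has p-power size. Then for any two conjugates y and z of x, the commutator y z y⁻¹ z⁻¹ lies in O_p(G), the largest normal p-subgroup of G. -/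
theorem result {G : Type*} [Group G] [Finite G] (p : ℕ) [Fact p.Prime]
    (x : G) (hx : ∃ a : ℕ, (Subgroup.centralizer ({x} : Set G)).index = p ^ a) (g h : G) :
    (g * x * g⁻¹) * (h * x * h⁻¹) * (g * x * g⁻¹)⁻¹ * (h * x * h⁻¹)⁻¹ ∈ Cfsg.pCore p G := by
  obtain ⟨a, ha⟩ := hx
  set π := QuotientGroup.mk' (Cfsg.pCore p G)
  have hO : Cfsg.pCore p (G ⧸ Cfsg.pCore p G) = ⊥ := Basics.pCore_quotient_eq_bot p
  have hcl : ∀ c : G, ∃ b, (Subgroup.centralizer ({π (c * x * c⁻¹)} : Set _)).index = p ^ b := by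
    intro c
    have h1 : (Subgroup.centralizer ({c * x * c⁻¹} : Set G)).index = p ^ a := by
      rw [← ha, ← Subgroup.index_map_of_bijective (f := (MulAut.conj c).toMonoidHom)
        (MulAut.conj c).bijective (Subgroup.centralizer ({x} : Set G))]
      congr 1
      ext g
      simp only [Subgroup.mem_map, MonoidHom.coe_coe, MulAut.conj_apply,
        Subgroup.mem_centralizer_singleton_iff]
      constructor
      · intro h
        refine ⟨c⁻¹ * g * c, ?_, by simp [mul_assoc]⟩
        calc c⁻¹ * g * c * x = c⁻¹ * (g * (c * x * c⁻¹)) * c := by group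
          _ = c⁻¹ * ((c * x * c⁻¹) * g) * c := by rw [h]
          _ = x * (c⁻¹ * g * c) := by group
      · rintro ⟨d, hd, rfl⟩
        calc c * d * c⁻¹ * (c * x * c⁻¹) = c * (d * x) * c⁻¹ := by group
          _ = c * (x * d) * c⁻¹ := by rw [hd]
          _ = c * x * c⁻¹ * (c * d * c⁻¹) := by group
    have hle : (Subgroup.centralizer ({c * x * c⁻¹} : Set G)).map π ≤
        Subgroup.centralizer ({π (c * x * c⁻¹)} : Set _) := by
      rintro _ ⟨g, hg, rfl⟩
      rw [Subgroup.mem_centralizer_singleton_iff, ← map_mul, ← map_mul,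
        Subgroup.mem_centralizer_singleton_iff.1 hg]
    have h2 := (Subgroup.index_dvd_of_le hle).trans
      (Subgroup.index_map_dvd _ (QuotientGroup.mk'_surjective _))
    rw [h1] at h2
    obtain ⟨b, -, hb⟩ := (Nat.dvd_prime_pow Fact.out).1 h2
    exact ⟨b, hb⟩
  rw [← QuotientGroup.eq_one_iff]
  show π _ = 1
  have hF : π (g * x * g⁻¹) ∈ Cfsg.fittingSubgroup _ :=
    FGS.Kazarin.mem_fitting _ _ rfl p hO _ (hcl g)
  have hc : Commute (π (g * x * g⁻¹)) (π (h * x * h⁻¹)) := commute_fitting hO (hcl h) _ hF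
  rw [map_mul, map_mul, map_inv, map_inv, map_mul π (g * x * g⁻¹), hc.eq]
  group

end Cfsg.Agent.S4364
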