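import Cfsg.Statements.S4370
import Cfsg.Agent.Lib.Basics.KWTools
import Cfsg.Agent.Lib.InvChar.OneSubgroup

set_option autoImplicit false
open Cfsg

namespace Cfsg.Agent.S4370

theorem pow_mem_zpowers_of_cyclic {C : Type*} [Group C] [Finite C] [IsCyclic C] {p : ℕ} (hp : p.Prime)
    {z y : C} (hz : orderOf z = p) (hy : y ^ p = 1) : y ∈ Subgroup.zpowers z := by
  classical
  haveI := Fintype.ofFinite C
  have hle := IsCyclic.card_pow_eq_one_le (α := C) hp.pos
  set S : Finset C := (Finset.range p).image (z ^ ·) with hS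
  have hcard : S.card = p := by
    rw [hS, Finset.card_image_of_injOn, Finset.card_range]
    intro i hi j hj e
    exact pow_injOn_Iio_orderOf (by simpa [hz] using hi) (by simpa [hz] using hj) e
  have hsub : S ⊆ Finset.univ.filter fun x : C => x ^ p = 1 := by
    intro x hx
    rw [hS, Finset.mem_image] at hx
    obtain ⟨i, -, rfl⟩ := hx
    simp only [Finset.mem_filter, Finset.mem_univ, true_and]
    rw [← pow_mul, mul_comm, pow_mul, ← hz, pow_orderOf_eq_one, one_pow]
  have heq := Finset.eq_of_subset_of_card_le hsub (hle.trans hcard.ge)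
  have : y ∈ S := by rw [heq]; simp [hy]
  rw [hS, Finset.mem_image] at this
  obtain ⟨i, -, rfl⟩ := this
  exact Subgroup.pow_mem _ (Subgroup.mem_zpowers z) i

theorem add_self_eq_zero {n : ℕ} [NeZero n] {x : ZMod (2 * n)} (h : x + x = 0) :
    x = 0 ∨ x = (n : ZMod (2 * n)) := by
  haveI : NeZero (2 * n) := ⟨mul_ne_zero two_ne_zero (NeZero.ne n)⟩
  rw [← ZMod.natCast_zmod_val x, ← Nat.cast_add, ← two_mul, ZMod.natCast_eq_zero_iff] at h
  obtain ⟨c, hc⟩ := (mul_dvd_mul_iff_left (two_ne_zero (α := ℕ))).mp h
  have hlt := x.val_lt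
  rw [hc] at hlt
  have hn := NeZero.pos n
  have : c < 2 := by
    by_contra h2
    push Not at h2
    nlinarith
  interval_cases c
  · left; rw [← ZMod.natCast_zmod_val x, hc, mul_zero, Nat.cast_zero]
  · right; rw [← ZMod.natCast_zmod_val x, hc, mul_one]

open QuaternionGroup in
theorem quaternion_centralizer {n : ℕ} [NeZero n] (q : QuaternionGroup n)
    (hq : q ∉ Subgroup.center (QuaternionGroup n)) :
    IsCyclic (Subgroup.centralizer ({q} : Set (QuaternionGroup n))) := by
  suffices ∃ w : QuaternionGroup n, Subgroup.centralizer ({q} : Set (QuaternionGroup n)) ≤ Subgroup.zpowers w by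
    obtain ⟨w, hw⟩ := this
    exact isCyclic_of_surjective (Subgroup.subgroupOfEquivOfLe hw) (Subgroup.subgroupOfEquivOfLe hw).surjective
  haveI : NeZero (2 * n) := ⟨mul_ne_zero two_ne_zero (NeZero.ne n)⟩
  have hpow : ∀ j : ZMod (2 * n), a j = (a 1 : QuaternionGroup n) ^ j.val := fun j => by
    rw [a_one_pow, ZMod.natCast_zmod_val]
  rcases q with i | i
  · refine ⟨a 1, fun y hy => ?_⟩
    rw [Subgroup.mem_centralizer_singleton_iff] at hy
    rcases y with j | j
    · rw [hpow j]; exact Subgroup.pow_mem _ (Subgroup.mem_zpowers _) _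
    · exfalso
      rw [xa_mul_a, a_mul_xa] at hy
      injection hy with hy
      have h2 : i + i = 0 := by linear_combination hy
      apply hq
      rw [Subgroup.mem_center_iff]
      rintro (k | k)
      · rw [a_mul_a, a_mul_a, add_comm]
      · rw [xa_mul_a, a_mul_xa]; congr 1; linear_combination h2
  · refine ⟨xa i, fun y hy => ?_⟩
    rw [Subgroup.mem_centralizer_singleton_iff] at hy
    have h2 : (xa i : QuaternionGroup n) ^ 2 = a (n : ZMod (2 * n)) := by
      rw [pow_two, xa_mul_xa]; congr 1; ring
    have hm := Subgroup.pow_mem _ (Subgroup.mem_zpowers (xa i : QuaternionGroup n)) 2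
    rw [h2] at hm
    rcases y with j | j
    · rw [a_mul_xa, xa_mul_a] at hy
      injection hy with hy
      rcases add_self_eq_zero (x := j) (by linear_combination -hy) with rfl | rfl
      · rw [← one_def]; exact one_mem _
      · exact hm
    · rw [xa_mul_xa, xa_mul_xa] at hy
      injection hy with hy
      rcases add_self_eq_zero (x := j - i) (by linear_combination -hy) with h | h
      · rw [sub_eq_zero] at h; rw [h]; exact Subgroup.mem_zpowers _
      · have e : (xa j : QuaternionGroup n) = xa i * a (n : ZMod (2 * n)) := by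
          rw [xa_mul_a]; congr 1; linear_combination h
        rw [e]; exact mul_mem (Subgroup.mem_zpowers _) hm

/-- Let G be a finite non-abelian nilpotent group. Then the centralizer of every non-central element of G is cyclic if and only if G is isomorphic to the direct product of a generalized quaternion group and a cyclic group of odd order. -/
theorem result {G : Type*} [Group G] [Finite G] (hG : Group.IsNilpotent G)
    (hna : ¬ IsMulCommutative G) :
    (∀ x : G, x ∉ Subgroup.center G → IsCyclic (Subgroup.centralizer ({x} : Set G))) ↔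
      ∃ (k m : ℕ), 1 ≤ k ∧ Odd m ∧ Nonempty (G ≃* QuaternionGroup (2 ^ k) × Multiplicative (ZMod m)) := by
  classical
  constructor
  · intro hc
    have hnG : Group.IsNilpotent (⊤ : Subgroup G) :=
      Group.nilpotent_of_mulEquiv (Subgroup.topEquiv : (⊤ : Subgroup G) ≃* G).symm
    obtain ⟨p, hp, x, y, kx, ky, hx, hy, hxy⟩ : ∃ p : ℕ, p.Prime ∧ ∃ x y : G, ∃ kx ky : ℕ,
        orderOf x = p ^ kx ∧ orderOf y = p ^ ky ∧ x * y ≠ y * x := by
      by_contra hcon
      push Not at hcon
      refine hna ⟨⟨fun u v => ?_⟩⟩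
      have h1 : ∀ x : G, ∀ p k : ℕ, p.Prime → orderOf x = p ^ k → (⊤ : Subgroup G) ≤ Subgroup.centralizer {x} := by
        intro x p k hp hx
        haveI := Fact.mk hp
        refine Basics.KW.le_of_prime_pow fun y _ q l hq hy => Subgroup.mem_centralizer_singleton_iff.mpr ?_
        by_cases hpq : q = p
        · exact hcon p hp y x l k (hpq ▸ hy) hx
        · obtain ⟨Q, P, hPQ⟩ := Basics.KW.exists_parts hnG p
          have hxP := hPQ.mem_p x (Subgroup.mem_top x) k hx
          have hyQ := hPQ.mem_q y (Subgroup.mem_top y) (fun hd => hpq ((Nat.prime_dvd_prime_iff_eq hp hq).mp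
            (hp.dvd_of_dvd_pow (hy ▸ hd))).symm)
          exact hPQ.comm y hyQ x hxP
      have h2 : (⊤ : Subgroup G) ≤ Subgroup.centralizer {v} := Basics.KW.le_of_prime_pow fun z _ q l hq hz =>
        Subgroup.mem_centralizer_singleton_iff.mpr
          (Subgroup.mem_centralizer_singleton_iff.mp (h1 z q l hq hz (Subgroup.mem_top v))).symm
      exact Subgroup.mem_centralizer_singleton_iff.mp (h2 (Subgroup.mem_top u))
    haveI := Fact.mk hp
    obtain ⟨Q, P, hPQ⟩ := Basics.KW.exists_parts hnG p
    have hxP := hPQ.mem_p x (Subgroup.mem_top x) kx hx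
    have hyP := hPQ.mem_p y (Subgroup.mem_top y) ky hy
    have hxZ : x ∉ Subgroup.center G := fun h => hxy (Subgroup.mem_center_iff.mp h y).symm
    haveI hcx := hc x hxZ
    haveI : Nontrivial P := ⟨⟨⟨x, hxP⟩, ⟨y, hyP⟩, fun h => hxy (by rw [show x = y from congrArg Subtype.val h])⟩⟩
    have hPp := hPQ.pgroup
    haveI := hPp.center_nontrivial
    obtain ⟨z, hz⟩ := exists_prime_orderOf_dvd_card' (G := Subgroup.center P) p (by
      obtain ⟨m, hm⟩ := (hPp.to_subgroup (Subgroup.center P)).exists_card_eq
      have h1 : 1 < Nat.card (Subgroup.center P) := Finite.one_lt_card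
      rw [hm] at h1 ⊢
      exact dvd_pow_self p (fun e => by rw [e, pow_zero] at h1; omega))
    set z' : G := ((z : P) : G) with hz'
    have hzG : z' ∈ Subgroup.center G := by
      rw [Subgroup.mem_center_iff]
      intro g
      have hg : g ∈ Q ⊔ P := by rw [hPQ.sup]; exact Subgroup.mem_top g
      have h1 : Q ⊔ P ≤ Subgroup.centralizer {z'} := sup_le
        (fun q hq => Subgroup.mem_centralizer_singleton_iff.mpr (hPQ.comm q hq z' (z : P).2))
        fun w hw => Subgroup.mem_centralizer_singleton_iff.mpr
          (congrArg Subtype.val (Subgroup.mem_center_iff.mp z.2 ⟨w, hw⟩))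
      exact Subgroup.mem_centralizer_singleton_iff.mp (h1 hg)
    have hzo : orderOf z' = p := by rw [hz', Subgroup.orderOf_coe, Subgroup.orderOf_coe, hz]
    have huniq : ∀ w : G, w ^ p = 1 → w ∈ Subgroup.zpowers z' := by
      have hgo : ∀ (u : G), IsCyclic (Subgroup.centralizer ({u} : Set G)) → ∀ w : G, w ^ p = 1 →
          w ∈ Subgroup.centralizer ({u} : Set G) → w ∈ Subgroup.zpowers z' := by
        intro u hu w hw hwC
        haveI := hu
        have := pow_mem_zpowers_of_cyclic hp
          (z := (⟨z', Subgroup.mem_centralizer_singleton_iff.mpr (Subgroup.mem_center_iff.mp hzG u).symm⟩ :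
            Subgroup.centralizer ({u} : Set G)))
          (y := ⟨w, hwC⟩) (by rw [Subgroup.orderOf_mk, hzo]) (Subtype.ext hw)
        obtain ⟨k, hk⟩ := Subgroup.mem_zpowers_iff.mp this
        exact Subgroup.mem_zpowers_iff.mpr ⟨k, by simpa using congrArg Subtype.val hk⟩
      intro w hw
      by_cases hwZ : w ∈ Subgroup.center G
      · exact hgo x hcx w hw (Subgroup.mem_centralizer_singleton_iff.mpr (Subgroup.mem_center_iff.mp hwZ x).symm)
      · exact hgo w (hc w hwZ) w hw (Subgroup.mem_centralizer_singleton_iff.mpr rfl)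
    rcases InvChar.cyclic_or_quaternion hPp (fun H K hH hK => by
      have hall : ∀ H : Subgroup P, Nat.card H = p → H.map P.subtype = Subgroup.zpowers z' := by
        intro H hH
        refine Subgroup.eq_of_le_of_card_ge ?_ (by
          rw [Nat.card_zpowers, hzo, Subgroup.card_map_of_injective P.subtype_injective, hH])
        rintro _ ⟨w, hw, rfl⟩
        refine huniq _ ?_
        rw [← map_pow]
        have : w ^ p = 1 := by
          have h1 := pow_card_eq_one' (x := (⟨w, hw⟩ : H))
          rw [hH] at h1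
          exact congrArg Subtype.val h1
        rw [this, map_one]
      exact Subgroup.map_injective P.subtype_injective ((hall H hH).trans (hall K hK).symm)) with hcy | ⟨rfl, n, ⟨e⟩⟩
    · exfalso
      letI := hcy.commGroup
      exact hxy (congrArg Subtype.val (mul_comm (⟨x, hxP⟩ : P) ⟨y, hyP⟩))
    have hn : 1 ≤ n := by
      by_contra h
      obtain rfl : n = 0 := by omega
      have hcm : ∀ u v : QuaternionGroup (2 ^ 0), u * v = v * u := by decide
      exact hxy (congrArg Subtype.val (e.injective ((map_mul e ⟨x, hxP⟩ ⟨y, hyP⟩).trans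
        ((hcm _ _).trans (map_mul e _ _).symm))))
    have hQcx : Q ≤ Subgroup.centralizer ({x} : Set G) := fun q hq =>
      Subgroup.mem_centralizer_singleton_iff.mpr (hPQ.comm q hq x hxP)
    haveI : IsCyclic Q := isCyclic_of_surjective (Subgroup.subgroupOfEquivOfLe hQcx)
      (Subgroup.subgroupOfEquivOfLe hQcx).surjective
    refine ⟨n, Nat.card Q, hn, Nat.not_even_iff_odd.mp (fun h => hPQ.not_dvd h.two_dvd), ⟨?_⟩⟩
    let f : P × Q →* G := P.subtype.noncommCoprod Q.subtype fun u v => (hPQ.comm v v.2 u u.2).symm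
    have hinj : Function.Injective f := by
      rw [injective_iff_map_eq_one]
      rintro ⟨u, v⟩ h
      have e1 : (u : G) * v = 1 := h
      have hu : (u : G) = ((v : G))⁻¹ := eq_inv_of_mul_eq_one_left e1
      have hd : P ⊓ Q = ⊥ := disjoint_iff.mp (Subgroup.disjoint_of_coprime_natCard (by
        obtain ⟨m, hm⟩ := hPp.exists_card_eq
        rw [hm]
        exact (hp.coprime_iff_not_dvd.mpr hPQ.not_dvd).pow_left m))
      have : (u : G) ∈ P ⊓ Q := ⟨u.2, hu ▸ Q.inv_mem v.2⟩
      rw [hd, Subgroup.mem_bot] at this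
      rw [this, one_mul] at e1
      exact Prod.ext (Subtype.ext this) (Subtype.ext e1)
    have hsurj : Function.Surjective f := by
      intro g
      have hg : g ∈ Q ⊔ P := by rw [hPQ.sup]; exact Subgroup.mem_top g
      have hle : Q ⊔ P ≤ f.range := sup_le (fun q hq => ⟨(1, ⟨q, hq⟩), one_mul q⟩)
        fun w hw => ⟨(⟨w, hw⟩, 1), mul_one w⟩
      exact hle hg
    haveI : NeZero (Nat.card Q) := ⟨Nat.card_pos.ne'⟩
    exact (MulEquiv.ofBijective f ⟨hinj, hsurj⟩).symm.trans
      (e.prodCongr (mulEquivOfCyclicCardEq (by rw [Nat.card_congr Multiplicative.toAdd, Nat.card_zmod])))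
  · rintro ⟨k, m, hk, hm, ⟨e⟩⟩ x hx
    haveI : NeZero m := ⟨hm.pos.ne'⟩
    haveI : NeZero (2 ^ k) := ⟨pow_ne_zero _ two_ne_zero⟩
    obtain ⟨q, c, hqc⟩ : ∃ q c, e x = (q, c) := ⟨_, _, rfl⟩
    have hq : q ∉ Subgroup.center (QuaternionGroup (2 ^ k)) := fun h => hx (Subgroup.mem_center_iff.mpr fun g => by
      apply e.injective
      rw [map_mul, map_mul, hqc]
      exact Prod.ext (Subgroup.mem_center_iff.mp h _) (mul_comm _ _))
    haveI := quaternion_centralizer q hq
    set Cq := Subgroup.centralizer ({q} : Set (QuaternionGroup (2 ^ k)))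
    have hcard : Nat.card Cq ∣ 2 ^ (k + 2) := by
      refine (Subgroup.card_subgroup_dvd_card Cq).trans (dvd_of_eq ?_)
      rw [Nat.card_eq_fintype_card, QuaternionGroup.card, pow_add, mul_comm]; norm_num
    haveI : IsCyclic (Cq × Multiplicative (ZMod m)) := Group.isCyclic_prod_iff.mpr ⟨inferInstance, inferInstance, by
      rw [Nat.card_congr Multiplicative.toAdd, Nat.card_zmod]
      exact Nat.Coprime.coprime_dvd_left hcard ((Nat.coprime_two_left.mpr hm).pow_left _)⟩
    let F : Subgroup.centralizer ({x} : Set G) →* Cq × Multiplicative (ZMod m) :=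
      { toFun := fun g => (⟨(e g.1).1, Subgroup.mem_centralizer_singleton_iff.mpr (by
          have := congrArg (fun w => (e w).1) (Subgroup.mem_centralizer_singleton_iff.mp g.2)
          simp only [map_mul, hqc] at this
          exact this)⟩, (e g.1).2)
        map_one' := by ext <;> simp
        map_mul' := fun g h => by ext <;> simp }
    have hF : Function.Injective F := fun g h hgh => by
      have h1 := congrArg (fun w : Cq × Multiplicative (ZMod m) => ((w.1 : QuaternionGroup (2 ^ k)), w.2)) hgh
      exact Subtype.ext (e.injective h1)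
    exact isCyclic_of_injective F hF

end Cfsg.Agent.S4370
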