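import Cfsg.Statements.S4377
-- import your own Cfsg.Agent.* helpers here

set_option autoImplicit false
open Cfsg
open scoped Pointwise commutatorElement
set_option linter.all false

namespace Cfsg.Agent.S4377

lemma sum_eq {G : Type*} [Group G] [Finite G] {n : ℕ} (hn : n ≠ 0) :
    ∑ m ∈ n.divisors, Nat.card {g : G // orderOf g = m} = Nat.card {g : G // g ^ n = 1} := by
  classical
  haveI := Fintype.ofFinite G
  simp only [Nat.card_eq_fintype_card, Fintype.card_subtype]
  exact sum_card_orderOf_eq_card_pow_eq_one hn

lemma pow_zero_card {G : Type*} [Group G] [Finite G] {N : ℕ} (h : Nat.card G ∣ N) :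
    Nat.card {g : G // g ^ N = 1} = Nat.card {g : G // g ^ 0 = 1} := by
  refine Nat.card_congr (Equiv.subtypeEquivRight fun g => ?_)
  simp [orderOf_dvd_iff_pow_eq_one.mp ((orderOf_dvd_natCard g).trans h)]


/-- Two finite groups have the same number of elements of each order if and only if, for every n, they have the same number of elements g with gⁿ = 1. -/
theorem result {G H : Type*} [Group G] [Finite G] [Group H] [Finite H] :
    (∀ n : ℕ, Nat.card {g : G // orderOf g = n} = Nat.card {h : H // orderOf h = n}) ↔
      ∀ n : ℕ, Nat.card {g : G // g ^ n = 1} = Nat.card {h : H // h ^ n = 1} := by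
  constructor
  · intro h n
    rcases eq_or_ne n 0 with rfl | hn
    · rw [← pow_zero_card (N := Nat.card G * Nat.card H) (dvd_mul_right _ _),
        ← pow_zero_card (G := H) (N := Nat.card G * Nat.card H) (dvd_mul_left _ _),
        ← sum_eq (Nat.mul_ne_zero Nat.card_pos.ne' Nat.card_pos.ne'),
        ← sum_eq (Nat.mul_ne_zero Nat.card_pos.ne' Nat.card_pos.ne')]
      exact Finset.sum_congr rfl fun m _ => h m
    · rw [← sum_eq hn, ← sum_eq hn]
      exact Finset.sum_congr rfl fun m _ => h m
  · intro h n
    induction n using Nat.strong_induction_on with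
    | _ n ih =>
    rcases eq_or_ne n 0 with rfl | hn
    · haveI : IsEmpty {g : G // orderOf g = 0} := ⟨fun g => (orderOf_pos g.1).ne' g.2⟩
      haveI : IsEmpty {g : H // orderOf g = 0} := ⟨fun g => (orderOf_pos g.1).ne' g.2⟩
      simp only [Nat.card_of_isEmpty]
    · have h1 := h n
      rw [← sum_eq hn, ← sum_eq hn, ← Nat.cons_self_properDivisors hn, Finset.sum_cons, Finset.sum_cons,
        Finset.sum_congr rfl (fun m hm => ih m (Nat.mem_properDivisors.mp hm).2)] at h1
      omega

end Cfsg.Agent.S4377
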