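import Cfsg.Statements.S4376
import Mathlib
import Cfsg.Agent.S4377
import Cfsg.Agent.Lib.OrderType.Basic
import Cfsg.Agent.Lib.OrderType.Modules
import Cfsg.Agent.Lib.OrderType.Build
import Cfsg.Agent.Lib.OrderType.GL32

set_option autoImplicit false
open Cfsg
open scoped Pointwise
set_option linter.all false

namespace Cfsg.Agent.S4376

open Cfsg.Agent.OrderType

def pos0 : Fac := Fac.of 4 1 1 ![mz7] ![(3, 0)]
      (by decide +kernel)

def pos1 : Fac := Fac.of 2 1 1 ![mz4] ![(1, 0)]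
      (by decide +kernel)

def pos2 : Fac := Fac.of 3 1 2 ![mF4, mz7] ![(1, 0), (2, 0)]
      (by decide +kernel)

def pos3 : Fac := Fac.of 2 1 2 ![mz3, mz7] ![(1, 0), (3, 0)]
      (by decide +kernel)

def pos4 : Fac := Fac.of 2 1 2 ![mz4, mz3] ![(1, 0), (1, 0)]
      (by decide +kernel)

def pos5 : Fac := Fac.of 4 1 1 ![mF9] ![(1, 0)]
      (by decide +kernel)

def pos6 : Fac := Fac.of 3 1 1 ![mF4] ![(1, 0)]
      (by decide +kernel)

def pos7 : Fac := Fac.of 2 1 1 ![mz3] ![(1, 0)]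
      (by decide +kernel)

def pos8 : Fac := Fac.of 2 1 2 ![mz7, mz7] ![(3, 0), (3, 0)]
      (by decide +kernel)

def pos9 : Fac := Fac.of 6 1 1 ![mz7] ![(1, 0)]
      (by decide +kernel)

def pos10 : Fac := Fac.of 7 1 0 ![] ![] (by decide)

def pos11 : Fac := Fac.of 12 1 2 ![mz7, mz7] ![(1, 0), (3, 0)]
      (by decide +kernel)

def pos12 : Fac := Fac.of 2 4 3 ![mz3, mz3, mz7] ![(0, 1), (1, 0), (3, 3)]
      (by decide +kernel)

def pos13 : Fac := Fac.of 2 2 3 ![mz4, mz7, mz7] ![(0, 1), (3, 0), (3, 3)]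
      (by decide +kernel)

def pos14 : Fac := Fac.of 4 1 3 ![mz3, mz3, mz7] ![(1, 0), (1, 0), (3, 0)]
      (by decide +kernel)

def pos15 : Fac := Fac.of 2 1 2 ![mz3, mz3] ![(1, 0), (1, 0)]
      (by decide +kernel)

def pos16 : Fac := Fac.of 4 1 1 ![mz3] ![(1, 0)]
      (by decide +kernel)

def pos17 : Fac := Fac.of 7 1 1 ![mF8] ![(1, 0)]
      (by decide +kernel)

def pos18 : Fac := Fac.of 12 1 1 ![mF49] ![(1, 0)]
      (by decide +kernel)

def pos19 : Fac := Fac.of 12 1 2 ![mz7, mz7] ![(1, 0), (1, 0)]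
      (by decide +kernel)

def pos20 : Fac := Fac.of 7 1 2 ![mF8, mF8] ![(1, 0), (1, 0)]
      (by decide +kernel)

def posF : Fin 21 → Fac := ![pos0, pos1, pos2, pos3, pos4, pos5, pos6, pos7, pos8, pos9, pos10, pos11, pos12, pos13, pos14, pos15, pos16, pos17, pos18, pos19, pos20]

def posC : Fin 21 → ℕ := ![6, 9, 12, 6, 6, 6, 6, 6, 17, 66, 4, 6, 6, 6, 6, 18, 6, 6, 6, 6, 6]

def neg0 : Fac := Fac.of 2 1 0 ![] ![] (by decide)

def neg1 : Fac := Fac.of 3 1 0 ![] ![] (by decide)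

def neg2 : Fac := Fac.of 4 1 0 ![] ![] (by decide)

def neg3 : Fac := Fac.of 2 1 2 ![mz4, mz7] ![(1, 0), (3, 0)]
      (by decide +kernel)

def neg4 : Fac := Fac.of 2 1 1 ![mz7] ![(3, 0)]
      (by decide +kernel)

def neg5 : Fac := Fac.of 4 1 2 ![mz3, mz7] ![(1, 0), (3, 0)]
      (by decide +kernel)

def neg6 : Fac := Fac.of 2 1 3 ![mz3, mz3, mz3] ![(1, 0), (1, 0), (1, 0)]
      (by decide +kernel)

def neg7 : Fac := Fac.of 2 1 3 ![mz4, mz7, mz7] ![(1, 0), (3, 0), (3, 0)]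
      (by decide +kernel)

def neg8 : Fac := Fac.of 2 2 3 ![mz4, mz4, mz7] ![(0, 1), (1, 0), (3, 3)]
      (by decide +kernel)

def neg9 : Fac := Fac.of 12 1 1 ![mz7] ![(1, 0)]
      (by decide +kernel)

def neg10 : Fac := Fac.of 3 1 1 ![mz7] ![(2, 0)]
      (by decide +kernel)

def neg11 : Fac := Fac.of 6 1 2 ![mz7, mz7] ![(1, 0), (3, 0)]
      (by decide +kernel)

def neg12 : Fac := Fac.of 2 2 3 ![mz3, mz3, mz7] ![(0, 1), (1, 0), (3, 3)]
      (by decide +kernel)

def neg13 : Fac := Fac.of 4 1 2 ![mz3, mz3] ![(1, 0), (1, 0)]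
      (by decide +kernel)

def neg14 : Fac := Fac.of 2 1 3 ![mz3, mz3, mz7] ![(1, 0), (1, 0), (3, 0)]
      (by decide +kernel)

def neg15 : Fac := Fac.of 3 1 2 ![mF4, mF4] ![(1, 0), (1, 0)]
      (by decide +kernel)

def neg16 : Fac := Fac.of 6 1 2 ![mz7, mz7] ![(1, 0), (1, 0)]
      (by decide +kernel)

def neg17 : Fac := Fac.of 4 1 3 ![mz3, mz7, mz7] ![(1, 0), (3, 0), (3, 0)]
      (by decide +kernel)

def neg18 : Fac := Fac.of 21 1 2 ![mF64, mF4] ![(1, 0), (1, 0)]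
      (by decide +kernel)

def negF : Fin 19 → Fac := ![neg0, neg1, neg2, neg3, neg4, neg5, neg6, neg7, neg8, neg9, neg10, neg11, neg12, neg13, neg14, neg15, neg16, neg17, neg18]

def negC : Fin 19 → ℕ := ![54, 12, 12, 6, 21, 6, 6, 3, 3, 18, 28, 26, 6, 6, 18, 6, 6, 6, 6]

lemma check : ∀ n ∈ Nat.divisors 84, (∏ i, (posF i).cnt n ^ posC i) =
    (GL32.cntL n) ^ 6 * ∏ i, (negF i).cnt n ^ negC i := by decide +kernel

lemma posExp : ∀ i, (posF i).cnt 84 = (posF i).cnt 0 := by decide +kernel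

lemma negExp : ∀ i, (negF i).cnt 84 = (negF i).cnt 0 := by decide +kernel

abbrev GS : Type := Big posF posC
abbrev HS : Type := (Fin 6 → GL32.L) × Big negF negC

lemma expG : NT GS 84 = Nat.card GS := by
  rw [← NT_zero, NT_big, NT_big]
  exact Finset.prod_congr rfl fun i _ => by rw [posExp i]

lemma expH : NT HS 84 = Nat.card HS := by
  have h1 : NT GL32.L 84 = NT GL32.L 0 := by
    rw [NT_zero, NT]
    exact Nat.card_congr (Equiv.subtypeUnivEquiv fun g => GL32.pow_84 g)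
  rw [← NT_zero, NT_prod, NT_prod, NT_big, NT_big, NT_pi, NT_pi, h1]
  simp only [negExp]

lemma sameNT (n : ℕ) : NT GS n = NT HS n := by
  rw [NT_gcd expG n, NT_gcd expH n]
  have hd : Nat.gcd n 84 ∈ Nat.divisors 84 :=
    Nat.mem_divisors.2 ⟨Nat.gcd_dvd_right _ _, by norm_num⟩
  rw [NT_big, NT_prod, NT_pi, NT_big, check _ hd, Finset.prod_const, Finset.card_univ,
    Fintype.card_fin, GL32.NT_eq (Nat.pos_of_mem_divisors hd).ne']


/-- There are finite groups G and H having the same number of elements of each order (the same order type) with G solvable and H not solvable. -/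
theorem result :
    ∃ (G : Type) (_ : Group G) (_ : Finite G) (H : Type) (_ : Group H) (_ : Finite H),
      Group.IsSolvable G ∧ ¬ Group.IsSolvable H ∧ ∀ n : ℕ, Nat.card {g : G // orderOf g = n} = Nat.card {h : H // orderOf h = n} := by
  refine ⟨GS, inferInstance, inferInstance, HS, inferInstance, inferInstance,
    isSolvable_big _ _, fun hs => GL32.not_isSolvable ?_, Cfsg.Agent.S4377.result.2 sameNT⟩
  haveI := hs
  exact solvable_of_surjective (f := (Pi.evalMonoidHom (fun _ : Fin 6 => GL32.L) 0).comp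
    (MonoidHom.fst (Fin 6 → GL32.L) (Big negF negC))) fun g => ⟨(fun _ => g, 1), rfl⟩

end Cfsg.Agent.S4376
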