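import Cfsg.Statements.S4381
import Cfsg.Agent.Lib.Basics.CoprimeAction
import Cfsg.Agent.Lib.Basics.Frattini
import Cfsg.Agent.Lib.LocalEvenA.InvariantComplement
import Mathlib

set_option autoImplicit false
open Pointwise
open Cfsg
open scoped Pointwise
set_option linter.all false

namespace Cfsg.Agent.S4381

open Cfsg.Agent
open scoped commutatorElement

variable {A G : Type*} [Group A] [Group G] [MulDistribMulAction A G]

abbrev φ (A G : Type*) [Group A] [Group G] [MulDistribMulAction A G] : A →* MulAut G :=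
  MulDistribMulAction.toMulAut A G
abbrev Γ (A G : Type*) [Group A] [Group G] [MulDistribMulAction A G] := G ⋊[φ A G] A
abbrev ι : G →* Γ A G := SemidirectProduct.inl
abbrev Q (A G : Type*) [Group A] [Group G] [MulDistribMulAction A G] : Subgroup (Γ A G) :=
  (SemidirectProduct.inr : A →* Γ A G).range

theorem hact (a : A) (g : G) : (ι (a • g) : Γ A G) =
    (SemidirectProduct.inr a : Γ A G) * ι g * (SemidirectProduct.inr a)⁻¹ := by
  rw [← map_inv]
  exact SemidirectProduct.inl_aut a g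

abbrev Inv (A : Type*) [Group A] [MulDistribMulAction A G] (L : Subgroup G) : Prop :=
  ∀ a : A, ∀ x ∈ L, a • x ∈ L

theorem inv_iff (L : Subgroup G) :
    Inv A L ↔ Q A G ≤ Subgroup.normalizer ((L.map (ι : G →* Γ A G) : Subgroup (Γ A G)) : Set (Γ A G)) := by
  constructor
  · rintro h _ ⟨a, rfl⟩
    refine Subgroup.mem_normalizer_iff.2 fun w => ⟨?_, ?_⟩
    · rintro ⟨x, hx, rfl⟩
      exact ⟨a • x, h a x hx, hact a x⟩
    · rintro ⟨x, hx, hw⟩
      refine ⟨a⁻¹ • x, h _ x hx, ?_⟩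
      rw [hact, hw, map_inv]
      group
  · intro h a x hx
    obtain ⟨y, hy, he⟩ := (Subgroup.mem_normalizer_iff.1 (h ⟨a, rfl⟩) (ι x)).1 ⟨x, hx, rfl⟩
    rw [← hact] at he
    exact SemidirectProduct.inl_injective he ▸ hy

theorem inv_frattini [Finite G] : Inv A (frattini G) := fun a x hx => by
  have h : frattini G = (frattini G).comap (MulDistribMulAction.toMulAut A G a).toMonoidHom :=
    (Subgroup.characteristic_iff_comap_eq.1 inferInstance (MulDistribMulAction.toMulAut A G a)).symm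
  rw [h] at hx
  exact hx

theorem inv_sup {L M : Subgroup G} (hL : Inv A L) (hM : Inv A M) : Inv A (L ⊔ M) := by
  rw [inv_iff] at hL hM ⊢
  rw [Subgroup.map_sup]
  exact fun q hq => by
    have h1 := hL hq
    have h2 := hM hq
    rw [Subgroup.mem_normalizer_iff_map_conj_eq] at h1 h2 ⊢
    rw [Subgroup.map_sup, h1, h2]

abbrev MaxInv (A : Type*) [Group A] [MulDistribMulAction A G] (M : Subgroup G) : Prop :=
  M ≠ ⊤ ∧ (∀ a : A, ∀ x ∈ M, a • x ∈ M) ∧ ∀ L : Subgroup G, M < L → (∀ a : A, ∀ x ∈ L, a • x ∈ L) → L = ⊤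

theorem exists_maxInv [Finite G] {L : Subgroup G} (hne : L ≠ ⊤) (hL : Inv A L) :
    ∃ M, L ≤ M ∧ MaxInv A M := by
  obtain ⟨M, hLM, ⟨hM, hMi⟩, hmax⟩ := Finite.exists_le_maximal
    (p := fun V : Subgroup G => V ≠ ⊤ ∧ Inv A V) ⟨hne, hL⟩
  exact ⟨M, hLM, hM, hMi, fun L' hlt hi => by_contra fun h => hlt.not_ge (hmax ⟨h, hi⟩ hlt.le)⟩

theorem frattini_le_maxInv [Finite G] {M : Subgroup G} (hM : MaxInv A M) : frattini G ≤ M := by
  by_contra h
  exact hM.1 (frattini_nongenerating (hM.2.2 _ (lt_of_le_of_ne le_sup_left fun e => h (e ▸ le_sup_right))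
    (inv_sup hM.2.1 inv_frattini)))

theorem exists_inv_sylow [Finite A] [Finite G] (hcop : (Nat.card A).Coprime (Nat.card G))
    (hsol : Group.IsSolvable A ∨ Group.IsSolvable G) (q : ℕ) [Fact q.Prime] :
    ∃ S : Subgroup G, Inv A S ∧ Nat.card S = q ^ (Nat.card G).factorization q := by
  set H : Subgroup (Γ A G) := (ι : G →* Γ A G).range with hH
  haveI : Finite (Γ A G) := Finite.of_equiv _ SemidirectProduct.equivProd.symm
  haveI hHn : H.Normal := by
    rw [hH, SemidirectProduct.range_inl_eq_ker_rightHom]; exact MonoidHom.normal_ker _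
  have hcardH : Nat.card H = Nat.card G :=
    (Nat.card_congr ((ι : G →* Γ A G).ofInjective SemidirectProduct.inl_injective).toEquiv).symm
  have hcardQ : Nat.card (Q A G) = Nat.card A :=
    (Nat.card_congr ((SemidirectProduct.inr : A →* Γ A G).ofInjective SemidirectProduct.inr_injective).toEquiv).symm
  have hs : Group.IsSolvable (Q A G) ∨ Group.IsSolvable H := hsol.imp
    (fun h => by haveI := h; exact Group.isSolvable_of_surjective (MonoidHom.rangeRestrict_surjective _))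
    (fun h => by haveI := h; exact Group.isSolvable_of_surjective (ι : G →* Γ A G).rangeRestrict_surjective)
  obtain ⟨S, hS, hSA⟩ := Basics.exists_invariant_isSylowIn (Q A G) H
    (by rw [Subgroup.normalizer_eq_top_iff.mpr hHn]; exact le_top) (by rw [hcardH, hcardQ]; exact hcop) hs q
  have hm : (S.comap (ι : G →* Γ A G)).map ι = S := Subgroup.map_comap_eq_self hS.1
  refine ⟨S.comap ι, ?_, ?_⟩
  · rw [inv_iff, hm]; exact hSA
  · rw [← Subgroup.card_map_of_injective (f := (ι : G →* Γ A G)) SemidirectProduct.inl_injective, hm, hS.2, hcardH]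

theorem exists_compl_exp {V : Type*} [Group V] [Finite V] {p : ℕ} (hp : p.Prime) (N M : Subgroup V)
    (hMN : M ≤ N) (hexp : ∀ x ∈ N, x ^ p = 1) (hab : ∀ a ∈ N, ∀ b ∈ N, a * b = b * a) :
    ∃ K : Subgroup V, K ≤ N ∧ K ⊓ M = ⊥ ∧ M ⊔ K = N := by
  obtain ⟨K, -, ⟨hKN, hKM⟩, hmax⟩ := Finite.exists_le_maximal
    (p := fun K : Subgroup V => K ≤ N ∧ K ⊓ M = ⊥) (a := ⊥) ⟨bot_le, bot_inf_eq _⟩
  refine ⟨K, hKN, hKM, le_antisymm (sup_le hMN hKN) fun x hx => ?_⟩
  by_contra hxn
  have hxK : x ∉ K := fun h => hxn (Subgroup.mem_sup_right h)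
  have hxo : orderOf x = p := by
    haveI := Fact.mk hp
    exact orderOf_eq_prime (hexp x hx) fun h => hxK (h ▸ one_mem K)
  let K' := K ⊔ Subgroup.zpowers x
  have hK'N : K' ≤ N := sup_le hKN (Subgroup.zpowers_le.2 hx)
  refine hxK (hmax ⟨hK'N, ?_⟩ le_sup_left (Subgroup.mem_sup_right (Subgroup.mem_zpowers x)))
  refine eq_bot_iff.2 fun z hz => ?_
  obtain ⟨hz1, hz2⟩ := Subgroup.mem_inf.1 hz
  have hn : Subgroup.zpowers x ≤ Subgroup.normalizer (K : Set V) :=
    Subgroup.zpowers_le.2 (Subgroup.mem_normalizer_iff.2 fun k => by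
      constructor
      · intro hk; rwa [hab x hx k (hKN hk), mul_inv_cancel_right]
      · intro hk
        have h1 := hab x hx _ (hKN hk)
        have h2 : k = x * k * x⁻¹ := by
          calc k = x⁻¹ * (x * k * x⁻¹) * x := by group
            _ = x⁻¹ * (x * (x * k * x⁻¹)) := by rw [mul_assoc, ← h1]
            _ = x * k * x⁻¹ := by group
        rwa [h2])
  rw [← SetLike.mem_coe, Subgroup.coe_mul_of_right_le_normalizer_left _ _ hn] at hz1
  obtain ⟨k, hk, w, hw, rfl⟩ := hz1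
  obtain ⟨i, rfl⟩ := Subgroup.mem_zpowers_iff.1 hw
  by_cases hi : (p : ℤ) ∣ i
  · rw [← hxo] at hi
    simp only [orderOf_dvd_iff_zpow_eq_one.1 hi, mul_one] at hz2 ⊢
    rw [← hKM]; exact Subgroup.mem_inf.2 ⟨hk, hz2⟩
  · exfalso
    apply hxn
    have h1 : x ^ i ∈ M ⊔ K := by
      rw [show x ^ i = k⁻¹ * (k * x ^ i) by group]
      exact mul_mem (Subgroup.mem_sup_right (inv_mem hk)) (Subgroup.mem_sup_left hz2)
    obtain ⟨u, v, huv⟩ := ((Nat.prime_iff_prime_int.1 hp).coprime_iff_not_dvd.2 hi)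
    have : x = (x ^ i) ^ v := by
      conv_lhs => rw [← zpow_one x, ← huv]
      rw [zpow_add, mul_comm u, zpow_mul, mul_comm v, zpow_mul x i, zpow_natCast, hexp x hx, one_zpow, one_mul]
    rw [this]
    exact zpow_mem h1 v

theorem frattini_max [Finite A] [Finite G] (hcop : (Nat.card A).Coprime (Nat.card G))
    {p : ℕ} (hp : p.Prime) (hG : IsPGroup p G)
    (hall : ∀ M N : Subgroup G, MaxInv A M → MaxInv A N → ∃ c : G, (∀ a : A, a • c = c) ∧ N = MulAut.conj c • M)
    (L : Subgroup G) (hlt : frattini G < L) (hL : Inv A L) : L = ⊤ := by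
  haveI := Fact.mk hp
  haveI := hG.isNilpotent
  by_contra hne
  obtain ⟨M, hLM, hM⟩ := exists_maxInv hne hL
  have hFM : frattini G ≤ M := hlt.le.trans hLM
  haveI hMn : M.Normal := ⟨fun x hx g => by
    have h1 : ⁅g, x⁆ ∈ M := hFM (Basics.commutator_le_frattini
      (Subgroup.commutator_mem_commutator (Subgroup.mem_top g) (Subgroup.mem_top x)))
    have h2 := mul_mem h1 hx
    rwa [commutatorElement_def, inv_mul_cancel_right] at h2⟩
  have huniq : ∀ N, MaxInv A N → N = M := fun N hN => by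
    obtain ⟨c, -, rfl⟩ := hall M N hM hN
    exact Subgroup.Normal.conj_smul_eq_self c M
  haveI : Finite (Γ A G) := Finite.of_equiv _ SemidirectProduct.equivProd.symm
  set H : Subgroup (Γ A G) := (ι : G →* Γ A G).range with hH
  haveI hHn : H.Normal := by
    rw [hH, SemidirectProduct.range_inl_eq_ker_rightHom]; exact MonoidHom.normal_ker _
  have htop : H ⊔ Q A G = ⊤ := eq_top_iff.2 fun w _ => by
    rw [← SemidirectProduct.inl_left_mul_inr_right w]
    exact mul_mem (Subgroup.mem_sup_left ⟨_, rfl⟩) (Subgroup.mem_sup_right ⟨_, rfl⟩)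
  have hnormal : ∀ S : Subgroup G, S.Normal → Inv A S → (S.map (ι : G →* Γ A G)).Normal := fun S hS hi => by
    rw [← Subgroup.normalizer_eq_top_iff, eq_top_iff, ← htop]
    refine sup_le ?_ ((inv_iff S).1 hi)
    rw [hH, MonoidHom.range_eq_map]
    refine le_trans ?_ (Subgroup.le_normalizer_map (ι : G →* Γ A G))
    rw [Subgroup.normalizer_eq_top_iff.2 hS]
  haveI := hnormal (frattini G) inferInstance inv_frattini
  haveI := hnormal M hMn hM.2.1
  set Φ := (frattini G).map (ι : G →* Γ A G) with hΦ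
  let π := QuotientGroup.mk' Φ
  set Mb := (M.map (ι : G →* Γ A G)).map π with hMb
  set Hb := H.map π with hHb
  haveI : Mb.Normal := Subgroup.Normal.map inferInstance π (QuotientGroup.mk'_surjective _)
  haveI : Hb.Normal := Subgroup.Normal.map inferInstance π (QuotientGroup.mk'_surjective _)
  have hker : ∀ g ∈ frattini G, π (ι g) = 1 := fun g hg => (QuotientGroup.eq_one_iff _).2 ⟨g, hg, rfl⟩
  have hexp : ∀ x ∈ Hb, x ^ p = 1 := by
    rintro _ ⟨_, ⟨g, rfl⟩, rfl⟩
    rw [← map_pow, ← map_pow]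
    exact hker _ (Basics.pow_mem_frattini hG g)
  have hab : ∀ a ∈ Hb, ∀ b ∈ Hb, a * b = b * a := by
    rintro _ ⟨_, ⟨g, rfl⟩, rfl⟩ _ ⟨_, ⟨g', rfl⟩, rfl⟩
    rw [← commutatorElement_eq_one_iff_mul_comm, ← map_commutatorElement, ← map_commutatorElement]
    exact hker _ (Basics.commutator_le_frattini
      (Subgroup.commutator_mem_commutator (Subgroup.mem_top g) (Subgroup.mem_top g')))
  have hMH : Mb ≤ Hb := Subgroup.map_mono (Subgroup.map_le_range _ _)
  obtain ⟨K, hKH, hKM, hKs⟩ := exists_compl_exp hp Hb Mb hMH hexp hab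
  have hcard : (Nat.card Mb).Coprime (Nat.card ((Q A G).map π)) := by
    refine Nat.Coprime.coprime_dvd_left ((Subgroup.card_map_dvd _ π).trans ((Subgroup.card_map_dvd _ _).trans M.card_subgroup_dvd_card)) ?_
    refine Nat.Coprime.coprime_dvd_right ((Subgroup.card_map_dvd _ π).trans (dvd_of_eq
      (Nat.card_congr ((SemidirectProduct.inr : A →* Γ A G).ofInjective SemidirectProduct.inr_injective).toEquiv).symm)) hcop.symm
  obtain ⟨K', hK'H, hK'M, hK's, hK'Q⟩ := LocalEvenA.exists_invariant_complement Hb Mb K ((Q A G).map π) hMH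
    (fun a ha b hb => hab a (hMH ha) b (hMH hb)) hKH hKM hKs hcard
  set L' : Subgroup G := K'.comap (π.comp (ι : G →* Γ A G)) with hL'
  have hL'i : Inv A L' := fun a x hx => by
    show π (ι (a • x)) ∈ K'
    rw [hact, map_mul, map_mul, map_inv]
    exact (Subgroup.mem_normalizer_iff.1 (hK'Q ⟨_, ⟨a, rfl⟩, rfl⟩) _).1 hx
  have hL'ne : L' ≠ ⊤ := fun h => by
    have h1 : Hb ≤ K' := by
      rintro _ ⟨_, ⟨g, rfl⟩, rfl⟩
      exact (h.ge (Subgroup.mem_top g) : g ∈ L')
    have h2 : Mb = ⊥ := by rw [eq_bot_iff, ← hK'M]; exact le_inf (hMH.trans h1) le_rfl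
    refine hlt.not_ge (hLM.trans fun m hm => ?_)
    have h3 : π (ι m) ∈ Mb := ⟨_, ⟨m, hm, rfl⟩, rfl⟩
    rw [h2, Subgroup.mem_bot, QuotientGroup.mk'_apply, QuotientGroup.eq_one_iff] at h3
    obtain ⟨m', hm', he⟩ := h3
    exact SemidirectProduct.inl_injective he ▸ hm'
  obtain ⟨N, hL'N, hN⟩ := exists_maxInv hL'ne hL'i
  rw [huniq N hN] at hL'N
  refine hM.1 (eq_top_iff.2 fun g _ => ?_)
  have h1 : π (ι g) ∈ Mb ⊔ K' := hK's.ge ⟨_, ⟨g, rfl⟩, rfl⟩
  obtain ⟨_, ⟨_, ⟨m, hm, rfl⟩, rfl⟩, k, hk, hmk⟩ := Subgroup.mem_sup_of_normal_left.1 h1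
  have h2 : m⁻¹ * g ∈ L' := by
    show π (ι (m⁻¹ * g)) ∈ K'
    rw [map_mul, map_mul, map_inv, map_inv, ← hmk, inv_mul_cancel_left]
    exact hk
  have h3 := mul_mem hm (hL'N h2)
  rwa [mul_inv_cancel_left] at h3


/-- Let the finite group A act by automorphisms on the finite group G with the orders of A and G coprime, and assume that A or G is solvable. Call a proper A-invariant subgroup of G maximal A-invariant when no A-invariant subgroup lies strictly between it and G. Then all maximal A-invariant subgroups of G are conjugate under elements of the fixed-point subgroup C_G(A) if and only if G is a p-group for some prime p and A leaves invariant no subgroup strictly between the Frattini subgroup of G and G. In that case, if G is nontrivial, the Frattini subgroup is the only maximal A-invariant subgroup (a trivial G has none). -/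
theorem result {A G : Type*} [Group A] [Finite A]
    [Group G] [Finite G] [MulDistribMulAction A G] (hcop : (Nat.card A).Coprime (Nat.card G)) (hsol : Group.IsSolvable A ∨ Group.IsSolvable G) :
    ((∀ M N : Subgroup G, (M ≠ ⊤ ∧ (∀ a : A, ∀ x ∈ M, a • x ∈ M) ∧ ∀ L : Subgroup G, M < L → (∀ a : A, ∀ x ∈ L, a • x ∈ L) → L = ⊤) → (N ≠ ⊤ ∧ (∀ a : A, ∀ x ∈ N, a • x ∈ N) ∧ ∀ L : Subgroup G, N < L → (∀ a : A, ∀ x ∈ L, a • x ∈ L) → L = ⊤) →
        ∃ c : G, (∀ a : A, a • c = c) ∧ N = MulAut.conj c • M) ↔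
      ((∃ p : ℕ, p.Prime ∧ IsPGroup p G) ∧ ∀ L : Subgroup G, frattini G < L → (∀ a : A, ∀ x ∈ L, a • x ∈ L) → L = ⊤)) ∧
    (((∃ p : ℕ, p.Prime ∧ IsPGroup p G) ∧ ∀ L : Subgroup G, frattini G < L → (∀ a : A, ∀ x ∈ L, a • x ∈ L) → L = ⊤) →
      ∀ M : Subgroup G, (M ≠ ⊤ ∧ (∀ a : A, ∀ x ∈ M, a • x ∈ M) ∧ ∀ L : Subgroup G, M < L → (∀ a : A, ∀ x ∈ L, a • x ∈ L) → L = ⊤) ↔ (M = frattini G ∧ M ≠ ⊤)) := by
  refine ⟨⟨fun hall => ?_, ?_⟩, ?_⟩
  · have hp : ∃ p : ℕ, p.Prime ∧ IsPGroup p G := by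
      by_contra hcon
      push Not at hcon
      have hne : (Nat.card G) ≠ 1 := fun h => hcon 2 Nat.prime_two (IsPGroup.of_card (n := 0) (by rw [h, pow_zero]))
      haveI : Nontrivial G := Finite.one_lt_card_iff_nontrivial.1
        (lt_of_le_of_ne Nat.card_pos (Ne.symm hne))
      obtain ⟨M, -, hM⟩ := exists_maxInv (A := A) (L := (⊥ : Subgroup G)) bot_ne_top
        (fun a x hx => by rw [Subgroup.mem_bot] at hx ⊢; rw [hx, smul_one])
      apply hM.1
      refine Subgroup.eq_top_of_card_eq _ (Nat.dvd_antisymm (Subgroup.card_subgroup_dvd_card _) ?_)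
      rw [Nat.dvd_iff_prime_pow_dvd_dvd]
      intro q k hq hk
      haveI := Fact.mk hq
      obtain ⟨S, hS, hSc⟩ := exists_inv_sylow hcop hsol q
      have hSne : S ≠ ⊤ := fun h => hcon q hq (IsPGroup.of_card (n := (Nat.card G).factorization q)
        (by rw [← hSc, h, Subgroup.card_top]))
      obtain ⟨N, hSN, hN⟩ := exists_maxInv hSne hS
      obtain ⟨c, -, hc⟩ := hall M N hM hN
      refine (pow_dvd_pow q ((hq.pow_dvd_iff_le_factorization Nat.card_pos.ne').1 hk)).trans ?_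
      rw [← hSc]
      refine (Subgroup.card_dvd_of_le hSN).trans (dvd_of_eq ?_)
      rw [hc]
      exact Nat.card_congr (Subgroup.equivSMul (MulAut.conj c) M).symm.toEquiv
    obtain ⟨p, hp1, hp2⟩ := hp
    exact ⟨⟨p, hp1, hp2⟩, fun L hlt hL => frattini_max hcop hp1 hp2 hall L hlt hL⟩
  · rintro ⟨-, hF⟩ M N hM hN
    have key : ∀ M : Subgroup G, MaxInv A M → M = frattini G := fun M hM => by
      rcases eq_or_lt_of_le (frattini_le_maxInv hM) with h | h
      · exact h.symm
      · exact absurd (hF M h hM.2.1) hM.1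
    exact ⟨1, fun a => smul_one a, by rw [key M hM, key N hN, map_one, one_smul]⟩
  · rintro ⟨-, hF⟩ M
    constructor
    · intro hM
      rcases eq_or_lt_of_le (frattini_le_maxInv hM) with h | h
      · exact ⟨h.symm, hM.1⟩
      · exact absurd (hF M h hM.2.1) hM.1
    · rintro ⟨rfl, hne⟩
      exact ⟨hne, inv_frattini, hF⟩

end Cfsg.Agent.S4381
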