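import Cfsg.Statements.S4385
import Cfsg.Agent.Lib.Basics.Cores
import Cfsg.Agent.Lib.FGB.DihedralPushShape
import Cfsg.Agent.Lib.FGB.DihedralPushIdent

set_option autoImplicit false
open Pointwise
open Cfsg

namespace Cfsg.Agent.S4385

open Cfsg.Agent Cfsg.Agent.FGB.DPush

theorem two_refl : (1 : Multiplicative (ZMod 2)) = Multiplicative.ofAdd 1 * Multiplicative.ofAdd 1 := by decide

theorem refl_ne : Multiplicative.ofAdd (1 : ZMod 2) ≠ 1 := by decide

/-- The character of a dihedral group trivial on the rotations. -/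
def reflSign {n : ℕ} : DihedralGroup n →* Multiplicative (ZMod 2) :=
  MonoidHom.mk' (fun
    | .r _ => 1
    | .sr _ => Multiplicative.ofAdd 1) (by
      rintro (i | i) (j | j)
      · rfl
      · rfl
      · rfl
      · exact two_refl)

theorem dihedral_top {n : ℕ} [NeZero n] (M : Subgroup (DihedralGroup n)) {a b : ZMod n}
    (ha : DihedralGroup.sr a ∈ M) (hb : DihedralGroup.sr b ∈ M) (hu : IsUnit (b - a)) : M = ⊤ := by
  obtain ⟨v, hv⟩ := hu
  have hd : DihedralGroup.r (b - a) ∈ M := by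
    rw [← DihedralGroup.sr_mul_sr]; exact mul_mem ha hb
  have hr : ∀ j : ZMod n, DihedralGroup.r j ∈ M := by
    intro j
    have h := pow_mem hd ((j * (↑v⁻¹ : ZMod n)).val)
    rw [DihedralGroup.r_pow, ← hv, ZMod.natCast_zmod_val,
      show (v : ZMod n) * (j * (↑v⁻¹ : ZMod n)) = j * ((v : ZMod n) * (↑v⁻¹ : ZMod n)) by ring,
      Units.mul_inv, mul_one] at h
    exact h
  refine eq_top_iff.2 fun g _ => ?_
  rcases g with j | j
  · exact hr j
  · have h := mul_mem ha (hr (j - a))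
    rwa [DihedralGroup.sr_mul_r, add_sub_cancel] at h

theorem lift_top {X : Type*} [Group X] {n : ℕ} [NeZero n] (π : X →* DihedralGroup n)
    (L : Subgroup X) (hker : π.ker ≤ L) {x y : X} (hx : x ∈ L) (hy : y ∈ L) {a b : ZMod n}
    (ha : π x = DihedralGroup.sr a) (hb : π y = DihedralGroup.sr b) (hu : IsUnit (b - a)) : L = ⊤ := by
  have h : L.map π = ⊤ := dihedral_top _ ⟨x, hx, ha⟩ ⟨y, hy, hb⟩ hu
  rw [← Subgroup.comap_map_eq_self hker, h, Subgroup.comap_top]

theorem isUnit_two_pow {n : ℕ} (hn : Odd n) (k : ℕ) : IsUnit (((2 ^ k : ℕ)) : ZMod n) :=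
  (ZMod.isUnit_iff_coprime _ _).2 (Nat.Coprime.pow_left k (Nat.coprime_two_left.2 hn))

theorem odd_of_pCore_eq_bot {n : ℕ} (hn : 2 ≤ n)
    (h : ∀ K : Subgroup (DihedralGroup n), K.Normal → IsPGroup 2 K → K = ⊥) : Odd n := by
  haveI : NeZero n := ⟨by omega⟩
  by_contra hodd
  obtain ⟨m, hm⟩ := Nat.not_odd_iff_even.1 hodd
  have hz : ((m : ZMod n)) + (m : ZMod n) = 0 := by
    rw [← Nat.cast_add, ← hm, ZMod.natCast_self]
  set z : DihedralGroup n := DihedralGroup.r (m : ZMod n) with hzdef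
  have hc : z ∈ Subgroup.center (DihedralGroup n) := Subgroup.mem_center_iff.2 fun g => by
    rcases g with j | j
    · simp [hzdef, DihedralGroup.r_mul_r, add_comm]
    · simp only [hzdef, DihedralGroup.r_mul_sr, DihedralGroup.sr_mul_r]
      congr 1
      rw [eq_sub_iff_add_eq, add_assoc, hz, add_zero]
  have hz2 : z ^ 2 = 1 := by
    rw [pow_two, hzdef, DihedralGroup.r_mul_r, hz, DihedralGroup.r_zero]
  have hK := h (Subgroup.zpowers z) ⟨fun x hx g => by
      obtain ⟨i, rfl⟩ := Subgroup.mem_zpowers_iff.1 hx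
      rw [Subgroup.mem_center_iff.1 (zpow_mem hc i) g, mul_inv_cancel_right]
      exact zpow_mem (Subgroup.mem_zpowers z) i⟩
    (fun x => ⟨1, by
      obtain ⟨i, hi⟩ := Subgroup.mem_zpowers_iff.1 x.2
      ext
      rw [SubmonoidClass.coe_pow, pow_one, ← hi, ← zpow_natCast, ← zpow_mul, mul_comm, zpow_mul,
        zpow_natCast, hz2, one_zpow]
      rfl⟩)
  rw [Subgroup.zpowers_eq_bot, hzdef, DihedralGroup.one_def] at hK
  injection hK with hK
  rw [ZMod.natCast_eq_zero_iff] at hK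
  have := Nat.le_of_dvd (by omega) hK
  omega

/-- Let H be a subgroup of a finite group G whose largest normal 2-subgroup O_2(H) is nontrivial and such that H/O_2(H) is a dihedral group of order at least 4. Let P be a Sylow 2-subgroup of H and S a Sylow 2-subgroup of G containing P. Suppose y ∈ S lies outside P, normalizes P, has y² in the product of P with the centralizer of P in G, and normalizes no non-identity normal subgroup of H contained in P. Then P has order 4, 8 or 16, and H modulo its largest normal subgroup of odd order is isomorphic to the four-group, to the symmetric group of degree 4, or to the direct product of the symmetric group of degree 4 with a group of order 2. -/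
theorem result {G : Type*} [Group G] [Finite G]
    (H : Subgroup G) (hO : Cfsg.pCore 2 ↥H ≠ ⊥) (n : ℕ) (hn : 2 ≤ n) (hdih : Nonempty (↥H ⧸ Cfsg.pCore 2 ↥H ≃* DihedralGroup n))
    (P : Subgroup G) (hPH : P ≤ H) (hP : IsPGroup 2 P) (hPsyl : ¬ 2 ∣ P.relIndex H)
    (S : Sylow 2 G) (hPS : P ≤ (S : Subgroup G)) (y : G) (hyS : y ∈ (S : Subgroup G)) (hyP : y ∉ P)
    (hy2 : y ^ 2 ∈ P ⊔ Subgroup.centralizer (P : Set G)) (hyN : MulAut.conj y • P = P)
    (hyQ : ∀ Q : Subgroup G, Q ≤ P → (Q.subgroupOf H).Normal → MulAut.conj y • Q = Q → Q = ⊥) :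
    (Nat.card P = 4 ∨ Nat.card P = 8 ∨ Nat.card P = 16) ∧
    (Nonempty (↥H ⧸ Cfsg.oddCore ↥H ≃* Multiplicative (ZMod 2) × Multiplicative (ZMod 2)) ∨
     Nonempty (↥H ⧸ Cfsg.oddCore ↥H ≃* Equiv.Perm (Fin 4)) ∨
     Nonempty (↥H ⧸ Cfsg.oddCore ↥H ≃* Equiv.Perm (Fin 4) × Multiplicative (ZMod 2))) := by
  classical
  haveI : Fact (Nat.Prime 2) := ⟨Nat.prime_two⟩
  haveI : NeZero n := ⟨by omega⟩
  obtain ⟨φ⟩ := hdih
  set T0 : Subgroup H := Cfsg.pCore 2 ↥H with hT0
  let π : H →* DihedralGroup n := φ.toMonoidHom.comp (QuotientGroup.mk' T0)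
  have hπker : π.ker = T0 := by
    ext x
    simp [π, QuotientGroup.eq_one_iff]
  have hπone : ∀ x : H, π x = 1 ↔ x ∈ T0 := fun x => by rw [← MonoidHom.mem_ker, hπker]
  have hπsurj : Function.Surjective π := φ.surjective.comp (QuotientGroup.mk'_surjective T0)
  have hnodd : Odd n := by
    refine odd_of_pCore_eq_bot hn fun K hK hK2 => ?_
    haveI := hK
    have h1 : IsPGroup 2 (K.map φ.symm.toMonoidHom) := hK2.map _
    haveI : (K.map φ.symm.toMonoidHom).Normal := hK.map _ φ.symm.surjective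
    have h2 := Basics.le_pCore h1
    rw [Basics.pCore_quotient_eq_bot, le_bot_iff,
      Subgroup.map_eq_bot_iff_of_injective _ φ.symm.injective] at h2
    exact h2
  -- the Sylow subgroup of the subgroup
  set P0 := P.subgroupOf H with hP0def
  have hP0 : IsPGroup 2 P0 := hP.of_equiv (Subgroup.subgroupOfEquivOfLe hPH).symm
  have hidx : ¬ 2 ∣ P0.index := hPsyl
  have hidxo : Odd P0.index := by rwa [← Nat.not_even_iff_odd, even_iff_two_dvd]
  have hTP0 : T0 ≤ P0 := Basics.pCore_le_sylow 2 (hP0.toSylow hidx)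
  -- images of the Sylow subgroup
  have hrot : ∀ a ∈ P0, ∀ i, π a = DihedralGroup.r i → a ∈ T0 := by
    intro a ha i hi
    rw [← hπone, hi]
    obtain ⟨k, hk⟩ := hP0 ⟨a, ha⟩
    have h1 : a ^ 2 ^ k = 1 := congrArg Subtype.val hk
    have h2 : DihedralGroup.r i ^ 2 ^ k = (1 : DihedralGroup n) := by rw [← hi, ← map_pow, h1, map_one]
    rw [DihedralGroup.r_pow, DihedralGroup.one_def] at h2
    injection h2 with h2
    rw [(IsUnit.mul_left_eq_zero (isUnit_two_pow hnodd k)).1 h2, DihedralGroup.r_zero]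
  have hex : ∃ t ∈ P0, t ∉ T0 := by
    by_contra h
    push Not at h
    have he : P0 = T0 := le_antisymm h hTP0
    apply hidx
    rw [he, Subgroup.index_eq_card, Nat.card_congr φ.toEquiv, DihedralGroup.nat_card]
    exact dvd_mul_right 2 n
  obtain ⟨t0, ht0, ht0T⟩ := hex
  obtain ⟨i0, hi0⟩ : ∃ i0, π t0 = DihedralGroup.sr i0 := by
    rcases h : π t0 with i | i
    · exact absurd (hrot t0 ht0 i h) ht0T
    · exact ⟨i, rfl⟩
  have hout : ∀ a ∈ P0, a ∉ T0 → π a = DihedralGroup.sr i0 := by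
    intro a ha haT
    rcases h : π a with i | i
    · exact absurd (hrot a ha i h) haT
    · have h1 : π (t0 * a) = DihedralGroup.r (i - i0) := by rw [map_mul, hi0, h, DihedralGroup.sr_mul_sr]
      have h2 := (hπone _).2 (hrot _ (mul_mem ht0 ha) _ h1)
      rw [h1, DihedralGroup.one_def] at h2
      injection h2 with h2
      rw [sub_eq_zero.1 h2]
  -- the element of odd order
  obtain ⟨u1, hu1⟩ := hπsurj (DihedralGroup.r 1)
  obtain ⟨k, m, hm, hkm⟩ := Nat.exists_eq_two_pow_mul_odd (n := orderOf u1) (orderOf_pos u1).ne'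
  set u0 := u1 ^ 2 ^ k with hu0def
  have hu0 : Odd (orderOf u0) := by
    refine hm.of_dvd_nat (orderOf_dvd_of_pow_eq_one ?_)
    rw [hu0def, ← pow_mul, ← hkm, pow_orderOf_eq_one]
  set c : ZMod n := ((2 ^ k : ℕ) : ZMod n) with hcdef
  have hπu : π u0 = DihedralGroup.r c := by rw [hu0def, map_pow, hu1, DihedralGroup.r_one_pow]
  have hcunit : IsUnit c := isUnit_two_pow hnodd k
  set T := T0.map H.subtype with hTdef
  have hmemT : ∀ {x : G} (hx : x ∈ H), x ∈ T ↔ (⟨x, hx⟩ : H) ∈ T0 := by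
    intro x hx
    exact ⟨fun ⟨⟨w, hw⟩, hw', e⟩ => by cases e; exact hw', fun h => ⟨_, h, rfl⟩⟩
  have hTle : T ≤ P := by
    rintro _ ⟨x, hx, rfl⟩
    exact hTP0 hx
  have hnormT : T0.Normal := hT0 ▸ Basics.pCore_normal 2
  have hTn : ∀ h ∈ H, ∀ x ∈ T, h * x * h⁻¹ ∈ T := by
    rintro h hh _ ⟨x, hx, rfl⟩
    exact ⟨_, hnormT.conj_mem x hx ⟨h, hh⟩, rfl⟩
  have hgen : ∀ L : Subgroup G, T ≤ L → ∀ x y : H, (x : G) ∈ L → (y : G) ∈ L → ∀ a b : ZMod n,
      π x = DihedralGroup.sr a → π y = DihedralGroup.sr b → IsUnit (b - a) → H ≤ L := by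
    intro L hTL x y hx hy a b ha hb hu
    have h := lift_top π (L.comap H.subtype) (fun w hw => hTL ⟨w, hπker ▸ hw, rfl⟩) hx hy ha hb hu
    intro h' hh'
    exact (h.symm ▸ Subgroup.mem_top _ : (⟨h', hh'⟩ : H) ∈ L.comap H.subtype)
  have hπconj : π (u0 * t0 * u0⁻¹) = DihedralGroup.sr (i0 - c - c) := by
    rw [map_mul, map_mul, map_inv, hπu, hi0, DihedralGroup.inv_r, DihedralGroup.r_mul_sr,
      DihedralGroup.sr_mul_r, sub_eq_add_neg (i0 - c) c]
  have hunit2 : IsUnit ((2 : ℕ) : ZMod n) := by simpa using isUnit_two_pow hnodd 1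
  have hyP' : ∀ x ∈ P, y * x * y⁻¹ ∈ P := fun x hx => hyN ▸ Basics.conj_mem_conj_smul hx
  have hPne : P ≠ ⊥ := by
    intro h
    apply hO
    rw [← le_bot_iff]
    intro x hx
    have : (x : G) ∈ P := hTP0 hx
    rw [h, Subgroup.mem_bot] at this
    exact Subtype.ext this
  have hTne : T ≠ ⊥ := fun h => hO (((Subgroup.map_eq_bot_iff_of_injective _ H.subtype_injective).1 h))
  have K : Ctx H T P y (u0 : G) := by
    refine ⟨hTle, hPH, u0.2, by rwa [Subgroup.orderOf_coe], hPne, hP, ?_, hTn, ?_, ?_, hyP', ?_, ?_⟩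
    · intro a ha b hb haT hbT
      refine (hmemT (mul_mem (hPH ha) (hPH hb))).2 ((hπone _).1 ?_)
      rw [show (⟨a * b, mul_mem (hPH ha) (hPH hb)⟩ : H) = ⟨a, hPH ha⟩ * ⟨b, hPH hb⟩ from rfl, map_mul,
        hout _ ha fun h => haT ((hmemT _).2 h), hout _ hb fun h => hbT ((hmemT _).2 h),
        DihedralGroup.sr_mul_self]
    · intro L hPL huL
      refine hgen L (hTle.trans hPL) t0 (u0 * t0 * u0⁻¹) (hPL ht0) (huL _ ht0) _ _ hi0 hπconj ?_
      rw [show i0 - c - c - i0 = -(((2 : ℕ) : ZMod n) * c) by push_cast; ring]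
      exact (hunit2.mul hcunit).neg
    · intro p hp hpT L huL hpuL
      have hTL : T ≤ L := fun x hx => by
        have := huL _ (hTle (hTn _ (inv_mem u0.2) x hx))
        simpa [mul_assoc] using this
      set p0 : H := ⟨p, hPH hp⟩ with hp0
      have hπp : π p0 = DihedralGroup.sr i0 := hout _ hp fun h => hpT ((hmemT _).2 h)
      refine hgen L hTL (u0 * t0 * u0⁻¹) (p0 * u0 * t0 * (p0 * u0)⁻¹) (huL _ ht0) (hpuL _ ht0) _
        (i0 + c + c) hπconj ?_ ?_
      · rw [show p0 * u0 * t0 * (p0 * u0)⁻¹ = p0 * (u0 * t0 * u0⁻¹) * p0⁻¹ by group, map_mul, map_mul,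
          map_inv, hπp, hπconj, DihedralGroup.inv_sr, DihedralGroup.sr_mul_sr, DihedralGroup.r_mul_sr]
        congr 1
        ring
      · rw [show i0 + c + c - (i0 - c - c) = ((2 : ℕ) : ZMod n) * ((2 : ℕ) : ZMod n) * c by push_cast; ring]
        exact (hunit2.mul hunit2).mul hcunit
    · have hle : P ≤ Subgroup.normalizer (Subgroup.centralizer (P : Set G) : Set G) := by
        refine le_trans Subgroup.le_normalizer ?_
        intro g hg
        rw [Subgroup.mem_normalizer_iff]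
        intro w
        simp only [SetLike.mem_coe, Subgroup.mem_centralizer_iff]
        constructor
        · intro hw q hq
          have h1 := hw _ (((Subgroup.mem_normalizer_iff'' (G := G)).1 hg q).1 hq)
          calc q * (g * w * g⁻¹) = g * (g⁻¹ * q * g * w) * g⁻¹ := by group
            _ = g * (w * (g⁻¹ * q * g)) * g⁻¹ := by rw [h1]
            _ = g * w * g⁻¹ * q := by group
        · intro hw q hq
          have h1 := hw _ ((Subgroup.mem_normalizer_iff.1 hg q).1 hq)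
          calc q * w = g⁻¹ * (g * q * g⁻¹ * (g * w * g⁻¹)) * g := by group
            _ = g⁻¹ * (g * w * g⁻¹ * (g * q * g⁻¹)) * g := by rw [h1]
            _ = w * q := by group
      rw [sup_comm] at hy2
      obtain ⟨p, hp, d, hd, e⟩ := (Basics.mem_sup_of_le_normalizer' hle).1 hy2
      exact ⟨p, hp, d, fun x hx => (Subgroup.mem_centralizer_iff.1 hd x hx).symm, by rw [← pow_two, e]⟩
    · intro Q hQP hQH hQy
      refine hyQ Q hQP ⟨fun x hx g => hQH g g.2 x hx⟩ ?_
      refine Subgroup.eq_of_le_of_card_ge ?_ (by rw [Basics.card_conj_smul])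
      intro x hx
      have := hQy _ (Basics.mem_conj_smul.1 hx)
      simpa [mul_assoc] using this
  -- the data inside the subgroup
  let sgn : H →* Multiplicative (ZMod 2) := reflSign.comp π
  have hsgn : ∀ p ∈ P0, sgn p = 1 → p ∈ T0 := fun p hp h => by
    by_contra hpT
    have : reflSign (π p) = (1 : Multiplicative (ZMod 2)) := h
    rw [hout p hp hpT] at this
    exact absurd this refl_ne
  have hker : T0 ≤ sgn.ker := fun x hx => by
    show reflSign (π x) = 1
    rw [(hπone x).2 hx, map_one]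
  have hcardP0 : Nat.card P0 = Nat.card P := Nat.card_congr (Subgroup.subgroupOfEquivOfLe hPH).toEquiv
  have hcardT0 : Nat.card T0 = Nat.card T := (Subgroup.card_map_of_injective H.subtype_injective).symm
  by_cases hZT : omegaZ P ≤ T
  · obtain ⟨r, Sh⟩ := K.exists_shape hZT
    obtain ⟨t, ht, htT, ht2⟩ := Sh.t_ex
    have hrT : r ∈ T := hZT Sh.data.rZ
    set r' := (u0 : G) * r * (u0 : G)⁻¹ with hr'
    have hr'T : r' ∈ T := K.Tn _ u0.2 r hrT
    have hTH := K.TH
    have hall : ∀ {v : G} (hv : v ∈ H), (∀ h : H, h * ⟨v, hv⟩ = ⟨v, hv⟩ * h) → ∀ h ∈ H, h * v = v * h :=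
      fun hv h g hg => congrArg Subtype.val (h ⟨g, hg⟩)
    obtain ⟨hn1, hn2, hn3⟩ := Sh.nocent
    haveI := hnormT
    have key := identB T0 P0 hP0 hidxo sgn hsgn hker hTP0 (u := u0) (r := ⟨r, hTH hrT⟩)
      (r' := ⟨r', hTH hr'T⟩) (t := ⟨t, hPH ht⟩) hu0 ht (fun h => htT ((hmemT _).2 h))
      (fun h => htT ((hmemT _).2 (hsgn _ ht h)))
      (by rw [hcardP0, hcardT0]; exact K.card_P ht htT)
      (fun x hx => Subtype.ext (K.spanV_sq hZT (Sh.VT.symm ▸ (⟨x, hx, rfl⟩ : (x : G) ∈ T))))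
      (Subtype.ext ht2) ((hmemT _).1 hrT) ((hmemT _).1 hr'T)
      (Subtype.ext (show t * r * t⁻¹ = r by rw [← Sh.data.rZ.2.1 t ht, mul_inv_cancel_right]))
      (Subtype.ext (Sh.moved t ht htT))
      (fun h => Sh.data.r1 (congrArg Subtype.val h))
      (fun h => Sh.data.r1 (by
        have h' : r' = 1 := congrArg Subtype.val h
        calc r = (u0 : G)⁻¹ * r' * (u0 : G) := by rw [hr']; group
          _ = 1 := by rw [h']; group))
      (fun h => Sh.ne_one (congrArg Subtype.val h))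
      (fun x hx => by
        obtain ⟨d, hd, hdc, h⟩ := Sh.decomp x ((hmemT x.2).2 hx)
        refine ⟨⟨d, hTH hd⟩, (hmemT _).1 hd, fun g => Subtype.ext (hdc g g.2), ?_⟩
        rcases h with h | h | h | h
        · exact Or.inl (Subtype.ext h)
        · exact Or.inr (Or.inl (Subtype.ext h))
        · exact Or.inr (Or.inr (Or.inl (Subtype.ext h)))
        · exact Or.inr (Or.inr (Or.inr (Subtype.ext h))))
      (fun h => hn1 (hall _ h)) (fun h => hn2 (hall _ h))
      (fun h => hn3 fun g hg => congrArg Subtype.val (h ⟨g, hg⟩))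
      (fun d hd d' hd' hdc hd'c hd1 hd'1 => Subtype.ext (Sh.two d ((hmemT d.2).2 hd) d' ((hmemT d'.2).2 hd')
        (fun g hg => congrArg Subtype.val (hdc ⟨g, hg⟩)) (fun g hg => congrArg Subtype.val (hd'c ⟨g, hg⟩))
        (fun h => hd1 (Subtype.ext h)) (fun h => hd'1 (Subtype.ext h))))
      (fun v hv huv hpv g => Subtype.ext (Sh.fixed v ((hmemT v.2).2 hv) (congrArg Subtype.val huv)
        (fun p hp => congrArg Subtype.val (hpv ⟨p, hPH hp⟩ hp)) g g.2))
      (fun p hp hpc => (hmemT p.2).1 (K.mem_T_of_centralizes hZT hp fun v hv => by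
        have hvT := K.spanV_le hZT hv
        exact congrArg Subtype.val (hpc ⟨v, hTH hvT⟩ ((hmemT _).1 hvT))))
    have hPT := K.card_P ht htT
    rcases key with ⟨h4, e⟩ | ⟨h8, e⟩
    · exact ⟨Or.inr (Or.inl (by omega)), Or.inr (Or.inl e)⟩
    · exact ⟨Or.inr (Or.inr (by omega)), Or.inr (Or.inr e)⟩
  · obtain ⟨z, hz, hzT⟩ : ∃ z ∈ omegaZ P, z ∉ T := by
      by_contra h
      push Not at h
      exact hZT h
    obtain ⟨h4, hz2, -, e, he, he1, hec, hTe⟩ := K.caseA hTne hz hzT
    refine ⟨Or.inl h4, Or.inl ?_⟩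
    exact identA T0 P0 hP0 hidxo sgn hsgn hker hTP0 (hcardP0.trans h4)
      (e := ⟨e, K.TH he⟩) (z := ⟨z, hPH hz.1⟩) ((hmemT _).1 he)
      (fun h => he1 (congrArg Subtype.val h)) (fun x => Subtype.ext (hec x x.2))
      (fun x hx => (hTe x ((hmemT x.2).2 hx)).imp (fun h => Subtype.ext h) (fun h => Subtype.ext h))
      hz.1 (fun h => hzT ((hmemT _).2 h)) (Subtype.ext hz2)

end Cfsg.Agent.S4385
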