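import Cfsg.Statements.S4387
-- import your own Cfsg.Agent.* helpers here

set_option autoImplicit false
open Pointwise
open Cfsg
open scoped Pointwise commutatorElement
set_option linter.all false

namespace Cfsg.Agent.S4387

lemma exists_notMem_conjugates {G : Type*} [Group G] [Finite G] (M : Subgroup G) (hM : M ≠ ⊤) :
    ∃ x : G, ∀ g : G, x ∉ MulAut.conj g • M := by
  classical
  haveI := Fintype.ofFinite G
  by_contra hc
  push Not at hc
  let S : Finset G := (Finset.univ : Finset (G ⧸ M)).biUnion fun c =>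
    ((Finset.univ : Finset G).filter fun x => x ∈ M ∧ x ≠ 1).image fun x => c.out * x * c.out⁻¹
  have hsub : (Finset.univ : Finset G) ⊆ insert 1 S := by
    intro x _
    rw [Finset.mem_insert]
    refine or_iff_not_imp_left.mpr fun hx => ?_
    obtain ⟨g, y, hy, hgy⟩ := hc x
    simp only [MulDistribMulAction.toMonoidEnd_apply, MulDistribMulAction.toMonoidHom_apply, MulAut.smul_def, MulAut.conj_apply] at hgy
    obtain ⟨m, hm⟩ := QuotientGroup.mk_out_eq_mul M g
    refine Finset.mem_biUnion.mpr ⟨(g : G ⧸ M), Finset.mem_univ _, Finset.mem_image.mpr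
      ⟨(m : G)⁻¹ * y * m, ?_, ?_⟩⟩
    · simp only [Finset.mem_filter, Finset.mem_univ, true_and]
      refine ⟨mul_mem (mul_mem (inv_mem m.2) hy) m.2, fun h1 => hx ?_⟩
      have : y = 1 := by
        calc y = (m : G) * ((m : G)⁻¹ * y * m) * (m : G)⁻¹ := by group
          _ = 1 := by rw [h1]; simp
      rw [← hgy, this]; simp
    · rw [hm, ← hgy]; group
  have hle := Finset.card_le_card hsub
  have h2 : S.card ≤ M.index * (Nat.card M - 1) := by
    refine Finset.card_biUnion_le.trans ((Finset.sum_le_card_nsmul _ _ (Nat.card M - 1) fun c _ => ?_).trans ?_)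
    · refine Finset.card_image_le.trans (le_of_eq ?_)
      have : ((Finset.univ : Finset G).filter fun x => x ∈ M ∧ x ≠ 1) = ((Finset.univ : Finset G).filter fun x => x ∈ M).erase 1 := by
        ext x; simp [and_comm]
      rw [this, Finset.card_erase_of_mem (by simp), ← Fintype.card_subtype, ← Nat.card_eq_fintype_card]
    · rw [Finset.card_univ, smul_eq_mul, ← Nat.card_eq_fintype_card]; rfl
  have h1 := hle.trans (Finset.card_insert_le _ _)
  rw [Finset.card_univ, ← Nat.card_eq_fintype_card, ← M.index_mul_card] at h1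
  have h3 : 1 < M.index := M.one_lt_index_of_ne_top hM
  have h4 : 0 < Nat.card M := Nat.card_pos
  have : M.index * (Nat.card M - 1) + M.index = M.index * Nat.card M := by
    rw [← Nat.mul_succ, Nat.succ_eq_add_one, Nat.sub_add_cancel h4]
  omega


/-- Let G be a non-trivial finite group in which any two maximal subgroups are conjugate. Then G is cyclic of prime-power order. -/
theorem result {G : Type*} [Group G] [Finite G] [Nontrivial G]
    (h : ∀ M N : Subgroup G, IsCoatom M → IsCoatom N → ∃ g : G, N = MulAut.conj g • M) :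
    IsCyclic G ∧ IsPrimePow (Nat.card G) := by
  obtain ⟨M, hM, -⟩ := (eq_top_or_exists_le_coatom (⊥ : Subgroup G)).resolve_left bot_ne_top
  obtain ⟨x, hx⟩ := exists_notMem_conjugates M hM.1
  have htop : Subgroup.zpowers x = ⊤ := by
    refine (eq_top_or_exists_le_coatom _).resolve_right ?_
    rintro ⟨N, hN, hle⟩
    obtain ⟨g, rfl⟩ := h M N hM hN
    exact hx g (hle (Subgroup.mem_zpowers x))
  have hcyc : IsCyclic G := ⟨x, fun y => by rw [← Subgroup.mem_zpowers_iff, htop]; trivial⟩
  refine ⟨hcyc, ?_⟩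
  have huniq : ∀ N : Subgroup G, IsCoatom N → N = M := by
    intro N hN
    obtain ⟨g, rfl⟩ := h M N hM hN
    ext y
    rw [Subgroup.mem_pointwise_smul_iff_inv_smul_mem]
    simp only [MulAut.smul_def, MulAut.conj_inv_apply]
    rw [(IsCyclic.commutative (α := G)).is_comm.comm g⁻¹ y, mul_assoc, inv_mul_cancel, mul_one]
  have hlt : 1 < Nat.card G := Finite.one_lt_card
  obtain ⟨p, hp, hpd⟩ := Nat.exists_prime_and_dvd hlt.ne'
  have hprimes : ∀ q : ℕ, q.Prime → q ∣ Nat.card G → x ^ q ∈ M := by
    intro q hq hqd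
    have hne : Subgroup.zpowers (x ^ q) ≠ ⊤ := by
      intro h'
      have e := Nat.card_zpowers (x ^ q)
      rw [h', Subgroup.card_top, orderOf_pow_of_dvd hq.ne_zero (by rw [← Nat.card_zpowers, htop, Subgroup.card_top]; exact hqd), ← Nat.card_zpowers, htop, Subgroup.card_top] at e
      have := Nat.div_lt_self (Nat.card_pos : 0 < Nat.card G) hq.one_lt
      omega
    obtain ⟨N, hN, hle⟩ := (eq_top_or_exists_le_coatom _).resolve_left hne
    rw [← huniq N hN]
    exact hle (Subgroup.mem_zpowers _)
  have hu : ∀ {q : ℕ}, q.Prime → q ∣ Nat.card G → q = p := by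
    intro q hq hqd
    by_contra hne
    have hxM : x ^ ((Nat.gcd q p : ℕ) : ℤ) ∈ M := by
      rw [Nat.gcd_eq_gcd_ab, zpow_add, zpow_mul, zpow_mul, zpow_natCast, zpow_natCast]
      exact mul_mem (zpow_mem (hprimes q hq hqd) _) (zpow_mem (hprimes p hp hpd) _)
    rw [(Nat.coprime_primes hq hp).mpr hne, Nat.cast_one, zpow_one] at hxM
    exact hM.1 (top_le_iff.mp (htop ▸ Subgroup.zpowers_le.mpr hxM))
  have := Nat.eq_prime_pow_of_unique_prime_dvd (n := Nat.card G) (by omega) hu
  refine ⟨p, _, hp.prime, ?_, this.symm⟩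
  by_contra h0
  rw [Nat.eq_zero_of_not_pos h0, pow_zero] at this
  omega

end Cfsg.Agent.S4387
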