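import Cfsg.Statements.S4394
import Cfsg.Agent.Lib.FGB.SchmidtSylowMain
import Cfsg.Agent.Lib.Coprime23.UpperSeries

set_option autoImplicit false
open Cfsg

namespace Cfsg.Agent.S4394

theorem reduced {G : Type*} [Group G] [Finite G] {p : ℕ} [Fact p.Prime]
    (hG : Cfsg.IsPSolvable p G) (hO : Cfsg.pPrimeCore p G = ⊥) (S : Sylow p G)
    (hS : Cfsg.Agent.FGB.SchmidtSyl.HasSchmidtAut p (S : Subgroup G)) : Cfsg.PLengthLE p 1 G := by
  haveI : (Cfsg.pCore p G).Normal := Cfsg.Agent.Basics.pCore_normal p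
  refine Cfsg.Agent.Coprime23.pLengthLE_succ_of_quotient_pCore hO ?_
  have hle := Cfsg.Agent.FGB.SchmidtSyl.sylow_le_pCore hG hO S hS
  rw [Cfsg.PLengthLE, Nat.mul_zero, Nat.zero_add, Cfsg.Agent.Coprime23.upperPSeries_one, eq_top_iff]
  refine Cfsg.Agent.Basics.le_pPrimeCore ?_
  rw [Subgroup.card_top, ← Subgroup.index_eq_card]
  exact ((Fact.out : p.Prime).coprime_iff_not_dvd.2
    fun h => S.not_dvd_index (h.trans (Subgroup.index_dvd_of_le hle))).symm

/-- Let X be a finite minimal non-nilpotent group (not nilpotent, every proper subgroup nilpotent) with a nontrivial normal Sylow p-subgroup P. If G is a finite p-solvable group whose Sylow p-subgroups are isomorphic to P, then G has p-length at most 1. -/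
theorem result {G X : Type*} [Group G] [Finite G] [Group X] [Finite X] (p : ℕ) [Fact p.Prime]
    (hX : Cfsg.IsMinimalNonNilpotent X) (P : Sylow p X) (hPn : (P : Subgroup X).Normal) (hP1 : (P : Subgroup X) ≠ ⊥)
    (hG : Cfsg.IsPSolvable p G) (Q : Sylow p G) (hQ : Nonempty (↥(Q : Subgroup G) ≃* ↥(P : Subgroup X))) : Cfsg.PLengthLE p 1 G := by
  set N := Cfsg.pPrimeCore p G with hN
  haveI : N.Normal := Cfsg.Agent.Basics.pPrimeCore_normal p
  refine Cfsg.Agent.Coprime23.pLengthLE_of_quotient_coprime (Cfsg.Agent.Basics.pPrimeCore_coprime p) ?_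
  obtain ⟨e⟩ := hQ
  have hsurj := QuotientGroup.mk'_surjective N
  refine reduced (Cfsg.Agent.Coprime23.isPSolvable_map _ hsurj hG)
    (Cfsg.Agent.Basics.pPrimeCore_quotient_eq_bot p) (Q.mapSurjective hsurj) ?_
  refine Cfsg.Agent.FGB.SchmidtSyl.hasSchmidtAut_of_mulEquiv
    (e.symm.trans ((MulEquiv.ofBijective ((QuotientGroup.mk' N).subgroupMap (Q : Subgroup G))
      ⟨?_, (QuotientGroup.mk' N).subgroupMap_surjective _⟩).trans
        (MulEquiv.subgroupCongr (Sylow.coe_mapSurjective hsurj Q).symm)))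
    (Cfsg.Agent.FGB.SchmidtSyl.hasSchmidtAut_sylow hX P hPn hP1)
  refine (injective_iff_map_eq_one _).2 fun x hx => Subtype.ext ?_
  refine Subgroup.disjoint_def.1 (Subgroup.disjoint_of_coprime_natCard ?_) x.2
    ((QuotientGroup.eq_one_iff (x : G)).1 (congrArg Subtype.val hx))
  obtain ⟨k, hk⟩ := IsPGroup.iff_card.1 Q.isPGroup'
  rw [hk]
  exact (Cfsg.Agent.Basics.pPrimeCore_coprime (G := G) p).symm.pow_left k

end Cfsg.Agent.S4394
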