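import Cfsg.Statements.S4395
import Cfsg.Agent.Lib.MaxSchmidt.Universal

set_option autoImplicit false
universe u
open Cfsg

namespace Cfsg.Agent.S4395

open Cfsg.Agent.MaxSchmidt
open scoped commutatorElement

/-- The group built on a datum, with its universal property. -/
theorem main {p q r a : ℕ} [Fact p.Prime] [Fact q.Prime] (hpq : p ≠ q) (hr : 1 ≤ r) {K : Type} [Field K]
    [Algebra (ZMod p) K] [Finite K] (ζ : K) (hζq : ζ ^ q = 1) (hζ1 : ζ ≠ 1)
    (hsurj : Function.Surjective (Polynomial.aeval (R := ZMod p) ζ)) (hK : Nat.card K = p ^ a) (ha0 : 0 < a)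
    (hmin : ∀ d, 0 < d → q ∣ p ^ d - 1 → a ∣ d) (hqa : q ∣ p ^ a - 1)
    {H : Type} [Group H] [Finite H] {σ : MulAut H} {v : H} {N : Subgroup H}
    (D : Datum q (minpoly (ZMod p) ζ) σ v N)
    (hcard : Nat.card H = p ^ (if a % 2 = 1 then a else 3 * a / 2)) (hidx : N.index ≤ p ^ a) :
    ∃ (G₀ : Type u) (_ : Group G₀) (_ : Finite G₀),
      (¬ Cfsg.HasNormalPComplement p G₀ ∧ ∀ K : Subgroup G₀, K ≠ ⊤ → Cfsg.HasNormalPComplement p ↥K) ∧
      Nat.card G₀ = p ^ (if a % 2 = 1 then a else 3 * a / 2) * q ^ r ∧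
      ∀ (X : Type u) [Group X] [Finite X], (¬ Cfsg.HasNormalPComplement p X ∧ ∀ K : Subgroup X, K ≠ ⊤ → Cfsg.HasNormalPComplement p ↥K) →
        (∃ t : ℕ, Nat.card X = p ^ t * q ^ r) → ∃ φ : G₀ →* X, Function.Surjective φ ∧ φ.ker ≤ Subgroup.center G₀ := by
  classical
  have hq : q.Prime := Fact.out
  haveI : NeZero (q ^ r) := ⟨pow_ne_zero r hq.ne_zero⟩
  have hqr : 1 < q ^ r := Nat.one_lt_pow (by omega) hq.one_lt
  have hσn : σ ^ (q ^ r) = 1 := by
    rw [show q ^ r = q * q ^ (r - 1) by rw [← pow_succ', Nat.sub_add_cancel hr], pow_mul, D.ord, one_pow]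
  let θ : Multiplicative (ZMod (q ^ r)) →* MulAut H := powHom (q ^ r) σ hσn
  haveI : Finite (H ⋊[θ] Multiplicative (ZMod (q ^ r))) := Finite.of_equiv _ SemidirectProduct.equivProd.symm
  haveI hnt : Nontrivial H := by
    apply Finite.one_lt_card_iff_nontrivial.1
    rw [hcard]
    refine Nat.one_lt_pow ?_ (Fact.out : p.Prime).one_lt
    split_ifs with h <;> omega
  have hone : ((1 : ZMod (q ^ r))).val = 1 := by
    haveI : Fact (1 < q ^ r) := ⟨hqr⟩
    exact ZMod.val_one _
  let e : ULift.{u} (H ⋊[θ] Multiplicative (ZMod (q ^ r))) ≃* H ⋊[θ] Multiplicative (ZMod (q ^ r)) := MulEquiv.ulift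
  refine ⟨ULift.{u} (H ⋊[θ] Multiplicative (ZMod (q ^ r))), inferInstance, inferInstance, ?_, ?_, ?_⟩
  · refine minimal_of_datum hpq hr hmin D hidx hnt (e.symm.toMonoidHom.comp SemidirectProduct.inl)
      (e.symm.injective.comp SemidirectProduct.inl_injective) (SemidirectProduct.rightHom.comp e.toMonoidHom) ?_
      (e.symm (SemidirectProduct.inr (Multiplicative.ofAdd 1))) ?_ ?_ ?_
    · ext x
      constructor
      · intro hx
        have : e x ∈ (SemidirectProduct.inl (φ := θ)).range := by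
          rw [SemidirectProduct.range_inl_eq_ker_rightHom]; exact hx
        obtain ⟨h, hh⟩ := this
        exact ⟨h, by show e.symm _ = x; rw [hh, e.symm_apply_apply]⟩
      · rintro ⟨h, rfl⟩
        show SemidirectProduct.rightHom (e (e.symm (SemidirectProduct.inl h))) = 1
        rw [e.apply_symm_apply, SemidirectProduct.rightHom_inl]
    · show SemidirectProduct.rightHom (e (e.symm _)) = _
      rw [e.apply_symm_apply, SemidirectProduct.rightHom_inr]
    · rw [← map_pow, ← map_pow, ← ofAdd_nsmul, nsmul_one, ZMod.natCast_self, ofAdd_zero, map_one, map_one]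
    · intro h
      show e.symm _ * e.symm _ * (e.symm _)⁻¹ = e.symm _
      rw [← map_inv, ← map_mul, ← map_mul]
      congr 1
      rw [← map_inv, ← SemidirectProduct.inl_aut]
      congr 1
      show (σ ^ ((1 : ZMod (q ^ r))).val) h = σ h
      rw [hone, pow_one]
  · rw [Nat.card_congr e.toEquiv, SemidirectProduct.card, hcard]
    congr 1
    exact (Nat.card_congr Multiplicative.toAdd).trans (Nat.card_zmod _)
  · intro X _ _ hX ht
    obtain ⟨t, ht⟩ := ht
    obtain ⟨P, hn, y, hP, hy, hsup, hτq, hτ1, hirr⟩ := exists_structure hpq hX.1 hX.2 ht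
    haveI := hn
    obtain ⟨k, hk, w, M, E⟩ := exists_datum hpq ζ hζq hζ1 hP (MulAut.conjNormal y) hτq hτ1 hirr
    obtain ⟨φH, hφs, hφc⟩ := exists_hom hpq ζ hζq hζ1 hsurj hK hmin hqa D hcard E
    have hy' : (y ^ k) ^ (q ^ r) = 1 := by rw [← pow_mul, mul_comm, pow_mul, hy, one_pow]
    have hpow : ∀ (i : ℕ) (h : H), φH ((σ ^ i) h) = (((MulAut.conjNormal y : MulAut P) ^ k) ^ i) (φH h) := by
      intro i
      induction i with
      | zero => intro h; rfl
      | succ i ih => intro h; rw [pow_succ, MulAut.mul_apply, ih, hφc, pow_succ ((MulAut.conjNormal y : MulAut P) ^ k), MulAut.mul_apply]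
    let F : H ⋊[θ] Multiplicative (ZMod (q ^ r)) →* X :=
      SemidirectProduct.lift (P.subtype.comp φH) (powHom (q ^ r) (y ^ k) hy') (fun c => by
        ext h
        show ((φH ((σ ^ c.toAdd.val) h) : P) : X) = MulAut.conj ((y ^ k) ^ c.toAdd.val) (φH h : X)
        rw [hpow, ← map_pow, ← map_pow, MulAut.conjNormal_apply, MulAut.conj_apply])
    refine ⟨F.comp e.toMonoidHom, ?_, ?_⟩
    · suffices hFs : Function.Surjective F from hFs.comp e.surjective
      rw [← MonoidHom.range_eq_top, eq_top_iff, ← hsup, sup_le_iff, Subgroup.zpowers_le]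
      constructor
      · intro x hx
        obtain ⟨h, hh⟩ := hφs ⟨x, hx⟩
        exact ⟨SemidirectProduct.inl h, by rw [SemidirectProduct.lift_inl]; exact congrArg Subtype.val hh⟩
      · obtain ⟨j, hj⟩ := pow_inv_exp hqr (Nat.Coprime.pow_right r ((hq.coprime_iff_not_dvd.2 hk).symm)) y hy
        rw [← hj]
        have hmem : y ^ k ∈ F.range := ⟨SemidirectProduct.inr (Multiplicative.ofAdd 1), by
          rw [SemidirectProduct.lift_inr, powHom_apply, toAdd_ofAdd, hone, pow_one]⟩
        exact pow_mem hmem j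
    · intro g hg
      have hg' : F (e g) = 1 := hg
      obtain ⟨h, hh⟩ : ∃ h, h = (e g).left := ⟨_, rfl⟩
      obtain ⟨c, hc⟩ : ∃ c, c = (e g).right := ⟨_, rfl⟩
      have heg : e g = SemidirectProduct.inl h * SemidirectProduct.inr c := by
        rw [hh, hc, SemidirectProduct.inl_left_mul_inr_right]
      rw [heg, map_mul, SemidirectProduct.lift_inl, SemidirectProduct.lift_inr] at hg'
      have hz : ((y ^ k) ^ c.toAdd.val) ^ (q ^ r) = 1 := by rw [← pow_mul, mul_comm, pow_mul, hy', one_pow]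
      have hzero : (y ^ k) ^ c.toAdd.val = 1 ∧ φH h = 1 := by
        obtain ⟨l, hl⟩ := hP (φH h)
        have h1 : ((φH h : P) : X) ^ p ^ l = 1 := by rw [← SubmonoidClass.coe_pow, hl]; rfl
        have h2 : (y ^ k) ^ c.toAdd.val = ((φH h : P) : X)⁻¹ := (inv_eq_of_mul_eq_one_right hg').symm
        have h3 : ((y ^ k) ^ c.toAdd.val) ^ p ^ l = 1 := by rw [h2, inv_pow, h1, inv_one]
        have h4 := pow_gcd_eq_one.2 ⟨hz, h3⟩
        rw [(Nat.Coprime.pow_left r ((Nat.coprime_primes hq Fact.out).2 (Ne.symm hpq))).pow_right l, pow_one] at h4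
        refine ⟨h4, Subtype.ext ?_⟩
        rw [h4, eq_comm, inv_eq_one] at h2
        exact h2
      have hθ : θ c = 1 := by
        show σ ^ c.toAdd.val = 1
        have h1 : ((MulAut.conjNormal y : MulAut P) ^ k) ^ c.toAdd.val = 1 := by
          rw [← map_pow, ← map_pow, hzero.1, map_one]
        have h3 : q ∣ c.toAdd.val := by
          by_contra hnd
          obtain ⟨j, hj⟩ := pow_inv_exp hq.one_lt ((hq.coprime_iff_not_dvd.2 hnd).symm)
            ((MulAut.conjNormal y : MulAut P) ^ k) E.ord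
          rw [h1, one_pow] at hj
          obtain ⟨j', hj'⟩ := pow_inv_exp hq.one_lt ((hq.coprime_iff_not_dvd.2 hk).symm)
            (MulAut.conjNormal y : MulAut P) hτq
          rw [← hj, one_pow] at hj'
          exact hτ1 hj'.symm
        obtain ⟨d, hd⟩ := h3
        rw [hd, pow_mul, D.ord, one_pow]
      have hhN : h ∈ N := by
        rcases D.dichotomy hpq hmin hidx φH.ker (fun x hx => by
          rw [MonoidHom.mem_ker] at hx ⊢
          rw [hφc, hx, map_one]) with hle | htop
        · exact hle hzero.2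
        · exfalso
          apply hτ1
          refine MulEquiv.ext fun x => ?_
          obtain ⟨z, rfl⟩ := hφs x
          rw [MonoidHom.ker_eq_top_iff.1 htop, MonoidHom.one_apply, map_one, map_one]
      rw [Subgroup.mem_center_iff]
      intro z
      apply e.injective
      rw [map_mul, map_mul, heg]
      have hfixh : ∀ d, θ d h = h := fun d => D.pow_fix _ hhN
      apply SemidirectProduct.ext
      · simp [SemidirectProduct.mul_left, hfixh, hθ, Subgroup.mem_center_iff.1 (D.central hhN)]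
      · simp [SemidirectProduct.mul_right, mul_comm]

/-- Let p ≠ q be primes, r ≥ 1, a the multiplicative order of p modulo q, and a₀ = a when a is odd, a₀ = 3a/2 when a is even. Call a finite group minimal non-p-nilpotent when it has no normal p-complement but every proper subgroup has one. Then there is a minimal non-p-nilpotent group G₀ of order p^a₀ · q^r such that every minimal non-p-nilpotent group of order p^t · q^r (any t) is a quotient of G₀ by a central subgroup. -/
theorem result (p q r : ℕ) [Fact p.Prime] [Fact q.Prime] (hpq : p ≠ q) (hr : 1 ≤ r) (a a₀ : ℕ)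
    (ha : a = orderOf (p : ZMod q)) (ha₀ : a₀ = if a % 2 = 1 then a else 3 * a / 2) :
    ∃ (G₀ : Type u) (_ : Group G₀) (_ : Finite G₀),
      (¬ Cfsg.HasNormalPComplement p G₀ ∧ ∀ K : Subgroup G₀, K ≠ ⊤ → Cfsg.HasNormalPComplement p ↥K) ∧ Nat.card G₀ = p ^ a₀ * q ^ r ∧
      ∀ (X : Type u) [Group X] [Finite X], (¬ Cfsg.HasNormalPComplement p X ∧ ∀ K : Subgroup X, K ≠ ⊤ → Cfsg.HasNormalPComplement p ↥K) →
        (∃ t : ℕ, Nat.card X = p ^ t * q ^ r) → ∃ φ : G₀ →* X, Function.Surjective φ ∧ φ.ker ≤ Subgroup.center G₀ := by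
  subst ha₀; subst ha
  obtain ⟨ha0, hqa, hmin, -⟩ := exists_field p q hpq
  obtain ⟨ζ, hζq, hζ1, hsurj, H, hG, hF, σ, v, N, D, hcard, hidx⟩ := exists_model p q hpq
  exact main hpq hr (ζ : GaloisField p (orderOf (p : ZMod q)))
    (by rw [← Units.val_pow_eq_pow_val, hζq, Units.val_one]) (fun h => hζ1 (Units.ext h)) hsurj
    (GaloisField.card p _ ha0.ne') ha0 hmin hqa D hcard hidx

end Cfsg.Agent.S4395
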