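import Cfsg.Statements.S4396
import Cfsg.Agent.Lib.Basics.FreeFrobModule
-- import your own Cfsg.Agent.* helpers here

set_option autoImplicit false
open Cfsg
open scoped Pointwise

namespace Cfsg.Agent.S4396

theorem isInternal_of_freeOn {k V A : Type*} [Field k] [AddCommGroup V] [Module k V] [Group A]
    [DecidableEq A] (ρ : Representation k A V) (H : Subgroup A) [Fintype H] (W : Submodule k V)
    (h : FreeFrob.FreeOn ρ H ⊤ W) : DirectSum.IsInternal (fun a : ↥H => W.map (ρ (a : A))) := by
  classical
  have hsum : ∀ d : DirectSum H (fun a => W.map (ρ (a : A))),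
      DirectSum.coeAddMonoidHom _ d = ∑ a : H, (d a : V) := fun d => by
    conv_lhs => rw [← DirectSum.sum_univ_of d]
    simp [map_sum]
  constructor
  · intro d d' e
    rw [hsum, hsum] at e
    choose w hw hwd using fun a => Submodule.mem_map.1 (d a).2
    choose w' hw' hwd' using fun a => Submodule.mem_map.1 (d' a).2
    have h0 : (fun a => w a - w' a) = 0 := h.1 _ (fun a => W.sub_mem (hw a) (hw' a)) (by
      simp only [FreeFrob.Phi, map_sub, Finset.sum_sub_distrib, hwd, hwd', e, sub_self])
    refine DFinsupp.ext fun a => Subtype.ext ?_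
    rw [← hwd a, ← hwd' a, sub_eq_zero.1 (congrFun h0 a)]
  · intro v
    obtain ⟨f, hf, e⟩ := (h.2 v).1 trivial
    refine ⟨∑ a, DirectSum.of (fun a : H => W.map (ρ (a : A))) a
      ⟨ρ (a : A) (f a), Submodule.mem_map_of_mem (hf a)⟩, ?_⟩
    rw [map_sum]
    simp only [DirectSum.coeAddMonoidHom_of]
    exact e


/-- Let the finite group A act faithfully and linearly on a finite-dimensional vector space V over a field k, and suppose A is a Frobenius group with nilpotent kernel F (every Frobenius kernel is nilpotent) and complement H such that F fixes no nonzero vector. Then V is free as a module for H: there is a subspace W with V the direct sum of the translates hW, h ∈ H. (No assumption on the characteristic of k.) -/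
theorem result {k V A : Type*} [Field k] [AddCommGroup V] [Module k V] [FiniteDimensional k V] [Group A] [Finite A] [DecidableEq A]
    (ρ : Representation k A V) (hρ : Function.Injective ρ)
    (Fk Hc : Subgroup A) [Fk.Normal] (hHc : Cfsg.IsFrobeniusComplement Hc) (hker : Cfsg.frobeniusKernel Hc = (Fk : Set A)) (hnil : Group.IsNilpotent ↥Fk)
    (hCF : ∀ v : V, (∀ f ∈ Fk, ρ f v = v) → v = 0) :
    ∃ W : Submodule k V, DirectSum.IsInternal (fun h : ↥Hc => W.map (ρ (h : A))) := by
  classical
  haveI := Fintype.ofFinite A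
  obtain ⟨Q, hQn, hQle, hQnil, hcard, hfix⟩ : ∃ Q : Subgroup A, Q.Normal ∧ Q ≤ Fk ∧ Group.IsNilpotent Q ∧
      (Nat.card Q : k) ≠ 0 ∧ ∀ v : V, (∀ z ∈ Q, ρ z v = v) → v = 0 := by
    obtain ⟨p, hp⟩ := CharP.exists k
    haveI := hp
    rcases CharP.char_is_prime_or_zero k p with hpp | hp0
    · haveI := Fact.mk hpp
      haveI := hnil
      let Q : Subgroup A := (Cfsg.pPrimeCore p Fk).map Fk.subtype
      have hle : Q ≤ Fk := Subgroup.map_subtype_le _
      have hn : Q.Normal := inferInstanceAs ((Cfsg.pPrimeCore p Fk).map Fk.subtype).Normal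
      haveI : Group.IsNilpotent (Cfsg.pPrimeCore p Fk) := inferInstance
      refine ⟨Q, hn, hle,
        Group.nilpotent_of_mulEquiv (Subgroup.equivMapOfInjective _ _ Fk.subtype_injective), ?_, ?_⟩
      · rw [Ne, CharP.cast_eq_zero_iff k p]
        rw [show Nat.card Q = Nat.card (Cfsg.pPrimeCore p Fk) from
          Subgroup.card_map_of_injective Fk.subtype_injective]
        exact Basics.not_dvd_card_pPrimeCore p
      · obtain ⟨P, N, hN, hc⟩ := Basics.hasNormalPComplement_of_nilpotent (G := Fk) p
        have hNQ : N ≤ Cfsg.pPrimeCore p Fk := by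
          refine Basics.le_pPrimeCore ?_
          rw [← hc.index_eq_card]
          exact ((Nat.Prime.coprime_iff_not_dvd hpp).2 P.not_dvd_index).symm
        intro v hv
        by_contra hv0
        let W : Submodule k V :=
          { carrier := {u | ∀ z ∈ Q, ρ z u = u}
            add_mem' := fun ha hb z hz => by rw [map_add, ha z hz, hb z hz]
            zero_mem' := fun z _ => map_zero _
            smul_mem' := fun c u hu z hz => by rw [map_smul, hu z hz] }
        let τ : Representation k P V := ρ.comp (Fk.subtype.comp (P : Subgroup Fk).subtype)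
        have hW : ∀ g : P, ∀ u ∈ W, τ g u ∈ W := by
          intro g u hu z hz
          let a : A := ((g : Fk) : A)
          have h1 := hu _ (hn.conj_mem z hz a⁻¹)
          show ρ z (ρ a u) = ρ a u
          calc ρ z (ρ a u) = ρ (a * (a⁻¹ * z * a⁻¹⁻¹)) u := by
                rw [← Module.End.mul_apply, ← map_mul]; congr 2; group
            _ = ρ a u := by rw [map_mul, Module.End.mul_apply, h1]
        obtain ⟨u, hu, hu0, huP⟩ := PermGp.exists_fixed_vector P.isPGroup' τ W hW
          ((Submodule.ne_bot_iff W).2 ⟨v, hv, hv0⟩)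
        refine hu0 (hCF u fun f hf => ?_)
        have hsup : (⟨f, hf⟩ : Fk) ∈ N ⊔ (P : Subgroup Fk) := by rw [hc.sup_eq_top]; trivial
        obtain ⟨a, ha, b, hb, hab⟩ := Subgroup.mem_sup_of_normal_left.1 hsup
        have e : f = (a : A) * (b : A) := (congrArg Subtype.val hab).symm
        rw [e, map_mul, Module.End.mul_apply, show ρ (b : A) u = u from huP ⟨b, hb⟩]
        exact hu _ ⟨a, hNQ ha, rfl⟩
    · subst hp0
      haveI := CharP.charP_to_charZero k
      exact ⟨Fk, inferInstance, le_rfl, hnil, Nat.cast_ne_zero.2 Nat.card_pos.ne', hCF⟩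
  haveI := hQn
  haveI : Fintype Hc := Fintype.ofFinite Hc
  obtain ⟨W, hW⟩ := FreeFrob.free_of_nilpotent ρ Q Hc hQnil hcard (fun h hh h1 z hz e => by
    by_contra hz1
    have hzk : z ∈ (Fk : Set A) := hQle hz
    rw [← hker] at hzk
    have hzH : z ∉ Hc := fun hzH => (hzk.resolve_left hz1) 1 (by simpa using hzH)
    have hm : h ∈ Hc ⊓ (MulAut.conj z • Hc) := ⟨hh, Subgroup.mem_pointwise_smul_iff_inv_smul_mem.2 (by
      have e' : z⁻¹ * h * z = h := by
        rw [mul_assoc, show h * z = z * h from mul_inv_eq_iff_eq_mul.1 e, inv_mul_cancel_left]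
      simpa [MulAut.smul_def, e'] using hh)⟩
    rw [hHc.2.2 z hzH] at hm
    exact h1 hm) hfix
  exact ⟨W, isInternal_of_freeOn ρ Hc W hW⟩

end Cfsg.Agent.S4396
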