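import Cfsg.Statements.S4397
import Cfsg.Agent.Lib.FGS.SectionalRankFour
import Cfsg.Agent.Lib.Basics.Frattini

set_option autoImplicit false
open Cfsg
open scoped Pointwise
set_option linter.all false

namespace Cfsg.Agent.S4397

open Subgroup
open scoped commutatorElement
open Cfsg.Agent

universe u

private theorem mk_meta {G : Type u} [Group G] (N : Subgroup G) (hN : N.Normal) (hc : IsCyclic N)
    (g : G) (h : N ⊔ zpowers g = ⊤) : IsMetacyclic G := by
  refine ⟨N, hN, hc, isCyclic_iff_exists_zpowers_eq_top.2 ⟨QuotientGroup.mk' N g, ?_⟩⟩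
  rw [← MonoidHom.map_zpowers, ← (map_sup_eq_of_surjective_aux N g)]
  rw [h, map_top_of_surjective _ (QuotientGroup.mk'_surjective N)]
where
  map_sup_eq_of_surjective_aux (N : Subgroup G) [N.Normal] (g : G) :
      (N ⊔ zpowers g).map (QuotientGroup.mk' N) = (zpowers g).map (QuotientGroup.mk' N) := by
    rw [Subgroup.map_sup, (map_eq_bot_iff N).2 (le_of_eq (QuotientGroup.ker_mk' N).symm), bot_sup_eq]

private theorem two_gen {G : Type u} [Group G] [Finite G] (h2 : IsPGroup 2 G)
    (hr : SectionalPRankLE 2 2 G) : ∃ a b : G, zpowers a ⊔ zpowers b = ⊤ := by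
  haveI := Fact.mk Nat.prime_two
  haveI : Group.IsNilpotent G := h2.isNilpotent
  set F := frattini G with hF
  have hsq : ∀ x : G, x ^ 2 ∈ F := fun x => Basics.pow_mem_frattini h2 x
  have hq : Nat.card (G ⧸ F) ≤ 4 := by
    have h := FGS.SectionalRankFour.rank_le hr (MonoidHom.id G) Function.injective_id
      (QuotientGroup.mk' F) (QuotientGroup.mk'_surjective F) ⊤
      ⟨⟨fun x y => Subtype.ext (by
        obtain ⟨x, -⟩ := x
        obtain ⟨y, -⟩ := y
        obtain ⟨a, rfl⟩ := QuotientGroup.mk'_surjective F x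
        obtain ⟨b, rfl⟩ := QuotientGroup.mk'_surjective F y
        show QuotientGroup.mk' F a * QuotientGroup.mk' F b = QuotientGroup.mk' F b * QuotientGroup.mk' F a
        rw [← map_mul, ← map_mul]
        refine QuotientGroup.eq.2 ?_
        have hc := Subgroup.commutator_mem_commutator (mem_top b⁻¹) (mem_top a⁻¹)
        rw [← _root_.commutator_def] at hc
        have := Basics.commutator_le_frattini hc
        simpa [commutatorElement_def, mul_assoc] using this)⟩⟩
      (fun x _ => by
        induction x using QuotientGroup.induction_on with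
        | _ a => exact (QuotientGroup.eq_one_iff _).2 (hsq a))
    simpa using h
  rw [← index_eq_card] at hq
  have key : ∀ H : Subgroup G, F ≤ H → ∀ x, x ∉ H → 2 * (H ⊔ zpowers x).index ≤ H.index := by
    intro H _ x hx
    have hlt : H < H ⊔ zpowers x := lt_of_le_of_ne le_sup_left
      fun e => hx (e ▸ mem_sup_right (mem_zpowers x))
    rw [← relIndex_mul_index hlt.le]
    refine Nat.mul_le_mul_right _ ?_
    rcases Nat.lt_or_ge (H.relIndex (H ⊔ zpowers x)) 2 with h | h
    · have h0 : H.relIndex (H ⊔ zpowers x) ≠ 0 := by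
        rw [relIndex]; exact index_ne_zero_of_finite
      exact absurd (relIndex_eq_one.1 (show H.relIndex (H ⊔ zpowers x) = 1 by omega)) hlt.not_ge
    · exact h
  by_cases h0 : F = ⊤
  · refine ⟨1, 1, ?_⟩
    apply frattini_nongenerating
    rw [← hF, h0]; simp
  obtain ⟨a, -, ha⟩ := SetLike.exists_of_lt (lt_top_iff_ne_top.2 h0)
  have h1 := key F le_rfl a ha
  by_cases h3 : F ⊔ zpowers a = ⊤
  · refine ⟨a, a, ?_⟩
    rw [sup_idem]
    apply frattini_nongenerating
    rwa [← hF, sup_comm]
  obtain ⟨b, -, hb⟩ := SetLike.exists_of_lt (lt_top_iff_ne_top.2 h3)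
  have h4 := key _ le_sup_left b hb
  refine ⟨a, b, frattini_nongenerating ?_⟩
  rw [← hF]
  apply index_eq_one.1
  rw [show zpowers a ⊔ zpowers b ⊔ F = F ⊔ zpowers a ⊔ zpowers b by rw [sup_comm, sup_assoc]]
  have h5 : (F ⊔ zpowers a ⊔ zpowers b).index ≠ 0 := index_ne_zero_of_finite
  omega

private theorem central_comm {G : Type u} [Group G] {z : G} (hz : z ∈ center G)
    (hG : commutator G ≤ zpowers z) (x g : G) : ∃ k : ℤ, g * x * g⁻¹ = z ^ k * x := by
  have h : ⁅g, x⁆ ∈ commutator G := by
    rw [_root_.commutator_def]; exact commutator_mem_commutator (mem_top g) (mem_top x)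
  obtain ⟨k, hk⟩ := hG h
  refine ⟨k, ?_⟩
  simp only at hk
  rw [hk, commutatorElement_def]; group

private theorem small {G : Type u} [Group G] [Finite G] (h2 : IsPGroup 2 G)
    (hr : SectionalPRankLE 2 2 G) {z : G} (hz : z ∈ center G) (hz1 : z ≠ 1) (hz2 : z ^ 2 = 1)
    (hG : commutator G ≤ zpowers z) {a0 b0 : G} (hgen : zpowers a0 ⊔ zpowers b0 = ⊤) :
    IsMetacyclic G := by
  classical
  haveI := Fact.mk Nat.prime_two
  haveI hZn : (zpowers z).Normal := ⟨fun n hn g => by
    have hc : n ∈ center G := (zpowers_le.2 hz) hn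
    rw [(mem_center_iff.1 hc g), mul_inv_cancel_right]; exact hn⟩
  set q := QuotientGroup.mk' (zpowers z) with hq
  have qc : ∀ x y : G, q x * q y = q y * q x := fun x y => by
    rw [← map_mul, ← map_mul]
    refine QuotientGroup.eq.2 (hG ?_)
    have hc := Subgroup.commutator_mem_commutator (mem_top y⁻¹) (mem_top x⁻¹)
    rw [← _root_.commutator_def] at hc
    simpa [commutatorElement_def, mul_assoc] using hc
  have hex : ∃ n, ∃ a b : G, zpowers a ⊔ zpowers b = ⊤ ∧ orderOf (q a) + orderOf (q b) = n :=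
    ⟨_, a0, b0, hgen, rfl⟩
  obtain ⟨n, ⟨a, b, hab, hn⟩, hmin⟩ := Nat.lt_wfRel.wf.has_min
    {n | ∃ a b : G, zpowers a ⊔ zpowers b = ⊤ ∧ orderOf (q a) + orderOf (q b) = n} hex
  wlog hle : orderOf (q b) ≤ orderOf (q a) generalizing a b with H
  · exact H b a (by rw [sup_comm]; exact hab) (by omega) (le_of_not_ge hle)
  have normal_of : ∀ x : G, z ∈ zpowers x → (zpowers x).Normal := fun x hx => ⟨fun y hy g => by
    obtain ⟨k, hk⟩ := central_comm hz hG y g
    rw [hk]
    exact mul_mem (zpow_mem hx k) hy⟩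
  by_cases hza : z ∈ zpowers a
  · exact mk_meta _ (normal_of a hza) inferInstance b hab
  by_cases hzb : z ∈ zpowers b
  · exact mk_meta _ (normal_of b hzb) inferInstance a (by rw [sup_comm]; exact hab)
  have hzz : ∀ y ∈ zpowers z, y = 1 ∨ y = z := by
    rintro y ⟨k, rfl⟩
    rcases Int.even_or_odd k with ⟨i, rfl⟩ | ⟨i, rfl⟩
    · left
      show z ^ (i + i) = 1
      rw [← two_mul, zpow_mul, zpow_natCast_two hz2, one_zpow]
    · right
      show z ^ (2 * i + 1) = z
      rw [zpow_add, zpow_mul, zpow_natCast_two hz2, one_zpow, one_mul, zpow_one]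
  have low : ∀ x : G, z ∉ zpowers x → x ^ orderOf (q x) = 1 := fun x hx => by
    have h : q (x ^ orderOf (q x)) = 1 := by rw [map_pow, pow_orderOf_eq_one]
    rcases hzz _ ((QuotientGroup.eq_one_iff _).1 h) with h | h
    · exact h
    · exact absurd (h ▸ pow_mem (mem_zpowers x) _) hx
  have pow2 : ∀ x : G, ∃ i, orderOf (q x) = 2 ^ i := fun x => by
    obtain ⟨k, hk⟩ := h2 x
    obtain ⟨i, -, hi⟩ := (Nat.dvd_prime_pow Nat.prime_two).1
      (orderOf_dvd_of_pow_eq_one (show (q x) ^ 2 ^ k = 1 by rw [← map_pow, hk, map_one]))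
    exact ⟨i, hi⟩
  obtain ⟨m, hm⟩ := pow2 a
  obtain ⟨l, hl⟩ := pow2 b
  rcases Nat.eq_zero_or_pos l with hl0 | hlpos
  · have hb1 : b = 1 := by
      have := low b hzb
      rwa [hl, hl0, pow_zero, pow_one] at this
    rw [hb1, zpowers_one_eq_bot, sup_bot_eq] at hab
    exact absurd (hab ▸ mem_top z) hza
  obtain ⟨m, rfl⟩ : ∃ m', m = m' + 1 := by
    rcases m with _ | m'
    · rw [hm, hl] at hle
      have := Nat.one_lt_two_pow (n := l) (by omega)
      simp at hle; omega
    · exact ⟨m', rfl⟩
  obtain ⟨l, rfl⟩ : ∃ l', l = l' + 1 := ⟨l - 1, by omega⟩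
  have hlm : l ≤ m := by
    rw [hm, hl] at hle
    have := (Nat.pow_le_pow_iff_right (by norm_num : 1 < 2)).1 hle
    omega
  set u := a ^ 2 ^ m with hu
  set v := b ^ 2 ^ l with hv
  have hu2 : u ^ 2 = 1 := by
    rw [hu, ← pow_mul, ← pow_succ, ← hm]; exact low a hza
  have hv2 : v ^ 2 = 1 := by
    rw [hv, ← pow_mul, ← pow_succ, ← hl]; exact low b hzb
  have hqu : q u ≠ 1 := by
    rw [hu, map_pow]
    exact pow_ne_one_of_lt_orderOf (by positivity) (by rw [hm, pow_succ]; have := Nat.two_pow_pos m; omega)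
  have hqv : q v ≠ 1 := by
    rw [hv, map_pow]
    exact pow_ne_one_of_lt_orderOf (by positivity) (by rw [hl, pow_succ]; have := Nat.two_pow_pos l; omega)
  have hquv : q u * q v ≠ 1 := by
    intro h
    set b' := b * a ^ 2 ^ (m - l) with hb'
    have hgen' : zpowers a ⊔ zpowers b' = ⊤ := by
      refine eq_top_iff.2 (hab ▸ sup_le le_sup_left (zpowers_le.2 ?_))
      have : b = b' * (a ^ 2 ^ (m - l))⁻¹ := by rw [hb']; group
      rw [this]
      exact mul_mem (mem_sup_right (mem_zpowers b')) (mem_sup_left (inv_mem (pow_mem (mem_zpowers a) _)))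
    have hd : orderOf (q b') ≤ 2 ^ l := by
      refine Nat.le_of_dvd (Nat.two_pow_pos l) (orderOf_dvd_of_pow_eq_one ?_)
      rw [hb', map_mul, (show Commute (q b) (q (a ^ 2 ^ (m - l))) from qc _ _).mul_pow, map_pow,
        ← pow_mul, ← pow_add, Nat.sub_add_cancel hlm, ← map_pow, ← map_pow, ← hv, ← hu, qc, h]
    refine hmin _ ⟨a, b', hgen', rfl⟩ ?_
    show orderOf (q a) + orderOf (q b') < n
    rw [← hn, hl, pow_succ]
    have := Nat.two_pow_pos l
    omega
  rcases Nat.eq_zero_or_pos m with hm0 | hmpos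
  · -- two involutions
    have hl0 : l = 0 := by omega
    have ha2 : a ^ 2 = 1 := by simpa [hu, hm0] using hu2
    have hb2 : b ^ 2 = 1 := by simpa [hv, hl0] using hv2
    have ha' : a⁻¹ = a := inv_eq_of_mul_eq_one_right (by rw [← pow_two]; exact ha2)
    have hb' : b⁻¹ = b := inv_eq_of_mul_eq_one_right (by rw [← pow_two]; exact hb2)
    have hN : (zpowers (a * b)).Normal := by
      rw [← normalizer_eq_top_iff, eq_top_iff, ← hab]
      refine sup_le (zpowers_le.2 ?_) (zpowers_le.2 ?_)
      · refine mem_normalizer_iff.2 fun h => ?_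
        have e : MulAut.conj a (a * b) = (a * b)⁻¹ := by
          simp only [MulAut.conj_apply, mul_inv_rev, ha', hb']
          rw [← mul_assoc, ← pow_two, ha2, one_mul]
        show h ∈ zpowers (a * b) ↔ MulAut.conj a h ∈ zpowers (a * b)
        constructor
        · rintro ⟨k, rfl⟩
          refine ⟨-k, ?_⟩
          show (a * b) ^ (-k) = MulAut.conj a ((a * b) ^ k)
          rw [map_zpow, e, inv_zpow, zpow_neg]
        · rintro ⟨k, hk⟩
          refine ⟨-k, (MulAut.conj a).injective ?_⟩
          show MulAut.conj a ((a * b) ^ (-k)) = _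
          rw [map_zpow, e, inv_zpow, zpow_neg, inv_inv]
          exact hk
      · refine mem_normalizer_iff.2 fun h => ?_
        have e : MulAut.conj b (a * b) = (a * b)⁻¹ := by
          simp only [MulAut.conj_apply, mul_inv_rev, ha', hb']
          rw [mul_assoc, mul_assoc a b b, ← pow_two, hb2, mul_one]
        show h ∈ zpowers (a * b) ↔ MulAut.conj b h ∈ zpowers (a * b)
        constructor
        · rintro ⟨k, rfl⟩
          refine ⟨-k, ?_⟩
          show (a * b) ^ (-k) = MulAut.conj b ((a * b) ^ k)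
          rw [map_zpow, e, inv_zpow, zpow_neg]
        · rintro ⟨k, hk⟩
          refine ⟨-k, (MulAut.conj b).injective ?_⟩
          show MulAut.conj b ((a * b) ^ (-k)) = _
          rw [map_zpow, e, inv_zpow, zpow_neg, inv_inv]
          exact hk
    refine mk_meta _ hN inferInstance a (eq_top_iff.2 (hab ▸ sup_le le_sup_right (zpowers_le.2 ?_)))
    have : a⁻¹ * (a * b) ∈ zpowers (a * b) ⊔ zpowers a :=
      mul_mem (mem_sup_right (inv_mem (mem_zpowers a))) (mem_sup_left (mem_zpowers _))
    simpa using this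
  · exfalso
    obtain ⟨m, rfl⟩ : ∃ m', m = m' + 1 := ⟨m - 1, by omega⟩
    set w := a ^ 2 ^ m with hw
    have huw : u = w * w := by rw [hu, hw, ← pow_add, pow_succ, mul_two]
    have huc : ∀ g : G, g * u = u * g := by
      intro g
      obtain ⟨k, hk⟩ := central_comm hz hG w g
      have hcm : Commute w (z ^ k) := mem_center_iff.1 (zpow_mem hz k) w
      have : g * u * g⁻¹ = u := by
        calc g * u * g⁻¹ = (g * w * g⁻¹) * (g * w * g⁻¹) := by rw [huw]; group
          _ = (z ^ k * w) * (z ^ k * w) := by rw [hk]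
          _ = z ^ k * z ^ k * (w * w) := by rw [mul_assoc, ← mul_assoc w, hcm.eq]; group
          _ = u := by rw [← zpow_add, ← two_mul, zpow_mul, zpow_natCast_two hz2, one_zpow, one_mul, huw]
      calc g * u = (g * u * g⁻¹) * g := by group
        _ = u * g := by rw [this]
    have hzc : ∀ g : G, g * z = z * g := mem_center_iff.1 hz
    let W : Subgroup G := closure {z, u, v}
    have hcomm : IsMulCommutative W := by
      refine Subgroup.isMulCommutative_closure fun x hx y hy => ?_
      rcases hx with rfl | rfl | rfl <;> rcases hy with rfl | rfl | rfl <;>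
        first | rfl | exact (hzc _).symm | exact hzc _ | exact (huc _).symm | exact huc _
    have hsq : ∀ x ∈ W, x ^ 2 = 1 := by
      intro x hx
      induction hx using closure_induction with
      | mem x hx => rcases hx with rfl | rfl | rfl <;> assumption
      | one => simp
      | mul x y hx hy h1 h2 =>
        rw [(show Commute x y from congrArg Subtype.val (hcomm.is_comm.comm ⟨x, hx⟩ ⟨y, hy⟩)).mul_pow,
          h1, h2, one_mul]
      | inv x _ h => rw [inv_pow, h, inv_one]
    have h4 := FGS.SectionalRankFour.rank_le hr (MonoidHom.id G) Function.injective_id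
      (MonoidHom.id G) (fun x => ⟨x, rfl⟩) W hcomm hsq
    have hqz : q z = 1 := (QuotientGroup.eq_one_iff _).2 (mem_zpowers z)
    have hS : ({1, z, u, v, u * v} : Finset G) ⊆ (W : Set G).toFinite.toFinset := by
      intro x hx
      rw [Set.Finite.mem_toFinset]
      have mz : z ∈ W := subset_closure (by simp)
      have mu : u ∈ W := subset_closure (by simp)
      have mv : v ∈ W := subset_closure (by simp)
      simp only [Finset.mem_insert, Finset.mem_singleton] at hx
      rcases hx with rfl | rfl | rfl | rfl | rfl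
      exacts [one_mem W, mz, mu, mv, mul_mem mu mv]
    have hcard := Finset.card_le_card hS
    have hne : q u ≠ q v := fun h => hquv (by
      rw [h, ← map_mul, ← pow_two, hv2, map_one])
    have h5 : ({1, z, u, v, u * v} : Finset G).card = 5 := by
      have e1 : u ≠ 1 := fun h => hqu (by rw [h, map_one])
      have e2 : v ≠ 1 := fun h => hqv (by rw [h, map_one])
      have e3 : z ≠ u := fun h => hqu (by rw [← h, hqz])
      have e4 : z ≠ v := fun h => hqv (by rw [← h, hqz])
      have e5 : z ≠ u * v := fun h => hquv (by rw [← map_mul, ← h, hqz])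
      have e6 : u * v ≠ 1 := fun h => hquv (by rw [← map_mul, h, map_one])
      have e7 : u ≠ v := fun h => hne (by rw [h])
      simp [hz1.symm, e1, e1.symm, e2, e2.symm, e3, e4, e5, e6.symm, e7]
    rw [h5, ← Nat.card_eq_card_finite_toFinset] at hcard
    have : Nat.card W ≤ 4 := h4
    rw [SetLike.coe_sort_coe] at hcard
    omega
where
  zpow_natCast_two {G : Type u} [Group G] {z : G} (h : z ^ 2 = 1) : z ^ (2 : ℤ) = 1 := by
    exact_mod_cast h

private theorem main : ∀ (n : ℕ) {G : Type u} [Group G] [Finite G], Nat.card G = n → IsPGroup 2 G →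
    SectionalPRankLE 2 2 G → IsMetacyclic G := by
  intro n
  induction n using Nat.strong_induction_on with
  | _ n ih =>
  intro G _ _ hn h2 hr
  haveI := Fact.mk Nat.prime_two
  obtain ⟨a0, b0, hgen⟩ := two_gen h2 hr
  by_cases hab : commutator G = ⊥
  · refine mk_meta (zpowers a0) ⟨fun x hx g => ?_⟩ inferInstance b0 hgen
    have h : ⁅g, x⁆ ∈ commutator G := by
      rw [_root_.commutator_def]; exact commutator_mem_commutator (mem_top g) (mem_top x)
    rw [hab, mem_bot, commutatorElement_eq_one_iff_mul_comm] at h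
    rwa [h, mul_inv_cancel_right]
  obtain ⟨y, hy, hy1, hyc⟩ := FGS.SectionalRankFour.exists_central h2 (commutator G) hab
  obtain ⟨k, hk⟩ := IsPGroup.iff_orderOf.1 h2 y
  have hk0 : k ≠ 0 := fun h => hy1 (orderOf_eq_one_iff.1 (by rw [hk, h, pow_zero]))
  set z := y ^ 2 ^ (k - 1) with hzdef
  have hord : orderOf z = 2 := by
    rw [hzdef, orderOf_pow_of_dvd (by positivity) (by rw [hk]; exact pow_dvd_pow 2 (Nat.sub_le k 1)), hk,
      Nat.pow_div (Nat.sub_le k 1) (by norm_num), show k - (k - 1) = 1 by omega, pow_one]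
  have hz : z ∈ center G := pow_mem hyc _
  have hzG : z ∈ commutator G := pow_mem hy _
  have hz1 : z ≠ 1 := fun h => by rw [h, orderOf_one] at hord; omega
  have hz2 : z ^ 2 = 1 := by rw [← hord]; exact pow_orderOf_eq_one z
  haveI hZn : (zpowers z).Normal := ⟨fun x hx g => by
    have hc : x ∈ center G := (zpowers_le.2 hz) hx
    rw [(mem_center_iff.1 hc g), mul_inv_cancel_right]; exact hx⟩
  by_cases hbig : commutator G ≤ zpowers z
  · exact small h2 hr hz hz1 hz2 hbig hgen
  have hlt : Nat.card (G ⧸ zpowers z) < n := by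
    rw [← hn, card_eq_card_quotient_mul_card_subgroup (zpowers z), Nat.card_zpowers, hord]
    have : 0 < Nat.card (G ⧸ zpowers z) := Nat.card_pos
    omega
  have hrq : SectionalPRankLE 2 2 (G ⧸ zpowers z) := fun H N _ A hc hA => by
    let P := H.comap (QuotientGroup.mk' (zpowers z))
    let f : P →* H := (QuotientGroup.mk' (zpowers z)).subgroupComap H
    exact FGS.SectionalRankFour.rank_le hr P.subtype P.subtype_injective
      ((QuotientGroup.mk' N).comp f)
      ((QuotientGroup.mk'_surjective N).comp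
        (MonoidHom.subgroupComap_surjective_of_surjective _ H (QuotientGroup.mk'_surjective _))) A hc hA
  obtain ⟨L, hL, hLc, hLq⟩ := ih _ hlt rfl (h2.to_quotient _) hrq
  obtain ⟨abar, ha⟩ := isCyclic_iff_exists_zpowers_eq_top.1 hLc
  obtain ⟨a, haa⟩ := QuotientGroup.mk_surjective (abar : G ⧸ zpowers z)
  obtain ⟨gbar, hg⟩ := isCyclic_iff_exists_zpowers_eq_top.1 hLq
  obtain ⟨g', hg'⟩ := QuotientGroup.mk_surjective gbar
  obtain ⟨g, hgg⟩ := QuotientGroup.mk_surjective g'
  set L' := L.comap (QuotientGroup.mk' (zpowers z)) with hL'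
  haveI : L'.Normal := hL.comap _
  have hL'eq : L' = zpowers a ⊔ zpowers z := by
    refine le_antisymm (fun x hx => ?_) ?_
    · have h1 : (⟨(x : G ⧸ zpowers z), hx⟩ : L) ∈ zpowers abar := ha ▸ mem_top _
      obtain ⟨i, hi⟩ := h1
      have h2' : ((a ^ i : G) : G ⧸ zpowers z) = (x : G ⧸ zpowers z) := by
        rw [QuotientGroup.mk_zpow, haa]
        simpa using congrArg Subtype.val hi
      have : x = a ^ i * ((a ^ i)⁻¹ * x) := by group
      rw [this]
      exact mul_mem (mem_sup_left (zpow_mem (mem_zpowers a) i)) (mem_sup_right (QuotientGroup.eq.1 h2'))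
    · refine sup_le (zpowers_le.2 ?_) (zpowers_le.2 ?_)
      · show ((a : G) : G ⧸ zpowers z) ∈ L
        rw [haa]; exact abar.2
      · show ((z : G) : G ⧸ zpowers z) ∈ L
        rw [(QuotientGroup.eq_one_iff _).2 (mem_zpowers z)]; exact one_mem L
  have htop : L' ⊔ zpowers g = ⊤ := by
    refine eq_top_iff.2 fun x _ => ?_
    have h1 : ((x : G ⧸ zpowers z) : (G ⧸ zpowers z) ⧸ L) ∈ zpowers gbar := hg ▸ mem_top _
    obtain ⟨i, hi⟩ := h1
    have h2' : (((g ^ i : G) : G ⧸ zpowers z) : (G ⧸ zpowers z) ⧸ L)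
        = ((x : G ⧸ zpowers z) : (G ⧸ zpowers z) ⧸ L) := by
      rw [QuotientGroup.mk_zpow, QuotientGroup.mk_zpow, hgg, hg']; exact hi
    have h3 := QuotientGroup.eq.1 h2'
    have h4 : (g ^ i)⁻¹ * x ∈ L' := by simpa [hL'] using h3
    have : x = g ^ i * ((g ^ i)⁻¹ * x) := by group
    rw [this]
    exact mul_mem (mem_sup_right (zpow_mem (mem_zpowers g) i)) (mem_sup_left h4)
  by_cases hza : z ∈ zpowers a
  · have e : L' = zpowers a := by rw [hL'eq, sup_eq_left.2 (zpowers_le.2 hza)]
    exact mk_meta (zpowers a) (e ▸ inferInstance) inferInstance g (e ▸ htop)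
  exfalso
  -- the commutator subgroup is cyclic, generated by `c`
  have haz : Commute a z := mem_center_iff.1 hz a
  have hrep : ∀ x ∈ L', ∃ i j : ℤ, x = a ^ i * z ^ j := fun x hx => by
    rw [hL'eq, mem_sup_of_normal_right] at hx
    obtain ⟨_, ⟨i, rfl⟩, _, ⟨j, rfl⟩, rfl⟩ := hx
    exact ⟨i, j, rfl⟩
  have hLcomm : ∀ x ∈ L', Commute a x := fun x hx => by
    obtain ⟨i, j, rfl⟩ := hrep x hx
    exact ((Commute.refl a).zpow_right i).mul_right (haz.zpow_right j)
  have haL : a ∈ L' := hL'eq ▸ mem_sup_left (mem_zpowers a)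
  set c := g * a * g⁻¹ * a⁻¹ with hc
  have hcL : c ∈ L' := mul_mem (Normal.conj_mem inferInstance a haL g) (inv_mem haL)
  have hga : MulAut.conj g a = c * a := by rw [hc, MulAut.conj_apply]; group
  have hgz : MulAut.conj g z = z := by rw [MulAut.conj_apply, mem_center_iff.1 hz g, mul_inv_cancel_right]
  obtain ⟨i, j, hij⟩ := hrep c hcL
  have hgc : MulAut.conj g c = c ^ i * c := by
    conv_lhs => rw [hij, map_mul, map_zpow, map_zpow, hga, hgz]
    rw [((hLcomm c hcL).symm).mul_zpow, mul_assoc, ← hij]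
  have hCn : (zpowers c).Normal := by
    rw [← normalizer_eq_top_iff, eq_top_iff, ← htop, hL'eq]
    refine sup_le (sup_le (zpowers_le.2 ?_) (zpowers_le.2 ?_)) (zpowers_le.2 ?_)
    · refine mem_normalizer_iff.2 fun h => ?_
      have hfix : ∀ k : ℤ, a * c ^ k * a⁻¹ = c ^ k := fun k => by
        rw [((hLcomm c hcL).zpow_right k).eq, mul_inv_cancel_right]
      constructor
      · rintro ⟨k, rfl⟩; exact ⟨k, (hfix k).symm⟩
      · rintro ⟨k, hk⟩
        refine ⟨k, (MulAut.conj a).injective ?_⟩
        show a * c ^ k * a⁻¹ = a * h * a⁻¹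
        rw [hfix k]; exact hk
    · refine mem_normalizer_iff.2 fun h => ?_
      rw [(show z * h = h * z from (mem_center_iff.1 hz h).symm), mul_inv_cancel_right]
    · have hle : (zpowers c).map (MulAut.conj g).toMonoidHom ≤ zpowers c := by
        rw [MonoidHom.map_zpowers]
        refine zpowers_le.2 ?_
        show MulAut.conj g c ∈ zpowers c
        rw [hgc]
        exact mul_mem (zpow_mem (mem_zpowers c) i) (mem_zpowers c)
      have heq : (zpowers c).map (MulAut.conj g).toMonoidHom = zpowers c :=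
        eq_of_le_of_card_ge hle (by rw [card_map_of_injective (MulAut.conj g).injective])
      refine mem_normalizer_iff.2 fun h => ?_
      constructor
      · intro hh
        rw [← heq]; exact mem_map_of_mem _ hh
      · intro hh
        rw [← heq] at hh
        obtain ⟨w, hw, hwe⟩ := hh
        rwa [← (MulAut.conj g).injective (show MulAut.conj g w = MulAut.conj g h from hwe)]
  have hGc : commutator G ≤ zpowers c := by
    haveI := hCn
    set π := QuotientGroup.mk' (zpowers c) with hπ
    have hπag : Commute (π a) (π g) := by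
      show π a * π g = π g * π a
      rw [← map_mul, ← map_mul]
      refine (QuotientGroup.eq.2 ?_).symm
      have : (g * a)⁻¹ * (a * g) = g⁻¹ * a⁻¹ * ((g⁻¹ * a⁻¹)⁻¹ * ((g * a)⁻¹ * (a * g))) := by group
      have e : (g * a)⁻¹ * (a * g) = (g * a)⁻¹ * c⁻¹ * ((g * a)⁻¹)⁻¹ := by rw [hc]; group
      rw [e]
      exact hCn.conj_mem _ (inv_mem (mem_zpowers c)) _
    have hπz : ∀ x, Commute (π x) (π z) := fun x => by
      show π x * π z = π z * π x
      rw [← map_mul, ← map_mul, mem_center_iff.1 hz x]
    have hall : ∀ x : G, Commute (π x) (π a) ∧ Commute (π x) (π g) := by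
      intro x
      have hx : x ∈ zpowers a ⊔ zpowers z ⊔ zpowers g := hL'eq ▸ htop ▸ mem_top x
      rw [sup_assoc, zpowers_eq_closure, zpowers_eq_closure, zpowers_eq_closure, ← Subgroup.closure_union,
        ← Subgroup.closure_union] at hx
      induction hx using closure_induction with
      | mem x hx =>
        rcases hx with rfl | rfl | rfl
        · exact ⟨Commute.refl _, hπag⟩
        · exact ⟨(hπz a).symm, (hπz g).symm⟩
        · exact ⟨hπag.symm, Commute.refl _⟩
      | one => simp
      | mul x y _ _ h1 h2 => exact ⟨by rw [map_mul]; exact h1.1.mul_left h2.1, by rw [map_mul]; exact h1.2.mul_left h2.2⟩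
      | inv x _ h => exact ⟨by rw [map_inv]; exact h.1.inv_left, by rw [map_inv]; exact h.2.inv_left⟩
    have hcommall : ∀ x y : G, Commute (π x) (π y) := by
      intro x y
      have hy' : y ∈ zpowers a ⊔ zpowers z ⊔ zpowers g := hL'eq ▸ htop ▸ mem_top y
      rw [sup_assoc, zpowers_eq_closure, zpowers_eq_closure, zpowers_eq_closure, ← Subgroup.closure_union,
        ← Subgroup.closure_union] at hy'
      induction hy' using closure_induction with
      | mem y hy =>
        rcases hy with rfl | rfl | rfl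
        · exact (hall x).1
        · exact hπz x
        · exact (hall x).2
      | one => simp
      | mul u v _ _ h1 h2 => rw [map_mul]; exact h1.mul_right h2
      | inv u _ h => rw [map_inv]; exact h.inv_right
    rw [_root_.commutator_def, commutator_le]
    intro x _ y _
    refine (QuotientGroup.eq_one_iff _).1 ?_
    show π ⁅x, y⁆ = 1
    rw [map_commutatorElement, commutatorElement_eq_one_iff_mul_comm]
    exact hcommall x y
  obtain ⟨t, ht⟩ := hGc hzG
  simp only at ht
  rcases Int.even_or_odd t with ⟨s, rfl⟩ | hodd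
  · apply hza
    rw [← ht, hij, (haz.zpow_zpow i j).mul_zpow, ← two_mul, ← zpow_mul, ← zpow_mul,
      show j * (2 * s) = 2 * (j * s) by ring, zpow_mul z 2, small.zpow_natCast_two hz2, one_zpow, mul_one]
    exact zpow_mem (mem_zpowers a) _
  · apply hbig
    refine hGc.trans (zpowers_le.2 ?_)
    obtain ⟨e, he⟩ := IsPGroup.iff_orderOf.1 h2 c
    have hco : IsCoprime t ((orderOf c : ℕ) : ℤ) := by
      rw [he]; push_cast
      refine IsCoprime.pow_right ?_
      obtain ⟨r, rfl⟩ := hodd
      exact ⟨1, -r, by ring⟩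
    obtain ⟨α, β, hαβ⟩ := hco
    have : c = z ^ α := by
      rw [← ht, ← zpow_mul]
      conv_lhs => rw [← zpow_one c, ← hαβ, zpow_add, mul_comm β, zpow_mul c _ β, zpow_natCast, pow_orderOf_eq_one, one_zpow, mul_one, mul_comm α]
    rw [this]
    exact zpow_mem (mem_zpowers z) α


/-- A finite 2-group of sectional 2-rank at most 2 (every section has no elementary abelian subgroup of order 8) is metacyclic: it has a cyclic normal subgroup with cyclic quotient. -/
theorem result {S : Type*} [Group S] [Finite S] (h2 : IsPGroup 2 S) (hr : Cfsg.SectionalPRankLE 2 2 S) : Cfsg.IsMetacyclic S := by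
  exact main _ rfl h2 hr

end Cfsg.Agent.S4397
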