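import Cfsg.Statements.S4398
import Cfsg.Agent.Lib.Invol.MaxClassApps
import Cfsg.Agent.Lib.Basics.Frattini

set_option autoImplicit false
open Cfsg
open scoped Pointwise
set_option linter.all false

namespace Cfsg.Agent.S4398

open Subgroup
open scoped commutatorElement

theorem index_commutator_eq_four_of_card_eight {P : Type*} [Group P] [Finite P] (h8 : Nat.card P = 8)
    (hna : ¬ IsMulCommutative P) : (commutator P).index = 4 := by
  haveI : Fact (Nat.Prime 2) := ⟨Nat.prime_two⟩
  have hP : IsPGroup 2 P := IsPGroup.of_card (n := 3) (by rw [h8]; norm_num)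
  haveI : Nontrivial P := Finite.one_lt_card_iff_nontrivial.1 (by rw [h8]; norm_num)
  haveI := hP.center_nontrivial
  have hncyc : ¬ IsCyclic (P ⧸ center P) := fun h => hna
    (haveI := h; isMulCommutative_of_isCyclic_quotient_center_self P)
  have hz1 : 1 < Nat.card (center P) := Finite.one_lt_card
  have hcm := (center P).card_mul_index
  rw [h8] at hcm
  have hd : (center P).index ∣ 2 ^ 3 := Dvd.intro_left _ (by rw [hcm]; norm_num)
  obtain ⟨i, hi, hie⟩ := (Nat.dvd_prime_pow Nat.prime_two).1 hd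
  have hi2 : (center P).index = 4 := by
    interval_cases i
    · exfalso; exact hncyc (haveI := (Nat.card_eq_one_iff_unique.1 (by rw [← index_eq_card, hie]; rfl : Nat.card (P ⧸ center P) = 1)).1; inferInstance)
    · exfalso; exact hncyc (isCyclic_of_prime_card (p := 2) (by rw [← index_eq_card, hie]; rfl))
    · rw [hie]; rfl
    · rw [hie] at hcm; omega
  have hle : commutator P ≤ center P := by
    haveI : IsMulCommutative (P ⧸ center P) :=
      IsPGroup.isMulCommutative_of_card_eq_prime_sq (p := 2) (by rw [← index_eq_card, hi2]; norm_num)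
    exact Normal.quotient_commutative_iff_commutator_le.1 inferInstance
  have hne : commutator P ≠ ⊥ := by
    intro h
    refine hna ⟨⟨fun a b => ?_⟩⟩
    have : ⁅a, b⁆ ∈ commutator P := commutator_mem_commutator (mem_top a) (mem_top b)
    rwa [h, mem_bot, commutatorElement_eq_one_iff_mul_comm] at this
  haveI := (commutator P).nontrivial_iff_ne_bot.2 hne
  have h1 : 1 < Nat.card (commutator P) := Finite.one_lt_card
  have h2 := card_dvd_of_le hle
  rw [show Nat.card (center P) = 2 by rw [hi2] at hcm; omega] at h2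
  have h3 := (commutator P).card_mul_index
  rw [h8, (Nat.dvd_prime Nat.prime_two).1 h2 |>.resolve_left (by omega)] at h3
  omega

theorem step {K : Type*} [Group K] [Finite K] (hK : IsPGroup 2 K)
    (hr : ∀ (N : Subgroup K) [N.Normal], Cfsg.PRankLE 2 2 (K ⧸ N)) (M : Subgroup K) (hM : M.index = 2)
    (hna : ¬ IsMulCommutative M) (h4 : (commutator M).index = 4) :
    ¬ IsMulCommutative K ∧ (commutator K).index = 4 := by
  classical
  haveI : Fact (Nat.Prime 2) := ⟨Nat.prime_two⟩
  have hnaK : ¬ IsMulCommutative K := fun h =>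
    hna ⟨⟨fun a b => Subtype.ext (h.is_comm.comm (a : K) b)⟩⟩
  refine ⟨hnaK, ?_⟩
  obtain ⟨D⟩ := Invol.MaxClassTwo.exists_mcData (hK.to_subgroup M) hna h4
  set a : K := (D.a : K) with ha
  set y : K := (D.y : K) with hy
  have horda : orderOf a = 2 ^ D.m := by rw [ha, Subgroup.orderOf_coe, D.orda]
  obtain ⟨r, hr', hr4, hr2⟩ := D.exists_exp
  have hyr : y * a * y⁻¹ = a ^ r := by
    have := congrArg Subtype.val hr'
    simpa [← ha, ← hy] using this
  obtain ⟨s, hs⟩ := hr2
  have hsodd : Odd s := by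
    rcases Int.even_or_odd s with ⟨u, hu⟩ | h
    · exact absurd ⟨u, by rw [hs, hu]; ring⟩ hr4
    · exact h
  set N := zpowers (a ^ (2 : ℕ)) with hN
  have hya : ⁅y, a⁆ = (a ^ 2) ^ s := by
    rw [commutatorElement_def, hyr, ← zpow_sub_one, hs, ← zpow_natCast, ← zpow_mul]; rfl
  have hNc : N ≤ commutator K := by
    rw [hN, zpowers_le]
    have h1 : ⁅y, a⁆ ∈ commutator K := commutator_mem_commutator (mem_top y) (mem_top a)
    rw [hya] at h1
    have hord : orderOf (a ^ 2) ∣ 2 ^ D.m := horda ▸ orderOf_pow_dvd (x := a) 2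
    obtain ⟨j, -, hj⟩ := (Nat.dvd_prime_pow Nat.prime_two).1 hord
    have hgcd : Int.gcd s (orderOf (a ^ 2) : ℤ) = 1 := by
      rw [hj, Int.gcd_def, Int.natAbs_natCast]
      exact Nat.Coprime.pow_right j ((Int.natAbs_odd.2 hsodd).coprime_two_right)
    have hbez := Int.gcd_eq_gcd_ab s (orderOf (a ^ 2) : ℤ)
    rw [hgcd] at hbez
    have : a ^ 2 = ((a ^ 2) ^ s) ^ Int.gcdA s (orderOf (a ^ 2) : ℤ) := by
      conv_lhs => rw [← zpow_one (a ^ 2), show (1 : ℤ) = ((1 : ℕ) : ℤ) from rfl, hbez]
      rw [_root_.zpow_add, zpow_mul, zpow_mul, zpow_natCast, pow_orderOf_eq_one, one_zpow, mul_one]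
    rw [this]
    exact zpow_mem h1 _
  have hcardN : Nat.card N = 2 ^ (D.m - 1) := by
    rw [hN, Nat.card_zpowers, orderOf_pow, horda,
      Nat.gcd_eq_right (dvd_pow_self 2 (by have := D.two_le; omega))]
    obtain ⟨m, hm⟩ : ∃ m, D.m = m + 1 := ⟨D.m - 1, by have := D.two_le; omega⟩
    rw [hm, pow_succ, Nat.mul_div_cancel _ (by norm_num)]; rfl
  have hcardK : Nat.card K = 2 ^ (D.m + 2) := by
    rw [← M.card_mul_index, hM, D.card]; ring
  have hindN : N.index = 8 := by
    have := N.card_mul_index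
    rw [hcardN, hcardK, show D.m + 2 = (D.m - 1) + 3 by have := D.two_le; omega, pow_add] at this
    exact Nat.eq_of_mul_eq_mul_left (by positivity) this
  have hdvd : (commutator K).index ∣ 8 := hindN ▸ index_dvd_of_le hNc
  have hnc4 : 4 ≤ (commutator K).index := by
    by_contra hlt
    push Not at hlt
    haveI : Group.IsNilpotent K := hK.isNilpotent
    have hcyc : IsCyclic (K ⧸ commutator K) := by
      have h2 : (commutator K).index ∣ 2 := by
        rcases (Nat.dvd_prime_pow Nat.prime_two).1 (show (commutator K).index ∣ 2 ^ 3 from hdvd) with ⟨i, hi, he⟩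
        rw [he] at hlt ⊢
        interval_cases i <;> simp_all
      rcases (Nat.dvd_prime Nat.prime_two).1 h2 with h | h
      · haveI := (Nat.card_eq_one_iff_unique.1 (show Nat.card (K ⧸ commutator K) = 1 by rw [← index_eq_card]; exact h)).1
        infer_instance
      · exact isCyclic_of_prime_card (p := 2) (by rw [← index_eq_card]; exact h)
    obtain ⟨q, hq⟩ := hcyc.exists_generator
    obtain ⟨g, rfl⟩ := QuotientGroup.mk_surjective q
    have htop : zpowers g ⊔ commutator K = ⊤ := by
      rw [eq_top_iff]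
      intro x _
      obtain ⟨i, hi⟩ := mem_zpowers_iff.1 (hq (x : K ⧸ commutator K))
      have h3 : (g ^ i)⁻¹ * x ∈ commutator K := QuotientGroup.eq.1 (by rw [QuotientGroup.mk_zpow]; exact hi)
      rw [show x = g ^ i * ((g ^ i)⁻¹ * x) by group]
      exact mul_mem_sup (zpow_mem_zpowers g i) h3
    have htop' : zpowers g = ⊤ := frattini_nongenerating
      (top_le_iff.1 (htop.ge.trans (sup_le_sup_left Basics.commutator_le_frattini _)))
    refine hnaK ⟨⟨fun u v => ?_⟩⟩
    obtain ⟨i, rfl⟩ := mem_zpowers_iff.1 (htop'.ge (mem_top u))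
    obtain ⟨j, rfl⟩ := mem_zpowers_iff.1 (htop'.ge (mem_top v))
    exact ((Commute.refl g).zpow_zpow i j).eq
  rcases (Nat.dvd_prime_pow Nat.prime_two).1 (show (commutator K).index ∣ 2 ^ 3 from hdvd) with ⟨i, hi, he⟩
  have hi2 : i = 2 ∨ i = 3 := by
    rw [he] at hnc4
    interval_cases i <;> simp_all
  rcases hi2 with rfl | rfl
  · rw [he]; rfl
  exfalso
  have hceq : commutator K = N := by
    refine (eq_of_le_of_card_ge hNc ?_).symm
    have e1 := (commutator K).card_mul_index
    have e2 := N.card_mul_index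
    rw [he] at e1
    rw [hindN] at e2
    norm_num at e1
    omega
  haveI : N.Normal := hceq ▸ inferInstance
  have hcomN : ∀ g h : K, ⁅g, h⁆ ∈ N := fun g h => hceq ▸ commutator_mem_commutator (mem_top g) (mem_top h)
  haveI hN4 : (zpowers (a ^ 4)).Normal := by
    refine ⟨fun z hz g => ?_⟩
    obtain ⟨i, rfl⟩ := mem_zpowers_iff.1 hz
    obtain ⟨k, hk⟩ := mem_zpowers_iff.1 (hcomN g a)
    have e : g * a * g⁻¹ = a ^ (2 * k + 1) := by
      rw [show g * a * g⁻¹ = ⁅g, a⁆ * a by rw [commutatorElement_def]; group, ← hk, zpow_add_one,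
        ← zpow_natCast, ← zpow_mul]; rfl
    rw [← conj_zpow, ← conj_pow, e,
      show ((a ^ (2 * k + 1)) ^ 4) ^ i = (a ^ 4) ^ ((2 * k + 1) * i) by
        simp only [← zpow_natCast, ← zpow_mul]; congr 1; ring]
    exact zpow_mem_zpowers _ _
  set π := QuotientGroup.mk' (zpowers (a ^ 4)) with hπ
  set c := π (a ^ 2) with hc
  have hc2 : c * c = 1 := by
    rw [hc, ← map_mul, ← pow_add]
    exact (QuotientGroup.eq_one_iff _).2 (mem_zpowers _)
  have hpc : ∀ g h : K, ⁅π g, π h⁆ = 1 ∨ ⁅π g, π h⁆ = c := by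
    intro g h
    obtain ⟨k, hk⟩ := mem_zpowers_iff.1 (hcomN g h)
    rw [← map_commutatorElement, ← hk, map_zpow, ← hc]
    rcases Int.even_or_odd' k with ⟨t, rfl | rfl⟩
    · left; rw [zpow_mul, zpow_two, hc2, one_zpow]
    · right; rw [zpow_add_one, zpow_mul, zpow_two, hc2, one_zpow, one_mul]
  have hcc : ∀ g : K, Commute (π g) c := by
    intro g
    have h1 : π g * π a * (π g)⁻¹ = π a ∨ π g * π a * (π g)⁻¹ = c * π a := by
      rcases hpc g a with e | e <;> rw [commutatorElement_def, mul_inv_eq_iff_eq_mul] at e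
      · left; rw [e, one_mul]
      · right; exact e
    have e2 : π g * c * (π g)⁻¹ = (π g * π a * (π g)⁻¹) ^ 2 := by rw [conj_pow, hc, map_pow]
    have h2 : π g * c * (π g)⁻¹ = c := by
      rw [e2]
      rcases h1 with e | e <;> rw [e]
      · rw [hc, map_pow]
      · have hca : Commute c (π a) := by rw [hc, map_pow]; exact (Commute.refl _).pow_left 2
        rw [hca.mul_pow, sq c, hc2, one_mul, hc, map_pow]
    exact mul_inv_eq_iff_eq_mul.1 h2
  have hc1 : c ≠ 1 := by
    intro h
    have h1 : a ^ 2 ∈ zpowers (a ^ 4) := (QuotientGroup.eq_one_iff _).1 h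
    have h2 := card_dvd_of_le (zpowers_le.2 h1)
    rw [← hN, hcardN, Nat.card_zpowers, orderOf_pow, horda] at h2
    have h3 : (2 ^ D.m).gcd 4 = 4 :=
      Nat.gcd_eq_right (show 2 ^ 2 ∣ 2 ^ D.m from pow_dvd_pow 2 D.two_le)
    rw [h3] at h2
    obtain ⟨q, hq⟩ : ∃ q, D.m = q + 2 := ⟨D.m - 2, by have := D.two_le; omega⟩
    rw [hq, show 2 ^ (q + 2) / 4 = 2 ^ q by rw [pow_add]; norm_num,
      show q + 2 - 1 = q + 1 from rfl] at h2
    have := Nat.le_of_dvd (by positivity) h2
    rw [pow_succ] at this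
    have : 0 < 2 ^ q := by positivity
    omega
  have hYA : ⁅π y, π a⁆ = c := by
    rcases hpc y a with e | e
    · exfalso
      apply hc1
      rw [← map_commutatorElement, hya, map_zpow, ← hc] at e
      obtain ⟨u, hu⟩ := hsodd
      rwa [hu, zpow_add_one, zpow_mul, zpow_two, hc2, one_zpow, one_mul] at e
    · exact e
  obtain ⟨x, hxM, hxa, hxy⟩ : ∃ x : K, x ∉ M ∧ Commute (π x) (π a) ∧ Commute (π x) (π y) := by
    obtain ⟨x₀, hx₀⟩ : ∃ x₀ : K, x₀ ∉ M := by
      by_contra hcon
      push Not at hcon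
      rw [show M = ⊤ from eq_top_iff.2 fun g _ => hcon g, index_top] at hM
      omega
    have e3 : ∀ u v w : K ⧸ zpowers (a ^ 4), ⁅u * v, w⁆ = u * ⁅v, w⁆ * u⁻¹ * ⁅u, w⁆ := by
      intro u v w; simp only [commutatorElement_def]; group
    have hconj : ∀ g : K, π g * c * (π g)⁻¹ = c := fun g => by
      rw [(hcc g).eq, mul_inv_cancel_right]
    obtain ⟨x₁, hx₁, hx₁a⟩ : ∃ x₁ : K, x₁ ∉ M ∧ Commute (π x₁) (π a) := by
      rcases hpc x₀ a with e | e
      · exact ⟨x₀, hx₀, commutatorElement_eq_one_iff_commute.1 e⟩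
      · refine ⟨x₀ * y, fun h => hx₀ ((mul_mem_cancel_right D.y.2).1 h), ?_⟩
        rw [← commutatorElement_eq_one_iff_commute, map_mul, e3, hYA, e, hconj, hc2]
    rcases hpc x₁ y with e | e
    · exact ⟨x₁, hx₁, hx₁a, commutatorElement_eq_one_iff_commute.1 e⟩
    · refine ⟨x₁ * a, fun h => hx₁ ((mul_mem_cancel_right D.a.2).1 h), ?_, ?_⟩
      · rw [map_mul]; exact hx₁a.mul_left (Commute.refl _)
      · have hAY : ⁅π a, π y⁆ = c := by
          rw [← commutatorElement_inv, hYA]; exact inv_eq_of_mul_eq_one_right hc2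
        rw [← commutatorElement_eq_one_iff_commute, map_mul, e3, hAY, e, hconj, hc2]
  have hy2 : y * y ∈ N := by
    rcases D.shape with ⟨h, -⟩ | ⟨h, -⟩ | ⟨-, h, -⟩
    · rw [show y * y = 1 from congrArg Subtype.val h]; exact one_mem _
    · rw [show y * y = a ^ 2 ^ (D.m - 1) from (congrArg Subtype.val h).trans (by simp [ha]),
        show 2 ^ (D.m - 1) = 2 * 2 ^ (D.m - 2) by
          rw [← pow_succ']; congr 1; have := D.two_le; omega, pow_mul]
      exact npow_mem_zpowers _ _
    · rw [show y * y = 1 from congrArg Subtype.val h]; exact one_mem _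
  have hx2 : x * x ∈ N := by
    have hxxM : x * x ∈ M := (mul_mem_iff_of_index_two hM).2 Iff.rfl
    have hcom : ∀ w : K, Commute (π x) (π w) → Commute (π (x * x)) (π w) := fun w hw => by
      rw [map_mul]; exact hw.mul_left hw
    by_cases hmem : (⟨x * x, hxxM⟩ : M) ∈ zpowers D.a
    · obtain ⟨i, hi⟩ := mem_zpowers_iff.1 hmem
      have hi' : a ^ i = x * x := by rw [ha, ← SubgroupClass.coe_zpow, hi]
      rcases Int.even_or_odd' i with ⟨t, rfl | rfl⟩
      · rw [← hi', zpow_mul, zpow_ofNat]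
        exact zpow_mem_zpowers (a ^ 2) t
      · exfalso
        apply hc1
        have h1 := hcom y hxy
        rw [← hi', zpow_add_one, zpow_mul, map_mul, map_zpow, show π (a ^ (2 : ℤ)) = c by rw [zpow_ofNat]] at h1
        have h2 : Commute (π a) (π y) := by
          have := ((hcc y).zpow_right t).symm.inv_left.mul_left h1
          rwa [inv_mul_cancel_left] at this
        rw [← hYA, commutatorElement_eq_one_iff_commute]
        exact h2.symm
    · obtain ⟨i, hi⟩ := D.exists_repr hmem
      exfalso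
      apply hc1
      have h1 := hcom a hxa
      rw [show x * x = a ^ i * y from by
        have := congrArg Subtype.val hi; simpa [ha, hy] using this, map_mul, map_zpow] at h1
      have h2 : Commute (π y) (π a) := by
        have := ((Commute.refl (π a)).zpow_left i).inv_left.mul_left h1
        rwa [inv_mul_cancel_left] at this
      rw [← hYA, commutatorElement_eq_one_iff_commute]
      exact h2
  haveI hQc : IsMulCommutative (K ⧸ N) := Normal.quotient_commutative_iff_commutator_le.2 hceq.le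
  open scoped IsMulCommutative in
  let sqh : K →* K ⧸ N :=
    { toFun := fun g => (QuotientGroup.mk' N g) ^ 2
      map_one' := by simp
      map_mul' := fun g h => by rw [map_mul, mul_pow] }
  have hsq : ∀ g : K, g * g ∈ N → g ∈ sqh.ker := fun g hg => by
    show (QuotientGroup.mk' N g) ^ 2 = 1
    rw [sq, ← map_mul]
    exact (QuotientGroup.eq_one_iff _).2 hg
  have haK : a ∈ sqh.ker := hsq a (by rw [← sq]; exact mem_zpowers _)
  have hMK : M ≤ sqh.ker := by
    intro g hg
    by_cases hmem : (⟨g, hg⟩ : M) ∈ zpowers D.a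
    · obtain ⟨i, hi⟩ := mem_zpowers_iff.1 hmem
      rw [show g = a ^ i by rw [ha, ← SubgroupClass.coe_zpow, hi]]
      exact zpow_mem haK i
    · obtain ⟨i, hi⟩ := D.exists_repr hmem
      rw [show g = a ^ i * y from by have := congrArg Subtype.val hi; simpa [ha, hy] using this]
      exact mul_mem (zpow_mem haK i) (hsq y hy2)
  have hall : ∀ g : K, g ∈ sqh.ker := by
    intro g
    by_cases hg : g ∈ M
    · exact hMK hg
    · have h1 : g * x⁻¹ ∈ M :=
        (mul_mem_iff_of_index_two hM).2 (iff_of_false hg fun h => hxM (by simpa using inv_mem h))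
      have := mul_mem (hMK h1) (hsq x hx2)
      simpa using this
  have h8 := hr N ⊤ ⟨⟨fun u v => Subtype.ext (hQc.is_comm.comm u.1 v.1)⟩⟩ (fun q _ => by
    obtain ⟨g, rfl⟩ := QuotientGroup.mk'_surjective N q
    exact hall g)
  rw [card_top, ← index_eq_card, hindN] at h8
  norm_num at h8

theorem main {S : Type*} [Group S] [Finite S] (h2 : IsPGroup 2 S)
    (hr : Cfsg.SectionalPRankLE 2 2 S) (P : Subgroup S) (h8 : Nat.card P = 8)
    (hna : ¬ IsMulCommutative P) :
    ∀ K : Subgroup S, P ≤ K → ¬ IsMulCommutative K ∧ (commutator K).index = 4 := by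
  intro K
  induction K using WellFoundedLT.induction with
  | _ K ih =>
  intro hPK
  haveI : Fact (Nat.Prime 2) := ⟨Nat.prime_two⟩
  rcases eq_or_ne P K with rfl | hne
  · exact ⟨hna, index_commutator_eq_four_of_card_eight h8 hna⟩
  have hne' : P.subgroupOf K ≠ ⊤ := fun h => hne (le_antisymm hPK (subgroupOf_eq_top.1 h))
  obtain ⟨M, hM, hPM⟩ := (eq_top_or_exists_le_coatom (P.subgroupOf K)).resolve_left hne'
  haveI : Group.IsNilpotent K := (h2.to_subgroup K).isNilpotent
  obtain ⟨-, hMp⟩ := Basics.coatom_normal_prime hM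
  have hMi : M.index = 2 := by
    obtain ⟨n, hn⟩ := (h2.to_subgroup K).index M
    rw [hn] at hMp ⊢
    rw [hMp.eq_one_of_pow, pow_one]
  have hlt : M.map K.subtype < K := by
    refine lt_of_le_of_ne (map_subtype_le M) fun he => hM.1 ?_
    rw [← map_subtype_inj, he, ← MonoidHom.range_eq_map, range_subtype]
  obtain ⟨h1, h4⟩ := ih _ hlt fun g hg => ⟨⟨g, hPK hg⟩, hPM hg, rfl⟩
  let e : M ≃* M.map K.subtype := M.equivMapOfInjective _ K.subtype_injective
  refine step (h2.to_subgroup K) (fun N _ => hr K N) M hMi (fun h => h1 ⟨⟨fun u v => ?_⟩⟩) ?_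
  · obtain ⟨u, rfl⟩ := e.surjective u
    obtain ⟨v, rfl⟩ := e.surjective v
    rw [← map_mul, ← map_mul, h.is_comm.comm u v]
  · rw [← h4, ← index_map_equiv (commutator M) e]
    congr 1
    rw [_root_.commutator_def, _root_.commutator_def, map_commutator,
      map_top_of_surjective _ e.surjective]


/-- Let S be a finite 2-group of sectional 2-rank at most 2 that contains a subgroup isomorphic to the dihedral group of order 8 or to the quaternion group of order 8. Then S is dihedral of order at least 8, semidihedral of order at least 16 (order 2^(k+4) with an element a of order 2^(k+3) and an involution b with b a b⁻¹ = a^(2^(k+2)−1)), or generalized quaternion of order at least 8. -/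
theorem result {S : Type*} [Group S] [Finite S] (h2 : IsPGroup 2 S) (hr : Cfsg.SectionalPRankLE 2 2 S)
    (hsub : ∃ H : Subgroup S, Nonempty (↥H ≃* DihedralGroup 4) ∨ Nonempty (↥H ≃* QuaternionGroup 2)) :
    ((∃ k : ℕ, Nonempty (S ≃* DihedralGroup (2 ^ (k + 2)))) ∨
      (∃ k : ℕ, Nat.card S = 2 ^ (k + 4) ∧ ∃ a b : S, orderOf a = 2 ^ (k + 3) ∧ orderOf b = 2 ∧ b * a * b⁻¹ = a ^ (2 ^ (k + 2) - 1)) ∨
      (∃ k : ℕ, Nonempty (S ≃* QuaternionGroup (2 ^ (k + 1))))) := by
  classical
  obtain ⟨H, hH⟩ := hsub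
  have h8 : Nat.card H = 8 := by
    rcases hH with ⟨⟨e⟩⟩ | ⟨⟨e⟩⟩
    · rw [Nat.card_congr e.toEquiv, DihedralGroup.nat_card]
    · rw [Nat.card_congr e.toEquiv, Nat.card_eq_fintype_card, QuaternionGroup.card]
  have hna : ¬ IsMulCommutative H := by
    intro h
    rcases hH with ⟨⟨e⟩⟩ | ⟨⟨e⟩⟩
    · have := h.is_comm.comm (e.symm (DihedralGroup.r 1)) (e.symm (DihedralGroup.sr 0))
      rw [← map_mul, ← map_mul] at this
      exact absurd (e.symm.injective this) (by decide)
    · have := h.is_comm.comm (e.symm (QuaternionGroup.a 1)) (e.symm (QuaternionGroup.xa 0))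
      rw [← map_mul, ← map_mul] at this
      exact absurd (e.symm.injective this) (by decide)
  obtain ⟨hna', h4'⟩ := main h2 hr H h8 hna ⊤ le_top
  have hnaS : ¬ IsMulCommutative S := fun h => hna' ⟨⟨fun u v => Subtype.ext (h.is_comm.comm u.1 v.1)⟩⟩
  have h4 : (commutator S).index = 4 := by
    rw [← h4', ← Subgroup.index_map_equiv (commutator (⊤ : Subgroup S)) Subgroup.topEquiv]
    congr 1
    rw [_root_.commutator_def, _root_.commutator_def, Subgroup.map_commutator,
      Subgroup.map_top_of_surjective _ Subgroup.topEquiv.surjective]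
  obtain ⟨D⟩ := Invol.MaxClassTwo.exists_mcData h2 hnaS h4
  have hm := D.two_le
  obtain ⟨k, hk⟩ : ∃ k, D.m = k + 2 := ⟨D.m - 2, by omega⟩
  rcases Invol.MaxClassTwo.iso_cases D with h | h | h
  · left; exact ⟨k, by rw [← hk]; exact h⟩
  · right; right; exact ⟨k, by rw [show k + 1 = D.m - 1 by omega]; exact h⟩
  · right; left
    obtain ⟨m, hm3, hc, a, b, ha, hb, hab'⟩ := h
    obtain ⟨j, rfl⟩ : ∃ j, m = j + 3 := ⟨m - 3, by omega⟩
    refine ⟨j, by rw [hc], a, b, ha, hb, ?_⟩
    rw [hab']
    rfl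

end Cfsg.Agent.S4398
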