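import Cfsg.Statements.S4399
import Cfsg.Agent.Lib.Invol.MaxClassTwo

set_option autoImplicit false
open Cfsg
open scoped Pointwise
set_option linter.all false

namespace Cfsg.Agent.S4399

open Subgroup


/-- Let S be a finite 2-group whose commutator quotient S/[S,S] is a Klein four-group (order 4 and exponent 2). Then S itself has order 4, or S is dihedral of order at least 8, semidihedral of order at least 16 (order 2^(k+4) with an element a of order 2^(k+3) and an involution b with b a b⁻¹ = a^(2^(k+2)−1)), or generalized quaternion of order at least 8. -/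
theorem result {S : Type*} [Group S] [Finite S] (h2 : IsPGroup 2 S) (hab : Nat.card (Abelianization S) = 4)
    (hexp : ∀ x : Abelianization S, x ^ 2 = 1) :
    Nat.card S = 4 ∨
    ((∃ k : ℕ, Nonempty (S ≃* DihedralGroup (2 ^ (k + 2)))) ∨
      (∃ k : ℕ, Nat.card S = 2 ^ (k + 4) ∧ ∃ a b : S, orderOf a = 2 ^ (k + 3) ∧ orderOf b = 2 ∧ b * a * b⁻¹ = a ^ (2 ^ (k + 2) - 1)) ∨
      (∃ k : ℕ, Nonempty (S ≃* QuaternionGroup (2 ^ (k + 1))))) := by
  classical
  have hi : (commutator S).index = 4 := by rw [index_eq_card]; exact hab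
  by_cases hna : IsMulCommutative S
  · left
    have : commutator S = ⊥ := by
      rw [_root_.commutator_def, eq_bot_iff, commutator_le]
      intro a _ b _
      rw [mem_bot, commutatorElement_eq_one_iff_mul_comm]
      exact hna.is_comm.comm a b
    rwa [this, index_bot] at hi
  right
  obtain ⟨D⟩ := Invol.MaxClassTwo.exists_mcData h2 hna hi
  have hm := D.two_le
  obtain ⟨k, hk⟩ : ∃ k, D.m = k + 2 := ⟨D.m - 2, by omega⟩
  rcases Invol.MaxClassTwo.iso_cases D with h | h | h
  · left; exact ⟨k, by rw [← hk]; exact h⟩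
  · right; right; exact ⟨k, by rw [show k + 1 = D.m - 1 by omega]; exact h⟩
  · right; left
    obtain ⟨m, hm3, hc, a, b, ha, hb, hab'⟩ := h
    obtain ⟨j, rfl⟩ : ∃ j, m = j + 3 := ⟨m - 3, by omega⟩
    refine ⟨j, by rw [hc], a, b, ha, hb, ?_⟩
    rw [hab']
    rfl

end Cfsg.Agent.S4399
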