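import Cfsg.Statements.S4400
import Cfsg.Statements.S4400
import Mathlib
import Cfsg.Agent.Lib.FGS.SectionalRankFour

set_option autoImplicit false
open Cfsg
open scoped Pointwise
set_option linter.all false

namespace Cfsg.Agent.S4400

open Cfsg.Agent.FGS


/-- Let S be a finite 2-group of sectional 2-rank at most 4, and let P and Q be normal non-abelian subgroups of S whose centres have order 2 and are different. Then P and Q commute elementwise and intersect trivially, and PQ contains its own centralizer in S. -/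
theorem result {S : Type*} [Group S] [Finite S] (h2 : IsPGroup 2 S) (hr : Cfsg.SectionalPRankLE 2 4 S)
    (P Q : Subgroup S) [P.Normal] [Q.Normal] (hP : ¬ IsMulCommutative ↥P) (hQ : ¬ IsMulCommutative ↥Q)
    (hZP : Nat.card ↥(Subgroup.center ↥P) = 2) (hZQ : Nat.card ↥(Subgroup.center ↥Q) = 2)
    (hne : (Subgroup.center ↥P).map P.subtype ≠ (Subgroup.center ↥Q).map Q.subtype) :
    ⁅P, Q⁆ = ⊥ ∧ P ⊓ Q = ⊥ ∧ Subgroup.centralizer ((P ⊔ Q : Subgroup S) : Set S) ≤ P ⊔ Q := by
  have h := SectionalRankFour.inf_eq_bot h2 P Q hZP hZQ hne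
  refine ⟨?_, h, SectionalRankFour.centralizer_le h2 hr P Q hP hQ hZP hZQ h⟩
  rw [eq_bot_iff, ← h]
  exact le_inf (Subgroup.commutator_le_left P Q) (Subgroup.commutator_le_right P Q)

end Cfsg.Agent.S4400
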