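import Cfsg.Statements.S4401
import Cfsg.Statements.S4401
import Mathlib
import Cfsg.Agent.Lib.FGS.SectionalRankFour

set_option autoImplicit false
open Cfsg
open scoped Pointwise
set_option linter.all false

namespace Cfsg.Agent.S4401

open Subgroup
open Cfsg.Agent.FGS

private theorem mem_pair {G : Type*} [Group G] [Finite G] {z : G} (H : Subgroup G) (h : Nat.card H = 2)
    (hz : z ∈ H) (hz1 : z ≠ 1) {w : G} (hw : w ∈ H) : w = 1 ∨ w = z := by
  obtain ⟨a, b, hab, hall⟩ := Nat.card_eq_two_iff.1 h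
  have h3 : ∀ t : H, t = a ∨ t = b := fun t => by
    have := (hall.symm ▸ Set.mem_univ t : t ∈ ({a, b} : Set H))
    simpa using this
  by_contra hc
  push Not at hc
  rcases h3 ⟨w, hw⟩ with e1 | e1 <;> rcases h3 ⟨z, hz⟩ with e2 | e2 <;> rcases h3 1 with e3 | e3 <;>
    first
      | exact hz1 (congrArg Subtype.val (e2.trans e3.symm))
      | exact hc.1 (congrArg Subtype.val (e1.trans e3.symm))
      | exact hc.2 (congrArg Subtype.val (e1.trans e2.symm))

private theorem center_congr_card {G H : Type*} [Group G] [Group H] (e : G ≃* H) :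
    Nat.card (center G) = Nat.card (center H) :=
  Nat.card_congr (Subgroup.centerCongr e).toEquiv

private theorem comm_congr {G H : Type*} [Group G] [Group H] (e : G ≃* H) (h : IsMulCommutative G) :
    IsMulCommutative H :=
  ⟨⟨fun a b => by
    have := congrArg e (h.is_comm.comm (e.symm a) (e.symm b))
    simpa using this⟩⟩


/-- Let S be a finite 2-group of sectional 2-rank at most 4 and P a proper non-abelian subgroup whose centre has order 2. Let S₀ be the centralizer in S of Z(P) and suppose P is normal in S₀. Then either S₀ = S, or P has sectional 2-rank at most 2 and S₀ has index 2 in S. -/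
theorem result {S : Type*} [Group S] [Finite S] (h2 : IsPGroup 2 S) (hr : Cfsg.SectionalPRankLE 2 4 S)
    (P : Subgroup S) (hPlt : P ≠ ⊤) (hP : ¬ IsMulCommutative ↥P) (hZP : Nat.card ↥(Subgroup.center ↥P) = 2)
    (S₀ : Subgroup S) (hS₀ : S₀ = Subgroup.centralizer (((Subgroup.center ↥P).map P.subtype : Subgroup S) : Set S))
    (hPn : ∀ s ∈ S₀, ∀ x ∈ P, s * x * s⁻¹ ∈ P) :
    S₀ = ⊤ ∨ (Cfsg.SectionalPRankLE 2 2 ↥P ∧ S₀.index = 2) := by
  classical
  haveI := Fact.mk Nat.prime_two
  by_cases htop : S₀ = ⊤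
  · exact Or.inl htop
  right
  set Z := (center P).map P.subtype with hZdef
  have hZc : Nat.card Z = 2 := by rw [hZdef, card_map_of_injective P.subtype_injective, hZP]
  obtain ⟨z, hzZ, hz1⟩ : ∃ z ∈ Z, z ≠ 1 := by
    by_contra h
    push Not at h
    rw [(eq_bot_iff_forall Z).2 h, card_bot] at hZc
    omega
  have hzP : z ∈ P := map_subtype_le _ hzZ
  have hZpair : ∀ w ∈ Z, w = 1 ∨ w = z := fun w hw => mem_pair Z hZc hzZ hz1 hw
  have hS0' : ∀ s : S, s ∈ S₀ ↔ s * z = z * s := by
    intro s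
    rw [hS₀, mem_centralizer_iff]
    refine ⟨fun h => (h z hzZ).symm, fun h w hw => ?_⟩
    rcases hZpair w hw with rfl | rfl
    · simp
    · exact h.symm
  have hZofP : ∀ w ∈ P, (∀ x ∈ P, x * w = w * x) → w = 1 ∨ w = z := fun w hw h =>
    hZpair w ⟨⟨w, hw⟩, mem_center_iff.2 fun g => Subtype.ext (h g g.2), rfl⟩
  have hzx : ∀ x ∈ P, x * z = z * x := by
    intro x hx
    obtain ⟨z', hz', e⟩ := hzZ
    have := congrArg Subtype.val (mem_center_iff.1 hz' ⟨x, hx⟩)
    rw [← e]; exact this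
  have hPS0 : P ≤ S₀ := fun x hx => (hS0' x).2 (hzx x hx)
  haveI : Group.IsNilpotent S := h2.isNilpotent
  set N := normalizer (S₀ : Set S) with hN
  have hS0N : S₀ ≤ N := le_normalizer
  obtain ⟨n, hnN, hnS⟩ := SetLike.exists_of_lt
    (Group.normalizerCondition_of_isNilpotent S₀ (lt_top_iff_ne_top.2 htop))
  set P' := P.map (MulAut.conj n).toMonoidHom with hP'
  set z' := n * z * n⁻¹ with hz'
  have hzz' : z' ≠ z := fun e => hnS ((hS0' n).2 (by
    calc n * z = n * z * n⁻¹ * n := by group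
      _ = z * n := by rw [← hz', e]))
  have hconjS : ∀ m ∈ N, ∀ s, s ∈ S₀ ↔ m * s * m⁻¹ ∈ S₀ := fun m hm s => mem_normalizer_iff.1 hm s
  have hnormal : ∀ m ∈ N, P.map (MulAut.conj m).toMonoidHom ≤ S₀ ∧
      ∀ s ∈ S₀, ∀ x ∈ P.map (MulAut.conj m).toMonoidHom, s * x * s⁻¹ ∈ P.map (MulAut.conj m).toMonoidHom := by
    intro m hm
    refine ⟨?_, ?_⟩
    · rintro _ ⟨x, hx, rfl⟩; exact (hconjS m hm x).1 (hPS0 hx)
    · rintro s hs _ ⟨x, hx, rfl⟩
      have hs' : m⁻¹ * s * m ∈ S₀ := by
        rw [hconjS m hm]; simpa [mul_assoc] using hs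
      refine ⟨_, hPn _ hs' x hx, ?_⟩
      simp [mul_assoc]
  haveI hPn0 : (P.subgroupOf S₀).Normal := ⟨fun x hx s => hPn s s.2 x hx⟩
  haveI hP'n0 : (P'.subgroupOf S₀).Normal := ⟨fun x hx s => (hnormal n hnN).2 s s.2 x hx⟩
  have hP'S0 : P' ≤ S₀ := (hnormal n hnN).1
  have h20 : IsPGroup 2 S₀ := h2.to_subgroup S₀
  have hr0 := SectionalRankFour.sectional_subgroup hr S₀
  -- the conjugates of `P` in `S₀` meet trivially
  have hdisj : ∀ m ∈ N, m * z * m⁻¹ ≠ z → ∀ x ∈ P, x ∈ P.map (MulAut.conj m).toMonoidHom → x = 1 := by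
    intro m hm hne x hx hxm
    by_contra hx1
    haveI : ((P.map (MulAut.conj m).toMonoidHom).subgroupOf S₀).Normal :=
      ⟨fun x hx s => (hnormal m hm).2 s s.2 x hx⟩
    obtain ⟨w, ⟨hwP, hwQ⟩, hw1, hwc⟩ := SectionalRankFour.exists_central h20
      (P.subgroupOf S₀ ⊓ (P.map (MulAut.conj m).toMonoidHom).subgroupOf S₀) (fun h => hx1 (by
        have hmem : (⟨x, hPS0 hx⟩ : S₀) ∈ P.subgroupOf S₀ ⊓ (P.map (MulAut.conj m).toMonoidHom).subgroupOf S₀ :=
          ⟨hx, hxm⟩
        rw [h, mem_bot] at hmem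
        exact congrArg Subtype.val hmem))
    have hcomm : ∀ y ∈ S₀, y * (w : S) = w * y := fun y hy =>
      congrArg Subtype.val (mem_center_iff.1 hwc ⟨y, hy⟩)
    have hwz : (w : S) = z := (hZofP w hwP fun y hy => hcomm y (hPS0 hy)).resolve_left
      fun e => hw1 (Subtype.ext e)
    obtain ⟨v, hv, hvw⟩ := hwQ
    have hvw' : m * v * m⁻¹ = z := by rw [← hwz]; exact hvw
    have hvz : v = z := (hZofP v hv fun y hy => by
      have h1 := hcomm (m * y * m⁻¹) ((hconjS m hm y).1 (hPS0 hy))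
      rw [hwz, ← hvw'] at h1
      have h2 := congrArg (fun t => m⁻¹ * t * m) h1
      simpa [mul_assoc] using h2).resolve_left (fun e => hz1 (by rw [← hvw', e]; group))
    exact hne (hvz ▸ hvw')
  have hPP' : P.subgroupOf S₀ ⊓ P'.subgroupOf S₀ = ⊥ := by
    rw [eq_bot_iff]
    rintro ⟨x, hxS⟩ ⟨hx, hx'⟩
    exact Subgroup.mem_bot.2 (Subtype.ext (hdisj n hnN hzz' x hx hx'))
  let eP : P.subgroupOf S₀ ≃* P := subgroupOfEquivOfLe hPS0
  let eP' : P'.subgroupOf S₀ ≃* P :=
    (subgroupOfEquivOfLe hP'S0).trans (P.equivMapOfInjective _ (MulAut.conj n).injective).symm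
  have hP0 : ¬ IsMulCommutative (P.subgroupOf S₀) := fun h => hP (comm_congr eP h)
  have hP0' : ¬ IsMulCommutative (P'.subgroupOf S₀) := fun h => hP (comm_congr eP' h)
  have hZ0 : Nat.card (center (P.subgroupOf S₀)) = 2 := (center_congr_card eP).trans hZP
  have hZ0' : Nat.card (center (P'.subgroupOf S₀)) = 2 := (center_congr_card eP').trans hZP
  have hrk := SectionalRankFour.rank_two h20 hr0 (P.subgroupOf S₀) (P'.subgroupOf S₀) hP0' hZ0' hPP'
  have hCW := SectionalRankFour.centralizer_le h20 hr0 (P.subgroupOf S₀) (P'.subgroupOf S₀) hP0 hP0' hZ0 hZ0' hPP'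
  refine ⟨fun H K _ A hc hA => SectionalRankFour.rank_le hrk (eP.symm.toMonoidHom.comp H.subtype)
    (eP.symm.injective.comp H.subtype_injective) (QuotientGroup.mk' K) (QuotientGroup.mk'_surjective K) A hc hA, ?_⟩
  -- commuting
  have hcPP' : ∀ x ∈ P, ∀ y ∈ P', x * y = y * x := fun x hx y hy =>
    congrArg Subtype.val (Subgroup.commute_of_normal_of_disjoint _ _ hPn0 hP'n0 (disjoint_iff.2 hPP')
      ⟨x, hPS0 hx⟩ ⟨y, hP'S0 hy⟩ hx hy).eq
  -- an element of `S₀` centralizing `P` and `P'` lies in `P P'`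
  have hC : ∀ c ∈ S₀, (∀ x ∈ P, x * c = c * x) → (∀ y ∈ P', y * c = c * y) →
      ∃ x ∈ P, ∃ y ∈ P', c = x * y ∧ (x = 1 ∨ x = z) ∧ (y = 1 ∨ y = z') := by
    intro c hc h1 h2'
    have hmem : (⟨c, hc⟩ : S₀) ∈ centralizer ((P.subgroupOf S₀ ⊔ P'.subgroupOf S₀ : Subgroup S₀) : Set S₀) := by
      rw [mem_centralizer_iff]
      intro w hw
      obtain ⟨a, ha, b, hb, rfl⟩ := mem_sup_of_normal_left.1 hw
      apply Subtype.ext
      show (a : S) * b * c = c * ((a : S) * b)
      rw [mul_assoc, h2' b hb, ← mul_assoc, h1 a ha, mul_assoc]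
    obtain ⟨a, ha, b, hb, hab⟩ := mem_sup_of_normal_left.1 (hCW hmem)
    have hab' : (a : S) * b = c := congrArg Subtype.val hab
    refine ⟨a, ha, b, hb, hab'.symm, hZofP a ha fun x hx => ?_, ?_⟩
    · have := h1 x hx
      rw [← hab', ← mul_assoc, mul_assoc (a : S) b x, ← hcPP' x hx b hb, ← mul_assoc] at this
      exact mul_right_cancel this
    · obtain ⟨v, hv, hvb⟩ := (show (b : S) ∈ P' from hb)
      have hvb' : n * v * n⁻¹ = (b : S) := hvb
      have hvc : ∀ x ∈ P, x * v = v * x := by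
        intro x hx
        have hy : n * x * n⁻¹ ∈ P' := ⟨x, hx, rfl⟩
        have h0 : (n * x * n⁻¹) * ((a : S) * b) = (a : S) * b * (n * x * n⁻¹) := by rw [hab']; exact h2' _ hy
        have h3 : (n * x * n⁻¹) * (b : S) = (b : S) * (n * x * n⁻¹) := mul_left_cancel (a := (a : S)) (by
          calc (a : S) * ((n * x * n⁻¹) * b) = (n * x * n⁻¹) * ((a : S) * b) := by
                rw [← mul_assoc, hcPP' a ha _ hy, mul_assoc]
            _ = (a : S) * ((b : S) * (n * x * n⁻¹)) := by rw [h0, mul_assoc])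
        rw [← hvb'] at h3
        have h4 := congrArg (fun t => n⁻¹ * t * n) h3
        simpa [mul_assoc] using h4
      rcases hZofP v hv hvc with rfl | rfl
      · left; rw [← hvb']; group
      · right; rw [← hvb']
  -- `N` permutes `z` and `z'`
  have horb : ∀ m ∈ N, m * z * m⁻¹ = z ∨ m * z * m⁻¹ = z' := by
    intro m hm
    by_contra hc
    push Not at hc
    apply hP
    have hm' : n⁻¹ * m ∈ N := mul_mem (inv_mem hnN) hm
    have hmne : n⁻¹ * m * z * (n⁻¹ * m)⁻¹ ≠ z := fun e => hc.2 (by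
      calc m * z * m⁻¹ = n * (n⁻¹ * m * z * (n⁻¹ * m)⁻¹) * n⁻¹ := by group
        _ = z' := by rw [e])
    haveI hRn : ((P.map (MulAut.conj m).toMonoidHom).subgroupOf S₀).Normal :=
      ⟨fun x hx s => (hnormal m hm).2 s s.2 x hx⟩
    have hd1 : Disjoint (P.subgroupOf S₀) ((P.map (MulAut.conj m).toMonoidHom).subgroupOf S₀) :=
      disjoint_iff.2 (eq_bot_iff.2 fun x hx => Subgroup.mem_bot.2 (Subtype.ext (hdisj m hm hc.1 x hx.1 hx.2)))
    have hd2 : Disjoint (P'.subgroupOf S₀) ((P.map (MulAut.conj m).toMonoidHom).subgroupOf S₀) :=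
      disjoint_iff.2 (eq_bot_iff.2 fun x hx => Subgroup.mem_bot.2 (Subtype.ext (by
        obtain ⟨a, ha, hax⟩ := hx.1
        obtain ⟨b, hb, hbx⟩ := hx.2
        have hax' : n * a * n⁻¹ = (x : S) := hax
        have hbx' : m * b * m⁻¹ = (x : S) := hbx
        have : a = 1 := hdisj _ hm' hmne a ha ⟨b, hb, by
          show n⁻¹ * m * b * (n⁻¹ * m)⁻¹ = a
          calc n⁻¹ * m * b * (n⁻¹ * m)⁻¹ = n⁻¹ * (m * b * m⁻¹) * n := by group
            _ = a := by rw [hbx', ← hax']; group⟩
        show (x : S) = 1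
        rw [← hax', this]; group)))
    refine ⟨⟨fun a b => Subtype.ext ?_⟩⟩
    have hb3 : m * (b : S) * m⁻¹ ∈ P.map (MulAut.conj m).toMonoidHom := ⟨b, b.2, rfl⟩
    have ha3 : m * (a : S) * m⁻¹ ∈ P.map (MulAut.conj m).toMonoidHom := ⟨a, a.2, rfl⟩
    have hbS := (hnormal m hm).1 hb3
    obtain ⟨x, hx, y, hy, hxy, hx', hy'⟩ := hC _ hbS
      (fun x hx => congrArg Subtype.val (Subgroup.commute_of_normal_of_disjoint _ _ hPn0 hRn hd1
        ⟨x, hPS0 hx⟩ ⟨_, hbS⟩ hx hb3).eq)
      (fun y hy => congrArg Subtype.val (Subgroup.commute_of_normal_of_disjoint _ _ hP'n0 hRn hd2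
        ⟨y, hP'S0 hy⟩ ⟨_, hbS⟩ hy hb3).eq)
    have hcx : (m * (a : S) * m⁻¹) * x = x * (m * (a : S) * m⁻¹) :=
      (congrArg Subtype.val (Subgroup.commute_of_normal_of_disjoint _ _ hPn0 hRn hd1
        ⟨x, hPS0 hx⟩ ⟨_, (hnormal m hm).1 ha3⟩ hx ha3).eq).symm
    have hcy : (m * (a : S) * m⁻¹) * y = y * (m * (a : S) * m⁻¹) :=
      (congrArg Subtype.val (Subgroup.commute_of_normal_of_disjoint _ _ hP'n0 hRn hd2
        ⟨y, hP'S0 hy⟩ ⟨_, (hnormal m hm).1 ha3⟩ hy ha3).eq).symm
    have : (m * (a : S) * m⁻¹) * (m * (b : S) * m⁻¹) = (m * (b : S) * m⁻¹) * (m * (a : S) * m⁻¹) := by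
      rw [hxy]
      exact (Commute.mul_right (show Commute _ x from hcx) hcy).eq
    show (a : S) * b = b * a
    calc (a : S) * b = m⁻¹ * ((m * (a : S) * m⁻¹) * (m * (b : S) * m⁻¹)) * m := by group
      _ = _ := by rw [this]; group
  have hrel : S₀.relIndex N = 2 := by
    have hmem : ∀ m ∈ N, m ∈ S₀ ∨ n⁻¹ * m ∈ S₀ := by
      intro m hm
      rcases horb m hm with e | e
      · left; rw [hS0']
        calc m * z = m * z * m⁻¹ * m := by group
          _ = z * m := by rw [e]
      · right; rw [hS0']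
        calc n⁻¹ * m * z = n⁻¹ * (m * z * m⁻¹) * m := by group
          _ = n⁻¹ * (n * z * n⁻¹) * m := by rw [e]
          _ = z * (n⁻¹ * m) := by group
    rw [relIndex, index_eq_card]
    refine Nat.card_eq_two_iff.2 ⟨QuotientGroup.mk 1, QuotientGroup.mk ⟨n, hnN⟩, ?_, ?_⟩
    · intro e
      rw [QuotientGroup.eq] at e
      exact hnS (by simpa [mem_subgroupOf] using e)
    · rw [Set.eq_univ_iff_forall]
      intro q
      induction q using QuotientGroup.induction_on with
      | _ q =>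
        rcases hmem q q.2 with hq | hq
        · left; rw [QuotientGroup.eq]; simpa [mem_subgroupOf] using hq
        · right
          refine Set.mem_singleton_iff.2 (QuotientGroup.eq.2 ?_)
          have := inv_mem hq
          simpa [mem_subgroupOf] using this
  by_cases hNtop : N = ⊤
  · rw [hNtop, relIndex_top_right] at hrel; exact hrel
  exfalso
  obtain ⟨h, hhN, hhS⟩ := SetLike.exists_of_lt
    (Group.normalizerCondition_of_isNilpotent N (lt_top_iff_ne_top.2 hNtop))
  have hNh : ∀ x, x ∈ N ↔ h * x * h⁻¹ ∈ N := fun x => mem_normalizer_iff.1 hhN x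
  set zh := h * z * h⁻¹ with hzh
  set zh' := h * z' * h⁻¹ with hzh'
  have hzS : z ∈ S₀ := hPS0 hzP
  have hzhN : zh ∈ N := (hNh z).1 (hS0N hzS)
  have hCzh : ∀ x, x * zh = zh * x ↔ h⁻¹ * x * h ∈ S₀ := by
    intro x
    rw [hS0', hzh]
    constructor
    · intro e
      calc h⁻¹ * x * h * z = h⁻¹ * (x * (h * z * h⁻¹)) * h := by group
        _ = _ := by rw [e]; group
    · intro e
      calc x * (h * z * h⁻¹) = h * (h⁻¹ * x * h * z) * h⁻¹ := by group
        _ = _ := by rw [e]; group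
  -- commutators with `zh`
  set uh := zh' * zh⁻¹ with huh
  have hcm : ∀ x ∈ N, x * zh * x⁻¹ * zh⁻¹ = 1 ∨ x * zh * x⁻¹ * zh⁻¹ = uh := by
    intro x hx
    have hx' : h⁻¹ * x * h ∈ N := by rw [hNh]; simpa [mul_assoc] using hx
    have e : x * zh * x⁻¹ = h * (h⁻¹ * x * h * z * (h⁻¹ * x * h)⁻¹) * h⁻¹ := by rw [hzh]; group
    rcases horb _ hx' with e' | e'
    · left; rw [e, e', hzh]; group
    · right; rw [e, e', huh]
  have hzc' : z * z' = z' * z := hcPP' z hzP z' ⟨z, hzP, rfl⟩
  have hu_central : ∀ x ∈ N, x * uh = uh * x := by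
    intro x hx
    have hx' : h⁻¹ * x * h ∈ N := by rw [hNh]; simpa [mul_assoc] using hx
    have hu : ∀ y ∈ N, y * (z' * z⁻¹) = z' * z⁻¹ * y := by
      have hz2 : ∀ w ∈ Z, w * w = 1 := fun w hw => by
        have := pow_card_eq_one' (x := (⟨w, hw⟩ : Z))
        rw [hZc, pow_two] at this
        exact congrArg Subtype.val this
      have hzi : z⁻¹ = z := inv_eq_of_mul_eq_one_left (hz2 z hzZ)
      intro y hy
      rw [hzi]
      have hy1 : y * z' * y⁻¹ = z ∨ y * z' * y⁻¹ = z' := by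
        have := horb (y * n) (mul_mem hy hnN)
        simpa [hz', mul_assoc] using this
      have key : y * (z' * z) * y⁻¹ = z' * z := by
        have e0 : y * (z' * z) * y⁻¹ = (y * z' * y⁻¹) * (y * z * y⁻¹) := by group
        rcases horb y hy with e1 | e1 <;> rcases hy1 with e2 | e2 <;> rw [e0, e1, e2]
        · exfalso
          have : y * z' * y⁻¹ = y * z * y⁻¹ := e2.trans e1.symm
          exact hzz' (mul_left_cancel (mul_right_cancel this))
        · exact hzc'
        · exfalso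
          have : y * z' * y⁻¹ = y * z * y⁻¹ := e2.trans e1.symm
          exact hzz' (mul_left_cancel (mul_right_cancel this))
      calc y * (z' * z) = y * (z' * z) * y⁻¹ * y := by group
        _ = z' * z * y := by rw [key]
    have := hu _ hx'
    calc x * uh = h * ((h⁻¹ * x * h) * (z' * z⁻¹)) * h⁻¹ := by rw [huh, hzh, hzh']; group
      _ = h * ((z' * z⁻¹) * (h⁻¹ * x * h)) * h⁻¹ := by rw [this]
      _ = uh * x := by rw [huh, hzh, hzh']; group
  have hPN : P ≤ N := hPS0.trans hS0N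
  have hP'N : P' ≤ N := hP'S0.trans hS0N
  by_cases hzS0 : zh ∈ S₀
  · -- `zh` centralizes `P` and `P'`
    have hnotc : ∀ w ∈ P, (∀ y ∈ N, y * w = w * y) → w = 1 := by
      intro w hw hwc
      rcases hZofP w hw (fun x hx => hwc x (hPN hx)) with e | e
      · exact e
      · exfalso; apply hnS; rw [hS0', ← e]; exact hwc n hnN
    have hc1 : ∀ x ∈ P, x * zh = zh * x := by
      intro x hx
      have hmem : x * zh * x⁻¹ * zh⁻¹ ∈ P := by
        have := mul_mem hx (hPn zh hzS0 x⁻¹ (inv_mem hx))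
        simpa [mul_assoc] using this
      have : x * zh * x⁻¹ * zh⁻¹ = 1 := by
        rcases hcm x (hPN hx) with e | e
        · exact e
        · exact hnotc _ hmem (fun y hy => by rw [e]; exact hu_central y hy)
      calc x * zh = (x * zh * x⁻¹ * zh⁻¹) * zh * x := by group
        _ = zh * x := by rw [this, one_mul]
    have hc2 : ∀ y ∈ P', y * zh = zh * y := by
      intro y hy
      have hmem : y * zh * y⁻¹ * zh⁻¹ ∈ P' := by
        have := mul_mem hy ((hnormal n hnN).2 zh hzS0 y⁻¹ (inv_mem hy))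
        simpa [mul_assoc] using this
      have : y * zh * y⁻¹ * zh⁻¹ = 1 := by
        rcases hcm y (hP'N hy) with e | e
        · exact e
        · obtain ⟨w, hw, hwe⟩ := hmem
          have hwe' : n * w * n⁻¹ = y * zh * y⁻¹ * zh⁻¹ := hwe
          have : w = 1 := hnotc w hw (fun t ht => by
            have h1 := hu_central (n * t * n⁻¹) (mul_mem (mul_mem hnN ht) (inv_mem hnN))
            rw [← e, ← hwe'] at h1
            have h2 := congrArg (fun q => n⁻¹ * q * n) h1
            simpa [mul_assoc] using h2)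
          rw [← hwe', this]; group
      calc y * zh = (y * zh * y⁻¹ * zh⁻¹) * zh * y := by group
        _ = zh * y := by rw [this, one_mul]
    obtain ⟨x, hx, y, hy, hxy, hx', hy'⟩ := hC zh hzS0 hc1 hc2
    have hne1 : zh ≠ 1 := fun e => hz1 (by
      calc z = h⁻¹ * zh * h := by rw [hzh]; group
        _ = 1 := by rw [e]; group)
    have hbad : ¬ ∀ s ∈ S₀, h⁻¹ * s * h ∈ S₀ := fun hall => by
      apply hhS
      rw [hN]
      have hin : h⁻¹ ∈ normalizer (S₀ : Set S) := by
        have heq : S₀.map (MulAut.conj h⁻¹).toMonoidHom = S₀ :=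
          eq_of_le_of_card_ge (by rintro _ ⟨s, hs, rfl⟩; simpa using hall s hs)
            (le_of_eq (card_map_of_injective (MulAut.conj h⁻¹).injective).symm)
        refine mem_normalizer_iff.2 fun s => ⟨fun hs => by simpa using hall s hs, fun hs => ?_⟩
        obtain ⟨t, ht, e⟩ := heq.symm ▸ hs
        have : t = s := (MulAut.conj h⁻¹).injective e
        exact this ▸ ht
      simpa using inv_mem hin
    rcases hx' with ex | ex <;> rcases hy' with ey | ey <;> rw [ex, ey] at hxy
    · exact hne1 (by rw [hxy, one_mul])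
    · refine hbad fun s hs => ?_
      rw [← hCzh, hxy, one_mul]
      have hsz : n⁻¹ * s * n ∈ S₀ := by rw [hconjS n hnN]; simpa [mul_assoc] using hs
      rw [hS0'] at hsz
      calc s * z' = n * (n⁻¹ * s * n * z) * n⁻¹ := by rw [hz']; group
        _ = z' * s := by rw [hsz, hz']; group
    · refine hbad fun s hs => ?_
      rw [← hCzh, hxy, mul_one]; exact (hS0' s).1 hs
    · -- `zh = z z'` is central in `N`
      apply hnS
      have h1 : ∀ y ∈ N, h⁻¹ * y * h ∈ S₀ := by
        intro y hy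
        rw [← hCzh]
        rcases hcm y hy with e | e
        · calc y * zh = (y * zh * y⁻¹ * zh⁻¹) * zh * y := by group
            _ = zh * y := by rw [e, one_mul]
        · exfalso
          have hsz : y * (z * z') * y⁻¹ = z * z' := by
            have hy1 : y * z' * y⁻¹ = z ∨ y * z' * y⁻¹ = z' := by
              have := horb (y * n) (mul_mem hy hnN)
              simpa [hz', mul_assoc] using this
            have e0 : y * (z * z') * y⁻¹ = (y * z * y⁻¹) * (y * z' * y⁻¹) := by group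
            rcases horb y hy with e1 | e1 <;> rcases hy1 with e2 | e2 <;> rw [e0, e1, e2]
            · exfalso; exact hzz' (mul_left_cancel (mul_right_cancel (e2.trans e1.symm)))
            · exact hzc'.symm
            · exfalso; exact hzz' (mul_left_cancel (mul_right_cancel (e2.trans e1.symm)))
          have h0 : y * zh * y⁻¹ * zh⁻¹ = 1 := by rw [hxy, hsz, mul_inv_cancel]
          rw [h0] at e
          apply hzz'
          have : zh' = zh := mul_inv_eq_one.1 e.symm
          exact mul_left_cancel (mul_right_cancel this)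
      have := h1 (h * n * h⁻¹) ((hNh n).1 hnN)
      simpa [mul_assoc] using this
  · -- `zh` interchanges `P` and `P'`
    apply hP
    have hswap : ∀ x ∈ P, zh * x * zh⁻¹ ∈ P' := by
      intro x hx
      rcases horb zh hzhN with e | e
      · exfalso; apply hzS0; rw [hS0']
        calc zh * z = zh * z * zh⁻¹ * zh := by group
          _ = z * zh := by rw [e]
      · have hs : n⁻¹ * zh ∈ S₀ := by
          rw [hS0']
          calc n⁻¹ * zh * z = n⁻¹ * (zh * z * zh⁻¹) * zh := by group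
            _ = z * (n⁻¹ * zh) := by rw [e, hz']; group
        exact ⟨_, hPn _ hs x hx, by simp [mul_assoc]⟩
    refine ⟨⟨fun a b => Subtype.ext ?_⟩⟩
    show (a : S) * b = b * a
    have hy : zh * (a : S)⁻¹ * zh⁻¹ ∈ P' := hswap _ (inv_mem a.2)
    have e : (a : S) * zh * (a : S)⁻¹ * zh⁻¹ = (a : S) * (zh * (a : S)⁻¹ * zh⁻¹) := by group
    rcases hcm a (hPN a.2) with e' | e' <;> rw [e] at e'
    · have hbot : (a : S) = 1 := by
        have h1 : (a : S) ∈ P' := by
          rw [mul_eq_one_iff_eq_inv.1 e']; exact inv_mem hy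
        exact hdisj n hnN hzz' a a.2 h1
      rw [hbot]; simp
    · have h1 := hu_central b (hPN b.2)
      rw [← e'] at h1
      exact (mul_right_cancel (b := zh * (a : S)⁻¹ * zh⁻¹) (by
        calc (b : S) * a * (zh * (a : S)⁻¹ * zh⁻¹) = (b : S) * ((a : S) * (zh * (a : S)⁻¹ * zh⁻¹)) := by rw [mul_assoc]
          _ = (a : S) * (zh * (a : S)⁻¹ * zh⁻¹) * b := h1
          _ = (a : S) * b * (zh * (a : S)⁻¹ * zh⁻¹) := by
            rw [mul_assoc (a : S) _ (b : S), ← hcPP' b b.2 _ hy, ← mul_assoc])).symm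

end Cfsg.Agent.S4401
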