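import Cfsg.Statements.S4402
import Cfsg.Agent.Lib.DEightWreath.Aut
import Cfsg.Agent.Lib.FGS.SectionalRankFour

set_option autoImplicit false
open Cfsg

namespace Cfsg.Agent.S4402

open Cfsg.Agent.DEightWreath Subgroup
open scoped commutatorElement

theorem card_sylow (T : Sylow 2 (Equiv.Perm (Fin 8))) : Nat.card (T : Subgroup (Equiv.Perm (Fin 8))) = 2 ^ 7 := by
  haveI := Fact.mk Nat.prime_two
  obtain ⟨f, hf⟩ := exists_perm_hom
  have hR : Nat.card f.range = 2 ^ 7 := by
    rw [← Nat.card_congr (MonoidHom.ofInjective hf).toEquiv, card_W]; norm_num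
  obtain ⟨T', hT'⟩ := (IsPGroup.of_card (p := 2) hR).exists_le_sylow
  obtain ⟨k, hk⟩ := IsPGroup.iff_card.1 T'.isPGroup'
  have h1 := Subgroup.card_dvd_of_le hT'
  rw [hR, hk] at h1
  have h2 : 2 ^ k ∣ 40320 := by
    rw [← hk]
    refine (Subgroup.card_subgroup_dvd_card _).trans (dvd_of_eq ?_)
    rw [Nat.card_perm, Nat.card_fin]; rfl
  have h3 := (Nat.pow_dvd_pow_iff_le_right (by norm_num)).1 h1
  have h4 : k = 7 := by
    by_contra hne
    have h5 : 2 ^ 8 ∣ 40320 := (Nat.pow_dvd_pow 2 (show 8 ≤ k by omega)).trans h2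
    norm_num at h5
  rw [Nat.card_congr (T.equiv T').toEquiv, hk, h4]

theorem sylow_equiv (T : Sylow 2 (Equiv.Perm (Fin 8))) : Nonempty (W ≃* (T : Subgroup (Equiv.Perm (Fin 8)))) := by
  haveI := Fact.mk Nat.prime_two
  obtain ⟨f, hf⟩ := exists_perm_hom
  have hR : Nat.card f.range = 2 ^ 7 := by
    rw [← Nat.card_congr (MonoidHom.ofInjective hf).toEquiv, card_W]; norm_num
  obtain ⟨T', hT'⟩ := (IsPGroup.of_card (p := 2) hR).exists_le_sylow
  have h : f.range = (T' : Subgroup (Equiv.Perm (Fin 8))) :=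
    eq_of_le_of_card_ge hT' (by rw [hR, card_sylow T'])
  exact ⟨((MonoidHom.ofInjective hf).trans (MulEquiv.subgroupCongr h)).trans (T'.equiv T)⟩

section
variable {S : Type*} [Group S] [Finite S] (ι : W →* S)

/-- No element outside the base group acts trivially modulo its centre with square in that centre. -/
theorem no_trivial (hι : Function.Injective ι) (hr : Cfsg.SectionalPRankLE 2 4 S) (x : S)
    (hx : ∀ k : W, k.swap = false → ι k ≠ x)
    (hact : ∀ k : W, k.swap = false → ∃ z, isZ z = true ∧ x * ι k * x⁻¹ = ι (k * z))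
    (hfix : ∀ z : W, isZ z = true → x * ι z = ι z * x)
    (hsq : ∃ z, isZ z = true ∧ x * x = ι z) : False := by
  classical
  let A : Subgroup S := closure (ι '' {k | k.swap = false} ∪ {x})
  have hKA : ∀ k : W, k.swap = false → ι k ∈ A := fun k hk => subset_closure (Or.inl ⟨k, hk, rfl⟩)
  have hxA : x ∈ A := subset_closure (Or.inr rfl)
  let Z : Subgroup W :=
    { carrier := {k | isZ k = true}
      one_mem' := by decide
      mul_mem' := fun {a b} ha hb => z_mul a ha b hb
      inv_mem' := fun {a} ha => by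
        show isZ a⁻¹ = true
        rw [inv_eq_of_mul_eq_one_right (z_sq a ha)]; exact ha }
  let B : Subgroup A := (Z.map ι).subgroupOf A
  have hZcard : Nat.card Z = 4 := by
    rw [show Nat.card Z = Nat.card {k : W // isZ k = true} from rfl, Nat.card_eq_fintype_card]
    decide +kernel
  have hBc : ∀ b ∈ B, ∀ a : A, a * b = b * a := by
    intro b hb a
    obtain ⟨z, hz, hzb⟩ := mem_subgroupOf.1 hb
    apply Subtype.ext
    show (a : S) * b = b * a
    rw [← hzb]
    have : A ≤ centralizer {ι z} := by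
      rw [closure_le]
      rintro y (⟨k, hk, rfl⟩ | hy)
      · exact mem_centralizer_singleton_iff.2 (by rw [← map_mul, ← map_mul, z_central z hz k hk])
      · rw [Set.mem_singleton_iff] at hy
        subst hy
        exact mem_centralizer_singleton_iff.2 (hfix z hz)
    exact mem_centralizer_singleton_iff.1 (this a.2)
  haveI : B.Normal := ⟨fun b hb a => by rwa [hBc b hb a, mul_inv_cancel_right]⟩
  let f : A →* A ⧸ B := QuotientGroup.mk' B
  have hZf : ∀ a : A, ∀ z, isZ z = true → (a : S) = ι z → f a = 1 := fun a z hz ha =>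
    (QuotientGroup.eq_one_iff a).2 (mem_subgroupOf.2 ⟨z, hz, ha.symm⟩)
  let G' : Set A := {a | (∃ k : W, k.swap = false ∧ ι k = (a : S)) ∨ (a : S) = x}
  have hgen : closure G' = ⊤ := by
    rw [← Subgroup.closure_closure_coe_preimage (k := ι '' {k | k.swap = false} ∪ {x})]
    refine congrArg Subgroup.closure ?_
    ext a
    constructor
    · rintro (⟨k, hk, he⟩ | he)
      · exact Or.inl ⟨k, hk, he⟩
      · exact Or.inr he
    · rintro (⟨k, hk, he⟩ | he)
      · exact Or.inl ⟨k, hk, he⟩
      · exact Or.inr he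
  have hKK : ∀ k k' : W, k.swap = false → k'.swap = false → isZ (k⁻¹ * k'⁻¹ * k * k') = true ∧ isZ (k * k) = true := by
    have key : ∀ k : W, k.swap = false → isZ (k * k) = true := by decide +kernel
    intro k k' hk hk'
    refine ⟨?_, key k hk⟩
    have h1 : ∀ k : W, k.swap = false → k⁻¹.swap = false := by decide +kernel
    have h3 : ∀ k k' : W, k.swap = false → k'.swap = false → (k * k').swap = false := fun k k' hk hk' => by
      show xor k.swap k'.swap = false
      rw [hk, hk']; rfl
    have e1 := key _ (h1 k hk)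
    have e2 := key _ (h3 k k'⁻¹ hk (h1 k' hk'))
    have e3 := key k' hk'
    rw [show k⁻¹ * k'⁻¹ * k * k' = (k⁻¹ * k⁻¹) * ((k * k'⁻¹) * (k * k'⁻¹)) * (k' * k') by group]
    exact z_mul _ (z_mul _ e1 _ e2) _ e3
  have hcomm : ∀ a ∈ G', ∀ b ∈ G', Commute (f a) (f b) := by
    have hkx : ∀ a b : A, (∃ k : W, k.swap = false ∧ ι k = (a : S)) → (b : S) = x → Commute (f a) (f b) := by
      rintro a b ⟨k, hk, hka⟩ hb
      obtain ⟨z, hz, he⟩ := hact k hk
      have : f (a⁻¹ * (b * a * b⁻¹)) = 1 := hZf _ z hz (by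
        show (a : S)⁻¹ * ((b : S) * a * (b : S)⁻¹) = ι z
        rw [← hka, hb, he, ← map_inv, ← map_mul, inv_mul_cancel_left])
      rw [map_mul, map_mul, map_mul, map_inv, map_inv, inv_mul_eq_one, eq_mul_inv_iff_mul_eq] at this
      exact this
    rintro a (⟨k, hk, hka⟩ | ha) b (⟨k', hk', hkb⟩ | hb)
    · have : f (a⁻¹ * b⁻¹ * a * b) = 1 := hZf _ _ (hKK k k' hk hk').1 (by
        show (a : S)⁻¹ * (b : S)⁻¹ * a * b = _
        rw [← hka, ← hkb, map_mul, map_mul, map_mul, map_inv, map_inv])
      rw [map_mul, map_mul, map_mul, map_inv, map_inv, mul_assoc, ← mul_inv_rev, inv_mul_eq_one] at this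
      exact this.symm
    · exact hkx a b ⟨k, hk, hka⟩ hb
    · exact (hkx b a ⟨k', hk', hkb⟩ ha).symm
    · rw [show a = b from Subtype.ext (ha.trans hb.symm)]
  have hsurj : ∀ y : A ⧸ B, y ∈ closure (f '' G') := by
    intro y
    obtain ⟨a, rfl⟩ := QuotientGroup.mk'_surjective B y
    rw [← MonoidHom.map_closure, hgen]
    exact ⟨a, mem_top a, rfl⟩
  have hC : ∀ y z : A ⧸ B, Commute y z := by
    intro y z
    induction hsurj y, hsurj z using closure_induction₂ with
    | mem a b ha hb =>
      obtain ⟨a, ha, rfl⟩ := ha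
      obtain ⟨b, hb, rfl⟩ := hb
      exact hcomm a ha b hb
    | one_left => exact Commute.one_left _
    | one_right => exact Commute.one_right _
    | mul_left _ _ _ _ _ _ h1 h2 => exact h1.mul_left h2
    | mul_right _ _ _ _ _ _ h1 h2 => exact h1.mul_right h2
    | inv_left _ _ _ _ h => exact h.inv_left
    | inv_right _ _ _ _ h => exact h.inv_right
  have hE : ∀ y : A ⧸ B, y ^ 2 = 1 := by
    intro y
    refine closure_induction (p := fun y _ => y ^ 2 = 1) ?_ (one_pow 2) ?_ ?_ (hsurj y)
    · rintro _ ⟨a, ha, rfl⟩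
      rw [← map_pow]
      rcases ha with ⟨k, hk, hka⟩ | ha
      · refine hZf _ _ (hKK k k hk hk).2 ?_
        rw [SubmonoidClass.coe_pow, ← hka, pow_two, map_mul]
      · obtain ⟨z, hz, he⟩ := hsq
        refine hZf _ z hz ?_
        rw [SubmonoidClass.coe_pow, ha, pow_two, he]
    · intro a b _ _ ha hb
      rw [(hC a b).mul_pow, ha, hb, one_mul]
    · intro a _ ha
      rw [inv_pow, ha, inv_one]
  have hle := Cfsg.Agent.FGS.SectionalRankFour.rank_le hr A.subtype A.subtype_injective f
    (QuotientGroup.mk'_surjective B) (⊤ : Subgroup (A ⧸ B)) ⟨⟨fun a b => Subtype.ext (hC a b).eq⟩⟩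
    (fun a _ => hE a)
  rw [card_top] at hle
  have hZA : Z.map ι ≤ A := by
    rintro _ ⟨z, hz, rfl⟩
    exact hKA z (swap_mul z (Or.inl ((isZ_iff z).1 hz).1))
  have hBcard : Nat.card B = 4 := by
    rw [Nat.card_congr (subgroupOfEquivOfLe hZA).toEquiv, card_map_of_injective hι, hZcard]
  let K : Subgroup W :=
    { carrier := {k | k.swap = false}
      one_mem' := rfl
      mul_mem' := fun {a b} (ha : a.swap = false) (hb : b.swap = false) => by
        show xor a.swap b.swap = false
        rw [ha, hb]; rfl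
      inv_mem' := fun {a} (ha : a.swap = false) => ha }
  have hKle : K.map ι ≤ A := by rintro _ ⟨k, hk, rfl⟩; exact hKA k hk
  have hKc : Nat.card (K.map ι) = 64 := by
    rw [card_map_of_injective hι, show Nat.card K = Nat.card {k : W // k.swap = false} from rfl,
      Nat.card_eq_fintype_card]
    decide +kernel
  have hAc : 128 ≤ Nat.card A := by
    obtain ⟨c, hc⟩ := Subgroup.card_dvd_of_le hKle
    rw [hKc] at hc
    rcases Nat.lt_or_ge c 2 with hlt | hge
    · exfalso
      have hc1 : c = 1 := by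
        have := Nat.card_pos (α := A)
        omega
      have he := eq_of_le_of_card_ge hKle (by rw [hc, hc1, hKc])
      obtain ⟨k, hk, hkx⟩ : x ∈ K.map ι := he ▸ hxA
      exact hx k hk hkx
    · omega
  have hmul := B.card_eq_card_quotient_mul_card_subgroup
  rw [hBcard] at hmul
  omega

theorem centralizer_base (hι : Function.Injective ι) (h2 : IsPGroup 2 S) (hr : Cfsg.SectionalPRankLE 2 4 S) (x : S)
    (hx : ∀ k : W, k.swap = false → x * ι k = ι k * x) : ∃ z, isZ z = true ∧ ι z = x := by
  have hKfix : ∀ (n : ℕ) (k : W), k.swap = false → x ^ n * ι k = ι k * x ^ n := fun n k hk =>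
    Commute.pow_left (hx k hk) n
  have hin : ∀ n : ℕ, (∃ k : W, k.swap = false ∧ ι k = x ^ n) → ∃ z, isZ z = true ∧ ι z = x ^ n := by
    rintro n ⟨k, hk, he⟩
    have hcomm : ∀ y : W, y.swap = false → k * y = y * k := fun y hy => hι (by
      rw [map_mul, map_mul, he, hKfix n y hy])
    exact ⟨k, center_K k hk (hcomm _ rfl) (hcomm _ rfl) (hcomm _ rfl) (hcomm _ rfl), he⟩
  obtain ⟨m, hm⟩ := h2 x
  have : ∀ j, (∃ z, isZ z = true ∧ ι z = x ^ 2 ^ j) → ∃ z, isZ z = true ∧ ι z = x := by
    intro j
    induction j with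
    | zero => intro h; rwa [pow_zero, pow_one] at h
    | succ j ih =>
      intro h
      by_cases hk : ∃ k : W, k.swap = false ∧ ι k = x ^ 2 ^ j
      · exact ih (hin _ hk)
      · exfalso
        obtain ⟨z, hz, he⟩ := h
        refine no_trivial ι hι hr (x ^ 2 ^ j) (fun k hk' h' => hk ⟨k, hk', h'⟩) (fun k hk' => ⟨1, by decide, ?_⟩)
          (fun z hz => hKfix _ z (swap_mul z (Or.inl ((isZ_iff z).1 hz).1))) ⟨z, hz, by rw [he, pow_succ, pow_mul, pow_two]⟩
        rw [mul_one, hKfix _ k hk', mul_inv_cancel_right]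
  exact this m ⟨1, by decide, by rw [hm, map_one]⟩

end

/-- Let S be a finite 2-group of sectional 2-rank at most 4 and P a proper subgroup isomorphic to the wreath product of the dihedral group of order 8 by a group of order 2 (equivalently, to a Sylow 2-subgroup of the symmetric group of degree 8; order 128). Then Z(S) = Z(P) has order 2, P has index 2 in its normalizer N_S(P), N_S(P)/Z(S) is again isomorphic to that wreath product, and every elementary abelian subgroup V of order 16 that is normal in P satisfies N_S(V) = P. -/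
theorem result {S : Type*} [Group S] [Finite S] (h2 : IsPGroup 2 S) (hr : Cfsg.SectionalPRankLE 2 4 S)
    (P : Subgroup S) (hPlt : P ≠ ⊤) (hP : ∃ T : Sylow 2 (Equiv.Perm (Fin 8)), Nonempty (↥P ≃* ↥(T : Subgroup (Equiv.Perm (Fin 8))))) :
    Subgroup.center S = (Subgroup.center ↥P).map P.subtype ∧ Nat.card ↥(Subgroup.center S) = 2 ∧
    P.relIndex (Subgroup.normalizer (P : Set S)) = 2 ∧
    (∃ (_ : ((Subgroup.center S).subgroupOf (Subgroup.normalizer (P : Set S))).Normal) (T : Sylow 2 (Equiv.Perm (Fin 8))),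
      Nonempty (↥(Subgroup.normalizer (P : Set S)) ⧸ (Subgroup.center S).subgroupOf (Subgroup.normalizer (P : Set S)) ≃*
        ↥(T : Subgroup (Equiv.Perm (Fin 8))))) ∧
    ∀ V : Subgroup S, V ≤ P → (∀ g ∈ P, ∀ v ∈ V, g * v * g⁻¹ ∈ V) → Cfsg.IsElementaryAbelian 2 V → Nat.card ↥V = 16 →
      Subgroup.normalizer (V : Set S) = P := by
  classical
  haveI := Fact.mk Nat.prime_two
  obtain ⟨T0, ⟨e0⟩⟩ := hP
  obtain ⟨e1⟩ := sylow_equiv T0
  obtain ⟨ι, hι, hPr⟩ : ∃ ι : W →* S, Function.Injective ι ∧ ι.range = P := by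
    refine ⟨P.subtype.comp (e1.trans e0.symm).toMonoidHom, P.subtype_injective.comp (e1.trans e0.symm).injective, ?_⟩
    rw [MonoidHom.range_comp, MonoidHom.range_eq_top.2 (e1.trans e0.symm).surjective, ← MonoidHom.range_eq_map, range_subtype]
  have hcent : ∀ x : S, (∀ m, x * ι m = ι m * x) → x = 1 ∨ x = ι zz := by
    intro x hx
    obtain ⟨z, hz, rfl⟩ := centralizer_base ι hι h2 hr x fun k _ => hx k
    have hc : ∀ y, z * y = y * z := fun y => hι (by rw [map_mul, map_mul, hx y])
    rcases center_W z (hc _) (hc _) (hc _) with h | h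
    · exact Or.inl (by rw [h, map_one])
    · exact Or.inr (by rw [h])
  have hzz1 : ι zz ≠ 1 := fun h => absurd (hι (h.trans (map_one ι).symm)) (by decide)
  haveI hnil : Group.IsNilpotent S := h2.isNilpotent
  haveI : Nontrivial S := ⟨⟨ι zz, 1, hzz1⟩⟩
  have hcS : Subgroup.center S = Subgroup.zpowers (ι zz) ∧ Nat.card (Subgroup.center S) = 2 := by
    have hle : ∀ x ∈ Subgroup.center S, x = 1 ∨ x = ι zz := fun x hx =>
      hcent x fun m => (Subgroup.mem_center_iff.1 hx (ι m)).symm
    haveI := h2.center_nontrivial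
    obtain ⟨⟨x, hx⟩, hx1⟩ := exists_ne (1 : Subgroup.center S)
    have hmem : ι zz ∈ Subgroup.center S := by
      rcases hle x hx with h | h
      · exact absurd (Subtype.ext h) hx1
      · exact h ▸ hx
    refine ⟨le_antisymm (fun x hx => ?_) (Subgroup.zpowers_le.2 hmem), ?_⟩
    · rcases hle x hx with rfl | rfl
      · exact one_mem _
      · exact Subgroup.mem_zpowers _
    · rw [Nat.card_eq_two_iff' (1 : Subgroup.center S)]
      refine ⟨⟨ι zz, hmem⟩, fun h => hzz1 (congrArg Subtype.val h), fun y hy => ?_⟩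
      rcases hle y y.2 with h | h
      · exact absurd (Subtype.ext h) hy
      · exact Subtype.ext h
  have hzZ : ∀ x : W, (∀ y, y * x = x * y) → x = 1 ∨ x = zz := fun x hx =>
    center_W x (hx _).symm (hx _).symm (hx _).symm
  have hmemP : ∀ m, ι m ∈ P := fun m => hPr ▸ ⟨m, rfl⟩
  obtain ⟨N, hN⟩ : ∃ N, N = Subgroup.normalizer (P : Set S) := ⟨_, rfl⟩
  have hα : ∀ g ∈ N, ∃ α : MulAut W, ∀ m, ι (α m) = g * ι m * g⁻¹ := by
    intro g hg
    rw [hN] at hg
    have hex : ∀ m, ∃ m', ι m' = g * ι m * g⁻¹ := fun m => by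
      have : g * ι m * g⁻¹ ∈ ι.range := hPr ▸ (Subgroup.mem_normalizer_iff.1 hg (ι m)).1 (hmemP m)
      exact this
    choose F hF using hex
    let F' : W →* W :=
      { toFun := F
        map_one' := hι (by rw [hF, map_one]; group)
        map_mul' := fun a b => hι (by rw [map_mul, hF, hF, hF, map_mul]; group) }
    exact ⟨MulEquiv.ofBijective F' (Finite.injective_iff_bijective.1 fun a b (h : F a = F b) => hι (by
      have h' := congrArg ι h
      rw [hF, hF] at h'
      exact mul_left_cancel (mul_right_cancel h'))), hF⟩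
  choose α hα using hα
  have hfixV : ∀ g (hg : g ∈ N), V1.map (α g hg).toMonoidHom = V1 → g ∈ P := by
    intro g hg h
    by_contra hgP
    obtain ⟨m, hmZ, hmK⟩ := normalise (α g hg) h
    have hout : ∀ k : W, k.swap = false → ι k ≠ g * ι m := fun k _ he => by
      apply hgP
      rw [show g = ι k * (ι m)⁻¹ by rw [he, mul_inv_cancel_right]]
      exact P.mul_mem (hmemP k) (P.inv_mem (hmemP m))
    have hconj : ∀ y : W, (g * ι m) * ι y * (g * ι m)⁻¹ = ι (α g hg (m * y * m⁻¹)) := fun y => by
      rw [hα, map_mul, map_mul, map_inv]; group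
    have hact : ∀ k : W, k.swap = false → ∃ z, isZ z = true ∧ (g * ι m) * ι k * (g * ι m)⁻¹ = ι (k * z) :=
      fun k hk => ⟨_, hmK k hk, by rw [hconj, mul_inv_cancel_left]⟩
    have hfix : ∀ z : W, isZ z = true → (g * ι m) * ι z = ι z * (g * ι m) := fun z hz => by
      rw [← mul_inv_eq_iff_eq_mul, hconj, hmZ z hz]
    refine no_trivial ι hι hr (g * ι m) hout hact hfix ?_
    obtain ⟨z, hz, he⟩ := centralizer_base ι hι h2 hr ((g * ι m) * (g * ι m)) fun k hk => by
      obtain ⟨z, hz, h1⟩ := hact k hk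
      have h1' : (g * ι m) * ι k = ι (k * z) * (g * ι m) := mul_inv_eq_iff_eq_mul.1 h1
      have h3 : ι (k * z) * ι z = ι k := by rw [← map_mul, mul_assoc, z_sq z hz, mul_one]
      calc (g * ι m) * (g * ι m) * ι k = (g * ι m) * ((g * ι m) * ι k) := mul_assoc _ _ _
        _ = (g * ι m) * ι k * ι z * (g * ι m) := by
          conv_lhs => rw [h1', map_mul]
          simp only [mul_assoc]
        _ = ι (k * z) * ((g * ι m) * ι z) * (g * ι m) := by rw [h1']; simp only [mul_assoc]
        _ = ι (k * z) * ι z * ((g * ι m) * (g * ι m)) := by rw [hfix z hz]; simp only [mul_assoc]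
        _ = ι k * ((g * ι m) * (g * ι m)) := by rw [h3]
    exact ⟨z, hz, he.symm⟩
  have hPN : P ≤ N := hN ▸ Subgroup.le_normalizer
  have hlt : P < N := hN ▸ Group.normalizerCondition_of_isNilpotent P (lt_top_iff_ne_top.2 hPlt)
  have hV2 : ∀ g (hg : g ∈ N), g ∉ P → V1.map (α g hg).toMonoidHom = V2 := fun g hg hgP =>
    (map_V (α g hg) V1 (Or.inl rfl)).resolve_left fun h => hgP (hfixV g hg h)
  have hidx : P.relIndex N = 2 := by
    obtain ⟨g, hg, hgP⟩ := SetLike.exists_of_lt hlt
    rw [Subgroup.relIndex, Subgroup.index_eq_two_iff]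
    refine ⟨⟨g, hg⟩, fun b => ?_⟩
    simp only [Subgroup.mem_subgroupOf, Subgroup.coe_mul]
    by_cases hb : (b : S) ∈ P
    · exact Or.inr ⟨hb, fun h => hgP ((Subgroup.mul_mem_cancel_left _ hb).1 h)⟩
    · refine Or.inl ⟨?_, hb⟩
      apply hfixV _ (N.mul_mem b.2 hg)
      have h1 := hV2 g hg hgP
      have h2' := hV2 b b.2 hb
      have h3 : V2.map (α b b.2).toMonoidHom = V1 :=
        (map_V _ V2 (Or.inr rfl)).resolve_right fun h => V_ne (Subgroup.map_injective (α b b.2).injective (h2'.trans h.symm))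
      conv_rhs => rw [← h3, ← h1, Subgroup.map_map]
      congr 1
      ext x
      apply hι
      show ι (α _ _ x) = ι (α b b.2 (α g hg x))
      rw [hα, hα, hα]
      group
  refine ⟨?_, hcS.2, hN ▸ hidx, ?_, ?_⟩
  · rw [hcS.1]
    apply le_antisymm
    · rw [Subgroup.zpowers_le]
      refine ⟨⟨ι zz, hmemP zz⟩, Subgroup.mem_center_iff.2 fun y => Subtype.ext ?_, rfl⟩
      obtain ⟨m, hm⟩ : (y : S) ∈ ι.range := hPr ▸ y.2
      show (y : S) * ι zz = ι zz * y
      rw [← hm, ← map_mul, ← map_mul, zz_central]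
    · rintro _ ⟨y, hy, rfl⟩
      obtain ⟨m, hm⟩ : (y : S) ∈ ι.range := hPr ▸ y.2
      show (y : S) ∈ _
      rw [← hm]
      rcases hzZ m (fun w => hι (by
        rw [map_mul, map_mul, hm]
        exact congrArg Subtype.val (Subgroup.mem_center_iff.1 hy ⟨ι w, hmemP w⟩))) with rfl | rfl
      · rw [map_one]; exact one_mem _
      · exact Subgroup.mem_zpowers _
  · rw [← hN]
    haveI hnorm : ((Subgroup.center S).subgroupOf N).Normal := inferInstance
    letI : MulAction N {x : W // isCl x = true} :=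
      { smul := fun g x => ⟨α g g.2 x.1, isCl_map _ x.2⟩
        one_smul := fun x => Subtype.ext (hι (by
          show ι (α _ _ x.1) = _
          rw [hα]; simp))
        mul_smul := fun g h x => Subtype.ext (hι (by
          show ι (α _ _ x.1) = ι (α g g.2 (α h h.2 x.1))
          rw [hα, hα, hα]
          simp only [Subgroup.coe_mul]
          group)) }
    let e : {x : W // isCl x = true} ≃ Fin 8 := Fintype.equivFinOfCardEq card_Cl
    let Φ : N →* Equiv.Perm (Fin 8) := e.permCongrHom.toMonoidHom.comp (MulAction.toPermHom N _)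
    have hker : Φ.ker = (Subgroup.center S).subgroupOf N := by
      ext g
      rw [Subgroup.mem_subgroupOf, MonoidHom.mem_ker]
      constructor
      · intro hg
        have h0 : MulAction.toPermHom N {x : W // isCl x = true} g = 1 :=
          e.permCongrHom.injective (hg.trans (map_one _).symm)
        have hfix : ∀ x, isCl x = true → α g g.2 x = x := fun x hx =>
          congrArg Subtype.val (Equiv.congr_fun h0 ⟨x, hx⟩)
        obtain ⟨m, hm⟩ : (g : S) ∈ ι.range := hPr ▸ hfixV g g.2 (fix_class _ hfix)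
        have hc : ∀ x, isCl x = true → m * x = x * m := fun x hx => hι (by
          have := hα g g.2 x
          rw [hfix x hx] at this
          rw [map_mul, map_mul, hm, eq_comm, ← eq_mul_inv_iff_mul_eq]
          exact this)
        rw [hcS.1, ← hm]
        rcases cl_centralizer m (hc _ cl_mem.1) (hc _ cl_mem.2.1) (hc _ cl_mem.2.2.1) (hc _ cl_mem.2.2.2) with rfl | rfl
        · rw [map_one]; exact one_mem _
        · exact Subgroup.mem_zpowers _
      · intro hg
        show e.permCongrHom (MulAction.toPermHom N {x : W // isCl x = true} g) = 1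
        rw [show MulAction.toPermHom N {x : W // isCl x = true} g = 1 from Equiv.ext fun x => Subtype.ext (hι (by
          show ι (α g g.2 x.1) = ι x.1
          rw [hα, ← Subgroup.mem_center_iff.1 hg (ι x.1), mul_inv_cancel_right])), map_one]
    have hNcard : Nat.card N = 256 := by
      have := (P.subgroupOf N).index_mul_card
      rw [show (P.subgroupOf N).index = 2 from hidx, Nat.card_congr (Subgroup.subgroupOfEquivOfLe hPN).toEquiv] at this
      have hPc : Nat.card P = 128 := by
        rw [← card_W, Nat.card_congr (MonoidHom.ofInjective hι).toEquiv, hPr]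
      omega
    have hkc : Nat.card Φ.ker = 2 := by
      rw [hker, Nat.card_congr (Subgroup.subgroupOfEquivOfLe ?_).toEquiv, hcS.2]
      exact hN ▸ Subgroup.center_le_normalizer _
    have hrange : Nat.card Φ.range = 2 ^ 7 := by
      have h := Φ.ker.card_eq_card_quotient_mul_card_subgroup
      rw [Nat.card_congr (QuotientGroup.quotientKerEquivRange Φ).toEquiv, hkc, hNcard] at h
      omega
    obtain ⟨T, hT⟩ := (IsPGroup.of_card (p := 2) hrange).exists_le_sylow
    have hTeq : Φ.range = (T : Subgroup (Equiv.Perm (Fin 8))) :=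
      Subgroup.eq_of_le_of_card_ge hT (by rw [hrange, card_sylow T])
    exact ⟨hnorm, T, ⟨((QuotientGroup.quotientMulEquivOfEq hker.symm).trans
      (QuotientGroup.quotientKerEquivRange Φ)).trans (MulEquiv.subgroupCongr hTeq)⟩⟩
  · intro V hVP hVn hV hV16
    let U : Subgroup W := V.comap ι
    have hUV : U.map ι = V := by
      rw [Subgroup.map_comap_eq, hPr, inf_eq_right]; exact hVP
    have hU : U = V1 ∨ U = V2 := by
      refine normal_sixteen U ?_ ?_ ?_ ?_
      · intro g v hv
        show ι _ ∈ V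
        rw [map_mul, map_mul, map_inv]
        exact hVn _ (hmemP g) _ hv
      · intro v hv w hw
        apply hι
        rw [map_mul, map_mul]
        exact congrArg Subtype.val (hV.1.is_comm.comm ⟨ι v, hv⟩ ⟨ι w, hw⟩)
      · intro v hv
        exact hι (by rw [map_pow, map_one]; exact hV.2 _ hv)
      · rw [← Subgroup.card_map_of_injective (f := ι) hι, hUV, hV16]
    have hPle : P ≤ Subgroup.normalizer (V : Set S) := fun g hg => by
      rw [Subgroup.mem_normalizer_iff]
      refine fun v => ⟨hVn g hg v, fun hv => ?_⟩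
      have := hVn g⁻¹ (P.inv_mem hg) _ hv
      rwa [show g⁻¹ * (g * v * g⁻¹) * g⁻¹⁻¹ = v by group] at this
    refine le_antisymm ?_ hPle
    by_contra hnle
    have hlt' : P.subgroupOf (Subgroup.normalizer (V : Set S)) < ⊤ :=
      lt_top_iff_ne_top.2 fun h => hnle (Subgroup.subgroupOf_eq_top.1 h)
    haveI : Group.IsNilpotent (Subgroup.normalizer (V : Set S)) := (h2.to_subgroup _).isNilpotent
    obtain ⟨g, hg, hgP⟩ := SetLike.exists_of_lt (Group.normalizerCondition_of_isNilpotent _ hlt')
    rw [Subgroup.mem_subgroupOf] at hgP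
    have hgN : (g : S) ∈ N := by
      rw [hN, Subgroup.mem_normalizer_iff]
      intro x
      rw [Subgroup.mem_normalizer_iff] at hg
      constructor
      · intro hx
        have := (hg ⟨x, hPle hx⟩).1 (Subgroup.mem_subgroupOf.2 hx)
        exact Subgroup.mem_subgroupOf.1 this
      · intro hx
        have hxn : x ∈ Subgroup.normalizer (V : Set S) := by
          have := mul_mem (mul_mem (inv_mem g.2) (hPle hx)) g.2
          rwa [show (g : S)⁻¹ * ((g : S) * x * (g : S)⁻¹) * g = x by group] at this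
        exact Subgroup.mem_subgroupOf.1 ((hg ⟨x, hxn⟩).2 (Subgroup.mem_subgroupOf.2 hx))
    have hmapU : U.map (α g hgN).toMonoidHom = U := by
      refine Subgroup.eq_of_le_of_card_ge ?_ (le_of_eq (Subgroup.card_map_of_injective (α g hgN).injective).symm)
      rintro _ ⟨v, hv, rfl⟩
      show ι (α g hgN v) ∈ V
      rw [hα]
      exact (Subgroup.mem_normalizer_iff.1 g.2 _).1 hv
    apply hgP
    rcases hU with hU | hU <;> rw [hU] at hmapU
    · exact hfixV g hgN hmapU
    · refine hfixV g hgN ((map_V _ V1 (Or.inl rfl)).resolve_right fun h => ?_)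
      exact V_ne (Subgroup.map_injective (α g hgN).injective (h.trans hmapU.symm))

end Cfsg.Agent.S4402
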