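import Cfsg.Statements.S4403
import Cfsg.Agent.Lib.Basics.Cores
import Cfsg.Agent.Lib.Components.Layer
import Cfsg.Agent.Lib.Transfer.Abelian
import Cfsg.Agent.Lib.Basics.Tools
import Mathlib

set_option autoImplicit false
open Cfsg
open scoped Pointwise
set_option linter.all false

namespace Cfsg.Agent.S4403

open Cfsg.Agent Subgroup

variable {K : Type*} [Group K] [Finite K] {p : ℕ} [Fact p.Prime]

/-- An element normalising the cyclic Sylow subgroup whose power map is `1` mod `p` centralises it. -/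
theorem centralizes_of_modEq (P : Sylow p K) [IsCyclic (P : Subgroup K)] {y n : K}
    (hy : (P : Subgroup K) = zpowers y) (hn : n ∈ normalizer ((P : Subgroup K) : Set K)) {r : ℕ}
    (hr : y ^ r = n * y * n⁻¹) (hr1 : (p : ℤ) ∣ (r : ℤ) - 1) :
    n ∈ centralizer ((P : Subgroup K) : Set K) := by
  set N := normalizer ((P : Subgroup K) : Set K)
  set C := (centralizer ((P : Subgroup K) : Set K)).subgroupOf N with hC
  haveI : C.Normal := by
    show ((centralizer ((P : Subgroup K) : Set K)).subgroupOf (normalizer ((P : Subgroup K) : Set K))).Normal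
    rw [← Subgroup.normalizerMonoidHom_ker]; infer_instance
  set e := C.index with he
  have hyC : y ∈ centralizer ((P : Subgroup K) : Set K) := by
    refine mem_centralizer_iff.2 fun z hz => ?_
    rw [hy] at hz
    obtain ⟨k, rfl⟩ := hz
    exact (Commute.zpow_left (Commute.refl y) k).eq
  have hPC : (P : Subgroup K) ≤ centralizer ((P : Subgroup K) : Set K) := by
    intro z hz
    rw [hy] at hz
    obtain ⟨k, rfl⟩ := hz
    exact zpow_mem hyC k
  have hpe : ¬ p ∣ e := fun h => P.not_dvd_index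
    ((h.trans (index_dvd_of_le (show (P : Subgroup K).subgroupOf N ≤ C from fun z hz => hPC hz))).trans
      (relIndex_dvd_index_of_le le_normalizer))
  have hne := pow_index_mem C (⟨n, hn⟩ : N)
  rw [← he] at hne
  have hiter : ∀ j, n ^ j * y * (n ^ j)⁻¹ = y ^ r ^ j := by
    intro j
    induction j with
    | zero => simp
    | succ j ih =>
      rw [pow_succ' n, show n * n ^ j * y * (n * n ^ j)⁻¹ = n * (n ^ j * y * (n ^ j)⁻¹) * n⁻¹ by group,
        ih, ← conj_pow, ← hr, ← pow_mul, pow_succ']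
  obtain ⟨a, ha⟩ := IsPGroup.iff_card.1 P.2
  rw [hy, Nat.card_zpowers] at ha
  have h1 : (r : ZMod (p ^ a)) ^ e = 1 := by
    have h := hiter e
    have hc : y * n ^ e = n ^ e * y := mem_centralizer_iff.1 hne y (hy ▸ mem_zpowers y)
    rw [← hc, mul_inv_cancel_right] at h
    have h' : y ^ r ^ e = y ^ 1 := by rw [pow_one]; exact h.symm
    rw [pow_eq_pow_iff_modEq, ha, ← ZMod.natCast_eq_natCast_iff] at h'
    push_cast at h'
    exact h'
  have h2 : (r : ZMod (p ^ a)) ^ (p ^ a) = 1 := by
    have h := dvd_sub_pow_of_dvd_sub hr1 a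
    rw [one_pow] at h
    have h' : ((p ^ a : ℕ) : ℤ) ∣ (r : ℤ) ^ p ^ a - 1 := by
      rw [Nat.cast_pow]
      exact (pow_dvd_pow _ (Nat.le_succ a)).trans h
    have := (ZMod.intCast_zmod_eq_zero_iff_dvd _ _).2 h'
    push_cast at this
    exact sub_eq_zero.1 (by simpa using this)
  have h3 := pow_gcd_eq_one.2 ⟨h1, h2⟩
  rw [Nat.coprime_iff_gcd_eq_one.1 (((Fact.out : p.Prime).coprime_iff_not_dvd.2 hpe).symm.pow_right a),
    pow_one] at h3
  have h4 : n * y * n⁻¹ = y := by
    rw [← hr]
    conv_rhs => rw [← pow_one y]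
    rw [pow_eq_pow_iff_modEq, ha, ← ZMod.natCast_eq_natCast_iff, h3, Nat.cast_one]
  refine mem_centralizer_iff.2 fun z hz => ?_
  rw [hy] at hz
  obtain ⟨k, rfl⟩ := hz
  exact ((show Commute n y from mul_inv_eq_iff_eq_mul.1 h4).zpow_right k).eq.symm

theorem exists_gen (P : Sylow p K) [IsCyclic (P : Subgroup K)] : ∃ y : K, (P : Subgroup K) = zpowers y := by
  obtain ⟨g, hg⟩ := IsCyclic.exists_generator (α := (P : Subgroup K))
  refine ⟨g, le_antisymm (fun z hz => ?_) (zpowers_le.2 g.2)⟩
  obtain ⟨k, hk⟩ := hg ⟨z, hz⟩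
  exact ⟨k, congrArg Subtype.val hk⟩

omit [Fact p.Prime] in
theorem exists_pow_conj {P : Sylow p K} {y n : K} (hy : (P : Subgroup K) = zpowers y)
    (hn : n ∈ normalizer ((P : Subgroup K) : Set K)) : ∃ r : ℕ, y ^ r = n * y * n⁻¹ := by
  have h := (mem_normalizer_iff.1 hn y).1 (hy ▸ mem_zpowers y)
  rw [hy, ← mem_powers_iff_mem_zpowers] at h
  exact (Submonoid.mem_powers_iff _ _).1 h

/-- An element normalising the cyclic Sylow subgroup and fixing a nontrivial element of it centralises it. -/
theorem centralizes_of_fix (P : Sylow p K) [IsCyclic (P : Subgroup K)] {n x : K}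
    (hn : n ∈ normalizer ((P : Subgroup K) : Set K)) (hx : x ∈ (P : Subgroup K)) (hx1 : x ≠ 1)
    (hnx : n * x * n⁻¹ = x) : n ∈ centralizer ((P : Subgroup K) : Set K) := by
  obtain ⟨y, hy⟩ := exists_gen P
  obtain ⟨r, hr⟩ := exists_pow_conj hy hn
  refine centralizes_of_modEq P hy hn hr ?_
  rw [hy] at hx
  obtain ⟨k, rfl⟩ := mem_zpowers_iff.1 hx
  rw [← conj_zpow, ← hr, ← zpow_natCast, ← zpow_mul, zpow_eq_zpow_iff_modEq, Int.modEq_iff_dvd] at hnx
  have hk : ¬ ((orderOf y : ℤ) ∣ k) := fun h => hx1 (orderOf_dvd_iff_zpow_eq_one.1 h)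
  obtain ⟨a, ha⟩ := IsPGroup.iff_card.1 P.2
  rw [hy, Nat.card_zpowers] at ha
  rw [ha] at hk hnx
  push_cast at hk hnx
  by_contra hnd
  have hp : Prime (p : ℤ) := Nat.prime_iff_prime_int.1 Fact.out
  have h : (p : ℤ) ^ a ∣ k * (1 - (r : ℤ)) := by
    rw [show k * (1 - (r : ℤ)) = k - (r : ℤ) * k by ring]; exact hnx
  exact hk (((hp.coprime_iff_not_dvd.2 fun h' => hnd (by rw [← neg_sub]; exact dvd_neg.2 h')).pow_left).dvd_of_dvd_mul_right h)

omit [Fact p.Prime] in
theorem mem_zpowers_of_pow {P : Subgroup K} [IsCyclic P] {x z : K} (hx : x ∈ P) (hxo : orderOf x = p)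
    (hp : 0 < p) (hz : z ∈ P) (hzp : z ^ p = 1) : z ∈ zpowers x := by
  classical
  haveI := Fintype.ofFinite P
  have hle := IsCyclic.card_pow_eq_one_le (α := P) hp
  let f : zpowers x → {a : P // a ^ p = 1} := fun u =>
    ⟨⟨u.1, (zpowers_le.2 hx) u.2⟩, Subtype.ext (by
      have h := pow_card_eq_one' (x := u)
      rw [Nat.card_zpowers, hxo] at h
      show (u : K) ^ p = 1
      rw [← SubmonoidClass.coe_pow, h]
      rfl)⟩
  have hf : Function.Injective f := fun u v h => Subtype.ext (congrArg (fun w => ((w.1 : P) : K)) h :)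
  have hb : Function.Bijective f := hf.bijective_of_nat_card_le (by
    rw [Nat.card_zpowers, hxo, Nat.card_eq_fintype_card, Fintype.card_subtype]; exact hle)
  obtain ⟨u, hu⟩ := hb.2 ⟨⟨z, hz⟩, Subtype.ext (by simpa using hzp)⟩
  exact (congrArg (fun w => ((w.1 : P) : K)) hu : (u : K) = z) ▸ u.2

theorem pPrimeCore_normal_bot (hO : Cfsg.pPrimeCore p K = ⊥) {M : Subgroup K} [M.Normal]
    (N : Subgroup M) [N.Normal] (hN : (Nat.card N).Coprime p) : N = ⊥ := by
  have h1 : N ≤ Cfsg.pPrimeCore p M := Basics.le_pPrimeCore hN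
  haveI : (Cfsg.pPrimeCore p M).Characteristic := inferInstance
  have h2 : (Cfsg.pPrimeCore p M).map M.subtype ≤ Cfsg.pPrimeCore p K := by
    refine Basics.le_pPrimeCore ?_
    rw [← Nat.card_congr ((Cfsg.pPrimeCore p M).equivMapOfInjective _ M.subtype_injective).toEquiv]
    exact Basics.pPrimeCore_coprime p
  rw [hO] at h2
  refine eq_bot_iff.2 fun z hz => ?_
  have := h2 ⟨z, h1 hz, rfl⟩
  rw [mem_bot] at this ⊢
  exact Subtype.ext this

theorem case_core (hp : p ∣ Nat.card K) (hO : Cfsg.pPrimeCore p K = ⊥) (P : Sylow p K) [IsCyclic (P : Subgroup K)]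
    (hcore : Cfsg.pCore p K ≠ ⊥) :
    (P : Subgroup K).Normal ∧ centralizer ((P : Subgroup K) : Set K) = (P : Subgroup K) ∧
      (∀ (_ : (P : Subgroup K).Normal), IsCyclic (K ⧸ (P : Subgroup K))) ∧ (P : Subgroup K).index ∣ p - 1 := by
  have hp' : p.Prime := Fact.out
  haveI : Nontrivial (Cfsg.pCore p K) := (nontrivial_iff_ne_bot _).2 hcore
  obtain ⟨x₀, hx₀⟩ := exists_prime_orderOf_dvd_card' (G := Cfsg.pCore p K) p (by
    obtain ⟨n, hn0, hn⟩ := (Basics.pCore_isPGroup (G := K) p).nontrivial_iff_card.1 inferInstance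
    rw [hn]; exact dvd_pow_self p hn0.ne')
  set x : K := (x₀ : K) with hxdef
  have hxo : orderOf x = p := by rw [hxdef, Subgroup.orderOf_coe, hx₀]
  have hxP : x ∈ (P : Subgroup K) := Basics.pCore_le_sylow p P x₀.2
  have hx1 : x ≠ 1 := fun h => hp'.ne_one (by rw [← hxo, h, orderOf_one])
  haveI : (Cfsg.pCore p K).Normal := inferInstance
  have hXn : (zpowers x).Normal := ⟨fun z hz g => by
    obtain ⟨k, rfl⟩ := mem_zpowers_iff.1 hz
    rw [← conj_zpow]
    refine zpow_mem (mem_zpowers_of_pow hxP hxo hp'.pos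
      (Basics.pCore_le_sylow p P ((inferInstance : (Cfsg.pCore p K).Normal).conj_mem _ x₀.2 g)) ?_) k
    rw [conj_pow, show x ^ p = 1 from orderOf_dvd_iff_pow_eq_one.1 hxo.dvd, mul_one, mul_inv_cancel]⟩
  set C := centralizer ((zpowers x : Subgroup K) : Set K) with hC
  haveI : C.Normal := Subgroup.normal_centralizer
  have hPC : (P : Subgroup K) ≤ C := by
    obtain ⟨y, hy⟩ := exists_gen P
    rw [hy]
    refine zpowers_le.2 (mem_centralizer_iff.2 fun z hz => ?_)
    have hz' : z ∈ zpowers y := hy ▸ (zpowers_le.2 hxP) hz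
    obtain ⟨k, rfl⟩ := hz'
    exact ((Commute.refl y).zpow_left k).eq
  let PC : Sylow p C := P.subtype hPC
  have hnorm : normalizer ((PC : Subgroup C) : Set C) ≤ centralizer ((PC : Subgroup C) : Set C) := by
    intro n hn
    have hn' : (n : K) ∈ normalizer ((P : Subgroup K) : Set K) := by
      refine mem_normalizer_fintype fun z hz => ?_
      exact (mem_normalizer_iff.1 hn ⟨z, hPC hz⟩).1 hz
    have hfix : (n : K) * x * (n : K)⁻¹ = x := by
      rw [← mem_centralizer_iff.1 n.2 x (mem_zpowers x), mul_inv_cancel_right]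
    have h := centralizes_of_fix P hn' hxP hx1 hfix
    exact mem_centralizer_iff.2 fun z hz => Subtype.ext (mem_centralizer_iff.1 h (z : K) hz)
  obtain ⟨P0, Q, hQn, hQc⟩ := Transfer.hasNormalPComplement_of_normalizer_le PC hnorm
  haveI := hQn
  have hQb : Q = ⊥ := pPrimeCore_normal_bot hO Q (by
    refine Nat.Coprime.symm (hp'.coprime_iff_not_dvd.2 fun h => P0.not_dvd_index ?_)
    rw [hQc.index_eq_card]; exact h)
  rw [hQb, isComplement'_bot_left] at hQc
  have hCP : C = (P : Subgroup K) := by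
    refine (eq_of_le_of_card_ge hPC ?_).symm
    refine le_of_eq ?_
    calc Nat.card C = Nat.card (⊤ : Subgroup C) := card_top.symm
      _ = Nat.card (P0 : Subgroup C) := by rw [hQc]
      _ = Nat.card (PC : Subgroup C) := Nat.card_congr (P0.equiv PC).toEquiv
      _ = Nat.card (P : Subgroup K) := Nat.card_congr (subgroupOfEquivOfLe hPC).toEquiv
  have hPn : (P : Subgroup K).Normal := hCP ▸ (inferInstance : C.Normal)
  refine ⟨hPn, le_antisymm (fun z hz => ?_) ?_, ?_⟩
  · rw [← hCP]
    exact mem_centralizer_iff.2 fun w hw => mem_centralizer_iff.1 hz w ((zpowers_le.2 hxP) hw)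
  · intro z hz
    obtain ⟨y, hy⟩ := exists_gen P
    refine mem_centralizer_iff.2 fun w hw => ?_
    rw [hy] at hz
    obtain ⟨i, rfl⟩ := hz
    obtain ⟨j, rfl⟩ := (hy ▸ hw : w ∈ zpowers y)
    exact ((Commute.refl y).zpow_zpow j i).eq
  let X := zpowers x
  haveI := hXn
  let φ : K →* MulAut X := MulAut.conjNormal
  have hker : φ.ker = (P : Subgroup K) := by
    rw [← hCP]
    ext g
    rw [MonoidHom.mem_ker, hC, mem_centralizer_iff]
    constructor
    · intro h w hw
      have h1 := congrArg Subtype.val (DFunLike.congr_fun h (⟨w, hw⟩ : X))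
      rw [MulAut.conjNormal_apply, MulAut.one_apply] at h1
      exact (mul_inv_eq_iff_eq_mul.1 h1).symm
    · intro h
      refine MulEquiv.ext fun w => Subtype.ext ?_
      rw [MulAut.conjNormal_apply, MulAut.one_apply, ← h w w.2, mul_inv_cancel_right]
  have hcX : Nat.card X = p := by rw [Nat.card_zpowers, hxo]
  haveI : IsCyclic X := inferInstance
  let em : MulAut X ≃* (ZMod p)ˣ := (IsCyclic.mulAutMulEquiv X).trans (Units.mapEquiv (ZMod.ringEquivCongr hcX).toMulEquiv)
  have hcyc : IsCyclic (MulAut X) := isCyclic_of_surjective em.symm.toMonoidHom em.symm.surjective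
  refine ⟨fun _ => ?_, ?_⟩
  · haveI : IsCyclic φ.range := inferInstance
    exact isCyclic_of_surjective ((QuotientGroup.quotientKerEquivRange φ).symm.trans
      (QuotientGroup.quotientMulEquivOfEq hker)).toMonoidHom
      ((QuotientGroup.quotientKerEquivRange φ).symm.trans (QuotientGroup.quotientMulEquivOfEq hker)).surjective
  · rw [← hker, Subgroup.index_ker]
    refine (Subgroup.card_subgroup_dvd_card _).trans ?_
    rw [Nat.card_congr em.toEquiv, Nat.card_eq_fintype_card, ZMod.card_units]

theorem case_no_core (hp : p ∣ Nat.card K) (hO : Cfsg.pPrimeCore p K = ⊥) (P : Sylow p K) [IsCyclic (P : Subgroup K)]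
    (hcore : Cfsg.pCore p K = ⊥) :
    IsSimpleGroup ↥(Cfsg.generalizedFittingSubgroup K) ∧ ¬ IsMulCommutative ↥(Cfsg.generalizedFittingSubgroup K) ∧
      ¬ p ∣ (Cfsg.generalizedFittingSubgroup K).index := by
  have hp' : p.Prime := Fact.out
  have hFit : Cfsg.fittingSubgroup K = ⊥ := by rw [Basics.fittingSubgroup_eq_pCore hO, hcore]
  haveI : Nontrivial K := Finite.one_lt_card_iff_nontrivial.1
    (hp'.one_lt.trans_le (Nat.le_of_dvd Nat.card_pos hp))
  obtain ⟨M, hMn, -, hMne, hmin⟩ := Basics.exists_minimal_normal (N := (⊤ : Subgroup K)) top_ne_bot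
  haveI := hMn
  haveI : Nontrivial M := (nontrivial_iff_ne_bot _).2 hMne
  have hMna : ¬ IsMulCommutative M := fun hc => hMne (by
    rw [eq_bot_iff, ← hFit]
    refine Basics.le_fittingSubgroup ?_
    haveI := hc
    letI : CommGroup M := { (inferInstance : Group M) with mul_comm := hc.is_comm.comm }
    infer_instance)
  have hpM : p ∣ Nat.card M := by
    by_contra h
    exact hMne (eq_bot_iff.2 (hO ▸ Basics.le_pPrimeCore ((hp'.coprime_iff_not_dvd.2 h).symm)))
  -- every nontrivial normal subgroup of `M` is divisible by `p`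
  have hdiv : ∀ N : Subgroup M, N.Normal → N ≠ ⊥ → p ∣ Nat.card N := fun N hN hne => by
    by_contra h
    haveI := hN
    exact hne (pPrimeCore_normal_bot hO N (hp'.coprime_iff_not_dvd.2 h).symm)
  set N₀ : Subgroup M := sInf {N : Subgroup M | N.Normal ∧ N ≠ ⊥} with hN₀
  haveI hN₀n : N₀.Normal := ⟨fun z hz g => mem_sInf.2 fun N hN => hN.1.conj_mem _ (mem_sInf.1 hz N hN) g⟩
  have hN₀ne : N₀ ≠ ⊥ := by
    obtain ⟨z, hz⟩ := exists_prime_orderOf_dvd_card' p hpM
    obtain ⟨Q, hQ⟩ := (IsPGroup.of_card (n := 1) (by rw [Nat.card_zpowers, hz, pow_one]) : IsPGroup p (zpowers z)).exists_le_sylow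
    haveI : IsCyclic (Q : Subgroup M) := by
      obtain ⟨R, hR⟩ := (Q.2.map M.subtype).exists_le_sylow
      obtain ⟨g, hg⟩ := MulAction.exists_smul_eq K R P
      haveI : IsCyclic (R : Subgroup K) := isCyclic_of_surjective (R.equiv P).symm.toMonoidHom (R.equiv P).symm.surjective
      exact isCyclic_of_injective ((Subgroup.inclusion hR).comp
        ((Q : Subgroup M).equivMapOfInjective _ M.subtype_injective).toMonoidHom)
        ((Subgroup.inclusion_injective hR).comp (MulEquiv.injective _))
    intro hbot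
    have hz1 : z ∈ N₀ := by
      rw [hN₀, mem_sInf]
      rintro N ⟨hN, hne⟩
      obtain ⟨w, hw⟩ := exists_prime_orderOf_dvd_card' p (hdiv N hN hne)
      have hwo : orderOf (w : M) = p := by rw [Subgroup.orderOf_coe, hw]
      obtain ⟨R, hR⟩ := (IsPGroup.of_card (n := 1) (by rw [Nat.card_zpowers, hwo, pow_one]) : IsPGroup p (zpowers (w : M))).exists_le_sylow
      obtain ⟨g, hg⟩ := MulAction.exists_smul_eq M R Q
      have hwQ : g * (w : M) * g⁻¹ ∈ (Q : Subgroup M) := by
        rw [← hg, Sylow.coe_subgroup_smul]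
        exact ⟨w, hR (mem_zpowers _), rfl⟩
      have h1 : z ∈ zpowers (g * (w : M) * g⁻¹) :=
        mem_zpowers_of_pow hwQ ((MulEquiv.orderOf_eq (MulAut.conj g) _).trans hwo) hp'.pos (hQ (mem_zpowers z))
          (by rw [← hz, pow_orderOf_eq_one])
      exact (zpowers_le.2 (hN.conj_mem _ w.2 g)) h1
    rw [hbot, mem_bot] at hz1
    rw [hz1, orderOf_one] at hz
    exact hp'.ne_one hz.symm
  have hN₀top : N₀ = ⊤ := by
    have hnK : (N₀.map M.subtype).Normal := ⟨fun z hz g => by
      obtain ⟨z, hz, rfl⟩ := hz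
      refine ⟨MulAut.conjNormal g z, ?_, MulAut.conjNormal_apply g z⟩
      simp only [SetLike.mem_coe, hN₀, mem_sInf] at hz ⊢
      rintro N ⟨hN, hne⟩
      have h1 := hz (N.comap (MulAut.conjNormal g : MulAut M).toMonoidHom) ⟨hN.comap _, fun h => hne (by
        rw [← Subgroup.map_comap_eq_self_of_surjective (f := (MulAut.conjNormal g : MulAut M).toMonoidHom)
          (MulEquiv.surjective _) N, h, Subgroup.map_bot])⟩
      exact h1⟩
    rcases hmin _ hnK (map_subtype_le _) with h | h
    · exact absurd ((map_eq_bot_iff_of_injective _ M.subtype_injective).1 h) hN₀ne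
    · refine eq_top_iff.2 fun z _ => ?_
      obtain ⟨z', hz', he⟩ : (z : K) ∈ N₀.map M.subtype := by rw [h]; exact z.2
      rwa [← M.subtype_injective he]
  haveI hMs : IsSimpleGroup M := ⟨fun N hN => or_iff_not_imp_left.2 fun hne => by
    rw [eq_top_iff, ← hN₀top]; exact sInf_le ⟨hN, hne⟩⟩
  -- `P ≤ M`
  have hPM : (P : Subgroup K) ≤ M := by
    by_contra hnle
    set H := M ⊔ (P : Subgroup K) with hH
    let PH : Sylow p H := P.subtype le_sup_right
    have hnorm : normalizer ((PH : Subgroup H) : Set H) ≤ centralizer ((PH : Subgroup H) : Set H) := by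
      intro n hn
      obtain ⟨y, hy⟩ := exists_gen P
      have hn' : (n : K) ∈ normalizer ((P : Subgroup K) : Set K) := by
        refine mem_normalizer_fintype fun z hz => ?_
        exact (mem_normalizer_iff.1 hn ⟨z, mem_sup_right hz⟩).1 hz
      obtain ⟨r, hr⟩ := exists_pow_conj hy hn'
      have h := centralizes_of_modEq P hy hn' hr (by
        by_contra hnd
        apply hnle
        obtain ⟨m, hm, z, hz, hmz⟩ := mem_sup_of_normal_left.1 n.2
        have hzy : z * y * z⁻¹ = y := by
          rw [hy] at hz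
          obtain ⟨k, rfl⟩ := hz
          rw [((Commute.refl y).zpow_left k).eq, mul_inv_cancel_right]
        have h1 : y ^ ((r : ℤ) - 1) ∈ M := by
          rw [zpow_sub_one, zpow_natCast, hr, ← hmz,
            show m * z * y * (m * z)⁻¹ = m * (z * y * z⁻¹) * m⁻¹ by group, hzy,
            show m * y * m⁻¹ * y⁻¹ = m * (y * m⁻¹ * y⁻¹) by group]
          exact mul_mem hm (hMn.conj_mem _ (inv_mem hm) y)
        obtain ⟨a, ha⟩ := IsPGroup.iff_card.1 P.2
        rw [hy, Nat.card_zpowers] at ha
        have hcop : IsCoprime ((r : ℤ) - 1) ((p : ℤ) ^ a) :=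
          (((Nat.prime_iff_prime_int.1 hp').coprime_iff_not_dvd.2 hnd).symm).pow_right
        obtain ⟨u, v, huv⟩ := hcop
        rw [hy]
        refine zpowers_le.2 ?_
        have : y = (y ^ ((r : ℤ) - 1)) ^ u := by
          conv_lhs => rw [← zpow_one y, ← huv]
          rw [zpow_add, mul_comm u, zpow_mul, mul_comm v, zpow_mul y, show y ^ ((p : ℤ) ^ a) = 1 by
            rw [← Nat.cast_pow, zpow_natCast, ← ha, pow_orderOf_eq_one], one_zpow, mul_one]
        rw [this]
        exact zpow_mem h1 u)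
      exact mem_centralizer_iff.2 fun z hz => Subtype.ext (mem_centralizer_iff.1 h (z : K) hz)
    obtain ⟨P0, Q, hQn, hQc⟩ := Transfer.hasNormalPComplement_of_normalizer_le PH hnorm
    haveI := hQn
    have hMH : M ≤ H := le_sup_left
    have hQM : (Q.comap (Subgroup.inclusion hMH)).Normal := hQn.comap _
    have hQp : ¬ p ∣ Nat.card Q := fun h => P0.not_dvd_index (by rw [hQc.index_eq_card]; exact h)
    rcases IsSimpleGroup.eq_bot_or_eq_top_of_normal _ hQM with h | h
    · have h1 : Nat.card M ∣ Q.index := by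
        have h2 : (Q.comap (Subgroup.inclusion hMH)).index = Nat.card M := by rw [h, index_bot]
        rw [← h2, Subgroup.index_comap]
        exact relIndex_dvd_index_of_normal _ _
      rw [hQc.symm.index_eq_card] at h1
      obtain ⟨a, ha⟩ := IsPGroup.iff_card.1 P0.2
      rw [ha] at h1
      obtain ⟨i, -, hi⟩ := (Nat.dvd_prime_pow hp').1 h1
      have hMp : IsPGroup p M := IsPGroup.of_card hi
      haveI := hMp.center_nontrivial
      rcases IsSimpleGroup.eq_bot_or_eq_top_of_normal (center M) inferInstance with h3 | h3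
      · exact (nontrivial_iff_ne_bot _).1 inferInstance h3
      · exact hMna ⟨⟨fun a b => (mem_center_iff.1 (h3 ▸ mem_top a : a ∈ center M) b).symm⟩⟩
    · refine hQp (hpM.trans (card_dvd_of_injective (f := (Subgroup.inclusion hMH).codRestrict Q
        fun m => (h.ge (mem_top m) : _)) fun a b hab => Subgroup.inclusion_injective hMH (congrArg Subtype.val hab)))
  -- `F*(K) = M`
  have hMc : M ⊓ centralizer (M : Set K) = ⊥ := by
    rcases hmin (M ⊓ centralizer (M : Set K)) inferInstance inf_le_left with h | h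
    · exact h
    · exfalso
      exact hMna ⟨⟨fun a b => Subtype.ext (mem_centralizer_iff.1 (inf_eq_left.1 h b.2) a a.2)⟩⟩
  have hCb : centralizer (M : Set K) = ⊥ := by
    haveI : (centralizer (M : Set K)).Normal := Subgroup.normal_centralizer
    by_contra hne
    have hpC : p ∣ Nat.card (centralizer (M : Set K)) := by
      by_contra h
      exact hne (eq_bot_iff.2 (hO ▸ Basics.le_pPrimeCore ((hp'.coprime_iff_not_dvd.2 h).symm)))
    obtain ⟨w, hw⟩ := exists_prime_orderOf_dvd_card' p hpC
    have hwo : orderOf (w : K) = p := by rw [Subgroup.orderOf_coe, hw]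
    obtain ⟨R, hR⟩ := (IsPGroup.of_card (n := 1) (by rw [Nat.card_zpowers, hwo, pow_one]) : IsPGroup p (zpowers (w : K))).exists_le_sylow
    obtain ⟨g, hg⟩ := MulAction.exists_smul_eq K R P
    have hwP : g * (w : K) * g⁻¹ ∈ (P : Subgroup K) := by
      rw [← hg, Sylow.coe_subgroup_smul]
      exact ⟨w, hR (mem_zpowers _), rfl⟩
    have hb : g * (w : K) * g⁻¹ ∈ M ⊓ centralizer (M : Set K) :=
      mem_inf.2 ⟨hPM hwP, (inferInstance : (centralizer (M : Set K)).Normal).conj_mem _ w.2 g⟩
    rw [hMc, mem_bot, conj_eq_one_iff] at hb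
    rw [hb, orderOf_one] at hwo
    exact hp'.ne_one hwo.symm
  have hMcomp : Cfsg.IsComponent M := by
    refine ⟨Normal.isSubnormal hMn, ?_, ?_⟩
    · refine Group.isPerfect_def.2 ?_
      rcases IsSimpleGroup.eq_bot_or_eq_top_of_normal (commutator M) inferInstance with h | h
      · exact absurd ⟨⟨fun a b => commutatorElement_eq_one_iff_mul_comm.1 (mem_bot.1 (h ▸
          commutator_mem_commutator (mem_top a) (mem_top b)))⟩⟩ hMna
      · exact h
    · have hz : center M = ⊥ := (IsSimpleGroup.eq_bot_or_eq_top_of_normal (center M) inferInstance).resolve_right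
        fun h => hMna ⟨⟨fun a b => (mem_center_iff.1 (h ▸ mem_top a : a ∈ center M) b).symm⟩⟩
      let e := (QuotientGroup.quotientMulEquivOfEq hz).trans QuotientGroup.quotientBot
      haveI : Nontrivial (M ⧸ center M) := e.toEquiv.nontrivial
      exact IsSimpleGroup.isSimpleGroup_of_surjective e.symm.toMonoidHom e.symm.surjective
  have hlayer : Cfsg.layer K = M := by
    refine le_antisymm (Components.layer_le_iff.2 fun L hL => ?_) (Components.component_le_layer hMcomp)
    rcases Components.component_le_or_commute hL (Normal.isSubnormal hMn) with h | h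
    · exact h
    · exfalso
      rw [commutator_eq_bot_iff_le_centralizer, hCb, le_bot_iff] at h
      exact Components.isComponent_ne_bot hL h
  have hFs : Cfsg.generalizedFittingSubgroup K = M := by
    show Cfsg.layer K ⊔ Cfsg.fittingSubgroup K = M
    rw [hlayer, hFit, sup_bot_eq]
  rw [hFs]
  exact ⟨hMs, hMna, fun h => P.not_dvd_index (h.trans (index_dvd_of_le hPM))⟩


/-- Let K be a finite group, p a prime dividing its order with O_{p'}(K) = 1 (no nontrivial normal subgroup of order prime to p), and P a cyclic Sylow p-subgroup of K. Then either P is normal and self-centralizing in K with K/P cyclic of order dividing p − 1 (so K is the semidirect product of P by a group of automorphisms of P of order dividing p − 1), or the generalized Fitting subgroup F*(K) is a non-abelian simple group and p does not divide the index of F*(K) in K. -/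
theorem result {K : Type*} [Group K] [Finite K] (p : ℕ) [Fact p.Prime] (hp : p ∣ Nat.card K) (hO : Cfsg.pPrimeCore p K = ⊥)
    (P : Sylow p K) (hP : IsCyclic ↥(P : Subgroup K)) :
    ((P : Subgroup K).Normal ∧ Subgroup.centralizer ((P : Subgroup K) : Set K) = (P : Subgroup K) ∧
      (∀ (_ : (P : Subgroup K).Normal), IsCyclic (K ⧸ (P : Subgroup K))) ∧ (P : Subgroup K).index ∣ p - 1) ∨
    (IsSimpleGroup ↥(Cfsg.generalizedFittingSubgroup K) ∧ ¬ IsMulCommutative ↥(Cfsg.generalizedFittingSubgroup K) ∧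
      ¬ p ∣ (Cfsg.generalizedFittingSubgroup K).index) := by
  haveI := hP
  by_cases hcore : Cfsg.pCore p K = ⊥
  · exact Or.inr (case_no_core hp hO P hcore)
  · exact Or.inl (case_core hp hO P hcore)

end Cfsg.Agent.S4403
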