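import Cfsg.Statements.S4404
import Cfsg.Agent.Lib.FGS.TwoDimCommutator
import Cfsg.Agent.Lib.OddLocal.Rank
import Cfsg.Agent.Lib.Basics.Hall
import Cfsg.Agent.S1450


set_option autoImplicit false
open Cfsg
open scoped Pointwise
set_option linter.all false

namespace Cfsg.Agent.S4404

open scoped Pointwise
open scoped commutatorElement
set_option linter.all false

local notation "kk" => AlgebraicClosure (ZMod 2)

theorem ker_not_cyclic {S : Type*} [Group S] [Finite S] (D C F : Subgroup S) {r : ℕ} [Fact r.Prime]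
    (ψ : D →* kk) (hψ : ∀ d : D, ψ d = 1 → (d : S) ∈ C) (hFD : F ≤ D) (hF : Cfsg.IsElementaryAbelian r F)
    (hF3 : Nat.card F = r ^ 3) : ¬ IsCyclic ↥(F ⊓ C) := by
  classical
  intro hcyc
  have hr : r.Prime := Fact.out
  let φ : F →* kkˣ := (ψ.comp (Subgroup.inclusion hFD)).toHomUnits
  have hker : Nat.card φ.ker ≤ Nat.card ↥(F ⊓ C) := by
    refine Nat.card_le_card_of_injective (fun f => (⟨((f : F) : S), (f : F).2, hψ ⟨((f : F) : S), hFD (f : F).2⟩ (congrArg Units.val f.2)⟩ : ↥(F ⊓ C))) ?_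
    intro a b h
    exact Subtype.ext (Subtype.ext (congrArg Subtype.val h :))
  have hrange : Nat.card φ.range ≤ r := by
    have hle : φ.range ≤ rootsOfUnity r kk := by
      rintro _ ⟨f, rfl⟩
      rw [mem_rootsOfUnity, ← map_pow, show f ^ r = 1 from Subtype.ext (by simpa using hF.2 f f.2), map_one]
    have : NeZero r := ⟨hr.ne_zero⟩
    exact (Subgroup.card_le_of_le hle).trans (card_rootsOfUnity kk r)
  have hC : Nat.card ↥(F ⊓ C) ≤ r := by
    rw [← hcyc.exponent_eq_card]
    refine Nat.le_of_dvd hr.pos (Monoid.exponent_dvd_of_forall_pow_eq_one fun a => ?_)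
    exact Subtype.ext (by simpa using hF.2 (a : S) a.2.1)
  have h := φ.ker.card_mul_index
  rw [Subgroup.index_ker, hF3] at h
  have := Nat.mul_le_mul (hker.trans hC) hrange
  have : r * r < r ^ 3 := by
    rw [pow_succ, pow_two]
    exact lt_mul_of_one_lt_right (Nat.mul_pos hr.pos hr.pos) hr.one_lt
  omega

theorem finish {S : Type*} [Group S] [Finite S] (M : Subgroup S) [M.Normal] (hM : Cfsg.IsElementaryAbelian 2 M)
    (Q : Subgroup S) (x : S) (hx : Subgroup.zpowers x = Q) (hx3 : x ^ 3 ∈ Subgroup.centralizer (M : Set S))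
    (hQM : Nat.card ↥⁅Q, M⁆ = 4) (D F : Subgroup S) {r : ℕ} [Fact r.Prime] (hr2 : r ≠ 2) (hD : IsPGroup r D)
    (hab : r ≠ 3 ∨ ∀ a ∈ D, ∀ b ∈ D, a * b = b * a) (hxD : x ∈ Subgroup.normalizer (D : Set S))
    (hFD : F ≤ D) (hF : Cfsg.IsElementaryAbelian r F) (hF3 : Nat.card F = r ^ 3) :
    ¬ IsCyclic ↥(F ⊓ Subgroup.centralizer ((⁅Q, M⁆ : Subgroup S) : Set S)) := by
  classical
  letI : CommGroup M := { (inferInstance : Group M) with mul_comm := hM.1.is_comm.comm }
  letI : Module (ZMod 2) (Additive M) := AddCommGroup.zmodModule (fun v =>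
    congrArg Additive.ofMul (show v.toMul ^ 2 = 1 from Subtype.ext (hM.2 _ v.toMul.2)))
  let ρ : Representation (ZMod 2) S (Additive M) :=
    { toFun := fun s => (MulAut.conjNormal (H := M) s).toMonoidHom.toAdditive.toZModLinearMap 2
      map_one' := by
        refine LinearMap.ext fun v => ?_
        show Additive.ofMul (MulAut.conjNormal (H := M) 1 v.toMul) = v
        rw [map_one]; rfl
      map_mul' := fun a b => by
        refine LinearMap.ext fun v => ?_
        show Additive.ofMul (MulAut.conjNormal (H := M) (a * b) v.toMul) = _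
        rw [map_mul]; rfl }
  let c : M →* M := (MulAut.conjNormal (H := M) x).toMonoidHom / MonoidHom.id M
  have hc : ∀ m : M, ((c m : M) : S) = ⁅x, (m : S)⁆ := fun m => by
    show (((MulAut.conjNormal (H := M) x m) / m : M) : S) = _
    simp [commutatorElement_def, div_eq_mul_inv]
  have hW : ⁅Q, M⁆ = c.range.map M.subtype := by
    refine le_antisymm (Subgroup.commutator_le.2 fun q hq m hm => ?_) ?_
    · rw [← hx, mem_zpowers_iff_mem_range_orderOf] at hq
      obtain ⟨k, -, rfl⟩ := Finset.mem_image.1 hq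
      clear hq
      induction k with
      | zero => simp
      | succ k ih =>
        have hm' : x ^ k * m * (x ^ k)⁻¹ ∈ M := Subgroup.Normal.conj_mem inferInstance m hm _
        rw [show ⁅x ^ (k + 1), m⁆ = ⁅x, x ^ k * m * (x ^ k)⁻¹⁆ * ⁅x ^ k, m⁆ by
          simp only [commutatorElement_def, pow_succ']; group]
        exact mul_mem ⟨_, ⟨⟨_, hm'⟩, rfl⟩, hc ⟨_, hm'⟩⟩ ih
    · rintro _ ⟨_, ⟨m, rfl⟩, rfl⟩
      rw [Subgroup.coe_subtype, hc]
      exact Subgroup.commutator_mem_commutator (hx ▸ Subgroup.mem_zpowers x) m.2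
  have hρ : ∀ (s : S) (v : Additive M), ((ρ s v).toMul : S) = s * (v.toMul : S) * s⁻¹ := fun s v => rfl
  have hρ3 : ρ x ^ 3 = 1 := by
    rw [← map_pow]
    refine LinearMap.ext fun v => Additive.toMul.injective (Subtype.ext ?_)
    rw [hρ]
    show x ^ 3 * (v.toMul : S) * (x ^ 3)⁻¹ = (v.toMul : S)
    rw [← Subgroup.mem_centralizer_iff.1 hx3 _ v.toMul.2, mul_inv_cancel_right]
  have hsub : ∀ v : Additive M, ((ρ x - 1) v).toMul = c v.toMul := fun v => rfl
  have hdim : Module.finrank (ZMod 2) (LinearMap.range (ρ x - 1)) ≤ 2 := by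
    have e : Nat.card (LinearMap.range (ρ x - 1)) = Nat.card c.range :=
      Nat.card_congr (Additive.toMul.subtypeEquiv fun v =>
        ⟨fun ⟨w, hw⟩ => ⟨w.toMul, by rw [← hsub, hw]⟩,
          fun ⟨m, hm⟩ => ⟨Additive.ofMul m, Additive.toMul.injective (by rw [hsub]; exact hm)⟩⟩)
    rw [← Subgroup.card_map_of_injective (K := c.range) M.subtype_injective, ← hW, hQM,
      Module.natCard_eq_pow_finrank (K := ZMod 2), Nat.card_zmod] at e
    exact ((Nat.pow_right_injective le_rfl) (a₁ := _) (a₂ := 2) e).le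
  have : Finite (Additive M) := inferInstanceAs (Finite M)
  obtain ⟨ψ, hψ⟩ := TwoDimCommutator.two_dim ρ D hr2 hD hab x hxD hρ3 hdim
  refine ker_not_cyclic D _ F ψ (fun d hd => ?_) hFD hF hF3
  rw [Subgroup.mem_centralizer_iff]
  intro w hw
  rw [SetLike.mem_coe, hW] at hw
  obtain ⟨_, ⟨m, rfl⟩, rfl⟩ := hw
  have h := congrArg (fun v : Additive M => (v.toMul : S)) (hψ d hd (Additive.ofMul m))
  change ((ρ (d : S) ((ρ x - 1) (Additive.ofMul m))).toMul : S) = (((ρ x - 1) (Additive.ofMul m)).toMul : S) at h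
  rw [hρ, hsub] at h
  exact (mul_inv_eq_iff_eq_mul.1 h).symm

theorem ea_map {S T : Type*} [Group S] [Group T] (f : S →* T) {r : ℕ} {A : Subgroup S}
    (h : Cfsg.IsElementaryAbelian r A) : Cfsg.IsElementaryAbelian r (A.map f) := by
  refine ⟨⟨⟨?_⟩⟩, ?_⟩
  · rintro ⟨_, a, ha, rfl⟩ ⟨_, b, hb, rfl⟩
    refine Subtype.ext ?_
    show f a * f b = f b * f a
    rw [← map_mul, ← map_mul]
    exact congrArg f (congrArg Subtype.val (h.1.is_comm.comm ⟨a, ha⟩ ⟨b, hb⟩))
  · rintro _ ⟨a, ha, rfl⟩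
    rw [← map_pow, h.2 a ha, map_one]

theorem ea_le {S : Type*} [Group S] {r : ℕ} {A B : Subgroup S}
    (h : Cfsg.IsElementaryAbelian r A) (hBA : B ≤ A) : Cfsg.IsElementaryAbelian r B :=
  ⟨⟨⟨fun a b => Subtype.ext (congrArg Subtype.val (h.1.is_comm.comm ⟨a, hBA a.2⟩ ⟨b, hBA b.2⟩) :)⟩⟩,
    fun a ha => h.2 a (hBA ha)⟩

theorem ea_isPGroup {S : Type*} [Group S] {r : ℕ} {A : Subgroup S}
    (h : Cfsg.IsElementaryAbelian r A) : IsPGroup r A := fun a =>
  ⟨1, Subtype.ext (by simpa using h.2 a a.2)⟩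


/-- Let S be a finite solvable group and M a normal elementary abelian 2-subgroup of S. Suppose S contains an elementary abelian subgroup of order p³ for some odd prime p, and a cyclic 3-subgroup Q such that the cubes of the elements of Q centralize M and the commutator subgroup [Q, M] has order 4 (a four-group inside M). Then S contains an elementary abelian subgroup F of order r³, for some odd prime r, whose centralizer of [Q, M] in F — the subgroup C_F([Q, M]) — is not cyclic. -/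
theorem result {S : Type*} [Group S] [Finite S]
    [Group.IsSolvable S] (M : Subgroup S) [M.Normal] (hM : Cfsg.IsElementaryAbelian 2 M)
    (p : ℕ) (hp : p.Prime) (hp2 : p ≠ 2) (E : Subgroup S) (hE : Cfsg.IsElementaryAbelian p E) (hE3 : Nat.card ↥E = p ^ 3)
    (Q : Subgroup S) (hQc : IsCyclic ↥Q) (hQ3 : IsPGroup 3 ↥Q)
    (hQ1 : ∀ x ∈ Q, x ^ 3 ∈ Subgroup.centralizer (M : Set S)) (hQM : Nat.card ↥⁅Q, M⁆ = 4) :
    ∃ (r : ℕ) (F : Subgroup S), r.Prime ∧ r ≠ 2 ∧ Cfsg.IsElementaryAbelian r F ∧ Nat.card ↥F = r ^ 3 ∧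
      ¬ IsCyclic ↥(F ⊓ Subgroup.centralizer ((⁅Q, M⁆ : Subgroup S) : Set S)) := by
  classical
  obtain ⟨g0, hg0⟩ := hQc.exists_generator
  set x : S := (g0 : S) with hxdef
  have hx : Subgroup.zpowers x = Q := by
    refine le_antisymm (Subgroup.zpowers_le.2 g0.2) fun q hq => ?_
    obtain ⟨k, hk⟩ := Subgroup.mem_zpowers_iff.1 (hg0 ⟨q, hq⟩)
    exact ⟨k, by simpa using congrArg Subtype.val hk⟩
  have hxQ : x ∈ Q := g0.2
  have hfin := finish M hM Q x hx (hQ1 x hxQ) hQM
  have := Fact.mk hp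
  have := Fact.mk Nat.prime_three
  by_cases hA : ∃ X : Subgroup S, Cfsg.IsElementaryAbelian 3 X ∧ 3 ^ 2 < Nat.card X
  · obtain ⟨X, hX, hX9⟩ := hA
    obtain ⟨P, hQP⟩ := hQ3.exists_le_sylow
    obtain ⟨P', hXP'⟩ := (ea_isPGroup hX).exists_le_sylow
    let e : (P' : Subgroup S) ≃* (P : Subgroup S) := Sylow.equiv P' P
    have hX1 : Cfsg.IsElementaryAbelian 3 (X.subgroupOf (P' : Subgroup S)) := by
      refine ⟨⟨⟨fun a b => Subtype.ext (Subtype.ext ?_)⟩⟩, fun a ha => Subtype.ext (by simpa using hX.2 a ha)⟩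
      simpa using congrArg Subtype.val (hX.1.is_comm.comm (⟨((a : (P' : Subgroup S)) : S), a.2⟩ : X) ⟨((b : (P' : Subgroup S)) : S), b.2⟩)
    obtain ⟨E', hE'n, hE'ea, hE'c⟩ := OddLocal.exists_normal_ea_three (p := 3) (by decide) P.isPGroup'
      (ea_map e.toMonoidHom hX1) (by
        rw [Subgroup.card_map_of_injective e.injective,
          Nat.card_congr (Subgroup.subgroupOfEquivOfLe hXP').toEquiv]
        exact hX9)
    have hdvd : 3 ^ 3 ∣ Nat.card E' := by
      obtain ⟨n, hn⟩ := IsPGroup.iff_card.1 (ea_isPGroup hE'ea)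
      rw [hn] at hE'c ⊢
      exact pow_dvd_pow 3 ((Nat.pow_lt_pow_iff_right (by norm_num : 1 < 3)).1 hE'c)
    obtain ⟨F0, hF0⟩ := Sylow.exists_subgroup_card_pow_prime 3 hdvd
    set D : Subgroup S := E'.map (P : Subgroup S).subtype with hDdef
    set F : Subgroup S := (F0.map E'.subtype).map (P : Subgroup S).subtype with hFdef
    have hFD : F ≤ D := Subgroup.map_mono (Subgroup.map_subtype_le F0)
    have hDea : Cfsg.IsElementaryAbelian 3 D := ea_map _ hE'ea
    have hFc : Nat.card F = 3 ^ 3 := by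
      rw [hFdef, Subgroup.card_map_of_injective (P : Subgroup S).subtype_injective,
        Subgroup.card_map_of_injective E'.subtype_injective, hF0]
    refine ⟨3, F, Nat.prime_three, by decide, ea_le hDea hFD, hFc, ?_⟩
    refine hfin D F (by decide) (ea_isPGroup hDea) (Or.inr fun a ha b hb =>
      congrArg Subtype.val (hDea.1.is_comm.comm ⟨a, ha⟩ ⟨b, hb⟩)) ?_ hFD (ea_le hDea hFD) hFc
    have h := Subgroup.le_normalizer_map (H := E') (P : Subgroup S).subtype
    refine h ⟨⟨x, hQP hxQ⟩, ?_, rfl⟩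
    rw [Subgroup.normalizer_eq_top E']; trivial
  push Not at hA
  have hp3 : p ≠ 3 := by
    rintro rfl
    have := hA E hE
    rw [hE3] at this
    norm_num at this
  obtain ⟨H0, hH0, hH0p⟩ := Basics.exists_hall_pi (G := S) {3, p}
  have hQc0 : (Nat.card Q).Coprime H0.index := by
    obtain ⟨n, hn⟩ := IsPGroup.iff_card.1 hQ3
    rw [hn]
    refine Nat.Coprime.pow_left n (Nat.prime_three.coprime_iff_not_dvd.2 fun h => ?_)
    exact ((hH0p 3 Nat.prime_three (h.trans H0.index_dvd_card)).2.1 h) (by simp)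
  obtain ⟨g, hg⟩ := Basics.exists_le_conj_hall hH0 hQc0
  set H : Subgroup S := MulAut.conj g • H0 with hHdef
  have hHc : Nat.card H = Nat.card H0 := Basics.card_conj_smul g H0
  have hHi : H.index = H0.index := by
    have h1 := H.card_mul_index
    rw [← H0.card_mul_index, hHc] at h1
    exact Nat.eq_of_mul_eq_mul_left Nat.card_pos h1
  have hHcop : (Nat.card H).Coprime H.index := by rw [hHc, hHi]; exact hH0
  have hEc : (Nat.card E).Coprime H.index := by
    rw [hE3, hHi]
    refine Nat.Coprime.pow_left 3 (hp.coprime_iff_not_dvd.2 fun h => ?_)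
    exact ((hH0p p hp (h.trans H0.index_dvd_card)).2.1 h) (by simp)
  obtain ⟨g', hg'⟩ := Basics.exists_le_conj_hall hHcop hEc
  set E1 : Subgroup S := E.map (MulAut.conj g'⁻¹).toMonoidHom with hE1
  have hE1H : E1 ≤ H := by
    rintro _ ⟨a, ha, rfl⟩
    have := hg' ha
    rw [Subgroup.mem_pointwise_smul_iff_inv_smul_mem] at this
    simpa using this
  have hE1ea : Cfsg.IsElementaryAbelian p E1 := ea_map _ hE
  have hE1c : Nat.card E1 = p ^ 3 := by
    rw [hE1, Subgroup.card_map_of_injective (MulAut.conj g'⁻¹).injective, hE3]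
  have hprimes : ∀ q : ℕ, q.Prime → q ∣ Nat.card H → q = 3 ∨ q = p := by
    intro q hq hd
    rw [hHc] at hd
    simpa using (hH0p q hq (hd.trans H0.card_subgroup_dvd_card)).1.1 hd
  have hodd : Odd (Nat.card H) := by
    rw [← Nat.not_even_iff_odd, even_iff_two_dvd]
    intro h
    rcases hprimes 2 Nat.prime_two h with h | h
    · omega
    · exact hp2 h.symm
  have h3H : 3 ∣ Nat.card H := by
    obtain ⟨n, hn⟩ := IsPGroup.iff_card.1 hQ3
    rcases Nat.eq_zero_or_pos n with rfl | hn0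
    · exfalso
      rw [pow_zero] at hn
      rw [Subgroup.eq_bot_of_card_eq Q hn, Subgroup.commutator_bot_left, Subgroup.card_bot] at hQM
      omega
    · exact ((dvd_pow_self 3 hn0.ne').trans (dvd_of_eq hn.symm)).trans (Subgroup.card_dvd_of_le hg)
  have hrk : Cfsg.PRankLE 3 2 H := by
    intro A hAc hA3
    have := hA (A.map H.subtype) (ea_map _ ⟨hAc, hA3⟩)
    rwa [Subgroup.card_map_of_injective H.subtype_injective] at this
  have hs1450 := Cfsg.Agent.S1450.result (G := H) hodd 3 h3H hrk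
  obtain ⟨P, N, hNn, hNP⟩ := hs1450.2.1 (Or.inl rfl)
  have hNi : N.index = Nat.card P := hNP.symm.index_eq_card
  have hN3 : ¬ 3 ∣ Nat.card N := hNP.index_eq_card ▸ P.not_dvd_index
  have hNp : IsPGroup p N := by
    refine IsPGroup.of_card (Nat.eq_prime_pow_of_unique_prime_dvd Nat.card_pos.ne' fun {q} hq hd => ?_)
    exact (hprimes q hq (hd.trans N.card_subgroup_dvd_card)).resolve_left fun h => hN3 (h ▸ hd)
  have hEN : E1.subgroupOf H ≤ N := by
    intro a ha
    rw [← QuotientGroup.eq_one_iff]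
    have h1 : orderOf (QuotientGroup.mk a : H ⧸ N) ∣ p := orderOf_dvd_of_pow_eq_one (by
      rw [← QuotientGroup.mk_pow, show a ^ p = 1 from Subtype.ext (by simpa using hE1ea.2 a ha)]; rfl)
    have h2 : orderOf (QuotientGroup.mk a : H ⧸ N) ∣ Nat.card P := by
      rw [← hNi, Subgroup.index_eq_card]; exact orderOf_dvd_natCard _
    obtain ⟨n, hn⟩ := IsPGroup.iff_card.1 P.isPGroup'
    rw [hn] at h2
    exact orderOf_eq_one_iff.1 (Nat.eq_one_of_dvd_coprimes
      (((Nat.coprime_primes hp Nat.prime_three).2 hp3).pow_right n) h1 h2)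
  have hFD : E1 ≤ N.map H.subtype := fun a ha => ⟨⟨a, hE1H ha⟩, hEN ha, rfl⟩
  refine ⟨p, E1, hp, hp2, hE1ea, hE1c, hfin _ E1 hp2 (hNp.map _) (Or.inl hp3) ?_ hFD hE1ea hE1c⟩
  refine Subgroup.le_normalizer_map (H := N) H.subtype ⟨⟨x, hg hxQ⟩, ?_, rfl⟩
  rw [Subgroup.normalizer_eq_top N]; trivial

end Cfsg.Agent.S4404
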