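import Cfsg.Statements.S4405
import Cfsg.Statements.S4405
import Mathlib
import Cfsg.Agent.Lib.ClassK.Extraspecial
import Cfsg.Agent.Lib.CT.Integral
import Cfsg.Agent.Lib.Basics.Cores
import Cfsg.Agent.Lib.Basics.Frattini
import Cfsg.Agent.Lib.Basics.Tools

set_option autoImplicit false
open Cfsg
open scoped Pointwise
set_option linter.all false

namespace Cfsg.Agent.S4405

open Subgroup
open Cfsg.Agent


/-- Let G be a finite group of order 320 = 64·5 whose largest normal 2-subgroup H = O₂(G) equals the Fitting subgroup F(G) and is extraspecial of order 32 containing no elementary abelian subgroup of order 8 (so H is the central product of a quaternion group and a dihedral group of order 8). If T is an involution of G outside H whose centralizer in H contains an elementary abelian subgroup of order 4, then C_H(T) itself is elementary abelian of order 4. -/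
theorem result {G : Type*} [Group G] [Finite G]
    (hG : Nat.card G = 320) (hHF : Cfsg.pCore 2 G = Cfsg.fittingSubgroup G)
    (hex : Cfsg.IsExtraspecial 2 ↥(Cfsg.pCore 2 G)) (h32 : Nat.card ↥(Cfsg.pCore 2 G) = 32)
    (hminus : ∀ A : Subgroup G, A ≤ Cfsg.pCore 2 G → Cfsg.IsElementaryAbelian 2 A → Nat.card ↥A ≤ 4)
    (T : G) (hT : orderOf T = 2) (hTH : T ∉ Cfsg.pCore 2 G)
    (V : Subgroup G) (hV : V ≤ Cfsg.pCore 2 G ⊓ Subgroup.centralizer ({T} : Set G)) (hV4 : Nat.card ↥V = 4) (hVe : Cfsg.IsElementaryAbelian 2 V) :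
    Nat.card ↥(Cfsg.pCore 2 G ⊓ Subgroup.centralizer ({T} : Set G)) = 4 ∧
      Cfsg.IsElementaryAbelian 2 (Cfsg.pCore 2 G ⊓ Subgroup.centralizer ({T} : Set G)) := by
  classical
  haveI : Fact (Nat.Prime 2) := ⟨Nat.prime_two⟩
  haveI : Fact (Nat.Prime 5) := ⟨by norm_num⟩
  haveI hsolv : Group.IsSolvable G :=
    CT.isSolvable_of_card_two_primes Nat.prime_two (by norm_num : Nat.Prime 5) 320 G 6 1 hG (by rw [hG]; norm_num)
  set H := Cfsg.pCore 2 G with hH
  haveI hHn : H.Normal := by
    rw [hH]; unfold Cfsg.pCore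
    exact Subgroup.sSup_normal _ fun N hN => hN.1
  have hCH : centralizer (H : Set G) ≤ H := by
    rw [hHF]; exact Basics.centralizer_fittingSubgroup_le
  set Z : Subgroup G := (center H).map H.subtype with hZdef
  haveI hZn : Z.Normal := by
    rw [hZdef]
    exact ConjAct.normal_of_characteristic_of_normal
  have hZc : Nat.card Z = 2 := by
    rw [hZdef, card_map_of_injective H.subtype_injective, hex.2]
  have hZH : Z ≤ H := map_subtype_le _
  have hZ2 : ∀ a ∈ Z, a * a = 1 := fun a ha => by
    have := pow_card_eq_one' (x := (⟨a, ha⟩ : Z))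
    rw [hZc, pow_two] at this
    exact congrArg Subtype.val this
  have hZcen : ∀ a ∈ Z, ∀ g : G, g * a * g⁻¹ = a := by
    intro a ha g
    by_cases h1 : a = 1
    · rw [h1]; group
    have hmem := hZn.conj_mem a ha g
    obtain ⟨u, v, -, huv⟩ := Nat.card_eq_two_iff.1 hZc
    have h3 : ∀ t : Z, t = u ∨ t = v := fun t => by
      have := (huv.symm ▸ Set.mem_univ t : t ∈ ({u, v} : Set Z))
      simpa using this
    have h4 : g * a * g⁻¹ ≠ 1 := fun e => h1 (by
      calc a = g⁻¹ * (g * a * g⁻¹) * g := by group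
        _ = 1 := by rw [e]; group)
    rcases h3 ⟨a, ha⟩ with e1 | e1 <;> rcases h3 ⟨_, hmem⟩ with e2 | e2 <;>
      rcases h3 1 with e3 | e3 <;> subst e1 <;>
      first
        | exact congrArg Subtype.val e2
        | exact absurd (congrArg Subtype.val e3).symm h1
        | exact absurd (congrArg Subtype.val (e2.trans e3.symm)) h4
  set π := QuotientGroup.mk' Z with hπ
  have hπ1 : ∀ a : G, π a = 1 ↔ a ∈ Z := fun a => QuotientGroup.eq_one_iff a
  -- the quotient of H by Z is elementary abelian
  have hHab : ∀ a ∈ H, ∀ b ∈ H, π a * π b = π b * π a := by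
    intro a ha b hb
    have h1 := ClassK.commutator_mem_center_of_special hex.1 (⟨a, ha⟩ : H) ⟨b, hb⟩
    have h2 : π (a * b * a⁻¹ * b⁻¹) = 1 := (hπ1 _).2 ⟨_, h1, rfl⟩
    simp only [map_mul, map_inv] at h2
    calc π a * π b = (π a * π b * (π a)⁻¹ * (π b)⁻¹) * (π b * π a) := by group
      _ = π b * π a := by rw [h2, one_mul]
  have hHsq : ∀ a ∈ H, π a * π a = 1 := by
    intro a ha
    rw [← map_mul, hπ1]
    refine ⟨⟨a, ha⟩ * ⟨a, ha⟩, ?_, rfl⟩
    rw [SetLike.mem_coe, ← hex.1.2.1]
    haveI : Group.IsNilpotent H := hex.1.1.isNilpotent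
    have := Basics.pow_mem_frattini hex.1.1 (⟨a, ha⟩ : H)
    rwa [pow_two] at this
  let F : G → Subgroup G := fun g => H ⊓ (centralizer ({π g} : Set (G ⧸ Z))).comap π
  have hF : ∀ g h : G, h ∈ F g ↔ h ∈ H ∧ π h * π g = π g * π h := fun g h => by
    simp only [F, mem_inf, mem_comap, mem_centralizer_singleton_iff]
  have hZF : ∀ g, Z ≤ F g := fun g a ha => (hF g a).2 ⟨hZH ha, by rw [(hπ1 a).2 ha]; simp⟩
  have hT2 : T * T = 1 := by rw [← pow_two, ← hT]; exact pow_orderOf_eq_one T
  have hTinv : T⁻¹ = T := inv_eq_of_mul_eq_one_left hT2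
  have card_F : ∀ g : G, ∃ k, k ≤ 5 ∧ Nat.card (F g) = 2 ^ k := fun g => by
    have hd := card_dvd_of_le (inf_le_left : F g ≤ H)
    rw [h32, show 32 = 2 ^ 5 by norm_num] at hd
    exact (Nat.dvd_prime_pow Nat.prime_two).1 hd
  -- step 1 : no element outside H acts trivially on H/Z
  have hnotop : ∀ g : G, g ∉ H → (g * g = 1 ∨ orderOf g = 5) → F g ≠ H := by
    intro g hg hord htop
    have hδ : ∀ h ∈ H, g * h * g⁻¹ * h⁻¹ ∈ Z := fun h hh => by
      have := ((hF g h).1 (htop.symm ▸ hh)).2
      rw [← hπ1]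
      simp only [map_mul, map_inv, ← this]
      group
    rcases hord with hg2 | hg5
    · -- involution: inner
      let δ : H →* Z :=
        { toFun := fun h => ⟨g * h * g⁻¹ * (h : G)⁻¹, hδ h h.2⟩
          map_one' := by ext; simp
          map_mul' := fun a b => by
            ext
            have := hZcen _ (hδ b b.2) a
            calc g * ((a : G) * b) * g⁻¹ * ((a : G) * b)⁻¹
                = g * a * g⁻¹ * (a : G)⁻¹ * ((a : G) * (g * b * g⁻¹ * (b : G)⁻¹) * (a : G)⁻¹) := by group
              _ = _ := by rw [this]; rfl }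
      have hker : ∀ x : H, x ∈ δ.ker ↔ g * (x : G) * g⁻¹ = x := fun x => by
        rw [MonoidHom.mem_ker, Subtype.ext_iff]
        show g * (x : G) * g⁻¹ * (x : G)⁻¹ = 1 ↔ _
        rw [mul_inv_eq_one]
      have hle : δ.ker.index ≤ 2 := by
        rw [index_ker, ← hZc]
        exact Nat.le_of_dvd Nat.card_pos (card_subgroup_dvd_card δ.range)
      have h0 : δ.ker.index ≠ 0 := index_ne_zero_of_finite
      have key : ∃ c ∈ H, ∀ x ∈ H, g * x * g⁻¹ = c * x * c⁻¹ := by
        by_cases h1 : δ.ker.index = 1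
        · refine ⟨1, one_mem H, fun x hx => ?_⟩
          rw [(hker ⟨x, hx⟩).1 (index_eq_one.1 h1 ▸ mem_top _)]; group
        · let α : H ≃* H := MulAut.conjNormal g
          obtain ⟨c, hc⟩ := ClassK.exists_inner_of_index_two hex α (fun x => by
              apply Subtype.ext
              show g * (g * x * g⁻¹) * g⁻¹ = x
              rw [show g⁻¹ = g from inv_eq_of_mul_eq_one_left hg2]
              calc g * (g * (x : G) * g) * g = (g * g) * x * (g * g) := by group
                _ = x := by rw [hg2]; group)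
            (R := δ.ker) (by omega) (fun r hr => Subtype.ext ((hker r).1 hr))
            (fun q hq => (hker q).2 (congrArg Subtype.val hq))
          exact ⟨c, c.2, fun x hx => congrArg Subtype.val (hc ⟨x, hx⟩)⟩
      obtain ⟨c, hcH, hc⟩ := key
      have : c⁻¹ * g ∈ centralizer (H : Set G) := mem_centralizer_iff.2 fun x hx => by
        calc x * (c⁻¹ * g) = c⁻¹ * (c * x * c⁻¹) * g := by group
          _ = c⁻¹ * (g * x * g⁻¹) * g := by rw [hc x hx]
          _ = c⁻¹ * g * x := by group
      exact hg (by simpa using mul_mem hcH (hCH this))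
    · refine hg (hCH (mem_centralizer_iff.2 fun x hx => ?_))
      set z := g * x * g⁻¹ * x⁻¹ with hz
      have hzZ : z ∈ Z := hδ x hx
      have hgx : g * x * g⁻¹ = z * x := by rw [hz]; group
      have hiter : ∀ k : ℕ, g ^ k * x * (g ^ k)⁻¹ = z ^ k * x := by
        intro k
        induction k with
        | zero => simp
        | succ k ih =>
          calc g ^ (k + 1) * x * (g ^ (k + 1))⁻¹ = g * (g ^ k * x * (g ^ k)⁻¹) * g⁻¹ := by
                rw [pow_succ']; group
            _ = (g * z ^ k * g⁻¹) * (g * x * g⁻¹) := by rw [ih]; group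
            _ = z ^ (k + 1) * x := by rw [hZcen _ (pow_mem hzZ k) g, hgx, pow_succ]; group
      have h5 := hiter 5
      rw [← hg5, pow_orderOf_eq_one, hg5] at h5
      have : z ^ 5 = 1 := by simpa using h5.symm
      have hz1 : z = 1 := by
        rw [pow_succ, pow_succ, pow_succ, pow_succ, pow_one, hZ2 z hzZ, one_mul, hZ2 z hzZ, one_mul] at this
        exact this
      rw [hz1, one_mul] at hgx
      calc x * g = g * x * g⁻¹ * g := by rw [hgx]
        _ = g * x := by group
  -- step 2 : five elements fix only Z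
  have hcount : ∀ (w : G) (D : Subgroup G), orderOf w = 5 → Z ≤ D → D ≤ H →
      (∀ d ∈ D, w * d * w⁻¹ ∈ D) → ∃ j k : ℕ, 1 ≤ j ∧ j ≤ k ∧ k ≤ 5 ∧
        Nat.card ↥(F w ⊓ D) = 2 ^ j ∧ Nat.card D = 2 ^ k ∧ 2 ^ k / 2 % 5 = 2 ^ j / 2 % 5 := by
    intro w D hw hZD hDH hinv
    set Q := zpowers (π w) with hQ
    have hstab : ∀ q ∈ Q, ∀ d ∈ D.map π, q * d * q⁻¹ ∈ D.map π := by
      intro q hq d hd
      obtain ⟨n, rfl⟩ := mem_zpowers_iff.1 hq
      obtain ⟨d, hd, rfl⟩ := hd
      have h1 : D.map (MulAut.conj w).toMonoidHom = D :=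
        eq_of_le_of_card_ge (by rintro _ ⟨a, ha, rfl⟩; exact hinv a ha)
          (le_of_eq (card_map_of_injective (f := (MulAut.conj w).toMonoidHom) (MulAut.conj w).injective).symm)
      have : zpowers w ≤ normalizer (D : Set G) := zpowers_le.2 (mem_normalizer_iff.2 fun a =>
        ⟨hinv a, fun ha => by
          obtain ⟨b, hb, e⟩ := h1.symm ▸ ha
          have e' : w * b * w⁻¹ = w * a * w⁻¹ := e
          have : b = a := by simpa using e'
          exact this ▸ hb⟩)
      rw [← map_zpow, ← map_inv, ← map_mul, ← map_mul]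
      exact ⟨_, ((mem_normalizer_iff.1 (this (zpow_mem (mem_zpowers w) n))) d).1 hd, rfl⟩
    letI : MulAction Q (D.map π) :=
      { smul := fun q d => ⟨(q : G ⧸ Z) * d * (q : G ⧸ Z)⁻¹, hstab q q.2 d d.2⟩
        one_smul := fun d => Subtype.ext (by show (1 : G ⧸ Z) * _ * (1 : G ⧸ Z)⁻¹ = _; group)
        mul_smul := fun a b d => Subtype.ext (by
          show ((a : G ⧸ Z) * b) * _ * ((a : G ⧸ Z) * b)⁻¹ = _ * (_ * _ * _) * _; group) }
    have hQp : IsPGroup 5 Q := by
      obtain ⟨i, -, hi⟩ := (Nat.dvd_prime_pow (by norm_num : Nat.Prime 5)).1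
        (show Nat.card Q ∣ 5 ^ 1 by rw [hQ, Nat.card_zpowers, pow_one, ← hw]; exact orderOf_map_dvd π w)
      exact IsPGroup.of_card hi
    have hmod := hQp.card_modEq_card_fixedPoints (D.map π)
    obtain ⟨k, hk, hDc⟩ : ∃ k, k ≤ 5 ∧ Nat.card D = 2 ^ k := by
      have hd := card_dvd_of_le hDH
      rw [h32, show 32 = 2 ^ 5 by norm_num] at hd
      exact (Nat.dvd_prime_pow Nat.prime_two).1 hd
    have hmap : ∀ E : Subgroup G, Z ≤ E → Nat.card (E.map π) * 2 = Nat.card E := by
      intro E hE
      have h1 : Nat.card (E.map π) = Z.relIndex E := by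
        rw [← relIndex_bot_left, ← Subgroup.map_bot π]
        rw [relIndex_map_map, QuotientGroup.ker_mk', bot_sup_eq, sup_eq_left.2 hE]
      rw [h1, ← hZc, mul_comm, ← relIndex_bot_left Z, relIndex_mul_relIndex _ _ _ bot_le hE,
        relIndex_bot_left]
    have hE := hmap (F w ⊓ D) (le_inf (hZF w) hZD)
    have hfix : Nat.card (MulAction.fixedPoints Q (D.map π)) = Nat.card ((F w ⊓ D).map π) := by
      refine Nat.card_congr
        { toFun := fun d => ⟨(d : D.map π), by
            obtain ⟨⟨_, e, he, rfl⟩, hd⟩ := d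
            refine ⟨e, ⟨(hF w e).2 ⟨hDH he, ?_⟩, he⟩, rfl⟩
            have h := congrArg Subtype.val (hd ⟨π w, mem_zpowers _⟩)
            calc π e * π w = (π w * π e * (π w)⁻¹) * π w := by
                  rw [show π w * π e * (π w)⁻¹ = π e from h]
              _ = π w * π e := by group⟩
          invFun := fun d => ⟨⟨(d : G ⧸ Z), Subgroup.map_mono inf_le_right d.2⟩, fun q => by
            obtain ⟨_, e, he, rfl⟩ := d
            obtain ⟨q, hq⟩ := q
            obtain ⟨n, rfl⟩ := mem_zpowers_iff.1 hq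
            apply Subtype.ext
            show π w ^ n * π e * (π w ^ n)⁻¹ = π e
            have hc : Commute (π e) (π w) := ((hF w e).1 he.1).2
            rw [((hc.zpow_right n).symm).eq]; group⟩
          left_inv := fun d => rfl
          right_inv := fun d => rfl }
    rw [hfix] at hmod
    have hDm := hmap D hZD
    obtain ⟨j, hj, hFc⟩ : ∃ j, j ≤ k ∧ Nat.card ↥(F w ⊓ D) = 2 ^ j := by
      have hd := card_dvd_of_le (inf_le_right : F w ⊓ D ≤ D)
      rw [hDc] at hd
      exact (Nat.dvd_prime_pow Nat.prime_two).1 hd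
    rw [hFc] at hE
    rw [hDc] at hDm
    have hFle : j ≤ 5 := hj.trans hk
    have e1 : Nat.card ((F w ⊓ D).map π) = 2 ^ j / 2 := by omega
    have e2 : Nat.card (D.map π) = 2 ^ k / 2 := by omega
    rw [e1, e2] at hmod
    unfold Nat.ModEq at hmod
    have hj1 : 1 ≤ j := by
      rcases Nat.eq_zero_or_pos j with h | h
      · rw [h] at hE; omega
      · exact h
    exact ⟨j, k, hj1, hj, hk, hFc, hDc, hmod⟩
  have hfix5 : ∀ w : G, orderOf w = 5 → Nat.card (F w) = 2 := fun w hw => by
    have hwH : w ∉ H := fun hh => by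
      have := orderOf_dvd_natCard H hh
      rw [hw, h32] at this
      norm_num at this
    obtain ⟨j, k, hj1, hjk, hk, hjc, hkc, hm⟩ := hcount w H hw hZH le_rfl (fun d hd => hHn.conj_mem d hd w)
    rw [h32, show 32 = 2 ^ 5 by norm_num] at hkc
    have hk5 : k = 5 := (Nat.pow_right_injective (le_refl 2) hkc).symm
    subst hk5
    rw [inf_eq_left.2 (inf_le_left : F w ≤ H)] at hjc
    interval_cases j
    · rw [hjc]; norm_num
    all_goals norm_num at hm
    exact absurd (eq_of_le_of_card_ge inf_le_left (by rw [hjc, h32]; norm_num)) (hnotop w hwH (Or.inr hw))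
  have hfive : ∀ (w : G) (D : Subgroup G), orderOf w = 5 → Z ≤ D → D ≤ H →
      (∀ d ∈ D, w * d * w⁻¹ ∈ D) → 4 < Nat.card D → D = H := by
    intro w D hw hZD hDH hinv h4
    obtain ⟨j, k, hj1, hjk, hk, hjc, hkc, hm⟩ := hcount w D hw hZD hDH hinv
    have hj2 : j = 1 := by
      have h := Nat.le_of_dvd Nat.card_pos (card_dvd_of_le (inf_le_left : F w ⊓ D ≤ F w))
      rw [hjc, hfix5 w hw] at h
      by_contra hne
      have : 2 ^ 2 ≤ 2 ^ j := Nat.pow_le_pow_right (by norm_num) (by omega)
      omega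
    subst hj2
    rw [hkc] at h4
    interval_cases k <;> first | omega | exact eq_of_le_of_card_ge hDH (by rw [hkc, h32]; norm_num)
  -- F T has order 8
  set D := F T with hD
  let φ : H →* G ⧸ Z :=
    { toFun := fun h => (π h)⁻¹ * (π T * π h * (π T)⁻¹)
      map_one' := by simp
      map_mul' := fun a b => by
        simp only [Subgroup.coe_mul, map_mul, mul_inv_rev]
        have hc := hHab _ (inv_mem b.2) _ (mul_mem (inv_mem a.2) (hHn.conj_mem _ a.2 T))
        simp only [map_mul, map_inv] at hc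
        calc (π b)⁻¹ * (π a)⁻¹ * (π T * (π a * π b) * (π T)⁻¹)
            = ((π b)⁻¹ * ((π a)⁻¹ * (π T * π a * (π T)⁻¹))) * (π T * π b * (π T)⁻¹) := by group
          _ = _ := by rw [hc]; group }
  have hker : φ.ker.map H.subtype = D := by
    ext x
    constructor
    · rintro ⟨⟨x, hx⟩, hk, rfl⟩
      refine (hF T x).2 ⟨hx, ?_⟩
      have h : (π x)⁻¹ * (π T * π x * (π T)⁻¹) = 1 := hk
      calc π x * π T = π x * ((π x)⁻¹ * (π T * π x * (π T)⁻¹)) * π T := by rw [h]; group
        _ = π T * π x := by group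
    · intro hx
      obtain ⟨h1, h2⟩ := (hF T x).1 hx
      exact ⟨⟨x, h1⟩, show (π x)⁻¹ * (π T * π x * (π T)⁻¹) = 1 by rw [← h2]; group, rfl⟩
  have hrange : φ.range ≤ D.map π := by
    rintro _ ⟨⟨h, hh⟩, rfl⟩
    refine ⟨h⁻¹ * (T * h * T⁻¹), (hF T _).2 ⟨mul_mem (inv_mem hh) (hHn.conj_mem h hh T), ?_⟩, ?_⟩
    · have hs := hHsq (h⁻¹ * (T * h * T⁻¹)) (mul_mem (inv_mem hh) (hHn.conj_mem h hh T))
      simp only [map_mul, map_inv] at hs ⊢
      have hTT : π T * π T = 1 := by rw [← map_mul, hT2, map_one]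
      have hTi : (π T)⁻¹ = π T := inv_eq_of_mul_eq_one_left hTT
      rw [hTi] at hs ⊢
      set c := (π h)⁻¹ * (π T * π h * π T) with hc
      have h3 : π T * c * π T = c⁻¹ := by
        rw [hc]
        calc π T * ((π h)⁻¹ * (π T * π h * π T)) * π T
            = π T * (π h)⁻¹ * π T * π h * (π T * π T) := by group
          _ = _ := by rw [hTT, mul_one, mul_inv_rev, mul_inv_rev, mul_inv_rev, inv_inv, hTi]; group
      have h4 : c⁻¹ = c := inv_eq_of_mul_eq_one_left hs
      calc c * π T = π T * c * π T * π T := by rw [h3, h4]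
        _ = π T * c * (π T * π T) := by group
        _ = π T * c := by rw [hTT, mul_one]
    · simp [φ]
  have hcardeq : Nat.card φ.range * Nat.card D = 32 := by
    rw [← index_ker φ, ← hker, card_map_of_injective H.subtype_injective, mul_comm, card_mul_index, h32]
  have hDmap : Nat.card (D.map π) * 2 = Nat.card D := by
    have h1 : Nat.card (D.map π) = Z.relIndex D := by
      rw [← relIndex_bot_left, ← Subgroup.map_bot π]
      rw [relIndex_map_map, QuotientGroup.ker_mk', bot_sup_eq, sup_eq_left.2 (hZF T)]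
    rw [h1, ← hZc, mul_comm, ← relIndex_bot_left Z, relIndex_mul_relIndex _ _ _ bot_le (hZF T),
      relIndex_bot_left]
  have hD8 : Nat.card D = 8 := by
    obtain ⟨k, hk, hDc⟩ := card_F T
    have hrle := Nat.le_of_dvd Nat.card_pos (card_dvd_of_le hrange)
    have hge : 3 ≤ k := by
      by_contra h
      rw [← hD] at hDc
      rw [hDc] at hcardeq hDmap
      interval_cases k <;> omega
    by_contra hne
    have h16 : 16 ≤ Nat.card D := by
      rw [← hD] at hDc
      rw [hDc] at hne ⊢
      interval_cases k <;> omega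
    obtain ⟨f, hf⟩ := exists_prime_orderOf_dvd_card' 5 (G := G) (by rw [hG]; norm_num)
    have hfH : f ∉ H := fun h => by
      have := orderOf_dvd_natCard H h
      rw [hf, h32] at this
      norm_num at this
    set K := H ⊔ zpowers f with hK
    have hKc : Nat.card K = 160 := by
      rw [hK, Basics.card_sup_of_coprime (by rw [normalizer_eq_top_iff.2 hHn]; exact le_top)
        (by rw [h32, Nat.card_zpowers, hf]; norm_num), h32, Nat.card_zpowers, hf]
    have hKi : K.index = 2 := by
      have := card_mul_index K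
      rw [hKc, hG] at this
      omega
    haveI : K.Normal := normal_of_index_eq_two hKi
    have hfK : f ∈ K := mem_sup_right (mem_zpowers f)
    set y := f * T * f⁻¹ * T with hy
    have hyK : y ∈ K := by
      have h1 : f * (T * f⁻¹ * T⁻¹) ∈ K := mul_mem hfK (‹K.Normal›.conj_mem _ (inv_mem hfK) T)
      rw [hy]; rwa [hTinv, ← mul_assoc, ← mul_assoc] at h1
    set D2 := D ⊓ F (f * T * f⁻¹) with hD2
    have hcardconj : 16 ≤ Nat.card (F (f * T * f⁻¹)) := by
      refine h16.trans (le_of_eq ?_)
      rw [← card_map_of_injective (K := D) (f := (MulAut.conj f).toMonoidHom) (MulAut.conj f).injective]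
      congr 2
      ext x
      constructor
      · rintro ⟨d, hd, rfl⟩
        obtain ⟨h1, h2⟩ := (hF T d).1 hd
        refine (hF _ _).2 ⟨hHn.conj_mem d h1 f, ?_⟩
        show π (f * d * f⁻¹) * π (f * T * f⁻¹) = π (f * T * f⁻¹) * π (f * d * f⁻¹)
        simp only [map_mul, map_inv]
        calc _ = π f * (π d * π T) * (π f)⁻¹ := by group
          _ = π f * (π T * π d) * (π f)⁻¹ := by rw [h2]
          _ = _ := by group
      · intro hx
        obtain ⟨h1, h2⟩ := (hF _ x).1 hx
        refine ⟨f⁻¹ * x * f, (hF T _).2 ⟨by simpa using hHn.conj_mem x h1 f⁻¹, ?_⟩,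
          by show f * (f⁻¹ * x * f) * f⁻¹ = x; group⟩
        simp only [map_mul, map_inv] at h2 ⊢
        calc (π f)⁻¹ * π x * π f * π T = (π f)⁻¹ * (π x * (π f * π T * (π f)⁻¹)) * π f := by group
          _ = (π f)⁻¹ * ((π f * π T * (π f)⁻¹) * π x) * π f := by rw [h2]
          _ = _ := by group
    have hD2c : 4 < Nat.card D2 := by
      have hle : D ⊔ F (f * T * f⁻¹) ≤ H := sup_le inf_le_left inf_le_left
      have h1 : Nat.card D * Nat.card (F (f * T * f⁻¹)) ≤ Nat.card ↥(D ⊔ F (f * T * f⁻¹)) * Nat.card D2 := by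
        have hZD2 : Z ≤ D := hZF T
        have hn : F (f * T * f⁻¹) ≤ normalizer (D : Set G) := by
          intro b hb
          rw [mem_normalizer_iff]
          intro d
          have key : ∀ b ∈ H, ∀ d ∈ D, b * d * b⁻¹ ∈ D := by
            intro b hb d hd
            have h3 : (b * d * b⁻¹ * d⁻¹) ∈ Z := by
              rw [← hπ1]
              simp only [map_mul, map_inv]
              rw [hHab b hb d (((hF T d).1 hd).1)]; group
            simpa using mul_mem (hZD2 h3) hd
          refine ⟨key b hb.1 d, fun h => ?_⟩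
          simpa [mul_assoc] using key b⁻¹ (inv_mem hb.1) _ h
        exact (Basics.card_mul_card_eq_card_sup_mul_card_inf hn).le
      have h2 := Nat.le_of_dvd Nat.card_pos (card_dvd_of_le hle)
      rw [h32] at h2
      nlinarith
    have hyfix : D2 ≤ F y := by
      rintro x ⟨hx1, hx2⟩
      obtain ⟨h1, h2⟩ := (hF T x).1 hx1
      obtain ⟨-, h3⟩ := (hF _ x).1 hx2
      refine (hF y x).2 ⟨h1, ?_⟩
      have hc : Commute (π x) (π (f * T * f⁻¹) * π T) := Commute.mul_right h3 h2
      rw [hy, map_mul]; exact hc.eq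
    by_cases hy5 : 5 ∣ orderOf y
    · set w := y ^ (orderOf y / 5) with hw
      have hwo : orderOf w = 5 := orderOf_pow_orderOf_div (orderOf_pos y).ne' hy5
      have hle : D2 ≤ F w := fun x hx => by
        obtain ⟨h1, h2⟩ := (hF y x).1 (hyfix hx)
        refine (hF w x).2 ⟨h1, ?_⟩
        rw [hw, map_pow]; exact (Commute.pow_right h2 _).eq
      have := Nat.le_of_dvd Nat.card_pos (card_dvd_of_le hle)
      have := hfix5 w hwo
      omega
    · -- y ∈ H, so f normalises D
      have hyH : y ∈ H := by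
        haveI : H.Normal := hHn
        have h1 : orderOf (QuotientGroup.mk' H y) ∣ orderOf y := orderOf_map_dvd _ _
        have h2 : orderOf (QuotientGroup.mk' H y) ∣ 5 := by
          have h3 : QuotientGroup.mk' H y ∈ K.map (QuotientGroup.mk' H) := ⟨y, hyK, rfl⟩
          have h4 := orderOf_dvd_natCard _ h3
          have h5 : K.map (QuotientGroup.mk' H) = zpowers (QuotientGroup.mk' H f) := by
            rw [hK, Subgroup.map_sup, QuotientGroup.map_mk'_self, bot_sup_eq, MonoidHom.map_zpowers]
          rw [h5, Nat.card_zpowers] at h4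
          exact h4.trans (hf ▸ orderOf_map_dvd _ f)
        have hco : (orderOf y).Coprime 5 := ((by norm_num : Nat.Prime 5).coprime_iff_not_dvd.2 hy5).symm
        have := Nat.eq_one_of_dvd_coprimes hco h1 h2
        rw [orderOf_eq_one_iff] at this
        exact (QuotientGroup.eq_one_iff y).1 this
      have hDinv : ∀ d ∈ D, f * d * f⁻¹ ∈ D := by
        intro d hd
        obtain ⟨h1, h2⟩ := (hF T d).1 hd
        refine (hF T _).2 ⟨hHn.conj_mem d h1 f, ?_⟩
        have h3 : π y * π (f * d * f⁻¹) = π (f * d * f⁻¹) * π y :=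
          hHab y hyH _ (hHn.conj_mem d h1 f)
        have h4 : π (f * T * f⁻¹) * π (f * d * f⁻¹) = π (f * d * f⁻¹) * π (f * T * f⁻¹) := by
          simp only [map_mul, map_inv]
          calc _ = π f * (π T * π d) * (π f)⁻¹ := by group
            _ = π f * (π d * π T) * (π f)⁻¹ := by rw [h2]
            _ = _ := by group
        have e : π T = (π (f * T * f⁻¹))⁻¹ * π y := by
          rw [hy]; simp only [map_mul, map_inv]; group
        rw [e]
        exact ((Commute.inv_right (show Commute (π (f * d * f⁻¹)) (π (f * T * f⁻¹)) from h4.symm)).mul_right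
          (show Commute (π (f * d * f⁻¹)) (π y) from h3.symm)).eq
      exact hnotop T hTH (Or.inl hT2) (hfive f D hf (hZF T) inf_le_left hDinv (by omega))
  -- conclusion
  set K := H ⊓ centralizer ({T} : Set G) with hK
  have hKD : K ≤ D := fun x hx => by
    refine (hF T x).2 ⟨hx.1, ?_⟩
    rw [← map_mul, ← map_mul, mem_centralizer_singleton_iff.1 hx.2]
  have hrD : φ.range = D.map π := eq_of_le_of_card_ge hrange (by rw [hD8] at hcardeq hDmap; omega)
  have hKne : K ≠ D := by
    intro hKD'
    have hsq : ∀ d ∈ D, d ^ 2 = 1 := by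
      intro d hd
      have h1 : π d ∈ φ.range := hrD ▸ mem_map_of_mem π hd
      obtain ⟨⟨h, hh⟩, he⟩ := h1
      set c := h⁻¹ * (T * h * T⁻¹) with hc
      have hzmem : c⁻¹ * d ∈ Z := by
        rw [← hπ1, map_mul, map_inv]
        have : π c = π d := by rw [← he, hc]; simp [φ]
        rw [this, inv_mul_cancel]
      have hcD : c ∈ D := by
        have := mul_mem hd (inv_mem (hZF T hzmem))
        simpa using this
      have hcK : c * T = T * c := mem_centralizer_singleton_iff.1 (hKD' ▸ hcD : c ∈ K).2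
      have h2 : T * c * T⁻¹ = c⁻¹ := by
        rw [hc, hTinv]
        calc T * (h⁻¹ * (T * h * T)) * T = T * h⁻¹ * T * h * (T * T) := by group
          _ = _ := by rw [hT2, mul_one, mul_inv_rev, mul_inv_rev, mul_inv_rev, inv_inv, hTinv]; group
      have hcc : c * c = 1 := by
        have h3 : c⁻¹ = c := by rw [← h2, ← hcK]; group
        nth_rewrite 1 [← h3]
        exact inv_mul_cancel c
      have hzc := hZcen _ hzmem c
      calc d ^ 2 = (c * (c⁻¹ * d)) * (c * (c⁻¹ * d)) := by rw [pow_two]; group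
        _ = (c * (c⁻¹ * d) * c⁻¹) * (c * c) * (c⁻¹ * d) := by group
        _ = 1 := by rw [hzc, hcc, mul_one, hZ2 _ hzmem]
    have hab : IsMulCommutative D := ⟨⟨fun a b => Subtype.ext (by
      have h := hsq _ (mul_mem a.2 b.2)
      have ha := hsq _ a.2
      have hb := hsq _ b.2
      rw [pow_two] at h ha hb
      show (a : G) * b = b * a
      calc (a : G) * b = (a : G) * ((a : G) * b * ((a : G) * b)) * b := by rw [h, mul_one]
        _ = ((a : G) * a) * (b * a) * ((b : G) * b) := by group
        _ = b * a := by rw [ha, hb, one_mul, mul_one])⟩⟩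
    have := hminus D inf_le_left ⟨hab, hsq⟩
    omega
  have hKc : Nat.card K = 4 := by
    have h1 := card_dvd_of_le hKD
    rw [hD8] at h1
    have h2 := Nat.le_of_dvd Nat.card_pos (card_dvd_of_le hV)
    rw [hV4] at h2
    have h3 : Nat.card K ≠ 8 := fun h => hKne (eq_of_le_of_card_ge hKD (by rw [hD8, h]))
    have h4 := Nat.le_of_dvd (by norm_num) h1
    interval_cases h : Nat.card K <;> omega
  have hVK : V = K := eq_of_le_of_card_ge hV (by rw [hV4]; exact hKc.le)
  exact ⟨hKc, hVK ▸ hVe⟩

end Cfsg.Agent.S4405
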