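import Cfsg.Statements.S4406
-- import your own Cfsg.Agent.* helpers here

set_option autoImplicit false
open Cfsg
open scoped Pointwise
set_option linter.all false

namespace Cfsg.Agent.S4406

theorem conj_two {H : Type*} [Group H] (t u : H) :
    t * (t * u * t⁻¹) * t⁻¹ = t ^ 3 * (t⁻¹ * u * t) * (t ^ 3)⁻¹ := by
  simp [pow_succ, mul_assoc]

theorem conj_three {H : Type*} [Group H] (t u : H) :
    t * (t * (t * u * t⁻¹) * t⁻¹) * t⁻¹ = t ^ 3 * u * (t ^ 3)⁻¹ := by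
  simp [pow_succ, mul_assoc]

/-- The alternating group of degree four. -/
abbrev A := ↥(alternatingGroup (Fin 4))

set_option synthInstance.maxSize 4000 in
set_option maxRecDepth 10000 in
theorem a4_facts : ∀ a x y : alternatingGroup (Fin 4), a ^ 3 = 1 → a ≠ 1 → x * x = 1 → x ≠ 1 →
    y * y = 1 → y ≠ 1 → a * x * a⁻¹ ≠ x ∧ x * (a * x * a⁻¹) = a⁻¹ * x * a ∧
      (y = x ∨ y = a * x * a⁻¹ ∨ y = a⁻¹ * x * a) := by decide +kernel

set_option maxRecDepth 10000 in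
theorem a4_four : ∀ x : alternatingGroup (Fin 4), x ^ 4 = 1 → x * x = 1 := by decide +kernel

set_option maxRecDepth 10000 in
theorem a4_nine : ∀ x : alternatingGroup (Fin 4), x ^ 9 = 1 → x ^ 3 = 1 := by decide +kernel

set_option maxRecDepth 10000 in
theorem a4_sq_count : Nat.card {x : alternatingGroup (Fin 4) // x * x = 1} = 4 := by
  rw [Nat.card_eq_fintype_card]; decide +kernel

theorem a4_card : Nat.card (alternatingGroup (Fin 4)) = 12 := by
  rw [Nat.card_eq_fintype_card]; decide +kernel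


/-- In the direct product P = A₄ × A₄, let X be the Sylow 2-subgroup, X₁ and X₂ its intersections with the two direct factors, Q a Sylow 3-subgroup and Q₁, Q₂ its intersections with the two factors. Then every subgroup B of X of order 4 either meets X₁ or X₂ nontrivially, or is normalized by one of the two subgroups of Q of order 3 other than Q₁ and Q₂. -/
theorem result
    (X : Sylow 2 (↥(alternatingGroup (Fin 4)) × ↥(alternatingGroup (Fin 4))))
    (Q : Sylow 3 (↥(alternatingGroup (Fin 4)) × ↥(alternatingGroup (Fin 4))))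
    (B : Subgroup (↥(alternatingGroup (Fin 4)) × ↥(alternatingGroup (Fin 4)))) (hBX : B ≤ (X : Subgroup _)) (hB4 : Nat.card ↥B = 4) :
    B ⊓ ((X : Subgroup _) ⊓ Subgroup.prod ⊤ ⊥) ≠ ⊥ ∨ B ⊓ ((X : Subgroup _) ⊓ Subgroup.prod ⊥ ⊤) ≠ ⊥ ∨
      ∃ R : Subgroup (↥(alternatingGroup (Fin 4)) × ↥(alternatingGroup (Fin 4))), R ≤ (Q : Subgroup _) ∧ Nat.card ↥R = 3 ∧
        R ≠ (Q : Subgroup _) ⊓ Subgroup.prod ⊤ ⊥ ∧ R ≠ (Q : Subgroup _) ⊓ Subgroup.prod ⊥ ⊤ ∧ R ≤ Subgroup.normalizer (B : Set _) := by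
  classical
  by_cases h1 : B ⊓ ((X : Subgroup (A × A)) ⊓ Subgroup.prod ⊤ ⊥) = ⊥
  swap
  · exact Or.inl h1
  by_cases h2 : B ⊓ ((X : Subgroup (A × A)) ⊓ Subgroup.prod ⊥ ⊤) = ⊥
  swap
  · exact Or.inr (Or.inl h2)
  refine Or.inr (Or.inr ?_)
  have hz : ∀ z : A × A, z ∈ B → (z.1 = 1 ∨ z.2 = 1) → z = 1 := by
    intro z hz hz'
    rcases hz' with h | h
    · have : z ∈ B ⊓ ((X : Subgroup (A × A)) ⊓ Subgroup.prod ⊥ ⊤) :=
        Subgroup.mem_inf.2 ⟨hz, Subgroup.mem_inf.2 ⟨hBX hz, Subgroup.mem_prod.2 ⟨h, trivial⟩⟩⟩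
      rwa [h2, Subgroup.mem_bot] at this
    · have : z ∈ B ⊓ ((X : Subgroup (A × A)) ⊓ Subgroup.prod ⊤ ⊥) :=
        Subgroup.mem_inf.2 ⟨hz, Subgroup.mem_inf.2 ⟨hBX hz, Subgroup.mem_prod.2 ⟨trivial, h⟩⟩⟩
      rwa [h1, Subgroup.mem_bot] at this
  have hsq : ∀ z ∈ B, z.1 * z.1 = 1 ∧ z.2 * z.2 = 1 := by
    intro z hz
    have h4 : z ^ 4 = 1 := by
      have h := congrArg Subtype.val (pow_card_eq_one' (x := (⟨z, hz⟩ : B)))
      rw [hB4] at h
      exact h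
    exact ⟨a4_four _ (congrArg Prod.fst h4), a4_four _ (congrArg Prod.snd h4)⟩
  let f : B → {x : A // x * x = 1} := fun z => ⟨z.1.1, (hsq z z.2).1⟩
  have hf : Function.Bijective f := by
    refine (Nat.bijective_iff_injective_and_card f).2 ⟨fun z w hzw => ?_, by rw [hB4, a4_sq_count]⟩
    have h : z.1.1 = w.1.1 := congrArg Subtype.val hzw
    have := hz _ (mul_mem z.2 (inv_mem w.2)) (Or.inl (by
      rw [Prod.fst_mul, Prod.fst_inv, h, mul_inv_cancel]))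
    exact Subtype.ext (mul_inv_eq_one.1 this)
  have hQ9 : Nat.card (Q : Subgroup (A × A)) = 9 := by
    rw [Q.card_eq_multiplicity, Nat.card_prod, a4_card,
      show 12 * 12 = 3 ^ 2 * 16 by norm_num, Nat.factorization_mul (by norm_num) (by norm_num),
      Finsupp.add_apply, Nat.Prime.factorization_pow Nat.prime_three, Finsupp.single_eq_same,
      Nat.factorization_eq_zero_of_not_dvd (by norm_num)]
    norm_num
  have hq : ∀ (pr : A × A →* A), (∀ z, pr z = z.1) ∨ (∀ z, pr z = z.2) →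
      ∃ q ∈ (Q : Subgroup (A × A)), q ≠ 1 ∧ pr q = 1 := by
    intro pr _
    by_contra hcon
    push Not at hcon
    let ψ := pr.comp (Q : Subgroup (A × A)).subtype
    have hinj : Function.Injective ψ := (injective_iff_map_eq_one ψ).2 fun q hq => by
      by_contra hne
      exact hcon q q.2 (fun e => hne (Subtype.ext e)) hq
    have := Subgroup.card_dvd_of_injective ψ hinj
    rw [hQ9, a4_card] at this
    norm_num at this
  obtain ⟨⟨a₁, a⟩, haQ, ha1, ha'⟩ := hq (MonoidHom.fst A A) (Or.inl fun _ => rfl)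
  obtain ⟨⟨c, c₁⟩, hcQ, hc1, hc'⟩ := hq (MonoidHom.snd A A) (Or.inr fun _ => rfl)
  change a₁ = 1 at ha'
  change c₁ = 1 at hc'
  subst ha' hc'
  have hne2 : a ≠ 1 := fun e => ha1 (by rw [e]; rfl)
  have hne1 : c ≠ 1 := fun e => hc1 (by rw [e]; rfl)
  have h3 : ∀ z ∈ (Q : Subgroup (A × A)), z.1 ^ 3 = 1 ∧ z.2 ^ 3 = 1 := by
    intro z hz
    have h9 : z ^ 9 = 1 := by
      have h := congrArg Subtype.val (pow_card_eq_one' (x := (⟨z, hz⟩ : (Q : Subgroup (A × A)))))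
      rw [hQ9] at h
      exact h
    exact ⟨a4_nine _ (congrArg Prod.fst h9), a4_nine _ (congrArg Prod.snd h9)⟩
  have hc3 : c ^ 3 = 1 := (h3 _ hcQ).1
  have ha3 : a ^ 3 = 1 := (h3 _ haQ).2
  obtain ⟨⟨x, hxB⟩, hx1⟩ : ∃ z : B, z ≠ 1 := by
    haveI : Nontrivial B := Finite.one_lt_card_iff_nontrivial.1 (by rw [hB4]; norm_num)
    exact exists_ne 1
  have hxne : x.1 ≠ 1 ∧ x.2 ≠ 1 :=
    ⟨fun e => hx1 (Subtype.ext (hz x hxB (Or.inl e))), fun e => hx1 (Subtype.ext (hz x hxB (Or.inr e)))⟩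
  obtain ⟨⟨y, hyB⟩, hy⟩ := hf.2 ⟨c * x.1 * c⁻¹, by
    rw [show c * x.1 * c⁻¹ * (c * x.1 * c⁻¹) = c * (x.1 * x.1) * c⁻¹ by group, (hsq x hxB).1]; group⟩
  have hy1 : y.1 = c * x.1 * c⁻¹ := congrArg Subtype.val hy
  have hyne : y.1 ≠ 1 := by
    rw [hy1]; intro e; exact hxne.1 (conj_eq_one_iff.1 e)
  have hy2 : y.2 ≠ 1 := fun e => hyne (by rw [hz y hyB (Or.inr e)]; rfl)
  have hxy2 : y.2 ≠ x.2 := fun e => by
    have := hz _ (mul_mem hyB (inv_mem hxB)) (Or.inr (by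
      rw [Prod.snd_mul, Prod.snd_inv, e, mul_inv_cancel]))
    rw [mul_inv_eq_one] at this
    exact (a4_facts c x.1 x.1 hc3 hne1 (hsq x hxB).1 hxne.1 (hsq x hxB).1 hxne.1).1 (by rw [← hy1, this])
  obtain ⟨d, hd3, hd1, hdQ, hd⟩ : ∃ d : A, d ^ 3 = 1 ∧ d ≠ 1 ∧ (1, d) ∈ (Q : Subgroup (A × A)) ∧
      y.2 = d * x.2 * d⁻¹ := by
    rcases (a4_facts a x.2 y.2 ha3 hne2 (hsq x hxB).2 hxne.2 (hsq y hyB).2 hy2).2.2 with h | h | h
    · exact absurd h hxy2
    · exact ⟨a, ha3, hne2, haQ, h⟩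
    · exact ⟨a⁻¹, by rw [inv_pow, ha3, inv_one], inv_ne_one.2 hne2, by simpa using inv_mem haQ,
        by rw [inv_inv]; exact h⟩
  set r : A × A := (c, d) with hr
  have hrQ : r ∈ (Q : Subgroup (A × A)) := by simpa using mul_mem hcQ hdQ
  have hrx : r * x * r⁻¹ = y := Prod.ext hy1.symm hd.symm
  have hry : r * y * r⁻¹ = x * y := by
    have e : ∀ (t u : A), t ^ 3 = 1 → t ≠ 1 → u * u = 1 → u ≠ 1 →
        t * (t * u * t⁻¹) * t⁻¹ = u * (t * u * t⁻¹) := by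
      intro t u ht ht1 hu hu1
      rw [(a4_facts t u u ht ht1 hu hu1 hu hu1).2.1]
      rw [conj_two t u, ht]
      simp
    refine Prod.ext ?_ ?_
    · show c * y.1 * c⁻¹ = x.1 * y.1
      rw [hy1]; exact e c x.1 hc3 hne1 (hsq x hxB).1 hxne.1
    · show d * y.2 * d⁻¹ = x.2 * y.2
      rw [hd]; exact e d x.2 hd3 hd1 (hsq x hxB).2 hxne.2
  have hr3 : orderOf r = 3 := orderOf_eq_prime (Prod.ext hc3 hd3) fun e => hne1 (congrArg Prod.fst e)
  refine ⟨Subgroup.zpowers r, (Subgroup.zpowers_le.2 hrQ), by rw [Nat.card_zpowers, hr3], ?_, ?_, ?_⟩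
  · intro e
    have := (e ▸ Subgroup.mem_zpowers r : r ∈ (Q : Subgroup (A × A)) ⊓ Subgroup.prod ⊤ ⊥)
    exact hd1 (Subgroup.mem_prod.1 this.2).2
  · intro e
    have := (e ▸ Subgroup.mem_zpowers r : r ∈ (Q : Subgroup (A × A)) ⊓ Subgroup.prod ⊥ ⊤)
    exact hne1 (Subgroup.mem_prod.1 this.2).1
  · rw [Subgroup.zpowers_le]
    have hgen : ∀ z ∈ B, z = 1 ∨ z = x ∨ z = y ∨ z = x * y := by
      intro z hzB
      by_cases h : z.1 = 1
      · exact Or.inl (hz z hzB (Or.inl h))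
      have hk := a4_facts c x.1 z.1 hc3 hne1 (hsq x hxB).1 hxne.1 (hsq z hzB).1 h
      have key : ∀ w ∈ B, z.1 = w.1 → z = w := fun w hw e =>
        congrArg Subtype.val (hf.1 (show f ⟨z, hzB⟩ = f ⟨w, hw⟩ from Subtype.ext e))
      rcases hk.2.2 with e | e | e
      · exact Or.inr (Or.inl (key x hxB e))
      · exact Or.inr (Or.inr (Or.inl (key y hyB (e.trans hy1.symm))))
      · exact Or.inr (Or.inr (Or.inr (key _ (mul_mem hxB hyB) (by
          rw [Prod.fst_mul, hy1, hk.2.1]; exact e))))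
    have hmap : ∀ z ∈ B, r * z * r⁻¹ ∈ B := by
      intro z hz
      rcases hgen z hz with rfl | rfl | rfl | rfl
      · rw [mul_one, mul_inv_cancel]; exact one_mem B
      · rw [hrx]; exact hyB
      · rw [hry]; exact mul_mem hxB hyB
      · rw [← conj_mul, hrx, hry]; exact mul_mem hyB (mul_mem hxB hyB)
    refine Subgroup.mem_normalizer_iff.2 fun z => ⟨hmap z, fun hz => ?_⟩
    have := hmap _ (hmap _ hz)
    rwa [conj_three r z,
      show r ^ 3 = 1 from Prod.ext hc3 hd3, one_mul, inv_one, mul_one] at this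

end Cfsg.Agent.S4406
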