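import Cfsg.Statements.S4407
import Mathlib

set_option autoImplicit false
open Cfsg
open scoped Pointwise
set_option linter.all false

namespace Cfsg.Agent.S4407

open Subgroup

section
variable {S : Type*} [Group S] {M : Type*} [AddCommGroup M] [Module (ZMod 2) M]

private theorem two_zero (x : M) : x + x = 0 := by
  rw [← two_smul (ZMod 2) x, show (2 : ZMod 2) = 0 from by decide, zero_smul]

/-- the endomorphism `1 + c + c ^ 2` -/
private def av (ρ : Representation (ZMod 2) S M) (c : S) (m : M) : M := m + ρ c m + ρ c (ρ c m)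

private theorem av_fixed (ρ : Representation (ZMod 2) S M) {c : S} (hc : c ^ 3 = 1) (m : M) :
    ρ c (av ρ c m) = av ρ c m := by
  have h : ρ c (ρ c (ρ c m)) = m := by
    rw [← Module.End.mul_apply, ← Module.End.mul_apply, ← map_mul, ← map_mul,
      show c * c * c = c ^ 3 by simp [pow_succ], hc, map_one, Module.End.one_apply]
  simp only [av, map_add, h]
  abel

private theorem app (ρ : Representation (ZMod 2) S M) (g h : S) (m : M) : ρ (g * h) m = ρ g (ρ h m) := by
  rw [map_mul, Module.End.mul_apply]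

set_option maxHeartbeats 1000000 in
private theorem core [Finite M] (ρ : Representation (ZMod 2) S M)
    (hirr : ∀ N : Submodule (ZMod 2) M, (∀ s : S, ∀ m ∈ N, ρ s m ∈ N) → N = ⊥ ∨ N = ⊤)
    (A : Subgroup S) (hA : ∀ m : M, (∀ a ∈ A, ρ a m = m) → m = 0)
    (r s c b : S) (hc : c ∈ A) (hc3 : c ^ 3 = 1) (hgenA : ∀ a ∈ A, a ∈ closure {c, b})
    (hgen : closure ({r, s, c, b} : Set S) = ⊤)
    (hs : s * s = 1) (hr : r * r * (r * r) = 1) (hsr : s * r * s = r⁻¹)
    (hb : b = r * c * r⁻¹) (hcomm : c * b = b * c) (hsc : s * c = c * s)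
    (hz : ∀ a ∈ A, r * r * a * (r * r) = a⁻¹)
    (v0 : M) (hv0 : v0 ≠ 0) (hcv : ρ c v0 = v0) :
    Nat.card M = 16 ∧ Nat.card {m : M // ρ (r * r) m = m ∧ ρ (r * s) m = m} = 2 ∧
      Nat.card {m : M // ρ (r * r) m = m ∧ ρ s m = m} ≠ 2 := by
  classical
  set z := r * r with hzdef
  have hb3 : b * b * b = 1 := by
    rw [hb]
    calc r * c * r⁻¹ * (r * c * r⁻¹) * (r * c * r⁻¹) = r * c ^ 3 * r⁻¹ := by rw [pow_succ, pow_two]; group
      _ = 1 := by rw [hc3]; group
  have hzc : z * c = c * c * z := by
    have h := hz c hc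
    rw [inv_eq_of_mul_eq_one_right (show c * (c * c) = 1 by rw [← mul_assoc]; simpa [pow_succ] using hc3)] at h
    calc z * c = z * c * z * z := by rw [mul_assoc (z * c), hr, mul_one]
      _ = c * c * z := by rw [h]
  have hsr' : s * r = r⁻¹ * s := by rw [← hsr, mul_assoc (s * r), hs, mul_one]
  have hrinv : r⁻¹ = r * z := by
    refine (eq_inv_of_mul_eq_one_left ?_).symm
    calc r * z * r = r * r * (r * r) := by rw [hzdef]; group
      _ = 1 := hr
  have hsz : s * z = z * s := by
    calc s * z = (s * r) * r := by rw [hzdef, mul_assoc]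
      _ = r⁻¹ * (s * r) := by rw [hsr', mul_assoc]; rw [hsr']
      _ = (r * r)⁻¹ * s := by rw [hsr', mul_inv_rev, mul_assoc]
      _ = z * s := by rw [inv_eq_of_mul_eq_one_right hr]
  have hzb : z * b = b * b * z := by
    calc z * b = r * (z * c) * r⁻¹ := by rw [hb, hzdef]; group
      _ = r * (c * c * z) * r⁻¹ := by rw [hzc]
      _ = b * b * z := by rw [hb, hzdef]; group
  have hsb : s * b = b * b * s := by
    have e1 : s * b = r⁻¹ * c * r * s := by
      rw [hb]
      calc s * (r * c * r⁻¹) = (s * r) * c * r⁻¹ := by group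
        _ = r⁻¹ * (s * c) * r⁻¹ := by rw [hsr']; group
        _ = r⁻¹ * c * (s * r⁻¹) := by rw [hsc]; group
        _ = r⁻¹ * c * r * s := by
          rw [show s * r⁻¹ = r * s by
            rw [← hsr, ← mul_assoc, ← mul_assoc, hs, one_mul]]
          group
    have e2 : r⁻¹ * c * r = b * b := by
      calc r⁻¹ * c * r = r⁻¹ * r⁻¹ * (r * c * r⁻¹) * (r * r) := by group
        _ = z⁻¹ * b * z := by rw [hb, hzdef]; group
        _ = z * b * z := by rw [inv_eq_of_mul_eq_one_right hr]
        _ = b * b * (z * z) := by rw [hzb]; group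
        _ = b * b := by rw [hr, mul_one]
    rw [e1, e2]
  -- a vector fixed by `c`, `s`, `z`
  have fix2 : ∀ g : S, g * g = 1 → ∀ x : M, x ≠ 0 → ∃ y : M, y ≠ 0 ∧ ρ g y = y ∧ (y = x ∨ y = x + ρ g x) := by
    intro g hg x hx
    by_cases h : x + ρ g x = 0
    · refine ⟨x, hx, ?_, Or.inl rfl⟩
      calc ρ g x = ρ g x + (x + ρ g x) := by rw [h, add_zero]
        _ = x + (ρ g x + ρ g x) := by abel
        _ = x := by rw [two_zero, add_zero]
    · exact ⟨_, h, by rw [map_add, ← app, hg, map_one, Module.End.one_apply, add_comm], Or.inr rfl⟩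
  obtain ⟨v1, hv1, hsv1, hv1e⟩ := fix2 s hs v0 hv0
  have hcv1 : ρ c v1 = v1 := by
    rcases hv1e with rfl | rfl
    · exact hcv
    · rw [map_add, hcv, ← app, ← hsc, app, hcv]
  obtain ⟨v, hv, hzv, hve⟩ := fix2 z hr v1 hv1
  have hccv : ρ c (ρ c v1) = v1 := by rw [hcv1, hcv1]
  have hcz : c * z = z * (c * c) := by
    calc c * z = z * (z * c) * z := by rw [← mul_assoc z, hr, one_mul]
      _ = z * (c * c) * (z * z) := by rw [hzc]; group
      _ = z * (c * c) := by rw [hr, mul_one]
  have hcvf : ρ c v = v := by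
    rcases hve with rfl | rfl
    · exact hcv1
    · rw [map_add, hcv1, ← app, hcz, app ρ z, app ρ c c, hccv]
  have hsv : ρ s v = v := by
    rcases hve with rfl | rfl
    · exact hsv1
    · rw [map_add, hsv1, ← app, hsz, app, hsv1]
  -- `b` moves `v`
  have hbv : ρ b v ≠ v := fun h => hv (hA v fun a ha => by
    have : closure {c, b} ≤ ({ carrier := {g | ρ g v = v}
                               one_mem' := by simp
                               mul_mem' := fun {x y} hx hy => by
                                 show ρ (x * y) v = v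
                                 rw [app, show ρ y v = v from hy]; exact hx
                               inv_mem' := fun {x} hx => by
                                 show ρ x⁻¹ v = v
                                 conv_lhs => rw [← show ρ x v = v from hx]
                                 rw [← app, inv_mul_cancel, map_one, Module.End.one_apply] } : Subgroup S) := by
      rw [closure_le]
      rintro g (rfl | rfl)
      · exact hcvf
      · exact h
    exact this (hgenA a ha))
  -- `c` and `b` commute on everything generated by `v`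
  set u := ρ b v with hu
  set v' := ρ r v with hv'
  set u' := ρ r u with hu'
  have hbbv : ρ b u = v + u := by
    have h0 : v + u + ρ b u = 0 := by
      refine hA _ fun a ha => ?_
      have : closure {c, b} ≤ ({ carrier := {g | ρ g (v + u + ρ b u) = v + u + ρ b u}
                                 one_mem' := by simp
                                 mul_mem' := fun {x y} hx hy => by
                                   show ρ (x * y) _ = _
                                   rw [app, show ρ y _ = _ from hy]; exact hx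
                                 inv_mem' := fun {x} hx => by
                                   show ρ x⁻¹ _ = _
                                   conv_lhs => rw [← show ρ x _ = _ from hx]
                                   rw [← app, inv_mul_cancel, map_one, Module.End.one_apply] } : Subgroup S) := by
        rw [closure_le]
        have hcb : c * b = b * c := hcomm
        rintro g (rfl | rfl)
        · show ρ g (v + u + ρ b u) = v + u + ρ b u
          simp only [hu, map_add, hcvf, ← app]
          rw [hcb, ← mul_assoc, hcb, mul_assoc, hcb]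
          simp only [app, hcvf]
        · exact av_fixed ρ (by rw [pow_succ, pow_two]; exact hb3) v
      exact this (hgenA a ha)
    calc ρ b u = ρ b u + (v + u + ρ b u) := by rw [h0, add_zero]
      _ = v + u + (ρ b u + ρ b u) := by abel
      _ = v + u := by rw [two_zero, add_zero]
  have hsu : ρ s u = v + u := by rw [hu, ← app, hsb, app, app, hsv, ← hu, hbbv]
  have hzu : ρ z u = v + u := by rw [hu, ← app, hzb, app, app, hzv, ← hu, hbbv]
  have hcu : ρ c u = u := by rw [hu, ← app, hcomm, app, hcvf]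
  have hrv' : ρ r v' = v := by rw [hv', ← app, ← hzdef, hzv]
  have hru' : ρ r u' = v + u := by rw [hu', ← app, ← hzdef, hzu]
  have hzr : z * r = r * z := by rw [hzdef, mul_assoc]
  have hsv' : ρ s v' = v' := by rw [hv', ← app, hsr', hrinv, app, app, hsv, hzv]
  have hsu' : ρ s u' = u' := by
    rw [hu', ← app, hsr', hrinv, app, app, hsu, map_add, hzv, hzu, ← add_assoc, two_zero, zero_add]
  -- `r` conjugates `b` to the inverse of `c`
  have hbr : b * r = r * c := by rw [hb]; group
  have hcr : c * r = r * (b * b) := by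
    calc c * r = r * (z * b * z) := by rw [hb, hzdef, show r * (r * r * (r * c * r⁻¹) * (r * r)) = r * r * (r * r) * c * r by group, hr, one_mul]
      _ = r * (b * b) := by rw [hzb, mul_assoc (b * b), hr, mul_one]
  have hbv' : ρ b v' = v' := by rw [hv', ← app, hbr, app, hcvf]
  have hbu' : ρ b u' = u' := by rw [hu', ← app, hbr, app, hcu]
  have hcv'' : ρ c v' = v' + u' := by rw [hv', ← app, hcr, app, app, ← hu, hbbv, map_add]
  have hcu'' : ρ c u' = v' := by
    rw [hu', ← app, hcr, app, app, hbbv, map_add, ← hu, hbbv, add_comm v u, ← add_assoc, two_zero, zero_add]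
  -- coordinates
  let Φ : (Fin 4 → ZMod 2) →ₗ[ZMod 2] M := Fintype.linearCombination (ZMod 2) ![v, u, v', u']
  have hspan : LinearMap.range Φ = ⊤ := by
    rw [Fintype.range_linearCombination]
    set N := Submodule.span (ZMod 2) (Set.range ![v, u, v', u']) with hN
    have m0 : v ∈ N := Submodule.subset_span ⟨0, rfl⟩
    have m1 : u ∈ N := Submodule.subset_span ⟨1, rfl⟩
    have m2 : v' ∈ N := Submodule.subset_span ⟨2, rfl⟩
    have m3 : u' ∈ N := Submodule.subset_span ⟨3, rfl⟩
    have hinv : ∀ g ∈ ({r, s, c, b} : Set S), N.map (ρ g) ≤ N := by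
      intro g hg
      rw [hN, Submodule.map_span_le, ← hN]
      rintro _ ⟨i, rfl⟩
      rcases hg with rfl | rfl | rfl | rfl <;> fin_cases i <;>
        simp only [Fin.zero_eta, Fin.mk_one, Fin.reduceFinMk, Matrix.cons_val_zero, Matrix.cons_val_one,
          Matrix.cons_val, hrv', hru', hsv, hsu, hsv', hsu', hcvf, hcu, hcv'', hcu'', hbbv, hbv', hbu',
          ← hu, ← hv', ← hu'] <;>
        first | assumption | exact add_mem m0 m1 | exact add_mem m2 m3
    refine ((hirr N fun g => ?_).resolve_left fun h => hv ((Submodule.mem_bot _).1 (h ▸ m0)))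
    have hg : g ∈ closure ({r, s, c, b} : Set S) := hgen ▸ mem_top g
    have : N.map (ρ g) = N := by
      induction hg using closure_induction with
      | mem g hg =>
        refine Submodule.eq_of_le_of_finrank_le (hinv g hg) (le_of_eq ?_)
        exact (LinearEquiv.finrank_map_eq (LinearEquiv.ofLinear (ρ g) (ρ g⁻¹)
          (LinearMap.ext fun x => by simp [← Module.End.mul_apply, ← map_mul])
          (LinearMap.ext fun x => by simp [← Module.End.mul_apply, ← map_mul])) N).symm
      | one => rw [map_one]; exact Submodule.map_id N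
      | mul x y _ _ hx hy =>
        rw [map_mul, show (ρ x * ρ y) = (ρ x).comp (ρ y) from rfl, Submodule.map_comp, hy, hx]
      | inv x _ hx =>
        conv_lhs => rw [← hx]
        rw [← Submodule.map_comp, show (ρ x⁻¹).comp (ρ x) = ρ x⁻¹ * ρ x from rfl, ← map_mul,
          inv_mul_cancel, map_one]
        exact Submodule.map_id N
    exact fun m hm => this ▸ Submodule.mem_map_of_mem hm
  have hWd : ∀ x y : ZMod 2, x • v + y • u = 0 → x = 0 ∧ y = 0 := by
    intro x y h
    have hu0 : u ≠ 0 := fun h0 => hv (by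
      have := congrArg (ρ b⁻¹) h0
      rw [hu, ← app, inv_mul_cancel, map_one, Module.End.one_apply, map_zero] at this
      exact this)
    rcases (show ∀ t : ZMod 2, t = 0 ∨ t = 1 by decide) x with rfl | rfl <;>
      rcases (show ∀ t : ZMod 2, t = 0 ∨ t = 1 by decide) y with rfl | rfl <;>
      simp only [zero_smul, one_smul, zero_add, add_zero] at h
    · exact ⟨rfl, rfl⟩
    · exact absurd h hu0
    · exact absurd h hv
    · refine absurd ?_ hbv
      calc u = u + (v + u) := by rw [h, add_zero]
        _ = v + (u + u) := by abel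
        _ = v := by rw [two_zero, add_zero]
  have hformula : ∀ x : Fin 4 → ZMod 2, Φ x = x 0 • v + x 1 • u + x 2 • v' + x 3 • u' := fun x => by
    simp [Φ, Fintype.linearCombination_apply, Fin.sum_univ_four]
  have hinj : Function.Injective Φ := by
    rw [injective_iff_map_eq_zero]
    intro x hx
    rw [hformula] at hx
    -- the two halves are fixed by `b`, resp. `c`
    have hxc := congrArg (fun m => ρ c m + m) hx
    simp only [map_add, map_smul, hcvf, hcu, hcv'', hcu'', map_zero, add_zero, smul_add] at hxc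
    have h23 : x 2 • u' + x 3 • v' + x 3 • u' = 0 := by
      have e : x 0 • v + x 1 • u + (x 2 • v' + x 2 • u') + x 3 • v' +
          (x 0 • v + x 1 • u + x 2 • v' + x 3 • u') =
          (x 2 • u' + x 3 • v' + x 3 • u') + ((x 0 • v + x 0 • v) + (x 1 • u + x 1 • u) + (x 2 • v' + x 2 • v')) := by
        abel
      rw [e] at hxc
      simpa [two_zero] using hxc
    have h23' : x 3 • v + (x 2 + x 3) • u = 0 := by
      have := congrArg (ρ r⁻¹) h23
      simp only [map_add, map_smul, hu', hv', ← app, inv_mul_cancel, map_one, Module.End.one_apply, map_zero] at this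
      rw [← this, add_smul]; abel
    obtain ⟨h3, h2'⟩ := hWd _ _ h23'
    have h2 : x 2 = 0 := by rwa [h3, add_zero] at h2'
    rw [h2, h3, zero_smul, zero_smul, add_zero, add_zero] at hx
    obtain ⟨h0, h1⟩ := hWd _ _ hx
    funext i
    fin_cases i <;> assumption
  have hbij : Function.Bijective Φ := ⟨hinj, LinearMap.range_eq_top.1 hspan⟩
  have hM : Nat.card M = 16 := by
    rw [← Nat.card_eq_of_bijective Φ hbij]; simp
  have hzv' : ρ z v' = v' := by rw [hv', ← app, hzr, app, hzv]
  have hzu' : ρ z u' = v' + u' := by rw [hu', ← app, hzr, app, hzu, map_add]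
  have hz4 : ∀ x : Fin 4 → ZMod 2, ρ z (Φ x) = Φ ![x 0 + x 1, x 1, x 2 + x 3, x 3] := fun x => by
    simp only [hformula, map_add, map_smul, hzv, hzu, hzv', hzu', smul_add, Matrix.cons_val_zero,
      Matrix.cons_val_one, Matrix.cons_val, add_smul]
    abel
  have hs4 : ∀ x : Fin 4 → ZMod 2, ρ s (Φ x) = Φ ![x 0 + x 1, x 1, x 2, x 3] := fun x => by
    simp only [hformula, map_add, map_smul, hsv, hsu, hsv', hsu', smul_add, Matrix.cons_val_zero,
      Matrix.cons_val_one, Matrix.cons_val, add_smul]
    abel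
  have hr4 : ∀ x : Fin 4 → ZMod 2, ρ r (Φ x) = Φ ![x 2 + x 3, x 3, x 0, x 1] := fun x => by
    simp only [hformula, map_add, map_smul, ← hv', ← hu', hrv', hru', smul_add, Matrix.cons_val_zero,
      Matrix.cons_val_one, Matrix.cons_val, add_smul]
    abel
  refine ⟨hM, ?_, ?_⟩
  · rw [← Nat.card_congr (Equiv.subtypeEquiv (Equiv.ofBijective Φ hbij)
      (p := fun x : Fin 4 → ZMod 2 => ![x 0 + x 1, x 1, x 2 + x 3, x 3] = x ∧ ![x 2 + x 3, x 3, x 0 + x 1, x 1] = x)
      (fun x => ?_))]
    · rw [Nat.card_eq_fintype_card]; decide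
    · show _ ↔ ρ z (Φ x) = Φ x ∧ ρ (r * s) (Φ x) = Φ x
      rw [app ρ r s, hs4, hr4, hz4, hinj.eq_iff, hinj.eq_iff]
      simp
  · rw [← Nat.card_congr (Equiv.subtypeEquiv (Equiv.ofBijective Φ hbij)
      (p := fun x : Fin 4 → ZMod 2 => ![x 0 + x 1, x 1, x 2 + x 3, x 3] = x ∧ ![x 0 + x 1, x 1, x 2, x 3] = x)
      (fun x => ?_))]
    · rw [Nat.card_eq_fintype_card]; decide
    · show _ ↔ ρ z (Φ x) = Φ x ∧ ρ s (Φ x) = Φ x
      rw [hs4, hz4, hinj.eq_iff, hinj.eq_iff]

end


set_option maxHeartbeats 2000000 in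
/-- Let S be a finite group with a normal elementary abelian subgroup A of order 9 that is self-centralizing (C_S(A) = A), and a dihedral subgroup X of order 8 with S = AX. Let M be a finite-dimensional module for S over the field with two elements that is faithful and irreducible. Then M has 16 elements, and X contains exactly one subgroup B of order 4 and exponent 2 whose fixed points on M form a subspace with exactly 2 elements (equivalently, M is free of rank one over the group algebra of B). -/
theorem result {S : Type*} [Group S] [Finite S]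
    (A : Subgroup S) [A.Normal] (hA : Cfsg.IsElementaryAbelian 3 A) (hA9 : Nat.card ↥A = 9)
    (hAC : Subgroup.centralizer (A : Set S) = A) (X : Subgroup S) (hX : Nonempty (↥X ≃* DihedralGroup 4)) (hAX : A ⊔ X = ⊤)
    {M : Type*} [AddCommGroup M] [Module (ZMod 2) M] [Finite M] (ρ : Representation (ZMod 2) S M)
    (hfaith : Function.Injective ρ)
    (hirr : ∀ N : Submodule (ZMod 2) M, (∀ s : S, ∀ m ∈ N, ρ s m ∈ N) → N = ⊥ ∨ N = ⊤) (hM : Nontrivial M) :
    Nat.card M = 16 ∧
      ∃! B : Subgroup S, B ≤ X ∧ Nat.card ↥B = 4 ∧ (∀ b ∈ B, b ^ 2 = 1) ∧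
        Nat.card {m : M // ∀ b ∈ B, ρ b m = m} = 2 := by
  classical
  obtain ⟨e⟩ := hX
  -- `A` has no fixed vector
  have hA0 : ∀ m : M, (∀ a ∈ A, ρ a m = m) → m = 0 := by
    let N : Submodule (ZMod 2) M :=
      { carrier := {m | ∀ a ∈ A, ρ a m = m}
        add_mem' := fun {x y} hx hy a ha => by rw [map_add, hx a ha, hy a ha]
        zero_mem' := fun a _ => map_zero _
        smul_mem' := fun t x hx a ha => by rw [map_smul, hx a ha] }
    rcases hirr N (fun g m hm a ha => by
      have h := hm _ (Normal.conj_mem inferInstance a ha g⁻¹)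
      rw [← app, show a * g = g * (g⁻¹ * a * g⁻¹⁻¹) by group, app, h]) with h | h
    · intro m hm
      have : m ∈ N := hm
      rwa [h, Submodule.mem_bot] at this
    · exfalso
      have : A ≤ ⊥ := fun a ha => mem_bot.2 (hfaith (by
        rw [map_one]
        refine LinearMap.ext fun m => ?_
        rw [Module.End.one_apply]
        exact (h ▸ Submodule.mem_top : m ∈ N) a ha))
      rw [le_bot_iff.1 this, card_bot] at hA9
      omega
  have hAc : ∀ a ∈ A, ∀ b ∈ A, a * b = b * a := fun a ha b hb =>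
    congrArg Subtype.val (hA.1.is_comm.comm ⟨a, ha⟩ ⟨b, hb⟩)
  have hA3 : ∀ a ∈ A, a * a * a = 1 := fun a ha => by
    have := hA.2 a ha
    rw [pow_succ, pow_two] at this
    exact this
  have hX8 : Nat.card X = 8 := by rw [Nat.card_congr e.toEquiv, DihedralGroup.nat_card]
  have hAXbot : ∀ x ∈ X, (∀ a ∈ A, a * x = x * a) → x = 1 := fun x hx h => by
    have hxA : x ∈ A := hAC ▸ mem_centralizer_iff.2 h
    have h1 : orderOf x ∣ Nat.card A := Subgroup.orderOf_dvd_natCard A hxA
    have h2 : orderOf x ∣ Nat.card X := Subgroup.orderOf_dvd_natCard X hx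
    rw [hA9] at h1; rw [hX8] at h2
    exact orderOf_eq_one_iff.1 (Nat.eq_one_of_dvd_coprimes (by norm_num) h1 h2)
  set r : S := (e.symm (DihedralGroup.r 1) : S) with hrdef
  set s0 : S := (e.symm (DihedralGroup.sr 0) : S) with hs0def
  have hrX : r ∈ X := SetLike.coe_mem _
  have hsX : s0 ∈ X := SetLike.coe_mem _
  have hrel : ∀ d d' : DihedralGroup 4, d = d' → (e.symm d : S) = (e.symm d' : S) := fun _ _ h => h ▸ rfl
  have em : ∀ d d' : DihedralGroup 4, (e.symm d : S) * (e.symm d' : S) = (e.symm (d * d') : S) := fun d d' => by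
    rw [map_mul]; rfl
  have ei : ∀ d : DihedralGroup 4, (e.symm d : S)⁻¹ = (e.symm d⁻¹ : S) := fun d => by rw [map_inv]; rfl
  have e1 : (e.symm 1 : S) = 1 := by rw [map_one]; rfl
  have hr4 : r * r * (r * r) = 1 := by rw [hrdef, em, em, ← e1]; exact hrel _ _ (by decide)
  have hs2 : s0 * s0 = 1 := by rw [hs0def, em, ← e1]; exact hrel _ _ (by decide)
  have hsr : s0 * r * s0 = r⁻¹ := by rw [hrdef, hs0def, em, em, ei]; exact hrel _ _ (by decide)
  set z := r * r with hz
  have hzX : z ∈ X := mul_mem hrX hrX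
  have hz1 : z ≠ 1 := fun h => by
    rw [hz, hrdef, em, ← e1] at h
    exact absurd (e.symm.injective (Subtype.ext h)) (by decide)
  have hrinv : r⁻¹ = r * z := by
    refine (eq_inv_of_mul_eq_one_left ?_).symm
    rw [hz, show r * (r * r) * r = r * r * (r * r) by group]
    exact hr4
  -- the involutions of `X`
  have hinvol : ∀ x ∈ X, x * x = 1 → x = 1 ∨ x = z ∨ x = s0 ∨ x = s0 * z ∨ x = r * s0 ∨ x = r * s0 * z := by
    intro x hx hxx
    have h : ∀ d : DihedralGroup 4, d * d = 1 → d = 1 ∨ d = .r 1 * .r 1 ∨ d = .sr 0 ∨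
        d = .sr 0 * (.r 1 * .r 1) ∨ d = .r 1 * .sr 0 ∨ d = .r 1 * .sr 0 * (.r 1 * .r 1) := by decide
    have hd := h (e ⟨x, hx⟩) (by
      rw [← map_mul, ← map_one e]; exact congrArg e (Subtype.ext hxx))
    have back : x = (e.symm (e ⟨x, hx⟩) : S) := by rw [MulEquiv.symm_apply_apply]
    rw [hz, hrdef, hs0def]
    simp only [em, ← e1]
    rw [back]
    rcases hd with h | h | h | h | h | h <;> rw [h] <;> simp
  have hconjA : ∀ g : S, ∀ a ∈ A, g * a * g⁻¹ ∈ A := fun g a ha => Normal.conj_mem inferInstance a ha g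
  have hzz : z⁻¹ = z := inv_eq_of_mul_eq_one_right hr4
  have hconjm : ∀ g a b : S, g * (a * b) * g⁻¹ = (g * a * g⁻¹) * (g * b * g⁻¹) := fun g a b => by group
  -- `z` inverts `A`
  have hzinv : ∀ a ∈ A, z * a * z = a⁻¹ := by
    by_contra hcon
    push Not at hcon
    obtain ⟨a0, ha0, hne⟩ := hcon
    apply hz1
    refine hAXbot z hzX fun a ha => ?_
    -- the fixed part
    set f0 := a0 * (z * a0 * z) with hf0
    have hza0 : z * a0 * z ∈ A := by have := hconjA z a0 ha0; rwa [hzz] at this
    have hf0A : f0 ∈ A := mul_mem ha0 hza0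
    have hf0f : z * f0 * z = f0 := by
      rw [hf0, hAc a0 ha0 _ hza0]
      calc z * (z * a0 * z * a0) * z = (z * z) * a0 * z * a0 * z := by group
        _ = a0 * (z * a0 * z) := by rw [hr4, one_mul]; group
        _ = z * a0 * z * a0 := hAc a0 ha0 _ hza0
    have hf01 : f0 ≠ 1 := fun h => hne (eq_inv_of_mul_eq_one_right h).symm.symm
    by_contra hnc
    set i0 := a * (z * a * z)⁻¹ with hi0
    have hza : z * a * z ∈ A := by have := hconjA z a ha; rwa [hzz] at this
    have hi0A : i0 ∈ A := mul_mem ha (inv_mem hza)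
    have hi01 : i0 ≠ 1 := fun h => hnc (by
      have h' : a = z * a * z := by rwa [hi0, mul_inv_eq_one] at h
      calc a * z = z * a * z * z := by rw [← h']
        _ = z * a := by rw [mul_assoc (z * a), hr4, mul_one])
    have hi0i : z * i0 * z = i0⁻¹ := by
      have e : (z * a * z)⁻¹ = z * a⁻¹ * z := by rw [mul_inv_rev (z * a) z, mul_inv_rev z a, hzz, ← mul_assoc]
      calc z * i0 * z = z * a * z * (a⁻¹ * (z * z)) := by rw [hi0, e]; group
        _ = z * a * z * a⁻¹ := by rw [hr4, mul_one]
        _ = i0⁻¹ := by rw [hi0, mul_inv_rev, inv_inv]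
    -- both lines are invariant, so `z` would centralise `A`
    have hzc : ∀ g ∈ X, g * z * g⁻¹ = z := by
      intro g hg
      have h : ∀ d : DihedralGroup 4, d * (.r 1 * .r 1) * d⁻¹ = .r 1 * .r 1 := by decide
      rw [show g = (e.symm (e ⟨g, hg⟩) : S) by rw [MulEquiv.symm_apply_apply], hz, hrdef, em, ei, em, em]
      exact hrel _ _ (h _)
    have ord3 : ∀ f ∈ A, f ≠ 1 → Nat.card (zpowers f) = 3 := fun f hf hf1 => by
      rw [Nat.card_zpowers]
      haveI := Fact.mk Nat.prime_three
      exact orderOf_eq_prime (by rw [pow_succ, pow_two]; exact hA3 f hf) hf1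
    have gen : zpowers f0 ⊔ zpowers i0 = A := by
      refine eq_of_le_of_card_ge (sup_le (zpowers_le.2 hf0A) (zpowers_le.2 hi0A)) ?_
      have h1 : Nat.card (zpowers f0) ∣ Nat.card (zpowers f0 ⊔ zpowers i0 : Subgroup S) := card_dvd_of_le le_sup_left
      have h2 : Nat.card (zpowers f0 ⊔ zpowers i0 : Subgroup S) ∣ Nat.card A :=
        card_dvd_of_le (sup_le (zpowers_le.2 hf0A) (zpowers_le.2 hi0A))
      rw [hA9] at h2 ⊢
      rcases (Nat.dvd_prime_pow Nat.prime_three (m := 2)).1 h2 with ⟨i, hi, hi'⟩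
      interval_cases i
      · rw [hi', ord3 f0 hf0A hf01] at h1; norm_num at h1
      · exfalso
        have heq : zpowers f0 = zpowers f0 ⊔ zpowers i0 :=
          eq_of_le_of_card_ge le_sup_left (by rw [hi', ord3 f0 hf0A hf01]; rfl)
        obtain ⟨k, hk⟩ : i0 ∈ zpowers f0 := heq ▸ mem_sup_right (mem_zpowers i0)
        have h3 : z * i0 * z = i0 := by
          rw [← hk]
          show z * f0 ^ k * z = f0 ^ k
          conv_lhs => arg 2; rw [← hzz]
          rw [← conj_zpow, hzz, hf0f]
        rw [hi0i, inv_eq_iff_mul_eq_one] at h3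
        exact hi01 (by simpa [h3] using hA3 i0 hi0A)
      · omega
    have hline : ∀ f ∈ A, f ≠ 1 → (∀ g ∈ X, g * f * g⁻¹ ∈ zpowers f) → z * f * z = f := by
      intro f hf hf1 hinv
      have h2 : ∀ g ∈ X, g * f * g⁻¹ = f ∨ g * f * g⁻¹ = f⁻¹ := by
        intro g hg
        obtain ⟨k, hk⟩ := hinv g hg
        have ho : orderOf f = 3 := by rw [← Nat.card_zpowers]; exact ord3 f hf hf1
        have hk' : g * f * g⁻¹ = f ^ (k % 3) := by
          rw [← hk]
          exact (zpow_mod_orderOf f k).symm.trans (by rw [ho]; rfl)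
        have hlt := Int.emod_lt_of_pos k (show (0 : ℤ) < 3 by norm_num)
        have hge := Int.emod_nonneg k (show (3 : ℤ) ≠ 0 by norm_num)
        interval_cases hkm : k % 3
        · rw [zpow_zero, conj_eq_one_iff] at hk'; exact absurd hk' hf1
        · left; rwa [zpow_one] at hk'
        · right
          rw [hk', eq_inv_iff_mul_eq_one]
          rw [show ((2 : ℤ)) = ((2 : ℕ) : ℤ) from rfl, zpow_natCast, pow_two]
          exact hA3 f hf
      have hz' : z = r⁻¹ * r⁻¹ := by rw [← mul_inv_rev, ← hz, hzz]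
      have key : z * f * z = r * (r * f * r⁻¹) * r⁻¹ := by
        conv_lhs => arg 2; rw [← hzz]
        rw [hz]; group
      rw [key]
      rcases h2 r hrX with h | h
      · rw [h, h]
      · rw [h, show r * f⁻¹ * r⁻¹ = (r * f * r⁻¹)⁻¹ by group, h, inv_inv]
    have hdec : ∀ y ∈ zpowers f0 ⊔ zpowers i0, ∃ i j : ℤ, y = f0 ^ i * i0 ^ j := by
      intro y hy
      rw [zpowers_eq_closure, zpowers_eq_closure, ← Subgroup.closure_union] at hy
      induction hy using closure_induction with
      | mem x hx =>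
        rcases hx with rfl | rfl
        · exact ⟨1, 0, by simp⟩
        · exact ⟨0, 1, by simp⟩
      | one => exact ⟨0, 0, by simp⟩
      | mul x y _ _ hx hy =>
        obtain ⟨i, j, rfl⟩ := hx
        obtain ⟨i', j', rfl⟩ := hy
        refine ⟨i + i', j + j', ?_⟩
        rw [zpow_add, zpow_add, mul_assoc, ← mul_assoc (i0 ^ j),
          hAc _ (zpow_mem hi0A j) _ (zpow_mem hf0A i')]
        group
      | inv x _ hx =>
        obtain ⟨i, j, rfl⟩ := hx
        refine ⟨-i, -j, ?_⟩
        rw [mul_inv_rev, zpow_neg, zpow_neg]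
        exact hAc _ (inv_mem (zpow_mem hi0A j)) _ (inv_mem (zpow_mem hf0A i))
    have inv_f : ∀ g ∈ X, g * f0 * g⁻¹ ∈ zpowers f0 := by
      intro g hg
      have hgz : g * z = z * g := by
        calc g * z = g * z * g⁻¹ * g := by group
          _ = z * g := by rw [hzc g hg]
      have hfix : z * (g * f0 * g⁻¹) * z = g * f0 * g⁻¹ := by
        calc z * (g * f0 * g⁻¹) * z = (z * g) * f0 * (g⁻¹ * z) := by group
          _ = (g * z) * f0 * (z * g⁻¹) := by
            rw [hgz, show g⁻¹ * z = z * g⁻¹ by rw [eq_mul_inv_iff_mul_eq, mul_assoc, ← hgz, inv_mul_cancel_left]]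
          _ = g * (z * f0 * z) * g⁻¹ := by group
          _ = g * f0 * g⁻¹ := by rw [hf0f]
      have hm : g * f0 * g⁻¹ ∈ zpowers f0 ⊔ zpowers i0 := gen.symm ▸ hconjA g f0 hf0A
      obtain ⟨i, j, hij⟩ := hdec _ hm
      rw [hij] at hfix ⊢
      have h4 : z * (f0 ^ i * i0 ^ j) * z = f0 ^ i * (i0 ^ j)⁻¹ := by
        conv_lhs => arg 2; rw [← hzz]
        rw [hconjm, ← conj_zpow, ← conj_zpow, hzz, hf0f, hi0i, inv_zpow]
      rw [h4, mul_right_inj, inv_eq_iff_mul_eq_one] at hfix
      have : i0 ^ j = 1 := by simpa [hfix] using hA3 _ (zpow_mem hi0A j)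
      rw [this, mul_one]
      exact zpow_mem (mem_zpowers f0) i
    have inv_i : ∀ g ∈ X, g * i0 * g⁻¹ ∈ zpowers i0 := by
      intro g hg
      have hgz : g * z = z * g := by
        calc g * z = g * z * g⁻¹ * g := by group
          _ = z * g := by rw [hzc g hg]
      have hfix : z * (g * i0 * g⁻¹) * z = (g * i0 * g⁻¹)⁻¹ := by
        calc z * (g * i0 * g⁻¹) * z = (z * g) * i0 * (g⁻¹ * z) := by group
          _ = (g * z) * i0 * (z * g⁻¹) := by
            rw [hgz, show g⁻¹ * z = z * g⁻¹ by rw [eq_mul_inv_iff_mul_eq, mul_assoc, ← hgz, inv_mul_cancel_left]]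
          _ = g * (z * i0 * z) * g⁻¹ := by group
          _ = (g * i0 * g⁻¹)⁻¹ := by rw [hi0i]; group
      have hm : g * i0 * g⁻¹ ∈ zpowers f0 ⊔ zpowers i0 := gen.symm ▸ hconjA g i0 hi0A
      obtain ⟨i, j, hij⟩ := hdec _ hm
      rw [hij] at hfix ⊢
      have h4 : z * (f0 ^ i * i0 ^ j) * z = f0 ^ i * (i0 ^ j)⁻¹ := by
        conv_lhs => arg 2; rw [← hzz]
        rw [hconjm, ← conj_zpow, ← conj_zpow, hzz, hf0f, hi0i, inv_zpow]
      rw [h4, mul_inv_rev, hAc _ (inv_mem (zpow_mem hi0A j)) _ (inv_mem (zpow_mem hf0A i)), mul_left_inj] at hfix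
      have h5 : f0 ^ i * f0 ^ i = 1 := by rw [← inv_eq_iff_mul_eq_one]; exact hfix.symm
      have : f0 ^ i = 1 := by simpa [h5] using hA3 _ (zpow_mem hf0A i)
      rw [this, one_mul]
      exact zpow_mem (mem_zpowers i0) j
    have hfi := hline i0 hi0A hi01 inv_i
    rw [hi0i, inv_eq_iff_mul_eq_one] at hfi
    exact hi01 (by simpa [hfi] using hA3 i0 hi0A)
  -- a line fixed by an outer involution
  obtain ⟨c, hcA, hc1, hsc⟩ : ∃ c ∈ A, c ≠ 1 ∧ s0 * c = c * s0 := by
    by_contra hcon
    push Not at hcon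
    have hsinv : ∀ a ∈ A, s0 * a * s0 = a⁻¹ := fun a ha => by
      have hs' : s0⁻¹ = s0 := inv_eq_of_mul_eq_one_right hs2
      have hsa : s0 * a * s0 ∈ A := by have := hconjA s0 a ha; rwa [hs'] at this
      by_contra h
      refine hcon (a * (s0 * a * s0)) (mul_mem ha hsa) (fun h1 => h (eq_inv_of_mul_eq_one_right h1)) ?_
      calc s0 * (a * (s0 * a * s0)) = s0 * a * s0 * a * s0 := by group
        _ = a * (s0 * a * s0) * s0 := by rw [hAc a ha _ hsa]
    have h1 : s0 * z = 1 := hAXbot _ (mul_mem hsX hzX) fun a ha => by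
      calc a * (s0 * z) = (s0 * s0) * a * s0 * z := by rw [hs2]; group
        _ = s0 * (s0 * a * s0) * z := by group
        _ = s0 * (z * a * z) * z := by rw [hsinv a ha, hzinv a ha]
        _ = s0 * z * a * (z * z) := by group
        _ = s0 * z * a := by rw [hr4, mul_one]
    have h2 : z = s0 := by
      calc z = s0 * s0 * z := by rw [hs2, one_mul]
        _ = s0 := by rw [mul_assoc, h1, mul_one]
    rw [hz, hrdef, hs0def, em] at h2
    exact absurd (e.symm.injective (Subtype.ext h2)) (by decide)
  set b := r * c * r⁻¹ with hb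
  have hbA : b ∈ A := hconjA r c hcA
  have hcb : c * b = b * c := hAc c hcA b hbA
  have hs0b : s0 * b * s0 = b⁻¹ := by
    have e3 : s0 * r = r⁻¹ * s0 := by rw [← hsr, mul_assoc (s0 * r), hs2, mul_one]
    have e4 : r⁻¹ * s0 = s0 * r := e3.symm
    calc s0 * b * s0 = (s0 * r) * c * (s0 * r)⁻¹ := by
          rw [hb, mul_inv_rev, inv_eq_of_mul_eq_one_right hs2]; group
      _ = r⁻¹ * (s0 * c * s0⁻¹) * r := by rw [e3]; group
      _ = r⁻¹ * c * r := by rw [hsc, mul_inv_cancel_right]
      _ = z⁻¹ * b * z := by rw [hb, hz]; group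
      _ = b⁻¹ := by rw [hzz, hzinv b hbA]
  have hgenA : A ≤ closure {c, b} := by
    haveI := Fact.mk Nat.prime_three
    have hle : closure {c, b} ≤ A := by
      rw [closure_le]; rintro _ (rfl | rfl) <;> assumption
    refine (eq_of_le_of_card_ge hle ?_).ge
    have hc : c ∈ closure {c, b} := subset_closure (by simp)
    have hbm : b ∈ closure {c, b} := subset_closure (by simp)
    have hd := card_dvd_of_le hle
    rw [hA9] at hd ⊢
    rcases (Nat.dvd_prime_pow Nat.prime_three (m := 2)).1 hd with ⟨i, hi, hi'⟩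
    interval_cases i
    · exact absurd (mem_bot.1 ((card_eq_one.1 hi') ▸ hc)) hc1
    · exfalso
      have hzc : zpowers c = closure {c, b} := eq_of_le_of_card_ge (zpowers_le.2 hc) (by
        rw [hi', Nat.card_zpowers, orderOf_eq_prime (by rw [pow_succ, pow_two]; exact hA3 c hcA) hc1]; rfl)
      obtain ⟨k, hk⟩ : b ∈ zpowers c := hzc ▸ hbm
      have hfix : s0 * b * s0 = b := by
        rw [← hk]
        show s0 * c ^ k * s0 = c ^ k
        rw [(Commute.zpow_right (hsc : Commute s0 c) k).eq, mul_assoc, hs2, mul_one]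
      rw [hs0b, inv_eq_iff_mul_eq_one] at hfix
      have hb1 : b = 1 := by simpa [hfix] using hA3 b hbA
      rw [hb, conj_eq_one_iff] at hb1
      exact hc1 hb1
    · omega
  have hgenS : ∀ s' c' b' : S, s' ∈ closure ({r, s', c', b'} : Set S) → A ≤ closure {c', b'} →
      s0 ∈ closure ({r, s', c', b'} : Set S) → closure ({r, s', c', b'} : Set S) = ⊤ := by
    intro s' c' b' _ hA' hs0
    rw [eq_top_iff, ← hAX]
    refine sup_le (hA'.trans (closure_mono (by intro x hx; simp only [Set.mem_insert_iff, Set.mem_singleton_iff] at hx ⊢; tauto))) ?_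
    intro x hx
    have hd : ∀ d : DihedralGroup 4, ∃ i : Fin 4, ∃ j : Fin 2, d = (.r 1 : DihedralGroup 4) ^ (i : ℕ) * (.sr 0) ^ (j : ℕ) := by decide
    obtain ⟨i, j, hij⟩ := hd (e ⟨x, hx⟩)
    have hxe : x = r ^ (i : ℕ) * s0 ^ (j : ℕ) := by
      calc x = (e.symm (e ⟨x, hx⟩) : S) := by rw [MulEquiv.symm_apply_apply]
        _ = _ := by rw [hij, map_mul, map_pow, map_pow]; rfl
    rw [hxe]
    exact mul_mem (pow_mem (subset_closure (by simp)) _) (pow_mem hs0 _)
  -- some line has a nonzero fixed vector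
  obtain ⟨m, hm⟩ := exists_ne (0 : M)
  have hsum : av ρ c m + av ρ b m + av ρ (c * b) m + av ρ (c * (b * b)) m = m := by
    have h0 : av ρ c (av ρ b m) = 0 := by
      refine hA0 _ fun a ha => ?_
      have hh : ∀ g ∈ ({c, b} : Set S), ρ g (av ρ c (av ρ b m)) = av ρ c (av ρ b m) := by
        rintro g (rfl | rfl)
        · exact av_fixed ρ (hA.2 _ hcA) _
        · have hsw : ∀ y : M, ρ b (ρ c y) = ρ c (ρ b y) := fun y => by rw [← app, ← app, hcb]
          have he : ∀ y : M, ρ b (av ρ c y) = av ρ c (ρ b y) := fun y => by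
            simp only [av, map_add, hsw]
          rw [he, av_fixed ρ (hA.2 _ hbA) m]
      have hm' : a ∈ closure {c, b} := hgenA ha
      clear ha
      induction hm' using closure_induction with
      | mem g hg => exact hh g hg
      | one => simp
      | mul x y _ _ hx hy => rw [app, hy, hx]
      | inv x _ hx =>
        conv_lhs => rw [← hx]
        rw [← app, inv_mul_cancel, map_one, Module.End.one_apply]
    have e : av ρ c m + av ρ b m + av ρ (c * b) m + av ρ (c * (b * b)) m
        = av ρ c (av ρ b m) + ((m + m) + m) := by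
      simp only [av, map_add, ← app]
      have n1 : c * b * (c * b) = c * (c * (b * b)) := by
        rw [mul_assoc, ← mul_assoc b, ← hcb, mul_assoc c b b]
      have n2 : c * (b * b) * (c * (b * b)) = c * (c * b) := by
        have h3 := hA3 b hbA
        have hcbb : c * (b * b) = b * b * c := by rw [← mul_assoc, hcb, mul_assoc, hcb, ← mul_assoc]
        rw [mul_assoc, ← mul_assoc (b * b), ← hcbb, mul_assoc c, show b * b * (b * b) = b * b * b * b by group, h3, one_mul]
      rw [n1, n2, ← mul_assoc c c (b * b), ← mul_assoc c c b]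
      simp only [← mul_assoc]
      abel
    rw [e, h0, two_zero, zero_add, zero_add]
  obtain ⟨s', o', v0, hsv, hv0, hfin⟩ : ∃ (s' c' : S) (v0 : M),
      ((s' = s0 ∧ c' = c) ∨ (s' = r * s0 ∧ c' = c * b)) ∧ v0 ≠ 0 ∧ ρ c' v0 = v0 := by
    by_cases h1 : av ρ c m ≠ 0
    · exact ⟨s0, c, _, Or.inl ⟨rfl, rfl⟩, h1, av_fixed ρ (hA.2 _ hcA) m⟩
    by_cases h2 : av ρ b m ≠ 0
    · refine ⟨s0, c, ρ r⁻¹ (av ρ b m), Or.inl ⟨rfl, rfl⟩, fun h => h2 ?_, ?_⟩
      · have := congrArg (ρ r) h
        rwa [← app, mul_inv_cancel, map_one, Module.End.one_apply, map_zero] at this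
      · rw [← app, show c * r⁻¹ = r⁻¹ * b by rw [hb]; group, app, av_fixed ρ (hA.2 _ hbA) m]
    by_cases h3 : av ρ (c * b) m ≠ 0
    · exact ⟨r * s0, c * b, _, Or.inr ⟨rfl, rfl⟩, h3, av_fixed ρ (hA.2 _ (mul_mem hcA hbA)) m⟩
    have h4 : av ρ (c * (b * b)) m ≠ 0 := fun h4 => by
      push Not at h1 h2 h3
      rw [h1, h2, h3, h4] at hsum
      simp at hsum
      exact hm hsum.symm
    set w := c * (b * b) with hw
    have hwA : w ∈ A := mul_mem hcA (mul_mem hbA hbA)
    refine ⟨r * s0, c * b, ρ r (av ρ w m), Or.inr ⟨rfl, rfl⟩, fun h => h4 ?_, ?_⟩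
    · have := congrArg (ρ r⁻¹) h
      rwa [← app, inv_mul_cancel, map_one, Module.End.one_apply, map_zero] at this
    · have e5 : r⁻¹ * (c * b) * r = w := by
        calc r⁻¹ * (c * b) * r = (z⁻¹ * b * z) * c := by rw [hb, hz]; group
          _ = b⁻¹ * c := by rw [hzz, hzinv b hbA]
          _ = b * b * c := by rw [inv_eq_of_mul_eq_one_right (show b * (b * b) = 1 by rw [← mul_assoc]; exact hA3 b hbA)]
          _ = w := hAc _ (mul_mem hbA hbA) c hcA
      rw [← app, show c * b * r = r * w by rw [← e5]; group, app, av_fixed ρ (hA.2 _ hwA) m]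
  have hs'2 : s' * s' = 1 ∧ s' * r * s' = r⁻¹ ∧ s' * o' = o' * s' ∧ o' ∈ A ∧ A ≤ closure {o', r * o' * r⁻¹} ∧
      s0 ∈ closure ({r, s', o', r * o' * r⁻¹} : Set S) := by
    rcases hsv with ⟨rfl, rfl⟩ | ⟨rfl, rfl⟩
    · exact ⟨hs2, hsr, hsc, hcA, hgenA, subset_closure (by simp)⟩
    · have e3 : r * s0 * (r * s0) = 1 := by
        calc r * s0 * (r * s0) = r * (s0 * r * s0) := by group
          _ = 1 := by rw [hsr, mul_inv_cancel]
      refine ⟨e3, ?_, ?_, mul_mem hcA hbA, ?_, ?_⟩
      · calc r * s0 * r * (r * s0) = r * (s0 * r * s0) * (s0 * r * s0) := by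
              have : r * (s0 * r * s0) * (s0 * r * s0) = r * s0 * r * (s0 * s0) * r * s0 := by group
              rw [this, hs2]; group
          _ = r⁻¹ := by rw [hsr]; group
      · have e6 : s0 * r = r⁻¹ * s0 := by rw [← hsr, mul_assoc (s0 * r), hs2, mul_one]
        have hs' : s0⁻¹ = s0 := inv_eq_of_mul_eq_one_right hs2
        have ec : r * s0 * c * (r * s0)⁻¹ = b := by
          rw [mul_inv_rev, mul_assoc r s0 c, hsc, hb]; group
        have eb : r * s0 * b * (r * s0)⁻¹ = c := by
          calc r * s0 * b * (r * s0)⁻¹ = r * (s0 * b * s0⁻¹) * r⁻¹ := by group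
            _ = r * b⁻¹ * r⁻¹ := by rw [hs', hs0b]
            _ = (z * c * z⁻¹)⁻¹ := by rw [hb, hz]; simp [mul_assoc]
            _ = c := by rw [hzz, hzinv c hcA, inv_inv]
        calc r * s0 * (c * b) = (r * s0 * c * (r * s0)⁻¹) * (r * s0 * b * (r * s0)⁻¹) * (r * s0) := by group
          _ = c * b * (r * s0) := by rw [ec, eb, hcb]
      · have e7 : r * (c * b) * r⁻¹ = b * c⁻¹ := by
          calc r * (c * b) * r⁻¹ = b * (z * c * z⁻¹) := by rw [hb, hz]; group
            _ = b * c⁻¹ := by rw [hzz, hzinv c hcA]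
        rw [e7]
        refine hgenA.trans ((closure_le _).2 ?_)
        have m1 : c * b ∈ closure ({c * b, b * c⁻¹} : Set S) := subset_closure (by simp)
        have m2 : b * c⁻¹ ∈ closure ({c * b, b * c⁻¹} : Set S) := subset_closure (by simp)
        have hbm : b ∈ closure ({c * b, b * c⁻¹} : Set S) := by
          have : (c * b * (b * c⁻¹))⁻¹ = b := by
            calc (c * b * (b * c⁻¹))⁻¹ = c * (b * b)⁻¹ * c⁻¹ := by group
              _ = c * b * c⁻¹ := by rw [inv_eq_of_mul_eq_one_right (hA3 b hbA)]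
              _ = b := by rw [hcb]; group
          have h := inv_mem (mul_mem m1 m2)
          rwa [this] at h
        have hcm : c ∈ closure ({c * b, b * c⁻¹} : Set S) := by
          have h := mul_mem m1 (inv_mem hbm)
          rwa [mul_inv_cancel_right] at h
        intro g hg
        rcases hg with h | h
        · rw [h]; exact hcm
        · rw [show g = b from h]; exact hbm
      · rw [show s0 = r⁻¹ * (r * s0) by group]
        exact mul_mem (inv_mem (subset_closure (by simp))) (subset_closure (by simp))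
  obtain ⟨h2, h3, h4, hoA, hogen, hos⟩ := hs'2
  obtain ⟨hcard, hB2, hB1⟩ := core ρ hirr A hA0 r s' o' (r * o' * r⁻¹) hoA (hA.2 _ hoA)
    (fun a ha => hogen ha) (hgenS s' o' _ (subset_closure (by simp)) hogen hos) h2 hr4 h3 rfl
    (hAc _ hoA _ (hconjA r _ hoA)) h4 hzinv v0 hv0 hfin
  refine ⟨hcard, ?_⟩
  -- the two four-groups
  have hs'X : s' ∈ X := by
    rcases hsv with ⟨rfl, -⟩ | ⟨rfl, -⟩
    · exact hsX
    · exact mul_mem hrX hsX
  set t := r * s' with ht
  have htX : t ∈ X := mul_mem hrX hs'X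
  have four : ∀ g ∈ X, g * g = 1 → g ≠ 1 → g ≠ z → g * z = z * g →
      ∃ B : Subgroup S, B ≤ X ∧ Nat.card B = 4 ∧ (∀ b ∈ B, b ^ 2 = 1) ∧
        (B : Set S) = {1, z, g, g * z} := by
    intro g hg hgg hg1 hgz hgzc
    let B : Subgroup S :=
      { carrier := {1, z, g, g * z}
        one_mem' := by simp
        mul_mem' := fun {x y} hx hy => by
          simp only [Set.mem_insert_iff, Set.mem_singleton_iff] at hx hy ⊢
          have k1 : ∀ x, g * (g * x) = x := fun x => by rw [← mul_assoc, hgg, one_mul]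
          have k2 : ∀ x, z * (g * x) = g * (z * x) := fun x => by rw [← mul_assoc, ← hgzc, mul_assoc]
          rcases hx with rfl | rfl | rfl | rfl <;> rcases hy with rfl | rfl | rfl | rfl <;>
            simp [mul_assoc, hr4, hgg, hgzc.symm, k1, k2]
        inv_mem' := fun {x} hx => by
          simp only [Set.mem_insert_iff, Set.mem_singleton_iff] at hx ⊢
          rcases hx with rfl | rfl | rfl | rfl <;>
            simp [hzz, inv_eq_of_mul_eq_one_right hgg, ← hgzc] }
    refine ⟨B, ?_, ?_, ?_, rfl⟩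
    · rintro x (rfl | rfl | rfl | rfl)
      exacts [one_mem X, hzX, hg, mul_mem hg hzX]
    · rw [← SetLike.coe_sort_coe, Nat.card_coe_set_eq]
      show ({1, z, g, g * z} : Set S).ncard = 4
      have d1 : z ≠ g * z := fun h => hg1 (right_eq_mul.1 h)
      have d2 : g ≠ g * z := fun h => hz1 (left_eq_mul.1 h)
      have d3 : (1 : S) ≠ g * z := fun h => hgz (by
        calc g = g * (z * z) := by rw [hr4, mul_one]
          _ = z := by rw [← mul_assoc, ← h, one_mul])
      rw [Set.ncard_insert_of_notMem (by simp [hz1.symm, hg1.symm, d3]),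
        Set.ncard_insert_of_notMem (by simp [hgz.symm, d1]), Set.ncard_pair d2]
    · rintro x (rfl | rfl | rfl | rfl)
      · simp
      · rw [pow_two]; exact hr4
      · rw [pow_two]; exact hgg
      · rw [pow_two, mul_assoc, ← mul_assoc z, ← hgzc, mul_assoc g z z, hr4, mul_one, hgg]
  have hfix : ∀ (B : Subgroup S) (g : S), (B : Set S) = {1, z, g, g * z} →
      Nat.card {m : M // ∀ b ∈ B, ρ b m = m} = Nat.card {m : M // ρ (r * r) m = m ∧ ρ g m = m} := by
    intro B g hB
    refine Nat.card_congr (Equiv.subtypeEquivRight fun m => ⟨fun h => ?_, fun h b hb => ?_⟩)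
    · refine ⟨h z ?_, h g ?_⟩ <;> (rw [← SetLike.mem_coe, hB]; simp)
    · rw [← SetLike.mem_coe, hB] at hb
      rcases hb with rfl | rfl | rfl | rfl
      · simp
      · exact h.1
      · exact h.2
      · rw [app, h.1, h.2]
  have htt : t * t = 1 := by
    calc t * t = r * (s' * r * s') := by rw [ht]; group
      _ = 1 := by rw [h3, mul_inv_cancel]
  have htz : t * z = z * t := by
    have hz' : s' * z = z * s' := by
      calc s' * z = (s' * r * s') * (s' * r * s') * s' := by
            have : (s' * r * s') * (s' * r * s') * s' = s' * r * (s' * s') * r * (s' * s') := by group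
            rw [this, h2, hz]; group
        _ = z⁻¹ * s' := by rw [h3, hz]; group
        _ = z * s' := by rw [hzz]
    calc t * z = r * (z * s') := by rw [ht, mul_assoc, hz']
      _ = z * t := by rw [ht, hz]; group
  have ht1 : t ≠ 1 := fun h => by
    have h5 : s' = r⁻¹ := eq_inv_of_mul_eq_one_right h
    rw [h5, ← mul_inv_rev, inv_eq_one] at h2
    exact hz1 h2
  have htz' : t ≠ z := fun h => by
    have hsr' : s' = r := mul_left_cancel (h.trans hz)
    rw [hsr'] at h2
    exact hz1 (by rw [hz]; exact h2)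
  obtain ⟨B, hBX, hB4, hB2', hBc⟩ := four t htX htt ht1 htz' htz
  refine ⟨B, ⟨hBX, hB4, hB2', by rw [hfix B t hBc]; exact hB2⟩, ?_⟩
  rintro B' ⟨hB'X, hB'4, hB'2, hB'f⟩
  have hsub : ∀ x ∈ B', x = 1 ∨ x = z ∨ x = s' ∨ x = s' * z ∨ x = t ∨ x = t * z := by
    intro x hx
    rcases hsv with ⟨rfl, -⟩ | ⟨rfl, -⟩
    · exact hinvol x (hB'X hx) (by rw [← pow_two]; exact hB'2 x hx)
    · have e8 : t = s0 * z := by
        rw [ht, ← mul_assoc, ← hz]
        have hsz : s0 * z = (s0 * r * s0) * (s0 * r * s0) * s0 := by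
          have : (s0 * r * s0) * (s0 * r * s0) * s0 = s0 * r * (s0 * s0) * r * (s0 * s0) := by group
          rw [this, hs2, hz]; group
        rw [hsz, hsr, ← mul_inv_rev, ← hz, hzz]
      rcases hinvol x (hB'X hx) (by rw [← pow_two]; exact hB'2 x hx) with h | h | h | h | h | h
      · exact Or.inl h
      · exact Or.inr (Or.inl h)
      · right; right; right; right; right
        rw [h, e8, mul_assoc, hr4, mul_one]
      · right; right; right; right; left
        rw [h, e8]
      · exact Or.inr (Or.inr (Or.inl h))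
      · exact Or.inr (Or.inr (Or.inr (Or.inl h)))
  by_cases hcase : s' ∈ B' ∨ s' * z ∈ B'
  · exfalso
    have hnt : ∀ x ∈ B', x ≠ t ∧ x ≠ t * z := by
      intro x hx
      have key : ∀ y : S, y ∈ B' → y ≠ r ∧ y ≠ r * z := fun y hy => by
        have hy2 := hB'2 y hy
        constructor <;> rintro rfl <;> rw [pow_two] at hy2
        · exact hz1 hy2
        · rw [← hrinv, ← mul_inv_rev, inv_eq_one] at hy2; exact hz1 hy2
      have hz'' : s' * z = z * s' := by
        have := htz
        rw [ht, mul_assoc] at this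
        calc s' * z = r⁻¹ * (r * (s' * z)) := by group
          _ = r⁻¹ * (z * (r * s')) := by rw [this]
          _ = z * s' := by rw [hz]; group
      rcases hcase with hs | hs
      · constructor <;> rintro rfl
        · exact (key _ (mul_mem hx hs)).1 (by rw [ht, mul_assoc, h2, mul_one])
        · exact (key _ (mul_mem hx hs)).2 (by rw [ht, mul_assoc, ← hz'', mul_assoc r, ← mul_assoc s', h2, one_mul])
      · constructor <;> rintro rfl
        · exact (key _ (mul_mem hx hs)).2 (by rw [ht, mul_assoc, ← mul_assoc s', h2, one_mul])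
        · exact (key _ (mul_mem hx hs)).1 (by
            rw [ht, mul_assoc (r * s'), ← mul_assoc z, ← hz'', mul_assoc s', hr4, mul_one, mul_assoc, h2, mul_one])
    have hset : (B' : Set S) = {1, z, s', s' * z} := by
      refine Set.eq_of_subset_of_ncard_le (fun x hx => ?_) ?_ (Set.toFinite _)
      · simp only [Set.mem_insert_iff, Set.mem_singleton_iff]
        rcases hsub x hx with h | h | h | h | h | h
        exacts [Or.inl h, Or.inr (Or.inl h), Or.inr (Or.inr (Or.inl h)), Or.inr (Or.inr (Or.inr h)),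
          absurd h (hnt x hx).1, absurd h (hnt x hx).2]
      · rw [← Nat.card_coe_set_eq (B' : Set S), SetLike.coe_sort_coe, hB'4]
        calc ({1, z, s', s' * z} : Set S).ncard ≤ ({z, s', s' * z} : Set S).ncard + 1 := Set.ncard_insert_le _ _
          _ ≤ ({s', s' * z} : Set S).ncard + 1 + 1 := by gcongr; exact Set.ncard_insert_le _ _
          _ ≤ ({s' * z} : Set S).ncard + 1 + 1 + 1 := by gcongr; exact Set.ncard_insert_le _ _
          _ = 4 := by rw [Set.ncard_singleton]
    rw [hfix B' s' hset] at hB'f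
    exact hB1 hB'f
  · push Not at hcase
    refine eq_of_le_of_card_ge (fun x hx => ?_) (by rw [hB4, hB'4])
    rw [← SetLike.mem_coe, hBc]
    simp only [Set.mem_insert_iff, Set.mem_singleton_iff]
    rcases hsub x hx with h | h | h | h | h | h
    · exact Or.inl h
    · exact Or.inr (Or.inl h)
    · exact absurd (h ▸ hx) hcase.1
    · exact absurd (h ▸ hx) hcase.2
    · exact Or.inr (Or.inr (Or.inl h))
    · exact Or.inr (Or.inr (Or.inr h))

end Cfsg.Agent.S4407
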