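import Cfsg.Statements.S4408
import Cfsg.Agent.Lib.ClassK.AxB
import Cfsg.Agent.Lib.Basics.CoprimeGen
import Cfsg.Agent.Lib.Basics.Cores
import Mathlib

set_option autoImplicit false
open Cfsg
open scoped Pointwise
set_option linter.all false

namespace Cfsg.Agent.S4408

open Cfsg.Agent Subgroup

variable {S : Type*} [Group S] [Finite S]

omit [Finite S] in
theorem card_sup_commute {H K : Subgroup S} (hc : ∀ a ∈ H, ∀ b ∈ K, Commute a b) (hd : H ⊓ K = ⊥) :
    Nat.card (H ⊔ K : Subgroup S) = Nat.card H * Nat.card K := by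
  let f : H × K →* S := MonoidHom.noncommCoprod H.subtype K.subtype fun a b => hc a a.2 b b.2
  have hf : Function.Injective f := by
    refine (injective_iff_map_eq_one f).2 fun z hz => ?_
    have hz' : (z.1 : S) * z.2 = 1 := hz
    have h1 : (z.1 : S) ∈ H ⊓ K :=
      mem_inf.2 ⟨z.1.2, by rw [eq_inv_of_mul_eq_one_left hz']; exact inv_mem z.2.2⟩
    rw [hd, mem_bot] at h1
    rw [h1, one_mul] at hz'
    exact Prod.ext (Subtype.ext h1) (Subtype.ext hz')
  have hr : f.range = H ⊔ K := by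
    exact (MonoidHom.noncommCoprod_range _ _ _).trans (by rw [range_subtype, range_subtype])
  rw [← hr, ← Nat.card_prod]
  exact (Nat.card_congr (MonoidHom.ofInjective hf).toEquiv).symm

/-- `A × B` over the Sylow subgroups of a nilpotent group. -/
theorem centralize_of_centralize_sub {D : Subgroup S} (hD : Group.IsNilpotent D) {x y : S} {q : ℕ}
    [Fact q.Prime] (hy : orderOf y = q) (hyD : y ∈ D) (hxD : x ∈ normalizer (D : Set S))
    (hxy : Commute x y) (hx : (orderOf x).Coprime q) (h : ∀ a ∈ D, Commute y a → Commute x a) :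
    ∀ a ∈ D, Commute x a := by
  classical
  let C := (centralizer ({x} : Set S)).subgroupOf D
  suffices hC : C = ⊤ by
    intro a ha
    have h1 : (⟨a, ha⟩ : D) ∈ C := hC ▸ mem_top _
    exact (mem_centralizer_singleton_iff.1 h1).symm
  rw [← index_eq_one]
  by_contra hne
  obtain ⟨p, hp, hpd⟩ := Nat.exists_prime_and_dvd hne
  haveI := Fact.mk hp
  haveI := hD
  let P : Sylow p D := default
  haveI hPn : (P : Subgroup D).Normal := Sylow.normal_of_normalizerCondition Group.normalizerCondition_of_isNilpotent P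
  have hPC : (P : Subgroup D) ≤ C := by
    rintro ⟨z, hz⟩ hzP
    refine mem_centralizer_singleton_iff.2 (Commute.eq ?_).symm
    rcases eq_or_ne p q with rfl | hpq
    · let P' := (P : Subgroup D).map D.subtype
      have hin : ∀ w ∈ D, (∃ j, orderOf w = p ^ j) → w ∈ P' := by
        rintro w hw ⟨j, hj⟩
        have hpg : IsPGroup p (zpowers (⟨w, hw⟩ : D)) := IsPGroup.of_card (n := j) (by
          rw [Nat.card_zpowers, Subgroup.orderOf_mk, hj])
        obtain ⟨R, hR⟩ := hpg.exists_le_sylow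
        haveI := Sylow.unique_of_normal P hPn
        exact ⟨⟨w, hw⟩, (Subsingleton.elim P R).symm ▸ hR (mem_zpowers _), rfl⟩
      have hy' : ∀ v ∈ zpowers y, Commute x v := by
        rintro _ ⟨i, rfl⟩
        exact hxy.zpow_right i
      have hxP : x ∈ normalizer (P' : Set S) := by
        refine mem_normalizer_iff.2 fun w => ⟨fun hw => ?_, fun hw => ?_⟩
        · obtain ⟨j, hj⟩ := IsPGroup.iff_orderOf.1 (P.2.map D.subtype) ⟨w, hw⟩
          rw [Subgroup.orderOf_mk] at hj
          exact hin _ ((mem_normalizer_iff.1 hxD w).1 (map_subtype_le _ hw))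
            ⟨j, by rw [← hj]; exact MulEquiv.orderOf_eq (MulAut.conj x) w⟩
        · obtain ⟨j, hj⟩ := IsPGroup.iff_orderOf.1 (P.2.map D.subtype) ⟨_, hw⟩
          rw [Subgroup.orderOf_mk] at hj
          exact hin _ ((mem_normalizer_iff.1 hxD w).2 (map_subtype_le _ hw))
            ⟨j, by rw [← hj]; exact (MulEquiv.orderOf_eq (MulAut.conj x) w).symm⟩
      refine ClassK.axb_lemma (p := p) (U := zpowers y) (P := P')
        (IsPGroup.of_card (n := 1) (by rw [Nat.card_zpowers, hy, pow_one])) (P.2.map D.subtype) ?_ hxP hx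
        ?_ ?_ z ⟨⟨z, hz⟩, hzP, rfl⟩
      · exact (zpowers_le.2 (hin y hyD ⟨1, by rw [hy, pow_one]⟩)).trans le_normalizer
      · intro u hu a _
        rw [show x * u * x⁻¹ * u⁻¹ = 1 by rw [(hy' u hu).eq]; group]
        exact Commute.one_left a
      · exact fun a ha hau => h a (map_subtype_le _ ha) (hau y (mem_zpowers y))
    · refine h z hz ?_
      let Q : Sylow q D := default
      haveI hQn : (Q : Subgroup D).Normal := Sylow.normal_of_normalizerCondition Group.normalizerCondition_of_isNilpotent Q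
      have hpg : IsPGroup q (zpowers (⟨y, hyD⟩ : D)) := IsPGroup.of_card (n := 1) (by
        rw [Nat.card_zpowers, Subgroup.orderOf_mk, hy, pow_one])
      obtain ⟨R, hR⟩ := hpg.exists_le_sylow
      haveI := Sylow.unique_of_normal Q hQn
      have hyQ : (⟨y, hyD⟩ : D) ∈ (Q : Subgroup D) := (Subsingleton.elim Q R).symm ▸ hR (mem_zpowers _)
      exact congrArg Subtype.val (Subgroup.commute_of_normal_of_disjoint _ _ hQn hPn
        (IsPGroup.disjoint_of_ne q p hpq.symm _ _ Q.2 P.2) _ _ hyQ hzP).eq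
  exact P.not_dvd_index (hpd.trans (index_dvd_of_le hPC))

theorem key {F I : Subgroup S} (hF : Group.IsNilpotent F) (hodd : Odd (Nat.card F))
    (hI : Cfsg.IsElementaryAbelian 2 I) :
    ∀ (m : ℕ) (J D : Subgroup S), J ≤ I → D ≤ F → I ≤ normalizer (D : Set S) →
      J ⊓ centralizer (D : Set S) = ⊥ → Nat.card J = 2 ^ m →
      ∃ f : Fin m → Subgroup S, (∀ i, (Nat.card ↥(f i)).Prime) ∧ (∀ i, f i ≤ D) ∧
        (∀ i, I ≤ normalizer ((f i) : Set S)) ∧
        (∀ i j, i ≠ j → ∀ a ∈ f i, ∀ b ∈ f j, a * b = b * a) ∧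
        Nat.card ↥(⨆ i, f i) = ∏ i, Nat.card ↥(f i) ∧
        J ⊓ centralizer ((⨆ i, f i : Subgroup S) : Set S) = ⊥ ∧
        (⨆ i, f i) ⊓ centralizer (J : Set S) = ⊥ := by
  haveI : IsMulCommutative I := hI.1
  have hIc : ∀ a ∈ I, ∀ b ∈ I, a * b = b * a := fun a ha b hb =>
    congrArg Subtype.val (hI.1.is_comm.comm ⟨a, ha⟩ ⟨b, hb⟩)
  have hI2 : ∀ a ∈ I, a * a = 1 := fun a ha => by
    have h := hI.2 a ha
    rwa [pow_two] at h
  have hinv : ∀ a ∈ I, a⁻¹ = a := fun a ha => inv_eq_of_mul_eq_one_right (hI2 a ha)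
  have hIp : IsPGroup 2 I := fun g => ⟨1, Subtype.ext (by
    rw [pow_one]; exact hI.2 g g.2)⟩
  intro m
  induction m with
  | zero =>
    intro J D _ _ _ _ hJ
    refine ⟨Fin.elim0, fun i => i.elim0, fun i => i.elim0, fun i => i.elim0, fun i => i.elim0, ?_, ?_, ?_⟩
    · rw [iSup_of_empty, card_bot, Finset.univ_eq_empty, Finset.prod_empty]
    · rw [eq_bot_of_card_eq J (by rw [hJ, pow_zero]), bot_inf_eq]
    · rw [iSup_of_empty, bot_inf_eq]
  | succ m ih =>
  intro J D hJI hDF hID hJD hJ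
  have hDodd : Odd (Nat.card D) := Odd.of_dvd_nat hodd (card_dvd_of_le hDF)
  have hcop : (Nat.card I).Coprime (Nat.card D) := by
    obtain ⟨k, hk⟩ := IsPGroup.iff_card.1 hIp
    rw [hk]
    exact (Nat.coprime_two_left.2 hDodd).pow_left k
  obtain ⟨B, hBI, x, hx, hBx, a, haJ, e, he, hae⟩ : ∃ B : Subgroup S, B ≤ I ∧ ∃ x ∈ I,
      B ⊔ zpowers x = I ∧ ∃ a ∈ J, ∃ e ∈ D ⊓ centralizer (B : Set S), a * e ≠ e * a := by
    by_contra hcon
    push Not at hcon
    have h1 : D ≤ centralizer (J : Set S) :=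
      (Basics.le_iSup_inf_centralizer_cyclic I D hID hcop).trans (iSup₂_le fun B hB => by
        obtain ⟨hB1, x, hx, hB2⟩ := hB
        exact fun e he => mem_centralizer_iff.2 fun a ha => hcon B hB1 x hx hB2 a ha e he)
    have h2 : J ≤ centralizer (D : Set S) := fun a ha =>
      mem_centralizer_iff.2 fun e he => (mem_centralizer_iff.1 (h1 he) a ha).symm
    rw [inf_eq_left.2 h2] at hJD
    rw [hJD, card_bot] at hJ
    exact absurd hJ.symm (Nat.one_lt_pow (by omega) (by norm_num)).ne'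
  have hdec : ∀ i ∈ I, i ∈ B ∨ x * i ∈ B := by
    let K : Subgroup S :=
      { carrier := {i | i ∈ I ∧ (i ∈ B ∨ x * i ∈ B)}
        one_mem' := ⟨one_mem I, Or.inl (one_mem B)⟩
        mul_mem' := by
          rintro u v ⟨hu, hu'⟩ ⟨hv, hv'⟩
          refine ⟨mul_mem hu hv, ?_⟩
          rcases hu' with hu' | hu' <;> rcases hv' with hv' | hv'
          · exact Or.inl (mul_mem hu' hv')
          · refine Or.inr ?_
            rw [← mul_assoc, hIc x hx u hu, mul_assoc]
            exact mul_mem hu' hv'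
          · exact Or.inr (by rw [← mul_assoc]; exact mul_mem hu' hv')
          · refine Or.inl ?_
            have h := mul_mem hu' hv'
            rwa [show x * u * (x * v) = (x * x) * (u * v) by
              rw [mul_assoc x u, ← mul_assoc u x v, ← hIc x hx u hu]; group, hI2 x hx, one_mul] at h
        inv_mem' := fun {u} hu => by rw [hinv u hu.1]; exact hu }
    have hle : B ⊔ zpowers x ≤ K := sup_le (fun b hb => ⟨hBI hb, Or.inl hb⟩)
      (zpowers_le.2 ⟨hx, Or.inr (by rw [hI2 x hx]; exact one_mem B)⟩)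
    exact fun i hi => (hle (hBx.symm ▸ hi)).2
  have heC : ∀ b ∈ B, b * e = e * b := fun b hb => mem_centralizer_iff.1 (mem_inf.1 he).2 b hb
  have haI : a ∈ I := hJI haJ
  have haB : a ∉ B := fun h => hae (heC a h)
  set y₀ := e⁻¹ * (a * e * a) with hy₀
  have hy₀a : a * y₀ * a = y₀⁻¹ := by
    rw [hy₀, show (e⁻¹ * (a * e * a))⁻¹ = a⁻¹ * e⁻¹ * a⁻¹ * e by group, hinv a haI,
      show a * (e⁻¹ * (a * e * a)) * a = a * e⁻¹ * a * e * (a * a) by group, hI2 a haI, mul_one]
  have hy₀ne : y₀ ≠ 1 := fun h => hae (by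
    have h1 : a * e * a = e := (inv_mul_eq_one.1 h).symm
    calc a * e = a * e * (a * a) := by rw [hI2 a haI, mul_one]
      _ = (a * e * a) * a := by group
      _ = e * a := by rw [h1])
  have hy₀D : y₀ ∈ D := by
    have h1 := (mem_normalizer_iff.1 (hID haI) e).1 (mem_inf.1 he).1
    rw [hinv a haI] at h1
    exact mul_mem (inv_mem (mem_inf.1 he).1) h1
  have hy₀B : ∀ b ∈ B, Commute b y₀ := fun b hb =>
    (Commute.inv_right (heC b hb)).mul_right (((show Commute b a from hIc b (hBI hb) a haI).mul_right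
      (heC b hb)).mul_right (hIc b (hBI hb) a haI))
  obtain ⟨q, hq, hqd⟩ := Nat.exists_prime_and_dvd (fun h => hy₀ne (orderOf_eq_one_iff.1 h))
  haveI := Fact.mk hq
  set y := y₀ ^ (orderOf y₀ / q) with hydef
  have hy : orderOf y = q := orderOf_pow_orderOf_div (orderOf_pos y₀).ne' hqd
  have hyD : y ∈ D := pow_mem hy₀D _
  have hyB : ∀ b ∈ B, Commute b y := fun b hb => (hy₀B b hb).pow_right _
  have hya : a * y * a⁻¹ = y⁻¹ := by
    rw [hydef, ← conj_pow, hinv a haI, hy₀a, inv_pow]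
  have hqodd : q ≠ 2 := by
    rintro rfl
    exact (Nat.not_even_iff_odd.2 hDodd) (even_iff_two_dvd.2 (hy ▸ orderOf_dvd_natCard _ hyD))
  have hyI : ∀ i ∈ I, i * y * i⁻¹ ∈ zpowers y := by
    intro i hi
    have hBa : i ∈ B ∨ a * i ∈ B := by
      rcases hdec i hi with h | h
      · exact Or.inl h
      · have h' := mul_mem ((hdec a haI).resolve_left haB) h
        rw [show x * a * (x * i) = (x * x) * (a * i) by
          rw [mul_assoc x a, ← mul_assoc a x i, ← hIc x hx a haI]; group, hI2 x hx, one_mul] at h'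
        exact Or.inr h'
    rcases hBa with h | h
    · rw [(hyB i h).eq, mul_inv_cancel_right]; exact mem_zpowers y
    · have e1 : i = a * (a * i) := by rw [← mul_assoc, hI2 a haI, one_mul]
      rw [e1, show a * (a * i) * y * (a * (a * i))⁻¹ = a * ((a * i) * y * (a * i)⁻¹) * a⁻¹ by group,
        (hyB _ h).eq, mul_inv_cancel_right, hya]
      exact inv_mem (mem_zpowers y)
  set L := zpowers y with hL
  have hLN : I ≤ normalizer (L : Set S) := fun i hi => by
    have h1 : L.map (MulAut.conj i).toMonoidHom ≤ L := by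
      rw [hL, MonoidHom.map_zpowers]
      exact zpowers_le.2 (hyI i hi)
    exact mem_normalizer_iff_map_conj_eq.2 (eq_of_le_of_card_ge h1
      (Nat.card_congr (L.equivMapOfInjective _ (MulAut.conj i).injective).toEquiv).le)
  set D' := D ⊓ centralizer ({y} : Set S) with hD'
  have hID' : I ≤ normalizer (D' : Set S) := fun i hi => by
    refine mem_normalizer_fintype (fun z hz => ?_)
    obtain ⟨hz1, hz2⟩ := mem_inf.1 hz
    refine mem_inf.2 ⟨(mem_normalizer_iff.1 (hID hi) z).1 hz1, mem_centralizer_singleton_iff.2 ?_⟩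
    obtain ⟨k, hk⟩ := hyI i⁻¹ (inv_mem hi)
    have hc : Commute z (i⁻¹ * y * i⁻¹⁻¹) := hk ▸ (show Commute z y from mem_centralizer_singleton_iff.1 hz2).zpow_right k
    have h2 := hc.map (MulAut.conj i).toMonoidHom
    simpa [mul_assoc] using h2.eq
  have hDnil : Group.IsNilpotent D :=
    Group.nilpotent_of_mulEquiv (subgroupOfEquivOfLe hDF)
  set J₁ := J ⊓ B with hJ₁
  have hJ₁D : J₁ ⊓ centralizer (D' : Set S) = ⊥ := by
    refine eq_bot_iff.2 fun u hu => ?_
    obtain ⟨hu1, hu2⟩ := mem_inf.1 hu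
    obtain ⟨huJ, huB⟩ := mem_inf.1 hu1
    have hord : (orderOf u).Coprime q :=
      Nat.Coprime.coprime_dvd_left
        (orderOf_dvd_of_pow_eq_one (n := 2) (by rw [pow_two]; exact hI2 u (hBI huB)))
        (Nat.coprime_two_left.2 (hq.odd_of_ne_two hqodd))
    have h := centralize_of_centralize_sub hDnil hy hyD (hID (hBI huB)) (hyB u huB) hord
      (fun z hz hyz => (mem_centralizer_iff.1 hu2 z (mem_inf.2 ⟨hz, mem_centralizer_singleton_iff.2 hyz.eq.symm⟩)).symm)
    rw [← hJD]
    exact mem_inf.2 ⟨huJ, mem_centralizer_iff.2 fun z hz => (h z hz).eq.symm⟩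
  have haz : zpowers a ≤ I := zpowers_le.2 haI
  have hJdec : J₁ ⊔ zpowers a = J := by
    refine le_antisymm (sup_le inf_le_left (zpowers_le.2 haJ)) fun i hi => ?_
    rcases hdec i (hJI hi) with h | h
    · exact mem_sup_left (mem_inf.2 ⟨hi, h⟩)
    · have h' := mul_mem ((hdec a haI).resolve_left haB) h
      rw [show x * a * (x * i) = (x * x) * (a * i) by
        rw [mul_assoc x a, ← mul_assoc a x i, ← hIc x hx a haI]; group, hI2 x hx, one_mul] at h'
      rw [show i = a * (a * i) by rw [← mul_assoc, hI2 a haI, one_mul]]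
      exact mul_mem (mem_sup_right (mem_zpowers a)) (mem_sup_left (mem_inf.2 ⟨mul_mem haJ hi, h'⟩))
  have hao : orderOf a = 2 := orderOf_eq_prime (by rw [pow_two]; exact hI2 a haI)
    (fun h => haB (h ▸ one_mem B))
  have hJ₁card : Nat.card J₁ = 2 ^ m := by
    have hd : J₁ ⊓ zpowers a = ⊥ := by
      refine eq_bot_iff.2 fun u hu => ?_
      obtain ⟨hu1, hu2⟩ := mem_inf.1 hu
      obtain ⟨k, rfl⟩ := mem_zpowers_iff.1 hu2
      rcases Int.even_or_odd k with ⟨r, rfl⟩ | ⟨r, rfl⟩
      · rw [mem_bot, ← two_mul, zpow_mul, show a ^ (2 : ℤ) = 1 by rw [zpow_two]; exact hI2 a haI, one_zpow]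
      · exfalso
        rw [zpow_add, zpow_mul, show a ^ (2 : ℤ) = 1 by rw [zpow_two]; exact hI2 a haI, one_zpow,
          one_mul, zpow_one] at hu1
        exact haB (mem_inf.1 hu1).2
    have h := card_sup_commute (H := J₁) (K := zpowers a)
      (fun u hu v hv => hIc u (hBI (mem_inf.1 hu).2) v (haz hv)) hd
    rw [hJdec, hJ, Nat.card_zpowers, hao, pow_succ] at h
    omega
  obtain ⟨f, hf1, hf2, hf3, hf4, hf5, hf6, hf7⟩ :=
    ih J₁ D' (inf_le_left.trans hJI) (inf_le_left.trans hDF) hID' hJ₁D hJ₁card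
  set T := ⨆ i, f i with hT
  have hTD : T ≤ D' := iSup_le hf2
  have hLT : ∀ u ∈ L, ∀ v ∈ T, Commute u v := by
    intro u hu v hv
    obtain ⟨k, rfl⟩ := mem_zpowers_iff.1 hu
    exact (show Commute y v from (mem_centralizer_singleton_iff.1 (mem_inf.1 (hTD hv)).2).symm).zpow_left k
  have hLB : ∀ l ∈ L, ∀ b ∈ B, Commute b l := by
    rintro _ ⟨k, rfl⟩ b hb
    exact (hyB b hb).zpow_right k
  have hLTd : L ⊓ T = ⊥ := by
    refine eq_bot_iff.2 fun z hz => ?_
    obtain ⟨h1, h2⟩ := mem_inf.1 hz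
    rw [← hf7]
    exact mem_inf.2 ⟨h2, mem_centralizer_iff.2 fun j hj => (hLB z h1 j (mem_inf.1 hj).2).eq⟩
  have hsup : (⨆ i, Fin.cons (α := fun _ => Subgroup S) L f i) = L ⊔ T := by
    refine le_antisymm (iSup_le fun i => ?_) (sup_le ?_ (iSup_le fun i => ?_))
    · refine Fin.cases ?_ (fun j => ?_) i
      · exact le_sup_left
      · rw [Fin.cons_succ]; exact (le_iSup f j).trans le_sup_right
    · exact le_iSup_of_le 0 (by rw [Fin.cons_zero])
    · exact le_iSup_of_le i.succ (by rw [Fin.cons_succ])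
  refine ⟨Fin.cons L f, ?_, ?_, ?_, ?_, ?_, ?_, ?_⟩
  · refine Fin.cases ?_ fun j => ?_
    · rw [Fin.cons_zero, hL, Nat.card_zpowers, hy]; exact hq
    · rw [Fin.cons_succ]; exact hf1 j
  · refine Fin.cases ?_ fun j => ?_
    · rw [Fin.cons_zero]; exact zpowers_le.2 hyD
    · rw [Fin.cons_succ]; exact (hf2 j).trans inf_le_left
  · refine Fin.cases ?_ fun j => ?_
    · rw [Fin.cons_zero]; exact hLN
    · rw [Fin.cons_succ]; exact hf3 j
  · refine Fin.cases (Fin.cases (fun h => absurd rfl h) fun j _ => ?_) (fun i => Fin.cases (fun _ => ?_) fun j hij => ?_)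
    · rw [Fin.cons_zero, Fin.cons_succ]
      exact fun u hu v hv => (hLT u hu v (le_iSup f j hv)).eq
    · rw [Fin.cons_zero, Fin.cons_succ]
      exact fun u hu v hv => (hLT v hv u (le_iSup f i hu)).eq.symm
    · rw [Fin.cons_succ, Fin.cons_succ]
      exact hf4 i j fun h => hij (by rw [h])
  · rw [hsup, card_sup_commute hLT hLTd, hf5, Fin.prod_univ_succ]
    simp
  · rw [hsup]
    refine eq_bot_iff.2 fun j hj => ?_
    obtain ⟨hjJ, hjC⟩ := mem_inf.1 hj
    have hjy : y * j = j * y := mem_centralizer_iff.1 hjC y (mem_sup_left (mem_zpowers y))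
    by_cases hjB : j ∈ B
    · rw [← hf6]
      exact mem_inf.2 ⟨mem_inf.2 ⟨hjJ, hjB⟩, mem_centralizer_iff.2 fun t ht =>
        mem_centralizer_iff.1 hjC t (mem_sup_right ht)⟩
    · exfalso
      have hj' : a * j ∈ B := by
        have h' := mul_mem ((hdec a haI).resolve_left haB) ((hdec j (hJI hjJ)).resolve_left hjB)
        rwa [show x * a * (x * j) = (x * x) * (a * j) by
          rw [mul_assoc x a, ← mul_assoc a x j, ← hIc x hx a haI]; group, hI2 x hx, one_mul] at h'
      have h1 : (a * j) * y * (a * j)⁻¹ = y := by rw [(hyB _ hj').eq, mul_inv_cancel_right]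
      rw [show a * j * y * (a * j)⁻¹ = a * (j * y * j⁻¹) * a⁻¹ by group, ← hjy, mul_inv_cancel_right,
        hya] at h1
      have h2 : y ^ 2 = 1 := by rw [pow_two]; nth_rewrite 1 [← h1]; exact inv_mul_cancel y
      have h3 := orderOf_dvd_of_pow_eq_one h2
      rw [hy] at h3
      exact hqodd ((Nat.prime_dvd_prime_iff_eq hq Nat.prime_two).1 h3)
  · rw [hsup]
    refine eq_bot_iff.2 fun z hz => ?_
    obtain ⟨hz1, hz2⟩ := mem_inf.1 hz
    have hnorm : L ≤ normalizer (T : Set S) := fun u hu => mem_normalizer_iff.2 fun v => by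
      constructor
      · intro hv; rwa [(hLT u hu v hv).eq, mul_inv_cancel_right]
      · intro hv
        have h := hLT u hu _ hv
        have : v = u * v * u⁻¹ := by
          calc v = u⁻¹ * (u * v * u⁻¹) * u := by group
            _ = u⁻¹ * (u * (u * v * u⁻¹)) := by rw [h.eq, mul_assoc]
            _ = u * v * u⁻¹ := by group
        rwa [this]
    rw [sup_comm, ← SetLike.mem_coe, coe_mul_of_right_le_normalizer_left _ _ hnorm] at hz1
    obtain ⟨t, ht, l, hl, rfl⟩ := hz1
    have ht1 : t = 1 := by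
      rw [← mem_bot, ← hf7]
      refine mem_inf.2 ⟨ht, mem_centralizer_iff.2 fun j hj => ?_⟩
      have h1 : j * (t * l) = t * l * j := mem_centralizer_iff.1 hz2 j (mem_inf.1 hj).1
      have h2 : j * l = l * j := (hLB l hl j (mem_inf.1 hj).2).eq
      refine mul_right_cancel (b := l) ?_
      rw [mul_assoc, h1, mul_assoc, ← h2, mul_assoc]
    subst ht1
    obtain ⟨k, rfl⟩ := mem_zpowers_iff.1 hl
    simp only [one_mul] at hz2 ⊢
    have h1 : a * y ^ k = y ^ k * a := mem_centralizer_iff.1 hz2 a haJ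
    have h2 : (y⁻¹) ^ k = y ^ k := by rw [← hya, conj_zpow, h1, mul_inv_cancel_right]
    rw [inv_zpow] at h2
    have h3 : (y ^ k) ^ 2 = 1 := by rw [pow_two]; nth_rewrite 1 [← h2]; exact inv_mul_cancel _
    have h4 : (y ^ k) ^ q = 1 := by rw [← zpow_natCast, zpow_comm, zpow_natCast, ← hy, pow_orderOf_eq_one, one_zpow]
    rw [mem_bot]
    have := pow_gcd_eq_one.2 ⟨h3, h4⟩
    rwa [Nat.coprime_iff_gcd_eq_one.1 (Nat.coprime_two_left.2 (hq.odd_of_ne_two hqodd)), pow_one] at this


/-- Let S be a finite solvable group whose Fitting subgroup F(S) has odd order, and let I be an elementary abelian 2-subgroup of S of order 2ⁿ with n ≥ 1. Then F(S) contains subgroups A₁, …, Aₙ of prime order, each normalized by I, pairwise commuting and generating a subgroup A of order |A₁|⋯|Aₙ| (their internal direct product), such that no non-identity element of I centralizes A. -/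
theorem result {S : Type*} [Group S] [Finite S]
    [Group.IsSolvable S] (hF : Odd (Nat.card ↥(Cfsg.fittingSubgroup S)))
    (I : Subgroup S) (hI : Cfsg.IsElementaryAbelian 2 I) (n : ℕ) (hn : 1 ≤ n) (hIn : Nat.card ↥I = 2 ^ n) :
    ∃ f : Fin n → Subgroup S, (∀ i, (Nat.card ↥(f i)).Prime) ∧ (∀ i, f i ≤ Cfsg.fittingSubgroup S) ∧
      (∀ i, I ≤ Subgroup.normalizer ((f i) : Set S)) ∧ (∀ i j, i ≠ j → ∀ a ∈ f i, ∀ b ∈ f j, a * b = b * a) ∧
      Nat.card ↥(⨆ i, f i) = ∏ i, Nat.card ↥(f i) ∧ I ⊓ Subgroup.centralizer ((⨆ i, f i : Subgroup S) : Set S) = ⊥ := by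
  have hFn : Group.IsNilpotent (Cfsg.fittingSubgroup S) := by
    rw [Basics.fittingSubgroup_eq_iSup_pCore]; exact Basics.isNilpotent_iSup_pCore
  haveI := Fintype.ofFinite S
  have hIF : I ⊓ Subgroup.centralizer (Cfsg.fittingSubgroup S : Set S) = ⊥ := by
    refine eq_bot_iff.2 fun u hu => ?_
    obtain ⟨hu1, hu2⟩ := Subgroup.mem_inf.1 hu
    have h1 := Basics.centralizer_fittingSubgroup_le hu2
    have h2 : orderOf u ∣ Nat.card (Cfsg.fittingSubgroup S) := Subgroup.orderOf_dvd_natCard _ h1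
    have h3 : orderOf u ∣ 2 := orderOf_dvd_of_pow_eq_one (hI.2 u hu1)
    rw [Subgroup.mem_bot, ← orderOf_eq_one_iff]
    exact Nat.eq_one_of_dvd_coprimes (Nat.coprime_two_left.2 hF) h3 h2
  have hIN : I ≤ Subgroup.normalizer (Cfsg.fittingSubgroup S : Set S) := by
    haveI : (Cfsg.fittingSubgroup S).Normal := Basics.fittingSubgroup_normal
    rw [Subgroup.normalizer_eq_top]; exact le_top
  obtain ⟨f, h1, h2, h3, h4, h5, h6, -⟩ := key hFn hF hI n I _ le_rfl le_rfl hIN hIF hIn
  exact ⟨f, h1, h2, h3, h4, h5, h6⟩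

end Cfsg.Agent.S4408
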