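import Cfsg.Statements.S4409
import Cfsg.Agent.Lib.FGS.NoAbelianEight
import Cfsg.Agent.Lib.Basics.Hall
import Cfsg.Agent.Lib.Basics.Cores
import Cfsg.Agent.Lib.LocalEvenA.FrattiniP
import Cfsg.Agent.Lib.Transfer.Extraspecial
import Cfsg.Agent.Lib.OddLocal.Rank


set_option autoImplicit false
open Cfsg
open scoped Pointwise
set_option linter.all false

namespace Cfsg.Agent.S4409

open scoped Pointwise
open scoped commutatorElement
open NoAbelianEight
set_option linter.all false

variable {G : Type*} [Group G] [Finite G]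

theorem norm_of {K Y : Subgroup G} (h : ∀ g ∈ K, ∀ y ∈ Y, g * y * g⁻¹ ∈ Y) :
    K ≤ Subgroup.normalizer (Y : Set G) := fun g hg => Subgroup.mem_normalizer_iff.2 fun y =>
  ⟨h g hg y, fun hy => by
    have := h g⁻¹ (inv_mem hg) _ hy
    simpa [mul_assoc] using this⟩

theorem norm_cent {K Y : Subgroup G} (h : K ≤ Subgroup.normalizer (Y : Set G)) :
    K ≤ Subgroup.normalizer ((Subgroup.centralizer (Y : Set G) : Subgroup G) : Set G) := by
  refine norm_of fun g hg c hc => ?_
  rw [Subgroup.mem_centralizer_iff] at hc ⊢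
  intro y hy
  have := hc _ ((Subgroup.mem_normalizer_iff.1 (h (inv_mem hg)) y).1 hy)
  rw [inv_inv] at this
  calc y * (g * c * g⁻¹) = g * (g⁻¹ * y * g * c) * g⁻¹ := by group
    _ = g * (c * (g⁻¹ * y * g)) * g⁻¹ := by rw [this]
    _ = g * c * g⁻¹ * y := by group

theorem norm_inf {K A B : Subgroup G} (hA : K ≤ Subgroup.normalizer (A : Set G))
    (hB : K ≤ Subgroup.normalizer (B : Set G)) : K ≤ Subgroup.normalizer ((A ⊓ B : Subgroup G) : Set G) :=
  norm_of fun g hg y hy =>
    ⟨(Subgroup.mem_normalizer_iff.1 (hA hg) y).1 hy.1, (Subgroup.mem_normalizer_iff.1 (hB hg) y).1 hy.2⟩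

theorem norm_sup {K A B : Subgroup G} (hA : K ≤ Subgroup.normalizer (A : Set G))
    (hB : K ≤ Subgroup.normalizer (B : Set G)) : K ≤ Subgroup.normalizer ((A ⊔ B : Subgroup G) : Set G) := by
  refine norm_of fun g hg y hy => ?_
  have : A ⊔ B ≤ (A ⊔ B).comap (MulAut.conj g).toMonoidHom := sup_le
    (fun a ha => Subgroup.mem_sup_left ((Subgroup.mem_normalizer_iff.1 (hA hg) a).1 ha))
    (fun b hb => Subgroup.mem_sup_right ((Subgroup.mem_normalizer_iff.1 (hB hg) b).1 hb))
  exact this hy

/-- Order-two subgroups are centralised by their normalizers. -/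
theorem cent_two {K Z : Subgroup G} (h : K ≤ Subgroup.normalizer (Z : Set G)) (h2 : Nat.card Z = 2) :
    K ≤ Subgroup.centralizer (Z : Set G) := by
  obtain ⟨a, ha1, ha2, rfl⟩ := gen_two h2
  intro g hg
  have hm := (Subgroup.mem_normalizer_iff.1 (h hg) a).1 (Subgroup.mem_zpowers a)
  obtain ⟨m, hm⟩ := hm
  simp only at hm
  have e : g * a * g⁻¹ = a := by
    rcases Int.even_or_odd m with ⟨j, rfl⟩ | ⟨j, rfl⟩
    · rw [← two_mul, zpow_mul, zpow_ofNat, pow_two, ha2, one_zpow, eq_comm, conj_eq_one_iff] at hm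
      exact absurd hm ha1
    · rw [zpow_add_one, zpow_mul, zpow_ofNat, pow_two, ha2, one_zpow, one_mul] at hm
      exact hm.symm
  have hc : Commute a g := (mul_inv_eq_iff_eq_mul.1 e).symm
  rw [Subgroup.mem_centralizer_iff]
  rintro _ ⟨j, rfl⟩
  exact (hc.zpow_left j).eq

theorem v4_central {X Y K : Subgroup G} (hX : IsPGroup 2 X) (hYX : Y ≤ X)
    (hXY : X ≤ Subgroup.normalizer (Y : Set G)) (h4 : Nat.card Y = 4) (hKX : K ≤ Subgroup.normalizer (X : Set G))
    (hKY : K ≤ Subgroup.normalizer (Y : Set G)) (hodd : Odd (Nat.card K))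
    (hnc : ¬ K ≤ Subgroup.centralizer (Y : Set G)) : Y ≤ Subgroup.centralizer (X : Set G) := by
  have := Fact.mk Nat.prime_two
  set Z := Y ⊓ Subgroup.centralizer (X : Set G) with hZ
  have hZ1 : Z ≠ ⊥ := by
    have : (Y.subgroupOf X).Normal := (Subgroup.normal_subgroupOf_iff_le_normalizer hYX).2 hXY
    have hne : Y.subgroupOf X ≠ ⊥ := by
      intro e
      have := congrArg (fun H : Subgroup X => Nat.card H) e
      simp only [Subgroup.card_bot, Nat.card_congr (Subgroup.subgroupOfEquivOfLe hYX).toEquiv, h4] at this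
      omega
    obtain ⟨x, hx, hxc, hx1⟩ := OddLocal.exists_mem_center_ne_one_of_normal hX _ hne
    intro e
    have : (x : G) ∈ Z := ⟨hx, Subgroup.mem_centralizer_iff.2 fun y hy =>
      congrArg Subtype.val (Subgroup.mem_center_iff.1 hxc ⟨y, hy⟩)⟩
    rw [e, Subgroup.mem_bot] at this
    exact hx1 (Subtype.ext this)
  by_contra hne
  have hlt : Nat.card Z < Nat.card Y := Basics.card_lt_of_lt (lt_of_le_of_ne inf_le_left fun e => hne (e ▸ inf_le_right))
  have hd := Subgroup.card_dvd_of_le (inf_le_left : Z ≤ Y)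
  have h1 : Nat.card Z ≠ 1 := fun e => hZ1 (Subgroup.eq_bot_of_card_eq _ e)
  have hpos : 0 < Nat.card Z := Nat.card_pos
  have h2 : Nat.card Z = 2 := by
    rw [h4] at hd hlt
    interval_cases h : Nat.card Z <;> omega
  have hKZ := cent_two (norm_inf hKY (norm_cent hKX)) h2
  apply hnc
  refine centralizes_of_chain (hX.to_le hYX) hKY hodd hKZ fun k hk y hy => ?_
  have hi : (Z.subgroupOf Y).index = 2 := by
    have h3 := (Z.subgroupOf Y).card_mul_index
    rw [Nat.card_congr (Subgroup.subgroupOfEquivOfLe (inf_le_left : Z ≤ Y)).toEquiv, h2, h4] at h3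
    omega
  have hm := (Subgroup.mem_normalizer_iff.1 (hKY hk) y).1 hy
  refine (Subgroup.mul_mem_iff_of_index_two hi (a := (⟨k * y * k⁻¹, hm⟩ : Y))
    (b := (⟨y, hy⟩ : Y)⁻¹)).2 ?_
  show k * y * k⁻¹ ∈ Z ↔ y⁻¹ ∈ Z
  rw [inv_mem_iff]
  exact ((Subgroup.mem_normalizer_iff.1 (norm_inf hKY (norm_cent hKX) hk) y)).symm

theorem quat_inner {X Y K : Subgroup G} (hX : IsPGroup 2 X) (hY : IsPGroup 2 Y)
    (hna : ¬ ∀ a ∈ Y, ∀ b ∈ Y, a * b = b * a) (h8 : Nat.card Y = 8)
    (hu : ∀ a ∈ Y, ∀ b ∈ Y, a * a = 1 → a ≠ 1 → b * b = 1 → b ≠ 1 → a = b)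
    (hXY : X ≤ Subgroup.normalizer (Y : Set G)) (hKX : K ≤ Subgroup.normalizer (X : Set G))
    (hKY : K ≤ Subgroup.normalizer (Y : Set G)) (hodd : Odd (Nat.card K))
    (hnc : ¬ K ≤ Subgroup.centralizer (Y : Set G)) : X ≤ Y ⊔ Subgroup.centralizer (Y : Set G) := by
  classical
  have := Fact.mk Nat.prime_two
  obtain ⟨hT, hzp, hker⟩ := quat_facts hna h8 hu
  suffices h : ∀ x ∈ X, ∀ C ∈ cyc4 Y, cj x C = C from fun x hx => hker x (hXY hx) (h x hx)
  letI : MulAction X (cyc4 Y : Finset (Subgroup G)) :=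
    { smul := fun x C => ⟨cj (x : G) C, cj_mem_cyc4 (hXY x.2) C.2⟩
      one_smul := fun C => Subtype.ext (cj_one _)
      mul_smul := fun x y C => Subtype.ext (cj_mul _ _ _) }
  obtain ⟨⟨C, hC⟩, hfix⟩ := hX.nonempty_fixed_point_of_prime_not_dvd_card
    ((cyc4 Y : Finset (Subgroup G))) (by rw [Nat.card_eq_finsetCard, hT]; norm_num)
  have hCfix : ∀ x ∈ X, cj x C = C := fun x hx => congrArg Subtype.val (hfix ⟨x, hx⟩)
  by_contra hcon
  push Not at hcon
  obtain ⟨x₀, hx₀, C₀, hC₀, hne⟩ := hcon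
  have hone : ∀ D ∈ cyc4 Y, (∀ x ∈ X, cj x D = D) → D = C := by
    intro D hD hDfix
    by_contra hDC
    refine hne ?_
    have hinj : ∀ A B, cj x₀ A = cj x₀ B → A = B := fun A B e => by
      have := congrArg (cj x₀⁻¹) e
      rwa [← cj_mul, ← cj_mul, inv_mul_cancel, cj_one, cj_one] at this
    by_contra h0
    have h0C : C₀ ≠ C := fun e => hne (e ▸ hCfix x₀ hx₀)
    have h0D : C₀ ≠ D := fun e => hne (e ▸ hDfix x₀ hx₀)
    have hsub : ({C, D, C₀, cj x₀ C₀} : Finset (Subgroup G)) ⊆ cyc4 Y := by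
      simp [Finset.insert_subset_iff, hC, hD, hC₀, cj_mem_cyc4 (hXY hx₀) hC₀]
    have h1 : cj x₀ C₀ ≠ C := fun e => h0C (hinj _ _ (e.trans (hCfix x₀ hx₀).symm))
    have h2 : cj x₀ C₀ ≠ D := fun e => h0D (hinj _ _ (e.trans (hDfix x₀ hx₀).symm))
    have := Finset.card_le_card hsub
    rw [hT, Finset.card_insert_of_notMem (by simp [Ne.symm hDC, Ne.symm h0C, Ne.symm h1]),
      Finset.card_insert_of_notMem (by simp [Ne.symm h0D, Ne.symm h2]),
      Finset.card_insert_of_notMem (by simp [Ne.symm hne]), Finset.card_singleton] at this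
    omega
  have hKfix : ∀ k ∈ K, cj k C = C := by
    intro k hk
    refine hone _ (cj_mem_cyc4 (hKY hk) hC) fun x hx => ?_
    have hm : k⁻¹ * x * k ∈ X := by
      have := (Subgroup.mem_normalizer_iff.1 (hKX (inv_mem hk)) x).1 hx
      rwa [inv_inv] at this
    rw [← cj_mul, show x * k = k * (k⁻¹ * x * k) by group, cj_mul, hCfix _ hm]
  have hKall : ∀ D ∈ cyc4 Y, ∀ k ∈ K, cj k D = D := by
    intro D hD
    by_cases hDC : D = C
    · subst hDC; exact hKfix
    intro k hk
    have hsq : ∀ k ∈ K, cj (k * k) D = D := by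
      intro k hk
      by_contra h
      have hinj : ∀ A B, cj k A = cj k B → A = B := fun A B e => by
        have := congrArg (cj k⁻¹) e
        rwa [← cj_mul, ← cj_mul, inv_mul_cancel, cj_one, cj_one] at this
      rw [cj_mul] at h
      have h1 : cj k D ≠ D := fun e => h (by rw [e, e])
      have h2 : cj k D ≠ C := fun e => hDC (hinj _ _ (e.trans (hKfix k hk).symm))
      have h3 : cj k (cj k D) ≠ C := fun e => h2 (hinj _ _ (e.trans (hKfix k hk).symm))
      have h4 : cj k (cj k D) ≠ cj k D := fun e => h1 (hinj _ _ e)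
      have hsub : ({C, D, cj k D, cj k (cj k D)} : Finset (Subgroup G)) ⊆ cyc4 Y := by
        simp [Finset.insert_subset_iff, hC, hD, cj_mem_cyc4 (hKY hk) hD,
          cj_mem_cyc4 (hKY hk) (cj_mem_cyc4 (hKY hk) hD)]
      have := Finset.card_le_card hsub
      rw [hT, Finset.card_insert_of_notMem (by simp [Ne.symm hDC, Ne.symm h2, Ne.symm h3]),
        Finset.card_insert_of_notMem (by simp [Ne.symm h1, Ne.symm h]),
        Finset.card_insert_of_notMem (by simp [Ne.symm h4]), Finset.card_singleton] at this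
      omega
    obtain ⟨j, hj⟩ := hodd
    have hkk : k ^ (j + 1) * k ^ (j + 1) = k := by
      rw [← pow_add, show j + 1 + (j + 1) = Nat.card K + 1 by omega, pow_succ,
        show k ^ Nat.card K = 1 from congrArg Subtype.val (pow_card_eq_one' (x := (⟨k, hk⟩ : K))), one_mul]
    rw [← hkk]
    exact hsq _ (pow_mem hk _)
  apply hnc
  have key : ∀ y ∈ Y, y * y ≠ 1 → ∀ k ∈ K, k * y = y * k := by
    intro y hy hy2 k hk
    have hKn : K ≤ Subgroup.normalizer (Subgroup.zpowers y : Set G) := norm_of fun g hg u hu' => by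
      rw [← hKall _ (hzp y hy hy2) g hg]
      exact ⟨u, hu', by simp⟩
    have hc := centralizes_of_cyclic (hY.to_le (Subgroup.zpowers_le.2 hy)) (Subgroup.isCyclic_zpowers y) hKn hodd hk
    exact (Subgroup.mem_centralizer_iff.1 hc y (Subgroup.mem_zpowers y)).symm
  intro k hk
  rw [Subgroup.mem_centralizer_iff]
  intro y hy
  obtain ⟨i, hi, hi2⟩ : ∃ i ∈ Y, i * i ≠ 1 := by
    by_contra h
    push Not at h
    refine hna fun a ha b hb => ?_
    have h' := h _ (mul_mem ha hb)
    rw [mul_eq_one_iff_eq_inv, mul_inv_rev] at h'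
    rw [h', inv_eq_of_mul_eq_one_right (h a ha), inv_eq_of_mul_eq_one_right (h b hb)]
  by_cases hy2 : y * y = 1
  · by_cases hy1 : y = 1
    · simp [hy1]
    have hyi : y * i * (y * i) ≠ 1 := by
      intro h
      by_cases h1 : y * i = 1
      · exact hi2 (by rw [show i = y⁻¹ from eq_inv_of_mul_eq_one_right h1, ← mul_inv_rev, hy2, inv_one])
      · exact hi2 (by rw [show i = 1 from mul_eq_left.1 (hu _ (mul_mem hy hi) _ hy h h1 hy2 hy1), one_mul])
    have h1 : Commute k (y * i) := key _ (mul_mem hy hi) hyi k hk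
    have h2 : Commute k i⁻¹ := (show Commute k i from key i hi hi2 k hk).inv_right
    have := h1.mul_right h2
    rw [mul_inv_cancel_right] at this
    exact this.eq.symm
  · exact (key y hy hy2 k hk).symm

theorem bound {X Q : Subgroup G} (hX : IsPGroup 2 X) {α : Type*} [MulAction X α] (h3 : Nat.card α = 3)
    (hker : ∀ x : X, (∀ a : α, x • a = a) → (x : G) ∈ Q) : Nat.card X ≤ 2 * Nat.card Q := by
  classical
  have := Fact.mk Nat.prime_two
  have : Finite α := Nat.finite_of_card_ne_zero (by omega)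
  let f := MulAction.toPermHom X α
  have hk : Nat.card f.ker ≤ Nat.card Q := by
    refine Nat.card_le_card_of_injective (fun x => (⟨((x : X) : G), hker x fun a => ?_⟩ : Q)) ?_
    · exact congrArg (fun e : Equiv.Perm α => e a) x.2
    · intro a b h
      exact Subtype.ext (Subtype.ext (congrArg Subtype.val h :))
  have hd : Nat.card f.range ∣ 6 := by
    refine (Subgroup.card_subgroup_dvd_card _).trans ?_
    rw [Nat.card_perm, h3]; rfl
  obtain ⟨n, hn⟩ := IsPGroup.iff_card.1 (hX.of_surjective f.rangeRestrict f.rangeRestrict_surjective)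
  have hn1 : n ≤ 1 := by
    by_contra h
    have : 4 ∣ 6 := (show 4 ∣ Nat.card f.range by rw [hn]; exact pow_dvd_pow 2 (by omega : 2 ≤ n)).trans hd
    norm_num at this
  rw [← f.ker.card_mul_index, Subgroup.index_ker, hn, mul_comm]
  exact Nat.mul_le_mul ((Nat.pow_le_pow_right two_pos hn1).trans (le_of_eq (pow_one 2))) hk

theorem no_a_v4 {X Q : Subgroup G} (hX : IsPGroup 2 X) (hQX : Q ≤ X)
    (hXQ : X ≤ Subgroup.normalizer (Q : Set G)) (hCQ : Subgroup.centralizer (Q : Set G) ≤ Q)
    (h4 : Nat.card Q = 4) : ¬ HasA X := by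
  classical
  intro hA
  let β := {q : Q // q ≠ 1}
  letI : MulAction X β :=
    { smul := fun x q => ⟨⟨(x : G) * (q : Q) * (x : G)⁻¹, (Subgroup.mem_normalizer_iff.1 (hXQ x.2) _).1 (q : Q).2⟩,
        fun e => q.2 (Subtype.ext (by
          have := congrArg Subtype.val e
          simp only [Subgroup.coe_one, conj_eq_one_iff] at this
          simpa using this))⟩
      one_smul := fun q => Subtype.ext (Subtype.ext (by show (1 : G) * _ * (1 : G)⁻¹ = _; simp))
      mul_smul := fun x y q => Subtype.ext (Subtype.ext (by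
        show ((x : G) * y) * _ * ((x : G) * y)⁻¹ = (x : G) * ((y : G) * _ * (y : G)⁻¹) * (x : G)⁻¹
        group)) }
  have h3 : Nat.card β = 3 := by
    have := Fintype.ofFinite Q
    rw [Nat.card_eq_fintype_card, Fintype.card_subtype_compl, Fintype.card_subtype_eq,
      ← Nat.card_eq_fintype_card, h4]
  have hb := bound hX (α := β) (Q := Q) h3 fun x hx => hCQ (Subgroup.mem_centralizer_iff.2 fun q hq => by
    by_cases h1 : q = 1
    · simp [h1]
    · have := congrArg (fun a : β => ((a : Q) : G)) (hx ⟨⟨q, hq⟩, fun e => h1 (congrArg Subtype.val e)⟩)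
      exact (mul_inv_eq_iff_eq_mul.1 this).symm)
  obtain ⟨A, hAX, hAc, -, hA8⟩ := hA
  have hAeq : A = X := Subgroup.eq_of_le_of_card_ge hAX (by omega)
  have : X ≤ Q := fun x hx => hCQ (Subgroup.mem_centralizer_iff.2 fun q hq =>
    congrArg Subtype.val (hAc.is_comm.comm (⟨q, hAeq ▸ hQX hq⟩ : A) ⟨x, hAeq ▸ hx⟩))
  have := Subgroup.card_le_of_le (hAX.trans this)
  omega

theorem no_a_quat {X Q : Subgroup G} (hX : IsPGroup 2 X) (hQX : Q ≤ X)
    (hXQ : X ≤ Subgroup.normalizer (Q : Set G)) (hCQ : Subgroup.centralizer (Q : Set G) ≤ Q)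
    (hna : ¬ ∀ a ∈ Q, ∀ b ∈ Q, a * b = b * a) (h8 : Nat.card Q = 8)
    (hu : ∀ a ∈ Q, ∀ b ∈ Q, a * a = 1 → a ≠ 1 → b * b = 1 → b ≠ 1 → a = b) : ¬ HasA X := by
  classical
  have := Fact.mk Nat.prime_two
  intro hA
  obtain ⟨hT, hzp, hker⟩ := quat_facts hna h8 hu
  have hsup : Q ⊔ Subgroup.centralizer (Q : Set G) = Q := sup_eq_left.2 hCQ
  letI : MulAction X (cyc4 Q : Finset (Subgroup G)) :=
    { smul := fun x C => ⟨cj (x : G) C, cj_mem_cyc4 (hXQ x.2) C.2⟩
      one_smul := fun C => Subtype.ext (cj_one _)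
      mul_smul := fun x y C => Subtype.ext (cj_mul _ _ _) }
  have hk : ∀ x ∈ X, (∀ C ∈ cyc4 Q, cj x C = C) → x ∈ Q := fun x hx h => hsup ▸ hker x (hXQ hx) h
  have hb := bound hX (α := (cyc4 Q : Finset (Subgroup G))) (Q := Q) (by rw [Nat.card_eq_finsetCard, hT])
    fun x hx => hk x x.2 fun C hC => congrArg Subtype.val (hx ⟨C, hC⟩)
  obtain ⟨A, hAX, hAc, hAn, hA8⟩ := hA
  have hAcomm : ∀ a ∈ A, ∀ b ∈ A, a * b = b * a := fun a ha b hb =>
    congrArg Subtype.val (hAc.is_comm.comm ⟨a, ha⟩ ⟨b, hb⟩)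
  -- an element of order four of `Q` inside `A`
  have hAQ : A ≤ Subgroup.normalizer (Q : Set G) := hAX.trans hXQ
  have hcards := Basics.card_mul_card_eq_card_sup_mul_card_inf hAQ
  have hsupX : Nat.card (Q ⊔ A : Subgroup G) ≤ 16 :=
    (Subgroup.card_le_of_le (sup_le hQX hAX)).trans (by omega)
  rw [h8, hA8] at hcards
  have hI : 4 ≤ Nat.card (Q ⊓ A : Subgroup G) := by
    by_contra h
    have := Nat.mul_le_mul hsupX (Nat.le_of_lt_succ (not_le.1 h))
    omega
  obtain ⟨i, hi, hi2⟩ : ∃ i ∈ Q ⊓ A, i * i ≠ 1 := by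
    by_contra h
    push Not at h
    obtain ⟨z, hz⟩ : ∃ z ∈ Q ⊓ A, z ≠ 1 := by
      by_contra h'
      push Not at h'
      have : (Q ⊓ A : Subgroup G) = ⊥ := (Subgroup.eq_bot_iff_forall _).2 h'
      rw [this, Subgroup.card_bot] at hI
      omega
    have hle : ((Q ⊓ A : Subgroup G) : Set G) ⊆ ↑({1, z} : Finset G) := by
      intro u hu'
      simp only [Finset.coe_insert, Finset.coe_singleton, Set.mem_insert_iff, Set.mem_singleton_iff]
      by_cases h1 : u = 1
      · exact Or.inl h1
      · exact Or.inr (hu u hu'.1 z hz.1.1 (h u hu') h1 (h z hz.1) hz.2)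
    have := Set.ncard_le_ncard hle (Set.toFinite _)
    rw [Set.ncard_coe_finset] at this
    have h2 := Finset.card_le_two (a := (1 : G)) (b := z)
    have : Nat.card (Q ⊓ A : Subgroup G) = ((Q ⊓ A : Subgroup G) : Set G).ncard := rfl
    omega
  -- an involution of `A` outside `Q`
  obtain ⟨t, htA, htQ, ht2⟩ : ∃ t ∈ A, t ∉ Q ∧ t * t = 1 := by
    by_contra h
    push Not at h
    refine hAn ((InvChar.cyclic_or_quaternion (hX.to_le hAX) (p := 2) ?_).resolve_right ?_)
    · intro H K hH hK
      obtain ⟨a, ha1, ha2, rfl⟩ := gen_two hH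
      obtain ⟨b, hb1, hb2, rfl⟩ := gen_two hK
      have ha' : (a : G) * a = 1 := congrArg Subtype.val ha2
      have hb' : (b : G) * b = 1 := congrArg Subtype.val hb2
      refine congrArg Subgroup.zpowers (Subtype.ext (hu _ ?_ _ ?_ ha' (fun e => ha1 (Subtype.ext e)) hb'
        fun e => hb1 (Subtype.ext e)))
      · by_contra hq; exact h a a.2 hq ha'
      · by_contra hq; exact h b b.2 hq hb'
    · rintro ⟨-, n, ⟨e⟩⟩
      cases n with
      | zero => exact hAn (e.isCyclic.2 QuaternionGroup.quaternionGroup_one_isCyclic)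
      | succ n =>
        have hc := congrArg e (hAc.is_comm.comm (e.symm (QuaternionGroup.a 1)) (e.symm (QuaternionGroup.xa 0)))
        simp only [map_mul, MulEquiv.apply_symm_apply, QuaternionGroup.a_mul_xa, QuaternionGroup.xa_mul_a,
          QuaternionGroup.xa.injEq, zero_add, zero_sub] at hc
        have h2 : ((2 : ℕ) : ZMod (2 * 2 ^ (n + 1))) = 0 := by
          push_cast
          linear_combination -hc
        rw [ZMod.natCast_eq_zero_iff] at h2
        have := Nat.le_of_dvd (by norm_num) h2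
        have : 2 ≤ 2 ^ (n + 1) := le_self_pow₀ (by norm_num) (by omega)
        omega
  have hti : t * i = i * t := hAcomm t htA i hi.2
  obtain ⟨j, hj, hji⟩ : ∃ j ∈ Q, j * i ≠ i * j := by
    by_contra h
    push Not at h
    have hic : i ∈ Subgroup.centralizer (Q : Set G) := Subgroup.mem_centralizer_iff.2 h
    refine hna fun a ha b hb => ?_
    -- the quotient by the powers of `i` has order two
    have hI4 : (Subgroup.zpowers (⟨i, hi.1⟩ : Q)).index = 2 := by
      obtain ⟨-, -, hc⟩ := mem_cyc4.1 (hzp i hi.1 hi2)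
      have h1 := (Subgroup.zpowers (⟨i, hi.1⟩ : Q)).card_mul_index
      rw [Nat.card_zpowers, Subgroup.orderOf_mk, ← Nat.card_zpowers, hc, h8] at h1
      omega
    have hpow : ∀ u : Q, u ∈ Subgroup.zpowers (⟨i, hi.1⟩ : Q) → ∀ v ∈ Q, (u : G) * v = v * u := by
      rintro _ ⟨m, rfl⟩ v hv
      simpa using ((show Commute i v from (h v hv).symm).zpow_left m).eq
    by_cases haI : (⟨a, ha⟩ : Q) ∈ Subgroup.zpowers (⟨i, hi.1⟩ : Q)
    · exact hpow _ haI b hb
    by_cases hbI : (⟨b, hb⟩ : Q) ∈ Subgroup.zpowers (⟨i, hi.1⟩ : Q)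
    · exact (hpow _ hbI a ha).symm
    have hm := (Subgroup.mul_mem_iff_of_index_two hI4 (a := (⟨a, ha⟩ : Q)⁻¹) (b := ⟨b, hb⟩)).2
      (iff_of_false (fun h' => haI (by simpa using inv_mem h')) hbI)
    have hc := hpow _ hm a ha
    simp only [Subgroup.coe_mul, InvMemClass.coe_inv, mul_inv_cancel_left] at hc
    have : a * (a⁻¹ * b * a) = a * b := by rw [hc]
    rw [← mul_assoc, mul_inv_cancel_left] at this
    exact this.symm
  have hj2 : j * j ≠ 1 := by
    intro hj2
    have hj1 : j ≠ 1 := fun e => hji (by rw [e, one_mul, mul_one])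
    obtain ⟨-, -, hc⟩ := mem_cyc4.1 (hzp i hi.1 hi2)
    have hi4 : i ^ 2 * i ^ 2 = 1 := by
      rw [← pow_add, show 2 + 2 = orderOf i by rw [← Nat.card_zpowers, hc], pow_orderOf_eq_one]
    have e := hu j hj (i ^ 2) (pow_mem hi.1 2) hj2 hj1 hi4 (by rwa [pow_two])
    exact hji (by rw [e]; exact ((Commute.refl i).pow_left 2).eq)
  have htj : t * j * t⁻¹ ∈ Q := (Subgroup.mem_normalizer_iff.1 (hXQ (hAX htA)) j).1 hj
  have hmove : cj t (Subgroup.zpowers j) ≠ Subgroup.zpowers j := by
    intro e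
    refine htQ (hk t (hAX htA) fun C hC => ?_)
    -- the third cyclic subgroup is fixed as well
    have hI' : cj t (Subgroup.zpowers i) = Subgroup.zpowers i := by
      rw [cj, MonoidHom.map_zpowers]
      exact congrArg Subgroup.zpowers (mul_inv_eq_iff_eq_mul.2 hti)
    by_contra hne
    have hij : Subgroup.zpowers i ≠ Subgroup.zpowers j := fun e' => hji (by
      obtain ⟨m, rfl⟩ := (e' ▸ Subgroup.mem_zpowers j : j ∈ Subgroup.zpowers i)
      exact ((Commute.refl i).zpow_left m).eq)
    have hinj : ∀ A B, cj t A = cj t B → A = B := fun A B e => by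
      have := congrArg (cj t⁻¹) e
      rwa [← cj_mul, ← cj_mul, inv_mul_cancel, cj_one, cj_one] at this
    have h1 : C ≠ Subgroup.zpowers i := fun e' => hne (e' ▸ hI')
    have h2 : C ≠ Subgroup.zpowers j := fun e' => hne (e' ▸ e)
    have h3 : cj t C ≠ Subgroup.zpowers i := fun e' => h1 (hinj _ _ (e'.trans hI'.symm))
    have h4 : cj t C ≠ Subgroup.zpowers j := fun e' => h2 (hinj _ _ (e'.trans e.symm))
    have hsub : ({Subgroup.zpowers i, Subgroup.zpowers j, C, cj t C} : Finset (Subgroup G)) ⊆ cyc4 Q := by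
      simp [Finset.insert_subset_iff, hC, hzp i hi.1 hi2, hzp j hj hj2, cj_mem_cyc4 (hXQ (hAX htA)) hC]
    have := Finset.card_le_card hsub
    rw [hT, Finset.card_insert_of_notMem (by simp [hij, Ne.symm h1, Ne.symm h3]),
      Finset.card_insert_of_notMem (by simp [Ne.symm h2, Ne.symm h4]),
      Finset.card_insert_of_notMem (by simp [Ne.symm hne]), Finset.card_singleton] at this
    omega
  -- the translation element `u` lies in the powers of `i`
  set u := t * j * t⁻¹ * j⁻¹ with hud
  have huQ : u ∈ Q := mul_mem htj (inv_mem hj)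
  obtain ⟨-, -, hcj⟩ := mem_cyc4.1 (hzp j hj hj2)
  obtain ⟨-, -, hci⟩ := mem_cyc4.1 (hzp i hi.1 hi2)
  have hidx : ∀ y ∈ Q, Nat.card (Subgroup.zpowers y) = 4 → ((Subgroup.zpowers y).subgroupOf Q).index = 2 := by
    intro y hy hc
    have h1 := ((Subgroup.zpowers y).subgroupOf Q).card_mul_index
    rw [Nat.card_congr (Subgroup.subgroupOfEquivOfLe (Subgroup.zpowers_le.2 hy)).toEquiv, hc, h8] at h1
    omega
  have hui : u ∈ Subgroup.zpowers i := by
    refine (Subgroup.mul_mem_iff_of_index_two (hidx i hi.1 hci) (a := (⟨_, htj⟩ : Q)) (b := (⟨j, hj⟩ : Q)⁻¹)).2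
      (iff_of_false ?_ ?_)
    · intro h
      have h' : t * j * t⁻¹ ∈ Subgroup.zpowers i := h
      obtain ⟨m, hm⟩ := h'
      apply hji
      have hc : Commute j i := by
        have e : t * j * t⁻¹ * i = i * (t * j * t⁻¹) := by
          rw [← hm]; exact ((Commute.refl i).zpow_left m).eq
        have := congrArg (fun x => t⁻¹ * x * t) e
        have hti' : t⁻¹ * i * t = i := by rw [mul_assoc, ← hti, inv_mul_cancel_left]
        calc j * i = t⁻¹ * (t * j * t⁻¹ * i) * t := by
              nth_rewrite 1 [← hti']; group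
          _ = t⁻¹ * (i * (t * j * t⁻¹)) * t := this
          _ = i * j := by nth_rewrite 2 [← hti']; group
      exact hc.eq
    · intro h
      have h' : j⁻¹ ∈ Subgroup.zpowers i := h
      obtain ⟨m, hm⟩ := (inv_mem_iff.1 h')
      exact hji (hm ▸ ((Commute.refl i).zpow_left m).eq)
  obtain ⟨m, hm⟩ := hui
  have htu : t * u = u * t := by
    rw [← hm]; exact ((show Commute t i from hti).zpow_right m).eq
  have htinv : t⁻¹ = t := inv_eq_of_mul_eq_one_right ht2
  have e1 : t * j * t⁻¹ = u * j := by rw [hud]; group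
  have e2 : j = u * (u * j) := by
    calc j = t * (t * j * t⁻¹) * t⁻¹ := by rw [htinv]; simp [← mul_assoc, ht2, mul_assoc j]
      _ = t * (u * j) * t⁻¹ := by rw [e1]
      _ = u * (t * j * t⁻¹) := by rw [← mul_assoc t u, htu]; group
      _ = u * (u * j) := by rw [e1]
  have hu2 : u * u = 1 := by
    rw [← mul_assoc] at e2
    exact mul_eq_right.1 e2.symm
  apply hmove
  -- a square-trivial translation fixes the powers of `j`
  have huj : u ∈ Subgroup.zpowers j := by
    by_cases hu1 : u = 1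
    · rw [hu1]; exact one_mem _
    · have hj4 : j ^ 2 * j ^ 2 = 1 := by
        rw [← pow_add, show 2 + 2 = orderOf j by rw [← Nat.card_zpowers, hcj], pow_orderOf_eq_one]
      rw [hu u huQ (j ^ 2) (pow_mem hj 2) hu2 hu1 hj4 (by rwa [pow_two])]
      exact pow_mem (Subgroup.mem_zpowers j) 2
  refine Subgroup.eq_of_le_of_card_ge ?_ (by rw [cj_card])
  rw [cj, MonoidHom.map_zpowers, Subgroup.zpowers_le]
  show t * j * t⁻¹ ∈ _
  rw [e1]
  exact mul_mem huj (Subgroup.mem_zpowers j)

theorem hasA_conj {X X' : Sylow 2 G} {Y : Subgroup G} (hY : Y ≤ (X' : Subgroup G)) (h : HasA Y) :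
    HasA (X : Subgroup G) := by
  obtain ⟨g, rfl⟩ := MulAction.exists_smul_eq G X X'
  refine (h.map (MulAut.conj g⁻¹).toMonoidHom (MulAut.conj g⁻¹).injective).mono ?_
  rintro _ ⟨y, hy, rfl⟩
  have h1 := hY hy
  rw [Sylow.coe_subgroup_smul, Subgroup.mem_pointwise_smul_iff_inv_smul_mem] at h1
  simpa using h1


/-- Let S be a finite solvable group with O_{2'}(S) = 1 that contains a non-cyclic abelian subgroup of order 8, while no proper subgroup of S of 2-power index contains one. Then a Sylow 2-subgroup X of S is normal in S, and one of the following holds: X is abelian; X is extraspecial of order at least 32; X has a generalized quaternion subgroup X₀ of index 2 with X = X₀·C_X(X₀); or X is special with centre of order 4. -/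
theorem result {S : Type*} [Group S] [Finite S]
    [Group.IsSolvable S] (hO : Cfsg.pPrimeCore 2 S = ⊥)
    (h8 : ∃ A : Subgroup S, IsMulCommutative ↥A ∧ ¬ IsCyclic ↥A ∧ Nat.card ↥A = 8)
    (hmin : ∀ R : Subgroup S, R ≠ ⊤ → (∃ k : ℕ, R.index = 2 ^ k) →
      ¬ ∃ A : Subgroup S, A ≤ R ∧ IsMulCommutative ↥A ∧ ¬ IsCyclic ↥A ∧ Nat.card ↥A = 8)
    (X : Sylow 2 S) :
    (X : Subgroup S).Normal ∧
      (IsMulCommutative ↥X ∨
        (Cfsg.IsExtraspecial 2 ↥X ∧ 32 ≤ Nat.card ↥X) ∨
        (∃ (X₀ : Subgroup S) (k : ℕ), X₀ ≤ (X : Subgroup S) ∧ X₀.relIndex (X : Subgroup S) = 2 ∧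
          Nonempty (↥X₀ ≃* QuaternionGroup (2 ^ (k + 1))) ∧ X₀ ⊔ ((X : Subgroup S) ⊓ Subgroup.centralizer (X₀ : Set S)) = (X : Subgroup S)) ∨
        (Cfsg.IsSpecial 2 ↥X ∧ Nat.card ↥(Subgroup.center ↥X) = 4)) := by
  classical
  have := Fact.mk Nat.prime_two
  have hX2 : IsPGroup 2 (X : Subgroup S) := X.isPGroup'
  have hXA : HasA (X : Subgroup S) := by
    obtain ⟨A, h1, h2, h3⟩ := h8
    have hA2 : IsPGroup 2 A := IsPGroup.of_card (n := 3) (by rw [h3]; rfl)
    obtain ⟨X', hX'⟩ := hA2.exists_le_sylow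
    exact hasA_conj hX' ⟨A, le_rfl, h1, h2, h3⟩
  obtain ⟨nX, hnX⟩ := IsPGroup.iff_card.1 hX2
  have hcop : (X : Subgroup S).index.Coprime (Nat.card (X : Subgroup S)) := by
    rw [hnX]
    exact ((Nat.prime_two.coprime_iff_not_dvd.2 X.not_dvd_index).symm).pow_right _
  obtain ⟨K, hK⟩ := Basics.exists_hall_of_card (m := (X : Subgroup S).index) (n := Nat.card (X : Subgroup S))
    (by rw [mul_comm, Subgroup.card_mul_index]) hcop
  have hKodd : Odd (Nat.card K) := by
    rw [hK, ← Nat.not_even_iff_odd, even_iff_two_dvd]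
    exact X.not_dvd_index
  have hcopK : ∀ Y : Subgroup S, IsPGroup 2 Y → (Nat.card Y).Coprime (Nat.card K) := by
    intro Y hY
    obtain ⟨n, hn⟩ := IsPGroup.iff_card.1 hY
    rw [hn]
    exact (Nat.coprime_two_left.2 hKodd).pow_left _
  have hmin' : ∀ Y : Subgroup S, IsPGroup 2 Y → K ≤ Subgroup.normalizer (Y : Set S) → HasA Y →
      Nat.card Y = Nat.card (X : Subgroup S) := by
    intro Y hY hKY hYA
    have hc := Basics.card_sup_of_coprime hKY (hcopK Y hY)
    have hR := (Y ⊔ K : Subgroup S).card_mul_index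
    rw [hc, ← (X : Subgroup S).card_mul_index, ← hK, mul_right_comm, mul_comm (Nat.card (X : Subgroup S))] at hR
    have hR' : Nat.card Y * (Y ⊔ K : Subgroup S).index = Nat.card (X : Subgroup S) :=
      Nat.eq_of_mul_eq_mul_right (Nat.card_pos (α := K)) (by linarith)
    by_contra hne
    refine hmin (Y ⊔ K) (fun e => hne ?_) ?_ ?_
    · rw [e, Subgroup.index_top, mul_one] at hR'
      exact hR'
    · obtain ⟨k, -, hk⟩ := (Nat.dvd_prime_pow Nat.prime_two).1
        (hnX ▸ hR' ▸ Dvd.intro_left _ rfl : (Y ⊔ K : Subgroup S).index ∣ 2 ^ nX)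
      exact ⟨k, hk⟩
    · obtain ⟨A, hA⟩ := hYA
      exact ⟨A, hA.1.trans le_sup_left, hA.2⟩
  -- the Sylow subgroup is normal
  set Q := Cfsg.pCore 2 S with hQ
  have hQn : Q.Normal := Basics.pCore_normal 2
  have hQ2 : IsPGroup 2 Q := Basics.pCore_isPGroup 2
  have hCQ : Subgroup.centralizer (Q : Set S) ≤ Q := Basics.centralizer_pCore_le hO
  have hQX : Q ≤ (X : Subgroup S) := by
    obtain ⟨X', hX'⟩ := hQ2.exists_le_sylow
    obtain ⟨g, rfl⟩ := MulAction.exists_smul_eq S X X'
    intro q hq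
    have := hX' (hQn.conj_mem q hq g)
    rw [Sylow.coe_subgroup_smul, Subgroup.mem_pointwise_smul_iff_inv_smul_mem] at this
    simpa [mul_assoc] using this
  have hXn : (X : Subgroup S).Normal := by
    by_cases hQA : HasA Q
    · have := hmin' Q hQ2 Subgroup.le_normalizer_of_normal hQA
      rw [← Subgroup.eq_of_le_of_card_ge hQX this.ge]
      exact hQn
    · by_cases hKQ : K ≤ Subgroup.centralizer (Q : Set S)
      · have hK1 : Nat.card K = 1 := by
          have h1 := Subgroup.card_dvd_of_le (hKQ.trans hCQ)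
          exact Nat.eq_one_of_dvd_coprimes (hcopK Q hQ2) h1 dvd_rfl
        rw [hK, Subgroup.index_eq_one] at hK1
        rw [hK1]; infer_instance
      · exfalso
        rcases odd_aut hQ2 hQA Subgroup.le_normalizer_of_normal hKodd hKQ with ⟨-, h4, -⟩ | ⟨h1, h2, h3⟩
        · exact no_a_v4 hX2 hQX Subgroup.le_normalizer_of_normal hCQ h4 hXA
        · exact no_a_quat hX2 hQX Subgroup.le_normalizer_of_normal hCQ h1 h2 h3 hXA
  refine ⟨hXn, ?_⟩
  have hQeq : (X : Subgroup S) = Q := le_antisymm (Basics.le_pCore hX2) hQX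
  set X' : Subgroup S := (X : Subgroup S) with hX'def
  have hCX : Subgroup.centralizer (X' : Set S) ≤ X' := hQeq ▸ hCQ
  have hKX : K ≤ Subgroup.normalizer (X' : Set S) := Subgroup.le_normalizer_of_normal
  have hproper : ∀ Y : Subgroup S, Y ≤ X' → K ≤ Subgroup.normalizer (Y : Set S) → Y ≠ X' → ¬ HasA Y :=
    fun Y hYX hKY hne hA => hne (Subgroup.eq_of_le_of_card_ge hYX (hmin' Y (hX2.to_le hYX) hKY hA).ge)
  by_cases hKc : K ≤ Subgroup.centralizer (X' : Set S)
  · -- no odd part
    left
    obtain ⟨A, hAX, hAc, hAn, hA8⟩ := hXA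
    have hK0 : K = ⊥ := Subgroup.eq_bot_of_card_eq _
      (Nat.eq_one_of_dvd_coprimes (hcopK X' hX2) (Subgroup.card_dvd_of_le (hKc.trans hCX)) dvd_rfl)
    have : A = X' := by
      by_contra hne
      exact hproper A hAX (hK0 ▸ bot_le) hne ⟨A, le_rfl, hAc, hAn, hA8⟩
    show IsMulCommutative ↥X'
    rw [← this]; exact hAc
  have hsolK : ∀ Y : Subgroup S, IsPGroup 2 Y → Group.IsSolvable K ∨ Group.IsSolvable Y := fun _ _ =>
    Or.inl inferInstance
  set X1 := ⁅X', K⁆ with hX1
  have hX1X : X1 ≤ X' := Subgroup.le_normalizer_iff_commutator_le_left.mp hKX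
  have hKX1 : K ≤ Subgroup.normalizer (X1 : Set S) := Subgroup.normalizer_commutator_ge_right _ _
  have hXX1 : X' ≤ Subgroup.normalizer (X1 : Set S) := Subgroup.normalizer_commutator_ge_left _ _
  have hX1nc : ¬ K ≤ Subgroup.centralizer (X1 : Set S) := by
    intro h
    refine hKc (Basics.le_centralizer_of_commutator_commutator_eq_bot K X' hKX ((hcopK X' hX2).symm) (hsolK _ hX2) ?_)
    rw [Subgroup.commutator_comm]
    exact Subgroup.commutator_eq_bot_iff_le_centralizer.2 h
  have hsupC := Basics.commutator_sup_inf_centralizer K X' hKX ((hcopK X' hX2).symm) (hsolK _ hX2)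
  rw [← hX1] at hsupC
  by_cases hfull : X1 ≠ X'
  · -- proper commutator
    have hX12 : IsPGroup 2 X1 := hX2.to_le hX1X
    rcases odd_aut hX12 (hproper X1 hX1X hKX1 hfull) hKX1 hKodd hX1nc with ⟨hab, h4, hexp⟩ | ⟨hna, h8', hu⟩
    · left
      have hcent := v4_central hX2 hX1X hXX1 h4 hKX hKX1 hKodd hX1nc
      obtain ⟨c, hc, hc1, hc2⟩ : ∃ c ∈ X' ⊓ Subgroup.centralizer (K : Set S), c ∉ X1 ∧ c * c ∈ X1 := by
        obtain ⟨c, hc, hc1⟩ : ∃ c ∈ X' ⊓ Subgroup.centralizer (K : Set S), c ∉ X1 := by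
          by_contra h
          push Not at h
          exact hfull (le_antisymm hX1X (hsupC.symm.le.trans (sup_le le_rfl h)))
        obtain ⟨n, hn⟩ := hX2 ⟨c, hc.1⟩
        have hn' : c ^ 2 ^ n ∈ X1 := by
          have : c ^ 2 ^ n = 1 := by simpa using congrArg Subtype.val hn
          rw [this]; exact one_mem _
        clear hn
        induction n generalizing c with
        | zero => exact absurd (by simpa using hn') hc1
        | succ n ih =>
          by_cases h : c * c ∈ X1
          · exact ⟨c, hc, hc1, h⟩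
          · exact ih (c * c) (mul_mem hc hc) h (by rw [← pow_two, ← pow_mul, ← pow_succ']; exact hn')
      set B : Subgroup S := X1 ⊔ Subgroup.zpowers c with hB
      have hcX : c ∈ X' := hc.1
      have hBX : B ≤ X' := sup_le hX1X (Subgroup.zpowers_le.2 hcX)
      have hKc' : K ≤ Subgroup.normalizer (Subgroup.zpowers c : Set S) := norm_of fun g hg u hu' => by
        obtain ⟨m, rfl⟩ := hu'
        have hgc : Commute g c := Subgroup.mem_centralizer_iff.1 hc.2 g hg
        simp only
        rw [(hgc.zpow_right m).eq, mul_inv_cancel_right]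
        exact zpow_mem (Subgroup.mem_zpowers c) m
      have hccomm : ∀ u ∈ X1, Commute u c := fun u hu' =>
        (Subgroup.mem_centralizer_iff.1 (hcent hu') c hcX).symm
      have hBcomm : ∀ a ∈ B, ∀ b ∈ B, a * b = b * a := by
        have hB' : B = Subgroup.closure ((X1 : Set S) ∪ {c}) := by
          rw [hB, Subgroup.closure_union, Subgroup.closure_eq, Subgroup.zpowers_eq_closure]
        intro a ha b hb
        rw [hB'] at ha hb
        have := Subgroup.isMulCommutative_closure (k := ((X1 : Set S) ∪ {c})) (by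
          rintro u (hu' | rfl) v (hv | rfl)
          · exact hab u hu' v hv
          · exact (hccomm u hu').eq
          · exact (hccomm v hv).eq.symm
          · rfl)
        exact congrArg Subtype.val (this.is_comm.comm (⟨a, ha⟩ : Subgroup.closure ((X1 : Set S) ∪ {c})) ⟨b, hb⟩)
      have hBA : HasA B := by
        obtain ⟨a, ha, ha1⟩ : ∃ a ∈ X1, a ≠ 1 := by
          by_contra h
          push Not at h
          rw [(Subgroup.eq_bot_iff_forall _).2 h, Subgroup.card_bot] at h4
          omega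
        obtain ⟨b, hb, hb1, hba⟩ : ∃ b ∈ X1, b ≠ 1 ∧ b ≠ a := by
          by_contra h
          push Not at h
          have hle : (X1 : Set S) ⊆ ↑({1, a} : Finset S) := by
            intro b hb
            simp only [Finset.coe_insert, Finset.coe_singleton, Set.mem_insert_iff, Set.mem_singleton_iff]
            by_cases hb1 : b = 1
            · exact Or.inl hb1
            · exact Or.inr (h b hb hb1)
          have := Set.ncard_le_ncard hle (Set.toFinite _)
          rw [Set.ncard_coe_finset, show (X1 : Set S).ncard = Nat.card X1 from rfl, h4] at this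
          have := Finset.card_le_two (a := (1 : S)) (b := a)
          omega
        have hm : ∀ u ∈ X1, u ∈ B := fun u hu' => Subgroup.mem_sup_left hu'
        exact hasA_of_comm (hX2.to_le hBX) (hm a ha) (hm b hb) (Subgroup.mem_sup_right (Subgroup.mem_zpowers c))
          (hexp a ha) ha1 (hexp b hb) hb1 hba (hab a ha b hb) (hccomm a ha).eq (hccomm b hb).eq
          (fun e => hc1 (e ▸ one_mem _)) (fun e => hc1 (e ▸ ha)) (fun e => hc1 (e ▸ hb))
          (fun e => hc1 (e ▸ mul_mem ha hb))
      have hBeq : B = X' := by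
        by_contra hne
        exact hproper B hBX (norm_sup hKX1 hKc') hne hBA
      exact ⟨⟨fun a b => Subtype.ext (hBcomm a (hBeq.ge a.2) b (hBeq.ge b.2))⟩⟩
    · right; right; left
      have hin := quat_inner hX2 hX12 hna h8' hu hXX1 hKX hKX1 hKodd hX1nc
      set D := X' ⊓ Subgroup.centralizer (X1 : Set S) with hD
      have hKD : K ≤ Subgroup.normalizer (D : Set S) := norm_inf hKX (norm_cent hKX1)
      have hXeq : X1 ⊔ D = X' := by
        refine le_antisymm (sup_le hX1X inf_le_left) fun x hx => ?_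
        have hnorm : Subgroup.centralizer (X1 : Set S) ≤ Subgroup.normalizer (X1 : Set S) :=
          Subgroup.centralizer_le_normalizer _
        obtain ⟨a, ha, b, hb, rfl⟩ := (Basics.mem_sup_of_le_normalizer hnorm).1 (hin hx)
        exact mul_mem (Subgroup.mem_sup_left ha) (Subgroup.mem_sup_right ⟨by simpa using mul_mem (inv_mem (hX1X ha)) hx, hb⟩)
      have hZ : ∀ u ∈ D ⊓ X1, u * u = 1 := by
        intro u hu'
        by_contra hne
        refine hX1nc ?_
        obtain ⟨-, hzp, -⟩ := quat_facts hna h8' hu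
        obtain ⟨-, -, hc4⟩ := mem_cyc4.1 (hzp u hu'.2 hne)
        exfalso
        -- a central element of order four makes the group abelian
        have hcyc := isCyclic_of_center_four hX12 (hproper X1 hX1X hKX1 hfull) hu'.2
          (by rw [← Nat.card_zpowers]; exact hc4)
          (fun y hy => (Subgroup.mem_centralizer_iff.1 hu'.1.2 y hy).symm)
        exact hna fun a ha b hb => congrArg Subtype.val
          ((IsCyclic.isMulCommutative (α := X1)).is_comm.comm ⟨a, ha⟩ ⟨b, hb⟩)
      have hZc : K ≤ Subgroup.centralizer ((D ⊓ X1 : Subgroup S) : Set S) := by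
        intro k hk
        rw [Subgroup.mem_centralizer_iff]
        intro u hu'
        by_cases h1 : u = 1
        · simp [h1]
        have hm := (Subgroup.mem_normalizer_iff.1 (norm_inf hKD hKX1 hk) u).1 hu'
        have hne : k * u * k⁻¹ ≠ 1 := fun e => h1 (by simpa using e)
        have e := hu _ hm.2 _ hu'.2 (hZ _ hm) hne (hZ u hu') h1
        exact (mul_inv_eq_iff_eq_mul.1 e).symm
      have hKDc : K ≤ Subgroup.centralizer (D : Set S) := by
        refine centralizes_of_chain (hX2.to_le inf_le_left) hKD hKodd hZc fun k hk y hy => ?_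
        refine ⟨D.mul_mem ((Subgroup.mem_normalizer_iff.1 (hKD hk) y).1 hy) (D.inv_mem hy), ?_⟩
        have := Subgroup.commutator_mem_commutator hy.1 hk
        have h2 := inv_mem this
        rwa [commutatorElement_inv] at h2
      obtain ⟨d, hdD, hd1, hd2⟩ : ∃ d ∈ D, d ∉ X1 ∧ d * d ∈ X1 := by
        obtain ⟨d, hd, hd1⟩ : ∃ d ∈ D, d ∉ X1 := by
          by_contra h
          push Not at h
          exact hfull (le_antisymm hX1X (hXeq.symm.le.trans (sup_le le_rfl h)))
        obtain ⟨n, hn⟩ := hX2 ⟨d, hd.1⟩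
        have hn' : d ^ 2 ^ n ∈ X1 := by
          have : d ^ 2 ^ n = 1 := by simpa using congrArg Subtype.val hn
          rw [this]; exact one_mem _
        clear hn
        induction n generalizing d with
        | zero => exact absurd (by simpa using hn') hd1
        | succ n ih =>
          by_cases h : d * d ∈ X1
          · exact ⟨d, hd, hd1, h⟩
          · exact ih (d * d) (mul_mem hd hd) h (by rw [← pow_two, ← pow_mul, ← pow_succ']; exact hn')
      set R : Subgroup S := X1 ⊔ Subgroup.zpowers d with hR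
      have hRX : R ≤ X' := sup_le hX1X (Subgroup.zpowers_le.2 hdD.1)
      have hdn : Subgroup.zpowers d ≤ Subgroup.centralizer (X1 : Set S) := Subgroup.zpowers_le.2 hdD.2
      have hKd : K ≤ Subgroup.normalizer (Subgroup.zpowers d : Set S) := norm_of fun g hg u hu' => by
        obtain ⟨m, rfl⟩ := hu'
        have hgd : Commute g d := (Subgroup.mem_centralizer_iff.1 (hKDc hg) d hdD).symm
        simp only
        rw [(hgd.zpow_right m).eq, mul_inv_cancel_right]
        exact zpow_mem (Subgroup.mem_zpowers d) m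
      obtain ⟨i, hi, hi2⟩ : ∃ i ∈ X1, i * i ≠ 1 := by
        by_contra h
        push Not at h
        refine hna fun a ha b hb => ?_
        have h' := h _ (mul_mem ha hb)
        rw [mul_eq_one_iff_eq_inv, mul_inv_rev] at h'
        rw [h', inv_eq_of_mul_eq_one_right (h a ha), inv_eq_of_mul_eq_one_right (h b hb)]
      have hdi : Commute d i := (Subgroup.mem_centralizer_iff.1 hdD.2 i hi).symm
      have hi4 : i * i * (i * i) = 1 := by
        obtain ⟨-, hzp, -⟩ := quat_facts hna h8' hu
        obtain ⟨-, -, hc4⟩ := mem_cyc4.1 (hzp i hi hi2)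
        rw [show i * i * (i * i) = i ^ orderOf i by rw [← Nat.card_zpowers, hc4]; simp [pow_succ, mul_assoc], pow_orderOf_eq_one]
      have hRA : HasA R := by
        have hiR : i ∈ R := Subgroup.mem_sup_left hi
        have hdR : d ∈ R := Subgroup.mem_sup_right (Subgroup.mem_zpowers d)
        have hii : i * i ∈ X1 := mul_mem hi hi
        obtain ⟨t, htR, htX, ht2, htc⟩ : ∃ t ∈ R, t ∉ X1 ∧ t * t = 1 ∧ Commute t i := by
          by_cases hdd : d * d = 1
          · exact ⟨d, hdR, hd1, hdd, hdi⟩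
          · refine ⟨i * d, mul_mem hiR hdR, fun h => hd1 (by simpa using mul_mem (inv_mem hi) h), ?_,
              (Commute.refl i).mul_left hdi⟩
            have hdd' : d * d * (d * d) = 1 := hZ _ ⟨mul_mem hdD hdD, hd2⟩
            have e := hu _ hd2 _ hii hdd' hdd hi4 hi2
            calc i * d * (i * d) = i * (d * i) * d := by group
              _ = i * (i * d) * d := by rw [hdi.eq]
              _ = (i * i) * (d * d) := by group
              _ = 1 := by rw [e, hi4]
        refine hasA_of_comm (hX2.to_le hRX) (mul_mem hiR hiR) htR hiR hi4 hi2 ht2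
          (fun e => htX (e ▸ one_mem _)) (fun e => htX (e ▸ hii)) ((htc.mul_right htc).eq.symm)
          (by group) htc.eq ?_ ?_ ?_ ?_
        · intro e; exact hi2 (by rw [e, one_mul])
        · intro e; exact hi2 (by rw [show i = 1 from (left_eq_mul.1 e), one_mul])
        · intro e; exact htX (e ▸ hi)
        · intro e
          refine htX ?_
          have : t = (i * i)⁻¹ * i := by
            nth_rewrite 3 [e]
            rw [inv_mul_cancel_left]
          rw [this]
          exact mul_mem (inv_mem hii) hi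
      have hReq : R = X' := by
        by_contra hne
        exact hproper R hRX (norm_sup hKX1 hKd) hne hRA
      have hcardR : Nat.card R = 2 * Nat.card X1 :=
        (Basics.card_sup_zpowers (p := 2) (W := X1) (t := d) ((Subgroup.centralizer_le_normalizer _) hdD.2)
          (by rw [pow_two]; exact hd2)).2 hd1
      obtain ⟨n, ⟨e⟩⟩ : ∃ n : ℕ, Nonempty (X1 ≃* QuaternionGroup (2 ^ n)) := by
        rcases InvChar.cyclic_or_quaternion hX12 (p := 2) (fun H L hH hL => by
          obtain ⟨a, ha1, ha2, rfl⟩ := gen_two hH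
          obtain ⟨b, hb1, hb2, rfl⟩ := gen_two hL
          exact congrArg Subgroup.zpowers (Subtype.ext (hu _ a.2 _ b.2 (congrArg Subtype.val ha2)
            (fun e => ha1 (Subtype.ext e)) (congrArg Subtype.val hb2) fun e => hb1 (Subtype.ext e)))) with h | ⟨-, h⟩
        · exact absurd (fun a ha b hb => congrArg Subtype.val
            ((IsCyclic.isMulCommutative (α := X1)).is_comm.comm ⟨a, ha⟩ ⟨b, hb⟩)) hna
        · exact h
      have hn : n = 1 := by
        have h := Nat.card_congr e.toEquiv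
        rw [h8', Nat.card_eq_fintype_card, QuaternionGroup.card] at h
        rcases n with _ | _ | n
        · norm_num at h
        · rfl
        · have : 4 ≤ 2 ^ (n + 2) := by rw [pow_add]; exact Nat.le_mul_of_pos_left _ (by positivity)
          omega
      subst hn
      refine ⟨X1, 0, hX1X, ?_, ⟨e⟩, ?_⟩
      · have h1 := (X1.subgroupOf X').card_mul_index
        rw [Nat.card_congr (Subgroup.subgroupOfEquivOfLe hX1X).toEquiv] at h1
        rw [hReq] at hcardR
        rw [hcardR, mul_comm 2] at h1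
        exact Nat.eq_of_mul_eq_mul_left Nat.card_pos h1
      · exact hXeq
  -- full commutator
  push Not at hfull
  set Φ : Subgroup S := (frattini ↥X').map X'.subtype with hΦ
  have hΦn : Φ.Normal := ConjAct.normal_of_characteristic_of_normal
  have hΦX : Φ ≤ X' := Subgroup.map_subtype_le _
  have hXne : X' ≠ ⊥ := fun e => by
    have := hasA_card_ge hXA
    rw [e, Subgroup.card_bot] at this
    omega
  have hXnil : Group.IsNilpotent X' := hX2.isNilpotent
  have hΦlt : Φ ≠ X' := by
    intro e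
    have : frattini ↥X' = ⊤ := by
      apply Subgroup.map_injective X'.subtype_injective
      rw [← hΦ, e, ← MonoidHom.range_eq_map, Subgroup.range_subtype]
    have hb : (⊥ : Subgroup X') = ⊤ := frattini_nongenerating (by rw [this, bot_sup_eq])
    have hnt : Nontrivial X' := (Subgroup.nontrivial_iff_ne_bot _).2 hXne
    exact bot_ne_top hb
  have hΦ2 : IsPGroup 2 Φ := hX2.to_le hΦX
  have hΦnoA : ¬ HasA Φ := hproper Φ hΦX Subgroup.le_normalizer_of_normal hΦlt
  have hsq : ∀ x ∈ X', x * x ∈ Φ := fun x hx => ⟨⟨x, hx⟩ ^ 2, Basics.pow_mem_frattini hX2 _, by simp [pow_two]⟩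
  have hcomm : ⁅X', X'⁆ ≤ Φ := by
    rw [← Subgroup.map_subtype_commutator]
    exact Subgroup.map_mono Basics.commutator_le_frattini
  have hΦc : Φ ≤ Subgroup.centralizer (X' : Set S) := by
    by_cases hKΦ : K ≤ Subgroup.centralizer (Φ : Set S)
    · rw [← Subgroup.commutator_eq_bot_iff_le_centralizer, ← hfull, hX1, Subgroup.commutator_comm]
      refine Subgroup.commutator_commutator_eq_bot_of_rotate ?_ ?_
      · rw [Subgroup.commutator_eq_bot_iff_le_centralizer.2 hKΦ, Subgroup.commutator_bot_left]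
      · refine eq_bot_iff.2 ((Subgroup.commutator_mono (Subgroup.commutator_le_left Φ X') le_rfl).trans ?_)
        rw [Subgroup.commutator_comm, Subgroup.commutator_eq_bot_iff_le_centralizer.2 hKΦ]
    · rcases odd_aut hΦ2 hΦnoA Subgroup.le_normalizer_of_normal hKodd hKΦ with ⟨-, h4, -⟩ | ⟨hna, h8', hu⟩
      · exact v4_central hX2 hΦX Subgroup.le_normalizer_of_normal h4 hKX Subgroup.le_normalizer_of_normal hKodd hKΦ
      · exfalso
        have hin := quat_inner hX2 hΦ2 hna h8' hu Subgroup.le_normalizer_of_normal hKX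
          Subgroup.le_normalizer_of_normal hKodd hKΦ
        have htop : (Subgroup.centralizer (Φ : Set S)).subgroupOf X' = ⊤ := by
          refine frattini_nongenerating ?_
          rw [eq_top_iff]
          rintro ⟨x, hx⟩ -
          obtain ⟨a, ha, b, hb, rfl⟩ := (Basics.mem_sup_of_le_normalizer
            (Subgroup.centralizer_le_normalizer (s := (Φ : Set S)))).1 (hin hx)
          obtain ⟨a', ha', rfl⟩ := ha
          have hbX : b ∈ X' := by simpa using mul_mem (inv_mem a'.2) hx
          have hm := mul_mem (Subgroup.mem_sup_right (S := (Subgroup.centralizer (Φ : Set S)).subgroupOf X') ha')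
            (Subgroup.mem_sup_left (T := frattini ↥X')
              (show (⟨b, hbX⟩ : X') ∈ (Subgroup.centralizer (Φ : Set S)).subgroupOf X' from hb))
          exact hm
        refine hna fun a ha b hb => ?_
        exact ((Subgroup.mem_centralizer_iff.1 ((Subgroup.subgroupOf_eq_top.1 htop) (hΦX ha))) b hb).symm
  by_cases hab : IsMulCommutative ↥X'
  · exact Or.inl hab
  set Z : Subgroup S := (Subgroup.center ↥X').map X'.subtype with hZdef
  have hZn : Z.Normal := ConjAct.normal_of_characteristic_of_normal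
  have hZX : Z ≤ X' := Subgroup.map_subtype_le _
  have hZmem : ∀ u, u ∈ Z ↔ u ∈ X' ∧ ∀ x ∈ X', x * u = u * x := by
    intro u
    constructor
    · rintro ⟨v, hv, rfl⟩
      exact ⟨v.2, fun x hx => congrArg Subtype.val (Subgroup.mem_center_iff.1 hv ⟨x, hx⟩)⟩
    · rintro ⟨hu, h⟩
      exact ⟨⟨u, hu⟩, Subgroup.mem_center_iff.2 fun x => Subtype.ext (h x x.2), rfl⟩
  have hΦZ : Φ ≤ Z := fun u hu => (hZmem u).2 ⟨hΦX hu, fun x hx => Subgroup.mem_centralizer_iff.1 (hΦc hu) x hx⟩
  have hZlt : Z ≠ X' := fun e => hab ⟨⟨fun a b => Subtype.ext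
    (((hZmem (b : S)).1 (e.ge b.2)).2 a a.2)⟩⟩
  have hZnoA : ¬ HasA Z := hproper Z hZX Subgroup.le_normalizer_of_normal hZlt
  have hZcomm : ∀ a ∈ Z, ∀ b ∈ Z, a * b = b * a := fun a ha b hb => ((hZmem b).1 hb).2 a (hZX ha)
  have hfix : ∀ u ∈ X', (∀ k ∈ K, k * u = u * k) → u ∈ Φ := by
    intro u hu hku
    let π := QuotientGroup.mk' Φ
    have : IsMulCommutative ↥(X'.map π) := by
      refine ⟨⟨?_⟩⟩
      rintro ⟨_, a, ha, rfl⟩ ⟨_, b, hb, rfl⟩
      refine Subtype.ext ?_
      show π a * π b = π b * π a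
      rw [← map_mul, ← map_mul]
      refine QuotientGroup.eq.2 (hcomm ?_)
      have := Subgroup.commutator_mem_commutator (inv_mem hb) (inv_mem ha)
      simpa [commutatorElement_def, mul_assoc] using this
    have h1 := Basics.inf_centralizer_inf_commutator_eq_bot (K.map π) (X'.map π)
      (Subgroup.map_le_iff_le_comap.2 fun k hk => by
        refine Subgroup.mem_normalizer_iff.2 fun y => ?_
        have key : ∀ k ∈ K, ∀ y ∈ X'.map π, π k * y * (π k)⁻¹ ∈ X'.map π := by
          rintro k hk _ ⟨y, hy, rfl⟩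
          exact ⟨k * y * k⁻¹, (Subgroup.mem_normalizer_iff.1 (hKX hk) y).1 hy, by simp⟩
        refine ⟨key k hk y, fun h => ?_⟩
        have := key k⁻¹ (inv_mem hk) _ h
        simpa [mul_assoc] using this)
      (((hcopK X' hX2).symm.coprime_dvd_left (Subgroup.card_map_dvd K π)).coprime_dvd_right (Subgroup.card_map_dvd X' π))
    have h2 : π u ∈ (X'.map π ⊓ Subgroup.centralizer ((K.map π : Subgroup (S ⧸ Φ)) : Set (S ⧸ Φ))) ⊓
        ⁅X'.map π, K.map π⁆ := by
      refine ⟨⟨⟨u, hu, rfl⟩, ?_⟩, ?_⟩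
      · rintro _ ⟨k, hk, rfl⟩
        rw [← map_mul, ← map_mul, hku k hk]
      · rw [← Subgroup.map_commutator, ← hX1, hfull]
        exact ⟨u, hu, rfl⟩
    rw [h1, Subgroup.mem_bot] at h2
    exact (QuotientGroup.eq_one_iff u).1 h2
  have hΦne : Φ ≠ ⊥ := by
    intro e
    refine hab ⟨⟨fun a b => Subtype.ext ?_⟩⟩
    have := hcomm (Subgroup.commutator_mem_commutator a.2 b.2)
    rw [e, Subgroup.mem_bot] at this
    exact commutatorElement_eq_one_iff_mul_comm.1 this
  have hZΦ : Z = Φ := by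
    refine le_antisymm ?_ hΦZ
    by_cases hKZ : K ≤ Subgroup.centralizer (Z : Set S)
    · exact fun u hu => hfix u (hZX hu) fun k hk => (Subgroup.mem_centralizer_iff.1 (hKZ hk) u hu).symm
    · rcases odd_aut (hX2.to_le hZX) hZnoA Subgroup.le_normalizer_of_normal hKodd hKZ with ⟨-, h4, -⟩ | ⟨hna, -, -⟩
      · by_contra hne
        have hlt : Nat.card Φ < Nat.card Z := Basics.card_lt_of_lt (lt_of_le_of_ne hΦZ fun e => hne e.ge)
        have hd := Subgroup.card_dvd_of_le hΦZ
        have h1 : Nat.card Φ ≠ 1 := fun e => hΦne (Subgroup.eq_bot_of_card_eq _ e)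
        have h2 : Nat.card Φ = 2 := by
          rw [h4] at hd hlt
          interval_cases h : Nat.card Φ <;> omega
        have hKΦ2 := cent_two (Subgroup.le_normalizer_of_normal (H := Φ) (K := K)) h2
        refine hKZ (centralizes_of_chain (hX2.to_le hZX) Subgroup.le_normalizer_of_normal hKodd hKΦ2 fun k hk y hy => ?_)
        have hi : (Φ.subgroupOf Z).index = 2 := by
          have h3 := (Φ.subgroupOf Z).card_mul_index
          rw [Nat.card_congr (Subgroup.subgroupOfEquivOfLe hΦZ).toEquiv, h2, h4] at h3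
          omega
        have hm := (hZn.conj_mem y hy k)
        refine (Subgroup.mul_mem_iff_of_index_two hi (a := (⟨k * y * k⁻¹, hm⟩ : Z)) (b := (⟨y, hy⟩ : Z)⁻¹)).2 ?_
        show k * y * k⁻¹ ∈ Φ ↔ y⁻¹ ∈ Φ
        rw [inv_mem_iff]
        exact (Subgroup.mem_normalizer_iff.1 (Subgroup.le_normalizer_of_normal (H := Φ) hk) y).symm
      · exact absurd hZcomm hna
  set D : Subgroup S := ⁅X', X'⁆ with hDdef
  have hDn : D.Normal := Subgroup.commutator_normal X' X'
  have hDne : D ≠ ⊥ := fun e => hab ⟨⟨fun a b => Subtype.ext (commutatorElement_eq_one_iff_mul_comm.1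
    (by have := Subgroup.commutator_mem_commutator a.2 b.2; rwa [← hDdef, e, Subgroup.mem_bot] at this))⟩⟩
  have hDsq : ∀ u ∈ D, u * u = 1 := by
    let W : Subgroup S :=
      { carrier := {u | u ∈ Z ∧ u * u = 1}
        one_mem' := ⟨one_mem _, one_mul 1⟩
        mul_mem' := fun {a b} ha hb => ⟨mul_mem ha.1 hb.1, by
          rw [mul_assoc, ← mul_assoc b a b, hZcomm b hb.1 a ha.1, mul_assoc a b b, hb.2, mul_one, ha.2]⟩
        inv_mem' := fun {a} ha => ⟨inv_mem ha.1, by rw [← mul_inv_rev, ha.2, inv_one]⟩ }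
    have : D ≤ W := Subgroup.commutator_le.2 fun x hx y hy => by
      have hc : ⁅x, y⁆ ∈ Z := hΦZ (hcomm (Subgroup.commutator_mem_commutator hx hy))
      refine ⟨hc, ?_⟩
      have hx2 : ∀ y ∈ X', y * (x * x) = x * x * y := fun y hy => ((hZmem _).1 (hΦZ (hsq x hx))).2 y hy
      calc ⁅x, y⁆ * ⁅x, y⁆ = x * (y * x⁻¹ * y⁻¹) * ⁅x, y⁆ := by simp [commutatorElement_def, mul_assoc]
        _ = x * (⁅x, y⁆ * (y * x⁻¹ * y⁻¹)) := by
          rw [mul_assoc, ((hZmem _).1 hc).2 _ (mul_mem (mul_mem hy (inv_mem hx)) (inv_mem hy))]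
        _ = x * x * y * (x * x)⁻¹ * y⁻¹ := by simp [commutatorElement_def, mul_assoc]
        _ = 1 := by rw [← hx2 y hy]; group
    exact fun u hu => (this hu).2
  have hDΦ : D = Φ := by
    refine le_antisymm hcomm ?_
    by_cases hKΦ : K ≤ Subgroup.centralizer (Φ : Set S)
    · let T : Subgroup S :=
        { carrier := {x | x ∈ X' ∧ x * x ∈ D}
          one_mem' := ⟨one_mem _, by simpa using one_mem D⟩
          mul_mem' := fun {a b} ha hb => ⟨mul_mem ha.1 hb.1, by
            have h := mul_mem (mul_mem (Subgroup.commutator_mem_commutator ha.1 hb.1 : ⁅a, b⁆ ∈ D) (hDn.conj_mem _ hb.2 (b * a))) (hDn.conj_mem _ ha.2 b)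
            have e1 : a * b * (a * b) = a * (b * a * b⁻¹) * (b * b) := by group
            rw [e1]
            refine mul_mem ?_ hb.2
            rw [show a * (b * a * b⁻¹) = a * a * (a⁻¹ * b * a * b⁻¹) by group]
            refine mul_mem ha.2 ?_
            have := Subgroup.commutator_mem_commutator (inv_mem ha.1) hb.1
            simpa [commutatorElement_def, mul_assoc] using this⟩
          inv_mem' := fun {a} ha => ⟨inv_mem ha.1, by rw [← mul_inv_rev]; exact inv_mem ha.2⟩ }
      have hT : X' ≤ T := by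
        have hgen : X1 ≤ T := by
          rw [hX1]
          refine Subgroup.commutator_le.2 fun x hx k hk => ?_
          have hm : k * x⁻¹ * k⁻¹ ∈ X' := (Subgroup.mem_normalizer_iff.1 (hKX hk) _).1 (inv_mem hx)
          refine ⟨by simpa [commutatorElement_def, mul_assoc] using mul_mem hx hm, ?_⟩
          have hxx := hsq x hx
          have hfx : k * (x * x)⁻¹ * k⁻¹ = (x * x)⁻¹ := by
            rw [← Subgroup.mem_centralizer_iff.1 (hKΦ hk) _ (inv_mem hxx), mul_inv_cancel_right]
          set v := k * x⁻¹ * k⁻¹ with hv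
          have e : ⁅x, k⁆ = x * v := by rw [hv, commutatorElement_def]; group
          rw [e]
          have hvv : v * v = (x * x)⁻¹ := by rw [← hfx, hv]; group
          have hcx : ⁅v, x⁆ ∈ D := Subgroup.commutator_mem_commutator hm hx
          have : x * v * (x * v) = (x * ⁅v, x⁆ * x⁻¹) * (x * x * (v * v)) := by
            rw [commutatorElement_def]; group
          rw [this, hvv, mul_inv_cancel, mul_one]
          exact hDn.conj_mem _ hcx x
        exact hfull ▸ hgen
      exact LocalEvenA.map_frattini_le_of (p := 2) le_rfl fun x hx => by rw [pow_two]; exact (hT hx).2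
    · rcases odd_aut hΦ2 hΦnoA Subgroup.le_normalizer_of_normal hKodd hKΦ with ⟨-, h4, -⟩ | ⟨hna, -, -⟩
      · by_contra hne
        have hlt : Nat.card D < Nat.card Φ := Basics.card_lt_of_lt (lt_of_le_of_ne hcomm fun e => hne e.ge)
        have hd := Subgroup.card_dvd_of_le hcomm
        have h1 : Nat.card D ≠ 1 := fun e => hDne (Subgroup.eq_bot_of_card_eq _ e)
        have h2 : Nat.card D = 2 := by
          rw [h4] at hd hlt
          interval_cases h : Nat.card D <;> omega
        refine hKΦ (centralizes_of_chain hΦ2 Subgroup.le_normalizer_of_normal hKodd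
          (cent_two (Subgroup.le_normalizer_of_normal (H := D) (K := K)) h2) fun k hk y hy => ?_)
        have hi : (D.subgroupOf Φ).index = 2 := by
          have h3 := (D.subgroupOf Φ).card_mul_index
          rw [Nat.card_congr (Subgroup.subgroupOfEquivOfLe hcomm).toEquiv, h2, h4] at h3
          omega
        refine (Subgroup.mul_mem_iff_of_index_two hi (a := (⟨k * y * k⁻¹, hΦn.conj_mem y hy k⟩ : Φ))
          (b := (⟨y, hy⟩ : Φ)⁻¹)).2 ?_
        show k * y * k⁻¹ ∈ D ↔ y⁻¹ ∈ D
        rw [inv_mem_iff]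
        exact (Subgroup.mem_normalizer_iff.1 (Subgroup.le_normalizer_of_normal (H := D) hk) y).symm
      · exact absurd (fun a ha b hb => hZcomm a (hΦZ ha) b (hΦZ hb)) hna
  have hspecial : Cfsg.IsSpecial 2 ↥X' := by
    refine ⟨hX2, ?_, ?_⟩
    · apply Subgroup.map_injective X'.subtype_injective
      rw [← hΦ, ← hZdef, hZΦ]
    · apply Subgroup.map_injective X'.subtype_injective
      rw [Subgroup.map_subtype_commutator, ← hDdef, hDΦ, ← hZdef, hZΦ]
  have hZcard : Nat.card (Subgroup.center ↥X') = Nat.card Z := by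
    rw [hZdef, Subgroup.card_map_of_injective X'.subtype_injective]
  obtain ⟨nZ, hnZ⟩ := IsPGroup.iff_card.1 (hX2.to_le hZX)
  have hZ4 : Nat.card Z ≤ 4 := by
    by_contra h
    have hc := isCyclic_of_comm (hX2.to_le hZX) hZnoA le_rfl hZcomm (not_le.1 h)
    obtain ⟨g, hg⟩ := hc.exists_generator
    have hgD : (g : S) ∈ D := by rw [hDΦ, ← hZΦ]; exact g.2
    have h2 := orderOf_dvd_of_pow_eq_one (show g ^ 2 = 1 from Subtype.ext (by simpa [pow_two] using hDsq _ hgD))
    rw [orderOf_eq_card_of_forall_mem_zpowers hg] at h2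
    have := Nat.le_of_dvd (by norm_num) h2
    omega
  have hnZ0 : nZ ≠ 0 := by
    rintro rfl
    exact hΦne (hZΦ ▸ Subgroup.eq_bot_of_card_eq _ (by rw [hnZ, pow_zero]))
  have hnZ2 : nZ ≤ 2 := by
    rw [hnZ, show 4 = 2 ^ 2 from rfl] at hZ4
    exact (Nat.pow_le_pow_iff_right (by norm_num)).1 hZ4
  obtain rfl | rfl : nZ = 1 ∨ nZ = 2 := by omega
  · refine Or.inr (Or.inl ⟨⟨hspecial, show Nat.card (Subgroup.center ↥X') = 2 by rw [hZcard, hnZ, pow_one]⟩, ?_⟩)
    obtain ⟨m, hm⟩ := Transfer.card_eq_pow_odd_aux (p := 2) (Nat.card X') (P := X') rfl hX2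
      (by rw [hZcard, hnZ, pow_one])
      (fun x y => by
        rw [← hspecial.2.2]
        exact Subgroup.commutator_mem_commutator (Subgroup.mem_top x) (Subgroup.mem_top y))
      (fun x => by rw [← hspecial.2.1]; exact Basics.pow_mem_frattini hX2 x)
    have h8X := hasA_card_ge hXA
    have hm2 : 2 ≤ m := by
      by_contra hlt
      have hle : Nat.card X' ≤ 8 := by
        rw [hm]; exact (Nat.pow_le_pow_right two_pos (by omega : 2 * m + 1 ≤ 3)).trans (le_of_eq rfl)
      obtain ⟨A, hAX, hAc, -, hA8⟩ := hXA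
      exact hab ((Subgroup.eq_of_le_of_card_ge hAX (show Nat.card X' ≤ Nat.card A by omega) : A = X') ▸ hAc)
    show 32 ≤ Nat.card X'
    rw [hm]
    exact (le_of_eq (by norm_num : 32 = 2 ^ 5)).trans (Nat.pow_le_pow_right two_pos (by omega))
  · exact Or.inr (Or.inr (Or.inr ⟨hspecial, show Nat.card (Subgroup.center ↥X') = 4 by rw [hZcard, hnZ]; norm_num⟩))

end Cfsg.Agent.S4409
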