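import Cfsg.Statements.S4410
import Cfsg.Statements.S4410
import Mathlib
import Cfsg.Agent.Lib.Basics.Cores
import Cfsg.Agent.Lib.Components.Fitting

set_option autoImplicit false
open Cfsg
open scoped Pointwise
set_option linter.all false

namespace Cfsg.Agent.S4410

open Subgroup
open Cfsg.Agent

variable {V : Type*} [AddCommGroup V] [Module (ZMod 2) V]

private theorem two_zero (v : V) : v + v = 0 := by
  rw [← two_smul (ZMod 2) v, show (2 : ZMod 2) = 0 from rfl, zero_smul]

/-- automorphisms acting trivially on the quotient by `W` -/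
private def K [Finite V] (W : Submodule (ZMod 2) V) : Subgroup (V ≃ₗ[ZMod 2] V) where
  carrier := {g | ∀ v, g v - v ∈ W}
  one_mem' := fun v => by simp
  mul_mem' := fun {g h} hg hh v => by
    have := W.add_mem (hg (h v)) (hh v)
    simpa [LinearEquiv.mul_apply] using this
  inv_mem' := fun {g} hg v => by
    have h := W.neg_mem (hg (g⁻¹ v))
    have e : g (g⁻¹ v) = v := g.apply_symm_apply v
    rw [e, neg_sub] at h
    exact h

private theorem mem_W [Finite V] {W : Submodule (ZMod 2) V} (g : K W) {w : V} (hw : w ∈ W) :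
    (g : V ≃ₗ[ZMod 2] V) w ∈ W := by
  simpa using W.add_mem (g.2 w) hw

/-- An odd-order subgroup of `K W` embeds into the automorphism group of `W`. -/
private theorem card_dvd_aut [Finite V] (W : Submodule (ZMod 2) V) (R : Subgroup (V ≃ₗ[ZMod 2] V))
    (hR : R ≤ K W) (hodd : Odd (Nat.card R)) :
    Nat.card R ∣ Nat.card (W ≃ₗ[ZMod 2] W) := by
  let f : R →* (W ≃ₗ[ZMod 2] W) :=
    MonoidHom.mk' (fun g => LinearEquiv.ofBijective
      (((g : V ≃ₗ[ZMod 2] V) : V →ₗ[ZMod 2] V).restrict (fun w hw => mem_W ⟨g, hR g.2⟩ hw))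
      ⟨fun a b h => Subtype.ext ((g : V ≃ₗ[ZMod 2] V).injective (congrArg Subtype.val h)),
        fun w => ⟨⟨((g⁻¹ : R) : V ≃ₗ[ZMod 2] V) w, mem_W ⟨_, hR (g⁻¹).2⟩ w.2⟩,
          Subtype.ext ((g : V ≃ₗ[ZMod 2] V).apply_symm_apply w)⟩⟩)
      (fun g h => LinearEquiv.ext fun w => Subtype.ext rfl)
  have hinj : Function.Injective f := by
    rw [injective_iff_map_eq_one]
    intro g hg
    have hfix : ∀ w ∈ W, (g : V ≃ₗ[ZMod 2] V) w = w := fun w hw =>
      congrArg Subtype.val (LinearEquiv.congr_fun hg ⟨w, hw⟩)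
    have hsq : g ^ 2 = 1 := by
      apply Subtype.ext
      rw [pow_two]
      refine LinearEquiv.ext fun v => ?_
      show (g : V ≃ₗ[ZMod 2] V) ((g : V ≃ₗ[ZMod 2] V) v) = v
      set d := (g : V ≃ₗ[ZMod 2] V) v - v with hd
      have e : (g : V ≃ₗ[ZMod 2] V) v = v + d := by rw [hd]; abel
      rw [e, map_add, hfix d (hR g.2 v), e, add_assoc, two_zero, add_zero]
    rw [← orderOf_eq_one_iff]
    have h1 : orderOf g ∣ 2 := orderOf_dvd_of_pow_eq_one hsq
    exact Nat.eq_one_of_dvd_coprimes (Nat.coprime_two_left.2 hodd) h1 (orderOf_dvd_natCard g)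
  exact Subgroup.card_dvd_of_injective f hinj

private theorem card_aut [Finite V] (W : Submodule (ZMod 2) V) :
    ∃ k : ℕ, Nat.card W = 2 ^ k ∧
      Nat.card (W ≃ₗ[ZMod 2] W) = ∏ i : Fin k, (2 ^ k - 2 ^ (i : ℕ)) := by
  obtain ⟨k, b⟩ : ∃ k, Nonempty (W ≃ₗ[ZMod 2] (Fin k → ZMod 2)) :=
    ⟨Module.finrank (ZMod 2) W, ⟨(Module.finBasis (ZMod 2) W).equivFun⟩⟩
  obtain ⟨e⟩ := b
  refine ⟨k, ?_, ?_⟩
  · rw [Nat.card_congr e.toEquiv, Nat.card_fun, Nat.card_zmod, Nat.card_fin]
  · have h : Nat.card (W ≃ₗ[ZMod 2] W) = Nat.card (GL (Fin k) (ZMod 2)) := by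
      refine Nat.card_congr ((Equiv.trans ?_
        (LinearMap.GeneralLinearGroup.generalLinearEquiv (ZMod 2) (Fin k → ZMod 2)).symm.toEquiv).trans
        (Matrix.GeneralLinearGroup.toLin (n := Fin k) (R := ZMod 2)).symm.toEquiv)
      exact
        { toFun := fun f => e.symm.trans (f.trans e)
          invFun := fun f => e.trans (f.trans e.symm)
          left_inv := fun f => LinearEquiv.ext fun w => by simp
          right_inv := fun f => LinearEquiv.ext fun w => by simp }
    rw [h, Matrix.card_GL_field, ZMod.card]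

private theorem le_card_le [Finite V] {W : Submodule (ZMod 2) V} {n : ℕ} (a : Fin n → V)
    (h : W = Submodule.span (ZMod 2) (Set.range a)) : Nat.card W ≤ 2 ^ n := by
  have hs : Function.Surjective
      ((Fintype.linearCombination (ZMod 2) a).rangeRestrict) := LinearMap.surjective_rangeRestrict _
  have := Nat.card_le_card_of_surjective _ hs
  rw [Nat.card_fun, Nat.card_zmod, Nat.card_fin] at this
  rw [h, ← Fintype.range_linearCombination]
  exact this

private theorem three_part [Finite V] (W : Submodule (ZMod 2) V) (hW : Nat.card W ≤ 8)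
    (R : Subgroup (V ≃ₗ[ZMod 2] V)) (hR : R ≤ K W) (hodd : Odd (Nat.card R)) :
    Nat.card R ∣ 21 ∧ (Nat.card W ≤ 4 → Nat.card R ∣ 3) := by
  have h := card_dvd_aut W R hR hodd
  obtain ⟨k, hk, he⟩ := card_aut W
  rw [he] at h
  have hk3 : k ≤ 3 := (Nat.pow_le_pow_iff_right (by norm_num : 1 < 2)).1 (by rw [← hk]; exact hW)
  have hc : (Nat.card R).Coprime 8 := by
    rw [show 8 = 2 ^ 3 by norm_num]
    exact Nat.Coprime.pow_right 3 (Nat.coprime_two_right.2 hodd)
  interval_cases k
  all_goals simp [Fin.prod_univ_succ] at h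
  · subst h; simp
  · subst h; simp
  · have h3 : Nat.card R ∣ 3 := (hc.coprime_dvd_right (by norm_num : 2 ∣ 8)).dvd_of_dvd_mul_left
      (by norm_num; exact h)
    exact ⟨h3.trans (by norm_num), fun _ => h3⟩
  · refine ⟨hc.dvd_of_dvd_mul_left (by norm_num; exact h), fun h4 => absurd (hk ▸ h4) (by norm_num)⟩


/-- Let V be a finite-dimensional vector space over the field with two elements and S a solvable group of linear automorphisms of V with O₂(S) = 1. If P ∈ S has order 4 and (P − 1)³ = 0 on V, then the image of (P − 1)² has at least 4 elements; equivalently, in the decomposition of V into indecomposable modules for the cyclic group generated by P, at least two summands have dimension 3. -/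
theorem result
    {V : Type*} [AddCommGroup V] [Module (ZMod 2) V] [Finite V]
    (S : Subgroup (V ≃ₗ[ZMod 2] V)) (hS : Group.IsSolvable ↥S) (hO2 : Cfsg.pCore 2 ↥S = ⊥)
    (P : V ≃ₗ[ZMod 2] V) (hPS : P ∈ S) (hP4 : orderOf P = 4)
    (hcub : ((P : V →ₗ[ZMod 2] V) - LinearMap.id) ^ 3 = 0) :
    4 ≤ Nat.card ↥(LinearMap.range (((P : V →ₗ[ZMod 2] V) - LinearMap.id) ^ 2)) := by
  classical
  haveI : Finite (V ≃ₗ[ZMod 2] V) := Finite.of_injective (fun f => (f : V → V)) DFunLike.coe_injective
  by_contra hlt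
  push Not at hlt
  set E : V →ₗ[ZMod 2] V := ((P : V →ₗ[ZMod 2] V) - LinearMap.id) ^ 2 with hE
  obtain ⟨k, hk, -⟩ := card_aut (LinearMap.range E)
  have hk1 : k ≤ 1 := by
    by_contra h
    have : 2 ^ 2 ≤ 2 ^ k := Nat.pow_le_pow_right (by norm_num) (by omega)
    rw [← hk] at this; omega
  -- a generator of the range
  obtain ⟨a, ha⟩ : ∃ a : V, ∀ v, E v ∈ Submodule.span (ZMod 2) {a} := by
    by_cases hbot : LinearMap.range E = ⊥
    · exact ⟨0, fun v => by
        have : E v ∈ LinearMap.range E := ⟨v, rfl⟩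
        rw [hbot, Submodule.mem_bot] at this
        rw [this]; exact Submodule.zero_mem _⟩
    · obtain ⟨a, haE, ha0⟩ := Submodule.exists_mem_ne_zero_of_ne_bot hbot
      refine ⟨a, fun v => ?_⟩
      have hle : Submodule.span (ZMod 2) {a} ≤ LinearMap.range E :=
        (Submodule.span_singleton_le_iff_mem _ _).2 haE
      haveI : Nontrivial (Submodule.span (ZMod 2) ({a} : Set V)) :=
        ⟨⟨⟨a, Submodule.mem_span_singleton_self a⟩, 0, fun h => ha0 (congrArg Subtype.val h)⟩⟩
      have h2 : 2 ≤ Nat.card (Submodule.span (ZMod 2) ({a} : Set V)) := Finite.one_lt_card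
      have h3 : (Submodule.span (ZMod 2) ({a} : Set V)).toAddSubgroup = (LinearMap.range E).toAddSubgroup :=
        AddSubgroup.eq_of_le_of_card_ge hle (by
          show Nat.card (LinearMap.range E) ≤ Nat.card (Submodule.span (ZMod 2) ({a} : Set V))
          have : (2 : ℕ) ^ k ≤ 2 ^ 1 := Nat.pow_le_pow_right (by norm_num) hk1
          omega)
      have h4 : E v ∈ (LinearMap.range E).toAddSubgroup := ⟨v, rfl⟩
      rw [← h3] at h4
      exact h4
  set t := P * P with ht
  have htK : t ∈ K (Submodule.span (ZMod 2) {a}) := fun v => by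
    have e : t v - v = E v := by
      rw [hE, pow_two, ht]
      show P (P v) - v = (((P : V →ₗ[ZMod 2] V) - (LinearMap.id : V →ₗ[ZMod 2] V)) : V →ₗ[ZMod 2] V) (P v - v)
      simp only [LinearMap.sub_apply, LinearMap.id_apply, LinearEquiv.coe_coe, map_sub]
      have : P (P v) - P v - (P v - v) = P (P v) - v - (P v + P v) + (v + v) := by abel
      rw [this, two_zero, two_zero, sub_zero, add_zero]
    rw [e]; exact ha v
  have htS : t ∈ S := mul_mem hPS hPS
  have ht2 : t * t = 1 := by
    rw [ht, ← pow_two, ← pow_two, ← pow_mul]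
    have := pow_orderOf_eq_one P
    rw [hP4] at this
    exact this
  have ht1 : t ≠ 1 := fun h => by
    have := orderOf_dvd_of_pow_eq_one (show P ^ 2 = 1 by rw [pow_two]; exact h)
    rw [hP4] at this; norm_num at this
  have htinv : t⁻¹ = t := inv_eq_of_mul_eq_one_left ht2
  haveI : Finite S := inferInstance
  -- t moves an element of some odd core
  obtain ⟨p, hp, hp2, u, hu, hne⟩ : ∃ p : ℕ, p.Prime ∧ p ≠ 2 ∧ ∃ u ∈ pCore p S,
      (⟨t, htS⟩ : S) * u ≠ u * ⟨t, htS⟩ := by
    by_contra hall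
    push Not at hall
    haveI := hS
    have hc : (⟨t, htS⟩ : S) ∈ centralizer (Cfsg.fittingSubgroup S : Set S) := by
      have hle : Cfsg.fittingSubgroup S ≤ centralizer ({⟨t, htS⟩} : Set S) := by
        rw [Components.fitting_eq_iSup_pCore, iSup_le_iff]
        intro q x hx
        by_cases h2 : (q : ℕ) = 2
        · rw [h2, hO2, mem_bot] at hx
          rw [hx]; exact one_mem _
        · exact mem_centralizer_singleton_iff.2 (hall q (Nat.prime_of_mem_primeFactors q.2) h2 x hx).symm
      exact mem_centralizer_iff.2 fun x hx => mem_centralizer_singleton_iff.1 (hle hx)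
    have hF := Basics.centralizer_fittingSubgroup_le hc
    -- the Fitting subgroup has odd order
    have hodd : ¬ 2 ∣ Nat.card (Cfsg.fittingSubgroup S) := by
      intro h2
      haveI := Fact.mk Nat.prime_two
      haveI : Group.IsNilpotent (Cfsg.fittingSubgroup S) := Components.fitting_isNilpotent
      obtain ⟨Q⟩ := (inferInstance : Nonempty (Sylow 2 (Cfsg.fittingSubgroup S)))
      haveI hQc : (Q : Subgroup (Cfsg.fittingSubgroup S)).Characteristic :=
        Q.characteristic_of_normal inferInstance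
      haveI : (Cfsg.fittingSubgroup S).Normal := by
        unfold Cfsg.fittingSubgroup
        exact Subgroup.sSup_normal _ fun N hN => hN.1
      have h := Components.le_pCore (p := 2) (G := S)
        (ConjAct.normal_of_characteristic_of_normal (H := Cfsg.fittingSubgroup S) (K := (Q : Subgroup _)))
        (Q.2.map _)
      rw [hO2, le_bot_iff, Subgroup.map_eq_bot_iff_of_injective _ (subtype_injective _)] at h
      exact Q.ne_bot_of_dvd_card h2 h
    apply hodd
    have ho : orderOf (⟨t, htS⟩ : S) = 2 := by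
      rw [← Subgroup.orderOf_coe]
      exact orderOf_eq_prime (by rw [pow_two]; exact ht2) ht1
    have h := Subgroup.orderOf_dvd_natCard _ hF
    rw [ho] at h
    exact h
  haveI := Fact.mk hp
  set O : Subgroup (V ≃ₗ[ZMod 2] V) := (pCore p S).map S.subtype with hO
  haveI hOn : (pCore p S).Normal := by
    unfold Cfsg.pCore; exact Subgroup.sSup_normal _ fun N hN => hN.1
  have hOp : IsPGroup p O := (Components.sSup_isPGroup_of_normal : IsPGroup p (pCore p S)).map _
  have hOconj : ∀ g ∈ S, ∀ x ∈ O, g * x * g⁻¹ ∈ O := by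
    rintro g hg _ ⟨x, hx, rfl⟩
    exact ⟨_, hOn.conj_mem x hx ⟨g, hg⟩, rfl⟩
  have huO : (u : V ≃ₗ[ZMod 2] V) ∈ O := ⟨u, hu, rfl⟩
  set g : V ≃ₗ[ZMod 2] V := (u : V ≃ₗ[ZMod 2] V) with hg
  set t' := g * t * g⁻¹ with ht'
  set c := t * t' with hc
  have hcO : c ∈ O := by
    have h := mul_mem (hOconj t htS g huO) (inv_mem huO)
    rw [htinv] at h
    rw [hc, ht', ← mul_assoc, ← mul_assoc]; exact h
  have hc1 : c ≠ 1 := fun h => hne (Subtype.ext (by
    show t * g = g * t
    have e : t' = t := by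
      calc t' = (t * t) * t' := by rw [ht2, one_mul]
        _ = t * c := by rw [hc, mul_assoc]
        _ = t := by rw [h, mul_one]
    calc t * g = t' * g := by rw [e]
      _ = g * t := by rw [ht']; group))
  have hOodd : ∀ R : Subgroup (V ≃ₗ[ZMod 2] V), R ≤ O → Odd (Nat.card R) := fun R hR => by
    obtain ⟨n, hn⟩ := IsPGroup.iff_card.1 (hOp.to_le hR)
    rw [hn]; exact (hp.odd_of_ne_two hp2).pow
  have hKmono : ∀ {W W' : Submodule (ZMod 2) V}, W ≤ W' → K W ≤ K W' := fun h x hx v => h (hx v)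
  have hKconj : ∀ (x y : V ≃ₗ[ZMod 2] V) (b : V), x ∈ K (Submodule.span (ZMod 2) {b}) →
      y * x * y⁻¹ ∈ K (Submodule.span (ZMod 2) {y b}) := by
    intro x y b hx v
    obtain ⟨r, hr⟩ := Submodule.mem_span_singleton.1 (hx (y⁻¹ v))
    refine Submodule.mem_span_singleton.2 ⟨r, ?_⟩
    have e : y (y⁻¹ v) = v := y.apply_symm_apply v
    rw [← map_smul, hr, map_sub, e]
    rfl
  -- c has order three
  set b : Fin 2 → V := ![a, g a] with hb
  set W := Submodule.span (ZMod 2) (Set.range b) with hW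
  have hcW : c ∈ K W := mul_mem
    (hKmono (Submodule.span_mono (by rintro _ rfl; exact ⟨0, rfl⟩)) htK)
    (hKmono (Submodule.span_mono (by rintro _ rfl; exact ⟨1, rfl⟩)) (hKconj t g a htK))
  have hcz : zpowers c ≤ O := zpowers_le.2 hcO
  have hW4 : Nat.card W ≤ 4 := le_card_le b hW
  have hc3 : orderOf c = 3 := by
    have h := (three_part W (by omega) (zpowers c) (zpowers_le.2 hcW) (hOodd _ hcz)).2 hW4
    rw [Nat.card_zpowers] at h
    exact ((Nat.dvd_prime Nat.prime_three).1 h).resolve_left (fun e => hc1 (orderOf_eq_one_iff.1 e))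
  have hp3 : p = 3 := by
    obtain ⟨n, hn⟩ := IsPGroup.iff_card.1 hOp
    have h := Subgroup.orderOf_dvd_natCard O hcO
    rw [hn, hc3] at h
    exact ((Nat.prime_dvd_prime_iff_eq Nat.prime_three hp).1 (Nat.prime_three.dvd_of_dvd_pow h)).symm
  -- the conjugate of c by P
  set d := P * c * P⁻¹ with hd
  have hPt : P * t * P⁻¹ = t := by rw [ht]; group
  have hdeq : d = t * ((P * g) * t * (P * g)⁻¹) := by
    calc d = (P * t * P⁻¹) * (P * t' * P⁻¹) := by rw [hd, hc]; group
      _ = _ := by rw [hPt, ht']; group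
  set b3 : Fin 3 → V := ![a, g a, (P * g) a] with hb3
  set W3 := Submodule.span (ZMod 2) (Set.range b3) with hW3
  have hdW : d ∈ K W3 := hdeq ▸ mul_mem
    (hKmono (Submodule.span_mono (by rintro _ rfl; exact ⟨0, rfl⟩)) htK)
    (hKmono (Submodule.span_mono (by rintro _ rfl; exact ⟨2, rfl⟩)) (hKconj t (P * g) a htK))
  have hcW3 : c ∈ K W3 := hKmono (Submodule.span_mono (by
    rintro _ ⟨i, rfl⟩
    fin_cases i
    · exact ⟨0, rfl⟩
    · exact ⟨1, rfl⟩)) hcW
  have hdO : d ∈ O := hOconj P hPS c hcO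
  set R := zpowers c ⊔ zpowers d with hR
  have hRO : R ≤ O := sup_le hcz (zpowers_le.2 hdO)
  have hR21 := (three_part W3 (by simpa using le_card_le b3 hW3) R
    (sup_le (zpowers_le.2 hcW3) (zpowers_le.2 hdW)) (hOodd _ hRO)).1
  have hRc : R = zpowers c := by
    refine (Subgroup.eq_of_le_of_card_ge le_sup_left ?_).symm
    rw [Nat.card_zpowers, hc3]
    obtain ⟨n, hn⟩ := IsPGroup.iff_card.1 (hOp.to_le hRO)
    rw [hn, hp3] at hR21 ⊢
    rcases Nat.lt_or_ge n 2 with h | h
    · calc 3 ^ n ≤ 3 ^ 1 := Nat.pow_le_pow_right (by norm_num) (by omega)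
        _ = 3 := pow_one 3
    · exfalso
      have : 3 ^ 2 ∣ 21 := (pow_dvd_pow 3 h).trans hR21
      norm_num at this
  -- P² centralises c, yet t inverts it
  obtain ⟨i, hi⟩ : ∃ i : ℕ, c ^ i = d := by
    have : d ∈ zpowers c := hRc ▸ mem_sup_right (mem_zpowers d)
    exact mem_powers_iff_mem_zpowers.2 this
  have hinv : t * c * t⁻¹ = c⁻¹ := by
    have ht'2 : t' * t' = 1 := by
      rw [ht']
      calc g * t * g⁻¹ * (g * t * g⁻¹) = g * (t * t) * g⁻¹ := by group
        _ = 1 := by rw [ht2]; group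
    rw [hc, htinv]
    calc t * (t * t') * t = (t * t) * t' * t := by group
      _ = t' * t := by rw [ht2, one_mul]
      _ = (t * t')⁻¹ := by rw [mul_inv_rev, inv_eq_of_mul_eq_one_left ht'2, htinv]
  have hpow : t * c * t⁻¹ = c ^ (i * i) := by
    have h1 : P * c ^ i * P⁻¹ = (P * c * P⁻¹) ^ i := by rw [conj_pow]
    calc t * c * t⁻¹ = P * (P * c * P⁻¹) * P⁻¹ := by rw [ht]; group
      _ = P * c ^ i * P⁻¹ := by rw [← hd, hi]
      _ = _ := by rw [h1, ← hd, ← hi, ← pow_mul]
  rw [hinv] at hpow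
  have h3 : c ^ (i * i + 1) = 1 := by rw [pow_succ, ← hpow, inv_mul_cancel]
  have h4 : 3 ∣ i * i + 1 := hc3 ▸ orderOf_dvd_of_pow_eq_one h3
  have h5 := Nat.mul_mod i i 3
  have h6 : i % 3 < 3 := Nat.mod_lt _ (by norm_num)
  interval_cases hh : i % 3 <;> omega

end Cfsg.Agent.S4410
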