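import Cfsg.Statements.S4411
import Cfsg.Agent.Lib.AutDiv.Main
-- import your own Cfsg.Agent.* helpers here

set_option autoImplicit false
open Cfsg

namespace Cfsg.Agent.S4411

/-- Let p and q be distinct primes with {p, q} ≠ {2, 3}, and let G be a finite group such that for every p-subgroup H of G the automizer N_G(H)/C_G(H) is p-solvable. If q divides the order of N_G(H)/C_G(H) for some p-subgroup H, then a Sylow p-subgroup of G has a normal subgroup K (normal in the Sylow subgroup) such that q divides the order of N_G(K)/C_G(K). -/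
theorem result {G : Type*} [Group G] [Finite G]
    (p q : ℕ) [Fact p.Prime] [Fact q.Prime] (hpq : p ≠ q) (h23 : ¬ ((p = 2 ∧ q = 3) ∨ (p = 3 ∧ q = 2)))
    (hsol : ∀ H : Subgroup G, IsPGroup p ↥H →
      Cfsg.IsPSolvable p (↥(Subgroup.normalizer (H : Set G)) ⧸ (Subgroup.centralizer (H : Set G)).subgroupOf (Subgroup.normalizer (H : Set G))))
    (H : Subgroup G) (hH : IsPGroup p ↥H)
    (hq : q ∣ ((Subgroup.centralizer (H : Set G)).subgroupOf (Subgroup.normalizer (H : Set G))).index)
    (Gp : Sylow p G) :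
    ∃ K : Subgroup G, K ≤ (Gp : Subgroup G) ∧ (Gp : Subgroup G) ≤ Subgroup.normalizer (K : Set G) ∧
      q ∣ ((Subgroup.centralizer (K : Set G)).subgroupOf (Subgroup.normalizer (K : Set G))).index := by
  obtain ⟨K, P, hK, hKg, hP⟩ := AutDiv.exists_normal_good (p := p) (q := q) hpq h23 _ G rfl hsol
    ⟨H, hH, (AutDiv.good_iff H).1 hq⟩
  have hKP : K ≤ (P : Subgroup G) :=
    le_sup_left.trans (P.3 (hK.to_sup_of_normal_left' P.2 hP) le_sup_right).le
  obtain ⟨g, hg⟩ := MulAction.exists_smul_eq G P Gp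
  have hGp : (Gp : Subgroup G) = (P : Subgroup G).map (MulAut.conj g).toMonoidHom := by
    rw [← hg]; rfl
  refine ⟨K.map (MulAut.conj g).toMonoidHom, hGp ▸ Subgroup.map_mono hKP, ?_, (AutDiv.good_iff _).2 ?_⟩
  · rw [hGp]
    exact (Subgroup.map_mono hP).trans (Subgroup.le_normalizer_map _)
  · obtain ⟨y, hy, ⟨k, hk⟩, hyC⟩ := hKg
    refine ⟨MulAut.conj g y, Subgroup.le_normalizer_map _ ⟨y, hy, rfl⟩,
      ⟨k, by rw [← map_pow, hk, map_one]⟩, fun hh => hyC fun a ha => ?_⟩
    apply (MulAut.conj g).injective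
    rw [map_mul, map_mul]
    exact hh _ ⟨a, ha, rfl⟩

end Cfsg.Agent.S4411
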