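import Cfsg.Statements.S4412
import Cfsg.Agent.Lib.Basics.Frattini

set_option autoImplicit false
open Cfsg
open scoped Pointwise
set_option linter.all false

namespace Cfsg.Agent.S4412

open Subgroup
open scoped commutatorElement
open Cfsg.Agent

section
variable {P : Type*} [Group P] [Finite P] {p : ℕ} [hp : Fact p.Prime]

private theorem odd_half (hP : IsPGroup p P) (hp2 : p ≠ 2) {H : Subgroup P} {x : P} (h : x * x ∈ H) : x ∈ H := by
  obtain ⟨k, hk⟩ := hP x
  obtain ⟨m, hm⟩ : Odd (p ^ k) := (hp.out.odd_of_ne_two hp2).pow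
  have : x = (x * x) ^ (m + 1) := by
    rw [← pow_two, ← pow_mul, show 2 * (m + 1) = p ^ k + 1 by omega, pow_succ, hk, one_mul]
  rw [this]; exact pow_mem h _

private theorem sq_eq_one (hP : IsPGroup p P) (hp2 : p ≠ 2) {x : P} (h : x * x = 1) : x = 1 :=
  mem_bot.1 (odd_half hP hp2 (mem_bot.2 h))

private theorem exists_fixed (hP : IsPGroup p P) (hp2 : p ≠ 2) (t : MulAut P) (ht : t * t = 1)
    (N : Subgroup P) [N.Characteristic] {c : P} (hc : c⁻¹ * t c ∈ N) : ∃ w, t w = w ∧ c⁻¹ * w ∈ N := by
  classical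
  let C := {y : P // c⁻¹ * y ∈ N}
  haveI : Fintype C := Fintype.ofFinite C
  have htt : ∀ y, t (t y) = y := fun y => by rw [← MulAut.mul_apply, ht, MulAut.one_apply]
  have hN : ∀ n ∈ N, t n ∈ N := fun n hn => by
    have := Subgroup.characteristic_iff_map_le.1 ‹N.Characteristic› t
    exact this ⟨n, hn, rfl⟩
  let f : C → C := fun y => ⟨t y.1, by
    have := mul_mem hc (hN _ y.2)
    rw [map_mul, map_inv] at this
    simpa [mul_assoc] using this⟩
  have hf : Function.Involutive f := fun y => Subtype.ext (htt y.1)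
  let σ : Equiv.Perm C := hf.toPerm
  have hodd : ¬ 2 ∣ Fintype.card C := by
    rw [← Nat.card_eq_fintype_card, show Nat.card C = Nat.card N from Nat.card_congr
      { toFun := fun y => ⟨c⁻¹ * y.1, y.2⟩
        invFun := fun n => ⟨c * n.1, by rw [inv_mul_cancel_left]; exact n.2⟩
        left_inv := fun y => Subtype.ext (mul_inv_cancel_left c y.1)
        right_inv := fun n => Subtype.ext (inv_mul_cancel_left c n.1) }]
    obtain ⟨i, hi⟩ := IsPGroup.iff_card.1 (hP.to_subgroup N)
    rw [hi]
    exact fun h => hp2 ((Nat.prime_dvd_prime_iff_eq Nat.prime_two hp.out).1 (Nat.prime_two.dvd_of_dvd_pow h)).symm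
  haveI := Fact.mk Nat.prime_two
  obtain ⟨y, hy⟩ := Equiv.Perm.exists_fixed_point_of_prime (p := 2) (n := 1) hodd (σ := σ) (Equiv.ext fun y => by
    rw [pow_one, pow_two]; exact hf y)
  exact ⟨y.1, congrArg Subtype.val hy, y.2⟩

/-- Fixed points of a four-group of automorphisms generate. -/
private theorem generated (hP : IsPGroup p P) (hp2 : p ≠ 2) (a b : MulAut P) (ha : a * a = 1) (hb : b * b = 1)
    (hab : a * b = b * a) (L : Subgroup P) (hLa : ∀ x, a x = x → x ∈ L) (hLb : ∀ x, b x = x → x ∈ L)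
    (hLab : ∀ x, (a * b) x = x → x ∈ L) : L = ⊤ := by
  haveI : Group.IsNilpotent P := hP.isNilpotent
  apply frattini_nongenerating
  rw [eq_top_iff]
  intro x _
  refine sup_le_sup_left (Basics.commutator_le_frattini (G := P)) L ?_
  haveI := fact_iff.2 hp.out
  have lift : ∀ (t : MulAut P) (y : P), t * t = 1 → (∀ z, t z = z → z ∈ L) → Abelianization.of (t y) = Abelianization.of y →
      y ∈ L ⊔ commutator P := by
    intro t y ht hL hy
    obtain ⟨w, hw, hyw⟩ := exists_fixed hP hp2 t ht (commutator P) (c := y) (by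
      rw [← Abelianization.ker_of, MonoidHom.mem_ker, map_mul, map_inv, hy, inv_mul_cancel])
    have : y = w * (y⁻¹ * w)⁻¹ := by group
    rw [this]
    exact mul_mem (mem_sup_left (hL w hw)) (mem_sup_right (inv_mem hyw))
  have haa : ∀ y, a (a y) = y := fun y => by rw [← MulAut.mul_apply, ha, MulAut.one_apply]
  have hbb : ∀ y, b (b y) = y := fun y => by rw [← MulAut.mul_apply, hb, MulAut.one_apply]
  have hba : ∀ y, b (a y) = a (b y) := fun y => by rw [← MulAut.mul_apply, ← hab, MulAut.mul_apply]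
  set s1 := (x * a x) * (b x * a (b x)) with hs1
  set s2 := (x * a x) * (b x * a (b x))⁻¹ with hs2
  set s3 := (x * b x) * (a x * a (b x))⁻¹ with hs3
  set s4 := (x * a (b x)) * (a x * b x)⁻¹ with hs4
  have m1 : s1 ∈ L ⊔ commutator P := lift a s1 ha hLa (by
    simp only [hs1, map_mul, haa]; ac_rfl)
  have m2 : s2 ∈ L ⊔ commutator P := lift a s2 ha hLa (by
    simp only [hs2, map_mul, map_inv, haa, mul_inv]; ac_rfl)
  have m3 : s3 ∈ L ⊔ commutator P := lift b s3 hb hLb (by
    simp only [hs3, map_mul, map_inv, hbb, hba, mul_inv]; ac_rfl)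
  have m4 : s4 ∈ L ⊔ commutator P := lift (a * b) s4 (by
    rw [mul_assoc, ← mul_assoc b a b, ← hab, mul_assoc a b b, hb, mul_one, ha]) hLab (by
    simp only [hs4, map_mul, map_inv, MulAut.mul_apply, haa, hbb, hba, mul_inv]; ac_rfl)
  have key : (x * x) * (x * x) * (s1 * s2 * s3 * s4)⁻¹ ∈ commutator P := by
    rw [← Abelianization.ker_of, MonoidHom.mem_ker, map_mul, map_inv, mul_inv_eq_one]
    simp only [hs1, hs2, hs3, hs4, map_mul, map_inv, mul_inv_rev]
    apply Additive.ofMul.injective
    simp only [ofMul_mul, ofMul_inv]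
    abel
  have : (x * x) * (x * x) ∈ L ⊔ commutator P := by
    have h := mul_mem (mem_sup_right key) (mul_mem (mul_mem (mul_mem m1 m2) m3) m4)
    rwa [inv_mul_cancel_right] at h
  exact odd_half hP hp2 (odd_half hP hp2 this)

/-- In a cyclic subgroup one of two elements is a power of the other. -/
private theorem chain (hP : IsPGroup p P) {g x y : P} (hx : x ∈ zpowers g) (hy : y ∈ zpowers g) :
    x ∈ zpowers y ∨ y ∈ zpowers x := by
  obtain ⟨i, hi⟩ := IsPGroup.iff_card.1 (hP.to_subgroup (zpowers x))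
  obtain ⟨j, hj⟩ := IsPGroup.iff_card.1 (hP.to_subgroup (zpowers y))
  have key : ∀ u v : P, u ∈ zpowers g → v ∈ zpowers g → Nat.card (zpowers u) ∣ Nat.card (zpowers v) → u ∈ zpowers v := by
    intro u v hu hv hd
    classical
    haveI : Fintype (zpowers g) := Fintype.ofFinite _
    set u' : zpowers g := ⟨u, hu⟩
    set v' : zpowers g := ⟨v, hv⟩
    have hov : orderOf v' = orderOf v := (Subgroup.orderOf_mk v hv)
    rw [Nat.card_zpowers, Nat.card_zpowers] at hd
    have hu' : u' ^ orderOf v' = 1 := Subtype.ext (by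
      rw [hov]; exact orderOf_dvd_iff_pow_eq_one.1 hd)
    have hsub : (zpowers v' : Set (zpowers g)).toFinset = Finset.univ.filter (fun a => a ^ orderOf v' = 1) := by
      refine Finset.eq_of_subset_of_card_le (fun a ha => ?_) ?_
      · rw [Set.mem_toFinset] at ha
        obtain ⟨k, rfl⟩ := ha
        simp only [Finset.mem_filter, Finset.mem_univ, true_and]
        show (v' ^ k) ^ orderOf v' = 1
        rw [← zpow_natCast, ← zpow_mul, mul_comm, zpow_mul, zpow_natCast, pow_orderOf_eq_one, one_zpow]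
      · refine (IsCyclic.card_pow_eq_one_le (orderOf_pos v')).trans ?_
        rw [Set.toFinset_card, ← Nat.card_eq_fintype_card, SetLike.coe_sort_coe, Nat.card_zpowers]
    have : u' ∈ (zpowers v' : Set (zpowers g)).toFinset := hsub ▸ (by simp [hu'])
    obtain ⟨k, hk⟩ := Set.mem_toFinset.1 this
    exact ⟨k, congrArg Subtype.val hk⟩
  rcases le_total i j with h | h
  · exact Or.inl (key x y hx hy (by rw [hi, hj]; exact pow_dvd_pow p h))
  · exact Or.inr (key y x hy hx (by rw [hi, hj]; exact pow_dvd_pow p h))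

/-- A commuting involution acts by a sign on a cyclic fixed-point subgroup. -/
private theorem sign_on (hP : IsPGroup p P) (hp2 : p ≠ 2) (a t : MulAut P) (ht : t * t = 1) (hta : t * a = a * t)
    {g : P} (hg : ∀ x, a x = x ↔ x ∈ zpowers g) : t g = g ∨ t g = g⁻¹ := by
  have hag : a g = g := (hg g).2 (mem_zpowers g)
  obtain ⟨k, hk⟩ := (hg (t g)).1 (by rw [← MulAut.mul_apply, ← hta, MulAut.mul_apply, hag])
  simp only at hk
  have hcm : Commute g (t g) := by rw [← hk]; exact (Commute.refl g).zpow_right k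
  have htt : t (t g) = g := by rw [← MulAut.mul_apply, ht, MulAut.one_apply]
  have h1 : t (g * t g) = g * t g := by rw [map_mul, htt, hcm.eq]
  have h2 : t (g * (t g)⁻¹) = (g * (t g)⁻¹)⁻¹ := by
    rw [map_mul, map_inv, htt, mul_inv_rev, inv_inv]
  have m1 : g * t g ∈ zpowers g := by rw [← hk]; exact mul_mem (mem_zpowers g) (zpow_mem (mem_zpowers g) k)
  have m2 : g * (t g)⁻¹ ∈ zpowers g := by rw [← hk]; exact mul_mem (mem_zpowers g) (inv_mem (zpow_mem (mem_zpowers g) k))
  rcases chain hP m1 m2 with h | h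
  · right
    obtain ⟨i, hi⟩ := h
    simp only at hi
    have : g * t g = 1 := by
      refine sq_eq_one hP hp2 ?_
      have e : t (g * t g) = (g * t g)⁻¹ := by rw [← hi, map_zpow, h2, inv_zpow]
      rw [h1] at e
      exact eq_inv_iff_mul_eq_one.1 e
    exact eq_inv_of_mul_eq_one_right this
  · left
    obtain ⟨i, hi⟩ := h
    simp only at hi
    have : g * (t g)⁻¹ = 1 := by
      refine sq_eq_one hP hp2 ?_
      have e : t (g * (t g)⁻¹) = g * (t g)⁻¹ := by rw [← hi, map_zpow, h1]
      rw [h2] at e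
      exact eq_inv_iff_mul_eq_one.1 e.symm
    exact (mul_inv_eq_one.1 this).symm

end


set_option maxHeartbeats 1000000 in
/-- Let p be an odd prime, P a finite p-group and I an elementary abelian subgroup of order 8 of Aut(P). Call T ∈ I, T ≠ 1, broad when its fixed-point subgroup C_P(T) is not cyclic. Suppose I has a proper subgroup I₀ containing no broad element such that the product of any two broad elements lies in I₀. Then P is abelian of rank exactly 3 (generated by three elements but not by two), there are exactly three broad elements and they generate I, and I₀ is exactly the set of products of two broad elements. -/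
theorem result
    {P : Type*} [Group P] [Finite P] (p : ℕ) (hp : p.Prime) (hp2 : p ≠ 2) (hP : IsPGroup p P)
    (I : Subgroup (MulAut P)) (hI : Cfsg.IsElementaryAbelian 2 I) (hI8 : Nat.card ↥I = 8)
    (I₀ : Subgroup (MulAut P)) (hI₀ : I₀ < I)
    (hdisj : ∀ T ∈ I₀, T ≠ 1 → ∃ g : P, ∀ x : P, (T x = x ↔ x ∈ Subgroup.zpowers g))
    (hprod : ∀ T ∈ I, ∀ T' ∈ I, T ≠ 1 → T' ≠ 1 → (¬ ∃ g : P, ∀ x : P, (T x = x ↔ x ∈ Subgroup.zpowers g)) →
      (¬ ∃ g : P, ∀ x : P, (T' x = x ↔ x ∈ Subgroup.zpowers g)) → T * T' ∈ I₀) :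
    IsMulCommutative P ∧ (∃ a b c : P, Subgroup.closure {a, b, c} = ⊤) ∧ (¬ ∃ a b : P, Subgroup.closure {a, b} = ⊤) ∧
      Nat.card {T : MulAut P // T ∈ I ∧ T ≠ 1 ∧ ¬ ∃ g : P, ∀ x : P, (T x = x ↔ x ∈ Subgroup.zpowers g)} = 3 ∧
      Subgroup.closure {T : MulAut P | T ∈ I ∧ T ≠ 1 ∧ ¬ ∃ g : P, ∀ x : P, (T x = x ↔ x ∈ Subgroup.zpowers g)} = I ∧
      (I₀ : Set (MulAut P)) = {S : MulAut P | ∃ T T' : MulAut P, T ∈ I ∧ T' ∈ I ∧ T ≠ 1 ∧ T' ≠ 1 ∧
        (¬ ∃ g : P, ∀ x : P, (T x = x ↔ x ∈ Subgroup.zpowers g)) ∧ (¬ ∃ g : P, ∀ x : P, (T' x = x ↔ x ∈ Subgroup.zpowers g)) ∧ S = T * T'} := by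
  classical
  haveI := Fact.mk hp
  haveI : Group.IsNilpotent P := hP.isNilpotent
  set Br : MulAut P → Prop := fun T => ¬ ∃ g : P, ∀ x : P, (T x = x ↔ x ∈ Subgroup.zpowers g) with hBr
  have hcomm : ∀ S ∈ I, ∀ T ∈ I, S * T = T * S := fun S hS T hT =>
    congrArg Subtype.val (hI.1.is_comm.comm ⟨S, hS⟩ ⟨T, hT⟩)
  have hinv : ∀ S ∈ I, S * S = 1 := fun S hS => by rw [← pow_two]; exact hI.2 S hS
  have ne_mul : ∀ S ∈ I, ∀ T ∈ I, S ≠ T → S * T ≠ 1 := fun S hS T hT hne h => hne (by
    rw [← mul_one S, ← hinv T hT, ← mul_assoc, h, one_mul])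
  -- a four-group without broad elements
  obtain ⟨a, b, ha, hb, ha1, hb1, hab, hna, hnb, hnab⟩ : ∃ a b, a ∈ I ∧ b ∈ I ∧ a ≠ 1 ∧ b ≠ 1 ∧ a ≠ b ∧
      ¬ Br a ∧ ¬ Br b ∧ ¬ Br (a * b) := by
    obtain ⟨c0, hc0, hc01⟩ := SetLike.exists_of_lt hI₀
    by_cases h3 : ∃ u v, u ∈ I₀ ∧ v ∈ I₀ ∧ u ≠ 1 ∧ v ≠ 1 ∧ u ≠ v
    · obtain ⟨u, v, hu, hv, u1, v1, huv⟩ := h3
      exact ⟨u, v, hI₀.le hu, hI₀.le hv, u1, v1, huv, not_not.2 (hdisj u hu u1), not_not.2 (hdisj v hv v1),
        not_not.2 (hdisj _ (mul_mem hu hv) (ne_mul u (hI₀.le hu) v (hI₀.le hv) huv))⟩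
    · push Not at h3
      -- at most two broad elements
      set S : Finset (MulAut P) := (Set.toFinite {T | T ∈ I ∧ T ≠ 1 ∧ Br T}).toFinset with hS
      have hS2 : S.card ≤ 2 := by
        by_contra hlt
        obtain ⟨x, y, z, hx, hy, hz, hxy, hxz, hyz⟩ := Finset.two_lt_card_iff.1 (show 2 < S.card by omega)
        simp only [hS, Set.Finite.mem_toFinset, Set.mem_setOf_eq] at hx hy hz
        have := h3 (x * y) (x * z) (hprod x hx.1 y hy.1 hx.2.1 hy.2.1 hx.2.2 hy.2.2)
          (hprod x hx.1 z hz.1 hx.2.1 hz.2.1 hx.2.2 hz.2.2) (ne_mul x hx.1 y hy.1 hxy) (ne_mul x hx.1 z hz.1 hxz)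
        exact hyz (mul_left_cancel this)
      set U : Finset (MulAut P) := (Set.toFinite {T | T ∈ I ∧ T ≠ 1 ∧ ¬ Br T}).toFinset with hU
      have hU5 : 5 ≤ U.card := by
        have hsub : (Set.toFinite (I : Set (MulAut P))).toFinset ⊆ insert 1 (S ∪ U) := by
          intro T hT
          simp only [Set.Finite.mem_toFinset, SetLike.mem_coe] at hT
          simp only [hS, hU, Finset.mem_insert, Finset.mem_union, Set.Finite.mem_toFinset, Set.mem_setOf_eq]
          tauto
        have h1 := Finset.card_le_card hsub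
        rw [← Set.ncard_eq_toFinset_card, ← Nat.card_coe_set_eq, SetLike.coe_sort_coe, hI8] at h1
        have h2 := Finset.card_insert_le (1 : MulAut P) (S ∪ U)
        have h4 := Finset.card_union_le S U
        omega
      obtain ⟨u, hu⟩ := Finset.card_pos.1 (show 0 < U.card by omega)
      by_contra hno
      push Not at hno
      -- the other non-broad elements are carried into the broad ones by `u`
      have hsub : (U.erase u).image (fun v => u * v) ⊆ S := by
        intro w hw
        obtain ⟨v, hv, rfl⟩ := Finset.mem_image.1 hw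
        have hne := (Finset.mem_erase.1 hv).1
        have hv' := (Finset.mem_erase.1 hv).2
        simp only [hU, Set.Finite.mem_toFinset, Set.mem_setOf_eq] at hu hv'
        simp only [hS, Set.Finite.mem_toFinset, Set.mem_setOf_eq]
        exact ⟨mul_mem hu.1 hv'.1, ne_mul u hu.1 v hv'.1 (Ne.symm hne),
          hno u v hu.1 hv'.1 hu.2.1 hv'.2.1 (Ne.symm hne) hu.2.2 hv'.2.2⟩
      have h5 := Finset.card_le_card hsub
      rw [Finset.card_image_of_injective _ (mul_right_injective u), Finset.card_erase_of_mem hu] at h5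
      omega
  obtain ⟨g0, hg0⟩ := not_not.1 hna
  obtain ⟨g1, hg1⟩ := not_not.1 hnb
  obtain ⟨g2, hg2⟩ := not_not.1 hnab
  set g : Fin 3 → P := ![g0, g1, g2] with hg
  have hgen : closure (Set.range g) = ⊤ := by
    refine generated hP hp2 a b (hinv a ha) (hinv b hb) (hcomm a ha b hb) _ ?_ ?_ ?_
    · intro x hx; exact zpowers_le.2 (show g 0 ∈ closure (Set.range g) from subset_closure ⟨0, rfl⟩) ((hg0 x).1 hx)
    · intro x hx; exact zpowers_le.2 (show g 1 ∈ closure (Set.range g) from subset_closure ⟨1, rfl⟩) ((hg1 x).1 hx)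
    · intro x hx; exact zpowers_le.2 (show g 2 ∈ closure (Set.range g) from subset_closure ⟨2, rfl⟩) ((hg2 x).1 hx)
  have hsign : ∀ T ∈ I, ∀ i, T (g i) = g i ∨ T (g i) = (g i)⁻¹ := fun T hT i => by
    fin_cases i
    · exact sign_on hP hp2 a T (hinv T hT) (hcomm T hT a ha) hg0
    · exact sign_on hP hp2 b T (hinv T hT) (hcomm T hT b hb) hg1
    · exact sign_on hP hp2 (a * b) T (hinv T hT) (hcomm T hT _ (mul_mem ha hb)) hg2
  let pat : I → Fin 3 → Bool := fun T i => decide ((T : MulAut P) (g i) = g i)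
  have hext : ∀ S T : MulAut P, (∀ i, S (g i) = T (g i)) → S = T := by
    intro S T h
    refine MulEquiv.ext fun x => ?_
    have hx : x ∈ closure (Set.range g) := hgen ▸ mem_top x
    induction hx using closure_induction with
    | mem y hy => obtain ⟨i, rfl⟩ := hy; exact h i
    | one => simp
    | mul y z _ _ h1 h2 => rw [map_mul, map_mul, h1, h2]
    | inv y _ h1 => rw [map_inv, map_inv, h1]
  have hval : ∀ (T : I) i, (T : MulAut P) (g i) = if pat T i then g i else (g i)⁻¹ := fun T i => by
    simp only [pat]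
    by_cases h : (T : MulAut P) (g i) = g i
    · simp [h]
    · simp [h, (hsign T T.2 i).resolve_left h]
  have hpinj : Function.Injective pat := fun S T h => Subtype.ext (hext _ _ fun i => by
    rw [hval S i, hval T i, congrFun h i])
  haveI : Fintype I := Fintype.ofFinite I
  have hbij : Function.Bijective pat := (Fintype.bijective_iff_injective_and_card pat).2 ⟨hpinj, by
    rw [← Nat.card_eq_fintype_card, hI8]; simp⟩
  let el : (Fin 3 → Bool) → MulAut P := fun v => ((Equiv.ofBijective pat hbij).symm v : I)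
  have elI : ∀ v, el v ∈ I := fun v => SetLike.coe_mem _
  have elv : ∀ v i, el v (g i) = if v i then g i else (g i)⁻¹ := fun v i => by
    rw [hval, Equiv.ofBijective_apply_symm_apply pat hbij v]
  have gne : ∀ i, g i ≠ 1 := by
    intro i h
    obtain ⟨T, hT⟩ := hbij.2 (fun _ => false)
    have := congrFun hT i
    simp [pat, h] at this
  have gns : ∀ i, g i ≠ (g i)⁻¹ := fun i h => gne i (sq_eq_one hP hp2 (eq_inv_iff_mul_eq_one.1 h))
  have el_eq : ∀ T ∈ I, ∀ v, (∀ i, T (g i) = if v i then g i else (g i)⁻¹) → T = el v := fun T _ v h =>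
    hext _ _ fun i => by rw [h i, elv v i]
  have el_inj : Function.Injective el := fun v w h =>
    (Equiv.ofBijective pat hbij).symm.injective (Subtype.ext h)
  have el_one : el (fun _ => true) = 1 := (el_eq 1 (one_mem I) _ fun i => by simp).symm
  have el_surj : ∀ T ∈ I, ∃ v, T = el v := fun T hT =>
    ⟨pat ⟨T, hT⟩, el_eq T hT _ fun i => hval ⟨T, hT⟩ i⟩
  have el_mul : ∀ v w, el v * el w = el (fun i => v i == w i) := fun v w =>
    el_eq _ (mul_mem (elI v) (elI w)) _ fun i => by
      rw [MulAut.mul_apply, elv w i]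
      cases hv : v i <;> cases hw : w i <;> simp [elv, hv, map_inv]
  -- a fixed pair excludes a cyclic fixed point group
  have pair : ∀ v i j, i ≠ j → v i = true → v j = true → Br (el v) := by
    rintro v i j hij hi hj ⟨h, hh⟩
    have hx : g i ∈ zpowers h := (hh _).1 (by rw [elv, hi]; rfl)
    have hy : g j ∈ zpowers h := (hh _).1 (by rw [elv, hj]; rfl)
    rcases chain hP hx hy with ⟨k, hk⟩ | ⟨k, hk⟩ <;> simp only at hk
    · have hw1 : el (fun l => decide (l = j)) (g i) = (g i)⁻¹ := by rw [elv]; simp [hij]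
      have hw2 : el (fun l => decide (l = j)) (g j) = g j := by rw [elv]; simp
      rw [← hk, map_zpow, hw2, hk] at hw1
      exact gns i hw1
    · have hw1 : el (fun l => decide (l = i)) (g j) = (g j)⁻¹ := by rw [elv]; simp [hij.symm]
      have hw2 : el (fun l => decide (l = i)) (g i) = g i := by rw [elv]; simp
      rw [← hk, map_zpow, hw2, hk] at hw1
      exact gns j hw1
  have pata : a = el ![true, false, false] := by
    obtain ⟨v, hv⟩ := el_surj a ha
    have h0 : v 0 = true := by
      by_contra h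
      have := (hg0 g0).2 (mem_zpowers g0)
      rw [hv] at this
      have e := elv v 0
      rw [Bool.eq_false_iff.2 h] at e
      exact gns 0 (this.symm.trans e)
    rw [hv]
    congr 1
    funext i
    fin_cases i
    · exact h0
    · cases h : v 1
      · simpa using h
      · exact absurd (pair v 0 1 (by decide) h0 h) (hv ▸ hna)
    · cases h : v 2
      · simpa using h
      · exact absurd (pair v 0 2 (by decide) h0 h) (hv ▸ hna)
  have patb : b = el ![false, true, false] := by
    obtain ⟨v, hv⟩ := el_surj b hb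
    have h0 : v 1 = true := by
      by_contra h
      have := (hg1 g1).2 (mem_zpowers g1)
      rw [hv] at this
      have e := elv v 1
      rw [Bool.eq_false_iff.2 h] at e
      exact gns 1 (this.symm.trans e)
    rw [hv]
    congr 1
    funext i
    fin_cases i
    · cases h : v 0
      · simpa using h
      · exact absurd (pair v 1 0 (by decide) h0 h) (hv ▸ hnb)
    · exact h0
    · cases h : v 2
      · simpa using h
      · exact absurd (pair v 1 2 (by decide) h0 h) (hv ▸ hnb)
  have patc : a * b = el ![false, false, true] := by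
    rw [pata, patb, el_mul]
    congr 1; funext i; fin_cases i <;> rfl
  -- `P` is abelian
  set z := el (fun _ => false) with hz
  have hzg : ∀ i, z (g i) = (g i)⁻¹ := fun i => by rw [hz, elv]; simp
  set N := ⁅commutator P, (⊤ : Subgroup P)⁆ with hN
  haveI : N.Characteristic := by rw [hN]; infer_instance
  set π := QuotientGroup.mk' N with hπ
  have hcen : ∀ c ∈ commutator P, ∀ x, Commute (π c) (π x) := fun c hc x => by
    refine commutatorElement_eq_one_iff_commute.1 ?_
    rw [← map_commutatorElement]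
    exact (QuotientGroup.eq_one_iff _).2 (commutator_mem_commutator hc (mem_top x))
  have hcN : ∀ i j, i ≠ j → ⁅g i, g j⁆ ∈ N := by
    intro i j hij
    obtain ⟨k, hki, hkj⟩ : ∃ k : Fin 3, k ≠ i ∧ k ≠ j := by revert hij; revert i j; decide
    obtain ⟨T, hT, hTfix⟩ : ∃ T, T = el (fun l => decide (l = k)) ∧
        ∀ x, T x = x → x ∈ zpowers (g k) := by
      refine ⟨_, rfl, fun x hx => ?_⟩
      fin_cases k
      · exact (hg0 x).1 (by rw [pata, show (![true, false, false] : Fin 3 → Bool) = fun l => decide (l = 0) by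
          funext l; fin_cases l <;> rfl]; exact hx)
      · exact (hg1 x).1 (by rw [patb, show (![false, true, false] : Fin 3 → Bool) = fun l => decide (l = 1) by
          funext l; fin_cases l <;> rfl]; exact hx)
      · exact (hg2 x).1 (by rw [patc, show (![false, false, true] : Fin 3 → Bool) = fun l => decide (l = 2) by
          funext l; fin_cases l <;> rfl]; exact hx)
    set c := ⁅g i, g j⁆ with hc
    have hc' : c ∈ commutator P := by
      rw [_root_.commutator_def]; exact commutator_mem_commutator (mem_top _) (mem_top _)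
    have hflip : π ⁅(g i)⁻¹, (g j)⁻¹⁆ = π c := by
      have e : ⁅(g i)⁻¹, (g j)⁻¹⁆ = (g i * (g j))⁻¹ * c * (g i * g j) := by
        rw [hc, commutatorElement_def, commutatorElement_def]; group
      rw [e, map_mul, map_mul, map_inv, mul_assoc, (hcen c hc' (g i * g j)).eq, inv_mul_cancel_left]
    have hinvpair : ∀ S : MulAut P, S (g i) = (g i)⁻¹ → S (g j) = (g j)⁻¹ → π (S c) = π c := fun S h1 h2 => by
      rw [hc, ← MulEquiv.coe_toMonoidHom, map_commutatorElement, MulEquiv.coe_toMonoidHom, h1, h2]; exact hflip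
    have hTc : c⁻¹ * T c ∈ N := by
      rw [← QuotientGroup.eq_one_iff]
      show π (c⁻¹ * T c) = 1
      rw [map_mul, map_inv, hinvpair T (by rw [hT, elv]; simp [hki.symm]) (by rw [hT, elv]; simp [hkj.symm]),
        inv_mul_cancel]
    obtain ⟨w, hw, hcw⟩ := exists_fixed hP hp2 T (hinv T (hT ▸ elI _)) N hTc
    obtain ⟨e, rfl⟩ := hTfix w hw
    have hπw : π (g k ^ e) = π c := by
      have := (QuotientGroup.eq_one_iff (c⁻¹ * g k ^ e)).2 hcw
      change π _ = 1 at this
      rw [map_mul, map_inv, inv_mul_eq_one] at this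
      exact this.symm
    have h1 : π (z (g k ^ e)) = (π (g k ^ e))⁻¹ := by rw [map_zpow, hzg, inv_zpow, map_inv]
    have h2 : π (z (g k ^ e)) = π c := by
      have hzN : z (c⁻¹ * g k ^ e) ∈ N :=
        (characteristic_iff_map_le.1 ‹N.Characteristic› z) ⟨_, hcw, rfl⟩
      have := (QuotientGroup.eq_one_iff _).2 hzN
      change π _ = 1 at this
      rw [map_mul, map_mul, map_inv, map_inv, inv_mul_eq_one] at this
      rw [← this]
      exact hinvpair z (hzg i) (hzg j)
    rw [hπw] at h1
    have hcc : c * c ∈ N := by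
      rw [← QuotientGroup.eq_one_iff]
      show π (c * c) = 1
      rw [map_mul]
      nth_rewrite 1 [← h2]
      rw [h1, inv_mul_cancel]
    exact odd_half hP hp2 hcc
  have hPab : IsMulCommutative P := by
    have hq : ∀ x y : P, Commute (π x) (π y) := by
      have hgg : ∀ i j, Commute (π (g i)) (π (g j)) := fun i j => by
        by_cases h : i = j
        · subst h; exact Commute.refl _
        refine commutatorElement_eq_one_iff_commute.1 ?_
        rw [← map_commutatorElement]; exact (QuotientGroup.eq_one_iff _).2 (hcN i j h)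
      intro x y
      have hx : x ∈ closure (Set.range g) := hgen ▸ mem_top x
      have hy : y ∈ closure (Set.range g) := hgen ▸ mem_top y
      induction hx using closure_induction with
      | mem u hu =>
        obtain ⟨i, rfl⟩ := hu
        induction hy using closure_induction with
        | mem v hv => obtain ⟨j, rfl⟩ := hv; exact hgg i j
        | one => simp
        | mul v w _ _ h1 h2 => rw [map_mul]; exact h1.mul_right h2
        | inv v _ h1 => rw [map_inv]; exact h1.inv_right
      | one => simp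
      | mul u w _ _ h1 h2 => rw [map_mul]; exact h1.mul_left h2
      | inv u _ h1 => rw [map_inv]; exact h1.inv_left
    have hle : commutator P ≤ N := by
      rw [_root_.commutator_def, commutator_le]
      intro x _ y _
      refine (QuotientGroup.eq_one_iff _).1 ?_
      show π ⁅x, y⁆ = 1
      rw [map_commutatorElement, commutatorElement_eq_one_iff_commute]
      exact hq x y
    have hbot : commutator P = ⊥ := by
      obtain ⟨n, hn⟩ := (Subgroup.isNilpotent_iff_lowerCentralSeries (S := (⊤ : Subgroup P))).1 inferInstance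
      have hall : ∀ m, commutator P ≤ (⊤ : Subgroup P).lowerCentralSeries m := by
        intro m
        induction m with
        | zero => rw [Subgroup.lowerCentralSeries_zero]; exact le_top
        | succ m ih =>
          rw [Subgroup.lowerCentralSeries_succ]
          exact hle.trans (commutator_mono ih le_rfl)
      exact le_bot_iff.1 (hn ▸ hall n)
    exact ⟨⟨fun x y => commutatorElement_eq_one_iff_mul_comm.1 (mem_bot.1 (hbot ▸ (by
      rw [_root_.commutator_def]; exact commutator_mem_commutator (mem_top x) (mem_top y))))⟩⟩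
  -- the broad elements
  have hz_nb : ¬ Br z := by
    refine not_not.2 ⟨1, fun x => ?_⟩
    rw [zpowers_one_eq_bot, mem_bot]
    refine ⟨fun hx => sq_eq_one hP hp2 ?_, fun hx => by rw [hx, map_one]⟩
    have hall : ∀ y, z y = y⁻¹ := fun y => by
      have hy : y ∈ closure (Set.range g) := hgen ▸ mem_top y
      induction hy using closure_induction with
      | mem v hv => obtain ⟨i, rfl⟩ := hv; exact hzg i
      | one => simp
      | mul v w _ _ h1 h2 => rw [map_mul, h1, h2, mul_inv_rev]; exact hPab.is_comm.comm _ _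
      | inv v _ h1 => rw [map_inv, h1]
    rw [hall] at hx
    exact inv_eq_iff_mul_eq_one.1 hx
  let ev : Fin 3 → (Fin 3 → Bool) := fun k l => !decide (l = k)
  have evBr : ∀ k, Br (el (ev k)) := fun k => by
    obtain ⟨i, j, hij, hik, hjk⟩ : ∃ i j : Fin 3, i ≠ j ∧ i ≠ k ∧ j ≠ k := by revert k; decide
    exact pair _ i j hij (by simp [ev, hik]) (by simp [ev, hjk])
  have ev1 : ∀ k, el (ev k) ≠ 1 := fun k h => by
    have := congrFun (el_inj (h.trans el_one.symm)) k
    simp [ev] at this
  have hB : ∀ T, (T ∈ I ∧ T ≠ 1 ∧ Br T) ↔ ∃ k, T = el (ev k) := by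
    refine fun T => ⟨fun ⟨hT, hT1, hTb⟩ => ?_, fun ⟨k, hk⟩ => hk ▸ ⟨elI _, ev1 k, evBr k⟩⟩
    obtain ⟨v, rfl⟩ := el_surj T hT
    have hv1 : v ≠ fun _ => true := fun h => hT1 (h ▸ el_one)
    have hva : v ≠ ![true, false, false] := fun h => hna (pata ▸ h ▸ hTb)
    have hvb : v ≠ ![false, true, false] := fun h => hnb (patb ▸ h ▸ hTb)
    have hvc : v ≠ ![false, false, true] := fun h => hnab (patc ▸ h ▸ hTb)
    have hvz : v ≠ fun _ => false := fun h => hz_nb (by rw [hz, ← h]; exact hTb)
    have hdec : ∀ v : Fin 3 → Bool, v ≠ (fun _ => true) → v ≠ ![true, false, false] → v ≠ ![false, true, false] →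
        v ≠ ![false, false, true] → v ≠ (fun _ => false) → ∃ k : Fin 3, v = fun l => !decide (l = k) := by decide
    obtain ⟨k, hk⟩ := hdec v hv1 hva hvb hvc hvz
    exact ⟨k, by rw [hk]⟩
  have hprodk : ∀ k l, el (ev k) * el (ev l) ∈ I₀ := fun k l =>
    hprod _ (elI _) _ (elI _) (ev1 k) (ev1 l) (evBr k) (evBr l)
  have haI : a ∈ I₀ := by
    have := hprodk 1 2
    rwa [el_mul, show (fun i => ev 1 i == ev 2 i) = ![true, false, false] by funext i; fin_cases i <;> rfl, ← pata] at this
  have hbI : b ∈ I₀ := by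
    have := hprodk 0 2
    rwa [el_mul, show (fun i => ev 0 i == ev 2 i) = ![false, true, false] by funext i; fin_cases i <;> rfl, ← patb] at this
  have hevn : ∀ k, el (ev k) ∉ I₀ := fun k h => evBr k (hdisj _ h (ev1 k))
  refine ⟨hPab, ⟨g0, g1, g2, ?_⟩, ?_, ?_, ?_, ?_⟩
  · rw [show ({g0, g1, g2} : Set P) = Set.range g by
      ext x
      constructor
      · rintro (rfl | rfl | rfl)
        exacts [⟨0, rfl⟩, ⟨1, rfl⟩, ⟨2, rfl⟩]
      · rintro ⟨i, rfl⟩
        fin_cases i <;> simp [hg]]
    exact hgen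
  · rintro ⟨x, y, hxy⟩
    -- pass to the quotient by `p`-th powers
    letI : CommGroup P := { ‹Group P› with mul_comm := hPab.is_comm.comm }
    set K : Subgroup P := (powMonoidHom p : P →* P).range with hK
    have hpw : ∀ u : P, u ^ p ∈ K := fun u => ⟨u, rfl⟩
    let φ : Fin p × Fin p → P ⧸ K := fun t => ((x ^ (t.1 : ℕ) * y ^ (t.2 : ℕ) : P) : P ⧸ K)
    have hφ : Function.Surjective φ := by
      intro q
      induction q using QuotientGroup.induction_on with
      | _ u =>
      have hu : u ∈ closure ({x, y} : Set P) := hxy ▸ mem_top u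
      obtain ⟨i, j, rfl⟩ := mem_closure_pair.1 hu
      have hred : ∀ (w : P) (n : ℤ), ((w ^ n : P) : P ⧸ K) = ((w ^ (n % p).toNat : P) : P ⧸ K) := fun w n => by
        rw [QuotientGroup.eq]
        have e : (w ^ n)⁻¹ * w ^ (n % p).toNat = (w ^ (-(n / p)) : P) ^ p := by
          rw [← zpow_natCast w, Int.toNat_of_nonneg (Int.emod_nonneg n (by exact_mod_cast hp.ne_zero)), ← zpow_neg,
            ← zpow_add, ← zpow_natCast, ← zpow_mul]
          congr 1
          have := Int.mul_ediv_add_emod n p
          linarith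
        rw [e]; exact hpw _
      have hlt : ∀ n : ℤ, (n % p).toNat < p := fun n => by
        have h1 := Int.emod_lt_of_pos n (show (0 : ℤ) < p by exact_mod_cast hp.pos)
        have h0 := Int.emod_nonneg n (show (p : ℤ) ≠ 0 by exact_mod_cast hp.ne_zero)
        omega
      refine ⟨(⟨_, hlt i⟩, ⟨_, hlt j⟩), ?_⟩
      show ((_ : P) : P ⧸ K) = _
      rw [QuotientGroup.mk_mul, QuotientGroup.mk_mul, ← hred, ← hred]
    let ψ : (Fin 3 → Fin p) → P ⧸ K := fun t => ((∏ i, g i ^ ((t i : ℕ) : ℤ) : P) : P ⧸ K)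
    have hψ : Function.Injective ψ := by
      intro s t hst
      have hst' := QuotientGroup.eq.1 hst
      rw [← Finset.prod_inv_distrib, ← Finset.prod_mul_distrib] at hst'
      obtain ⟨v, hv⟩ := hst'
      have hv' : v ^ p = ∏ i, g i ^ (((t i : ℕ) : ℤ) - (s i : ℕ)) := by
        rw [show v ^ p = powMonoidHom p v from rfl, hv]
        refine Finset.prod_congr rfl fun i _ => ?_
        rw [← zpow_neg, ← zpow_add]; congr 1; ring
      have hrep : ∀ u : P, ∃ n : Fin 3 → ℤ, u = ∏ i, g i ^ n i := by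
        intro u
        have hu : u ∈ closure (Set.range g) := hgen ▸ mem_top u
        induction hu using closure_induction with
        | mem v hv =>
          obtain ⟨i, rfl⟩ := hv
          exact ⟨Pi.single i 1, by rw [Finset.prod_eq_single i (fun j _ hj => by simp [hj]) (by simp)]; simp⟩
        | one => exact ⟨0, by simp⟩
        | mul v w _ _ h1 h2 =>
          obtain ⟨n, rfl⟩ := h1
          obtain ⟨m, rfl⟩ := h2
          exact ⟨n + m, by simp [zpow_add, Finset.prod_mul_distrib]⟩
        | inv v _ h1 =>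
          obtain ⟨n, rfl⟩ := h1
          exact ⟨-n, by simp [zpow_neg, Finset.prod_inv_distrib]⟩
      obtain ⟨n, rfl⟩ := hrep v
      rw [← Finset.prod_pow] at hv'
      funext k
      -- separate the `k`-th coordinate
      have hsep : ∀ m : Fin 3 → ℤ, (∏ i, g i ^ m i) / el (ev k) (∏ i, g i ^ m i) = g k ^ m k * g k ^ m k := by
        intro m
        rw [map_prod, ← Finset.prod_div_distrib, Finset.prod_eq_single k]
        · rw [map_zpow, elv]; simp [ev, div_eq_mul_inv]
        · intro i _ hi; rw [map_zpow, elv]; simp [ev, hi]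
        · simp
      have e1 := congrArg (fun u => u / el (ev k) u) hv'
      simp only [← zpow_natCast _ p, ← zpow_mul] at e1
      rw [hsep, hsep] at e1
      rw [← zpow_add, ← zpow_add] at e1
      rw [zpow_eq_zpow_iff_modEq] at e1
      obtain ⟨o, ho⟩ := IsPGroup.iff_orderOf.1 hP (g k)
      have hopos : o ≠ 0 := fun h => gne k (orderOf_eq_one_iff.1 (by rw [ho, h, pow_zero]))
      have hmod : ((n k * p + n k * p : ℤ)) ≡ (((t k : ℕ) : ℤ) - (s k : ℕ)) + (((t k : ℕ) : ℤ) - (s k : ℕ)) [ZMOD (p : ℤ)] :=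
        Int.ModEq.of_dvd (by rw [ho]; push_cast; exact dvd_pow_self _ hopos) e1
      rw [Int.modEq_iff_dvd] at hmod
      have h2 : (p : ℤ) ∣ 2 * (((t k : ℕ) : ℤ) - (s k : ℕ)) := by
        obtain ⟨q', hq'⟩ := hmod
        exact ⟨q' + 2 * n k, by linarith⟩
      have hp' : Prime (p : ℤ) := Nat.prime_iff_prime_int.1 hp
      rcases hp'.dvd_or_dvd h2 with h | h
      · exact absurd ((Nat.prime_dvd_prime_iff_eq hp Nat.prime_two).1 (by exact_mod_cast h)) hp2
      · obtain ⟨q, hq⟩ := h
        have h3 := (t k).2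
        have h4 := (s k).2
        apply Fin.ext
        rcases lt_trichotomy q 0 with hq0 | hq0 | hq0
        · have : (p : ℤ) * q ≤ (p : ℤ) * (-1) := mul_le_mul_of_nonneg_left (by omega) (by positivity)
          omega
        · rw [hq0] at hq; omega
        · have : (p : ℤ) * 1 ≤ (p : ℤ) * q := mul_le_mul_of_nonneg_left (by omega) (by positivity)
          omega
    have h1 := Nat.card_le_card_of_injective ψ hψ
    have h2 := Nat.card_le_card_of_surjective φ hφ
    simp only [Nat.card_fun, Nat.card_prod, Nat.card_fin] at h1 h2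
    have h3 := h1.trans h2
    have h5 : p * p < p ^ 3 := by
      rw [pow_succ, pow_two]
      exact lt_mul_of_one_lt_right (Nat.mul_pos hp.pos hp.pos) hp.one_lt
    omega
  · show Nat.card {T : MulAut P // T ∈ I ∧ T ≠ 1 ∧ Br T} = 3
    rw [← Nat.card_congr (Equiv.ofBijective (fun k : Fin 3 =>
      (⟨el (ev k), (hB _).2 ⟨k, rfl⟩⟩ : {T : MulAut P // T ∈ I ∧ T ≠ 1 ∧ Br T})) ⟨fun k l h => ?_, fun T => ?_⟩), Nat.card_fin]
    · have := congrFun (el_inj (congrArg Subtype.val h :)) k
      simpa [ev] using this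
    · obtain ⟨k, hk⟩ := (hB T.1).1 T.2
      exact ⟨k, Subtype.ext hk.symm⟩
  · show closure {T : MulAut P | T ∈ I ∧ T ≠ 1 ∧ Br T} = I
    refine le_antisymm ((closure_le _).2 fun T hT => hT.1) fun T hT => ?_
    set C := closure {T : MulAut P | T ∈ I ∧ T ≠ 1 ∧ Br T} with hC
    have hk : ∀ k, el (ev k) ∈ C := fun k => subset_closure ((hB _).2 ⟨k, rfl⟩)
    obtain ⟨v, rfl⟩ := el_surj T hT
    let f : Fin 3 → MulAut P := fun k => if v k then 1 else el (ev k)
    have hf : ∀ k, f k ∈ C := fun k => by simp only [f]; split_ifs; exacts [one_mem C, hk k]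
    have : el v = f 0 * f 1 * f 2 := by
      symm
      refine el_eq _ ((closure_le _).2 (fun T hT => hT.1) (mul_mem (mul_mem (hf 0) (hf 1)) (hf 2))) v fun i => ?_
      simp only [f]
      fin_cases i <;> simp only [Fin.zero_eta, Fin.mk_one, Fin.reduceFinMk] <;> rcases h0 : v 0 <;> rcases h1 : v 1 <;>
        rcases h2 : v 2 <;> simp [elv, ev, h0, h1, h2, MulAut.mul_apply]
    rw [this]
    exact mul_mem (mul_mem (hf 0) (hf 1)) (hf 2)
  · ext S
    show S ∈ I₀ ↔ ∃ T T', T ∈ I ∧ T' ∈ I ∧ T ≠ 1 ∧ T' ≠ 1 ∧ Br T ∧ Br T' ∧ S = T * T'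
    constructor
    · intro hS
      obtain ⟨v, rfl⟩ := el_surj S (hI₀.le hS)
      obtain ⟨k, l, hkl⟩ : ∃ k l, el v = el (ev k) * el (ev l) := by
        have hdec : ∀ v : Fin 3 → Bool, (∃ k l : Fin 3, v = fun i => (!decide (i = k)) == (!decide (i = l))) ∨
            (∃ k : Fin 3, v = fun l => !decide (l = k)) ∨ v = fun _ => false := by decide
        rcases hdec v with ⟨k, l, h⟩ | ⟨k, h⟩ | h
        · exact ⟨k, l, by rw [el_mul, h]⟩
        · exact absurd hS (by rw [h]; exact hevn k)
        · exfalso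
          have h1 := mul_mem hS haI
          rw [h, pata, el_mul, show (fun i => (fun _ => false : Fin 3 → Bool) i == ![true, false, false] i) = ev 0 by
            funext i; fin_cases i <;> rfl] at h1
          exact hevn 0 h1
      exact ⟨_, _, elI _, elI _, ev1 k, ev1 l, evBr k, evBr l, hkl⟩
    · rintro ⟨T, T', hT, hT', h1, h2, b1, b2, rfl⟩
      exact hprod T hT T' hT' h1 h2 b1 b2

end Cfsg.Agent.S4412
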