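import Cfsg.Statements.S4413
import Cfsg.Agent.Lib.Invol.ExtraspecialClass

set_option autoImplicit false
open Cfsg
open scoped Pointwise
set_option linter.all false

namespace Cfsg.Agent.S4413

open Subgroup
open scoped commutatorElement
open Cfsg.Agent.Invol Cfsg.Agent.Invol.ExtraPairs
set_option maxRecDepth 100000

/-- The extraspecial group of order 32 of minus type, coded by its normal forms in four involutions. -/
structure W where
  v : Fin 32
deriving DecidableEq

instance : Fintype W := Fintype.ofEquiv (Fin 32) ⟨W.mk, W.v, fun _ => rfl, fun _ => rfl⟩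

def twist (a b : ℕ) : ℕ :=
  ((a / 2 % 2) * (b % 2) + (a / 4 % 2) * (b % 2 + b / 2 % 2) + (a / 8 % 2) * (b % 2 + b / 2 % 2 + b / 4 % 2)) % 2

def bits (a b : ℕ) : ℕ :=
  (a + b) % 2 + 2 * ((a / 2 + b / 2) % 2) + 4 * ((a / 4 + b / 4) % 2) + 8 * ((a / 8 + b / 8) % 2) +
    16 * ((a / 16 + b / 16 + twist a b) % 2)

def mulW (g h : W) : W := ⟨⟨bits g.v h.v % 32, Nat.mod_lt _ (by norm_num)⟩⟩

def invW (g : W) : W := ⟨⟨(g.v.val + 16 * twist g.v g.v) % 32, Nat.mod_lt _ (by norm_num)⟩⟩

theorem assocW : ∀ a b c : W, mulW (mulW a b) c = mulW a (mulW b c) := by decide +kernel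
theorem one_mulW : ∀ a : W, mulW ⟨0⟩ a = a := by decide +kernel
theorem inv_mulW : ∀ a : W, mulW (invW a) a = ⟨0⟩ := by decide +kernel

instance : Mul W := ⟨mulW⟩
instance : One W := ⟨⟨0⟩⟩
instance : Inv W := ⟨invW⟩
instance : Group W := Group.ofLeftAxioms assocW one_mulW inv_mulW

def z : W := ⟨16⟩

def pt : Fin 5 → W := ![⟨1⟩, ⟨2⟩, ⟨4⟩, ⟨8⟩, ⟨15⟩]

def idx (g : W) : Fin 5 :=
  if g.v.val % 16 = 1 then 0 else if g.v.val % 16 = 2 then 1 else if g.v.val % 16 = 4 then 2
    else if g.v.val % 16 = 8 then 3 else 4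

theorem z_facts : z ≠ 1 ∧ z * z = 1 ∧ ∀ g : W, g * z = z * g := by decide +kernel
theorem comm_cases : ∀ a b : W, a * b * a⁻¹ * b⁻¹ = 1 ∨ a * b * a⁻¹ * b⁻¹ = z := by decide +kernel
theorem sq_cases : ∀ a : W, a * a = 1 ∨ a * a = z := by decide +kernel
theorem central : ∀ a : W, (∀ b : W, a * b = b * a) → a = 1 ∨ a = z := by decide +kernel
theorem invol : ∀ g : W, g * g = 1 → g ≠ 1 → g ≠ z → g = pt (idx g) ∨ g = pt (idx g) * z := by decide +kernel
theorem idx_z : ∀ g : W, g * g = 1 → g ≠ 1 → g ≠ z → idx (g * z) = idx g := by decide +kernel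
theorem pt_facts : ∀ i : Fin 5, pt i * pt i = 1 ∧ pt i ≠ 1 ∧ pt i ≠ z ∧ idx (pt i) = i ∧ idx (pt i * z) = i := by decide +kernel
theorem pt01 : pt 0 * pt 1 * (pt 0)⁻¹ * (pt 1)⁻¹ = z := by decide +kernel
theorem conj_pt : ∀ g : W, ∀ i : Fin 5, g * pt i * g⁻¹ = pt i ∨ g * pt i * g⁻¹ = pt i * z := by decide +kernel
theorem conj_all : ∀ a b c d : Bool, ∃ g : W, g * pt 0 * g⁻¹ = (if a then pt 0 * z else pt 0) ∧
    g * pt 1 * g⁻¹ = (if b then pt 1 * z else pt 1) ∧ g * pt 2 * g⁻¹ = (if c then pt 2 * z else pt 2) ∧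
    g * pt 3 * g⁻¹ = (if d then pt 3 * z else pt 3) := by decide +kernel

def word (y0 y1 y2 y3 : W) (g : W) : W :=
  (if g.v.val % 2 = 1 then y0 else 1) * (if g.v.val / 2 % 2 = 1 then y1 else 1) *
    (if g.v.val / 4 % 2 = 1 then y2 else 1) * (if g.v.val / 8 % 2 = 1 then y3 else 1) *
    (if g.v.val / 16 = 1 then z else 1)

theorem word_id : ∀ g : W, word (pt 0) (pt 1) (pt 2) (pt 3) g = g := by decide +kernel

def swapFun : W → W := word (pt 1) (pt 0) (pt 2) (pt 3)
def cycFun : W → W := word (pt 1) (pt 2) (pt 3) (pt 4)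

theorem swapFun_spec : (∀ a b : W, swapFun (a * b) = swapFun a * swapFun b) ∧
    (∀ a : W, swapFun a = 1 → a = 1) ∧ ∀ i : Fin 5, idx (swapFun (pt i)) = Equiv.swap (0 : Fin 5) 1 i := by
  decide +kernel

theorem cycFun_spec : (∀ a b : W, cycFun (a * b) = cycFun a * cycFun b) ∧
    (∀ a : W, cycFun a = 1 → a = 1) ∧ ∀ i : Fin 5, idx (cycFun (pt i)) = i + 1 := by
  decide +kernel

theorem cntW : (Finset.univ.filter fun g : W => g ^ 2 = 1).card = 12 := by decide +kernel

theorem preW : Pre 2 W z := by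
  have hz : orderOf z = 2 := orderOf_eq_prime (by rw [pow_two]; exact z_facts.2.1) z_facts.1
  refine ⟨hz, ?_, ?_, ?_⟩
  · refine le_antisymm (fun g hg => ?_) (zpowers_le.2 (mem_center_iff.2 z_facts.2.2))
    rcases central g (fun b => (mem_center_iff.1 hg b).symm) with h | h <;> rw [h]
    · exact one_mem _
    · exact mem_zpowers _
  · intro a b
    rw [commutatorElement_def]
    rcases comm_cases a b with h | h <;> rw [h]
    · exact one_mem _
    · exact mem_zpowers _
  · intro a
    rw [pow_two]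
    rcases sq_cases a with h | h <;> rw [h]
    · exact one_mem _
    · exact mem_zpowers _

theorem aut_z (σ : MulAut W) : σ z = z := by
  have h : σ z = σ (pt 0) * σ (pt 1) * (σ (pt 0))⁻¹ * (σ (pt 1))⁻¹ := by
    rw [← pt01, map_mul, map_mul, map_mul, map_inv, map_inv]
  rcases comm_cases (σ (pt 0)) (σ (pt 1)) with h' | h'
  · exact absurd (σ.injective ((h.trans h').trans (map_one σ).symm)) z_facts.1
  · exact h.trans h'

theorem aut_pt (σ : MulAut W) (i : Fin 5) :
    σ (pt i) * σ (pt i) = 1 ∧ σ (pt i) ≠ 1 ∧ σ (pt i) ≠ z := by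
  obtain ⟨h1, h2, h3, -⟩ := pt_facts i
  refine ⟨by rw [← map_mul, h1, map_one], fun h => h2 (σ.injective (h.trans (map_one σ).symm)),
    fun h => h3 (σ.injective (h.trans (aut_z σ).symm))⟩

theorem idx_comp (σ τ : MulAut W) (i : Fin 5) : idx ((σ * τ) (pt i)) = idx (σ (pt (idx (τ (pt i))))) := by
  obtain ⟨h1, h2, h3⟩ := aut_pt τ i
  rw [MulAut.mul_apply]
  rcases invol _ h1 h2 h3 with h | h
  · rw [← h]
  · conv_lhs => rw [h, map_mul, aut_z]
    obtain ⟨k1, k2, k3⟩ := aut_pt σ (idx (τ (pt i)))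
    exact idx_z _ k1 k2 k3

theorem idx_one (i : Fin 5) : idx ((1 : MulAut W) (pt i)) = i := (pt_facts i).2.2.2.1

/-- The action on the five classes of noncentral involutions. -/
def act : MulAut W →* Equiv.Perm (Fin 5) where
  toFun σ :=
    { toFun := fun i => idx (σ (pt i))
      invFun := fun i => idx (σ⁻¹ (pt i))
      left_inv := fun i => by
        show idx (σ⁻¹ (pt (idx (σ (pt i))))) = i
        rw [← idx_comp, inv_mul_cancel, idx_one]
      right_inv := fun i => by
        show idx (σ (pt (idx (σ⁻¹ (pt i))))) = i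
        rw [← idx_comp, mul_inv_cancel, idx_one] }
  map_one' := Equiv.ext idx_one
  map_mul' σ τ := Equiv.ext fun i => idx_comp σ τ i

theorem act_ker : act.ker = (MulAut.conj : W →* MulAut W).range := by
  refine le_antisymm (fun σ hσ => ?_) ?_
  · have h : ∀ i, ∃ a : Bool, σ (pt i) = if a then pt i * z else pt i := fun i => by
      obtain ⟨h1, h2, h3⟩ := aut_pt σ i
      have hi : idx (σ (pt i)) = i := Equiv.ext_iff.1 (MonoidHom.mem_ker.1 hσ) i
      rcases invol _ h1 h2 h3 with h | h <;> rw [hi] at h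
      · exact ⟨false, by simpa using h⟩
      · exact ⟨true, by simpa using h⟩
    obtain ⟨a, ha⟩ := h 0
    obtain ⟨b, hb⟩ := h 1
    obtain ⟨c, hc⟩ := h 2
    obtain ⟨d, hd⟩ := h 3
    obtain ⟨g, g0, g1, g2, g3⟩ := conj_all a b c d
    refine ⟨g, MulEquiv.ext fun x => ?_⟩
    rw [← word_id x]
    simp only [word, map_mul, apply_ite σ, apply_ite (MulAut.conj g), map_one, aut_z]
    simp only [MulAut.conj_apply, g0, g1, g2, g3, ha, hb, hc, hd]
  · rintro _ ⟨g, rfl⟩
    refine MonoidHom.mem_ker.2 (Equiv.ext fun i => ?_)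
    show idx (g * pt i * g⁻¹) = i
    rcases conj_pt g i with h | h <;> rw [h]
    · exact (pt_facts i).2.2.2.1
    · exact (pt_facts i).2.2.2.2

theorem exists_aut (f : W → W) (hf : ∀ a b : W, f (a * b) = f a * f b) (hi : ∀ a : W, f a = 1 → a = 1) :
    ∃ σ : MulAut W, ∀ x, σ x = f x := by
  have hinj : Function.Injective (MonoidHom.mk' f hf) := (injective_iff_map_eq_one _).2 hi
  exact ⟨MulEquiv.ofBijective (MonoidHom.mk' f hf) (Finite.injective_iff_bijective.1 hinj), fun _ => rfl⟩

theorem act_surjective : Function.Surjective act := by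
  obtain ⟨σ, hσ⟩ := exists_aut swapFun swapFun_spec.1 swapFun_spec.2.1
  obtain ⟨τ, hτ⟩ := exists_aut cycFun cycFun_spec.1 cycFun_spec.2.1
  have h1 : act σ = Equiv.swap (0 : Fin 5) 1 := Equiv.ext fun i => by
    show idx (σ (pt i)) = _
    rw [hσ]; exact swapFun_spec.2.2 i
  have h2 : act τ = finRotate 5 := Equiv.ext fun i => by
    show idx (τ (pt i)) = _
    rw [hτ, cycFun_spec.2.2 i, finRotate_succ_apply]
  rw [← MonoidHom.range_eq_top, eq_top_iff]
  have hcl : Subgroup.closure ({finRotate 5, Equiv.swap (0 : Fin 5) 1} : Set (Equiv.Perm (Fin 5))) = ⊤ := by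
    refine Equiv.Perm.closure_prime_cycle_swap (by norm_num) (isCycle_finRotate) ?_ ⟨0, 1, by decide, rfl⟩
    exact support_finRotate
  rw [← hcl, closure_le]
  rintro x (rfl | rfl)
  · exact ⟨τ, h2⟩
  · exact ⟨σ, h1⟩


/-- Let P be an extraspecial 2-group of order 32 with no elementary abelian subgroup of order 8 (the central product of a dihedral and a quaternion group of order 8). Then the inner automorphism group of P has order 16 and the outer automorphism group Aut(P)/Inn(P) is isomorphic to the symmetric group of degree 5; in particular Aut(P) has order 1920. -/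
theorem result {P : Type*} [Group P] [Finite P]
    (hex : Cfsg.IsExtraspecial 2 P) (h32 : Nat.card P = 32)
    (hminus : ∀ A : Subgroup P, Cfsg.IsElementaryAbelian 2 A → Nat.card ↥A ≤ 4)
    [(MulAut.conj : P →* MulAut P).range.Normal] :
    Nat.card ↥(MulAut.conj : P →* MulAut P).range = 16 ∧ Nat.card (MulAut P) = 1920 ∧
      Nonempty ((MulAut P ⧸ (MulAut.conj : P →* MulAut P).range) ≃* Equiv.Perm (Fin 5)) := by
  obtain ⟨m, -, hm, hcase⟩ := ExtraspecialClass.rank_cases hex
  have hm2 : m = 2 := by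
    rw [h32] at hm
    have : 2 * m + 1 = 5 := Nat.pow_right_injective le_rfl (hm.symm.trans (by norm_num))
    omega
  subst hm2
  have hcnt : ExtraspecialClass.cnt P = 12 := by
    rcases hcase with ⟨-, -, A, hA, hAc⟩ | ⟨h, -⟩
    · have := hminus A hA
      rw [hAc] at this
      norm_num at this
    · norm_num at h ⊢; omega
  have hW32 : Nat.card W = 32 := by rw [Nat.card_eq_fintype_card]; decide
  have hWc : ExtraspecialClass.cnt W = 12 := by
    rw [ExtraspecialClass.cnt, Nat.card_eq_fintype_card, Fintype.card_subtype]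
    exact cntW
  obtain ⟨φ⟩ := ExtraspecialClass.iso_two hex (preW.extraspecial (by rw [hW32]; norm_num))
    (h32.trans hW32.symm) (hcnt.trans hWc.symm)
  set F : MulAut P →* Equiv.Perm (Fin 5) := act.comp (MulAut.congr φ).toMonoidHom with hF
  have hFs : Function.Surjective F := act_surjective.comp (MulAut.congr φ).surjective
  have hFk : F.ker = (MulAut.conj : P →* MulAut P).range := by
    ext σ
    rw [hF, MonoidHom.mem_ker, MonoidHom.comp_apply, ← MonoidHom.mem_ker, act_ker]
    constructor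
    · rintro ⟨g, hg⟩
      refine ⟨φ.symm g, MulEquiv.ext fun x => φ.injective ?_⟩
      have h := congrArg (fun e : MulAut W => e (φ x)) hg
      simpa [MulAut.congr] using h
    · rintro ⟨g, rfl⟩
      refine ⟨φ g, MulEquiv.ext fun x => ?_⟩
      simp [MulAut.congr]
  have h16 : Nat.card (MulAut.conj : P →* MulAut P).range = 16 := by
    have hk : (MulAut.conj : P →* MulAut P).ker = center P := by
      ext g
      rw [MonoidHom.mem_ker, mem_center_iff]
      constructor
      · intro h x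
        have := congrArg (fun e : MulAut P => e x) h
        simp only [MulAut.conj_apply, MulAut.one_apply] at this
        conv_lhs => rw [← this]
        group
      · intro h
        exact MulEquiv.ext fun x => by simp [← h x]
    have h := (MulAut.conj : P →* MulAut P).ker.card_mul_index
    rw [hk, hex.2, h32, ← hk, Subgroup.index_ker] at h
    omega
  let E := (QuotientGroup.quotientMulEquivOfEq hFk.symm).trans
    (QuotientGroup.quotientKerEquivOfSurjective F hFs)
  refine ⟨h16, ?_, ⟨E⟩⟩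
  rw [Subgroup.card_eq_card_quotient_mul_card_subgroup (MulAut.conj : P →* MulAut P).range, h16,
    Nat.card_congr E.toEquiv, Nat.card_perm, Nat.card_fin]
  norm_num [Nat.factorial]

end Cfsg.Agent.S4413
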