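import Cfsg.Statements.S4414
import Cfsg.Agent.Lib.FGS.FixedTwoModule

set_option autoImplicit false
open Cfsg
open scoped Pointwise
set_option linter.all false

namespace Cfsg.Agent.S4414

/-- Let S be a finite solvable group whose order is divisible only by the primes 2, p, q (p, q distinct odd primes), with a Sylow system S₂, S_p, S_q (pairwise permutable Sylow subgroups) such that: S_p is a minimal normal subgroup of S of order p or p²; S_q has order q and [S_p, S_q] = S_p; and O₂(S) = 1. Let E be an irreducible module for S over the field with two elements on which S_p acts faithfully, and E₀ the subspace of fixed points of S₂. Then either E₀ has at least 8 elements, or E₀ has exactly 4 elements and S_q does not leave E₀ invariant. -/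
theorem result {S : Type*} [Group S] [Finite S]
    [Group.IsSolvable S] (p q : ℕ) (hp : p.Prime) (hq : q.Prime) (hp2 : p ≠ 2) (hq2 : q ≠ 2) (hpq : p ≠ q)
    (hπ : ∀ r : ℕ, r.Prime → r ∣ Nat.card S → r = 2 ∨ r = p ∨ r = q)
    (S₂ : Sylow 2 S) (Sp : Sylow p S) (Sq : Sylow q S)
    (h2q : Nat.card ↥((S₂ : Subgroup S) ⊔ (Sq : Subgroup S)) = Nat.card ↥S₂ * Nat.card ↥Sq)
    (h2p : Nat.card ↥((S₂ : Subgroup S) ⊔ (Sp : Subgroup S)) = Nat.card ↥S₂ * Nat.card ↥Sp)
    (hpq' : Nat.card ↥((Sp : Subgroup S) ⊔ (Sq : Subgroup S)) = Nat.card ↥Sp * Nat.card ↥Sq)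
    (hSpN : (Sp : Subgroup S).Normal) (hSpmin : ∀ N : Subgroup S, N.Normal → N ≤ (Sp : Subgroup S) → N = ⊥ ∨ N = (Sp : Subgroup S))
    (hSpcard : Nat.card ↥Sp = p ∨ Nat.card ↥Sp = p ^ 2)
    (hSq : Nat.card ↥Sq = q) (hcomm : ⁅(Sp : Subgroup S), (Sq : Subgroup S)⁆ = (Sp : Subgroup S))
    (hO2 : Cfsg.pCore 2 S = ⊥)
    {E : Type*} [AddCommGroup E] [Module (ZMod 2) E] [Finite E] (ρ : Representation (ZMod 2) S E) (hE : Nontrivial E)
    (hirr : ∀ N : Submodule (ZMod 2) E, (∀ s : S, ∀ m ∈ N, ρ s m ∈ N) → N = ⊥ ∨ N = ⊤)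
    (hfaith : ∀ x ∈ (Sp : Subgroup S), ρ x = 1 → x = 1) :
    8 ≤ Nat.card {v : E // ∀ s ∈ (S₂ : Subgroup S), ρ s v = v} ∨
      (Nat.card {v : E // ∀ s ∈ (S₂ : Subgroup S), ρ s v = v} = 4 ∧
        ∃ x ∈ (Sq : Subgroup S), ∃ v : E, (∀ s ∈ (S₂ : Subgroup S), ρ s v = v) ∧ ¬ ∀ s ∈ (S₂ : Subgroup S), ρ s (ρ x v) = ρ x v) := by
  classical
  have := Fact.mk hp
  have := Fact.mk hq
  have hAn := hSpN
  set A : Subgroup S := (Sp : Subgroup S) with hA'
  have hA : ∀ a ∈ A, ∀ b ∈ A, a * b = b * a := by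
    intro a ha b hb
    rcases hSpcard with h | h
    · have : IsCyclic A := isCyclic_of_prime_card h
      let : CommGroup A := IsCyclic.commGroup
      exact congrArg Subtype.val (mul_comm (⟨a, ha⟩ : A) ⟨b, hb⟩)
    · exact congrArg Subtype.val (IsPGroup.commutative_of_card_eq_prime_sq (p := p) h (⟨a, ha⟩ : A) ⟨b, hb⟩)
  have hfix : ∀ e : E, (∀ a ∈ A, ρ a e = e) → e = 0 := by
    intro e he
    let N : Submodule (ZMod 2) E :=
      { carrier := {v | ∀ a ∈ A, ρ a v = v}
        add_mem' := fun {v w} hv hw a ha => by rw [map_add, hv a ha, hw a ha]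
        zero_mem' := fun a _ => map_zero _
        smul_mem' := fun c v hv a ha => by rw [map_smul, hv a ha] }
    rcases hirr N (fun s m hm a ha => by
      have h := hm _ (hAn.conj_mem' a ha s)
      have h2 := congrArg (ρ s) h
      rw [← Module.End.mul_apply, ← map_mul, show s * (s⁻¹ * a * s) = a * s by group, map_mul,
        Module.End.mul_apply] at h2
      exact h2) with h | h
    · exact (Submodule.mem_bot (ZMod 2)).1 (h ▸ (he : e ∈ N))
    · exfalso
      have hbot : A = ⊥ := (Subgroup.eq_bot_iff_forall _).2 fun a ha => hfaith a ha (by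
        ext v
        exact (show v ∈ N from h ▸ Submodule.mem_top) a ha)
      have hc : Nat.card A = 1 := by rw [hbot, Subgroup.card_bot]
      rcases (show Nat.card A = p ∨ Nat.card A = p ^ 2 from hSpcard) with h1 | h1 <;> rw [hc] at h1
      · exact hp.one_lt.ne h1
      · exact (Nat.one_lt_pow two_ne_zero hp.one_lt).ne h1
  obtain ⟨x, hx⟩ := exists_prime_orderOf_dvd_card' (G := ↥(Sq : Subgroup S)) q (dvd_of_eq hSq.symm)
  have hxo : orderOf (x : S) = q := by rw [Subgroup.orderOf_coe, hx]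
  have hgen : Subgroup.zpowers (x : S) = (Sq : Subgroup S) :=
    Subgroup.eq_of_le_of_card_ge (Subgroup.zpowers_le.2 x.2) (by rw [show Nat.card (Sq : Subgroup S) = q from hSq, Nat.card_zpowers, hxo])
  have hxfix : ∀ χ : A →* AlgebraicClosure (ZMod 2), FixedTwoModule.tw A (x : S) χ = χ → ∀ a, χ a = 1 := by
    intro χ hχ
    let Y : Subgroup S :=
      { carrier := {y | FixedTwoModule.tw A y χ = χ}
        one_mem' := FixedTwoModule.tw_one A χ
        mul_mem' := fun {a b} ha hb => by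
          show FixedTwoModule.tw A (a * b) χ = χ
          rw [FixedTwoModule.tw_mul, hb, ha]
        inv_mem' := fun {a} ha => by
          show FixedTwoModule.tw A a⁻¹ χ = χ
          conv_lhs => rw [← show FixedTwoModule.tw A a χ = χ from ha]
          rw [← FixedTwoModule.tw_mul, inv_mul_cancel, FixedTwoModule.tw_one] }
    have hY : (Sq : Subgroup S) ≤ Y := hgen ▸ Subgroup.zpowers_le.2 hχ
    let K : Subgroup A :=
      { carrier := {u | χ u = 1}
        one_mem' := map_one χ
        mul_mem' := fun {a b} ha hb => by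
          show χ (a * b) = 1
          rw [map_mul, ha, hb, one_mul]
        inv_mem' := fun {a} ha => by
          show χ a⁻¹ = 1
          have h1 : χ a⁻¹ * χ a = 1 := by rw [← map_mul, inv_mul_cancel, map_one]
          rwa [show χ a = 1 from ha, mul_one] at h1 }
    have hle : ⁅(Sp : Subgroup S), (Sq : Subgroup S)⁆ ≤ K.map A.subtype := by
      rw [Subgroup.commutator_le]
      intro u hu y hy
      have hy' := hY (inv_mem hy)
      have hm : y * u⁻¹ * y⁻¹ ∈ A := hAn.conj_mem _ (inv_mem hu) y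
      refine ⟨⟨u, hu⟩ * ⟨y * u⁻¹ * y⁻¹, hm⟩, ?_, ?_⟩
      · show χ (⟨u, hu⟩ * ⟨y * u⁻¹ * y⁻¹, hm⟩) = 1
        have e := DFunLike.congr_fun (show FixedTwoModule.tw A y⁻¹ χ = χ from hy') ⟨u, hu⟩⁻¹
        have e' : χ ⟨y * u⁻¹ * y⁻¹, hm⟩ = χ ⟨u, hu⟩⁻¹ := by
          rw [← e]
          show _ = χ (MulAut.conjNormal (H := A) y⁻¹⁻¹ ⟨u, hu⟩⁻¹)
          congr 1
          exact Subtype.ext (by simp [mul_assoc])
        rw [map_mul, e', ← map_mul, mul_inv_cancel, map_one]
      · show u * (y * u⁻¹ * y⁻¹) = _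
        rw [commutatorElement_def]; group
    intro a
    rw [hcomm] at hle
    obtain ⟨b, hb, e⟩ := hle a.2
    obtain rfl : b = a := Subtype.ext e
    exact hb
  rcases FixedTwoModule.main ρ hE A hA hfix (S₂ : Subgroup S) S₂.isPGroup' (x : S) hq hq2 hxo hxfix with
    h | ⟨h, v, hv, hv'⟩
  · exact Or.inl h
  · exact Or.inr ⟨h, x, x.2, v, hv, hv'⟩

end Cfsg.Agent.S4414
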