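import Cfsg.Statements.S4417
import Cfsg.Agent.Lib.Tech.DStar
import Cfsg.Agent.Lib.Basics.Frattini
import Cfsg.Agent.Lib.Basics.AbelianClassTwo

set_option autoImplicit false
open Cfsg
open scoped Pointwise
set_option linter.all false

namespace Cfsg.Agent.S4417

open Module
open Cfsg.Agent

universe u v w

section
variable {F : Type u} [Field F] [Fintype F] {p : ℕ} [hp : Fact p.Prime]

private theorem coprime_q (hpq : ¬ p ∣ Fintype.card F) {P : Type*} [Group P] [Finite P]
    (hP : IsPGroup p P) : (Fintype.card F).Coprime (Nat.card P) := by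
  obtain ⟨i, hi⟩ := IsPGroup.iff_card.1 hP
  rw [hi]
  exact Nat.Coprime.pow_right _ ((hp.out.coprime_iff_not_dvd.2 hpq).symm)

private theorem e_pos (hpq : ¬ p ∣ Fintype.card F) {e : ℕ} (he : e = orderOf (Fintype.card F : ZMod p)) :
    0 < e ∧ e.Coprime p := by
  have hne : (Fintype.card F : ZMod p) ≠ 0 := fun h => hpq ((ZMod.natCast_eq_zero_iff _ _).1 h)
  have hd : e ∣ p - 1 := he ▸ ZMod.orderOf_dvd_card_sub_one hne
  have h2 := hp.out.two_le
  have hpos : 0 < e := Nat.pos_of_ne_zero fun h => by
    rw [h, Nat.zero_dvd] at hd; omega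
  refine ⟨hpos, ((hp.out.coprime_iff_not_dvd).2 fun h => ?_).symm⟩
  have := Nat.le_of_dvd hpos h
  have := Nat.le_of_dvd (by omega) hd
  omega

private theorem log_step {e a b : ℕ} (he : 0 < e) (ha : e ≤ a) (hb : 2 * a ≤ b) :
    Nat.log 2 (a / e) + 1 ≤ Nat.log 2 (b / e) := by
  have h1 : 0 < a / e := Nat.div_pos ha he
  rw [← Nat.log_mul_base (by norm_num : 1 < 2) h1.ne', mul_comm]
  exact Nat.log_mono_right ((Nat.mul_div_le_mul_div_assoc _ _ _).trans (Nat.div_le_div_right hb))

private theorem derived_mono {G : Type*} [Group G] {i j : ℕ} (h : i ≤ j)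
    (hi : derivedSeries G i = ⊥) : derivedSeries G j = ⊥ :=
  le_bot_iff.1 (hi ▸ derivedSeries_antitone G h)

private def restr {P : Type w} [Group P] {V : Type v} [AddCommGroup V] [Module F V]
    (ρ : P →* Module.End F V) (H : Subgroup P) (W : Submodule F V)
    (hW : ∀ h ∈ H, ∀ x ∈ W, ρ h x ∈ W) : H →* Module.End F W where
  toFun h := (ρ h).restrict (hW h h.2)
  map_one' := by ext x; simp
  map_mul' a b := by ext x; simp

private theorem restr_apply {P : Type w} [Group P] {V : Type v} [AddCommGroup V] [Module F V]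
    (ρ : P →* Module.End F V) (H : Subgroup P) (W : Submodule F V)
    (hW : ∀ h ∈ H, ∀ x ∈ W, ρ h x ∈ W) (h : H) (x : W) : (restr ρ H W hW h x : V) = ρ h x := rfl

set_option maxHeartbeats 3000000 in
private theorem main (hpq : ¬ p ∣ Fintype.card F) (e : ℕ) (he : e = orderOf (Fintype.card F : ZMod p)) :
    ∀ (m : ℕ) {P : Type w} [Group P] [Finite P] (V : Type v) [AddCommGroup V] [Module F V] [Finite V]
      (ρ : P →* Module.End F V), IsPGroup p P → Function.Injective ρ → finrank F V = m →
      derivedSeries P (Nat.log 2 (m / e) + 1) = ⊥ ∧ (Nontrivial P → e ≤ m) := by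
  obtain ⟨hepos, hecop⟩ := e_pos hpq he
  intro m
  induction m using Nat.strong_induction_on with
  | _ m ih =>
  intro P _ _ V _ _ _ ρ hP hinj hm
  classical
  haveI : FiniteDimensional F V := Module.Finite.of_finite
  haveI : Finite (V →ₗ[F] V) := Finite.of_injective (fun f => (f : V → V)) LinearMap.coe_injective
  rcases subsingleton_or_nontrivial V with hV | hV
  · haveI : Subsingleton (Module.End F V) := ⟨fun a b => LinearMap.ext fun x => Subsingleton.elim _ _⟩
    haveI : Subsingleton P := ⟨fun a b => hinj (Subsingleton.elim _ _)⟩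
    exact ⟨Subsingleton.elim _ _, fun h => absurd h (not_nontrivial P)⟩
  have one_of : ∀ g : P, (∀ v, ρ g v = v) → g = 1 := fun g h =>
    hinj (by rw [map_one]; exact LinearMap.ext h)
  have cancel : ∀ (g : P) (x : V), ρ g (ρ g⁻¹ x) = x := fun g x => by
    rw [← Module.End.mul_apply, ← map_mul, mul_inv_cancel, map_one, Module.End.one_apply]
  -- restriction of a subgroup to an invariant subspace
  have sub : ∀ (H : Subgroup P) (W : Submodule F V) (hW : ∀ h ∈ H, ∀ x ∈ W, ρ h x ∈ W),
      finrank F W < m →
      (derivedSeries H (Nat.log 2 (finrank F W / e) + 1) ≤ (restr ρ H W hW).ker) ∧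
      ((∃ h ∈ H, ∃ x ∈ W, ρ h x ≠ x) → e ≤ finrank F W) := by
    intro H W hW hlt
    set φ : H →* Module.End F W := restr ρ H W hW with hφ
    haveI : Finite W := inferInstance
    set L : H ⧸ φ.ker →* Module.End F W := QuotientGroup.lift φ.ker φ le_rfl with hL
    have hLi : Function.Injective L := by
      rw [injective_iff_map_eq_one]
      intro a ha
      induction a using QuotientGroup.induction_on with
      | _ a => exact (QuotientGroup.eq_one_iff a).2 (by rwa [hL, QuotientGroup.lift_mk] at ha)
    obtain ⟨h1, h2⟩ := ih _ hlt W L ((hP.to_subgroup H).to_quotient φ.ker) hLi rfl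
    refine ⟨fun x hx => ?_, ?_⟩
    · have := map_derivedSeries_le_derivedSeries (QuotientGroup.mk' φ.ker) (Nat.log 2 (finrank F W / e) + 1)
        ⟨x, hx, rfl⟩
      rw [h1, Subgroup.mem_bot] at this
      exact (QuotientGroup.eq_one_iff x).1 this
    · rintro ⟨h, hh, x, hx, hne⟩
      refine h2 (nontrivial_of_ne (QuotientGroup.mk (⟨h, hh⟩ : H)) 1 fun h1 => hne ?_)
      have h3 : φ ⟨h, hh⟩ = 1 := (QuotientGroup.eq_one_iff _).1 h1
      have := congrArg (fun f : Module.End F W => (f ⟨x, hx⟩ : V)) h3
      rwa [hφ, restr_apply] at this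
  by_cases hred : ∃ W : Submodule F V, W ≠ ⊥ ∧ W ≠ ⊤ ∧ ∀ g : P, ∀ x ∈ W, ρ g x ∈ W
  · obtain ⟨W, hW0, hW1, hW⟩ := hred
    haveI : NeZero (Nat.card P : F) := ⟨fun h => by
      obtain ⟨i, hi⟩ := IsPGroup.iff_card.1 hP
      rw [hi, Nat.cast_pow] at h
      have hp0 := pow_eq_zero_iff'.1 h |>.1
      obtain ⟨c, hc⟩ := CharP.exists F
      haveI := hc
      haveI := Fact.mk (CharP.char_is_prime F c)
      have hd : c ∣ p := (CharP.cast_eq_zero_iff F c p).1 hp0
      have hcp : c = p := (Nat.prime_dvd_prime_iff_eq (Fact.out) hp.out).1 hd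
      obtain ⟨n, -, hn⟩ := FiniteField.card F c
      exact hpq (hcp ▸ hn ▸ dvd_pow_self c n.pos.ne')⟩
    let W' : Subrepresentation (ρ : Representation F P V) := ⟨W, fun g x hx => hW g x hx⟩
    obtain ⟨U', hU⟩ := exists_isCompl W'
    set U := U'.toSubmodule with hUdef
    have hUi : ∀ g : P, ∀ x ∈ U, ρ g x ∈ U := fun g x hx => U'.apply_mem_toSubmodule g hx
    have hWU : IsCompl W U := ⟨disjoint_iff.2 (by
        have := congrArg Subrepresentation.toSubmodule (disjoint_iff.1 hU.1)
        exact this), codisjoint_iff.2 (by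
        have := congrArg Subrepresentation.toSubmodule (codisjoint_iff.1 hU.2)
        exact this)⟩
    have hsum := Submodule.finrank_add_eq_of_isCompl hWU
    have hW0' : 0 < finrank F W := Nat.pos_of_ne_zero fun h => hW0 (Submodule.finrank_eq_zero.1 h)
    have hWlt : finrank F W < m := hm ▸ Submodule.finrank_lt hW1
    obtain ⟨k1, k1'⟩ := sub ⊤ W (fun g _ => hW g) hWlt
    obtain ⟨k2, k2'⟩ := sub ⊤ U (fun g _ => hUi g) (by omega)
    refine ⟨?_, fun hnt => ?_⟩
    · rw [eq_bot_iff]
      intro g hg
      have hg' : (⟨g, Subgroup.mem_top g⟩ : (⊤ : Subgroup P)) ∈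
          derivedSeries (⊤ : Subgroup P) (Nat.log 2 (m / e) + 1) := by
        rw [← map_derivedSeries_eq (f := (Subgroup.topEquiv (G := P)).symm.toMonoidHom)
          (Subgroup.topEquiv.symm.surjective)]
        exact ⟨g, hg, rfl⟩
      rw [Subgroup.mem_bot]
      refine one_of g fun v => ?_
      have hmem : v ∈ W ⊔ U := by rw [hWU.sup_eq_top]; exact Submodule.mem_top
      obtain ⟨a, ha, b, hb, rfl⟩ := Submodule.mem_sup.1 hmem
      have hle : ∀ (X : Submodule F V), finrank F X ≤ m →
          Nat.log 2 (finrank F X / e) + 1 ≤ Nat.log 2 (m / e) + 1 := fun X h =>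
        Nat.add_le_add_right (Nat.log_mono_right (Nat.div_le_div_right h)) 1
      have e1 := congrArg (fun f : Module.End F W => (f ⟨a, ha⟩ : V))
        (MonoidHom.mem_ker.1 (k1 (derivedSeries_antitone _ (hle W (by omega)) hg')))
      have e2 := congrArg (fun f : Module.End F U => (f ⟨b, hb⟩ : V))
        (MonoidHom.mem_ker.1 (k2 (derivedSeries_antitone _ (hle U (by omega)) hg')))
      simp only [restr_apply, Module.End.one_apply] at e1 e2
      rw [map_add, e1, e2]
    · obtain ⟨g, hg⟩ := exists_ne (1 : P)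
      by_cases h : ∃ h ∈ (⊤ : Subgroup P), ∃ x ∈ W, ρ h x ≠ x
      · exact (k1' h).trans hWlt.le
      · have : ∃ h ∈ (⊤ : Subgroup P), ∃ x ∈ U, ρ h x ≠ x := by
          by_contra h'
          push Not at h h'
          apply hg
          refine one_of g fun v => ?_
          have hmem : v ∈ W ⊔ U := by rw [hWU.sup_eq_top]; exact Submodule.mem_top
          obtain ⟨a, ha, b, hb, rfl⟩ := Submodule.mem_sup.1 hmem
          rw [map_add, h g (Subgroup.mem_top g) a ha, h' g (Subgroup.mem_top g) b hb]
        exact (k2' this).trans (by omega)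
  push Not at hred
  have hirr : ∀ W : Submodule F V, (∀ g : P, ∀ x ∈ W, ρ g x ∈ W) → W ≠ ⊥ → W = ⊤ := fun W h h0 => by
    by_contra h1
    obtain ⟨g, x, hx, hx'⟩ := hred W h0 h1
    exact hx' (h g x hx)
  obtain ⟨A, hAn, hAc, hCA, -⟩ := Tech.exists_maximal_normal_abelian hP
  haveI := hAn
  have hAne : Nontrivial P → ∃ a ∈ A, a ≠ 1 := fun hnt => by
    by_contra h
    push Not at h
    obtain ⟨g, hg⟩ := exists_ne (1 : P)
    exact hg (h g (hCA (Subgroup.mem_centralizer_iff.2 fun a ha => by rw [h a ha, one_mul, mul_one])))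
  set R : Subalgebra F (Module.End F V) := Algebra.adjoin F (ρ '' (A : Set P)) with hR
  have hRcomm : ∀ x ∈ R, ∀ y ∈ R, x * y = y * x := by
    intro x hx y hy
    have h1 : ∀ a ∈ A, ∀ y ∈ R, ρ a * y = y * ρ a := fun a ha y hy => by
      induction hy using Algebra.adjoin_induction with
      | mem z hz =>
        obtain ⟨b, hb, rfl⟩ := hz
        rw [← map_mul, ← map_mul, show a * b = b * a from
          congrArg Subtype.val (hAc.is_comm.comm ⟨a, ha⟩ ⟨b, hb⟩)]
      | algebraMap c => exact (Algebra.commutes c _).symm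
      | add z w _ _ hz hw => rw [mul_add, add_mul, hz, hw]
      | mul z w _ _ hz hw => rw [← mul_assoc, hz, mul_assoc, hw, mul_assoc]
    induction hx using Algebra.adjoin_induction with
    | mem z hz =>
      obtain ⟨b, hb, rfl⟩ := hz
      exact h1 b hb y hy
    | algebraMap c => exact Algebra.commutes c y
    | add z w _ _ hz hw => rw [mul_add, add_mul, hz, hw]
    | mul z w _ _ hz hw => rw [mul_assoc, hw, ← mul_assoc, hz, mul_assoc]
  obtain ⟨Q, hQ2, hQ⟩ : ∃ Q, 1 < Q ∧ ∀ x ∈ R, x ^ Q = x := by
    obtain ⟨c, hc⟩ := CharP.exists F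
    haveI := hc
    haveI := Fact.mk (CharP.char_is_prime F c)
    haveI : CharP (Module.End F V) c :=
      charP_of_injective_algebraMap (algebraMap F (Module.End F V)).injective c
    obtain ⟨f, -, hf⟩ := FiniteField.card F c
    have hco := coprime_q (F := F) hpq hP
    set j := (Nat.card P).totient with hj
    have hjpos : 0 < j := Nat.totient_pos.2 Nat.card_pos
    refine ⟨Fintype.card F ^ j, Nat.one_lt_pow hjpos.ne' Fintype.one_lt_card, fun x hx => ?_⟩
    induction hx using Algebra.adjoin_induction with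
    | mem z hz =>
      obtain ⟨a, -, rfl⟩ := hz
      rw [← map_pow]
      congr 1
      conv_rhs => rw [← pow_one a]
      rw [pow_eq_pow_iff_modEq]
      exact Nat.ModEq.of_dvd (orderOf_dvd_natCard a) (Nat.ModEq.pow_totient hco)
    | algebraMap a => rw [← map_pow, FiniteField.pow_card_pow]
    | add z w hz' hw' hz hw =>
      rw [hf, ← pow_mul] at hz hw ⊢
      rw [add_pow_char_pow_of_commute _ _ (show Commute z w from hRcomm z hz' w hw'), hz, hw]
    | mul z w hz' hw' hz hw => rw [(show Commute z w from hRcomm z hz' w hw').mul_pow, hz, hw]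
  have hconj : ∀ g : P, ∀ x ∈ R, ρ g * x * ρ g⁻¹ ∈ R := fun g x hx => by
    induction hx using Algebra.adjoin_induction with
    | mem z hz =>
      obtain ⟨a, ha, rfl⟩ := hz
      rw [← map_mul, ← map_mul]
      exact Algebra.subset_adjoin ⟨_, hAn.conj_mem a ha g, rfl⟩
    | algebraMap c =>
      rw [← Algebra.commutes, mul_assoc, ← map_mul, mul_inv_cancel, map_one, mul_one]
      exact R.algebraMap_mem c
    | add z w _ _ hz hw => rw [mul_add, add_mul]; exact add_mem hz hw
    | mul z w _ _ hz hw =>
      have : ρ g * (z * w) * ρ g⁻¹ = (ρ g * z * ρ g⁻¹) * (ρ g * w * ρ g⁻¹) := by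
        rw [← mul_assoc (ρ g * z * ρ g⁻¹), ← mul_assoc (ρ g * z * ρ g⁻¹), mul_assoc (ρ g * z) (ρ g⁻¹),
          ← map_mul, inv_mul_cancel, map_one, mul_one, mul_assoc (ρ g) z w]
      rw [this]; exact mul_mem hz hw
  by_cases hidem : ∃ f ∈ R, f * f = f ∧ f ≠ 0 ∧ f ≠ 1
  · -- imprimitive
    obtain ⟨e0, ⟨he0R, he0i, he0n⟩, hmin⟩ := Set.exists_min_image
      {f : Module.End F V | f ∈ R ∧ f * f = f ∧ f ≠ 0} (fun f => finrank F (LinearMap.range f))
      (Set.toFinite _) (let ⟨f, h1, h2, h3, _⟩ := hidem; ⟨f, h1, h2, h3⟩)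
    have hatom : ∀ f ∈ R, f * f = f → f * e0 = 0 ∨ f * e0 = e0 := by
      intro f hf hff
      by_cases h0 : f * e0 = 0
      · exact Or.inl h0
      refine Or.inr ?_
      have hidem' : (f * e0) * (f * e0) = f * e0 := by
        rw [mul_assoc, ← mul_assoc e0, hRcomm e0 he0R f hf, mul_assoc f e0, he0i, ← mul_assoc, hff]
      have hle : LinearMap.range (f * e0) ≤ LinearMap.range e0 := by
        rw [hRcomm f hf e0 he0R]
        rintro _ ⟨x, rfl⟩
        exact ⟨f x, rfl⟩
      have heq := Submodule.eq_of_le_of_finrank_le hle (hmin _ ⟨mul_mem hf he0R, hidem', h0⟩)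
      refine LinearMap.ext fun v => ?_
      have hv : e0 v ∈ LinearMap.range (f * e0) := heq ▸ LinearMap.mem_range_self e0 v
      obtain ⟨u, hu⟩ := hv
      have h1 : (f * e0) (e0 v) = e0 v := by rw [← hu, ← Module.End.mul_apply, hidem']
      rwa [← Module.End.mul_apply, mul_assoc, he0i] at h1
    set c : P → Module.End F V → Module.End F V := fun g x => ρ g * x * ρ g⁻¹ with hc
    have cmul : ∀ g h x, c (g * h) x = c g (c h x) := fun g h x => by
      simp only [hc, mul_inv_rev, map_mul, mul_assoc]
    have cone : ∀ x, c 1 x = x := fun x => by simp [hc]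
    have cprod : ∀ g x y, c g x * c g y = c g (x * y) := fun g x y => by
      simp only [hc]
      rw [← mul_assoc (ρ g * x * ρ g⁻¹), ← mul_assoc (ρ g * x * ρ g⁻¹), mul_assoc (ρ g * x) (ρ g⁻¹),
        ← map_mul, inv_mul_cancel, map_one, mul_one, mul_assoc (ρ g) x y]
    have cinj : ∀ g x y, c g x = c g y → x = y := fun g x y h => by
      have := congrArg (c g⁻¹) h
      rwa [← cmul, ← cmul, inv_mul_cancel, cone, cone] at this
    let H : Subgroup P :=
      { carrier := {g | c g e0 = e0}
        one_mem' := cone e0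
        mul_mem' := fun {a b} ha hb => by
          show c (a * b) e0 = e0
          rw [cmul, show c b e0 = e0 from hb]; exact ha
        inv_mem' := fun {a} ha => cinj a _ _ (by
          rw [← cmul, mul_inv_cancel, cone]; exact (show c a e0 = e0 from ha).symm) }
    have hAH : A ≤ H := fun a ha => by
      show ρ a * e0 * ρ a⁻¹ = e0
      rw [hRcomm _ (Algebra.subset_adjoin ⟨a, ha, rfl⟩) e0 he0R, mul_assoc, ← map_mul, mul_inv_cancel,
        map_one, mul_one]
    have hHne : H ≠ ⊤ := by
      intro hH
      obtain ⟨f, hf, hff, hf0, hf1⟩ := hidem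
      have hinv : ∀ g : P, ∀ x ∈ LinearMap.range e0, ρ g x ∈ LinearMap.range e0 := by
        rintro g _ ⟨x, rfl⟩
        refine ⟨ρ g x, ?_⟩
        have hcg : c g e0 = e0 := (show g ∈ H by rw [hH]; exact Subgroup.mem_top g)
        conv_lhs => rw [← hcg]
        show ρ g (e0 (ρ g⁻¹ (ρ g x))) = ρ g (e0 x)
        rw [← Module.End.mul_apply (ρ g⁻¹), ← map_mul, inv_mul_cancel, map_one, Module.End.one_apply]
      have htop := hirr _ hinv (fun h => he0n (LinearMap.range_eq_bot.1 h))
      have h1 : e0 = 1 := LinearMap.ext fun v => by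
        obtain ⟨u, hu⟩ : v ∈ LinearMap.range e0 := htop ▸ Submodule.mem_top
        rw [← hu, ← Module.End.mul_apply, he0i, Module.End.one_apply]
      rcases hatom f hf hff with h | h <;> rw [h1, mul_one] at h
      · exact hf0 h
      · exact hf1 h
    haveI : Group.IsNilpotent P := hP.isNilpotent
    obtain hH' | ⟨M, hM, hHM⟩ := eq_top_or_exists_le_coatom H
    · exact absurd hH' hHne
    obtain ⟨hMn, hMp⟩ := Basics.coatom_normal_prime hM
    haveI := hMn
    have hMidx : M.index = p := by
      obtain ⟨i, hi⟩ := IsPGroup.iff_card.1 hP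
      have : M.index ∣ p ^ i := hi ▸ M.index_dvd_card
      exact ((Nat.prime_dvd_prime_iff_eq hMp hp.out).1 (hMp.dvd_of_dvd_pow this))
    -- the orbit sum
    haveI : Fintype M := Fintype.ofFinite M
    set O : Finset (Module.End F V) := Finset.univ.image (fun x : M => c x e0) with hO
    set f := ∑ x ∈ O, x with hf
    have hOc : ∀ x ∈ O, x ∈ R ∧ x * x = x := by
      intro x hx
      obtain ⟨g, -, rfl⟩ := Finset.mem_image.1 hx
      exact ⟨hconj g e0 he0R, by rw [cprod, he0i]⟩
    have horth : ∀ g h : P, c g e0 ≠ c h e0 → c g e0 * c h e0 = 0 := by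
      intro g h hne
      have key : ∀ g h : P, c g e0 * c h e0 = 0 ∨ c g e0 * c h e0 = c h e0 := fun g h => by
        have hk : c (h⁻¹ * g) e0 ∈ R ∧ c (h⁻¹ * g) e0 * c (h⁻¹ * g) e0 = c (h⁻¹ * g) e0 :=
          ⟨hconj _ e0 he0R, by rw [cprod, he0i]⟩
        have e : c g e0 * c h e0 = c h (c (h⁻¹ * g) e0 * e0) := by
          rw [← cprod, ← cmul, mul_inv_cancel_left]
        rcases hatom _ hk.1 hk.2 with h1 | h1
        · left; rw [e, h1]; simp [hc]
        · right; rw [e, h1]
      rcases key g h with h1 | h1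
      · exact h1
      rcases key h g with h2 | h2
      · rw [hRcomm _ (hconj g e0 he0R) _ (hconj h e0 he0R)]; exact h2
      · exact absurd (by rw [← h2, hRcomm _ (hconj h e0 he0R) _ (hconj g e0 he0R), h1]) hne
    have hfe : f * e0 = e0 := by
      rw [hf, Finset.sum_mul, Finset.sum_eq_single e0]
      · exact he0i
      · intro x hx hne
        obtain ⟨g, -, rfl⟩ := Finset.mem_image.1 hx
        have := horth g 1 (by rwa [cone])
        rwa [cone] at this
      · intro h
        exact absurd (Finset.mem_image.2 ⟨1, Finset.mem_univ _, cone e0⟩) h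
    have hff : f * f = f := by
      rw [hf, Finset.sum_mul]
      refine Finset.sum_congr rfl fun x hx => ?_
      rw [Finset.mul_sum, Finset.sum_eq_single x]
      · exact (hOc x hx).2
      · intro y hy hne
        obtain ⟨g, -, rfl⟩ := Finset.mem_image.1 hx
        obtain ⟨h, -, rfl⟩ := Finset.mem_image.1 hy
        exact horth g h (Ne.symm hne)
      · exact fun h => absurd hx h
    have hfM : ∀ g ∈ M, c g f = f := by
      intro g hg
      have hsum : c g f = ∑ x ∈ O, c g x := by simp only [hf, hc, Finset.mul_sum, Finset.sum_mul]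
      rw [hsum, ← Finset.sum_image (f := fun x => x) (g := c g) (fun a _ b _ h => cinj g a b h)]
      rw [hf]
      refine Finset.sum_congr ?_ fun _ _ => rfl
      rw [hO, Finset.image_image]
      ext y
      simp only [Finset.mem_image, Finset.mem_univ, true_and, Function.comp_apply]
      constructor
      · rintro ⟨x, rfl⟩; exact ⟨⟨g, hg⟩ * x, cmul g x e0⟩
      · rintro ⟨x, rfl⟩
        refine ⟨⟨g, hg⟩⁻¹ * x, ?_⟩
        rw [← cmul]; simp
    have horth' : ∀ g : P, g ∉ M → f * c g f = 0 := by
      intro g hg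
      have hsum : c g f = ∑ x ∈ O, c g x := by simp only [hf, hc, Finset.mul_sum, Finset.sum_mul]
      rw [hsum, hf, Finset.sum_mul]
      refine Finset.sum_eq_zero fun x hx => ?_
      rw [Finset.mul_sum]
      refine Finset.sum_eq_zero fun y hy => ?_
      obtain ⟨a, -, rfl⟩ := Finset.mem_image.1 hx
      obtain ⟨b, -, rfl⟩ := Finset.mem_image.1 hy
      rw [← cmul]
      refine horth _ _ fun h => hg ?_
      have hH : ((a : P))⁻¹ * (g * b) ∈ H := by
        show c _ e0 = e0
        rw [cmul, ← h, ← cmul, inv_mul_cancel, cone]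
      have := mul_mem (mul_mem a.2 (hHM hH)) (inv_mem b.2)
      simpa [mul_assoc] using this
    set W := LinearMap.range f with hW
    have hWfix : ∀ x ∈ W, f x = x := by
      rintro _ ⟨x, rfl⟩; rw [← Module.End.mul_apply, hff]
    have hWinv : ∀ g ∈ M, ∀ x ∈ W, ρ g x ∈ W := by
      intro g hg x hx
      refine ⟨ρ g x, ?_⟩
      conv_lhs => rw [← hfM g hg]
      show ρ g (f (ρ g⁻¹ (ρ g x))) = ρ g x
      rw [← Module.End.mul_apply (ρ g⁻¹), ← map_mul, inv_mul_cancel, map_one, Module.End.one_apply,
        hWfix x hx]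
    haveI : Fintype (P ⧸ M) := Fintype.ofFinite _
    have hdim : p * finrank F W ≤ m := by
      let Φ : ((P ⧸ M) → W) →ₗ[F] V :=
        ∑ i, (ρ i.out).comp (W.subtype.comp (LinearMap.proj i))
      have hΦ : Function.Injective Φ := by
        rw [injective_iff_map_eq_zero]
        intro v hv
        funext i
        have h1 : f (ρ i.out⁻¹ (Φ v)) = (v i : V) := by
          simp only [Φ, LinearMap.sum_apply, LinearMap.comp_apply, LinearMap.proj_apply,
            Submodule.subtype_apply, map_sum]
          rw [Finset.sum_eq_single i]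
          · rw [← Module.End.mul_apply (ρ i.out⁻¹), ← map_mul, inv_mul_cancel, map_one, Module.End.one_apply,
              hWfix _ (v i).2]
          · intro j _ hji
            have hnot : i.out⁻¹ * j.out ∉ M := fun h => hji (by
              rw [← QuotientGroup.out_eq' i, ← QuotientGroup.out_eq' j]
              exact (QuotientGroup.eq.2 h).symm)
            have h0 := congrArg (fun F' : Module.End F V => F' (ρ (i.out⁻¹ * j.out) (v j : V)))
              (horth' _ hnot)
            simp only [hc, Module.End.mul_apply, LinearMap.zero_apply] at h0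
            rw [← Module.End.mul_apply (ρ (i.out⁻¹ * j.out)⁻¹), ← map_mul, inv_mul_cancel, map_one,
              Module.End.one_apply, hWfix _ (v j).2] at h0
            rw [← Module.End.mul_apply (ρ i.out⁻¹), ← map_mul]
            exact h0
          · exact fun h => absurd (Finset.mem_univ i) h
        rw [hv, map_zero, map_zero] at h1
        exact Subtype.ext h1.symm
      have := LinearMap.finrank_le_finrank_of_injective hΦ
      rw [hm, Module.finrank_pi_fintype, Finset.sum_const, Finset.card_univ, ← Nat.card_eq_fintype_card,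
        ← Subgroup.index_eq_card, hMidx, smul_eq_mul] at this
      exact this
    have hWpos : 0 < finrank F W := Nat.pos_of_ne_zero fun h => he0n (by
      have hf0 : f = 0 := LinearMap.range_eq_bot.1 (Submodule.finrank_eq_zero.1 h)
      rw [← hfe, hf0, zero_mul])
    have h2p : 2 * finrank F W ≤ m := le_trans (Nat.mul_le_mul_right _ hp.out.two_le) hdim
    obtain ⟨k1, k1'⟩ := sub M W hWinv (by omega)
    have hU : ∀ d : P, (∀ g : P, ∀ x ∈ W, ρ (g⁻¹ * d * g) x = x) → d = 1 := by
      intro d hd
      refine one_of d fun v => ?_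
      have htop : (⨆ g : P, W.map (ρ g)) = ⊤ := by
        refine hirr _ (fun g x hx => ?_) ?_
        · have hle : (⨆ h : P, W.map (ρ h)).map (ρ g) ≤ ⨆ h : P, W.map (ρ h) := by
            rw [Submodule.map_iSup]
            refine iSup_le fun h => ?_
            refine le_iSup_of_le (g * h) (le_of_eq ?_)
            rw [← Submodule.map_comp, map_mul]; rfl
          exact hle (Submodule.mem_map_of_mem hx)
        · intro h
          have h' : W.map (ρ 1) ≤ ⊥ := h ▸ le_iSup (fun g : P => W.map (ρ g)) 1
          rw [map_one, show (1 : Module.End F V) = LinearMap.id from rfl, Submodule.map_id] at h'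
          have := Submodule.finrank_eq_zero.2 (le_bot_iff.1 h')
          omega
      have hv : v ∈ ⨆ g : P, W.map (ρ g) := htop ▸ Submodule.mem_top
      induction hv using Submodule.iSup_induction' with
      | mem g x hx =>
        obtain ⟨w, hw, rfl⟩ := hx
        have := congrArg (ρ g) (hd g w hw)
        rwa [← Module.End.mul_apply (ρ g), ← map_mul, ← mul_assoc, mul_inv_cancel_left, map_mul,
          Module.End.mul_apply] at this
      | zero => exact map_zero _
      | add x y _ _ h1 h2 => rw [map_add, h1, h2]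
    have hMne : Nontrivial P → ∃ h ∈ M, ∃ x ∈ W, ρ h x ≠ x := by
      intro hnt
      obtain ⟨a, ha, ha1⟩ := hAne hnt
      by_contra h
      push Not at h
      exact ha1 (hU a fun g x hx => h _ (by
        have := hMn.conj_mem a (hHM (hAH ha)) g⁻¹
        rwa [inv_inv] at this) x hx)
    rcases subsingleton_or_nontrivial P with hs | hnt
    · exact ⟨Subsingleton.elim _ _, fun h => absurd h (not_nontrivial P)⟩
    have hew := k1' (hMne hnt)
    refine ⟨?_, fun _ => by omega⟩
    refine derived_mono (i := 1 + (Nat.log 2 (finrank F W / e) + 1)) ?_ (le_bot_iff.1 fun d hd => ?_)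
    · have := log_step hepos hew h2p
      omega
    have h1 : derivedSeries P 1 ≤ M := by
      rw [derivedSeries_one]
      haveI : Fact (Nat.card (P ⧸ M)).Prime := ⟨by rw [← Subgroup.index_eq_card]; exact hMp⟩
      haveI : IsCyclic (P ⧸ M) := isCyclic_of_prime_card (p := Nat.card (P ⧸ M)) rfl
      letI : CommGroup (P ⧸ M) := IsCyclic.commGroup
      refine (Abelianization.commutator_subset_ker (QuotientGroup.mk' M)).trans ?_
      rw [QuotientGroup.ker_mk']
    have hd' := Basics.KW.derivedSeries_add_le h1 _ hd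
    obtain ⟨d, hdm, rfl⟩ := hd'
    rw [Subgroup.mem_bot]
    refine hU d fun g x hx => ?_
    let θ : M →* M := ((MulAut.conjNormal g⁻¹ : MulAut M)).toMonoidHom
    have hmem : θ d ∈ derivedSeries M (Nat.log 2 (finrank F W / e) + 1) :=
      map_derivedSeries_le_derivedSeries θ _ ⟨d, hdm, rfl⟩
    have := congrArg (fun f : Module.End F W => (f ⟨x, hx⟩ : V)) (MonoidHom.mem_ker.1 (k1 hmem))
    simp only [restr_apply, Module.End.one_apply] at this
    rw [show ((θ d : M) : P) = g⁻¹ * d * g⁻¹⁻¹ from MulAut.conjNormal_apply g⁻¹ d, inv_inv] at this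
    exact this
  · -- primitive: `R` is a field
    push Not at hidem
    letI : CommRing R := { (inferInstance : Ring R) with
      mul_comm := fun a b => Subtype.ext (hRcomm a a.2 b b.2) }
    have hunit : ∀ x : R, x ≠ 0 → x * x ^ (Q - 2) = 1 := by
      intro x hx
      rw [← pow_succ']
      have hQ' : x ^ Q = x := Subtype.ext (by rw [SubmonoidClass.coe_pow]; exact hQ x x.2)
      set y := x ^ (Q - 2 + 1) with hy
      have hyy : y * y = y := by
        rw [hy, ← pow_add, show Q - 2 + 1 + (Q - 2 + 1) = Q + (Q - 2) by omega, pow_add, hQ', ← pow_succ']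
      have hy0 : (y : Module.End F V) ≠ 0 := by
        intro h
        apply hx
        rw [← hQ', show Q = (Q - 2 + 1) + 1 by omega, pow_succ, ← hy, show y = 0 from Subtype.ext h, zero_mul]
      exact Subtype.ext (hidem y y.2 (congrArg Subtype.val hyy) hy0)
    haveI : Nontrivial R := ⟨⟨0, 1, fun h => zero_ne_one (congrArg Subtype.val h)⟩⟩
    letI : Field R := IsField.toField
      ⟨exists_pair_ne R, mul_comm, fun {x} hx => ⟨_, hunit x hx⟩⟩
    obtain ⟨v0, hv0⟩ := exists_ne (0 : V)
    haveI : Finite R := inferInstance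
    haveI : FiniteDimensional F R := Module.Finite.of_finite
    set d := finrank F R with hd
    have hdm : d ≤ m := by
      let ev : R →ₗ[F] V := (LinearMap.applyₗ v0).comp R.val.toLinearMap
      rw [← hm]
      refine LinearMap.finrank_le_finrank_of_injective (f := ev) ?_
      rw [injective_iff_map_eq_zero]
      intro x hx
      by_contra h0
      have h1 := congrArg (fun y : R => (y : Module.End F V) v0) (hunit x h0)
      rw [mul_comm] at h1
      simp only [Subalgebra.coe_mul, Module.End.mul_apply, Subalgebra.coe_one, Module.End.one_apply] at h1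
      rw [show (x : Module.End F V) v0 = 0 from hx, map_zero] at h1
      exact hv0 h1.symm
    have hed : Nontrivial P → e ∣ d := by
      intro hnt
      obtain ⟨a, ha, ha1⟩ := hAne hnt
      let ψ : A →* R :=
        { toFun := fun a => ⟨ρ a, Algebra.subset_adjoin ⟨a, a.2, rfl⟩⟩
          map_one' := Subtype.ext (by simp)
          map_mul' := fun a b => Subtype.ext (by simp) }
      have hψ : Function.Injective ψ := fun a b h => Subtype.ext (hinj (congrArg Subtype.val h))
      have hpA : p ∣ Nat.card A := by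
        obtain ⟨i, hi⟩ := IsPGroup.iff_card.1 (hP.to_subgroup A)
        rw [hi]
        refine dvd_pow_self p fun h0 => ha1 ?_
        rw [h0, pow_zero, Subgroup.card_eq_one] at hi
        rwa [hi, Subgroup.mem_bot] at ha
      have h1 : Nat.card A ∣ Nat.card Rˣ :=
        Subgroup.card_dvd_of_injective ψ.toHomUnits fun a b h => hψ (by
          simpa using congrArg Units.val h)
      rw [Nat.card_units, Module.natCard_eq_pow_finrank (K := F) (V := R), Nat.card_eq_fintype_card (α := F)] at h1
      rw [he, orderOf_dvd_iff_pow_eq_one, ← Nat.cast_pow, ← hd] at *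
      have h2 := hpA.trans h1
      have : 1 ≤ Fintype.card F ^ d := Nat.one_le_pow _ _ Fintype.card_pos
      rw [← Nat.modEq_iff_dvd' this, ← ZMod.natCast_eq_natCast_iff] at h2
      simpa using h2.symm
    have hdpos : 0 < d := finrank_pos
    refine ⟨?_, fun hnt => (Nat.le_of_dvd hdpos (hed hnt)).trans hdm⟩
    rcases subsingleton_or_nontrivial P with hs | hnt
    · exact Subsingleton.elim _ _
    let φ : P →* (R ≃ₐ[F] R) :=
      { toFun := fun g =>
          { toFun := fun x => ⟨ρ g * x * ρ g⁻¹, hconj g x x.2⟩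
            invFun := fun x => ⟨ρ g⁻¹ * x * ρ g, by simpa using hconj g⁻¹ x x.2⟩
            left_inv := fun x => Subtype.ext (by
              show ρ g⁻¹ * (ρ g * (x : Module.End F V) * ρ g⁻¹) * ρ g = x
              rw [← mul_assoc, ← mul_assoc, ← map_mul, inv_mul_cancel, map_one, one_mul, mul_assoc,
                ← map_mul, inv_mul_cancel, map_one, mul_one])
            right_inv := fun x => Subtype.ext (by
              show ρ g * (ρ g⁻¹ * (x : Module.End F V) * ρ g) * ρ g⁻¹ = x
              rw [← mul_assoc, ← mul_assoc, ← map_mul, mul_inv_cancel, map_one, one_mul, mul_assoc,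
                ← map_mul, mul_inv_cancel, map_one, mul_one])
            map_mul' := fun x y => Subtype.ext (by
              show ρ g * ((x : Module.End F V) * y) * ρ g⁻¹ = (ρ g * x * ρ g⁻¹) * (ρ g * y * ρ g⁻¹)
              rw [← mul_assoc (ρ g * (x : Module.End F V) * ρ g⁻¹), ← mul_assoc (ρ g * (x : Module.End F V) * ρ g⁻¹),
                mul_assoc (ρ g * (x : Module.End F V)) (ρ g⁻¹), ← map_mul, inv_mul_cancel, map_one, mul_one,
                mul_assoc (ρ g) (x : Module.End F V) y])
            map_add' := fun x y => Subtype.ext (by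
              show ρ g * ((x : Module.End F V) + y) * ρ g⁻¹ = ρ g * x * ρ g⁻¹ + ρ g * y * ρ g⁻¹
              rw [mul_add, add_mul])
            commutes' := fun c => Subtype.ext (by
              show ρ g * algebraMap F (Module.End F V) c * ρ g⁻¹ = algebraMap F (Module.End F V) c
              rw [← Algebra.commutes, mul_assoc, ← map_mul, mul_inv_cancel, map_one, mul_one]) }
        map_one' := AlgEquiv.ext fun x => Subtype.ext (by
          show ρ 1 * (x : Module.End F V) * ρ 1⁻¹ = x
          simp)
        map_mul' := fun a b => AlgEquiv.ext fun x => Subtype.ext (by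
          show ρ (a * b) * (x : Module.End F V) * ρ (a * b)⁻¹ = ρ a * (ρ b * x * ρ b⁻¹) * ρ a⁻¹
          simp only [mul_inv_rev, map_mul, mul_assoc]) }
    have hker : φ.ker ≤ A := fun g hg => hCA (Subgroup.mem_centralizer_iff.2 fun a ha => hinj (by
      have := congrArg (fun s : R ≃ₐ[F] R => ((s ⟨ρ a, Algebra.subset_adjoin ⟨a, ha, rfl⟩⟩ : R) : Module.End F V)) hg
      simp only [φ, MonoidHom.coe_mk, OneHom.coe_mk] at this
      have h' : ρ g * ρ a * ρ g⁻¹ = ρ a := this
      rw [map_mul, map_mul]
      calc ρ a * ρ g = ρ g * ρ a * ρ g⁻¹ * ρ g := by rw [h']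
        _ = ρ g * ρ a := by rw [mul_assoc (ρ g * ρ a), ← map_mul ρ g⁻¹, inv_mul_cancel, map_one, mul_one]))
    letI : CommGroup (R ≃ₐ[F] R) := IsCyclic.commGroup
    have h1 : derivedSeries P 1 ≤ A := by
      rw [derivedSeries_one]
      exact (Abelianization.commutator_subset_ker φ).trans hker
    have hA1 : derivedSeries A 1 = ⊥ := by
      rw [derivedSeries_one, commutator_def, Subgroup.commutator_eq_bot_iff_le_centralizer]
      exact fun x _ => Subgroup.mem_centralizer_iff.2 fun y _ => hAc.is_comm.comm y x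
    by_cases hAt : A = ⊤
    · refine derived_mono (i := 1) (Nat.le_add_left 1 _) ?_
      rw [derivedSeries_one, commutator_def, Subgroup.commutator_eq_bot_iff_le_centralizer]
      exact fun x _ => Subgroup.mem_centralizer_iff.2 fun y _ =>
        congrArg Subtype.val (hAc.is_comm.comm ⟨y, hAt ▸ Subgroup.mem_top y⟩ ⟨x, hAt ▸ Subgroup.mem_top x⟩)
    have h2 : derivedSeries P 2 = ⊥ := by
      have := Basics.KW.derivedSeries_add_le h1 1
      rw [hA1, Subgroup.map_bot] at this
      exact le_bot_iff.1 this
    refine derived_mono (i := 2) ?_ h2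
    have hpd : p ∣ d := by
      have hc : Nat.card φ.range ∣ d := by
        rw [hd, ← IsGalois.card_aut_eq_finrank F R]
        exact Subgroup.card_subgroup_dvd_card _
      refine Dvd.dvd.trans ?_ hc
      obtain ⟨i, hi⟩ := IsPGroup.iff_card.1 (hP.of_surjective φ.rangeRestrict φ.rangeRestrict_surjective)
      rw [hi]
      refine dvd_pow_self p fun h0 => hAt (top_le_iff.1 ?_)
      rw [h0, pow_zero, Subgroup.card_eq_one, MonoidHom.range_eq_bot_iff] at hi
      exact fun g _ => hker (by rw [hi]; rfl)
    have hpe : p * e ≤ m :=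
      (Nat.le_of_dvd hdpos (hecop.symm.mul_dvd_of_dvd_of_dvd hpd (hed hnt))).trans hdm
    have h3 : p ≤ m / e := (Nat.le_div_iff_mul_le hepos).2 hpe
    have h4 : 1 ≤ Nat.log 2 (m / e) := Nat.log_pos (by norm_num) (hp.out.two_le.trans h3)
    omega

end


/-- Let F be a field with q elements, p a prime not dividing q, and e the multiplicative order of q modulo p; assume e ≤ n. Then every p-subgroup of GL_n(F) has derived length at most ⌊log₂(n/e)⌋ + 1: that term of its derived series is trivial (n/e is the integer quotient). -/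
theorem result {F : Type*} [Field F] [Fintype F] (q : ℕ) (hF : Fintype.card F = q) (p : ℕ) [Fact p.Prime] (hpq : ¬ p ∣ q) (n e : ℕ) (he : e = orderOf (q : ZMod p)) (hen : e ≤ n) (P : Subgroup (GL (Fin n) F)) (hP : IsPGroup p P) : derivedSeries ↥P (Nat.log 2 (n / e) + 1) = ⊥ := by
  subst hF
  have h := (main (F := F) hpq e he n (P := ↥P) (Fin n → F)
    ((Matrix.toLinAlgEquiv' (R := F) (n := Fin n)).toMonoidHom.comp ((Units.coeHom _).comp P.subtype))
    hP ?_ (by simp)).1
  · exact h
  · exact fun a b h => Subtype.ext (Units.ext (Matrix.toLinAlgEquiv'.injective h))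

end Cfsg.Agent.S4417
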