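import Cfsg.Statements.S4419
import Cfsg.Agent.Lib.Metacyclic.Theory
import Cfsg.Agent.Lib.FGS.AutFrattini
import Cfsg.Agent.Lib.Transfer.Fusion
import Cfsg.Agent.Lib.Basics.KWTools
import Cfsg.Agent.Lib.Basics.Cores

set_option autoImplicit false
open Cfsg

namespace Cfsg.Agent.S4419

open scoped Pointwise

universe u

theorem two_gen {R : Type u} [Group R] (h : Cfsg.IsMetacyclic R) :
    ∃ a b : R, Subgroup.closure {a, b} = ⊤ := by
  obtain ⟨N, hN, h1, h2⟩ := h
  obtain ⟨a, ha⟩ := IsCyclic.exists_generator (α := N)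
  obtain ⟨bq, hb⟩ := IsCyclic.exists_generator (α := R ⧸ N)
  obtain ⟨b, rfl⟩ := QuotientGroup.mk'_surjective N bq
  refine ⟨(a : R), b, eq_top_iff.mpr fun x _ => ?_⟩
  obtain ⟨j, hj⟩ := Subgroup.mem_zpowers_iff.mp (hb (QuotientGroup.mk' N x))
  rw [← map_zpow, QuotientGroup.mk'_eq_mk'] at hj
  obtain ⟨z, hz, rfl⟩ := hj
  obtain ⟨i, hi⟩ := Subgroup.mem_zpowers_iff.mp (ha ⟨z, hz⟩)
  have hz' : (a : R) ^ i = z := by simpa using congrArg Subtype.val hi
  rw [← hz']
  exact mul_mem (zpow_mem (Subgroup.subset_closure (by simp)) j) (zpow_mem (Subgroup.subset_closure (by simp)) i)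

theorem frattini_index {D : Type u} [Group D] [Finite D] {p : ℕ} [hp : Fact p.Prime] (hD : IsPGroup p D)
    {a b : D} (hab : Subgroup.closure {a, b} = ⊤) : ∃ r ≤ 2, (frattini D).index = p ^ r := by
  haveI := hD.isNilpotent
  obtain ⟨r, hr⟩ := (hD.to_quotient (frattini D)).exists_card_eq
  refine ⟨r, ?_, by rw [Subgroup.index_eq_card, hr]⟩
  set π := QuotientGroup.mk' (frattini D)
  set X := Subgroup.zpowers (π a)
  set Y := Subgroup.zpowers (π b)
  have hcomm : ∀ u v : D ⧸ frattini D, u * v = v * u := by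
    intro u v
    obtain ⟨u, rfl⟩ := QuotientGroup.mk'_surjective _ u
    obtain ⟨v, rfl⟩ := QuotientGroup.mk'_surjective _ v
    refine commutatorElement_eq_one_iff_mul_comm.1 ?_
    rw [← map_commutatorElement]
    exact (QuotientGroup.eq_one_iff _).2
      (Basics.commutator_le_frattini (Subgroup.commutator_mem_commutator (Subgroup.mem_top u) (Subgroup.mem_top v)))
  have hpow : ∀ u : D, Nat.card (Subgroup.zpowers (π u)) ≤ p := fun u => by
    rw [Nat.card_zpowers]
    refine Nat.le_of_dvd hp.out.pos (orderOf_dvd_of_pow_eq_one ?_)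
    rw [← map_pow]
    exact (QuotientGroup.eq_one_iff _).2 (Basics.pow_mem_frattini hD u)
  have hsup : Y ⊔ X = ⊤ := by
    rw [← Subgroup.map_top_of_surjective π (QuotientGroup.mk'_surjective _), ← hab, MonoidHom.map_closure,
      Set.image_pair, sup_comm]
    show Subgroup.zpowers (π a) ⊔ Subgroup.zpowers (π b) = _
    rw [Subgroup.zpowers_eq_closure, Subgroup.zpowers_eq_closure, ← Subgroup.closure_union, Set.singleton_union]
  have e := Basics.card_mul_card_eq_card_sup_mul_card_inf (N := Y) (H := X) (fun u _ =>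
    Subgroup.mem_normalizer_iff.mpr fun v => by rw [hcomm u v, mul_inv_cancel_right])
  rw [hsup, Subgroup.card_top, hr] at e
  have h1 : p ^ r ≤ p * p := calc
    p ^ r ≤ p ^ r * Nat.card (Y ⊓ X : Subgroup _) := Nat.le_mul_of_pos_right _ Nat.card_pos
    _ = _ := e.symm
    _ ≤ p * p := Nat.mul_le_mul (hpow b) (hpow a)
  exact (Nat.pow_le_pow_iff_right hp.out.one_lt).mp (h1.trans (pow_two p).ge)

/-- Let p be a prime and G a finite group whose Sylow p-subgroups are metacyclic (a cyclic normal subgroup with cyclic quotient). Then G has a normal p-complement if and only if the order of G/O_{p′,p}(G) is coprime to p² − 1. -/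
theorem result {G : Type*} [Group G] [Finite G] (p : ℕ) [Fact p.Prime] (S : Sylow p G) (hS : Cfsg.IsMetacyclic ↥(S : Subgroup G)) : Cfsg.HasNormalPComplement p G ↔ Nat.Coprime (Nat.card (G ⧸ Cfsg.pPrimePCore p G)) (p ^ 2 - 1) := by
  classical
  have hp : p.Prime := Fact.out
  constructor
  · intro h
    have hres : ¬ p ∣ Nat.card ↥(Cfsg.pResidual p G) := Transfer.hasNormalPComplement_iff.mp h
    haveI : (Cfsg.pResidual p G).Normal := inferInstance
    have hle : Cfsg.pResidual p G ≤ Cfsg.pPrimeCore p G :=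
      Basics.le_pPrimeCore (hp.coprime_iff_not_dvd.mpr hres).symm
    have htop : Cfsg.pPrimePCore p G = ⊤ := by
      have hq : IsPGroup p (G ⧸ Cfsg.pPrimeCore p G) := fun x => by
        obtain ⟨g, rfl⟩ := QuotientGroup.mk'_surjective _ x
        obtain ⟨k, hk⟩ := Transfer.isPGroup_quotient_pResidual (G := G) (p := p) (QuotientGroup.mk g)
        refine ⟨k, ?_⟩
        rw [← QuotientGroup.mk_pow, QuotientGroup.eq_one_iff] at hk
        rw [← map_pow]
        exact (QuotientGroup.eq_one_iff _).mpr (hle hk)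
      rw [Cfsg.pPrimePCore, show Cfsg.pCore p (G ⧸ Cfsg.pPrimeCore p G) = ⊤ from top_le_iff.mp
        (Basics.le_pCore (hq.to_subgroup _)), Subgroup.comap_top]
    have : Nat.card (G ⧸ Cfsg.pPrimePCore p G) = 1 := by
      rw [← Subgroup.index_eq_card, htop, Subgroup.index_top]
    rw [this]
    exact Nat.coprime_one_left _
  · intro hcop
    refine Transfer.hasNormalPComplement_of_frobenius fun D hD g hg ho => ?_
    suffices Subgroup.zpowers g ≤ Subgroup.centralizer (D : Set G) from this (Subgroup.mem_zpowers g)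
    refine Basics.KW.le_of_prime_pow fun x hxg q k hq hx => ?_
    by_contra hne
    haveI := Fact.mk hq
    have hxN : x ∈ Subgroup.normalizer (D : Set G) := (Subgroup.zpowers_le.mpr hg) hxg
    have hk : k ≠ 0 := by
      rintro rfl
      rw [pow_zero, orderOf_eq_one_iff] at hx
      exact hne (hx ▸ one_mem _)
    have hqp : q ≠ p := by
      rintro rfl
      have h1 := (Subgroup.orderOf_dvd_natCard _ hxg).trans (Nat.card_zpowers g).dvd
      have := ho.coprime_dvd_left ((dvd_pow_self q hk).trans (hx ▸ h1))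
      exact hq.ne_one (Nat.coprime_self q |>.mp this)
    -- two generators
    obtain ⟨T, hT⟩ := hD.exists_le_sylow
    obtain ⟨c, hc⟩ := MulAction.exists_smul_eq G T S
    have hDS : MulAut.conj c • D ≤ (S : Subgroup G) := by
      rw [← hc, Sylow.coe_subgroup_smul]
      exact Subgroup.pointwise_smul_le_pointwise_smul_iff.mpr hT
    obtain ⟨a, b, hab⟩ := two_gen (Metacyclic.isMetacyclic_subgroup hS ((MulAut.conj c • D).subgroupOf (S : Subgroup G)))
    let e : ((MulAut.conj c • D).subgroupOf (S : Subgroup G)) ≃* D :=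
      (Subgroup.subgroupOfEquivOfLe hDS).trans (Subgroup.equivSMul (MulAut.conj c) D).symm
    have hab' : Subgroup.closure {e a, e b} = ⊤ := by
      rw [show ({e a, e b} : Set D) = ⇑e.toMonoidHom '' {a, b} from (Set.image_pair (⇑e.toMonoidHom) a b).symm, ← MonoidHom.map_closure, hab,
        Subgroup.map_top_of_surjective _ e.surjective]
    obtain ⟨r, hr2, hr⟩ := frattini_index hD hab'
    obtain ⟨n, hn⟩ := hD.exists_card_eq
    have hdiv := FGS.AutFrattini.card_mulAut_dvd (P := D) hn hr
    let α : Subgroup.normalizer (D : Set G) →* MulAut D := Subgroup.normalizerMonoidHom D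
    have hαne : α ⟨x, hxN⟩ ≠ 1 := by
      intro h1
      refine hne (Subgroup.mem_centralizer_iff.mpr fun d hd => ?_)
      have := congrArg Subtype.val (MulEquiv.congr_fun h1 ⟨d, hd⟩)
      change x * d * x⁻¹ = d at this
      exact (mul_inv_eq_iff_eq_mul.mp this).symm
    have hqd : q ∣ Nat.card (MulAut D) := by
      have h1 : orderOf (α ⟨x, hxN⟩) ∣ q ^ k := (orderOf_map_dvd α _).trans (by rw [Subgroup.orderOf_mk, hx])
      obtain ⟨i, -, hi⟩ := (Nat.dvd_prime_pow hq).mp h1
      have hi0 : i ≠ 0 := fun h0 => hαne (orderOf_eq_one_iff.mp (by rw [hi, h0, pow_zero]))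
      exact ((dvd_pow_self q hi0).trans hi.symm.dvd).trans (orderOf_dvd_natCard _)
    have hq1 : q ∣ p ^ 2 - 1 := by
      have hnp : ¬ q ∣ p := fun h => hqp ((Nat.prime_dvd_prime_iff_eq hq hp).mp h)
      rcases hq.dvd_mul.mp (hqd.trans hdiv) with h | h
      · exact absurd (hq.dvd_of_dvd_pow h) hnp
      · have hp1 : p - 1 ∣ p ^ 2 - 1 := by simpa using Nat.sub_dvd_pow_sub_pow p 1 2
        interval_cases r
        · simp at h; exact absurd h hq.ne_one
        · simp at h; exact h.trans hp1
        · simp [Finset.prod_range_succ] at h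
          rcases hq.dvd_mul.mp h with h | h
          · exact h
          · rw [show p ^ 2 - p = p * (p - 1) by rw [Nat.mul_sub, mul_one, pow_two]] at h
            rcases hq.dvd_mul.mp h with h | h
            · exact absurd h hnp
            · exact h.trans hp1
    set M := Cfsg.pPrimePCore p G with hM
    haveI hMn : M.Normal := by
      show ((Cfsg.pCore p (G ⧸ Cfsg.pPrimeCore p G)).comap (QuotientGroup.mk' (Cfsg.pPrimeCore p G))).Normal
      infer_instance
    have hxM : x ∈ M := by
      rw [← QuotientGroup.eq_one_iff, ← orderOf_eq_one_iff]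
      refine Nat.eq_one_of_dvd_coprimes ((hcop.coprime_dvd_right hq1).symm.pow_left k) ?_ (orderOf_dvd_natCard _)
      rw [← hx]
      exact orderOf_map_dvd (QuotientGroup.mk' M) x
    have hxO : x ∈ Cfsg.pPrimeCore p G := by
      rw [← QuotientGroup.eq_one_iff, ← orderOf_eq_one_iff]
      obtain ⟨j, hj⟩ := Basics.pCore_isPGroup (G := G ⧸ Cfsg.pPrimeCore p G) p ⟨QuotientGroup.mk' _ x, hxM⟩
      refine Nat.eq_one_of_dvd_coprimes (((Nat.coprime_primes hq hp).mpr hqp).pow k j) ?_
        (orderOf_dvd_of_pow_eq_one (congrArg Subtype.val hj))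
      rw [← hx]
      exact orderOf_map_dvd (QuotientGroup.mk' (Cfsg.pPrimeCore p G)) x
    refine hne (Subgroup.mem_centralizer_iff.mpr fun d hd => ?_)
    have h1 : x * d * x⁻¹ * d⁻¹ ∈ D ⊓ Cfsg.pPrimeCore p G := by
      refine ⟨D.mul_mem ((Subgroup.mem_normalizer_iff.mp hxN d).mp hd) (D.inv_mem hd), ?_⟩
      rw [show x * d * x⁻¹ * d⁻¹ = x * (d * x⁻¹ * d⁻¹) by group]
      exact Subgroup.mul_mem _ hxO (Subgroup.Normal.conj_mem inferInstance _ (inv_mem hxO) d)
    have hbot : D ⊓ Cfsg.pPrimeCore p G = ⊥ := disjoint_iff.mp (Subgroup.disjoint_of_coprime_natCard (by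
      rw [hn]; exact Nat.Coprime.pow_left n (Basics.pPrimeCore_coprime p).symm))
    rw [hbot, Subgroup.mem_bot, mul_inv_eq_one, mul_inv_eq_iff_eq_mul] at h1
    exact h1.symm

end Cfsg.Agent.S4419
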