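import Cfsg.Statements.S4420
-- import your own Cfsg.Agent.* helpers here

set_option autoImplicit false
open Cfsg
open scoped Pointwise
set_option linter.all false

namespace Cfsg.Agent.S4420

lemma inv_of_sq {H : Type*} [Group H] {x : H} (h : x ^ 2 = 1) : x⁻¹ = x := by
  rw [pow_two] at h; exact inv_eq_of_mul_eq_one_right h

/-- An index two complement of involutions inverts. -/
lemma inverts {H : Type*} [Group H] (A : Subgroup H) (hD : ∀ x : H, x ∉ A → x ^ 2 = 1)
    {x : H} (hx : x ∉ A) {a : H} (ha : a ∈ A) : x * a * x⁻¹ = a⁻¹ := by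
  have hxa : x * a ∉ A := fun h => hx (by simpa using mul_mem h (inv_mem ha))
  have h1 := hD _ hxa
  rw [pow_two] at h1
  rw [inv_of_sq (hD x hx)]
  calc x * a * x = x * a * (x * a) * a⁻¹ := by group
    _ = a⁻¹ := by rw [h1, one_mul]

lemma comm_of_inverts {H : Type*} [Group H] (A : Subgroup H) {x : H} (h : ∀ a ∈ A, x * a * x⁻¹ = a⁻¹) :
    IsMulCommutative A := by
  refine ⟨⟨fun a b => Subtype.ext ?_⟩⟩
  have hab := h _ (mul_mem a.2 b.2)
  have e : x * ((a : H) * b) * x⁻¹ = (x * a * x⁻¹) * (x * b * x⁻¹) := by group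
  rw [e, h _ a.2, h _ b.2, mul_inv_rev] at hab
  have := congrArg (·⁻¹) hab
  simpa using this.symm

lemma comm_of_exp_two {H : Type*} [Group H] (h : ∀ x : H, x ^ 2 = 1) (a b : H) : a * b = b * a := by
  have := inv_of_sq (h (a * b))
  rw [mul_inv_rev, inv_of_sq (h a), inv_of_sq (h b)] at this
  exact this.symm


/-- Structure of groups in which every element outside some proper subgroup has square 1. Let H be a finite group with a proper subgroup A such that every element outside A has square 1. Then H has an abelian normal subgroup B of index 2 such that every element outside B is an involution inverting every element of B; and if H is not an elementary abelian 2-group, B is the only abelian normal subgroup of index 2 with this property. -/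
theorem result {H : Type*} [Group H] [Finite H] (A : Subgroup H) (hA : A ≠ ⊤) (hD : ∀ x : H, x ∉ A → x ^ 2 = 1) :
    ∃ B : Subgroup H, B.Normal ∧ IsMulCommutative ↥B ∧ B.index = 2 ∧
      (∀ x : H, x ∉ B → x ^ 2 = 1 ∧ ∀ b ∈ B, x * b * x⁻¹ = b⁻¹) ∧
      (¬ (IsMulCommutative H ∧ ∀ x : H, x ^ 2 = 1) →
        ∀ B' : Subgroup H, B'.Normal → IsMulCommutative ↥B' → B'.index = 2 →
          (∀ x : H, x ∉ B' → x ^ 2 = 1 ∧ ∀ b ∈ B', x * b * x⁻¹ = b⁻¹) → B' = B) := by
  obtain ⟨x₀, hx₀⟩ : ∃ x, x ∉ A := by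
    by_contra h; push Not at h; exact hA (top_le_iff.mp fun x _ => h x)
  have hinv : ∀ x ∉ A, ∀ a ∈ A, x * a * x⁻¹ = a⁻¹ := fun x hx a ha => inverts A hD hx ha
  by_cases hexp : ∀ x : H, x ^ 2 = 1
  · haveI : Nontrivial H := ⟨⟨x₀, 1, fun h => hx₀ (h ▸ one_mem A)⟩⟩
    have hcomm : IsMulCommutative H := ⟨⟨comm_of_exp_two hexp⟩⟩
    obtain ⟨B, hB, -⟩ := (eq_top_or_exists_le_coatom (⊥ : Subgroup H)).resolve_left bot_ne_top
    have hBn : B.Normal := ⟨fun b hb g => by rw [comm_of_exp_two hexp g b, mul_inv_cancel_right]; exact hb⟩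
    obtain ⟨y, hy⟩ : ∃ y, y ∉ B := by
      by_contra h; push Not at h; exact hB.1 (top_le_iff.mp fun x _ => h x)
    refine ⟨B, hBn, ⟨⟨fun a b => Subtype.ext (comm_of_exp_two hexp _ _)⟩⟩, ?_, ?_, fun h => absurd ⟨hcomm, hexp⟩ h⟩
    · rw [Subgroup.index_eq_two_iff']
      refine ⟨y, fun b => ?_⟩
      by_cases hb : b ∈ B
      · right
        refine ⟨hb, fun h => hy ?_⟩
        exact (B.mul_mem_cancel_right hb).mp h
      · left
        refine ⟨?_, hb⟩
        have htop : B ⊔ Subgroup.zpowers y = ⊤ := hB.2 _ (lt_of_le_of_ne le_sup_left (fun h => hy (h ▸ le_sup_right (a := B) (Subgroup.mem_zpowers y))))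
        have hb' : b ∈ ((B ⊔ Subgroup.zpowers y : Subgroup H) : Set H) := by rw [htop]; trivial
        rw [Subgroup.normal_mul] at hb'
        obtain ⟨c, hc, d, hd, rfl⟩ := hb'
        obtain ⟨i, rfl⟩ := hd
        rcases Int.even_or_odd i with ⟨j, rfl⟩ | ⟨j, rfl⟩
        · simp only [← two_mul, zpow_mul, zpow_two, ← pow_two, hexp y, one_zpow, mul_one] at hb
          exact absurd hc hb
        · simp only [zpow_add, zpow_mul, zpow_two, ← pow_two, hexp y, one_zpow, one_mul, zpow_one]
          rw [comm_of_exp_two hexp c y, ← mul_assoc, ← pow_two, hexp y, one_mul]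
          exact hc
    · refine fun x _ => ⟨hexp x, fun b hb => ?_⟩
      rw [comm_of_exp_two hexp x b, mul_inv_cancel_right, inv_of_sq (hexp b)]
  · push Not at hexp
    obtain ⟨z, hz⟩ := hexp
    have hzA : z ∈ A := by_contra fun h => hz (hD z h)
    have hprod : ∀ x ∉ A, ∀ y ∉ A, x * y ∈ A := by
      intro x hx y hy
      by_contra hxy
      apply hz
      have h1 := hinv _ hxy z hzA
      rw [show x * y * z * (x * y)⁻¹ = x * (y * z * y⁻¹) * x⁻¹ by group, hinv y hy z hzA, hinv x hx _ (inv_mem hzA), inv_inv] at h1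
      rw [pow_two]; nth_rewrite 2 [h1]; exact mul_inv_cancel z
    have hidx : A.index = 2 := by
      rw [Subgroup.index_eq_two_iff']
      refine ⟨x₀, fun b => ?_⟩
      by_cases hb : b ∈ A
      · exact Or.inr ⟨hb, fun h => hx₀ ((A.mul_mem_cancel_right hb).mp h)⟩
      · exact Or.inl ⟨hprod x₀ hx₀ b hb, hb⟩
    refine ⟨A, Subgroup.normal_of_index_eq_two hidx, comm_of_inverts A (hinv x₀ hx₀), hidx,
      fun x hx => ⟨hD x hx, hinv x hx⟩, fun _ B' hB'n hB'c hB'i hB' => ?_⟩
    have hle : A ≤ B' := by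
      intro c hc
      by_contra hcB
      apply hz
      -- elements of A in B' have order at most two
      have hint : ∀ w ∈ A, w ∈ B' → w ^ 2 = 1 := by
        intro w hw hwB
        have h1 := (hB' c hcB).2 w hwB
        have h2 := congrArg Subtype.val ((comm_of_inverts A (hinv x₀ hx₀)).is_comm.comm ⟨c, hc⟩ ⟨w, hw⟩)
        simp only [Subgroup.coe_mul] at h2
        rw [h2, mul_inv_cancel_right] at h1
        rw [pow_two]; nth_rewrite 2 [h1]; exact mul_inv_cancel w
      by_cases hzB : z ∈ B'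
      · exact hint z hzA hzB
      · exact (hB' z hzB).1
    exact (Subgroup.eq_of_le_of_card_ge hle (le_of_eq (by
      have h1 := A.index_mul_card; have h2 := B'.index_mul_card; rw [hidx] at h1; rw [hB'i] at h2; omega))).symm

end Cfsg.Agent.S4420
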