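import Cfsg.Statements.S4421
-- import your own Cfsg.Agent.* helpers here

set_option autoImplicit false
open Cfsg
open scoped Pointwise commutatorElement
set_option linter.all false

namespace Cfsg.Agent.S4421

/-- A factorization of a normalizer from two-step control of fusion. Let `G` be a finite group and `A ≤ S ≤ H` subgroups of `G` such that: (i) `S` controls the `G`-fusion of `A` in the sense that every `G`-conjugate of `A` lying in `S` is an `S`-conjugate of `A`; (ii) `H` controls the `G`-fusion of `S` in the same sense; (iii) every conjugate of `S` by an element of the normalizer of `A` lies in `H`. Then `N_G(A) = N_H(A) · (N_G(S) ∩ N_G(A))`: every element of the normalizer of `A` is a product of an element of `H` normalizing `A` and an element normalizing both `S` and `A`. -/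
theorem result {G : Type*} [Group G] [Finite G] (A S H : Subgroup G)
    (hAS : A ≤ S) (hSH : S ≤ H)
    (h1 : ∀ g : G, A.map (MulAut.conj g).toMonoidHom ≤ S → ∃ s ∈ S, A.map (MulAut.conj g).toMonoidHom = A.map (MulAut.conj s).toMonoidHom)
    (h2 : ∀ g : G, S.map (MulAut.conj g).toMonoidHom ≤ H → ∃ y ∈ H, S.map (MulAut.conj g).toMonoidHom = S.map (MulAut.conj y).toMonoidHom)
    (h3 : ∀ x ∈ Subgroup.normalizer (A : Set G), S.map (MulAut.conj x).toMonoidHom ≤ H) :
    ∀ x ∈ Subgroup.normalizer (A : Set G), ∃ y ∈ H ⊓ Subgroup.normalizer (A : Set G),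
      ∃ z ∈ Subgroup.normalizer (S : Set G) ⊓ Subgroup.normalizer (A : Set G), x = y * z := by
  intro x hx
  have hxA : A.map (MulAut.conj x).toMonoidHom = A := by
    ext a
    rw [Subgroup.mem_map_equiv, MulAut.conj_symm_apply]
    have := Subgroup.mem_normalizer_iff.mp (inv_mem hx) a
    rw [inv_inv] at this
    exact this.symm
  obtain ⟨y, hy, hxy⟩ := h2 x (h3 x hx)
  have hcomp : ∀ (K : Subgroup G) (a b : G), K.map (MulAut.conj (a * b)).toMonoidHom
      = (K.map (MulAut.conj b).toMonoidHom).map (MulAut.conj a).toMonoidHom := by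
    intro K a b
    rw [Subgroup.map_map]
    congr 1
    ext z; simp [mul_assoc]
  have hone : ∀ K : Subgroup G, K.map (MulAut.conj (1 : G)).toMonoidHom = K := by
    intro K
    rw [map_one]; exact Subgroup.map_id K
  set z0 := y⁻¹ * x with hz0
  have hz0S : S.map (MulAut.conj z0).toMonoidHom = S := by
    rw [hz0, hcomp, hxy, ← hcomp, inv_mul_cancel, hone]
  obtain ⟨s, hs, hsA⟩ := h1 z0 (le_trans (Subgroup.map_mono hAS) hz0S.le)
  set z := s⁻¹ * z0 with hz
  have hzA : A.map (MulAut.conj z).toMonoidHom = A := by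
    rw [hz, hcomp, hsA, ← hcomp, inv_mul_cancel, hone]
  have hsS : S.map (MulAut.conj s⁻¹).toMonoidHom = S := by
    ext a
    rw [Subgroup.mem_map_equiv, MulAut.conj_symm_apply]
    simp only [inv_inv]
    constructor
    · intro h
      have := mul_mem (mul_mem (inv_mem hs) h) hs
      simpa [mul_assoc] using this
    · intro h
      exact mul_mem (mul_mem hs h) (inv_mem hs)
  have hzS : S.map (MulAut.conj z).toMonoidHom = S := by rw [hz, hcomp, hz0S, hsS]
  have hn : ∀ (K : Subgroup G) (w : G), K.map (MulAut.conj w).toMonoidHom = K →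
      w ∈ Subgroup.normalizer (K : Set G) := by
    intro K w h
    rw [Subgroup.mem_normalizer_iff]
    intro a
    conv_rhs => rw [← h, Subgroup.mem_map_equiv, MulAut.conj_symm_apply]
    simp [mul_assoc]
  refine ⟨x * z⁻¹, Subgroup.mem_inf.mpr ⟨?_, Subgroup.mul_mem _ hx (Subgroup.inv_mem _ (hn A z hzA))⟩, z,
    Subgroup.mem_inf.mpr ⟨hn S z hzS, hn A z hzA⟩, by group⟩
  have : x * z⁻¹ = y * s := by rw [hz, hz0]; group
  rw [this]
  exact mul_mem hy (hSH hs)

end Cfsg.Agent.S4421
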