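import Cfsg.Statements.S4422
-- import your own Cfsg.Agent.* helpers here

set_option autoImplicit false
open Cfsg
open scoped Pointwise commutatorElement
set_option linter.all false

namespace Cfsg.Agent.S4422

lemma prime_mod {q e r : ℕ} (hq : 2 ≤ q) (he : 1 ≤ e) (hr : r.Prime) (hd : r ∣ q ^ e - 1)
    (hcop : ∀ i : ℕ, 1 ≤ i → i < e → ¬ r ∣ q ^ i - 1) : r ≡ 1 [MOD e] := by
  haveI := Fact.mk hr
  have h1 : ∀ i, r ∣ q ^ i - 1 ↔ (q : ZMod r) ^ i = 1 := by
    intro i
    rw [← ZMod.natCast_eq_zero_iff (q ^ i - 1) r, Nat.cast_sub (Nat.one_le_pow _ _ (by omega)), Nat.cast_pow, Nat.cast_one, sub_eq_zero]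
  have hqe := (h1 e).mp hd
  have hq0 : (q : ZMod r) ≠ 0 := by
    intro h; rw [h, zero_pow (by omega)] at hqe; exact zero_ne_one hqe
  have hord : orderOf (q : ZMod r) = e := by
    rcases (Nat.le_of_dvd (by omega) (orderOf_dvd_of_pow_eq_one hqe)).lt_or_eq with h | h
    · have hpos : 0 < orderOf (q : ZMod r) := by
        rw [orderOf_pos_iff]; exact isOfFinOrder_iff_pow_eq_one.mpr ⟨e, by omega, hqe⟩
      exact absurd ((h1 _).mpr (pow_orderOf_eq_one _)) (hcop _ hpos h)
    · exact h
  refine ((Nat.modEq_iff_dvd' hr.one_le).mpr ?_).symm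
  rw [← hord]
  exact orderOf_dvd_of_pow_eq_one (ZMod.pow_card_sub_one_eq_one hq0)


/-- Primitive divisors of `q^e - 1` are congruent to 1 modulo `e`. Let `q ≥ 2` and `e ≥ 1` be natural numbers and let `m` be a divisor of `q^e - 1` that is coprime to `q^i - 1` for every `1 ≤ i < e` (so `m` divides the primitive part of `q^e - 1`, the largest such divisor). Then `m ≡ 1 (mod e)`. -/
theorem result (q e m : ℕ) (hq : 2 ≤ q) (he : 1 ≤ e)
    (hm : m ∣ q ^ e - 1) (hcop : ∀ i : ℕ, 1 ≤ i → i < e → Nat.Coprime m (q ^ i - 1)) :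
    m % e = 1 % e := by
  have key : ∀ d : ℕ, d ≠ 0 → d ∣ m → d ≡ 1 [MOD e] := by
    intro d
    induction d using Nat.recOnMul with
    | zero => intro h; exact absurd rfl h
    | one => intro _ _; rfl
    | prime r hr =>
      intro _ hrm
      refine prime_mod hq he hr (hrm.trans hm) fun i hi hie hdi => ?_
      exact hr.ne_one (Nat.eq_one_of_dvd_coprimes (hcop i hi hie) hrm hdi)
    | mul a b ha hb =>
      intro hne hab
      have := (ha (left_ne_zero_of_mul hne) (dvd_of_mul_right_dvd hab)).mul (hb (right_ne_zero_of_mul hne) (dvd_of_mul_left_dvd hab))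
      simpa using this
  refine key m ?_ dvd_rfl
  rintro rfl
  have := Nat.one_lt_pow (by omega : e ≠ 0) (by omega : 1 < q)
  have := Nat.eq_zero_of_zero_dvd hm
  omega

end Cfsg.Agent.S4422
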