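import Cfsg.Statements.S4423
import Cfsg.Agent.Lib.Recog.LargePPD

set_option autoImplicit false
open Cfsg
open scoped Pointwise
set_option linter.all false

namespace Cfsg.Agent.S4423

open Cfsg.Agent.Recog Cfsg.Agent.Recog.Zsig Polynomial
set_option maxRecDepth 20000

private theorem big {q n : ℕ} (hq : 2 ≤ q) (hn : 3 ≤ n) (hlarge : 4 * n * (3 * n + 1) < q ^ n.totient) :
    ∃ m : ℕ, m ∣ q ^ n - 1 ∧ (∀ i : ℕ, 1 ≤ i → i < n → Nat.Coprime m (q ^ i - 1)) ∧ 3 * n + 1 ≤ m := by
  set C := cval n q with hC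
  set g := Nat.gcd C n with hg
  have hgpos : 0 < g := Nat.gcd_pos_of_pos_right _ (by omega)
  obtain ⟨m, hm⟩ : g ∣ C := Nat.gcd_dvd_left _ _
  have hdvd : C ∣ q ^ n - 1 := dvd_pow_sub_one (n := n) (a := q) (by omega)
  refine ⟨m, (Dvd.intro_left g hm.symm).trans hdvd, fun i hi hin => ?_, ?_⟩
  · refine Nat.coprime_of_dvd fun r hr h1 h2 => ?_
    haveI := Fact.mk hr
    have hrC : r ∣ C := hm ▸ dvd_mul_of_dvd_right h1 g
    obtain ⟨k, j, hj, hnk⟩ := Nat.exists_eq_pow_mul_and_not_dvd (by omega : n ≠ 0) r hr.ne_one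
    have hroot := isPrimitiveRoot_of_dvd hnk hj hrC
    have hjn : j ≤ i := by
      rw [← ZMod.natCast_eq_zero_iff, Nat.cast_sub (Nat.one_le_pow _ _ (by omega)), sub_eq_zero,
        Nat.cast_pow, Nat.cast_one] at h2
      exact Nat.le_of_dvd (by omega) (hroot.dvd_of_pow_eq_one _ h2)
    have hk : 0 < k := Nat.pos_of_ne_zero fun h => by
      rw [h, pow_zero, one_mul] at hnk; omega
    have hq0 : (q : ZMod r) ≠ 0 := by
      intro h0
      have h3 := hroot.pow_eq_one
      rw [h0, zero_pow (fun h => hj (by rw [h]; exact dvd_zero r))] at h3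
      exact zero_ne_one h3
    have hjr : j ∣ r - 1 := hroot.dvd_of_pow_eq_one _ (ZMod.pow_card_sub_one_eq_one hq0)
    refine LargePPD.not_sq_dvd hr (by omega) (by omega) hnk hk hj hjr hroot ?_
    rw [← hC, hm, pow_two]
    exact Nat.mul_dvd_mul (Nat.dvd_gcd hrC (hnk ▸ dvd_mul_of_dvd_left (dvd_pow_self r hk.ne') j)) h1
  · have h1 := LargePPD.pow_totient_le hq (show 0 < n by omega)
    rw [← hC] at h1
    have h2 : g * m ≤ n * m := Nat.mul_le_mul_right _ (Nat.le_of_dvd (by omega) (Nat.gcd_dvd_right _ _))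
    by_contra hlt
    have h3 : n * m ≤ n * (3 * n + 1) := Nat.mul_le_mul_left _ (by omega)
    nlinarith

private def table : List (ℕ × ℕ × ℕ) := [(3, 3, 13), (5, 3, 31), (6, 3, 43), (7, 3, 19), (8, 3, 73), (9, 3, 91), (10, 3, 37), (4, 4, 17), (5, 4, 13), (6, 4, 37), (7, 4, 25), (8, 4, 65), (9, 4, 41), (10, 4, 101), (11, 4, 61), (12, 4, 145), (13, 4, 85), (14, 4, 197), (2, 5, 31), (3, 5, 121), (4, 5, 341), (6, 6, 31), (7, 6, 43), (8, 6, 19), (9, 6, 73), (10, 6, 91), (11, 6, 37), (12, 6, 133), (13, 6, 157), (14, 6, 61), (15, 6, 211), (16, 6, 241), (17, 6, 91), (18, 6, 307), (19, 6, 343), (20, 6, 127), (21, 6, 421), (2, 7, 127), (3, 8, 41), (4, 8, 257), (5, 8, 313), (2, 9, 73), (3, 9, 757), (3, 10, 61), (4, 10, 41), (5, 10, 521), (2, 11, 2047), (3, 12, 73), (4, 12, 241), (5, 12, 601), (6, 12, 1261), (2, 14, 43), (3, 14, 547), (2, 15, 151), (2, 16, 257), (3, 18, 703), (2, 21, 337), (2, 22, 683), (2, 24, 241), (3, 24, 6481), (2, 26, 2731), (2, 28, 3277), (2,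 30, 331), (3, 30, 8401), (2, 36, 4033), (2, 42, 5419)]

private def exc : List (ℕ × ℕ) :=
  [(2, 6), (2, 4), (2, 10), (2, 12), (2, 18), (3, 4), (3, 6), (5, 6), (2, 3), (2, 8), (2, 20), (4, 3), (4, 6)]

private def small : List ℕ :=
  [3, 4, 5, 6, 7, 8, 9, 10, 11, 12, 13, 14, 15, 16, 17, 18, 19, 20, 21, 22, 24, 26, 27, 28, 30, 32, 34, 36, 38, 40, 42, 48, 54, 60]

private theorem small_spec : ∀ n ∈ List.range 163, 3 ≤ n → Nat.totient n ≤ 18 → n ∈ small := by decide +kernel

private theorem table_cover : ∀ n ∈ small, ∀ q ∈ List.range 22, 2 ≤ q → q ^ Nat.totient n ≤ 4 * n * (3 * n + 1) →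
    (q, n) ∈ exc ∨ ∃ e ∈ table, e.1 = q ∧ e.2.1 = n := by decide +kernel

private theorem table_valid : ∀ e ∈ table, e.2.2 ∣ e.1 ^ e.2.1 - 1 ∧ 3 * e.2.1 + 1 ≤ e.2.2 ∧
    (∀ i ∈ List.range e.2.1, 1 ≤ i → Nat.gcd e.2.2 (e.1 ^ i - 1) = 1) := by
  decide +kernel

private def prim : List (ℕ × ℕ × ℕ) :=
  [(2, 6, 1), (2, 4, 5), (2, 10, 11), (2, 12, 13), (2, 18, 19), (3, 4, 5), (3, 6, 7), (5, 6, 7), (2, 3, 7),
   (2, 8, 17), (2, 20, 41), (4, 3, 7), (4, 6, 13)]

private theorem prim_cover : ∀ x ∈ exc, ∃ e ∈ prim, e.1 = x.1 ∧ e.2.1 = x.2 := by decide +kernel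

private theorem prim_valid : ∀ e ∈ prim, e.2.2 ≤ 2 * e.2.1 + 1 ∧ 0 < e.2.2 ∧
    (e.1 ^ e.2.1 - 1) ∣ e.2.2 * ((List.range e.2.1).map fun i => if i = 0 then 1 else e.1 ^ i - 1).prod := by
  decide +kernel

private theorem coprime_list (m : ℕ) : ∀ L : List ℕ, (∀ x ∈ L, Nat.Coprime m x) → Nat.Coprime m L.prod := by
  intro L
  induction L with
  | nil => intro _; simp
  | cons a L ih =>
    intro h
    rw [List.prod_cons]
    exact Nat.Coprime.mul_right (h a (by simp)) (ih fun x hx => h x (by simp [hx]))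


/-- Size of the primitive part of `q^e - 1`. For a prime power `q` and `e ≥ 3`, call a divisor of `q^e - 1` primitive when it is coprime to `q^i - 1` for every `1 ≤ i < e`; the primitive part is the largest primitive divisor. Apart from thirteen exceptional pairs, the primitive part is at least `3e + 1`: there is a primitive divisor `m ≥ 3e + 1` unless `(q, e)` is `(2, 6)` (where every primitive divisor is 1), one of `(2,4), (2,10), (2,12), (2,18), (3,4), (3,6), (5,6)` (where the primitive part is exactly `e + 1`), or one of `(2,3), (2,8), (2,20), (4,3), (4,6)` (where it is exactly `2e + 1`). The statement asserts the existence of a primitive divisor `m ≥ 3e + 1` outside the thirteen pairs, and that every primitive divisor is at most `2e + 1` for the thirteen pairs. -/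
theorem result (q e : ℕ) (hq : IsPrimePow q) (he : 3 ≤ e) :
    ((q, e) ∉ [(2, 6), (2, 4), (2, 10), (2, 12), (2, 18), (3, 4), (3, 6), (5, 6), (2, 3), (2, 8), (2, 20), (4, 3), (4, 6)] →
      ∃ m : ℕ, m ∣ q ^ e - 1 ∧ (∀ i : ℕ, 1 ≤ i → i < e → Nat.Coprime m (q ^ i - 1)) ∧ 3 * e + 1 ≤ m) ∧
    ((q, e) ∈ [(2, 6), (2, 4), (2, 10), (2, 12), (2, 18), (3, 4), (3, 6), (5, 6), (2, 3), (2, 8), (2, 20), (4, 3), (4, 6)] →
      ∀ m : ℕ, m ∣ q ^ e - 1 → (∀ i : ℕ, 1 ≤ i → i < e → Nat.Coprime m (q ^ i - 1)) → m ≤ 2 * e + 1) := by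
  refine ⟨fun hne => ?_, fun hmem m hm hco => ?_⟩
  · have hq2 := hq.two_le
    by_cases hl : 4 * e * (3 * e + 1) < q ^ e.totient
    · exact big hq2 he hl
    push Not at hl
    obtain ⟨c, hc⟩ := Nat.totient_even (show 2 < e by omega)
    have htp := Nat.totient_pos.2 (show 0 < e by omega)
    have hb := Recog.LargePPD.totient_bound e
    have h2t : 2 ^ e.totient ≤ q ^ e.totient := Nat.pow_le_pow_left hq2 _
    have h72 : 4 * e * (3 * e + 1) ≤ 16 * e ^ 2 := by nlinarith
    have ht : e.totient ≤ 18 := by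
      by_contra hlt
      have key : ∀ t : ℕ, 20 ≤ t → 72 * t ^ 3 < 2 ^ t := by
        intro t ht
        induction t, ht using Nat.le_induction with
        | base => norm_num
        | succ k hk ih =>
          rw [pow_succ 2 k]
          have : 20 * k ^ 2 ≤ k ^ 3 := by rw [pow_succ k 2, mul_comm 20]; exact Nat.mul_le_mul_left _ hk
          nlinarith
      have := key e.totient (by omega)
      nlinarith
    have he163 : e < 163 := by
      by_contra hlt
      have h7 : e.totient ^ 3 ≤ 18 ^ 3 := Nat.pow_le_pow_left ht 3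
      have h8 : 163 ^ 2 ≤ e ^ 2 := Nat.pow_le_pow_left (by omega) 2
      omega
    have hq22 : q < 22 := by
      by_contra hlt
      rcases Nat.lt_or_ge e.totient 3 with h | h
      · have e2 : e.totient = 2 := by omega
        rw [e2] at hb hl
        have : e < 7 := by nlinarith
        interval_cases e <;> nlinarith
      · have h7 : 22 ^ e.totient ≤ q ^ e.totient := Nat.pow_le_pow_left (by omega) _
        have h8 : 22 ^ 4 ≤ 22 ^ e.totient := Nat.pow_le_pow_right (by norm_num) (by omega)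
        rcases Nat.lt_or_ge e.totient 5 with h5 | h5
        · have e4 : e.totient = 4 := by omega
          rw [e4] at hb
          have : e < 20 := by nlinarith
          nlinarith
        · have h9 : 22 ^ 6 ≤ 22 ^ e.totient := Nat.pow_le_pow_right (by norm_num) (by omega)
          have h10 : e * (3 * e + 1) ≤ 162 * 487 := Nat.mul_le_mul (by omega) (by omega)
          rw [mul_assoc] at hl
          omega
    rcases table_cover e (small_spec e (List.mem_range.2 he163) he ht) q (List.mem_range.2 hq22) hq2 hl with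
      h | ⟨⟨a, b, m⟩, hmem, rfl, rfl⟩
    · exact absurd h hne
    · obtain ⟨v1, v2, v3⟩ := table_valid _ hmem
      exact ⟨m, v1, fun i hi hie => v3 i (List.mem_range.2 hie) hi, v2⟩
  · obtain ⟨⟨a, b, M⟩, hM, h1, h2⟩ := prim_cover _ hmem
    simp only at h1 h2
    subst h1 h2
    obtain ⟨v1, v2, v3⟩ := prim_valid _ hM
    refine le_trans (Nat.le_of_dvd v2 ?_) v1
    refine Nat.Coprime.dvd_of_dvd_mul_right (coprime_list m _ ?_) (hm.trans v3)
    intro x hx
    obtain ⟨i, hi, rfl⟩ := List.mem_map.1 hx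
    rcases Nat.eq_zero_or_pos i with rfl | hpos
    · simp
    · rw [if_neg (by omega)]
      exact hco i hpos (List.mem_range.1 hi)

end Cfsg.Agent.S4423
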