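import Cfsg.Statements.S4424
import Cfsg.Agent.Lib.Blocks.BFMatrix

set_option autoImplicit false
open Cfsg

namespace Cfsg.Agent.S4424

/-- Let χ be an irreducible character of the finite group G lying in the p-block B (relative to a maximal ideal M of the algebraic integers containing p), and let p^a be the p-part of the order of G. Then the class function that equals p^a · χ on the p-regular elements and vanishes on the p-singular elements is an integer combination of the irreducible characters in B: there are integers a_ψ, zero for ψ outside B, with that function equal to Σ a_ψ ψ. -/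
theorem result {G : Type*} [Group G] [Finite G] (p : ℕ) [Fact p.Prime] (M : Ideal Cfsg.AlgInt) (hM : Cfsg.IsPModular p M) (B : Set (Cfsg.IrrCharacter G)) (hB : Cfsg.IsPBlock M B) (χ : Cfsg.IrrCharacter G) (hχ : χ ∈ B) : ∃ a : Cfsg.IrrCharacter G → ℤ, (∀ ψ, ψ ∉ B → a ψ = 0) ∧ (fun x : G => if p ∣ orderOf x then (0 : ℂ) else ((p ^ (Nat.card G).factorization p : ℕ) : ℂ) * (χ : G → ℂ) x) = fun x => ∑ᶠ ψ : Cfsg.IrrCharacter G, (a ψ : ℂ) * (ψ : G → ℂ) x := by
  classical
  haveI := Fintype.ofFinite G
  haveI := Cfsg.Agent.Blocks.isPrime_of_modular hM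
  choose X hX using fun ψ => Cfsg.Agent.Blocks.exists_int_pow_mul_bfPair p χ ψ
  obtain ⟨he, hz⟩ := Cfsg.Agent.Blocks.pow_mul_regFun_eq (p := p) hM hB hχ
    (d := (Nat.card G).factorization p)
  refine ⟨X, fun ψ hψ => ?_, ?_⟩
  · have := hX ψ
    rw [hz ψ hψ, mul_zero] at this
    exact_mod_cast this.symm
  · funext x
    have := congrFun he x
    simp only [Pi.smul_apply, smul_eq_mul, Finset.sum_apply, hX] at this
    rw [finsum_eq_sum_of_fintype, ← this]
    simp only [Cfsg.Agent.Blocks.regFun]
    split_ifs <;> push_cast <;> ring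

end Cfsg.Agent.S4424
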