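import Cfsg.Statements.S4425
import Cfsg.Agent.Lib.Blocks.BFMatrix

set_option autoImplicit false
open Cfsg

namespace Cfsg.Agent.S4425

/-- Let χ be an irreducible character of the finite group G, p a prime, p^a the p-part of the order of G and p^b the p-part of the degree χ(1). Let χ̃ be the class function equal to p^a · χ on p-regular elements and zero on p-singular elements. Then p^(−b) · χ̃ is a generalized character of G, while p^(−(b+1)) · χ̃ is not. -/
theorem result {G : Type*} [Group G] [Finite G] (p : ℕ) [Fact p.Prime] (χ : Cfsg.IrrCharacter G) : Cfsg.IsGeneralizedCharacter G (fun x : G => if p ∣ orderOf x then (0 : ℂ) else ((p ^ ((Nat.card G).factorization p - (Cfsg.charDegree (χ : G → ℂ)).factorization p) : ℕ) : ℂ) * (χ : G → ℂ) x) ∧ ¬ Cfsg.IsGeneralizedCharacter G (fun x : G => if p ∣ orderOf x then (0 : ℂ) else ((p ^ (Nat.card G).factorization p : ℕ) : ℂ) / ((p ^ ((Cfsg.charDegree (χ : G → ℂ)).factorization p + 1) : ℕ)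 : ℂ) * (χ : G → ℂ) x) := by
  classical
  haveI := Fintype.ofFinite G
  obtain ⟨M, hM⟩ := Cfsg.Agent.ClassSum.exists_modular p (Fact.out : p.Prime)
  haveI := Cfsg.Agent.Blocks.isPrime_of_modular hM
  set B := Cfsg.blockOf M (χ : G → ℂ)
  have hB : Cfsg.IsPBlock M B := Cfsg.Agent.Blocks.isPBlock_blockOf χ
  have hχ : χ ∈ B := Cfsg.Agent.Blocks.self_mem_blockOf χ
  set a := (Nat.card G).factorization p
  set b := (Cfsg.charDegree (χ : G → ℂ)).factorization p
  set h := Cfsg.blockHeight p B (χ : G → ℂ)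
  set d := Cfsg.blockDefect p B
  have hba : b ≤ a := Cfsg.Agent.Blocks.factorization_deg_le χ
  have hha : h + a = d + b := Cfsg.Agent.Blocks.height_add hχ
  have hp0 : (p : ℂ) ≠ 0 := Nat.cast_ne_zero.mpr hM.1.ne_zero
  constructor
  · have hW : ∀ ψ : Cfsg.IrrCharacter G, ∃ W : ℤ,
        ((p ^ (a - b) : ℕ) : ℂ) * Cfsg.Agent.Blocks.bfPair p χ ψ = (W : ℂ) := by
      intro ψ
      obtain ⟨X, hX⟩ := Cfsg.Agent.Blocks.exists_int_bfPair hM hχ ψ
      obtain ⟨W, hW, -⟩ := Cfsg.Agent.Blocks.bfInt_valuation hM hχ ψ hX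
      refine ⟨W, mul_left_cancel₀ (pow_ne_zero h hp0) ?_⟩
      push_cast
      rw [← mul_assoc, ← pow_add, show h + (a - b) = d by omega, hX, hW]
      push_cast
      rfl
    choose W hW using hW
    rw [Cfsg.Agent.Blocks.regInd_mul_eq,
      Cfsg.Agent.CT.classFunction_eq_sum (Cfsg.Agent.Blocks.regFun_class (p := p) χ), Finset.smul_sum]
    refine Cfsg.Agent.CT.isGen_sum _ fun ψ _ => ?_
    rw [smul_smul, ← Cfsg.Agent.Blocks.bfPair, hW ψ]
    exact Cfsg.Agent.CT.isGen_zsmul _ (Cfsg.Agent.CT.isGen_of_isIrr ψ.2)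
  · intro hgen
    obtain ⟨ψ, hψ, h0⟩ := Cfsg.Agent.Blocks.exists_height_zero (p := p) hB
    obtain ⟨z, hz⟩ := Cfsg.Agent.CT.isGen_inner_int hgen (Cfsg.Agent.CT.isGen_of_isIrr ψ.2)
    rw [Cfsg.Agent.Blocks.classInner_regInd_mul, Nat.cast_pow, Nat.cast_pow] at hz
    obtain ⟨X, hX⟩ := Cfsg.Agent.Blocks.exists_int_bfPair hM hχ ψ
    obtain ⟨W, hW, hiff⟩ := Cfsg.Agent.Blocks.bfInt_valuation hM hχ ψ hX
    refine (hiff hB hψ).mp ⟨z, ?_⟩ h0
    have e : (W : ℂ) = (p : ℂ) * (z : ℂ) := by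
      apply mul_left_cancel₀ (pow_ne_zero h hp0)
      have hX' : (p : ℂ) ^ d * Cfsg.Agent.Blocks.bfPair p χ ψ = (p : ℂ) ^ h * (W : ℂ) := by
        rw [hX, hW]; push_cast; rfl
      rw [← hX', ← hz, ← mul_assoc, ← mul_assoc]
      congr 1
      field_simp
      rw [← pow_add, ← pow_succ, ← pow_add]
      congr 1
      omega
    exact_mod_cast e

end Cfsg.Agent.S4425
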