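import Cfsg.Statements.S4426
import Cfsg.Agent.Lib.Blocks.BFMatrix
import Mathlib.NumberTheory.Padics.PadicVal.Basic

set_option autoImplicit false
open Cfsg

namespace Cfsg.Agent.S4426

/-- Let χ be an irreducible character in the p-block B of the finite group G (relative to a maximal ideal M of the algebraic integers containing p), let p^a be the p-part of the order of G, and let χ̃ be the class function equal to p^a · χ on p-regular elements and zero elsewhere. For ξ ∈ B the inner product [χ̃, ξ] is an integer. The following are equivalent: (a) χ has height zero in B; (b) for some ξ ∈ B the integer [χ̃, ξ] is nonzero and the exact power of p dividing it equals the exact power of p dividing ξ(1); (c) the same holds for every ξ ∈ B. -/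
theorem result {G : Type*} [Group G] [Fintype G] (p : ℕ) [Fact p.Prime] (M : Ideal Cfsg.AlgInt) (hM : Cfsg.IsPModular p M) (B : Set (Cfsg.IrrCharacter G)) (hB : Cfsg.IsPBlock M B) (χ : Cfsg.IrrCharacter G) (hχ : χ ∈ B) : (Cfsg.blockHeight p B (χ : G → ℂ) = 0 ↔ ∃ ξ ∈ B, ∃ n : ℤ, Cfsg.classInner (fun x : G => if p ∣ orderOf x then (0 : ℂ) else ((p ^ (Nat.card G).factorization p : ℕ) : ℂ) * (χ : G → ℂ) x) (ξ : G → ℂ) = (n : ℂ) ∧ n ≠ 0 ∧ padicValInt p n = (Cfsg.charDegree (ξ : G → ℂ)).factorization p) ∧ (Cfsg.blockHeight p B (χ : G → ℂ) = 0 ↔ ∀ ξ ∈ B, ∃ n : ℤ, Cfsg.classInner (fun x : G => if p ∣ orderOf x then (0 : ℂ) else ((p ^ (Nat.card G).factorization p : ℕ) : ℂ) * (χ : G → ℂ) x) (ξ : G → ℂ) = (n : ℂ) ∧ n ≠ 0 ∧ padicValInt p n = (Cfsg.charDegree (ξ : G → ℂ)).factorization p) := by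
  classical
  haveI := Cfsg.Agent.Blocks.isPrime_of_modular hM
  set a := (Nat.card G).factorization p
  set d := Cfsg.blockDefect p B
  have hd : d ≤ a := Cfsg.Agent.Blocks.blockDefect_le p B
  have hp0 : (p : ℂ) ≠ 0 := Nat.cast_ne_zero.mpr hM.1.ne_zero
  have key : ∀ ξ ∈ B, ∃ n : ℤ, Cfsg.classInner (fun x : G => if p ∣ orderOf x then (0 : ℂ)
      else ((p ^ a : ℕ) : ℂ) * (χ : G → ℂ) x) (ξ : G → ℂ) = (n : ℂ) ∧
      ((n ≠ 0 ∧ padicValInt p n = (Cfsg.charDegree (ξ : G → ℂ)).factorization p) ↔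
        Cfsg.blockHeight p B (χ : G → ℂ) = 0) := by
    intro ξ hξ
    obtain ⟨X, hX⟩ := Cfsg.Agent.Blocks.exists_int_bfPair hM hξ χ
    obtain ⟨W, hW, hiff⟩ := Cfsg.Agent.Blocks.bfInt_valuation hM hξ χ hX
    set h := Cfsg.blockHeight p B (ξ : G → ℂ)
    set e := (Cfsg.charDegree (ξ : G → ℂ)).factorization p
    have hhe : h + a = d + e := Cfsg.Agent.Blocks.height_add hξ
    refine ⟨(p : ℤ) ^ e * W, ?_, ?_⟩
    · rw [Cfsg.Agent.Blocks.classInner_regInd_mul, Cfsg.Agent.Blocks.bfPair_symm]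
      apply mul_left_cancel₀ (pow_ne_zero d hp0)
      push_cast
      rw [mul_left_comm, hX, hW]
      push_cast
      rw [← mul_assoc, ← mul_assoc, ← pow_add, ← pow_add]
      congr 2
      omega
    · refine not_iff_not.mp (Iff.trans ?_ (hiff hB hχ))
      have hpz : (p : ℤ) ^ e ≠ 0 := pow_ne_zero _ (by exact_mod_cast hM.1.ne_zero)
      by_cases hW0 : W = 0
      · simp [hW0]
      · have hv : padicValInt p ((p : ℤ) ^ e * W) = e + padicValInt p W := by
          rw [padicValInt.mul hpz hW0, padicValInt, Int.natAbs_pow, Int.natAbs_natCast,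
            padicValNat.prime_pow]
        rw [hv]
        constructor
        · intro h
          by_contra hd'
          exact h ⟨mul_ne_zero hpz hW0, by simp [padicValInt.eq_zero_of_not_dvd hd']⟩
        · intro hdv h
          have h1 : 1 ≤ padicValInt p W := by
            have := (padicValInt_dvd_iff 1 W).mp (by simpa using hdv)
            exact this.resolve_left hW0
          omega
  refine ⟨⟨fun h0 => ?_, ?_⟩, ⟨fun h0 ξ hξ => ?_, fun hall => ?_⟩⟩
  · obtain ⟨n, hn, hiff⟩ := key χ hχ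
    exact ⟨χ, hχ, n, hn, hiff.mpr h0⟩
  · rintro ⟨ξ, hξ, n, hn, hn'⟩
    obtain ⟨m, hm, hiff⟩ := key ξ hξ
    obtain rfl : n = m := by exact_mod_cast hn.symm.trans hm
    exact hiff.mp hn'
  · obtain ⟨n, hn, hiff⟩ := key ξ hξ
    exact ⟨n, hn, hiff.mpr h0⟩
  · obtain ⟨n, hn, hn'⟩ := hall χ hχ
    obtain ⟨m, hm, hiff⟩ := key χ hχ
    obtain rfl : n = m := by exact_mod_cast hn.symm.trans hm
    exact hiff.mp hn'

end Cfsg.Agent.S4426
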