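import Cfsg.Statements.S4428
import Cfsg.Agent.Lib.Blocks.Subsection

set_option autoImplicit false
open Cfsg

namespace Cfsg.Agent.S4428

/-- Let χ be an irreducible character of height zero in the p-block B of the finite group G (relative to a maximal ideal M of the algebraic integers containing p). Let x be a p-element of G with centralizer C, and let b be a block of C that induces B. Form the class function ϑ(c) = χ(x c) on C and its b-part (the sum over ψ ∈ b of the inner product of ϑ with ψ, times ψ). Then the b-part of ϑ does not vanish identically on the p-regular elements of C. (Compare the second main Theorem, which gives vanishing when b does not induce B.) -/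
theorem result {G : Type*} [Group G] [Finite G] (p : ℕ) [Fact p.Prime] (M : Ideal Cfsg.AlgInt) (hM : Cfsg.IsPModular p M) (B : Set (Cfsg.IrrCharacter G)) (hB : Cfsg.IsPBlock M B) (χ : Cfsg.IrrCharacter G) (hχ : χ ∈ B) (h0 : Cfsg.blockHeight p B (χ : G → ℂ) = 0) (x : G) (hx : ∃ k : ℕ, orderOf x = p ^ k) (b : Set (Cfsg.IrrCharacter (Subgroup.centralizer ({x} : Set G)))) (hb : Cfsg.IsInducedBlock M (Subgroup.centralizer ({x} : Set G)) b B) : ∃ y : Subgroup.centralizer ({x} : Set G), ¬ p ∣ orderOf y ∧ Cfsg.blockPart b (fun c : Subgroup.centralizer ({x} : Set G) => (χ : G → ℂ) (x * (c : G))) y ≠ 0 := by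
  classical
  haveI := Cfsg.Agent.Blocks.isPrime_of_modular hM
  haveI := Cfsg.Agent.Blocks.charP_res (M := M) hM
  letI := Fintype.ofFinite G
  letI := Fintype.ofFinite (Subgroup.centralizer ({x} : Set G))
  obtain ⟨hbb, hBB, -⟩ := id hb
  by_contra hall
  push Not at hall
  obtain ⟨ξ, hξ, hξ0⟩ := Cfsg.Agent.Blocks.exists_height_zero (p := p) hbb
  -- the coefficient of the regular translate at `ξ` vanishes
  have hg : Cfsg.Agent.Blocks.gB p b χ ξ = 0 := by
    have e : Cfsg.Agent.Blocks.gB p b χ ξ = Cfsg.classInner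
        (∑ η', Cfsg.Agent.Blocks.secC b χ η' • Cfsg.Agent.Blocks.regFun p η') (ξ : _ → ℂ) := by
      rw [CT.classInner_sum_left]
      exact Finset.sum_congr rfl fun η' _ => (CT.classInner_smul_left _ _ _).symm
    have hz : ∑ η', Cfsg.Agent.Blocks.secC b χ η' • Cfsg.Agent.Blocks.regFun p η' = 0 := by
      funext c
      simp only [Finset.sum_apply, Pi.smul_apply, smul_eq_mul, Pi.zero_apply,
        Cfsg.Agent.Blocks.regFun]
      by_cases hc : p ∣ orderOf c
      · simp [hc]
      simp only [if_neg hc]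
      have h := hall c hc
      simp only [Cfsg.blockPart] at h
      rw [Subsingleton.elim (Fintype.ofFinite _)
        ‹Fintype (Subgroup.centralizer ({x} : Set G))›, Cfsg.Agent.Blocks.finsum_mem_irr] at h
      refine Eq.trans (Finset.sum_congr rfl fun η' _ => ?_) h
      by_cases h' : η' ∈ b
      · rw [if_pos h', Cfsg.Agent.Blocks.secC, if_pos h', Cfsg.Agent.Blocks.translate_eq,
          CT.classInner_sum_left, Finset.sum_eq_single η']
        · rw [CT.classInner_smul_left, CT.irr_inner_self η'.2, mul_one]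
        · intro η'' _ hne
          rw [CT.classInner_smul_left, CT.irr_inner_subtype, if_neg hne, mul_zero]
        · simp
      · rw [if_neg h', Cfsg.Agent.Blocks.secC, if_neg h', zero_mul]
    rw [e, hz]
    simp [Cfsg.classInner]
  -- roots of unity
  obtain ⟨j, hj⟩ := hx
  have hsC : Cfsg.Agent.Blocks.selfC x ^ p ^ j = 1 :=
    Subtype.ext (by simpa [Cfsg.Agent.Blocks.selfC] using (hj ▸ pow_orderOf_eq_one x : x ^ p ^ j = 1))
  have hom : ∀ η, Cfsg.Agent.Blocks.omC (y := x) η ^ p ^ j = 1 :=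
    fun η => (Cfsg.Agent.Blocks.omC_spec η).2 _ hsC
  have homi : ∀ η, IsIntegral ℤ (Cfsg.Agent.Blocks.omC (y := x) η) := fun η =>
    IsIntegral.of_pow (pow_pos (Fact.out : p.Prime).pos j) (by rw [hom]; exact isIntegral_one)
  let w : Cfsg.IrrCharacter (Subgroup.centralizer ({x} : Set G)) → Cfsg.Agent.Blocks.Loc M :=
    fun η => ⟨Cfsg.Agent.Blocks.omC η, Cfsg.Agent.Blocks.integral_mem_loc (homi η)⟩
  have hw : ∀ η, Cfsg.Agent.Blocks.red M (w η) = 1 := fun η =>
    Cfsg.Agent.Blocks.red_root_eq_one hM (Subtype.ext (by simpa [w] using hom η))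
  let m : Cfsg.IrrCharacter (Subgroup.centralizer ({x} : Set G)) → ℕ := fun η =>
    CT.mult (fun h : Subgroup.centralizer ({x} : Set G) => (χ : G → ℂ) h) (η : _ → ℂ)
  set n3 := Cfsg.charDegree (ξ : Subgroup.centralizer ({x} : Set G) → ℂ) /
    p ^ (Cfsg.charDegree (ξ : Subgroup.centralizer ({x} : Set G) → ℂ)).factorization p
  have hS : (n3 : Cfsg.Agent.Blocks.Loc M) *
      ∑ η, (m η : Cfsg.Agent.Blocks.Loc M) * (w η * Cfsg.Agent.Blocks.regS M p ξ η) = 0 := by
    apply Subtype.ext
    push_cast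
    have h := congrArg (fun z : ℂ => ((Nat.card (Subgroup.centralizer ({x} : Set G)) /
      p ^ (Nat.card (Subgroup.centralizer ({x} : Set G))).factorization p : ℕ) : ℂ) *
      ((p : ℂ) ^ Cfsg.blockDefect p b * z)) hg
    simp only [mul_zero, Cfsg.Agent.Blocks.gB, Finset.mul_sum] at h
    rw [Finset.mul_sum]
    refine Eq.trans (Finset.sum_congr rfl fun η _ => ?_) h
    have hloc := Cfsg.Agent.Blocks.bfPair_local (p := p) hM hξ η
    rw [hξ0, pow_zero, one_mul] at hloc
    rw [Cfsg.Agent.Blocks.secC, Cfsg.Agent.Blocks.bfPair_symm η ξ]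
    split_ifs with hη
    · linear_combination (-((m η : ℂ) * Cfsg.Agent.Blocks.omC η)) * hloc
    · rw [Cfsg.Agent.Blocks.regS_eq_zero hM
        (fun h' => hη ((Cfsg.Agent.Blocks.mem_block_iff hbb hξ).mpr h'))]
      simp
  have hS2 := congrArg (Cfsg.Agent.Blocks.red M) hS
  simp only [map_mul, map_sum, map_natCast, map_zero, hw, one_mul] at hS2
  have hn3 : (n3 : Cfsg.Agent.Blocks.Res M) ≠ 0 :=
    mt (CharP.cast_eq_zero_iff (Cfsg.Agent.Blocks.Res M) p _).mp
      (Nat.not_dvd_ordCompl (Fact.out : p.Prime) (Cfsg.Agent.Blocks.charDegree_pos ξ).ne')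
  refine (Cfsg.Agent.Blocks.red_regS_ne_zero_iff hM hB hχ hχ).mpr h0 ?_
  rw [Cfsg.Agent.Blocks.red_regS_induced hM hb hξ hχ]
  exact (mul_eq_zero.mp hS2).resolve_left hn3

end Cfsg.Agent.S4428
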