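import Cfsg.Statements.S4430
import Cfsg.Agent.Lib.Blocks.InducedSums
import Cfsg.Agent.Lib.Blocks.GaloisStable
import Cfsg.Agent.Lib.CT.Chief

set_option autoImplicit false
open Cfsg

namespace Cfsg.Agent.S4430

/-- Let H be a subgroup of the finite group G, b a block of H whose induced block B₀ in G is defined (relative to a maximal ideal M of the algebraic integers containing p), and ξ ∈ b. For a block B of G let n_B be the value at 1 of the B-part of the induced character ξ^G (a natural number: the sum over χ ∈ B of the multiplicity of χ in ξ^G times χ(1)). Then for B = B₀ the exact power of p dividing n_B equals the exact power of p dividing ξ^G(1), while for every other block B either n_B = 0 or n_B is divisible by a strictly higher power of p than ξ^G(1). -/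
theorem result {G : Type*} [Group G] [Fintype G] (p : ℕ) [Fact p.Prime] (M : Ideal Cfsg.AlgInt) (hM : Cfsg.IsPModular p M) (H : Subgroup G) [Fintype H] (b : Set (Cfsg.IrrCharacter H)) (B₀ : Set (Cfsg.IrrCharacter G)) (hind : Cfsg.IsInducedBlock M H b B₀) (ξ : Cfsg.IrrCharacter H) (hξ : ξ ∈ b) : (∃ n : ℕ, Cfsg.blockPart B₀ (Cfsg.indFun H (ξ : H → ℂ)) 1 = (n : ℂ) ∧ n ≠ 0 ∧ n.factorization p = (Cfsg.charDegree (Cfsg.indFun H (ξ : H → ℂ))).factorization p) ∧ ∀ B : Set (Cfsg.IrrCharacter G), Cfsg.IsPBlock M B → B ≠ B₀ → ∃ n : ℕ, Cfsg.blockPart B (Cfsg.indFun H (ξ : H → ℂ)) 1 = (n : ℂ) ∧ (n = 0 ∨ (Cfsg.charDegree (Cfsg.indFun H (ξ : H → ℂ))).factorization p < n.factorization p) := by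
  classical
  haveI := Blocks.isPrime_of_modular hM
  have hp := (Fact.out : p.Prime)
  obtain ⟨χ₀, hχ₀⟩ := Blocks.InducedSums.isPBlock_nonempty hind.2.1
  have hξc := CT.isCharacter_of_isIrr ξ.2
  have hIc := CT.isCharacter_indFun H hξc
  set D := Cfsg.charDegree (Cfsg.indFun H (ξ : H → ℂ)) with hD
  have hD1 : Cfsg.indFun H (ξ : H → ℂ) 1 = (D : ℂ) := CT.deg_eq hIc
  have hDpos : D ≠ 0 := by
    intro h0
    rw [h0, Nat.cast_zero, CT.indFun_one_eval] at hD1
    exact mul_ne_zero (Nat.cast_ne_zero.mpr Subgroup.index_ne_zero_of_finite) (CT.irr_one_ne_zero ξ.2) hD1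
  have main : ∀ B : Set (Cfsg.IrrCharacter G), Cfsg.IsPBlock M B → ∃ n : ℕ,
      Cfsg.blockPart B (Cfsg.indFun H (ξ : H → ℂ)) 1 = (n : ℂ) ∧
      Cfsg.MemLocalIdeal M ((n : ℂ) / (D : ℂ) - if χ₀ ∈ B then 1 else 0) := by
    intro B hB
    refine ⟨∑ η : Cfsg.IrrCharacter G, if η ∈ B then
      CT.mult (Cfsg.indFun H (ξ : H → ℂ)) η * CT.deg (η : G → ℂ) else 0, ?_, ?_⟩
    · rw [Cfsg.blockPart, Blocks.finsum_mem_irr, Nat.cast_sum]
      refine Finset.sum_congr (by ext; simp) fun η _ => ?_
      split_ifs with h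
      · rw [Nat.cast_mul, ← CT.mult_spec hIc (CT.isCharacter_of_isIrr η.2), ← CT.deg_eq (CT.isCharacter_of_isIrr η.2)]
        convert rfl using 3
      · simp
    · have h := Blocks.InducedSums.sum_sub_mem hind hξ hχ₀ (a := Cfsg.blockCoeff B)
        (Blocks.blockCoeff_mem_loc hB) (fun x y hxy => by
          simp only [Cfsg.blockCoeff, Blocks.finsum_mem_irr]
          congr 1
          refine Finset.sum_congr rfl fun η _ => ?_
          rw [CT.isClassFunction_isConj (CT.isClassFunction_of_isIrr η.2) hxy])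
      rw [Blocks.InducedSums.sum_blockCoeff (B := B) (fun h : H => (h : G)) (ξ : H → ℂ),
        Blocks.InducedSums.sum_blockCoeff (B := B) (fun g : G => g) (χ₀ : G → ℂ)] at h
      convert h using 2
      · rw [Nat.cast_sum, ← hD1, CT.indFun_one_eval, ← H.card_mul_index, Nat.cast_mul, Finset.mul_sum,
          Finset.sum_div, Finset.sum_div]
        refine Finset.sum_congr rfl fun η _ => ?_
        split_ifs with hη
        · rw [Nat.cast_mul, ← CT.mult_spec hIc (CT.isCharacter_of_isIrr η.2), ← CT.deg_eq (CT.isCharacter_of_isIrr η.2),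
            CT.frobenius_reciprocity H _ (CT.isClassFunction_of_isIrr η.2), Cfsg.classInner,
            show ∑ h : H, (starRingEnd ℂ) ((η : G → ℂ) (h : G)) * (ξ : H → ℂ) h =
              ∑ h : H, (ξ : H → ℂ) h * (starRingEnd ℂ) ((η : G → ℂ) (h : G)) from
              Finset.sum_congr rfl fun _ _ => mul_comm _ _]
          have h1 := CT.irr_one_ne_zero ξ.2
          have h2 : (Nat.card H : ℂ) ≠ 0 := CT.card_ne_zero
          have h3 : (H.index : ℂ) ≠ 0 := Nat.cast_ne_zero.mpr Subgroup.index_ne_zero_of_finite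
          field_simp
        · simp
      · rw [Finset.mul_sum, Finset.sum_div, Finset.sum_eq_single χ₀]
        · split_ifs with hη
          · rw [Finset.sum_congr rfl fun g _ => mul_comm ((starRingEnd ℂ) ((χ₀ : G → ℂ) g)) _,
              ← CT.classInner_self_eq_sum, CT.irr_inner_self χ₀.2, mul_one]
            have h1 := CT.irr_one_ne_zero χ₀.2
            have h2 : (Nat.card G : ℂ) ≠ 0 := CT.card_ne_zero
            field_simp
          · simp
        · intro η _ hne
          split_ifs
          · have h0 := CT.irr_inner_of_ne χ₀.2 η.2 (fun e => hne (Subtype.ext e).symm)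
            rw [Cfsg.classInner] at h0
            rw [Finset.sum_congr rfl fun g _ => mul_comm ((starRingEnd ℂ) ((η : G → ℂ) g)) _,
              (mul_eq_zero.mp h0).resolve_left (inv_ne_zero CT.card_ne_zero)]
            simp
          · simp
        · simp
  have key : ∀ z : ℤ, Cfsg.MemLocalIdeal M ((z : ℂ) / (D : ℂ)) → ((p : ℤ) ^ (D.factorization p + 1)) ∣ z := by
    intro z hz
    obtain ⟨i, D', hD', hDD⟩ := Nat.exists_eq_pow_mul_and_not_dvd hDpos p hp.ne_one
    have hv : D.factorization p = i := by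
      have hD'0 : D' ≠ 0 := fun h => hD' (h ▸ dvd_zero p)
      rw [hDD, Nat.factorization_mul (pow_ne_zero _ hp.ne_zero) hD'0,
        Finsupp.add_apply, hp.factorization_pow, Finsupp.single_eq_same,
        Nat.factorization_eq_zero_of_not_dvd hD', add_zero]
    rw [hv]
    have hDc : (D : ℂ) = (p : ℂ) ^ i * (D' : ℂ) := by rw [hDD]; push_cast; ring
    have hstep : ∀ j, j ≤ i + 1 → (p : ℤ) ^ j ∣ z := by
      intro j
      induction j with
      | zero => intro _; simp
      | succ j ih =>
        intro hj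
        obtain ⟨w, hw⟩ := ih (by omega)
        have hmem : Cfsg.MemLocalIdeal M ((w : ℤ) : ℂ) := by
          have h' := Blocks.memLocalIdeal_mul_left (M := M)
            (Subring.mul_mem _ (natCast_mem (Blocks.Loc M) (p ^ (i - j))) (natCast_mem (Blocks.Loc M) D')) hz
          convert h' using 1
          rw [hw, hDc, show (p : ℂ) ^ i = (p : ℂ) ^ j * (p : ℂ) ^ (i - j) by rw [← pow_add]; congr 1; omega]
          push_cast
          have h1 : (D' : ℂ) ≠ 0 := Nat.cast_ne_zero.mpr fun h => hD' (h ▸ dvd_zero p)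
          have h2 : (p : ℂ) ≠ 0 := Nat.cast_ne_zero.mpr hp.ne_zero
          field_simp
        obtain ⟨v, hv'⟩ := (Blocks.memLocalIdeal_intCast_iff hM w).mp hmem
        exact ⟨v, by rw [hw, hv', pow_succ]; ring⟩
    exact hstep _ le_rfl
  refine ⟨?_, fun B hB hne => ?_⟩
  · obtain ⟨n, hn, hmem⟩ := main B₀ hind.2.1
    rw [if_pos hχ₀] at hmem
    have h := key ((n : ℤ) - D) (by
      convert hmem using 2
      have : (D : ℂ) ≠ 0 := Nat.cast_ne_zero.mpr hDpos
      push_cast
      field_simp)
    refine ⟨n, hn, ?_, ?_⟩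
    · rintro rfl
      rw [Nat.cast_zero, zero_sub, dvd_neg] at h
      exact Nat.pow_succ_factorization_not_dvd hDpos hp (by exact_mod_cast h)
    · have hd : (p ^ D.factorization p : ℤ) ∣ n := by
        have h1 : (p ^ D.factorization p : ℤ) ∣ D := by exact_mod_cast Nat.ordProj_dvd D p
        have h2 := (pow_dvd_pow (p : ℤ) (Nat.le_succ (D.factorization p))).trans h
        simpa using dvd_add h2 h1
      have hnd : ¬ (p ^ (D.factorization p + 1) : ℤ) ∣ n := fun h3 => by
        refine Nat.pow_succ_factorization_not_dvd hDpos hp ?_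
        have h4 := dvd_sub h3 h
        rw [sub_sub_cancel] at h4
        exact_mod_cast h4
      have hn0 : n ≠ 0 := by
        rintro rfl
        exact hnd (by simp)
      refine le_antisymm ?_ ?_
      · by_contra hlt
        push Not at hlt
        refine hnd ?_
        exact_mod_cast (Nat.Prime.pow_dvd_iff_le_factorization hp hn0).mpr hlt
      · exact (Nat.Prime.pow_dvd_iff_le_factorization hp hn0).mp (by exact_mod_cast hd)
  · obtain ⟨n, hn, hmem⟩ := main B hB
    have hnot : χ₀ ∉ B := fun h =>
      hne ((Blocks.block_eq_blockOf hB h).trans (Blocks.block_eq_blockOf hind.2.1 hχ₀).symm)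
    rw [if_neg hnot, sub_zero] at hmem
    refine ⟨n, hn, ?_⟩
    rcases Nat.eq_zero_or_pos n with h0 | h0
    · exact Or.inl h0
    · refine Or.inr ((Nat.Prime.pow_dvd_iff_le_factorization hp h0.ne').mp ?_)
      exact_mod_cast key (n : ℤ) (by simpa using hmem)

end Cfsg.Agent.S4430
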