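import Cfsg.Statements.S4431
import Cfsg.Agent.Lib.Blocks.InducedSums
import Cfsg.Agent.Lib.Blocks.GaloisStable

set_option autoImplicit false
open Cfsg

namespace Cfsg.Agent.S4431

/-- Let H be a subgroup of the finite group G and b a block of H whose induced block B₀ in G is defined (relative to a maximal ideal M of the algebraic integers containing p). Let χ be an irreducible character of G, ψ ∈ b, and let η be the class function on H equal to p^a · χ on the p-regular elements of H and zero elsewhere, p^a being the p-part of the order of H. Then (a) if χ ∉ B₀, the number [η, ψ]/ψ(1) lies in the local ideal at M; (b) if χ ∈ B₀ has height zero, it does not. -/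
theorem result {G : Type*} [Group G] [Fintype G] (p : ℕ) [Fact p.Prime] (M : Ideal Cfsg.AlgInt) (hM : Cfsg.IsPModular p M) (H : Subgroup G) [Fintype H] (b : Set (Cfsg.IrrCharacter H)) (B₀ : Set (Cfsg.IrrCharacter G)) (hind : Cfsg.IsInducedBlock M H b B₀) (χ : Cfsg.IrrCharacter G) (ψ : Cfsg.IrrCharacter H) (hψ : ψ ∈ b) : (χ ∉ B₀ → Cfsg.MemLocalIdeal M (Cfsg.classInner (fun h : H => if p ∣ orderOf h then (0 : ℂ) else ((p ^ (Nat.card H).factorization p : ℕ) : ℂ) * (χ : G → ℂ) h) (ψ : H → ℂ) / (ψ : H → ℂ) 1)) ∧ (χ ∈ B₀ → Cfsg.blockHeight p B₀ (χ : G → ℂ) = 0 → ¬ Cfsg.MemLocalIdeal M (Cfsg.classInner (fun h : H => if p ∣ orderOf h then (0 : ℂ) else ((p ^ (Nat.card H).factorization p : ℕ) : ℂ) * (χ : G → ℂ) h) (ψ : H → ℂ) / (ψ : H → ℂ) 1)) := by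
  classical
  haveI := Blocks.isPrime_of_modular hM
  have hp := (Fact.out : p.Prime)
  obtain ⟨χ₀, hχ₀⟩ := Blocks.InducedSums.isPBlock_nonempty hind.2.1
  set a : G → ℂ := fun g => if p ∣ orderOf g then 0 else (starRingEnd ℂ) ((χ : G → ℂ) g) with ha
  have hmem : ∀ g, a g ∈ Blocks.Loc M := fun g => by
    simp only [ha]
    split_ifs
    · exact Subring.zero_mem _
    · exact Blocks.integral_mem_loc (CT.isIntegral_conj (Blocks.isIntegral_irr χ.2 g))
  have hcl : ∀ x y : G, IsConj x y → a x = a y := fun x y hxy => by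
    simp only [ha]
    rw [CT.isClassFunction_isConj (CT.isClassFunction_of_isIrr χ.2) hxy,
      show orderOf x = orderOf y from by
        obtain ⟨c, rfl⟩ := isConj_iff.mp hxy
        rw [← MulAut.conj_apply, MulEquiv.orderOf_eq]]
  have h := Blocks.InducedSums.sum_sub_mem hind hψ hχ₀ hmem hcl
  set Z := (∑ h : H, a h * (ψ : H → ℂ) h) / (ψ : H → ℂ) 1 with hZ
  have hR : (∑ g : G, a g * (χ₀ : G → ℂ) g) / (χ₀ : G → ℂ) 1 = (Blocks.regS M p χ₀ χ : ℂ) := by
    rw [div_eq_iff (CT.irr_one_ne_zero χ₀.2), mul_comm (Blocks.regS M p χ₀ χ : ℂ), Blocks.deg_mul_regS,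
      Blocks.regPair]
    refine Finset.sum_congr rfl fun g _ => ?_
    simp only [ha]
    split_ifs <;> ring
  rw [hR] at h
  set m := Nat.card H / p ^ (Nat.card H).factorization p with hm
  have hmp : ¬ p ∣ m := Nat.not_dvd_ordCompl hp Nat.card_pos.ne'
  have hm0 : m ≠ 0 := fun h0 => hmp (h0 ▸ dvd_zero p)
  have hmI : ¬ Cfsg.MemLocalIdeal M (m : ℂ) := fun hh => hmp ((Blocks.memLocalIdeal_natCast hM m).mp hh)
  have heq : Cfsg.classInner (fun h : H => if p ∣ orderOf h then (0 : ℂ) else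
      ((p ^ (Nat.card H).factorization p : ℕ) : ℂ) * (χ : G → ℂ) h) (ψ : H → ℂ) / (ψ : H → ℂ) 1 =
      (m : ℂ)⁻¹ * Z := by
    rw [Cfsg.classInner, hZ, show ((Nat.card H : ℕ) : ℂ) = ((p ^ (Nat.card H).factorization p : ℕ) : ℂ) * (m : ℂ) by
      rw [← Nat.cast_mul, hm, Nat.ordProj_mul_ordCompl_eq_self]]
    have e : ∑ h : H, (if p ∣ orderOf h then (0 : ℂ) else
        ((p ^ (Nat.card H).factorization p : ℕ) : ℂ) * (χ : G → ℂ) h) * (starRingEnd ℂ) ((ψ : H → ℂ) h) =
        ((p ^ (Nat.card H).factorization p : ℕ) : ℂ) * ∑ h : H, a h * (ψ : H → ℂ) h := by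
      rw [Finset.mul_sum]
      refine Fintype.sum_equiv (Equiv.inv H) _ _ fun h => ?_
      simp only [ha, Equiv.inv_apply, Subgroup.coe_inv, orderOf_inv, Subgroup.orderOf_coe]
      rw [CT.char_inv_eq_conj (CT.isCharacter_of_isIrr χ.2), CT.char_inv_eq_conj (CT.isCharacter_of_isIrr ψ.2),
        Complex.conj_conj]
      split_ifs <;> ring
    rw [e]
    have h1 : ((p ^ (Nat.card H).factorization p : ℕ) : ℂ) ≠ 0 := Nat.cast_ne_zero.mpr (pow_ne_zero _ hp.ne_zero)
    have h2 : (m : ℂ) ≠ 0 := Nat.cast_ne_zero.mpr hm0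
    field_simp
  rw [heq]
  have hinv := Blocks.inv_mem_loc (natCast_mem (Blocks.Loc M) m) hmI
  refine ⟨fun hχ => ?_, fun hχ hh0 hbad => ?_⟩
  · have h0 : Blocks.regS M p χ₀ χ = 0 := Blocks.regS_eq_zero hM fun hs =>
      hχ ((Blocks.mem_block_iff hind.2.1 hχ₀).mpr hs)
    rw [h0, ZeroMemClass.coe_zero, sub_zero] at h
    exact Blocks.memLocalIdeal_mul_left hinv h
  · have h1 : Cfsg.MemLocalIdeal M Z := by
      have := Blocks.memLocalIdeal_mul_left (natCast_mem (Blocks.Loc M) m) hbad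
      rwa [mul_inv_cancel_left₀ (Nat.cast_ne_zero.mpr hm0)] at this
    have h2 := Blocks.memLocalIdeal_sub h1 h
    rw [sub_sub_cancel] at h2
    exact (Blocks.red_regS_ne_zero_iff hM hind.2.1 hχ₀ hχ).mpr hh0 (Blocks.red_eq_zero_iff.mpr h2)

end Cfsg.Agent.S4431
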