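import Cfsg.Statements.S4442
import Cfsg.Agent.Lib.Blocks.DefectOne
open Cfsg.Agent Cfsg.Agent.Blocks
-- import your own Cfsg.Agent.* helpers here

set_option autoImplicit false
open Cfsg

namespace Cfsg.Agent.S4442

/-- Blocks of defect one. Let p be an odd prime and G a finite group whose Sylow p-subgroup P has order p; let C = C_G(P) and N = N_G(P), and fix a maximal ideal M of the algebraic integers containing p. Let B be a block of G with defect group P, b a block of C inducing B, and θ the member of b having P in its kernel (there is exactly one). Let T be the stabilizer of θ in N (the elements g ∈ N with θ(g c g⁻¹) = θ(c) for all c ∈ C) and e the index of C in T. Then e divides p − 1 and B contains exactly e + (p − 1)/e irreducible characters. Moreover B is the disjoint union of a set X of e characters and a set Y of (p − 1)/e characters such that, with f the index of C in N: every χ ∈ X has χ(1) ≡ ±(f/e)·θ(1) (mod p), there is one sign ε with ψ(1)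 ≡ ε f θ(1) (mod p) for all ψ ∈ Y, and all members of Y agree on the p-regular elements of G. -/
theorem result {G : Type*} [Group G] [Finite G] (p : ℕ) [Fact p.Prime] (M : Ideal Cfsg.AlgInt) (hM : Cfsg.IsPModular p M) (hodd : p ≠ 2) (P : Sylow p G) (hP : Nat.card P = p) (B : Set (Cfsg.IrrCharacter G)) (hB : Cfsg.IsPBlock M B) (hBP : Cfsg.IsDefectGroup p M B P) (b : Set (Cfsg.IrrCharacter (Subgroup.centralizer ((P : Subgroup G) : Set G)))) (hind : Cfsg.IsInducedBlock M (Subgroup.centralizer ((P : Subgroup G) : Set G)) b B) (θ : Cfsg.IrrCharacter (Subgroup.centralizer ((P : Subgroup G) : Set G))) (hθ : θ ∈ b) (hθP : ∀ x : Subgroup.centralizer ((P : Subgroup G) : Set G), (x : G) ∈ (P : Subgroup G) → (θ : Subgroup.centralizer ((P : Subgroup G) : Set G) → ℂ) x = (θ : Subgroup.centralizer ((P : Subgroup G) : Set G) → ℂ) 1) (T : Subgroup G) (hT : ∀ g : G, g ∈ T ↔ (g ∈ Subgroup.normalizer ((P : Subgroup G) : Set G) ∧ ∀ c c' : Subgroup.centralizer ((P : Subgroup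 G) : Set G), (c' : G) = g * c * g⁻¹ → (θ : Subgroup.centralizer ((P : Subgroup G) : Set G) → ℂ) c' = (θ : Subgroup.centralizer ((P : Subgroup G) : Set G) → ℂ) c)) (e f : ℕ) (he : (Subgroup.centralizer ((P : Subgroup G) : Set G)).relIndex T = e) (hf : (Subgroup.centralizer ((P : Subgroup G) : Set G)).relIndex (Subgroup.normalizer ((P : Subgroup G) : Set G)) = f) : e ∣ p - 1 ∧ Nat.card B = e + (p - 1) / e ∧ ∃ X Y : Set (Cfsg.IrrCharacter G), B = X ∪ Y ∧ Disjoint X Y ∧ Nat.card X = e ∧ Nat.card Y = (p - 1) / e ∧ (∀ χ ∈ X, (Cfsg.charDegree (χ : G → ℂ) : ℤ) ≡ ((f / e * Cfsg.charDegree (θ : Subgroup.centralizer ((P : Subgroup G) : Set G) → ℂ) : ℕ) : ℤ) [ZMOD p] ∨ (Cfsg.charDegree (χ : G → ℂ) : ℤ) ≡ -((f / e * Cfsg.charDegree (θ : Subgroup.centralizer ((P : Subgroup G) : Set G) → ℂ) : ℕ) : ℤ) [ZMOD p]) ∧ (∃ ε : ℤ, (ε = 1 ∨ ε = -1) ∧ ∀ ψ ∈ Y, (Cfsg.charDegree (ψ : G → ℂ) : ℤ) ≡ ε * ((f * Cfsg.charDegree (θ : Subgroup.centralizer ((P : Subgroup G) : Set G) → ℂ) :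 ℕ) : ℤ) [ZMOD p]) ∧ ∀ ψ ∈ Y, ∀ ψ' ∈ Y, ∀ g : G, ¬ p ∣ orderOf g → (ψ : G → ℂ) g = (ψ' : G → ℂ) g := by
  classical
  haveI := Fintype.ofFinite G
  haveI := hM.2.1.isPrime
  obtain ⟨S⟩ := D1.exists_setup P hP
  obtain ⟨e₀, X, Y, εX, ε, hst, hdvd, hXY, hdis, hXc, hYc, hX, hε, hY, hag, -⟩ :=
    D1.exists_structure S θ hθP hM hBP hind hθ
  have hTeq : T = (D1.stab S θ).map (D1.cN P).subtype := by
    ext g
    rw [hT, Subgroup.mem_map]
    constructor
    · rintro ⟨hg, hfix⟩
      exact ⟨⟨g, hg⟩, fun c => hfix c _ rfl, rfl⟩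
    · rintro ⟨n, hn, rfl⟩
      refine ⟨n.2, fun c c' hc => ?_⟩
      rw [show c' = S.cj n c from Subtype.ext hc]
      exact hn c
  have hCT : D1.cC P ≤ T := by
    rw [hTeq]
    exact fun c hc => ⟨⟨c, Subgroup.centralizer_le_normalizer _ hc⟩, D1.cC_le_stab S θ hc, rfl⟩
  have h1 := Subgroup.card_mul_index ((D1.cC P).subgroupOf T)
  rw [card_subgroupOf hCT, show ((D1.cC P).subgroupOf T).index = e from he,
    show Nat.card T = Nat.card (D1.stab S θ) by
      rw [hTeq, Subgroup.card_map_of_injective (D1.cN P).subtype_injective], hst] at h1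
  have hee : e = e₀ := Nat.eq_of_mul_eq_mul_left Nat.card_pos h1
  subst hee
  have h2 := Subgroup.card_mul_index ((D1.cC P).subgroupOf (D1.cN P))
  rw [card_subgroupOf (Subgroup.centralizer_le_normalizer _),
    show ((D1.cC P).subgroupOf (D1.cN P)).index = f from hf,
    ← Subgroup.card_mul_index (D1.stab S θ), hst, mul_assoc] at h2
  have hfe : f = e * (D1.stab S θ).index := Nat.eq_of_mul_eq_mul_left Nat.card_pos h2
  have he0 : 0 < e := Nat.pos_of_ne_zero fun h0 => by
    rw [h0, mul_zero] at hst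
    exact Nat.card_pos.ne' hst
  have hdiv : f / e = (D1.stab S θ).index := by rw [hfe, Nat.mul_div_cancel_left _ he0]
  refine ⟨hdvd, ?_, X, Y, hXY, hdis, hXc, hYc, fun χ hχ => ?_, ⟨ε, hε, fun ψ hψ => ?_⟩, hag⟩
  · rw [hXY, Nat.card_coe_set_eq, Set.ncard_union_eq hdis (Set.toFinite _) (Set.toFinite _),
      ← Nat.card_coe_set_eq, ← Nat.card_coe_set_eq, hXc, hYc]
  · obtain ⟨hs, hm, -⟩ := hX χ hχ
    rw [hdiv]
    rcases hs with h' | h' <;> rw [h'] at hm
    · left; simpa using hm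
    · right; simpa using hm
  · have := hY ψ hψ
    rwa [show (D1.stab S θ).index * e = f by rw [hfe, mul_comm]] at this

end Cfsg.Agent.S4442
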