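import Cfsg.Statements.S4444
import Cfsg.Agent.Lib.Glauberman.Corr
-- import your own Cfsg.Agent.* helpers here

set_option autoImplicit false
open Cfsg

namespace Cfsg.Agent.S4444

/-- The Glauberman correspondence for a p-group of operators. Inside a finite group Γ let S normalise G with the orders of G and S coprime, S a p-group, and let C = G ⊓ C(S) be the fixed points. Call an irreducible character χ of G S-invariant when χ(s g s⁻¹) = χ(g) for s ∈ S, g ∈ G. Then: (i) for every S-invariant χ there is exactly one irreducible character β of C whose multiplicity [χ_C, β] in the restriction of χ is not divisible by p; (ii) that multiplicity is ≡ 1 or ≡ −1 (mod p); (iii) distinct S-invariant χ give distinct β; (iv) every irreducible character of C arises in this way. So χ ↦ β is a bijection from the S-invariant irreducible characters of G onto the irreducible characters of C. -/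
theorem result {Γ : Type*} [Group Γ] [Fintype Γ] (G S : Subgroup Γ) [Fintype G] (hnorm : ∀ s ∈ S, ∀ g ∈ G, s * g * s⁻¹ ∈ G) (hcop : (Nat.card G).Coprime (Nat.card S)) (p : ℕ) (hp : p.Prime) (hS : IsPGroup p S) (C : Subgroup Γ) [Fintype C] (hC : C = G ⊓ Subgroup.centralizer (S : Set Γ)) (hCG : C ≤ G) : (∀ χ : Cfsg.IrrCharacter G, (∀ s ∈ S, ∀ g g' : G, (g' : Γ) = s * g * s⁻¹ → (χ : G → ℂ) g' = (χ : G → ℂ) g) → ∃! β : Cfsg.IrrCharacter C, ∃ m : ℕ, Cfsg.classInner (fun c : C => (χ : G → ℂ) ⟨c, hCG c.2⟩) (β : C → ℂ) = (m : ℂ) ∧ ¬ p ∣ m) ∧ (∀ χ : Cfsg.IrrCharacter G, (∀ s ∈ S, ∀ g g' : G, (g' : Γ) = s * g * s⁻¹ → (χ : G → ℂ) g' = (χ : G → ℂ) g) → ∀ β : Cfsg.IrrCharacter C, ∀ m : ℕ, Cfsg.classInner (fun c : C => (χ : G → ℂ) ⟨c, hCG c.2⟩) (β : C → ℂ) = (m : ℂ) → ¬ p ∣ m → ((m : ℤ) ≡ 1 [ZMOD p] ∨ (m : ℤ) ≡ -1 [ZMOD p])) ∧ (∀ χ χ' : Cfsg.IrrCharacter G, (∀ s ∈ S, ∀ g g' : G, (g' : Γ) = s * g * s⁻¹ → (χ : G → ℂ) g' = (χ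 : G → ℂ) g) → (∀ s ∈ S, ∀ g g' : G, (g' : Γ) = s * g * s⁻¹ → (χ' : G → ℂ) g' = (χ' : G → ℂ) g) → ∀ β : Cfsg.IrrCharacter C, ∀ m m' : ℕ, Cfsg.classInner (fun c : C => (χ : G → ℂ) ⟨c, hCG c.2⟩) (β : C → ℂ) = (m : ℂ) → ¬ p ∣ m → Cfsg.classInner (fun c : C => (χ' : G → ℂ) ⟨c, hCG c.2⟩) (β : C → ℂ) = (m' : ℂ) → ¬ p ∣ m' → χ = χ') ∧ (∀ β : Cfsg.IrrCharacter C, ∃ χ : Cfsg.IrrCharacter G, (∀ s ∈ S, ∀ g g' : G, (g' : Γ) = s * g * s⁻¹ → (χ : G → ℂ) g' = (χ : G → ℂ) g) ∧ ∃ m : ℕ, Cfsg.classInner (fun c : C => (χ : G → ℂ) ⟨c, hCG c.2⟩) (β : C → ℂ) = (m : ℂ) ∧ ¬ p ∣ m) := by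
  haveI := Fact.mk hp
  classical
  by_cases hpG : p ∣ Nat.card G
  · -- then `S` is trivial
    have hS1 : S = ⊥ := by
      rw [← Subgroup.card_eq_one]
      obtain ⟨n, hn⟩ := IsPGroup.iff_card.mp hS
      rcases Nat.eq_zero_or_pos n with h0 | h0
      · simpa [h0] using hn
      · exfalso
        have : p ∣ Nat.card S := by rw [hn]; exact dvd_pow_self p h0.ne'
        exact hp.not_dvd_one (hcop ▸ Nat.dvd_gcd hpG this)
    have hCG' : C = G := by
      rw [hC, hS1]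
      refine inf_eq_left.mpr fun g _ => Subgroup.mem_centralizer_iff.mpr fun s hs => ?_
      rw [SetLike.mem_coe, Subgroup.mem_bot] at hs
      simp [hs]
    subst hCG'
    have hone : ∀ χ β : Cfsg.IrrCharacter C, ∀ m : ℕ,
        Cfsg.classInner (fun c : C => (χ : C → ℂ) ⟨c, hCG c.2⟩) (β : C → ℂ) = (m : ℂ) →
          (¬ p ∣ m ↔ β = χ) ∧ (¬ p ∣ m → m = 1) := by
      intro χ β m h
      rw [show (fun c : C => (χ : C → ℂ) ⟨c, hCG c.2⟩) = (χ : C → ℂ) from rfl] at h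
      rw [CT.irr_inner_subtype χ β] at h
      by_cases e : χ = β
      · subst e
        rw [if_pos rfl] at h
        have : m = 1 := by exact_mod_cast h.symm
        subst this
        simp [hp.not_dvd_one, Nat.dvd_one, hp.ne_one]
      · rw [if_neg e] at h
        have : m = 0 := by exact_mod_cast h.symm
        subst this
        simp [Ne.symm e]
    have hex : ∀ χ β : Cfsg.IrrCharacter C, ∃ m : ℕ,
        Cfsg.classInner (fun c : C => (χ : C → ℂ) ⟨c, hCG c.2⟩) (β : C → ℂ) = (m : ℂ) := fun χ β =>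
      CT.classInner_character_nat (CT.isCharacter_of_isIrr χ.2) (CT.isCharacter_of_isIrr β.2)
    refine ⟨fun χ _ => ⟨χ, ?_, ?_⟩, fun χ _ β m h hm => ?_, fun χ χ' _ _ β m m' h hm h' hm' => ?_,
      fun β => ⟨β, ?_, ?_⟩⟩
    · obtain ⟨m, hm⟩ := hex χ χ
      refine ⟨m, ?_, (hone χ χ m hm).1.mpr rfl⟩
      convert hm
    · rintro β ⟨m, hm, hm'⟩
      exact (hone χ β m (by convert hm)).1.mp hm'
    · left
      rw [(hone χ β m (by convert h)).2 hm]
      rfl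
    · exact ((hone χ β m (by convert h)).1.mp hm).symm.trans ((hone χ' β m' (by convert h')).1.mp hm')
    · intro s hs g g' hg
      rw [hS1, Subgroup.mem_bot] at hs
      subst hs
      exact congrArg _ (Subtype.ext (by simpa using hg))
    · obtain ⟨m, hm⟩ := hex β β
      refine ⟨m, ?_, (hone β β m hm).1.mpr rfl⟩
      convert hm
  · -- the main case
    let φ : S →* MulAut G :=
      { toFun := fun s =>
          { toFun := fun g => ⟨s.1 * g.1 * s.1⁻¹, hnorm _ s.2 _ g.2⟩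
            invFun := fun g => ⟨s.1⁻¹ * g.1 * s.1⁻¹⁻¹, hnorm _ (inv_mem s.2) _ g.2⟩
            left_inv := fun g => Subtype.ext (by group)
            right_inv := fun g => Subtype.ext (by group)
            map_mul' := fun a b => Subtype.ext (by simp [mul_assoc]) }
        map_one' := MulEquiv.ext fun g => Subtype.ext (by simp)
        map_mul' := fun a b => MulEquiv.ext fun g => Subtype.ext (by simp [mul_assoc]) }
    let ι : C →* G := Subgroup.inclusion hCG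
    have hfix : ∀ g : G, g ∈ ι.range ↔ ∀ a, φ a g = g := by
      intro g
      constructor
      · rintro ⟨c, rfl⟩ a
        have hc : (c : Γ) ∈ Subgroup.centralizer (S : Set Γ) := by
          exact (hC.le c.2).2
        refine Subtype.ext ?_
        show (a : Γ) * c * (a : Γ)⁻¹ = c
        rw [Subgroup.mem_centralizer_iff.mp hc a a.2, mul_inv_cancel_right]
      · intro h
        have : (g : Γ) ∈ C := by
          rw [hC]
          refine ⟨g.2, Subgroup.mem_centralizer_iff.mpr fun s hs => ?_⟩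
          have := congrArg Subtype.val (h ⟨s, hs⟩)
          exact mul_inv_eq_iff_eq_mul.mp this
        exact ⟨⟨g, this⟩, rfl⟩
    have hinv : ∀ χ : Cfsg.IrrCharacter G,
        (∀ s ∈ S, ∀ g g' : G, (g' : Γ) = s * g * s⁻¹ → (χ : G → ℂ) g' = (χ : G → ℂ) g) ↔
          Glauberman.Inv φ (χ : G → ℂ) :=
      fun χ => ⟨fun h a g => h a.1 a.2 g (φ a g) rfl, fun h s hs g g' hg => by
        rw [show g' = φ ⟨s, hs⟩ g from Subtype.ext hg]; exact h _ _⟩
    obtain ⟨Φ, hΦ⟩ := Glauberman.corr (ι := ι) hS hpG (Subgroup.inclusion_injective hCG) hfix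
    have hex : ∀ (χ : Cfsg.IrrCharacter G) (β : Cfsg.IrrCharacter C), ∃ m : ℕ,
        Cfsg.classInner (fun c : C => (χ : G → ℂ) ⟨c, hCG c.2⟩) (β : C → ℂ) = (m : ℂ) := fun χ β =>
      CT.classInner_character_nat (CT.isCharacter_comp ι (CT.isCharacter_of_isIrr χ.2))
        (CT.isCharacter_of_isIrr β.2)
    refine ⟨fun χ hχ => ⟨Φ ⟨χ, (hinv χ).mp hχ⟩, ?_, ?_⟩, fun χ hχ β m h hm => ?_,
      fun χ χ' hχ hχ' β m m' h hm h' hm' => ?_, fun β => ⟨(Φ.symm β).1, (hinv _).mpr (Φ.symm β).2, ?_⟩⟩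
    · obtain ⟨m, hm⟩ := hex χ (Φ ⟨χ, (hinv χ).mp hχ⟩)
      exact ⟨m, hm, (hΦ ⟨χ, (hinv χ).mp hχ⟩ _ m hm).1.mpr rfl⟩
    · rintro β ⟨m, hm, hm'⟩
      exact (hΦ ⟨χ, (hinv χ).mp hχ⟩ β m hm).1.mp hm'
    · exact (hΦ ⟨χ, (hinv χ).mp hχ⟩ β m h).2 hm
    · have e1 := (hΦ ⟨χ, (hinv χ).mp hχ⟩ β m h).1.mp hm
      have e2 := (hΦ ⟨χ', (hinv χ').mp hχ'⟩ β m' h').1.mp hm'
      exact congrArg Subtype.val (Φ.injective (e1.symm.trans e2))
    · obtain ⟨m, hm⟩ := hex (Φ.symm β).1 β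
      exact ⟨m, hm, (hΦ (Φ.symm β) β m hm).1.mpr (Φ.apply_symm_apply β).symm⟩

end Cfsg.Agent.S4444
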