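import Cfsg.Statements.S4446
import Cfsg.Agent.Lib.CT.CanonicalCyclic

set_option autoImplicit false
open Cfsg

set_option linter.style.haveILetI false

namespace Cfsg.Agent.S4446

/-- Let the finite group Γ be generated by a normal subgroup G and a cyclic subgroup S of coprime orders, C = G ⊓ C(S), and let χ be an S-invariant irreducible character of G with canonical extension χ̂ to Γ (the extension whose determinantal order is coprime to the order of S). Then there are exactly one irreducible character β of C and one sign ε such that χ̂(c s) = ε β(c) for every c ∈ C and every generator s of S; this β is a constituent of the restriction of χ to C; distinct S-invariant χ give distinct β; and every irreducible character of C arises in this way. -/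
theorem result {Γ : Type*} [Group Γ] [Fintype Γ] (G S : Subgroup Γ) [Fintype G] (hnorm : ∀ s ∈ S, ∀ g ∈ G, s * g * s⁻¹ ∈ G) (hcop : (Nat.card G).Coprime (Nat.card S)) (htop : G ⊔ S = ⊤) (hcyc : IsCyclic S) (C : Subgroup Γ) [Fintype C] (hC : C = G ⊓ Subgroup.centralizer (S : Set Γ)) (hCG : C ≤ G) : (∀ (χ : Cfsg.IrrCharacter G) (χh : Cfsg.IrrCharacter Γ), (∀ s ∈ S, ∀ g g' : G, (g' : Γ) = s * g * s⁻¹ → (χ : G → ℂ) g' = (χ : G → ℂ) g) → (∀ g : G, (χh : Γ → ℂ) g = (χ : G → ℂ) g) → (Cfsg.detOrder (χh : Γ → ℂ)).Coprime (Nat.card S) → (∃! βε : Cfsg.IrrCharacter C × ℤ, (βε.2 = 1 ∨ βε.2 = -1) ∧ ∀ c : C, ∀ s : Γ, Subgroup.zpowers s = S → (χh : Γ → ℂ) ((c : Γ) * s) = (βε.2 : ℂ) * (βε.1 : C → ℂ) c) ∧ ∀ β : Cfsg.IrrCharacter C, ∀ ε : ℤ, (ε = 1 ∨ ε = -1) → (∀ c : C, ∀ s : Γ, Subgroup.zpowers s = S → (χh : Γ → ℂ) ((c : Γ) * s) = (ε : ℂ) * (β : C → ℂ) c) → Cfsg.classInner (fun c : C => (χ : G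 → ℂ) ⟨c, hCG c.2⟩) (β : C → ℂ) ≠ 0) ∧ (∀ (χ χ' : Cfsg.IrrCharacter G) (χh χh' : Cfsg.IrrCharacter Γ), (∀ s ∈ S, ∀ g g' : G, (g' : Γ) = s * g * s⁻¹ → (χ : G → ℂ) g' = (χ : G → ℂ) g) → (∀ s ∈ S, ∀ g g' : G, (g' : Γ) = s * g * s⁻¹ → (χ' : G → ℂ) g' = (χ' : G → ℂ) g) → (∀ g : G, (χh : Γ → ℂ) g = (χ : G → ℂ) g) → (∀ g : G, (χh' : Γ → ℂ) g = (χ' : G → ℂ) g) → (Cfsg.detOrder (χh : Γ → ℂ)).Coprime (Nat.card S) → (Cfsg.detOrder (χh' : Γ → ℂ)).Coprime (Nat.card S) → ∀ β : Cfsg.IrrCharacter C, ∀ ε ε' : ℤ, (ε = 1 ∨ ε = -1) → (ε' = 1 ∨ ε' = -1) → (∀ c : C, ∀ s : Γ, Subgroup.zpowers s = S → (χh : Γ → ℂ) ((c : Γ) * s) = (ε : ℂ) * (β : C → ℂ) c) → (∀ c : C, ∀ s : Γ, Subgroup.zpowers s = S → (χh' : Γ → ℂ) ((c : Γ) * s) = (ε' : ℂ) * (β : C → ℂ) c) → χ = χ') ∧ (∀ β : Cfsg.IrrCharacter C, ∃ (χ : Cfsg.IrrCharacter G) (χh : Cfsg.IrrCharacter Γ) (ε : ℤ), (∀ s ∈ S, ∀ g g' : G, (g' : Γ) = s * g * s⁻¹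 → (χ : G → ℂ) g' = (χ : G → ℂ) g) ∧ (∀ g : G, (χh : Γ → ℂ) g = (χ : G → ℂ) g) ∧ (Cfsg.detOrder (χh : Γ → ℂ)).Coprime (Nat.card S) ∧ (ε = 1 ∨ ε = -1) ∧ ∀ c : C, ∀ s : Γ, Subgroup.zpowers s = S → (χh : Γ → ℂ) ((c : Γ) * s) = (ε : ℂ) * (β : C → ℂ) c) := by
  classical
  haveI : G.Normal := by
    rw [← Subgroup.normalizer_eq_top_iff, eq_top_iff, ← htop]
    refine sup_le Subgroup.le_normalizer fun s hs => Subgroup.mem_normalizer_iff.mpr fun g => ?_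
    refine ⟨hnorm s hs g, fun h => ?_⟩
    have := hnorm s⁻¹ (inv_mem hs) _ h
    simpa [mul_assoc] using this
  obtain ⟨s₀, hs₀⟩ := (Subgroup.isCyclic_iff_exists_zpowers_eq_top S).mp hcyc
  have hex := fun (χ : Cfsg.IrrCharacter G) (χh : Cfsg.IrrCharacter Γ)
      (h : CanonCyc.IsCanon G S χ χh) => CanonCyc.exists_beta G S hcop htop C hC hs₀ h hCG
  -- uniqueness of the pair
  have huniq : ∀ {β β' : Cfsg.IrrCharacter C} {ε ε' : ℤ}, (ε = 1 ∨ ε = -1) → (ε' = 1 ∨ ε' = -1) →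
      (∀ c : C, (ε : ℂ) * (β : C → ℂ) c = (ε' : ℂ) * (β' : C → ℂ) c) → β = β' ∧ ε = ε' := by
    intro β β' ε ε' he he' h
    have hfun : (ε : ℂ) • (β : C → ℂ) = (ε' : ℂ) • (β' : C → ℂ) := funext h
    have h1 := congrArg (fun f => Cfsg.classInner f (β : C → ℂ)) hfun
    simp only [CT.classInner_smul_left, CT.irr_inner_self β.2, CT.irr_inner_subtype, mul_one] at h1
    by_cases hb : β' = β
    · subst hb
      rw [if_pos rfl, mul_one] at h1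
      exact ⟨rfl, by exact_mod_cast h1⟩
    · rw [if_neg hb, mul_zero] at h1
      rcases he with rfl | rfl <;> simp at h1
  have hinj : ∀ (χ χ' : Cfsg.IrrCharacter G) (χh χh' : Cfsg.IrrCharacter Γ),
      CanonCyc.IsCanon G S χ χh → CanonCyc.IsCanon G S χ' χh' →
      ∀ (β : Cfsg.IrrCharacter C) (ε ε' : ℤ), (ε = 1 ∨ ε = -1) → (ε' = 1 ∨ ε' = -1) →
      (∀ c : C, ∀ s : Γ, Subgroup.zpowers s = S →
        (χh : Γ → ℂ) ((c : Γ) * s) = (ε : ℂ) * (β : C → ℂ) c) →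
      (∀ c : C, ∀ s : Γ, Subgroup.zpowers s = S →
        (χh' : Γ → ℂ) ((c : Γ) * s) = (ε' : ℂ) * (β : C → ℂ) c) → χ = χ' := by
    intro χ χ' χh χh' h h' β ε ε' he he' hv hv'
    by_contra hne
    have h1 := CanonCyc.inner_values G S hcop htop C hC hs₀ h h'
    rw [if_neg hne,
      show (fun c : C => (χh : Γ → ℂ) ((c : Γ) * s₀)) = (ε : ℂ) • (β : C → ℂ) from
        funext fun c => hv c s₀ hs₀,
      show (fun c : C => (χh' : Γ → ℂ) ((c : Γ) * s₀)) = (ε' : ℂ) • (β : C → ℂ) from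
        funext fun c => hv' c s₀ hs₀,
      CT.classInner_smul_left, CT.classInner_smul_right, CT.irr_inner_self β.2] at h1
    rcases he with rfl | rfl <;> rcases he' with rfl | rfl <;> simp at h1
  refine ⟨fun χ χh hinv hext hdet => ?_, ?_, fun β => ?_⟩
  · obtain ⟨β, ε, hε, hv, hne⟩ := hex χ χh ⟨hext, hdet⟩
    refine ⟨⟨(β, ε), ⟨hε, hv⟩, ?_⟩, ?_⟩
    · rintro ⟨β', ε'⟩ ⟨hε', hv'⟩
      obtain ⟨rfl, rfl⟩ := huniq hε hε' fun c => (hv c s₀ hs₀).symm.trans (hv' c s₀ hs₀)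
      rfl
    · intro β' ε' hε' hv'
      obtain ⟨rfl, rfl⟩ := huniq hε hε' fun c => (hv c s₀ hs₀).symm.trans (hv' c s₀ hs₀)
      exact hne
  · intro χ χ' χh χh' _ _ hext hext' hdet hdet' β ε ε' hε hε' hv hv'
    exact hinj χ χ' χh χh' ⟨hext, hdet⟩ ⟨hext', hdet'⟩ β ε ε' hε hε' hv hv'
  · -- counting
    have hsolv : Group.IsSolvable S := by
      haveI := hcyc
      letI : CommGroup S := IsCyclic.commGroup
      infer_instance
    have hcard := Glauberman.card_inv_eq (Glauberman.conjAct G S hnorm) hsolv hcop.symm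
    rw [Nat.card_congr (Glauberman.compIrrEquiv
      (Glauberman.fixedPtsConjEquiv G S hnorm C hC).symm)] at hcard
    let X := {χ : Cfsg.IrrCharacter G //
      Glauberman.Inv (Glauberman.conjAct G S hnorm) (χ : G → ℂ)}
    have hX : ∀ χ : X, ∀ s ∈ S, ∀ g g' : G, (g' : Γ) = s * g * s⁻¹ →
        (χ.1 : G → ℂ) g' = (χ.1 : G → ℂ) g := fun χ =>
      (Glauberman.inv_conjAct_iff G S hnorm _).mpr χ.2
    choose χh hχh using fun χ : X => CanonCyc.exists_canon G S hcop htop χ.1 (hX χ)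
    choose b e he hv hne using fun χ : X => hex χ.1 (χh χ) (hχh χ)
    haveI := CT.irr_finite C
    haveI := CT.irr_finite G
    have hb : Function.Bijective b := by
      refine (Nat.bijective_iff_injective_and_card b).mpr ⟨fun χ χ' h => ?_, hcard⟩
      exact Subtype.ext (hinj χ.1 χ'.1 (χh χ) (χh χ') (hχh χ) (hχh χ') (b χ') (e χ) (e χ')
        (he χ) (he χ') (h ▸ hv χ) (hv χ'))
    obtain ⟨χ, rfl⟩ := hb.2 β
    exact ⟨χ.1, χh χ, e χ, hX χ, (hχh χ).1, (hχh χ).2, he χ, hv χ⟩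

end Cfsg.Agent.S4446
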