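import Cfsg.Statements.S4447
import Cfsg.Agent.Lib.Glauberman.Conj
import Cfsg.Agent.Lib.Glauberman.Constituent
-- import your own Cfsg.Agent.* helpers here

set_option autoImplicit false
open Cfsg

namespace Cfsg.Agent.S4447

/-- Inside a finite group Γ let S normalise G and also normalise a normal subgroup N of G, with the order of S coprime to the index of N in G and S or G/N solvable. Then for every S-invariant irreducible character χ of G, the restriction of χ to N has an S-invariant irreducible constituent. -/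
theorem result {Γ : Type*} [Group Γ] [Fintype Γ] (G S N : Subgroup Γ) [Fintype G] [Fintype N] (hnorm : ∀ s ∈ S, ∀ g ∈ G, s * g * s⁻¹ ∈ G) (hNG : N ≤ G) [hNn : (N.subgroupOf G).Normal] (hNS : ∀ s ∈ S, ∀ n ∈ N, s * n * s⁻¹ ∈ N) (hcop : (N.relIndex G).Coprime (Nat.card S)) (hsolv : Group.IsSolvable S ∨ Group.IsSolvable (G ⧸ N.subgroupOf G)) (χ : Cfsg.IrrCharacter G) (hinv : (∀ s ∈ S, ∀ g g' : G, (g' : Γ) = s * g * s⁻¹ → (χ : G → ℂ) g' = (χ : G → ℂ) g)) : ∃ θ : Cfsg.IrrCharacter N, Cfsg.classInner (fun n : N => (χ : G → ℂ) ⟨n, hNG n.2⟩) (θ : N → ℂ) ≠ 0 ∧ (∀ s ∈ S, ∀ g g' : N, (g' : Γ) = s * g * s⁻¹ → (θ : N → ℂ) g' = (θ : N → ℂ) g) := by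
  classical
  let e : N.subgroupOf G ≃* N := Subgroup.subgroupOfEquivOfLe hNG
  have hN : ∀ a, ∀ x ∈ N.subgroupOf G, Glauberman.conjAct G S hnorm a x ∈ N.subgroupOf G :=
    fun a x hx => hNS a.1 a.2 x.1 hx
  obtain ⟨θ', hθ, hne⟩ := Glauberman.exists_inv_below (Glauberman.conjAct G S hnorm)
    (N.subgroupOf G) hN hcop hsolv χ ((Glauberman.inv_conjAct_iff G S hnorm _).mp hinv)
  refine ⟨Glauberman.compIrr e.symm θ', ?_, ?_⟩
  · rw [← Glauberman.classInner_comp_equiv e.symm] at hne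
    exact hne
  · intro s hs g g' hg
    show (θ' : _ → ℂ) (e.symm g') = (θ' : _ → ℂ) (e.symm g)
    rw [show e.symm g' = Glauberman.resN _ _ hN ⟨s, hs⟩ (e.symm g) from
      Subtype.ext (Subtype.ext hg)]
    exact hθ _ _

end Cfsg.Agent.S4447
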