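import Cfsg.Statements.S4451
import Cfsg.Agent.Lib.CT.CanonicalCyclic
import Cfsg.Agent.Lib.CT.RelCorrBase
import Cfsg.Agent.Lib.Blocks.Knorr
import Cfsg.Agent.Lib.Blocks.RankTwoCount
import Mathlib.Algebra.CharP.Lemmas

set_option autoImplicit false
open Cfsg

namespace Cfsg.Agent.S4451

set_option linter.unusedSectionVars false
set_option linter.style.haveILetI false

open Cfsg.Agent

universe u

section Num

variable {ι : Type u} [Fintype ι] (N : ι → ℕ) (ω : ι → ℂ) {n : ℕ}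

/-- Frobenius on sums of roots of unity with integral values. -/
theorem frob (hn : 0 < n) (hω : ∀ i, ω i ^ n = 1) {p : ℕ} (hp : p.Prime) (k : ℕ) {a b : ℤ}
    (ha : (a : ℂ) = ∑ i, (N i : ℂ) * ω i ^ k) (hb : (b : ℂ) = ∑ i, (N i : ℂ) * ω i ^ (p * k)) :
    (p : ℤ) ∣ b - a := by
  obtain ⟨M, hM⟩ := Blocks.exists_isPModular hp
  haveI := Blocks.isPrime_of_modular hM
  haveI := Blocks.charP_res hM
  haveI : Fact p.Prime := ⟨hp⟩
  have hint : ∀ i, IsIntegral ℤ (ω i) := fun i =>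
    IsIntegral.of_pow hn (by rw [hω i]; exact isIntegral_one)
  let w : ι → Blocks.Loc M := fun i => Blocks.locInt (hint i)
  have key : ∀ (c : ℤ) (e : ℕ), (c : ℂ) = ∑ i, (N i : ℂ) * ω i ^ e →
      (c : Blocks.Res M) = ∑ i, (N i : Blocks.Res M) * Blocks.red M (w i) ^ e := by
    intro c e h
    have h1 : (c : Blocks.Loc M) = ∑ i, (N i : Blocks.Loc M) * w i ^ e := Subtype.ext (by
      push_cast
      exact h)
    rw [← map_intCast (Blocks.red M), h1, map_sum]
    exact Finset.sum_congr rfl fun i _ => by rw [map_mul, map_natCast, map_pow]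
  have h2 : (b : Blocks.Res M) = (a : Blocks.Res M) := by
    rw [key b _ hb]
    have h3 : frobenius (Blocks.Res M) p (a : Blocks.Res M) = (a : Blocks.Res M) := map_intCast _ _
    rw [key a _ ha, map_sum] at h3
    rw [key a _ ha, ← h3]
    refine Finset.sum_congr rfl fun i _ => ?_
    rw [map_mul, map_natCast, frobenius_def, ← pow_mul, mul_comm k p]
  rw [← CharP.intCast_eq_zero_iff (Blocks.Res M) p, Int.cast_sub, h2, sub_self]

/-- Twisted sums over a coset of a subgroup. -/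
theorem coset_dvd (hn : 0 < n) (hω : ∀ i, ω i ^ n = 1) {B : ℕ → ℤ}
    (hB : ∀ k, (B k : ℂ) = ∑ i, (N i : ℂ) * ω i ^ k) {d q : ℕ} (hdq : d * q = n) (v : ℕ)
    {ζ : ℂ} (hζ : ζ ^ d = 1) {m : ℤ}
    (hm : (m : ℂ) = ∑ k ∈ Finset.range d, (B (v + k * q) : ℂ) * ζ ^ k) : (d : ℤ) ∣ m := by
  classical
  have hd : d ≠ 0 := by
    rintro rfl
    simp [← hdq] at hn
  refine Blocks.dvd_of_mul_eq_intCast hd
    (a := ∑ i, if ω i ^ q * ζ = 1 then (N i : ℂ) * ω i ^ v else 0) ?_ ?_
  · refine IsIntegral.sum _ fun i _ => ?_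
    split_ifs
    · exact (CT.isIntegral_natCast _).mul
        ((IsIntegral.of_pow hn (by rw [hω i]; exact isIntegral_one)).pow v)
    · exact isIntegral_zero
  · rw [hm, Finset.mul_sum]
    simp only [hB, Finset.sum_mul]
    rw [Finset.sum_comm]
    refine Finset.sum_congr rfl fun i _ => ?_
    have e : ∀ k, (N i : ℂ) * ω i ^ (v + k * q) * ζ ^ k = (N i : ℂ) * ω i ^ v * (ω i ^ q * ζ) ^ k := by
      intro k
      rw [pow_add, mul_comm k q, pow_mul, mul_pow]
      ring
    rw [Finset.sum_congr rfl fun k _ => e k, ← Finset.mul_sum]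
    split_ifs with h
    · simp only [h, one_pow, Finset.sum_const, Finset.card_range, nsmul_eq_mul, mul_one]
      ring
    · rw [geom_sum_eq h, mul_pow, ← pow_mul, mul_comm q d, hdq, hω i, hζ]
      simp

end Num

section TwoPart

/-- The values at even exponents. -/
theorem even_const {n r m : ℕ} (hnm : n = 2 ^ r * m) (hm : ¬ 2 ∣ m) (A : ℕ → ℤ)
    (hsign : ∀ i, ¬ n ∣ i → A i = 1 ∨ A i = -1) (hper : ∀ i, A (i + n) = A i)
    (hodd : ∀ o k, ¬ 2 ∣ o → ¬ n ∣ o * k → A (o * k) = A k)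
    (hcos : ∀ (d q : ℕ), d * q = n → ∀ (v : ℕ) (ζ : ℂ), ζ ^ d = 1 → ∀ z : ℤ,
      (z : ℂ) = ∑ k ∈ Finset.range d, (A (v + k * q) : ℂ) * ζ ^ k → (d : ℤ) ∣ z)
    (hr : 1 ≤ r) {i : ℕ} (hi : 2 ∣ i) (hni : ¬ n ∣ i) : A i = A 2 := by
  classical
  have hn : 0 < n := Nat.pos_of_ne_zero (by
    rintro rfl
    exact hni (by
      rcases Nat.mul_eq_zero.mp hnm.symm with h | h
      · exact absurd h (pow_ne_zero r two_ne_zero)
      · exact absurd (h ▸ dvd_zero 2) hm))
  set L := A (2 ^ (r - 1)) with hL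
  have hnd : ∀ j o : ℕ, j < r → ¬ 2 ∣ o → ¬ n ∣ 2 ^ j * o := by
    intro j o hj ho h
    have h1 : 2 ^ r ∣ 2 ^ j * o := (Dvd.intro m hnm.symm).trans h
    obtain ⟨t, ht⟩ := Nat.exists_eq_add_of_lt hj
    rw [ht, show j + t + 1 = j + (t + 1) from by omega, pow_add] at h1
    have := Nat.dvd_of_mul_dvd_mul_left (pow_pos two_pos j) h1
    exact ho ((dvd_pow_self 2 (by omega)).trans this)
  have hval : ∀ j o : ℕ, j < r → ¬ 2 ∣ o → A (2 ^ j * o) = A (2 ^ j) := by
    intro j o hj ho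
    rw [mul_comm]
    exact hodd o _ ho (by rw [mul_comm]; exact hnd j o hj ho)
  have hsplit : ∀ (f : ℕ → ℤ) (K : ℕ), ∑ k ∈ Finset.range (2 * K), f k =
      ∑ k ∈ Finset.range K, f (2 * k) + ∑ k ∈ Finset.range K, f (2 * k + 1) := by
    intro f K
    induction K with
    | zero => simp
    | succ K ih =>
      rw [show 2 * (K + 1) = 2 * K + 1 + 1 from by ring, Finset.sum_range_succ,
        Finset.sum_range_succ, Finset.sum_range_succ, Finset.sum_range_succ, ih]
      ring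
  -- the faithful character of the 2-part
  have hfaith : ∀ t : ℕ, (2 : ℤ) ^ r ∣ A (2 ^ r * t) - L := by
    intro t
    set h := 2 ^ (r - 1) with hh
    have h2 : 2 ^ r = 2 * h := by rw [hh, ← pow_succ', show r - 1 + 1 = r from by omega]
    obtain ⟨ζ, hζ⟩ : ∃ ζ : ℂ, IsPrimitiveRoot ζ (2 ^ r) :=
      ⟨_, Complex.isPrimitiveRoot_exp _ (pow_ne_zero r two_ne_zero)⟩
    have hhalf : ζ ^ h = -1 := by
      have h3 : IsPrimitiveRoot (ζ ^ h) 2 := hζ.pow (pow_pos two_pos r) (by rw [h2, mul_comm])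
      exact h3.eq_neg_one_of_two_right
    have hz : (2 : ℕ) ^ r * m = n := hnm.symm
    have hd := hcos (2 ^ r) m hz (2 ^ r * t) ζ hζ.pow_eq_one (A (2 ^ r * t) - L) ?_
    · exact_mod_cast hd
    have hhn : h = 2 ^ (r - 1) := hh
    have hpair : ∀ k, k < h → k ≠ 0 →
        A (2 ^ r * t + (h + k) * m) = A (2 ^ r * t + k * m) := by
      intro k hk hk0
      obtain ⟨j, o, ho, hko⟩ := Nat.exists_eq_pow_mul_and_not_dvd hk0 2 (by omega)
      have hj : j < r - 1 := by
        by_contra hcon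
        have : h ≤ k := by
          rw [hhn, hko]
          exact le_trans (Nat.pow_le_pow_right two_pos (by omega))
            (Nat.le_mul_of_pos_right _ (Nat.pos_of_ne_zero (by rintro rfl; simp at ho)))
        omega
      obtain ⟨s, hs⟩ : ∃ s, r = j + 1 + (s + 1) := ⟨r - j - 2, by omega⟩
      have e1 : 2 ^ r * t + k * m = 2 ^ j * (2 * 2 ^ (s + 1) * t + o * m) := by
        rw [hko, hs, pow_add, pow_succ]; ring
      have e2 : 2 ^ r * t + (h + k) * m =
          2 ^ j * (2 * 2 ^ (s + 1) * t + 2 * 2 ^ s * m + o * m) := by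
        rw [hhn, hko, show r - 1 = j + 1 + s from by omega, hs, pow_add, pow_add, pow_succ]; ring
      have hom : ¬ 2 ∣ o * m := fun h' => (Nat.prime_two.dvd_mul.mp h').elim ho hm
      have ho1 : ¬ 2 ∣ 2 * 2 ^ (s + 1) * t + o * m := fun h' =>
        hom ((Nat.dvd_add_iff_right ((dvd_mul_right _ _).mul_right _)).mpr h')
      have ho2 : ¬ 2 ∣ 2 * 2 ^ (s + 1) * t + 2 * 2 ^ s * m + o * m := fun h' =>
        hom ((Nat.dvd_add_iff_right (dvd_add ((dvd_mul_right _ _).mul_right _)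
          ((dvd_mul_right _ _).mul_right _))).mpr h')
      rw [e1, e2, hval j _ (by omega) ho1, hval j _ (by omega) ho2]
    have hmid : A (2 ^ r * t + h * m) = L := by
      have e1 : 2 ^ r * t + h * m = 2 ^ (r - 1) * (2 * t + m) := by rw [h2, hhn]; ring
      rw [e1, hval (r - 1) _ (by omega) fun h' => hm ((Nat.dvd_add_iff_right ⟨t, rfl⟩).mpr h')]
    have hpos : 0 < h := by rw [hhn]; positivity
    rw [h2, two_mul h, Finset.sum_range_add, ← Finset.sum_add_distrib,
      Finset.sum_eq_single 0]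
    · simp only [zero_mul, add_zero, pow_zero, mul_one, hhalf]
      rw [← two_mul, ← h2, hmid]
      push_cast
      ring
    · intro k hk hk0
      rw [← two_mul, ← h2, hpair k (Finset.mem_range.mp hk) hk0, pow_add, hhalf]
      ring
    · intro h0
      exact absurd (Finset.mem_range.mpr hpos) h0
  -- the sums over the subgroups of the 2-part
  have hlev : ∀ e, e + 1 ≤ r →
      ∑ k ∈ Finset.range (2 ^ e), A (k * (m * 2 ^ (r - e))) = A 0 + ((2 : ℤ) ^ e - 1) * L ∧
      ∀ j, r - e ≤ j → j < r → A (2 ^ j) = L := by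
    intro e
    induction e with
    | zero => intro _; exact ⟨by simp, fun j h1 h2 => by omega⟩
    | succ e ih =>
      intro he
      obtain ⟨hT, hlow⟩ := ih (by omega)
      obtain ⟨s, hs⟩ : ∃ s, r = s + 2 + e := ⟨r - 2 - e, by omega⟩
      have step : ∀ e' s', r = s' + 1 + e' → ∑ k ∈ Finset.range (2 ^ (e' + 1)),
          A (k * (m * 2 ^ (r - (e' + 1)))) =
          ∑ k ∈ Finset.range (2 ^ e'), A (k * (m * 2 ^ (r - e'))) + (2 : ℤ) ^ e' * A (2 ^ s') := by
        intro e' s' hs'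
        rw [pow_succ', hsplit]
        congr 1
        · refine Finset.sum_congr rfl fun k _ => congrArg A ?_
          rw [show r - e' = r - (e' + 1) + 1 from by omega, pow_succ]
          ring
        · have : ∀ k ∈ Finset.range (2 ^ e'),
              A ((2 * k + 1) * (m * 2 ^ (r - (e' + 1)))) = A (2 ^ s') := by
            intro k _
            rw [show r - (e' + 1) = s' from by omega,
              show (2 * k + 1) * (m * 2 ^ s') = 2 ^ s' * ((2 * k + 1) * m) from by ring]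
            exact hval s' _ (by omega) fun h' => (Nat.prime_two.dvd_mul.mp h').elim (by omega) hm
          rw [Finset.sum_congr rfl this, Finset.sum_const, Finset.card_range, nsmul_eq_mul]
          push_cast
          ring
      have hd := hcos (2 ^ (e + 2)) (m * 2 ^ s)
        (by rw [hnm, hs, show s + 2 + e = s + (e + 2) from by omega, pow_add]; ring) 0 1 (one_pow _)
        (∑ k ∈ Finset.range (2 ^ (e + 2)), A (k * (m * 2 ^ (r - (e + 2)))))
        (by rw [show r - (e + 2) = s from by omega]; push_cast; simp)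
      rw [step (e + 1) s (by omega), step e (s + 1) (by omega), hT] at hd
      have hf : (2 : ℤ) ^ (e + 2) ∣ A 0 - L :=
        (pow_dvd_pow 2 (by omega)).trans (by simpa using hfaith 0)
      have h3 : (2 : ℤ) ^ e * 4 ∣ (2 : ℤ) ^ e * (L + A (2 ^ (s + 1)) + 2 * A (2 ^ s)) := by
        rw [show (2 : ℤ) ^ e * 4 = 2 ^ (e + 2) from by ring]
        push_cast at hd
        have h4 := dvd_sub hd hf
        rwa [show A 0 + ((2 : ℤ) ^ e - 1) * L + (2 : ℤ) ^ e * A (2 ^ (s + 1)) +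
            (2 : ℤ) ^ (e + 1) * A (2 ^ s) - (A 0 - L) =
          (2 : ℤ) ^ e * (L + A (2 ^ (s + 1)) + 2 * A (2 ^ s)) from by ring] at h4
      have h5 := (mul_dvd_mul_iff_left (pow_ne_zero e (two_ne_zero (α := ℤ)))).mp h3
      have hw : A (2 ^ (s + 1)) = L := by
        have h6 := hsign (2 ^ (s + 1)) (by simpa using hnd (s + 1) 1 (by omega) (by omega))
        have h7 := hsign (2 ^ s) (by simpa using hnd s 1 (by omega) (by omega))
        have h8 := hsign (2 ^ (r - 1)) (by simpa using hnd (r - 1) 1 (by omega) (by omega))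
        rw [← hL] at h8
        rcases h6 with h6 | h6 <;> rcases h7 with h7 | h7 <;> rcases h8 with h8 | h8 <;>
          rw [h6, h7, h8] at h5 <;> first | omega | norm_num at h5
      refine ⟨?_, fun j h1 h2 => ?_⟩
      · rw [step e (s + 1) (by omega), hT, hw]
        ring
      · by_cases hje : r - e ≤ j
        · exact hlow j hje h2
        · rw [show j = s + 1 from by omega, hw]
  have hmain : ∀ j, 1 ≤ j → j < r → A (2 ^ j) = L := fun j h1 h2 =>
    (hlev (r - j) (by omega)).2 j (by omega) h2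
  -- multiples of 2 ^ r
  have htop : ¬ n ∣ 2 ^ r → 2 ≤ r → A (2 ^ r) = L := by
    intro hn2 hr2
    have h := (pow_dvd_pow (2 : ℤ) hr2).trans (hfaith 1)
    rw [mul_one] at h
    rcases hsign _ hn2 with h1 | h1 <;>
      rcases hsign (2 ^ (r - 1)) (by simpa using hnd (r - 1) 1 (by omega) (by omega)) with h2 | h2 <;>
      rw [← hL] at h2 <;> rw [h1, h2] at h <;> first | omega | norm_num at h
  have hbig : 2 ^ r ∣ i → A i = A (2 ^ r) := by
    rintro ⟨k, rfl⟩
    rcases Nat.even_or_odd k with hk | hk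
    · rw [← hper, show 2 ^ r * k + n = 2 ^ r * (k + m) from by rw [hnm]; ring, mul_comm]
      refine hodd _ _ (fun h' => hm ((Nat.dvd_add_iff_right hk.two_dvd).mpr h')) ?_
      rw [mul_comm, mul_add, ← hnm]
      exact fun h' => hni ((Nat.dvd_add_iff_left (dvd_refl n)).mpr h')
    · rw [mul_comm]
      exact hodd _ _ hk.not_two_dvd_nat (by rw [mul_comm]; exact hni)
  obtain ⟨j, o, ho, hjo⟩ := Nat.exists_eq_pow_mul_and_not_dvd
    (show i ≠ 0 from fun h => hni (h ▸ dvd_zero n)) 2 (by omega)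
  have hj : 1 ≤ j := by
    by_contra hcon
    rw [show j = 0 from by omega, pow_zero, one_mul] at hjo
    exact ho (hjo ▸ hi)
  by_cases hjr : j < r
  · rw [hjo, hval j o hjr ho, hmain j hj hjr]
    rw [← pow_one 2, hmain 1 le_rfl (by omega)]
  · have hdvd : 2 ^ r ∣ i := hjo ▸ (pow_dvd_pow 2 (not_lt.mp hjr)).mul_right o
    have hn2 : ¬ n ∣ 2 ^ r := fun h => hni (h.trans hdvd)
    rw [hbig hdvd]
    by_cases hr1 : r = 1
    · rw [hr1, pow_one]
    · rw [htop hn2 (by omega), ← pow_one 2, hmain 1 le_rfl (by omega)]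

end TwoPart

section Group

variable {Γ : Type u} [Group Γ] [Fintype Γ] (G : Subgroup Γ) [G.Normal] [Fintype G]
  (C : Subgroup Γ) [Fintype C]

/-- Values at one element of the operator group. -/
theorem values_at (hCG : C ≤ G) {x : Γ} (hcop : (Nat.card G).Coprime (orderOf x))
    (hC : ∀ g, g ∈ C ↔ g ∈ G ∧ Commute g x) (χ : Cfsg.IrrCharacter G) (χh : Cfsg.IrrCharacter Γ)
    (hext : ∀ g : G, (χh : Γ → ℂ) g = (χ : G → ℂ) g)
    (hdet : (Cfsg.detOrder (χh : Γ → ℂ)).Coprime (orderOf x)) :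
    ∃ (β : Cfsg.IrrCharacter C) (ε : ℤ), (ε = 1 ∨ ε = -1) ∧
      ∀ c : C, (χh : Γ → ℂ) ((c : Γ) * x) = (ε : ℂ) * (β : C → ℂ) c := by
  classical
  set H : Subgroup Γ := G ⊔ Subgroup.zpowers x with hH
  have hGH : G ≤ H := le_sup_left
  have hxH : x ∈ H := le_sup_right (a := G) (Subgroup.mem_zpowers x)
  let x' : H := ⟨x, hxH⟩
  let G' : Subgroup H := G.subgroupOf H
  let C' : Subgroup H := C.subgroupOf H
  haveI := Fintype.ofFinite H
  haveI := Fintype.ofFinite G'
  haveI := Fintype.ofFinite C'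
  let eG : G' ≃* G := Subgroup.subgroupOfEquivOfLe hGH
  let eC : C' ≃* C := Subgroup.subgroupOfEquivOfLe (hCG.trans hGH)
  let χ' : Cfsg.IrrCharacter G' := Glauberman.compIrr eG χ
  have hx' : orderOf x' = orderOf x := Subgroup.orderOf_mk x hxH
  have hcop' : (Nat.card G').Coprime (Nat.card (Subgroup.zpowers x')) := by
    rw [Nat.card_zpowers, hx', Nat.card_congr eG.toEquiv]
    exact hcop
  have htop' : G' ⊔ Subgroup.zpowers x' = ⊤ := by
    rw [eq_top_iff]
    rintro ⟨y, hy⟩ -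
    obtain ⟨g, hg, z, hz, rfl⟩ := Subgroup.mem_sup_of_normal_left.mp hy
    obtain ⟨k, rfl⟩ := Subgroup.mem_zpowers_iff.mp hz
    refine Subgroup.mem_sup_of_normal_left.mpr ⟨⟨g, hGH hg⟩, Subgroup.mem_subgroupOf.mpr hg,
      x' ^ k, zpow_mem (Subgroup.mem_zpowers x') k, Subtype.ext ?_⟩
    simp [x']
  have hres : Cfsg.IsIrrCharacter H fun y : H => (χh : Γ → ℂ) y := by
    obtain ⟨d, ρ, hρ⟩ := CT.isCharacter_of_isIrr χh.2
    haveI : (CoprimeExt.pullRep (CoprimeExt.pullRep ρ H.subtype) G'.subtype).IsIrreducible := by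
      refine CT.isIrreducible_of_isIrrCharacter _ ?_
      convert χ'.2 using 1
      funext g
      show ρ.character ((g : H) : Γ) = (χ : G → ℂ) (eG g)
      rw [hρ, ← hext]
      rfl
    haveI := CoprimeExt.irreducible_of_restrict G' (CoprimeExt.pullRep ρ H.subtype)
      (CoprimeExt.pullRep (CoprimeExt.pullRep ρ H.subtype) G'.subtype) fun g => rfl
    rw [show (fun y : H => (χh : Γ → ℂ) y) = (CoprimeExt.pullRep ρ H.subtype).character from
      funext fun y => by rw [← hρ]; rfl]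
    exact CT.isIrrCharacter_character _
  let χr : Cfsg.IrrCharacter H := ⟨_, hres⟩
  have hcanon : CanonCyc.IsCanon G' (Subgroup.zpowers x') χ' χr := by
    refine ⟨fun g => hext (eG g), ?_⟩
    rw [Nat.card_zpowers, hx']
    exact hdet.coprime_dvd_left
      (RelCorr.detOrder_comp_dvd H.subtype (CT.isCharacter_of_isIrr χh.2))
  have hC' : C' = G' ⊓ Subgroup.centralizer (Subgroup.zpowers x' : Set H) := by
    ext y
    rw [Subgroup.mem_inf, Subgroup.mem_subgroupOf, hC, Subgroup.mem_subgroupOf,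
      Subgroup.mem_centralizer_iff]
    refine and_congr Iff.rfl ⟨fun h z hz => ?_, fun h => ?_⟩
    · obtain ⟨k, rfl⟩ := Subgroup.mem_zpowers_iff.mp hz
      exact ((show Commute y x' from Subtype.ext h.eq).zpow_right k).eq.symm
    · exact (congrArg Subtype.val (h x' (Subgroup.mem_zpowers x'))).symm
  obtain ⟨β, ε, hε, hv, -⟩ := CanonCyc.exists_beta G' (Subgroup.zpowers x') hcop' htop' C' hC'
    rfl hcanon (hC'.le.trans inf_le_left)
  refine ⟨Glauberman.compIrr eC.symm β, ε, hε, fun c => ?_⟩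
  rw [Glauberman.compIrr_apply, ← hv (eC.symm c) x' rfl]
  rfl

variable (S : Subgroup Γ)

/-- The coefficient of an irreducible character along a cyclic operator group. -/
theorem exp_sum (hC : C ≤ Subgroup.centralizer (S : Set Γ)) {s₀ : Γ}
    (hs₀ : Subgroup.zpowers s₀ = S) (χh : Cfsg.IrrCharacter Γ) (β : Cfsg.IrrCharacter C) :
    ∃ (ι : Type u) (_ : Fintype ι) (N : ι → ℕ) (ω : ι → ℂ), (∀ i, ω i ^ Nat.card S = 1) ∧
      ∀ k : ℕ, Cfsg.classInner (fun c : C => (χh : Γ → ℂ) ((c : Γ) * s₀ ^ k)) (β : C → ℂ) =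
        ∑ i, (N i : ℂ) * ω i ^ k := by
  classical
  haveI := Fintype.ofFinite S
  have hs : s₀ ∈ S := hs₀ ▸ Subgroup.mem_zpowers s₀
  let φ : C × S →* Γ :=
    { toFun := fun a => (a.1 : Γ) * (a.2 : Γ)
      map_one' := by simp
      map_mul' := fun a b => by
        have hc : Commute (b.1 : Γ) (a.2 : Γ) :=
          (Subgroup.mem_centralizer_iff.mp (hC b.1.2) a.2 a.2.2).symm
        simp only [Prod.fst_mul, Prod.snd_mul, Subgroup.coe_mul]
        calc (a.1 : Γ) * b.1 * (a.2 * b.2) = a.1 * ((b.1 : Γ) * a.2) * b.2 := by group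
          _ = _ := by rw [hc.eq]; group }
  have hψ : Cfsg.IsCharacter (C × S) fun a => (χh : Γ → ℂ) (φ a) :=
    CT.isCharacter_comp φ (CT.isCharacter_of_isIrr χh.2)
  let z : C × S := (1, ⟨s₀, hs⟩)
  have hzc : z ∈ Subgroup.center (C × S) := by
    haveI : IsCyclic S := hs₀ ▸ inferInstance
    letI : CommGroup S := IsCyclic.commGroup
    exact Subgroup.mem_center_iff.mpr fun w => Prod.ext (by simp [z]) (mul_comm _ _)
  choose ω hω using fun ξ : Cfsg.IrrCharacter (C × S) => Blocks.exists_scalar_central ξ hzc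
  have hωp : ∀ (ξ : Cfsg.IrrCharacter (C × S)) (i : ℕ) (b : C × S),
      (ξ : C × S → ℂ) (z ^ i * b) = ω ξ ^ i * (ξ : C × S → ℂ) b := by
    intro ξ i b
    induction i generalizing b with
    | zero => simp
    | succ i ih => rw [pow_succ, mul_assoc, ih, hω, pow_succ, mul_assoc]
  have hres : ∀ ξ : Cfsg.IrrCharacter (C × S),
      Cfsg.IsCharacter C fun c => (ξ : C × S → ℂ) (c, 1) := fun ξ =>
    CT.isCharacter_comp (MonoidHom.inl C S) (CT.isCharacter_of_isIrr ξ.2)
  refine ⟨Cfsg.IrrCharacter (C × S), inferInstance, fun ξ =>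
    CT.mult (fun a => (χh : Γ → ℂ) (φ a)) (ξ : C × S → ℂ) *
      CT.mult (fun c => (ξ : C × S → ℂ) (c, 1)) (β : C → ℂ), ω, fun ξ => ?_, fun i => ?_⟩
  · have hz : z ^ Nat.card S = 1 :=
      Prod.ext (one_pow _) (pow_card_eq_one' (x := (⟨s₀, hs⟩ : S)))
    have := hωp ξ (Nat.card S) 1
    rw [hz, one_mul] at this
    exact (mul_eq_right₀ (CT.irr_one_ne_zero ξ.2)).mp this.symm
  · have e : (fun c : C => (χh : Γ → ℂ) ((c : Γ) * s₀ ^ i)) =
        ∑ ξ : Cfsg.IrrCharacter (C × S),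
          ((CT.mult (fun a => (χh : Γ → ℂ) (φ a)) (ξ : C × S → ℂ) : ℂ) * ω ξ ^ i) •
            fun c => (ξ : C × S → ℂ) (c, 1) := by
      funext c
      have h1 := congrFun (CT.character_eq_sum hψ) (z ^ i * (c, 1))
      rw [Finset.sum_apply] at h1 ⊢
      have e2 : φ (z ^ i * (c, 1)) = (c : Γ) * s₀ ^ i := by simp [φ, z]
      rw [e2] at h1
      rw [h1]
      refine Finset.sum_congr rfl fun ξ _ => ?_
      simp only [Pi.smul_apply, smul_eq_mul, hωp]
      ring
    rw [e, CT.classInner_sum_left]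
    refine Finset.sum_congr rfl fun ξ _ => ?_
    rw [CT.classInner_smul_left, CT.mult_spec (hres ξ) (CT.isCharacter_of_isIrr β.2)]
    push_cast
    ring

end Group


/-- Let the finite group Γ be generated by a normal subgroup G and a cyclic subgroup S of coprime orders such that every non-identity element of S has the same centraliser C = G ⊓ C(S) in G. Let χ be an S-invariant irreducible character of G, χ̂ its canonical extension to Γ (determinantal order coprime to the order of S), and β the irreducible character of C with χ̂(c s) = ε₀ β(c) for c ∈ C and generators s of S (ε₀ = ±1). Then there are a sign ε = ±1, which may differ from ε₀, and a linear character μ of S with μ² = 1, such that: (a) χ̂(c x) = ε β(c) μ(x) for all c ∈ C and all x ∈ S other than 1; (b) the restriction of χ to C equals |S|·ϑ + ε β for some character ϑ of C or ϑ = 0; (c) |S| divides χ(1) − ε β(1). -/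
theorem result {Γ : Type*} [Group Γ] [Fintype Γ] (G S : Subgroup Γ) [Fintype G] (hnorm : ∀ s ∈ S, ∀ g ∈ G, s * g * s⁻¹ ∈ G) (hcop : (Nat.card G).Coprime (Nat.card S)) (htop : G ⊔ S = ⊤) (hcyc : IsCyclic S) (C : Subgroup Γ) [Fintype C] (hC : C = G ⊓ Subgroup.centralizer (S : Set Γ)) (hCG : C ≤ G) (hfpf : ∀ x ∈ S, x ≠ 1 → G ⊓ Subgroup.centralizer ({x} : Set Γ) = C) (χ : Cfsg.IrrCharacter G) (hinv : (∀ s ∈ S, ∀ g g' : G, (g' : Γ) = s * g * s⁻¹ → (χ : G → ℂ) g' = (χ : G → ℂ) g)) (χh : Cfsg.IrrCharacter Γ) (hext : (∀ g : G, (χh : Γ → ℂ) g = (χ : G → ℂ) g)) (hdet : (Cfsg.detOrder (χh : Γ → ℂ)).Coprime (Nat.card S)) (β : Cfsg.IrrCharacter C) (ε₀ : ℤ) (hε₀ : ε₀ = 1 ∨ ε₀ = -1) (hβ : ∀ c : C, ∀ s : Γ, Subgroup.zpowers s = S → (χh : Γ → ℂ) ((c : Γ) * s) = (ε₀ : ℂ) * (β : C → ℂ) c) : ∃ ε : ℤ, (ε = 1 ∨ ε = -1) ∧ (∃ μ : S → ℂ, Cfsg.IsCharacter S μ ∧ μ 1 = 1 ∧ (∀ x : S, μ x * μ x = 1) ∧ ∀ c : C, ∀ x : S, x ≠ 1 → (χh : Γ → ℂ) ((c : Γ) * x) = (ε : ℂ) * (β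 : C → ℂ) c * μ x) ∧ (∃ ϑ : C → ℂ, Cfsg.IsCharacter C ϑ ∧ (fun c : C => (χ : G → ℂ) ⟨c, hCG c.2⟩) = fun c => (Nat.card S : ℂ) * ϑ c + (ε : ℂ) * (β : C → ℂ) c) ∧ (Nat.card S : ℤ) ∣ (Cfsg.charDegree (χ : G → ℂ) : ℤ) - ε * (Cfsg.charDegree (β : C → ℂ) : ℤ) := by
  classical
  haveI : G.Normal := by
    rw [← Subgroup.normalizer_eq_top_iff, eq_top_iff, ← htop]
    refine sup_le Subgroup.le_normalizer fun s hs => Subgroup.mem_normalizer_iff.mpr fun g => ?_
    refine ⟨hnorm s hs g, fun h => ?_⟩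
    have := hnorm s⁻¹ (inv_mem hs) _ h
    simpa [mul_assoc] using this
  obtain ⟨s₀, hs₀⟩ := (Subgroup.isCyclic_iff_exists_zpowers_eq_top S).mp hcyc
  set n := Nat.card S with hn
  have hn0 : 0 < n := Nat.card_pos
  have hord : orderOf s₀ = n := by rw [← Nat.card_zpowers, hs₀]
  have hpow1 : ∀ i, s₀ ^ i = 1 ↔ n ∣ i := fun i => by rw [← hord, orderOf_dvd_iff_pow_eq_one]
  have hmem : ∀ i : ℕ, s₀ ^ i ∈ S := fun i => hs₀ ▸ Subgroup.npow_mem_zpowers s₀ i
  have hCS : C ≤ Subgroup.centralizer (S : Set Γ) := hC.le.trans inf_le_right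
  have hat : ∀ i : ℕ, ¬ n ∣ i → ∃ (b : Cfsg.IrrCharacter C) (e : ℤ), (e = 1 ∨ e = -1) ∧
      ∀ c : C, (χh : Γ → ℂ) ((c : Γ) * s₀ ^ i) = (e : ℂ) * (b : C → ℂ) c := by
    intro i hi
    have hdv : orderOf (s₀ ^ i) ∣ n := (orderOf_pow_dvd i).trans hord.dvd
    refine values_at G C hCG (hcop.coprime_dvd_right hdv) (fun g => ?_) χ χh hext
      (hdet.coprime_dvd_right hdv)
    conv_lhs => rw [← hfpf _ (hmem i) (mt (hpow1 i).mp hi)]
    rw [Subgroup.mem_inf, Subgroup.mem_centralizer_singleton_iff]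
    exact and_congr_right fun _ => Iff.rfl
  -- integral coefficients
  choose ι hι N ω hωn hexp using fun b => exp_sum C S hCS hs₀ χh b
  let cf : Cfsg.IrrCharacter C → ℕ → ℂ := fun b i =>
    Cfsg.classInner (fun c : C => (χh : Γ → ℂ) ((c : Γ) * s₀ ^ i)) (b : C → ℂ)
  have hcf : ∀ {i : ℕ} {b : Cfsg.IrrCharacter C} {e : ℤ},
      (∀ c : C, (χh : Γ → ℂ) ((c : Γ) * s₀ ^ i) = (e : ℂ) * (b : C → ℂ) c) →
      ∀ b', cf b' i = ((if b = b' then e else 0 : ℤ) : ℂ) := by
    intro i b e h b'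
    simp only [cf]
    rw [show (fun c : C => (χh : Γ → ℂ) ((c : Γ) * s₀ ^ i)) = (e : ℂ) • (b : C → ℂ) from funext h,
      CT.classInner_smul_left, CT.irr_inner_subtype]
    by_cases hb : b = b' <;> simp [hb]
  have hres : Cfsg.IsCharacter C fun c : C => (χ : G → ℂ) ⟨c, hCG c.2⟩ :=
    CT.isCharacter_comp (Subgroup.inclusion hCG) (CT.isCharacter_of_isIrr χ.2)
  have hzero : ∀ b i, n ∣ i →
      cf b i = (CT.mult (fun c : C => (χ : G → ℂ) ⟨c, hCG c.2⟩) (b : C → ℂ) : ℂ) := by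
    intro b i hi
    simp only [cf, (hpow1 i).mpr hi, mul_one]
    rw [← CT.mult_spec hres (CT.isCharacter_of_isIrr b.2)]
    exact congrArg (fun f => Cfsg.classInner f (b : C → ℂ))
      (funext fun c => hext ⟨c, hCG c.2⟩)
  have hintv : ∀ b i, ∃ a : ℤ, cf b i = (a : ℂ) := by
    intro b i
    by_cases hi : n ∣ i
    · exact ⟨(CT.mult (fun c : C => (χ : G → ℂ) ⟨c, hCG c.2⟩) (b : C → ℂ) : ℕ),
        by rw [hzero b i hi]; norm_cast⟩
    · obtain ⟨b₁, e, -, hv⟩ := hat i hi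
      exact ⟨_, hcf hv b⟩
  choose B hB using hintv
  have hBsum : ∀ b i, (B b i : ℂ) = ∑ j, (N b j : ℂ) * ω b j ^ i := fun b i =>
    (hB b i).symm.trans (hexp b i)
  have hper : ∀ b i, B b (i + n) = B b i := fun b i => by
    have h : (B b (i + n) : ℂ) = B b i := by
      rw [← hB, ← hB]
      simp only [cf, pow_add, (hpow1 n).mpr dvd_rfl, mul_one]
    exact_mod_cast h
  -- all values are multiples of β
  have h1β : ∀ c : C, (χh : Γ → ℂ) ((c : Γ) * s₀ ^ 1) = (ε₀ : ℂ) * (β : C → ℂ) c := fun c => by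
    rw [pow_one]; exact hβ c s₀ hs₀
  have hBv : ∀ {i : ℕ} {b : Cfsg.IrrCharacter C} {e : ℤ},
      (∀ c : C, (χh : Γ → ℂ) ((c : Γ) * s₀ ^ i) = (e : ℂ) * (b : C → ℂ) c) →
      ∀ b', B b' i = if b = b' then e else 0 := fun {i b e} h b' => by
    exact_mod_cast (hB b' i).symm.trans (hcf h b')
  have hall : ∀ i, ¬ n ∣ i → (B β i = 1 ∨ B β i = -1) ∧
      ∀ c : C, (χh : Γ → ℂ) ((c : Γ) * s₀ ^ i) = (B β i : ℂ) * (β : C → ℂ) c := by
    intro i
    induction i using Nat.strong_induction_on with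
    | _ i ih =>
      intro hi
      by_cases h1 : i = 1
      · subst h1
        rw [hBv h1β β, if_pos rfl]
        exact ⟨hε₀, h1β⟩
      have hp := Nat.minFac_prime h1
      obtain ⟨k, hk⟩ := Nat.minFac_dvd i
      have hk0 : 0 < k := Nat.pos_of_ne_zero (by rintro rfl; exact hi (by rw [hk]; simp))
      have hki : k < i := by
        rw [hk]
        exact (Nat.lt_mul_iff_one_lt_left hk0).mpr hp.one_lt
      have hnk : ¬ n ∣ k := fun h => hi (by rw [hk]; exact h.mul_left _)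
      obtain ⟨he, hv⟩ := ih k hki hnk
      obtain ⟨b, e, he', hv'⟩ := hat i hi
      obtain rfl : b = β := by
        by_contra hne
        have h := frob (N b) (ω b) hn0 (hωn b) hp k (hBsum b k) (hBsum b (i.minFac * k))
        rw [← hk, hBv hv b, hBv hv' b, if_neg (Ne.symm hne), if_pos rfl, sub_zero] at h
        have h2 : i.minFac ≤ 1 := Nat.le_of_dvd one_pos (Int.natCast_dvd_natCast.mp (by
          rcases he' with rfl | rfl
          · simpa using h
          · simpa using dvd_neg.mpr h))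
        exact absurd h2 (not_le.mpr hp.one_lt)
      rw [hBv hv' b, if_pos rfl]
      exact ⟨he', hv'⟩
  set A := B β with hA
  have hA1 : A 1 = ε₀ := by rw [hA, hBv h1β β, if_pos rfl]
  have hodd : ∀ o k, ¬ 2 ∣ o → ¬ n ∣ o * k → A (o * k) = A k := by
    intro o
    induction o using Nat.strong_induction_on with
    | _ o ih =>
      intro k ho hok
      by_cases h1 : o = 1
      · rw [h1, one_mul]
      have hp := Nat.minFac_prime h1
      obtain ⟨l, hl⟩ := Nat.minFac_dvd o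
      have hl0 : 0 < l := Nat.pos_of_ne_zero (by rintro rfl; rw [hl] at ho; simp at ho)
      have hlo : l < o := by
        rw [hl]
        exact (Nat.lt_mul_iff_one_lt_left hl0).mpr hp.one_lt
      have hlk : ¬ n ∣ l * k := fun h => hok (by rw [hl, mul_assoc]; exact h.mul_left _)
      have hrec := ih l hlo k (fun h => ho (by rw [hl]; exact h.mul_left _)) hlk
      have hp2 : o.minFac ≠ 2 := fun h => ho (h ▸ Nat.minFac_dvd o)
      have h := frob (N β) (ω β) hn0 (hωn β) hp (l * k) (hBsum β _) (hBsum β (o.minFac * (l * k)))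
      rw [← mul_assoc, ← hl, ← hA] at h
      have h3 : (3 : ℤ) ≤ o.minFac := by
        have := hp.two_le
        omega
      have h4 := Int.natCast_dvd.mp h
      rw [← hrec]
      rcases (hall _ hok).1 with e1 | e1 <;> rcases (hall _ hlk).1 with e2 | e2 <;>
        rw [e1, e2] at h4 ⊢
      all_goals
        norm_num at h4
      all_goals
        have := Nat.le_of_dvd (by norm_num) h4
        omega
  have hcos : ∀ b (d q : ℕ), d * q = n → ∀ (v : ℕ) (ζ : ℂ), ζ ^ d = 1 → ∀ z : ℤ,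
      (z : ℂ) = ∑ k ∈ Finset.range d, (B b (v + k * q) : ℂ) * ζ ^ k → (d : ℤ) ∣ z :=
    fun b d q hdq v ζ hζ z hz => coset_dvd (N b) (ω b) hn0 (hωn b) (hBsum b) hdq v hζ hz
  -- the sign
  set ε : ℤ := if 2 ∣ n ∧ 2 < n then A 2 else ε₀ with hεdef
  have hn2 : 2 < n → ¬ n ∣ 2 := fun h h' => absurd (Nat.le_of_dvd two_pos h') (not_le.mpr h)
  have hε : ε = 1 ∨ ε = -1 := by
    rw [hεdef]
    split_ifs with h
    · exact (hall 2 (hn2 h.2)).1
    · exact hε₀
  set σ : ℤ := ε * ε₀ with hσ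
  have hσ1 : σ * σ = 1 := by
    rcases hε with h | h <;> rcases hε₀ with h' | h' <;> rw [hσ, h, h'] <;> norm_num
  have hσn : σ ^ n = 1 := by
    by_cases h2 : 2 ∣ n
    · obtain ⟨k, hk⟩ := h2
      rw [hk, pow_mul, sq, hσ1, one_pow]
    · have : σ = 1 := by
        rw [hσ, hεdef, if_neg fun h => h2 h.1]
        rcases hε₀ with h' | h' <;> rw [h'] <;> norm_num
      rw [this, one_pow]
  have hAall : ∀ i, ¬ n ∣ i → A i = ε * σ ^ i := by
    intro i hi
    have hodd1 : ∀ j, ¬ 2 ∣ j → ¬ n ∣ j → A j = ε₀ := fun j hj hnj => by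
      rw [← hA1, ← hodd j 1 hj (by rwa [mul_one]), mul_one]
    have hεσ : ε * σ = ε₀ := by
      rcases hε with h | h <;> rw [hσ, h] <;> ring
    by_cases h2 : 2 ∣ n
    · obtain ⟨r, m, hm, hrm⟩ := Nat.exists_eq_pow_mul_and_not_dvd hn0.ne' 2 (by omega)
      have hr : 1 ≤ r := by
        by_contra hcon
        rw [show r = 0 from by omega, pow_zero, one_mul] at hrm
        exact hm (hrm ▸ h2)
      rcases Nat.even_or_odd i with hie | hio
      · obtain ⟨k, hk⟩ := hie
        rw [show i = 2 * k from by omega, pow_mul, sq, hσ1, one_pow, mul_one, hεdef]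
        have h2n : 2 < n := by
          by_contra hcon
          obtain ⟨t, ht⟩ := h2
          obtain rfl : t = 1 := by omega
          exact hi ⟨k, by rw [ht]; omega⟩
        rw [if_pos ⟨h2, h2n⟩, ← show i = 2 * k from by omega]
        exact even_const hrm hm A (fun j hj => (hall j hj).1) (hper β) hodd (hcos β) hr
          ⟨k, by omega⟩ hi
      · obtain ⟨k, hk⟩ := hio
        rw [hodd1 i (by omega) hi, hk, pow_succ, pow_mul, sq, hσ1, one_pow, one_mul, hεσ]
    · have hσe : σ = 1 := by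
        rw [hσ, hεdef, if_neg fun h => h2 h.1]
        rcases hε₀ with h' | h' <;> rw [h'] <;> norm_num
      rw [hσe, one_pow, mul_one]
      rw [hσe, mul_one] at hεσ
      rw [hεσ]
      by_cases hi2 : 2 ∣ i
      · refine (hper β i).symm.trans ?_
        exact hodd1 _ (fun h => h2 ((Nat.dvd_add_iff_right hi2).mpr h))
          fun h => hi ((Nat.dvd_add_iff_left (dvd_refl n)).mpr h)
      · exact hodd1 i hi2 hi
  -- the linear character
  have hσc : (σ : ℂ) * (σ : ℂ) = 1 := by exact_mod_cast hσ1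
  let u : ℂˣ := ⟨(σ : ℂ), (σ : ℂ), hσc, hσc⟩
  let g₀ : S := ⟨s₀, hs₀ ▸ Subgroup.mem_zpowers s₀⟩
  have hgen : ∀ x : S, x ∈ Subgroup.zpowers g₀ := fun x => by
    obtain ⟨k, hk⟩ := Subgroup.mem_zpowers_iff.mp (show (x : Γ) ∈ Subgroup.zpowers s₀ from hs₀ ▸ x.2)
    exact Subgroup.mem_zpowers_iff.mpr ⟨k, Subtype.ext (by simpa [g₀] using hk)⟩
  have hu : orderOf u ∣ orderOf g₀ := by
    rw [Subgroup.orderOf_mk, hord, orderOf_dvd_iff_pow_eq_one]
    refine Units.ext ?_
    rw [Units.val_pow_eq_pow_val, Units.val_one]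
    show (σ : ℂ) ^ n = 1
    exact_mod_cast hσn
  let μh : S →* ℂˣ := monoidHomOfForallMemZpowers hgen hu
  have hμ0 : μh g₀ = u := monoidHomOfForallMemZpowers_apply_gen hgen hu
  have hμp : ∀ i : ℕ, (μh (g₀ ^ i) : ℂ) = (σ : ℂ) ^ i := fun i => by
    rw [map_pow, hμ0, Units.val_pow_eq_pow_val]
  have hrep : ∀ x : S, ∃ i : ℕ, g₀ ^ i = x := fun x =>
    mem_powers_iff_mem_zpowers.mpr (hgen x)
  have hμv : ∀ c : C, ∀ x : S, x ≠ 1 →
      (χh : Γ → ℂ) ((c : Γ) * x) = (ε : ℂ) * (β : C → ℂ) c * (μh x : ℂ) := by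
    intro c x hx
    obtain ⟨i, rfl⟩ := hrep x
    have hi : ¬ n ∣ i := fun h => hx (Subtype.ext (by simpa [g₀] using (hpow1 i).mpr h))
    rw [hμp, SubmonoidClass.coe_pow, show (g₀ : Γ) = s₀ from rfl, (hall i hi).2 c,
      hAall i hi]
    push_cast
    ring
  -- congruences for the coefficients
  set k₀ : Cfsg.IrrCharacter C → ℕ := fun b =>
    CT.mult (fun c : C => (χ : G → ℂ) ⟨c, hCG c.2⟩) (b : C → ℂ) with hk₀
  have hB0 : ∀ b, B b 0 = k₀ b := fun b => by
    exact_mod_cast (hB b 0).symm.trans (hzero b 0 (dvd_zero n))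
  have hdvd : ∀ b, ∃ k : ℕ, (k₀ b : ℤ) = (n : ℤ) * k + if β = b then ε else 0 := by
    intro b
    set δ : ℤ := if β = b then ε else 0 with hδ
    have hBk : ∀ k, ¬ n ∣ k → B b k = δ * σ ^ k := fun k hk => by
      rw [hBv (hall k hk).2 b, hAall k hk, hδ]
      split_ifs <;> ring
    have h := hcos b n 1 (mul_one n) 0 (σ : ℂ) (by exact_mod_cast hσn)
      ((k₀ b : ℤ) + ((n : ℤ) - 1) * δ) ?_
    · have h2 : (n : ℤ) ∣ (k₀ b : ℤ) - δ := by
        have := dvd_sub h (dvd_mul_right (n : ℤ) δ)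
        rwa [show (k₀ b : ℤ) + ((n : ℤ) - 1) * δ - (n : ℤ) * δ = (k₀ b : ℤ) - δ from by ring] at this
      obtain ⟨z, hz⟩ := h2
      have hzn : 0 ≤ z := by
        by_contra hcon
        push Not at hcon
        have hn1 : n = 1 ∨ 2 ≤ n := by omega
        rcases hn1 with hn1 | hn1
        · have hp : B b (0 + n) = B b 0 := hper b 0
          rw [zero_add, hn1, hBv h1β b, hB0] at hp
          have hεe : ε = ε₀ := by rw [hεdef, if_neg fun h => by omega]
          rw [hδ, hεe, hn1] at hz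
          rw [← hp] at hz
          push_cast at hz
          omega
        · have hδ1 : δ ≤ 1 := by
            rw [hδ]
            split_ifs <;> omega
          have : (n : ℤ) * z ≤ (n : ℤ) * (-1) := mul_le_mul_of_nonneg_left (by omega) (by positivity)
          omega
      obtain ⟨k, rfl⟩ := Int.eq_ofNat_of_zero_le hzn
      exact ⟨k, by linarith⟩
    · obtain ⟨q, hq⟩ := Nat.exists_eq_succ_of_ne_zero hn0.ne'
      rw [hq, Finset.sum_range_succ']
      simp only [zero_add, mul_one, pow_zero, hB0]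
      have e : ∀ k ∈ Finset.range q, (B b (k + 1) : ℂ) * (σ : ℂ) ^ (k + 1) = (δ : ℂ) := by
        intro k hk
        rw [hBk _ (fun h => by
          have := Nat.le_of_dvd (by omega) h
          have := Finset.mem_range.mp hk
          omega)]
        push_cast
        rw [mul_assoc, ← mul_pow, hσc, one_pow, mul_one]
      rw [Finset.sum_congr rfl e, Finset.sum_const, Finset.card_range, nsmul_eq_mul]
      push_cast
      ring
  choose k hk using hdvd
  have hϑc : Cfsg.IsCharacter C (∑ b : Cfsg.IrrCharacter C, (k b : ℂ) • (b : C → ℂ)) :=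
    CT.isCharacter_sum _ fun b _ => CT.isCharacter_nsmul _ (CT.isCharacter_of_isIrr b.2)
  have hfun : ∀ c : C, (χ : G → ℂ) ⟨c, hCG c.2⟩ =
      (n : ℂ) * (∑ b : Cfsg.IrrCharacter C, (k b : ℂ) • (b : C → ℂ)) c +
        (ε : ℂ) * (β : C → ℂ) c := by
    intro c
    refine (congrFun (CT.character_eq_sum hres) c).trans ?_
    simp only [Finset.sum_apply, Pi.smul_apply, smul_eq_mul, Finset.mul_sum]
    rw [← Finset.sum_ite_eq (Finset.univ : Finset (Cfsg.IrrCharacter C)) β
      (fun b => (ε : ℂ) * (b : C → ℂ) c) |>.trans (if_pos (Finset.mem_univ β)),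
      ← Finset.sum_add_distrib]
    refine Finset.sum_congr rfl fun b _ => ?_
    have h := congrArg (fun z : ℤ => (z : ℂ)) (hk b)
    simp only [hk₀] at h
    push_cast at h
    rw [h]
    split_ifs <;> push_cast <;> ring
  refine ⟨ε, hε, ⟨fun x => (μh x : ℂ), CT.isCharacter_lin μh, by simp, fun x => ?_, hμv⟩,
    ⟨_, hϑc, funext hfun⟩, ?_⟩
  · obtain ⟨i, rfl⟩ := hrep x
    show (μh (g₀ ^ i) : ℂ) * (μh (g₀ ^ i) : ℂ) = 1
    rw [hμp, ← mul_pow, hσc, one_pow]
  · have h1 := hfun 1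
    set ϑ := ∑ b : Cfsg.IrrCharacter C, (k b : ℂ) • (b : C → ℂ) with hϑdef
    have e1 : (χ : G → ℂ) ⟨((1 : C) : Γ), hCG (1 : C).2⟩ = (χ : G → ℂ) 1 := rfl
    rw [e1, CT.deg_eq (CT.isCharacter_of_isIrr χ.2), CT.deg_eq (CT.isCharacter_of_isIrr β.2),
      CT.deg_eq hϑc] at h1
    refine ⟨(CT.deg ϑ : ℤ), ?_⟩
    show (CT.deg (χ : G → ℂ) : ℤ) - ε * (CT.deg (β : C → ℂ) : ℤ) = _
    have h2 : (CT.deg (χ : G → ℂ) : ℤ) =
        (n : ℤ) * CT.deg ϑ + ε * CT.deg (β : C → ℂ) := by exact_mod_cast h1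
    linarith

end Cfsg.Agent.S4451
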