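import Cfsg.Statements.S4452
import Cfsg.Agent.Lib.CoprimeExt.CoprimeDegree
import Cfsg.Agent.Lib.Glauberman.Conj
import Cfsg.Agent.Lib.Basics.CoprimeAction
-- import your own Cfsg.Agent.* helpers here

set_option autoImplicit false
open Cfsg

namespace Cfsg.Agent.S4452

open Cfsg.Agent in
theorem complement_count {G : Type*} [Group G] [Fintype G] (K H : Subgroup G) [K.Normal] [Fintype K]
    (hKH : K ⊔ H = ⊤) (hcop : (Nat.card K).Coprime (Nat.card H)) :
    Nat.card {χ : Cfsg.IrrCharacter G // (Cfsg.charDegree (χ : G → ℂ)).Coprime (Nat.card H)} =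
      Nat.card {θ : Cfsg.IrrCharacter K //
        ∀ h ∈ H, CT.conjFun K h (θ : K → ℂ) = (θ : K → ℂ)} * Nat.card (H →* ℂˣ) := by
  classical
  have hcompl : K.IsComplement' H := by
    refine Subgroup.isComplement'_of_disjoint_and_mul_eq_univ
      (Subgroup.disjoint_of_coprime_natCard hcop) ?_
    rw [← Subgroup.normal_mul, hKH]
    rfl
  have hidx : K.index = Nat.card H := hcompl.symm.index_eq_card
  let f : H →* G ⧸ K := (QuotientGroup.mk' K).comp H.subtype
  have hf : Function.Bijective f := by
    refine ⟨(injective_iff_map_eq_one f).mpr fun h hh => Subtype.ext ?_, ?_⟩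
    · have : (h : G) ∈ K ⊓ H := ⟨(QuotientGroup.eq_one_iff _).mp hh, h.2⟩
      rw [(Subgroup.disjoint_of_coprime_natCard hcop).eq_bot] at this
      exact Subgroup.mem_bot.mp this
    · intro q
      induction q using QuotientGroup.induction_on with
      | _ g =>
        have hg : g ∈ (↑(K ⊔ H) : Set G) := by rw [hKH]; trivial
        rw [Subgroup.normal_mul] at hg
        obtain ⟨k, hk, h, hh, rfl⟩ := hg
        refine ⟨⟨h, hh⟩, ?_⟩
        show (QuotientGroup.mk h : G ⧸ K) = QuotientGroup.mk (k * h)
        rw [QuotientGroup.mk_mul, (QuotientGroup.eq_one_iff k).mpr hk, one_mul]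
  let e : H ≃* G ⧸ K := MulEquiv.ofBijective f hf
  let e' : (H →* ℂˣ) ≃ (G ⧸ K →* ℂˣ) :=
    { toFun := fun l => l.comp e.symm.toMonoidHom
      invFun := fun l => l.comp e.toMonoidHom
      left_inv := fun l => MonoidHom.ext fun x => by simp
      right_inv := fun l => MonoidHom.ext fun x => by simp }
  rw [← hidx, Nat.card_congr e']
  refine Eq.trans ?_ ((CoprimeExt.card_coprime_degree K (by rw [hidx]; exact hcop.symm)).trans ?_)
  · rfl
  congr 1
  refine Nat.card_congr (Equiv.subtypeEquivRight fun θ => ⟨fun h x _ => h x, fun h g => ?_⟩)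
  have hg : g ∈ (↑(K ⊔ H) : Set G) := by rw [hKH]; trivial
  rw [Subgroup.normal_mul] at hg
  obtain ⟨k, hk, x, hx, rfl⟩ := hg
  rw [CT.conjFun_mul, CT.conjFun_of_mem K (CT.isClassFunction_of_isIrr θ.2) hk]
  exact h x hx

/-- Let the finite group G be the product of a normal subgroup K and a solvable subgroup H of coprime orders, and let N = N_G(H). Then the number of irreducible characters of G of degree coprime to the order of H equals the number of irreducible characters of N of degree coprime to the order of H. (The two sets are in fact in a canonical bijection; only the equality of their sizes is stated here.) -/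
theorem result {G : Type*} [Group G] [Finite G] (K H : Subgroup G) [K.Normal] (hKH : K ⊔ H = ⊤) (hcop : (Nat.card K).Coprime (Nat.card H)) (hsolv : Group.IsSolvable H) : Nat.card {χ : Cfsg.IrrCharacter G // (Cfsg.charDegree (χ : G → ℂ)).Coprime (Nat.card H)} = Nat.card {η : Cfsg.IrrCharacter (Subgroup.normalizer (H : Set G)) // (Cfsg.charDegree (η : Subgroup.normalizer (H : Set G) → ℂ)).Coprime (Nat.card H)} := by
  classical
  haveI := Fintype.ofFinite G
  set N := Subgroup.normalizer (H : Set G) with hN
  have hHN : H ≤ N := Subgroup.le_normalizer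
  have hAK : H ≤ Subgroup.normalizer (K : Set G) := fun a _ => by
    rw [Subgroup.normalizer_eq_top_iff.mpr (inferInstance : K.Normal)]; trivial
  have hcent : ∀ c ∈ K, c ∈ N → c ∈ Subgroup.centralizer (H : Set G) := fun c hc hcN =>
    Basics.mem_centralizer_of_mem_normalizer' hAK hcop.symm hc hcN
  have hKH' : K.subgroupOf N ⊔ H.subgroupOf N = ⊤ := by
    rw [eq_top_iff]
    rintro ⟨n, hn⟩ -
    have hg : n ∈ (↑(K ⊔ H) : Set G) := by rw [hKH]; trivial
    rw [Subgroup.normal_mul] at hg
    obtain ⟨k, hk, h, hh, rfl⟩ := hg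
    have hkN : k ∈ N := by
      have := mul_mem hn (inv_mem (hHN hh))
      rwa [mul_inv_cancel_right] at this
    have : (⟨k * h, hn⟩ : N) = ⟨k, hkN⟩ * ⟨h, hHN hh⟩ := rfl
    rw [this]
    exact mul_mem (Subgroup.mem_sup_left hk) (Subgroup.mem_sup_right hh)
  have eH : (H.subgroupOf N) ≃* H := Subgroup.subgroupOfEquivOfLe hHN
  have hcardH : Nat.card (H.subgroupOf N) = Nat.card H := Nat.card_congr eH.toEquiv
  have hcop' : (Nat.card (K.subgroupOf N)).Coprime (Nat.card (H.subgroupOf N)) := by
    rw [hcardH]
    refine hcop.coprime_dvd_left (Subgroup.card_dvd_of_injective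
      (({ toFun := fun x => ⟨x.1.1, x.2⟩, map_one' := rfl, map_mul' := fun _ _ => rfl } :
        K.subgroupOf N →* K)) fun x y h => Subtype.ext (Subtype.ext (congrArg (Subtype.val : K → G) h)))
  have h2 := complement_count (K.subgroupOf N) (H.subgroupOf N) hKH' hcop'
  rw [hcardH] at h2
  rw [complement_count K H hKH hcop, h2]
  congr 1
  · -- both count the irreducible characters of the centralizer
    have h3 := Glauberman.card_inv_eq (Glauberman.conjAct K H
      (fun s _ g hg => (inferInstance : K.Normal).conj_mem g hg s)) hsolv hcop.symm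
    refine Eq.trans (Nat.card_congr (Equiv.subtypeEquivRight fun θ => ?_)) (h3.trans ?_)
    · constructor
      · intro h a n
        exact congrFun (h a.1 a.2) n
      · intro h x hx
        exact funext fun n => h ⟨x, hx⟩ n
    · let eC : K.subgroupOf N ≃* (K ⊓ Subgroup.centralizer (H : Set G) : Subgroup G) :=
        { toFun := fun c => ⟨c.1.1, c.2, hcent _ c.2 c.1.2⟩
          invFun := fun c => ⟨⟨c.1, Subgroup.centralizer_le_normalizer _ c.2.2⟩, c.2.1⟩
          left_inv := fun c => rfl
          right_inv := fun c => rfl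
          map_mul' := fun _ _ => rfl }
      refine Eq.trans (Nat.card_congr (Glauberman.compIrrEquiv
        (eC.trans (Glauberman.fixedPtsConjEquiv K H _ _ rfl).symm))) (Eq.symm ?_)
      refine Nat.card_congr (Equiv.subtypeUnivEquiv fun θ x hx => funext fun n => ?_)
      refine congrArg (θ : K.subgroupOf N → ℂ) (Subtype.ext (Subtype.ext ?_))
      show (x : G) * (n.1 : G) * (x : G)⁻¹ = (n.1 : G)
      rw [Subgroup.mem_centralizer_iff.mp (hcent (n.1 : G) n.2 n.1.2) x hx, mul_inv_cancel_right]
  · exact Nat.card_congr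
      { toFun := fun l => l.comp eH.toMonoidHom
        invFun := fun l => l.comp eH.symm.toMonoidHom
        left_inv := fun l => MonoidHom.ext fun x => by simp
        right_inv := fun l => MonoidHom.ext fun x => by simp }

end Cfsg.Agent.S4452
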