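import Cfsg.Statements.S4453
import Cfsg.Agent.Lib.OddCorr.Main

set_option autoImplicit false
open Cfsg
open scoped commutatorElement

namespace Cfsg.Agent.S4453

/-- Inside a finite group Γ let S normalise the solvable subgroup G of odd order with the orders of G and S coprime, let C = G ⊓ C(S), and let L ≤ K be S-invariant normal subgroups of G with K/L abelian, G = KC and H = LC (so C ≤ H ≤ G). Then for each S-invariant irreducible character χ of G there is exactly one S-invariant irreducible character ψ of H whose multiplicity in the restriction of χ to H is odd, and χ ↦ ψ is a bijection from the S-invariant irreducible characters of G onto those of H (distinct χ give distinct ψ, and every S-invariant ψ arises). -/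
theorem result {Γ : Type*} [Group Γ] [Fintype Γ] (G S : Subgroup Γ) [Fintype G] (hnorm : ∀ s ∈ S, ∀ g ∈ G, s * g * s⁻¹ ∈ G) (hcop : (Nat.card G).Coprime (Nat.card S)) (hGsolv : Group.IsSolvable G) (hodd : Odd (Nat.card G)) (C : Subgroup Γ) [Fintype C] (hC : C = G ⊓ Subgroup.centralizer (S : Set Γ)) (hCG : C ≤ G) (K L H : Subgroup Γ) [Fintype H] (hLK : L ≤ K) (hKG : K ≤ G) (hKn : ∀ g ∈ G, ∀ k ∈ K, g * k * g⁻¹ ∈ K) (hLn : ∀ g ∈ G, ∀ l ∈ L, g * l * g⁻¹ ∈ L) (hKS : ∀ s ∈ S, ∀ k ∈ K, s * k * s⁻¹ ∈ K) (hLS : ∀ s ∈ S, ∀ l ∈ L, s * l * s⁻¹ ∈ L) (hab : ∀ a ∈ K, ∀ b ∈ K, a * b * a⁻¹ * b⁻¹ ∈ L) (hGKC : K ⊔ C = G) (hH : H = L ⊔ C) (hHG : H ≤ G) : (∀ χ : Cfsg.IrrCharacter G, (∀ s ∈ S, ∀ g g' : G, (g' : Γ) = s * g * s⁻¹ → (χ : G → ℂ) g' = (χ : G → ℂ) g) → ∃! ψ : Cfsg.IrrCharacter H, (∀ s ∈ S, ∀ g g' : H, (g' : Γ) = s * g * s⁻¹ → (ψ : H → ℂ) g' = (ψ : H → ℂ) g) ∧ ∃ m : ℕ, Cfsg.classInner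 (fun h : H => (χ : G → ℂ) ⟨h, hHG h.2⟩) (ψ : H → ℂ) = (m : ℂ) ∧ Odd m) ∧ (∀ χ χ' : Cfsg.IrrCharacter G, (∀ s ∈ S, ∀ g g' : G, (g' : Γ) = s * g * s⁻¹ → (χ : G → ℂ) g' = (χ : G → ℂ) g) → (∀ s ∈ S, ∀ g g' : G, (g' : Γ) = s * g * s⁻¹ → (χ' : G → ℂ) g' = (χ' : G → ℂ) g) → ∀ ψ : Cfsg.IrrCharacter H, (∀ s ∈ S, ∀ g g' : H, (g' : Γ) = s * g * s⁻¹ → (ψ : H → ℂ) g' = (ψ : H → ℂ) g) → ∀ m m' : ℕ, Cfsg.classInner (fun h : H => (χ : G → ℂ) ⟨h, hHG h.2⟩) (ψ : H → ℂ) = (m : ℂ) → Odd m → Cfsg.classInner (fun h : H => (χ' : G → ℂ) ⟨h, hHG h.2⟩) (ψ : H → ℂ) = (m' : ℂ) → Odd m' → χ = χ') ∧ (∀ ψ : Cfsg.IrrCharacter H, (∀ s ∈ S, ∀ g g' : H, (g' : Γ) = s * g * s⁻¹ → (ψ : H → ℂ) g' = (ψ : H → ℂ) g) → ∃ χ : Cfsg.IrrCharacter G, (∀ s ∈ S, ∀ g g' : G, (g' : Γ) = s * g * s⁻¹ → (χ : G → ℂ) g' = (χ : G → ℂ) g) ∧ ∃ m : ℕ, Cfsg.classInner (fun h : H => (χ : G → ℂ) ⟨h, hHG h.2⟩) (ψ : H → ℂ) = (m : ℂ) ∧ Odd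 m) := by
  classical
  have hKn' : ∀ g ∈ G, ∀ k ∈ K, g * k * g⁻¹ ∈ K := hKn
  let L' : Subgroup K := L.subgroupOf K
  haveI : L'.Normal := ⟨fun n hn g => hLn _ (hKG g.2) _ hn⟩
  haveI := Fintype.ofFinite S
  letI : CommGroup (K ⧸ L') :=
    { (inferInstance : Group (K ⧸ L')) with
      mul_comm := fun x y => by
        obtain ⟨x, rfl⟩ := QuotientGroup.mk_surjective x
        obtain ⟨y, rfl⟩ := QuotientGroup.mk_surjective y
        refine commutatorElement_eq_one_iff_mul_comm.mp ?_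
        show QuotientGroup.mk' L' ⁅x, y⁆ = 1
        refine (QuotientGroup.eq_one_iff _).mpr (Subgroup.mem_subgroupOf.mpr ?_)
        rw [show ((⁅x, y⁆ : K) : Γ) = (x : Γ) * y * (x : Γ)⁻¹ * (y : Γ)⁻¹ by
          simp [commutatorElement_def]]
        exact hab _ x.2 _ y.2 }
  let f : S → (K →* K ⧸ L') := fun s =>
    (QuotientGroup.mk' L').comp (MonoidHom.mk' (fun k : K => (⟨(s : Γ) * k * (s : Γ)⁻¹, hKS _ s.2 _ k.2⟩ : K))
      (fun a b => Subtype.ext (by simp [mul_assoc])))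
  let Nm : K →* K ⧸ L' := ∏ s, f s
  have hNm : ∀ k, Nm k = ∏ s, f s k := fun k => MonoidHom.finsetProd_apply _ _ _
  let K0 : Subgroup Γ := Nm.ker.map K.subtype
  have hmem : ∀ k : K, (k : Γ) ∈ K0 ↔ Nm k = 1 := fun k =>
    ⟨fun ⟨x, hx, hxk⟩ => by rwa [← show x = k from Subtype.ext hxk], fun h => ⟨k, h, rfl⟩⟩
  have hK0K : K0 ≤ K := Subgroup.map_subtype_le _
  have hLK0 : L ≤ K0 := fun l hl => by
    refine (hmem ⟨l, hLK hl⟩).mpr ?_
    rw [hNm]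
    refine Finset.prod_eq_one fun s _ => (QuotientGroup.eq_one_iff _).mpr ?_
    exact Subgroup.mem_subgroupOf.mpr (hLS _ s.2 _ hl)
  have hK0S : ∀ s ∈ S, ∀ k ∈ K0, s * k * s⁻¹ ∈ K0 := by
    intro t ht k hk
    have hkK := hK0K hk
    refine (hmem ⟨t * k * t⁻¹, hKS _ ht _ hkK⟩).mpr ?_
    rw [← (hmem ⟨k, hkK⟩).mp hk, hNm, hNm]
    refine Fintype.prod_equiv (Equiv.mulRight (⟨t, ht⟩ : S)) _ _ fun s => ?_
    exact congrArg (QuotientGroup.mk' L') (Subtype.ext (by simp [mul_assoc]))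
  have hfixC : ∀ s ∈ S, ∀ c ∈ C, s * c * s⁻¹ = c := fun s hs c hc => by
    rw [Subgroup.mem_centralizer_iff.mp (hC ▸ hc : c ∈ G ⊓ Subgroup.centralizer (S : Set Γ)).2 s hs,
      mul_inv_cancel_right]
  have hK0n : ∀ g ∈ G, ∀ k ∈ K0, g * k * g⁻¹ ∈ K0 := by
    have hK : K ≤ Subgroup.normalizer (K0 : Set Γ) := OddCorr.mem_normalizer_of_conj K0 K fun x hx k hk => by
      have hkK := hK0K hk
      refine (hmem (⟨x, hx⟩ * ⟨k, hkK⟩ * ⟨x, hx⟩⁻¹)).mpr ?_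
      rw [map_mul, map_mul, (hmem ⟨k, hkK⟩).mp hk, mul_one, ← map_mul, mul_inv_cancel, map_one]
    have hCn : C ≤ Subgroup.normalizer (K0 : Set Γ) := OddCorr.mem_normalizer_of_conj K0 C fun c hc k hk => by
      have hkK := hK0K hk
      let fc : K →* K := MonoidHom.mk' (fun k : K => (⟨c * k * c⁻¹, hKn _ (hCG hc) _ k.2⟩ : K))
        (fun a b => Subtype.ext (by simp [mul_assoc]))
      let ψ : K ⧸ L' →* K ⧸ L' := QuotientGroup.map L' L' fc fun l hl =>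
        Subgroup.mem_subgroupOf.mpr (hLn _ (hCG hc) _ hl)
      refine (hmem ⟨c * k * c⁻¹, hKn _ (hCG hc) _ hkK⟩).mpr ?_
      rw [show (1 : K ⧸ L') = ψ (Nm ⟨k, hkK⟩) by rw [(hmem ⟨k, hkK⟩).mp hk, map_one], hNm, hNm, map_prod]
      refine Finset.prod_congr rfl fun s _ => congrArg (QuotientGroup.mk' L') (Subtype.ext ?_)
      show (s : Γ) * (c * k * c⁻¹) * (s : Γ)⁻¹ = c * ((s : Γ) * k * (s : Γ)⁻¹) * c⁻¹
      have e1 : (s : Γ) * c = c * s := by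
        have := hfixC s s.2 c hc
        rwa [mul_inv_eq_iff_eq_mul] at this
      have e2 : c⁻¹ * (s : Γ)⁻¹ = (s : Γ)⁻¹ * c⁻¹ := by
        rw [← mul_inv_rev, ← mul_inv_rev, e1]
      calc (s : Γ) * (c * k * c⁻¹) * (s : Γ)⁻¹ = ((s : Γ) * c) * k * (c⁻¹ * (s : Γ)⁻¹) := by
            simp only [mul_assoc]
        _ = _ := by rw [e1, e2]; simp only [mul_assoc]
    have hG : G ≤ Subgroup.normalizer (K0 : Set Γ) := hGKC ▸ sup_le hK hCn
    exact fun g hg k hk => (Subgroup.mem_normalizer_iff.mp (hG hg) k).mp hk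
  have hH' : H = L ⊔ (G ⊓ Subgroup.centralizer (S : Set Γ)) := by rw [hH, hC]
  have hCH : C ≤ H := le_sup_right.trans hH.ge
  have hKH : K0 ⊓ H ≤ L := by
    rintro x ⟨hxK, hxH⟩
    have hxH' : x ∈ L ⊔ C := hH ▸ hxH
    rw [← SetLike.mem_coe, Subgroup.coe_mul_of_right_le_normalizer_left L C
      (OddCorr.mem_normalizer_of_conj L C fun c hc => hLn c (hCG hc))] at hxH'
    obtain ⟨l, hl, c, hc, rfl⟩ := hxH'
    have hcK0 : c ∈ K0 := by
      have := mul_mem (inv_mem (hLK0 hl)) hxK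
      rwa [inv_mul_cancel_left] at this
    have h1 := (hmem ⟨c, hK0K hcK0⟩).mp hcK0
    rw [hNm, Finset.prod_congr rfl fun s _ => show f s ⟨c, hK0K hcK0⟩ = QuotientGroup.mk' L' ⟨c, hK0K hcK0⟩ from
      congrArg (QuotientGroup.mk' L') (Subtype.ext (hfixC s s.2 c hc)), Finset.prod_const,
      Finset.card_univ, ← Nat.card_eq_fintype_card, ← map_pow] at h1
    have h2 : QuotientGroup.mk' L' ⟨c, hK0K hcK0⟩ = 1 := by
      refine orderOf_eq_one_iff.mp (Nat.eq_one_of_dvd_coprimes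
        (hcop.symm.coprime_dvd_right (Subgroup.card_dvd_of_le hKG))
        (orderOf_dvd_of_pow_eq_one (by rw [← map_pow]; exact h1)) ?_)
      exact (orderOf_map_dvd _ _).trans (orderOf_dvd_natCard _)
    exact mul_mem hl (Subgroup.mem_subgroupOf.mp ((QuotientGroup.eq_one_iff _).mp h2))
  have hGKH : K0 ⊔ H = G := by
    refine le_antisymm (sup_le (hK0K.trans hKG) hHG) ?_
    refine hGKC.ge.trans (sup_le (fun k hk => ?_) (hCH.trans le_sup_right))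
    have hfix : ∀ s ∈ S, s * k * s⁻¹ * k⁻¹ ∈ K0 := by
      intro t ht
      refine (hmem (⟨t * k * t⁻¹, hKS _ ht _ hk⟩ * (⟨k, hk⟩ : K)⁻¹)).mpr ?_
      rw [map_mul, map_inv, mul_inv_eq_one, hNm, hNm]
      refine Fintype.prod_equiv (Equiv.mulRight (⟨t, ht⟩ : S)) _ _ fun s => ?_
      exact congrArg (QuotientGroup.mk' L') (Subtype.ext (by simp [mul_assoc]))
    haveI := hGsolv
    obtain ⟨c, hc, hcK⟩ := Basics.exists_centralizer_mem_coset S K0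
      (OddCorr.mem_normalizer_of_conj K0 S hK0S)
      (hcop.symm.coprime_dvd_right (Subgroup.card_dvd_of_le (hK0K.trans hKG)))
      (Or.inr (Group.isSolvable_of_isSolvable_injective (Subgroup.inclusion_injective (hK0K.trans hKG))))
      k (OddCorr.mem_normalizer_of_conj K0 G hK0n (hKG hk)) hfix
    have hcG : c ∈ G := by
      have := mul_mem (hKG hk) (hKG (hK0K hcK))
      rwa [mul_inv_cancel_left] at this
    have : k = (k * (k⁻¹ * c)⁻¹ * k⁻¹) * c := by group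
    rw [this]
    exact Subgroup.mul_mem_sup (hK0n k (hKG hk) _ (inv_mem hcK))
      (hCH (hC.ge ⟨hcG, hc⟩))
  obtain ⟨m1, m2, m3⟩ := OddCorr.main G S K0 L H hnorm hcop hGsolv hodd hLK0 (hK0K.trans hKG) hK0n hLn
    hK0S hLS (fun a ha b hb => by
      rw [commutatorElement_def]
      exact hab a (hK0K ha) b (hK0K hb)) hH' hHG hKH hGKH
  exact ⟨m1, fun χ χ' hχ hχ' ψ hψ m m' h hm h' hm' => m2 χ χ' hχ hχ' ψ hψ m m' h hm h' hm', m3⟩

end Cfsg.Agent.S4453
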