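import Cfsg.Statements.S4454
import Cfsg.Agent.Lib.CT.InvPowerOdd
import Cfsg.Agent.Lib.CT.GallagherExt

set_option autoImplicit false
open Cfsg

namespace Cfsg.Agent.S4454

/-- Let N ≤ G be normal subgroups of the finite group Γ with Γ/G cyclic and Γ/N a Frobenius group with kernel G/N: G ≠ Γ, N ≠ G, and no element of Γ outside G fixes a non-identity coset of N in G under conjugation. Let ϑ be an irreducible character of N invariant under conjugation by Γ and suppose ϑ is fully ramified in G: the character of G induced from ϑ equals e·χ for an irreducible character χ of G and a natural number e. Then the index of G in Γ divides e − 1 or e + 1. -/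
theorem result {Γ : Type*} [Group Γ] [Fintype Γ] (G N : Subgroup Γ) [hG : G.Normal] [hN : N.Normal] [Fintype G] [Fintype N] (hNG : N ≤ G) (hGlt : G ≠ ⊤) (hNlt : N ≠ G) (hcyc : IsCyclic (Γ ⧸ G)) (hfrob : ∀ x : Γ, x ∉ G → ∀ g : Γ, g ∈ G → x * g * x⁻¹ * g⁻¹ ∈ N → g ∈ N) (θ : Cfsg.IrrCharacter N) (hinv : ∀ (x : Γ) (n : N), (θ : N → ℂ) ⟨x * n * x⁻¹, hN.conj_mem n n.2 x⟩ = (θ : N → ℂ) n) (χ : Cfsg.IrrCharacter G) (e : ℕ) (hram : Cfsg.indFun (N.subgroupOf G) (fun n : N.subgroupOf G => (θ : N → ℂ) ⟨(n : G), n.2⟩) = fun g => (e : ℂ) * (χ : G → ℂ) g) : (G.index : ℤ) ∣ (e : ℤ) - 1 ∨ (G.index : ℤ) ∣ (e : ℤ) + 1 := by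
  classical
  haveI : Finite Γ := inferInstance
  set N' : Subgroup G := N.subgroupOf G with hN'
  haveI := Fintype.ofFinite (G ⧸ N')
  let eN : N' ≃* N := Subgroup.subgroupOfEquivOfLe hNG
  set θ' : N' → ℂ := fun n => (θ : N → ℂ) ⟨(n : G), n.2⟩ with hθ'
  have hθ'irr : IsIrrCharacter N' θ' := CT.isIrrCharacter_comp eN.toMonoidHom eN.surjective θ.2
  have hinvG : ∀ g : G, CT.conjFun N' g θ' = θ' := fun g => funext fun n => hinv (g : Γ) (eN n)
  have hcI := CT.isCharacter_indFun N' (CT.isCharacter_of_isIrr hθ'irr)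
  have hram' : Cfsg.indFun N' θ' = (e : ℂ) • (χ : G → ℂ) := by
    rw [show (e : ℂ) • (χ : G → ℂ) = fun g => (e : ℂ) * (χ : G → ℂ) g from rfl, ← hram]
  have hecl : Cfsg.classInner (fun n : N' => (χ : G → ℂ) n) θ' = (e : ℂ) := by
    have h := CT.frobenius_reciprocity N' θ' (CT.isClassFunction_of_isIrr χ.2)
    rw [hram', CT.classInner_smul_left, CT.irr_inner_self χ.2, mul_one, CT.classInner_comm_of_char
      (CT.isCharacter_of_isIrr hθ'irr) (CT.isCharacter_restrict N' (CT.isCharacter_of_isIrr χ.2))] at h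
    exact h.symm
  have he0 : (e : ℂ) ≠ 0 := by
    intro h0
    have h := congrFun hram' 1
    rw [h0, zero_smul, CT.indFun_one_eval, Pi.zero_apply] at h
    exact mul_ne_zero (Nat.cast_ne_zero.mpr Subgroup.index_ne_zero_of_finite) (CT.irr_one_ne_zero hθ'irr) h
  have hres : (fun n : N' => (χ : G → ℂ) n) = (e : ℂ) • θ' := by
    rw [CT.restrict_eq_smul_of_invariant N' χ.2 hθ'irr (hecl.trans_ne he0) hinvG, hecl]
  have hsq : (N'.index : ℂ) = (e : ℂ) ^ 2 := by
    have h1 := congrFun hram' 1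
    have h2 := congrFun hres 1
    rw [CT.indFun_one_eval, Pi.smul_apply, smul_eq_mul] at h1
    simp only [Pi.smul_apply, smul_eq_mul, OneMemClass.coe_one] at h2
    rw [h2, ← mul_assoc, ← pow_two] at h1
    exact mul_right_cancel₀ (CT.irr_one_ne_zero hθ'irr) h1
  -- `χ` is invariant and extends
  have hχinv : ∀ x : Γ, CT.conjFun G x (χ : G → ℂ) = χ := by
    intro x
    have hirr := CT.isIrrCharacter_conjFun G x χ.2
    by_contra hne
    have hres2 : (fun n : N' => CT.conjFun G x (χ : G → ℂ) n) = (e : ℂ) • θ' := by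
      funext n
      rw [CT.conjFun_eq_comp]
      simp only [Function.comp_apply]
      refine (congrFun hres ⟨MulAut.conjNormal x (n : G), Subgroup.mem_subgroupOf.mpr ?_⟩).trans ?_
      · simpa using hN.conj_mem _ n.2 x
      · simp only [Pi.smul_apply]
        congr 1
        exact (congrArg (θ : N → ℂ) (Subtype.ext (MulAut.conjNormal_apply _ _))).trans (hinv x (eN n))
    have h := CT.frobenius_reciprocity N' θ' (CT.isClassFunction_of_isIrr hirr)
    rw [hram', CT.classInner_smul_left, CT.irr_inner_of_ne χ.2 hirr (Ne.symm hne), mul_zero, hres2,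
      CT.classInner_smul_right, CT.irr_inner_self hθ'irr, mul_one, map_natCast] at h
    exact he0 h.symm
  haveI := hcyc
  obtain ⟨E, hE, hEres⟩ := GoodCount.exists_ext_cyclic G χ.2 hχinv
  have hEcl := CT.isClassFunction_of_isIrr hE
  set F : Γ → ℂ := fun y => E y * (starRingEnd ℂ) (E y) with hF
  have hFcl : ∀ y z : Γ, F (z * y * z⁻¹) = F y := fun y z => by
    simp only [hF]; rw [hEcl y z]
  -- the norm on a coset of `N` outside `G`
  have hcoset : ∀ x : Γ, x ∉ G → ∑ n : N, F (x * n) = (Nat.card N : ℂ) := by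
    intro x hx
    have htot : ∑ g : G, F (x * g) = (Nat.card G : ℂ) := by
      have hirrG : IsIrrCharacter G (fun g : G => E g) := by
        rw [show (fun g : G => E g) = (χ : G → ℂ) from funext hEres]; exact χ.2
      have h := congrFun ((CT.GallagherExt.twisted_average G hE hirrG hE _ rfl).2.2 rfl) x
      rw [inv_mul_eq_iff_eq_mul₀ CT.card_ne_zero, mul_one] at h
      rw [← h]
      refine Fintype.sum_equiv (MulAut.conjNormal x : MulAut G).toEquiv _ _ fun g => ?_
      simp only [hF, MulEquiv.toEquiv_eq_coe, EquivLike.coe_coe, MulAut.conjNormal_apply]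
      rw [show x * (g : Γ) * x⁻¹ * x = x * g by group]
    let c : G → G := fun g => ⟨x⁻¹ * g * x * (g : Γ)⁻¹, G.mul_mem
      (by simpa using hG.conj_mem (g : Γ) g.2 x⁻¹) (G.inv_mem g.2)⟩
    let Φ : (G ⧸ N') × N → G := fun qn => c qn.1.out * ⟨qn.2, hNG qn.2.2⟩
    have hΦ : Function.Bijective Φ := by
      rw [Fintype.bijective_iff_injective_and_card]
      constructor
      · rintro ⟨q, n⟩ ⟨q', n'⟩ h
        have h' : x⁻¹ * (q.out : Γ) * x * (q.out : Γ)⁻¹ * n = x⁻¹ * (q'.out : Γ) * x * (q'.out : Γ)⁻¹ * n' :=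
          congrArg Subtype.val h
        have hq : q = q' := by
          rw [← q.out_eq', ← q'.out_eq', QuotientGroup.eq]
          refine Subgroup.mem_subgroupOf.mpr ?_
          refine hfrob x hx _ (q.out⁻¹ * q'.out).2 ?_
          have e1 : (q'.out : Γ) * x * (q'.out : Γ)⁻¹ * ((q.out : Γ) * x * (q.out : Γ)⁻¹)⁻¹ ∈ N := by
            have e2 : x⁻¹ * ((q'.out : Γ) * x * (q'.out : Γ)⁻¹ * ((q.out : Γ) * x * (q.out : Γ)⁻¹)⁻¹) * x =
                (x⁻¹ * (q'.out : Γ) * x * (q'.out : Γ)⁻¹) * (x⁻¹ * (q.out : Γ) * x * (q.out : Γ)⁻¹)⁻¹ := by group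
            have e3 : x⁻¹ * (q'.out : Γ) * x * (q'.out : Γ)⁻¹ =
                x⁻¹ * (q.out : Γ) * x * (q.out : Γ)⁻¹ * n * (n' : Γ)⁻¹ := by
              rw [h', mul_inv_cancel_right]
            have e4 : x⁻¹ * ((q'.out : Γ) * x * (q'.out : Γ)⁻¹ * ((q.out : Γ) * x * (q.out : Γ)⁻¹)⁻¹) * x ∈ N := by
              rw [e2, e3, mul_assoc (x⁻¹ * (q.out : Γ) * x * (q.out : Γ)⁻¹)]
              exact hN.conj_mem _ (N.mul_mem n.2 (N.inv_mem n'.2)) _
            have e5 := hN.conj_mem _ e4 x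
            simpa [mul_assoc] using e5
          have e6 := hN.conj_mem _ (N.inv_mem e1) (q.out : Γ)⁻¹
          rw [show x * ((q.out⁻¹ * q'.out : G) : Γ) * x⁻¹ * ((q.out⁻¹ * q'.out : G) : Γ)⁻¹ =
            (q.out : Γ)⁻¹ * ((q'.out : Γ) * x * (q'.out : Γ)⁻¹ * ((q.out : Γ) * x * (q.out : Γ)⁻¹)⁻¹)⁻¹ *
              ((q.out : Γ)⁻¹)⁻¹ by push_cast; group]
          exact e6
        subst hq
        exact Prod.ext rfl (Subtype.ext (mul_left_cancel h'))
      · rw [Fintype.card_prod, ← Nat.card_eq_fintype_card, ← Nat.card_eq_fintype_card,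
          ← Nat.card_eq_fintype_card, ← Subgroup.index_eq_card, ← Nat.card_congr eN.toEquiv, Subgroup.index_mul_card]
    rw [← (Equiv.ofBijective Φ hΦ).sum_comp (fun g : G => F (x * g)), Fintype.sum_prod_type] at htot
    have hone : ∀ q : G ⧸ N', ∑ n : N, F (x * ((Φ (q, n) : G) : Γ)) = ∑ n : N, F (x * n) := by
      intro q
      refine Fintype.sum_equiv (MulAut.conjNormal (q.out : Γ)⁻¹ : MulAut N).toEquiv _ _ fun n => ?_
      simp only [MulEquiv.toEquiv_eq_coe, EquivLike.coe_coe]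
      rw [← hFcl (x * (((MulAut.conjNormal (q.out : Γ)⁻¹ : MulAut N) n : N) : Γ)) (q.out : Γ)]
      congr 1
      simp [Φ, c, MulAut.conjNormal_apply, mul_assoc]
    simp only [Equiv.ofBijective_apply] at htot
    rw [Finset.sum_congr rfl fun q _ => hone q, Finset.sum_const, Finset.card_univ, ← Nat.card_eq_fintype_card,
      ← Subgroup.index_eq_card, ← N'.index_mul_card, Nat.card_congr eN.toEquiv, nsmul_eq_mul, Nat.cast_mul] at htot
    exact mul_left_cancel₀ (Nat.cast_ne_zero.mpr Subgroup.index_ne_zero_of_finite) htot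
  -- the subgroup over `N` generated by a generator modulo `G`
  obtain ⟨⟨x₀⟩, hx₀⟩ := hcyc.exists_generator
  obtain ⟨x, hxdef⟩ : ∃ x : Γ, ∀ q : Γ ⧸ G, q ∈ Subgroup.zpowers (x : Γ ⧸ G) := ⟨x₀, hx₀⟩
  set H : Subgroup Γ := N ⊔ Subgroup.zpowers x with hH
  have hNH : N ≤ H := le_sup_left
  set t := G.index with ht
  have hxt : x ^ t ∈ N := by
    have hmem : x ^ t ∈ G := G.pow_index_mem x
    by_cases hxG : x ∈ G
    · refine absurd (eq_top_iff.mpr fun y _ => ?_) hGlt
      have := hxdef (y : Γ ⧸ G)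
      rw [(QuotientGroup.eq_one_iff x).mpr hxG, Subgroup.zpowers_one_eq_bot, Subgroup.mem_bot] at this
      exact (QuotientGroup.eq_one_iff y).mp this
    · refine hfrob x hxG _ hmem ?_
      rw [((Commute.refl x).pow_right t).eq, mul_inv_cancel_right, mul_inv_cancel]
      exact N.one_mem
  have hHG : ∀ y ∈ H, y ∈ G → y ∈ N := by
    intro y hy hyG
    obtain ⟨a, ha, b, hb, rfl⟩ := Subgroup.mem_sup_of_normal_left.mp hy
    obtain ⟨i, rfl⟩ := Subgroup.mem_zpowers_iff.mp hb
    refine N.mul_mem ha ?_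
    have hi : x ^ i ∈ G := by simpa using G.mul_mem (G.inv_mem (hNG ha)) hyG
    have h1 : (x : Γ ⧸ G) ^ i = 1 := by rw [← QuotientGroup.mk_zpow]; exact (QuotientGroup.eq_one_iff _).mpr hi
    rw [← orderOf_dvd_iff_zpow_eq_one, orderOf_eq_card_of_forall_mem_zpowers hxdef, ← Subgroup.index_eq_card, ← ht] at h1
    obtain ⟨j, rfl⟩ := h1
    rw [zpow_mul, zpow_natCast]
    exact N.zpow_mem hxt j
  haveI := Fintype.ofFinite H
  set NH : Subgroup H := N.subgroupOf H with hNHdef
  haveI := Fintype.ofFinite NH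
  haveI := Fintype.ofFinite (H ⧸ NH)
  let eH : NH ≃* N := Subgroup.subgroupOfEquivOfLe hNH
  have hidx : NH.index = t := by
    have h1 : N.relIndex H = G.relIndex H := by
      rw [← Subgroup.inf_relIndex_right G H, show G ⊓ H = N from le_antisymm (fun y hy => hHG y hy.2 hy.1)
        (le_inf hNG hNH)]
    have h2 : G.relIndex H = Nat.card (H.map (QuotientGroup.mk' G)) := by
      rw [← Subgroup.relIndex_ker, QuotientGroup.ker_mk']
    rw [ht, show NH.index = N.relIndex H from rfl, h1, h2, Subgroup.index_eq_card]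
    refine Nat.card_congr (Equiv.subtypeUnivEquiv fun q => ?_)
    obtain ⟨i, rfl⟩ := Subgroup.mem_zpowers_iff.mp (hxdef q)
    exact ⟨x ^ i, Subgroup.mem_sup_right (Subgroup.zpow_mem_zpowers x i), rfl⟩
  let θH : IrrCharacter NH := ⟨fun n => (θ : N → ℂ) (eH n), CT.isIrrCharacter_comp eH.toMonoidHom eH.surjective θ.2⟩
  have hinvH : ∀ y : H, CT.conjFun NH y (θH : NH → ℂ) = θH := fun y => funext fun n => hinv (y : Γ) (eH n)
  have hEN : (fun n : NH => E ((n : H) : Γ)) = (e : ℂ) • (θH : NH → ℂ) := funext fun n => by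
    have h1 := congrFun hres ⟨⟨((n : H) : Γ), hNG n.2⟩, n.2⟩
    rw [show E ((n : H) : Γ) = (χ : G → ℂ) ⟨((n : H) : Γ), hNG n.2⟩ from hEres ⟨((n : H) : Γ), hNG n.2⟩]
    exact h1
  -- characters of `H` over `θ`
  set J := CT.InvPower.lying NH (θH : NH → ℂ) with hJ
  have hJcard : J.card = t := by
    have hc := GoodCount.card_over_good NH θH hinvH
    have hgen : ∀ y : H, (y : H ⧸ NH) ∈ Subgroup.zpowers ((⟨x, Subgroup.mem_sup_right (Subgroup.mem_zpowers x)⟩ : H) : H ⧸ NH) := by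
      intro y
      obtain ⟨a, ha, b, hb, hab⟩ := Subgroup.mem_sup_of_normal_left.mp y.2
      obtain ⟨i, rfl⟩ := Subgroup.mem_zpowers_iff.mp hb
      refine Subgroup.mem_zpowers_iff.mpr ⟨i, ?_⟩
      rw [← QuotientGroup.mk_zpow, QuotientGroup.eq, Subgroup.mem_subgroupOf]
      show (x ^ i)⁻¹ * (y : Γ) ∈ N
      rw [← hab, ← mul_assoc]
      simpa using hN.conj_mem a ha (x ^ i)⁻¹
    set X : H := ⟨x, Subgroup.mem_sup_right (Subgroup.mem_zpowers x)⟩ with hX
    obtain ⟨E₁, hE₁, hE₁res⟩ := GoodCount.exists_cyclic_ext NH θH hinvH X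
    have hall : ∀ y : H, y ∈ NH ⊔ Subgroup.zpowers X := fun y => by
      obtain ⟨i, hi⟩ := Subgroup.mem_zpowers_iff.mp (hgen y)
      rw [← QuotientGroup.mk_zpow, QuotientGroup.eq] at hi
      rw [show y = X ^ i * ((X ^ i)⁻¹ * y) by group]
      exact mul_mem (Subgroup.mem_sup_right (Subgroup.zpow_mem_zpowers X i)) (Subgroup.mem_sup_left hi)
    have hcomm : ∀ q r : H ⧸ NH, r * q = q * r := fun q r => by
      obtain ⟨a, rfl⟩ := QuotientGroup.mk_surjective q
      obtain ⟨b, rfl⟩ := QuotientGroup.mk_surjective r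
      obtain ⟨i, hi⟩ := Subgroup.mem_zpowers_iff.mp (hgen a)
      obtain ⟨j, hj⟩ := Subgroup.mem_zpowers_iff.mp (hgen b)
      rw [← hi, ← hj, ← zpow_add, ← zpow_add, add_comm]
    have hgood : ∀ q, GoodCount.Good NH θH q := fun q r _ =>
      GoodCount.ExtTo.mono NH θH (B' := NH ⊔ Subgroup.zpowers X) ⟨E₁, hE₁, fun n _ => hE₁res n⟩
        (fun y _ => hall y) (le_sup_left.trans le_sup_left)
    rw [Finset.sum_congr rfl fun q _ => by rw [if_pos (hgood q), show Nat.card (Subgroup.centralizer ({q} : Set (H ⧸ NH))) = t by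
      rw [← hidx, Subgroup.index_eq_card]
      exact Nat.card_congr (Equiv.subtypeUnivEquiv fun r => Subgroup.mem_centralizer_singleton_iff.mpr (hcomm q r))]] at hc
    rw [Finset.sum_const, Finset.card_univ, ← Nat.card_eq_fintype_card, ← Subgroup.index_eq_card, hidx, smul_eq_mul] at hc
    rw [← Nat.eq_of_mul_eq_mul_right (Nat.pos_of_ne_zero Subgroup.index_ne_zero_of_finite) hc,
      Nat.card_eq_fintype_card, Fintype.card_subtype]
    rfl
  have hdeg : ∀ η ∈ J, (η : H → ℂ) 1 = (θ : N → ℂ) 1 := by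
    have hnorm := CT.InvPower.sum_norm_over NH θH
    rw [hidx, ← hJ] at hnorm
    have hm : ∀ η ∈ J, ∃ m : ℕ, 0 < m ∧ (fun n : NH => (η : H → ℂ) n) = (m : ℂ) • (θH : NH → ℂ) := fun η hη => by
      have hne := (CT.InvPower.mem_lying NH).mp hη
      have h1 := CT.restrict_eq_smul_of_invariant NH η.2 θH.2 hne hinvH
      rw [CT.mult_spec (CT.isCharacter_restrict NH (CT.isCharacter_of_isIrr η.2)) (CT.isCharacter_of_isIrr θH.2)] at h1 hne
      exact ⟨_, Nat.pos_of_ne_zero fun h0 => hne (by rw [h0, Nat.cast_zero]), h1⟩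
    choose m hm0 hm using hm
    rw [← Finset.sum_attach, Finset.sum_congr rfl (g := fun η : J => ((m η.1 η.2 ^ 2 : ℕ) : ℂ)) fun η _ => by
      rw [hm η.1 η.2, CT.classInner_smul_left, CT.classInner_smul_right, CT.irr_inner_self θH.2, map_natCast]
      push_cast; ring] at hnorm
    rw [← Nat.cast_sum, Nat.cast_inj] at hnorm
    intro η hη
    have h1 : m η hη = 1 := by
      by_contra hne
      have h2 : ∑ _η : J, 1 < ∑ η : J, m η.1 η.2 ^ 2 := Finset.sum_lt_sum
        (fun η _ => Nat.one_le_pow _ _ (hm0 η.1 η.2))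
        ⟨⟨η, hη⟩, Finset.mem_univ _, by
          have := hm0 η hη
          calc 1 < m η hη := by omega
            _ ≤ m η hη ^ 2 := Nat.le_self_pow two_ne_zero _⟩
      rw [Finset.sum_const, Finset.card_univ, Fintype.card_coe, hJcard, smul_eq_mul, mul_one] at h2
      rw [← Finset.univ_eq_attach] at hnorm
      omega
    have h3 := congrFun (hm η hη) 1
    simp only [h1, Nat.cast_one, one_smul, OneMemClass.coe_one] at h3
    rw [h3]
    exact congrArg (θ : N → ℂ) (map_one eH)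
  -- the restriction of the extension
  have hEH : IsCharacter H (fun y : H => E y) := CT.isCharacter_restrict H (CT.isCharacter_of_isIrr hE)
  set a : IrrCharacter H → ℕ := fun η => CT.mult (fun y : H => E y) η with ha
  have hzero : ∀ η : IrrCharacter H, η ∉ J → a η = 0 := by
    intro η hη
    by_contra hne
    apply hη
    obtain ⟨ψ, hψ⟩ := CT.exists_constituent_restrict NH η.2
    have hin : Cfsg.classInner (fun y : H => E y) (η : H → ℂ) ≠ 0 := by
      rw [CT.mult_spec hEH (CT.isCharacter_of_isIrr η.2)]; exact Nat.cast_ne_zero.mpr hne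
    have h := CT.classInner_eq_of_res_ne_zero hEH η.2 (CT.isCharacter_of_isIrr ψ.2) hin hψ
    rw [show (fun n : NH => (fun y : H => E y) n) = (e : ℂ) • (θH : NH → ℂ) from hEN, CT.classInner_smul_left] at h
    rw [← CT.eq_of_inner_ne_zero θH.2 ψ.2 (right_ne_zero_of_mul h)] at hψ
    exact (CT.InvPower.mem_lying NH).mpr hψ
  have hsumJ : ∀ f : IrrCharacter H → ℂ, (∀ η, a η = 0 → f η = 0) → ∑ η, f η = ∑ η ∈ J, f η := fun f hf =>
    (Finset.sum_subset (Finset.subset_univ J) fun η _ hη => hf η (hzero η hη)).symm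
  have hsum1 : ∑ η ∈ J, (a η : ℤ) = e := by
    have h := congrFun (CT.character_eq_sum hEH) 1
    rw [Finset.sum_apply] at h
    simp only [Pi.smul_apply, smul_eq_mul] at h
    rw [hsumJ _ (fun η h0 => by simp only [ha] at h0; rw [h0]; simp),
      Finset.sum_congr rfl fun η hη => by rw [hdeg η hη], ← Finset.sum_mul] at h
    have h1 : E ((1 : H) : Γ) = (e : ℂ) * (θ : N → ℂ) 1 := by
      have := congrFun hEN 1
      simp only [Pi.smul_apply, smul_eq_mul, OneMemClass.coe_one] at this ⊢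
      rw [this]
      exact congrArg _ (congrArg (θ : N → ℂ) (map_one eH))
    rw [h1] at h
    have h2 := mul_right_cancel₀ (CT.irr_one_ne_zero θ.2) h
    rw [← Nat.cast_sum] at h2
    rw [← Nat.cast_sum, Nat.cast_inj]
    exact_mod_cast h2.symm
  have hsum2 : (t : ℤ) * ∑ η ∈ J, (a η : ℤ) ^ 2 = (e : ℤ) ^ 2 + t - 1 := by
    have hexp := CT.classInner_eq_sum (f := fun y : H => E y) (g := fun y : H => E y)
      (CT.isClassFunction_of_isCharacter hEH)
    simp only [CT.mult_spec hEH (CT.isCharacter_of_isIrr (Subtype.prop _)), map_natCast, ← pow_two] at hexp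
    rw [hsumJ _ (fun η h0 => by simp only [ha] at h0; rw [h0]; simp), Cfsg.classInner] at hexp
    let Ψ : (H ⧸ NH) × NH → H := fun qn => qn.1.out * qn.2
    have hΨ : Function.Bijective Ψ := by
      rw [Fintype.bijective_iff_injective_and_card]
      constructor
      · rintro ⟨q, n⟩ ⟨q', n'⟩ h
        have hq : q = q' := by
          rw [← q.out_eq', ← q'.out_eq', QuotientGroup.eq]
          have h' : q.out * (n : H) = q'.out * n' := h
          rw [show q.out⁻¹ * q'.out = (n : H) * (n' : H)⁻¹ by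
            rw [eq_mul_inv_iff_mul_eq, mul_assoc, ← h', inv_mul_cancel_left]]
          exact NH.mul_mem n.2 (NH.inv_mem n'.2)
        subst hq
        exact Prod.ext rfl (Subtype.ext (mul_left_cancel h))
      · rw [Fintype.card_prod, ← Nat.card_eq_fintype_card, ← Nat.card_eq_fintype_card,
          ← Nat.card_eq_fintype_card, ← Subgroup.index_eq_card, Subgroup.index_mul_card]
    have hrow : ∀ q : H ⧸ NH, q ≠ 1 → ∑ n : NH, F ((Ψ (q, n) : H) : Γ) = (Nat.card N : ℂ) := by
      intro q hq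
      rw [← hcoset ((q.out : H) : Γ) fun hG' => hq (by
        rw [← q.out_eq']; exact (QuotientGroup.eq_one_iff _).mpr (hHG _ q.out.2 hG'))]
      exact Fintype.sum_equiv eH.toEquiv _ _ fun n => rfl
    have hrow1 : ∑ n : NH, F ((Ψ (1, n) : H) : Γ) = (e : ℂ) ^ 2 * Nat.card N := by
      have h1 : ∀ n : NH, F (((n : H)) : Γ) = (e : ℂ) ^ 2 * ((θH : NH → ℂ) n * (starRingEnd ℂ) ((θH : NH → ℂ) n)) := fun n => by
        simp only [hF]
        rw [show E ((n : H) : Γ) = (e : ℂ) * (θH : NH → ℂ) n from congrFun hEN n, map_mul, map_natCast]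
        ring
      have hout : ((1 : H ⧸ NH).out : H) ∈ NH := (QuotientGroup.eq_one_iff _).mp (1 : H ⧸ NH).out_eq'
      rw [Fintype.sum_equiv (Equiv.mulLeft (⟨_, hout⟩ : NH)) (fun n : NH => F ((Ψ (1, n) : H) : Γ))
        (fun n : NH => F ((n : H) : Γ)) fun n => rfl, Finset.sum_congr rfl fun n _ => h1 n, ← Finset.mul_sum,
        ← CT.classInner_self_eq_sum, CT.irr_inner_self θH.2, mul_one, Nat.card_congr eH.toEquiv]
    have htotal : ∑ y : H, E y * (starRingEnd ℂ) (E y) = ((e : ℂ) ^ 2 + (t : ℂ) - 1) * Nat.card N := by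
      rw [← (Equiv.ofBijective Ψ hΨ).sum_comp, Fintype.sum_prod_type,
        ← Finset.add_sum_erase _ _ (Finset.mem_univ (1 : H ⧸ NH))]
      simp only [Equiv.ofBijective_apply]
      rw [show ∑ n : NH, E ((Ψ (1, n) : H) : Γ) * (starRingEnd ℂ) (E ((Ψ (1, n) : H) : Γ)) = (e : ℂ) ^ 2 * Nat.card N from hrow1,
        Finset.sum_congr rfl fun q hq => hrow q (Finset.ne_of_mem_erase hq), Finset.sum_const,
        Finset.card_erase_of_mem (Finset.mem_univ _), Finset.card_univ, ← Nat.card_eq_fintype_card,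
        ← Subgroup.index_eq_card, hidx, nsmul_eq_mul, Nat.cast_sub (Nat.one_le_iff_ne_zero.mpr
          Subgroup.index_ne_zero_of_finite), Nat.cast_one]
      ring
    rw [htotal, ← NH.index_mul_card, hidx, Nat.card_congr eH.toEquiv, Nat.cast_mul] at hexp
    have ht0 : (t : ℂ) ≠ 0 := Nat.cast_ne_zero.mpr Subgroup.index_ne_zero_of_finite
    have hN0 : (Nat.card N : ℂ) ≠ 0 := CT.card_ne_zero
    field_simp at hexp
    have h3 : ((t : ℤ) : ℂ) * ((∑ η ∈ J, (a η : ℤ) ^ 2 : ℤ) : ℂ) = (((e : ℤ) ^ 2 + t - 1 : ℤ) : ℂ) := by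
      push_cast
      linear_combination -hexp
    exact_mod_cast h3
  -- arithmetic
  have ht2 : 2 ≤ (t : ℤ) := by exact_mod_cast Subgroup.one_lt_index_of_ne_top hGlt
  set q := (e : ℤ) / t with hq
  set r := (e : ℤ) % t with hr
  have hqr : (t : ℤ) * q + r = e := Int.mul_ediv_add_emod _ _
  have hr0 : 0 ≤ r := Int.emod_nonneg _ (by omega)
  have hrt : r < t := Int.emod_lt_of_pos _ (by omega)
  have hc1 : ∑ η ∈ J, ((a η : ℤ) - q) = r := by
    rw [Finset.sum_sub_distrib, hsum1, Finset.sum_const, hJcard, nsmul_eq_mul]; linarith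
  have hc2 : (t : ℤ) * ∑ η ∈ J, ((a η : ℤ) - q) ^ 2 = r ^ 2 + t - 1 := by
    have h : ∑ η ∈ J, ((a η : ℤ) - q) ^ 2 = (∑ η ∈ J, (a η : ℤ) ^ 2) - 2 * q * e + t * q ^ 2 := by
      rw [Finset.sum_congr rfl (g := fun η => (a η : ℤ) ^ 2 - 2 * q * (a η : ℤ) + q ^ 2) fun η _ => by ring,
        Finset.sum_add_distrib, Finset.sum_sub_distrib, ← Finset.mul_sum, hsum1, Finset.sum_const, hJcard, nsmul_eq_mul]
    rw [h]
    linear_combination hsum2 + ((t : ℤ) * q - (e : ℤ) - r) * hqr
  have hle : r ≤ ∑ η ∈ J, ((a η : ℤ) - q) ^ 2 := hc1 ▸ Finset.sum_le_sum fun η _ => Int.le_self_sq _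
  have hkey : (r - 1) * ((t : ℤ) - r - 1) ≤ 0 := by nlinarith
  rcases lt_trichotomy r 1 with h | h | h
  · exfalso
    have hr' : r = 0 := by omega
    rw [hr'] at hc2
    have hd : (t : ℤ) ∣ 1 := ⟨1 - ∑ η ∈ J, ((a η : ℤ) - q) ^ 2, by linarith⟩
    have := Int.le_of_dvd one_pos hd
    omega
  · exact Or.inl ⟨q, by linarith⟩
  · refine Or.inr ⟨q + 1, ?_⟩
    have : (t : ℤ) - r - 1 ≤ 0 := by nlinarith
    linarith

end Cfsg.Agent.S4454
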