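import Cfsg.Statements.S4455
import Cfsg.Agent.Lib.CoprimeExt.Residual
-- import your own Cfsg.Agent.* helpers here

set_option autoImplicit false
open Cfsg

namespace Cfsg.Agent.S4455

/-- Fix a prime p and a finite group G. Let s be the sum of χ(1)² over the irreducible characters χ of G whose degree is not divisible by p and whose determinantal order o(χ) is not divisible by p. Then the order of O^p(G), the subgroup generated by the elements of order prime to p, is congruent to s modulo p. -/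
theorem result {G : Type*} [Group G] [Finite G] (p : ℕ) (hp : p.Prime) : (Nat.card (Cfsg.pResidual p G) : ℤ) ≡ (∑ᶠ χ ∈ {χ : Cfsg.IrrCharacter G | ¬ p ∣ Cfsg.charDegree (χ : G → ℂ) ∧ ¬ p ∣ Cfsg.detOrder (χ : G → ℂ)}, (Cfsg.charDegree (χ : G → ℂ) : ℤ) ^ 2) [ZMOD p] := by
  classical
  haveI := Fact.mk hp
  haveI := Fintype.ofFinite G
  haveI := CT.irr_finite G
  haveI : (Cfsg.pResidual p G).Characteristic := Transfer.pResidual_characteristic G p
  set K := Cfsg.pResidual p G with hK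
  obtain ⟨k, hk⟩ := Transfer.exists_index_pResidual_eq_pow (G := G) (p := p)
  rw [← ZMod.intCast_eq_intCast_iff]
  rw [finsum_mem_eq_toFinset_sum]
  push_cast
  -- the sum of squares in the residual
  have h1 : (Nat.card K : ZMod p) =
      ∑ θ : Cfsg.IrrCharacter K, ((CT.deg (θ : K → ℂ) : ZMod p) ^ 2) := by
    have h : ∑ θ : Cfsg.IrrCharacter K, CT.deg (θ : K → ℂ) ^ 2 = Nat.card K := by
      rw [← Nat.cast_inj (R := ℂ), Nat.cast_sum, ← CT.sum_degree_sq]
      refine Finset.sum_congr rfl fun θ _ => ?_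
      rw [Nat.cast_pow, ← CT.deg_eq (CT.isCharacter_of_isIrr θ.2)]
    rw [← h]
    push_cast
    rfl
  -- orbits of the quotient
  let act : G ⧸ K →* Equiv.Perm (Cfsg.IrrCharacter K) :=
    QuotientGroup.lift K (CoprimeExt.conjPerm K) fun n hn => by
      rw [MonoidHom.mem_ker]
      exact Equiv.ext fun θ => Subtype.ext
        (CT.conjFun_of_mem K (CT.isClassFunction_of_isIrr θ.2) (inv_mem hn))
  have hQ : IsPGroup p (G ⧸ K) := Transfer.isPGroup_quotient_pResidual
  rw [h1, Glauberman.sum_eq_sum_fixed hQ act _ ?_]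
  swap
  · intro q θ
    induction q using QuotientGroup.induction_on with
    | _ g =>
      congr 2
      show CT.deg _ = CT.deg _
      unfold CT.deg
      rw [show ((act (QuotientGroup.mk g) θ : Cfsg.IrrCharacter K) : K → ℂ) 1 =
        (θ : K → ℂ) (MulAut.conjNormal g⁻¹ 1) from rfl, map_one]
  have hfix : ∀ θ : Cfsg.IrrCharacter K, (∀ q, act q θ = θ) ↔
      ∀ (g : G) (n : K), (θ : K → ℂ) ⟨g * n * g⁻¹, (inferInstance : K.Normal).conj_mem n n.2 g⟩ =
        (θ : K → ℂ) n := by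
    intro θ
    constructor
    · intro h g n
      have := congrFun (congrArg Subtype.val (h (QuotientGroup.mk g⁻¹))) n
      rw [show ((act (QuotientGroup.mk g⁻¹) θ : Cfsg.IrrCharacter K) : K → ℂ) n =
        (θ : K → ℂ) (MulAut.conjNormal g⁻¹⁻¹ n) from rfl, inv_inv] at this
      exact this
    · intro h q
      induction q using QuotientGroup.induction_on with
      | _ g => exact Subtype.ext (funext fun n => h g⁻¹ n)
  rw [← Finset.sum_filter_of_ne (p := fun θ : Cfsg.IrrCharacter K => ¬ p ∣ CT.deg (θ : K → ℂ))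
    (fun θ _ h hd => h (by rw [(ZMod.natCast_eq_zero_iff _ p).mpr hd]; simp))]
  -- the matching
  have hr := fun (χ : Cfsg.IrrCharacter G) (h : ¬ p ∣ CT.deg (χ : G → ℂ) ∧ ¬ p ∣ Cfsg.detOrder (χ : G → ℂ)) =>
    CoprimeExt.restrict_residual_irr (p := p) χ h.1 h.2
  choose r hr using hr
  have hmem : ∀ χ : Cfsg.IrrCharacter G, χ ∈ ({χ : Cfsg.IrrCharacter G |
      ¬ p ∣ Cfsg.charDegree (χ : G → ℂ) ∧ ¬ p ∣ Cfsg.detOrder (χ : G → ℂ)}).toFinset →
      ¬ p ∣ CT.deg (χ : G → ℂ) ∧ ¬ p ∣ Cfsg.detOrder (χ : G → ℂ) :=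
    fun χ h => (Set.mem_toFinset.mp h :)
  have hdeg : ∀ χ h, CT.deg (r χ h : K → ℂ) = CT.deg (χ : G → ℂ) := by
    intro χ h
    unfold CT.deg
    rw [← hr χ h 1]
    rfl
  refine (Finset.sum_bij (fun χ h => r χ (hmem χ h)) ?_ ?_ ?_ ?_).symm
  · intro χ h
    refine Finset.mem_filter.mpr ⟨Finset.mem_filter.mpr ⟨Finset.mem_univ _, (hfix _).mpr
      fun g n => ?_⟩, by rw [hdeg]; exact (hmem χ h).1⟩
    rw [← hr, ← hr]
    exact CT.isClassFunction_isConj (CT.isClassFunction_of_isIrr χ.2)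
      (isConj_iff.mpr ⟨g⁻¹, by group⟩)
  · intro χ h χ' h' e
    have hd := hmem χ h
    have hd' := hmem χ' h'
    have hc1 : Nat.Coprime K.index (CT.deg (r χ hd : K → ℂ)) := by
      rw [hk, hdeg]; exact Nat.Coprime.pow_left k (hp.coprime_iff_not_dvd.mpr hd.1)
    have hc2 : Nat.Coprime K.index (Cfsg.detOrder (r χ hd : K → ℂ)) := by
      rw [hk]
      exact Nat.Coprime.pow_left k (hp.coprime_iff_not_dvd.mpr
        (CoprimeExt.not_dvd_detOrder_residual _ (CT.isCharacter_of_isIrr (r χ hd).2)))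
    obtain ⟨ψ, -, hu⟩ := CoprimeExt.exists_coprime_ext K (r χ hd) (fun g n => by
      rw [← hr, ← hr]
      exact CT.isClassFunction_isConj (CT.isClassFunction_of_isIrr χ.2)
        (isConj_iff.mpr ⟨g⁻¹, by group⟩)) hc1 hc2
    have hcop : ∀ {m : ℕ}, ¬ p ∣ m → Nat.Coprime K.index m := fun hm => by
      rw [hk]; exact Nat.Coprime.pow_left k (hp.coprime_iff_not_dvd.mpr hm)
    have e1 := hu χ (CT.isCharacter_of_isIrr χ.2) (hr χ hd) (hcop hd.2)
    have e2 := hu χ' (CT.isCharacter_of_isIrr χ'.2)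
      (fun n => (hr χ' hd' n).trans (by rw [e])) (hcop hd'.2)
    exact Subtype.ext (e1.trans e2.symm)
  · intro θ h
    obtain ⟨h2, hθd⟩ := Finset.mem_filter.mp h
    have hinv := (hfix θ).mp (Finset.mem_filter.mp h2).2
    have hdo := CoprimeExt.not_dvd_detOrder_residual _ (CT.isCharacter_of_isIrr θ.2)
    obtain ⟨χ, ⟨hχ, hχo⟩, -⟩ := CoprimeExt.exists_coprime_ext K θ hinv
      (by rw [hk]; exact Nat.Coprime.pow_left k (hp.coprime_iff_not_dvd.mpr hθd))
      (by rw [hk]; exact Nat.Coprime.pow_left k (hp.coprime_iff_not_dvd.mpr hdo))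
    have hd1 : CT.deg (θ : K → ℂ) = CT.deg (χ : G → ℂ) := by
      unfold CT.deg
      rw [← hχ 1]
      rfl
    have hχmem : χ ∈ ({χ : Cfsg.IrrCharacter G |
        ¬ p ∣ Cfsg.charDegree (χ : G → ℂ) ∧ ¬ p ∣ Cfsg.detOrder (χ : G → ℂ)}).toFinset :=
      Set.mem_toFinset.mpr ⟨show ¬ p ∣ CT.deg (χ : G → ℂ) from hd1 ▸ hθd, hχo ▸ hdo⟩
    exact ⟨χ, hχmem, Subtype.ext (funext fun n => (hr χ _ n).symm.trans (hχ n))⟩
  · intro χ h
    rw [hdeg]
    rfl

end Cfsg.Agent.S4455
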