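import Cfsg.Statements.S4456
import Cfsg.Agent.S4455
-- import your own Cfsg.Agent.* helpers here

set_option autoImplicit false
open Cfsg

namespace Cfsg.Agent.S4456

/-- Let p be a prime and G a finite group such that p divides the degree of every irreducible character of G of degree greater than one. Then G has a normal p-complement: a normal subgroup of order prime to p whose index is a power of p. -/
theorem result {G : Type*} [Group G] [Finite G] (p : ℕ) (hp : p.Prime) (hdeg : ∀ χ : Cfsg.IrrCharacter G, Cfsg.charDegree (χ : G → ℂ) ≠ 1 → p ∣ Cfsg.charDegree (χ : G → ℂ)) : ∃ N : Subgroup G, N.Normal ∧ (Nat.card N).Coprime p ∧ ∃ k : ℕ, N.index = p ^ k := by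
  classical
  haveI := Fact.mk hp
  haveI := Fintype.ofFinite G
  haveI := CT.irr_finite G
  have hinj : Function.Injective (fun lam : G →* ℂˣ => CT.linIrr lam) := fun a b h =>
    MonoidHom.ext fun g => Units.ext (congrFun (congrArg Subtype.val h) g)
  haveI : Finite (G →* ℂˣ) := Finite.of_injective _ hinj
  have hdet : ∀ lam : G →* ℂˣ,
      Cfsg.detOrder (CT.linIrr lam : G → ℂ) = orderOf lam := by
    intro lam
    have h : (CT.linIrr lam : G → ℂ) = (CT.linRep lam).character := (CT.linRep_character lam).symm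
    rw [h, CoprimeExt.detOrder_eq]
    congr 1
    refine MonoidHom.ext fun g => Units.ext ?_
    rw [CoprimeExt.detHom_apply]
    show LinearMap.det ((lam g : ℂ) • (LinearMap.id : (Fin 1 → ℂ) →ₗ[ℂ] (Fin 1 → ℂ))) = _
    simp
  let H : Subgroup (G →* ℂˣ) :=
    { carrier := {lam | ¬ p ∣ orderOf lam}
      one_mem' := by simp [hp.not_dvd_one, hp.ne_one]
      mul_mem' := fun {a b} ha hb h => by
        rcases (Nat.Prime.dvd_mul hp).mp (h.trans ((Commute.all a b).orderOf_mul_dvd_mul_orderOf))
          with h | h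
        exacts [ha h, hb h]
      inv_mem' := fun {a} ha => by simpa using ha }
  have hH : ¬ p ∣ Nat.card H := by
    intro h
    obtain ⟨x, hx⟩ := exists_prime_orderOf_dvd_card' p h
    have := x.2
    rw [← Subgroup.orderOf_coe] at hx
    exact this (hx ▸ dvd_rfl)
  haveI : Fintype H := Fintype.ofFinite _
  have hcong := Cfsg.Agent.S4455.result (G := G) p hp
  rw [← ZMod.intCast_eq_intCast_iff, finsum_mem_eq_toFinset_sum] at hcong
  push_cast at hcong
  have hset : ∀ χ : Cfsg.IrrCharacter G, ¬ p ∣ Cfsg.charDegree (χ : G → ℂ) →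
      ∃ lam : G →* ℂˣ, χ = CT.linIrr lam := by
    intro χ h
    have h1 : Cfsg.charDegree (χ : G → ℂ) = 1 := by
      by_contra h1
      exact h (hdeg χ h1)
    obtain ⟨lam, hlam⟩ := CT.exists_hom_of_degree_one (CT.isCharacter_of_isIrr χ.2)
      (by rw [CT.deg_eq (CT.isCharacter_of_isIrr χ.2)]; exact_mod_cast h1)
    exact ⟨lam, Subtype.ext hlam⟩
  have hlin1 : ∀ lam : G →* ℂˣ, Cfsg.charDegree (CT.linIrr lam : G → ℂ) = 1 := by
    intro lam
    show ⌊((lam 1 : ℂˣ) : ℂ).re⌋₊ = 1
    simp
  have hs : ((Nat.card (Cfsg.pResidual p G) : ℕ) : ZMod p) = (Nat.card H : ZMod p) := by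
    rw [hcong, Nat.card_eq_fintype_card, ← Finset.card_univ (α := H), Finset.cast_card]
    refine (Finset.sum_bij (fun (l : H) _ => CT.linIrr l.1) ?_ ?_ ?_ ?_).symm
    · intro l _
      refine Set.mem_toFinset.mpr ⟨?_, ?_⟩
      · rw [hlin1]; exact hp.not_dvd_one
      · rw [hdet]; exact l.2
    · intro a _ b _ e
      exact Subtype.ext (hinj e)
    · intro χ hχ
      obtain ⟨h1, h2⟩ := (Set.mem_toFinset.mp hχ :)
      obtain ⟨lam, rfl⟩ := hset χ h1
      exact ⟨⟨lam, by rw [hdet] at h2; exact h2⟩, Finset.mem_univ _, rfl⟩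
    · intro l _
      rw [hlin1]
      simp
  haveI : (Cfsg.pResidual p G).Characteristic := Transfer.pResidual_characteristic G p
  refine ⟨Cfsg.pResidual p G, inferInstance, ?_, Transfer.exists_index_pResidual_eq_pow⟩
  refine ((hp.coprime_iff_not_dvd).mpr fun h => hH ?_).symm
  rw [← ZMod.natCast_eq_zero_iff, hs] at h
  exact (ZMod.natCast_eq_zero_iff _ p).mp h

end Cfsg.Agent.S4456
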