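import Cfsg.Statements.S4457
import Cfsg.Agent.S4456
import Cfsg.Agent.Lib.CT.TwoDegrees

set_option autoImplicit false
set_option linter.all false
open Cfsg

namespace Cfsg.Agent.S4457

/-- Let G be a finite group whose irreducible character degrees are exactly 1 and m (m ≠ 1). Then either G has an abelian normal subgroup of index m, or m is a power of a prime p and G is the direct product of a p-group and an abelian group: there are normal subgroups P and A with P a p-group, A abelian, P ⊓ A = 1 and P ⊔ A = G. -/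
theorem result {G : Type*} [Group G] [Finite G] (m : ℕ) (hcd : ∀ χ : Cfsg.IrrCharacter G, Cfsg.charDegree (χ : G → ℂ) = 1 ∨ Cfsg.charDegree (χ : G → ℂ) = m) (hm : ∃ χ : Cfsg.IrrCharacter G, Cfsg.charDegree (χ : G → ℂ) = m) (hm1 : m ≠ 1) : (∃ A : Subgroup G, A.Normal ∧ (∀ a ∈ A, ∀ b ∈ A, a * b = b * a) ∧ A.index = m) ∨ ∃ p e : ℕ, p.Prime ∧ m = p ^ e ∧ ∃ P A : Subgroup G, P.Normal ∧ A.Normal ∧ IsPGroup p P ∧ (∀ a ∈ A, ∀ b ∈ A, a * b = b * a) ∧ P ⊓ A = ⊥ ∧ P ⊔ A = ⊤ := by
  classical
  letI := Fintype.ofFinite G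
  have hcd' : ∀ χ : G → ℂ, Cfsg.IsIrrCharacter G χ → CT.deg χ = 1 ∨ CT.deg χ = m :=
    fun χ hχ => hcd ⟨χ, hχ⟩
  obtain ⟨χ₀, hχ₀⟩ := hm
  have hm0 : m ≠ 0 := by
    rw [← hχ₀]; exact (CT.deg_pos χ₀.2).ne'
  have hdiv : ∀ p : ℕ, p ∣ m → ∀ χ : Cfsg.IrrCharacter G,
      Cfsg.charDegree (χ : G → ℂ) ≠ 1 → p ∣ Cfsg.charDegree (χ : G → ℂ) :=
    fun p hp χ h => ((hcd χ).resolve_left h) ▸ hp
  by_cases hpp : ∃ p e : ℕ, p.Prime ∧ m = p ^ e
  · obtain ⟨p, e, hp, hpe⟩ := hpp
    haveI := Fact.mk hp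
    have he : e ≠ 0 := fun h => hm1 (by rw [hpe, h, pow_zero])
    obtain ⟨N, hN, hNc, k, hk⟩ := S4456.result p hp (hdiv p (hpe ▸ dvd_pow_self p he))
    haveI := hN
    have hcomm := TwoDeg.comm_of_deg_coprime N hcd' (hpe ▸ Nat.Coprime.pow_right e hNc)
    have hcop : (Nat.card N).Coprime N.index := hk ▸ Nat.Coprime.pow_right k hNc
    haveI : Group.IsNilpotent (G ⧸ N) :=
      (IsPGroup.of_card (hk ▸ (Subgroup.index_eq_card N).symm) : IsPGroup p (G ⧸ N)).isNilpotent
    rcases TwoDeg.dichotomy N m hcomm hcop hcd' with hc | hA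
    · obtain ⟨P⟩ := (inferInstance : Nonempty (Sylow p G))
      have hPc : Nat.card (P : Subgroup G) = p ^ k := by
        rw [P.card_eq_multiplicity, ← N.card_mul_index, hk, Nat.factorization_mul Nat.card_pos.ne'
          (pow_ne_zero _ hp.ne_zero), Finsupp.add_apply,
          Nat.factorization_eq_zero_of_not_dvd ((hp.coprime_iff_not_dvd).mp hNc.symm), zero_add,
          hp.factorization_pow, Finsupp.single_eq_same]
      have hinf : (P : Subgroup G) ⊓ N = ⊥ := by
        rw [Subgroup.eq_bot_iff_card]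
        refine Nat.eq_one_of_dvd_coprimes (Nat.Coprime.pow_right k hNc.symm.symm).symm
          (hPc ▸ Subgroup.card_dvd_of_le inf_le_left) (Subgroup.card_dvd_of_le inf_le_right)
      have hcompl : Subgroup.IsComplement' (P : Subgroup G) N :=
        Subgroup.isComplement'_of_coprime (by rw [hPc, ← hk, mul_comm]; exact N.card_mul_index)
          (by rw [hPc]; exact Nat.Coprime.pow_left k hNc.symm)
      have hsup : (P : Subgroup G) ⊔ N = ⊤ := hcompl.sup_eq_top
      have hnorm : (P : Subgroup G).Normal := by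
        refine ⟨fun x hx g => ?_⟩
        obtain ⟨⟨⟨y, hy⟩, ⟨z, hz⟩⟩, hyz⟩ := (hcompl.2 g)
        have hzc : ∀ w : G, w * z = z * w := Subgroup.mem_center_iff.mp (hc hz)
        have e : g * x * g⁻¹ = y * x * y⁻¹ := by
          rw [← hyz]
          show y * z * x * (y * z)⁻¹ = _
          rw [mul_inv_rev, mul_assoc y z x, ← hzc x]
          group
        rw [e]
        exact (P : Subgroup G).mul_mem ((P : Subgroup G).mul_mem hy hx)
          ((P : Subgroup G).inv_mem hy)
      exact Or.inr ⟨p, e, hp, hpe, P, N, hnorm, hN, P.isPGroup',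
        fun a ha b hb => congrArg Subtype.val (hcomm ⟨a, ha⟩ ⟨b, hb⟩), hinf, hsup⟩
    · exact Or.inl hA
  · left
    have hex : ∀ p : {p : ℕ // p.Prime ∧ p ∣ m}, ∃ N : Subgroup G, N.Normal ∧
        (Nat.card N).Coprime p.1 ∧ ∃ k : ℕ, N.index = p.1 ^ k :=
      fun p => S4456.result p.1 p.2.1 (hdiv p.1 p.2.2)
    choose N hN hNc k hk using hex
    let M : Subgroup G := ⨅ p, N p
    haveI : M.Normal := Subgroup.normal_iInf_normal hN
    have hab : ∀ p, ∀ a b : G, a * b * a⁻¹ * b⁻¹ ∈ N p := by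
      intro p a b
      haveI := hN p
      have hq : ∀ x y : G ⧸ N p, x * y = y * x := by
        rw [CT.comm_iff_all_linear]
        intro β
        have hχ := CT.isIrr_inflate (N p)
          (χ := fun g => (β : G ⧸ N p → ℂ) (QuotientGroup.mk g)) β.2 fun g => rfl
        have h1 : CT.deg (β : G ⧸ N p → ℂ) ∣ Nat.card (G ⧸ N p) := by
          obtain ⟨n, ρ, hρ, e⟩ := β.2
          haveI := hρ
          rw [← e, CT.deg_eq_finrank]
          exact CT.finrank_dvd_card ρ
        rw [← Subgroup.index_eq_card, hk p] at h1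
        rcases hcd' _ hχ with h | h
        · rw [CT.deg_eq (CT.isCharacter_of_isIrr β.2)]
          exact_mod_cast h
        · have h' : CT.deg (β : G ⧸ N p → ℂ) = m := h
          obtain ⟨i, -, hi⟩ := (Nat.dvd_prime_pow p.2.1).mp (h' ▸ h1)
          exact absurd ⟨p.1, i, p.2.1, hi⟩ hpp
      rw [← QuotientGroup.eq_one_iff]
      simp only [QuotientGroup.mk_mul, QuotientGroup.mk_inv]
      rw [hq (a : G ⧸ N p)]
      group
    have habM : ∀ a b : G, a * b * a⁻¹ * b⁻¹ ∈ M := fun a b =>
      Subgroup.mem_iInf.mpr fun p => hab p a b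
    have hMm : (Nat.card M).Coprime m := by
      refine Nat.coprime_of_dvd fun q hq hqM hqm => ?_
      have h1 := hqM.trans (Subgroup.card_dvd_of_le (iInf_le N ⟨q, hq, hqm⟩))
      exact (hq.coprime_iff_not_dvd.mp (hNc ⟨q, hq, hqm⟩).symm) h1
    have hcop : (Nat.card M).Coprime M.index := by
      refine Nat.coprime_of_dvd fun q hq hqM hqi => ?_
      haveI := Fact.mk hq
      rw [Subgroup.index_eq_card] at hqi
      obtain ⟨x, hx⟩ := exists_prime_orderOf_dvd_card' q hqi
      obtain ⟨g, rfl⟩ := QuotientGroup.mk_surjective x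
      have hg : g ∉ M := fun h => by
        rw [(QuotientGroup.eq_one_iff g).mpr h, orderOf_one] at hx
        exact hq.ne_one hx.symm
      obtain ⟨p, hp⟩ : ∃ p, g ∉ N p := by
        by_contra h
        push Not at h
        exact hg (Subgroup.mem_iInf.mpr h)
      haveI := hN p
      have hgq : g ^ q ∈ M := by
        rw [← QuotientGroup.eq_one_iff, QuotientGroup.mk_pow, ← hx, pow_orderOf_eq_one]
      have h1 : orderOf ((g : G) : G ⧸ N p) = q := by
        refine orderOf_eq_prime ?_ (fun h => hp ((QuotientGroup.eq_one_iff g).mp h))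
        rw [← QuotientGroup.mk_pow, QuotientGroup.eq_one_iff]
        exact Subgroup.mem_iInf.mp hgq p
      have h2 : q ∣ p.1 ^ k p := by
        rw [← hk p, Subgroup.index_eq_card, ← h1]
        exact orderOf_dvd_natCard _
      have h3 : q = p.1 := (Nat.prime_dvd_prime_iff_eq hq p.2.1).mp (hq.dvd_of_dvd_pow h2)
      exact (Nat.Prime.coprime_iff_not_dvd hq).mp ((Nat.Coprime.coprime_dvd_right
        (h3 ▸ p.2.2) hMm).symm) hqM
    have hcomm := TwoDeg.comm_of_deg_coprime M hcd' hMm
    have hqc : ∀ x y : G ⧸ M, x * y = y * x := by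
      intro x y
      induction x using QuotientGroup.induction_on with | _ a =>
      induction y using QuotientGroup.induction_on with | _ b =>
      have h := (QuotientGroup.eq_one_iff (N := M) _).mpr (habM a b)
      simp only [QuotientGroup.mk_mul, QuotientGroup.mk_inv] at h
      rwa [mul_inv_eq_one, mul_inv_eq_iff_eq_mul] at h
    haveI : IsMulCommutative (G ⧸ M) := ⟨⟨hqc⟩⟩
    haveI : Group.IsNilpotent (G ⧸ M) :=
      letI : CommGroup (G ⧸ M) := { (inferInstance : Group (G ⧸ M)) with mul_comm := hqc }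
      CommGroup.isNilpotent
    rcases TwoDeg.dichotomy M m hcomm hcop hcd' with hc | hA
    · exfalso
      apply hm1
      have hG := TwoDeg.comm_of_central M ⊤ hcop
        (fun g _ => Subgroup.mem_centralizer_iff.mpr fun n hn =>
          (Subgroup.mem_center_iff.mp (hc hn) g).symm)
        (fun a _ b _ => habM a b)
      rw [← hχ₀]
      have h := CT.irr_degree_one_of_comm (fun a b => hG a trivial b trivial) χ₀.2
      rw [CT.deg_eq (CT.isCharacter_of_isIrr χ₀.2)] at h
      exact_mod_cast h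
    · exact hA

end Cfsg.Agent.S4457
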