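import Cfsg.Statements.S4458
import Cfsg.Agent.S4457
import Cfsg.Agent.Lib.CT.Brauer
import Cfsg.Agent.Lib.CT.Quasielementary

set_option autoImplicit false
set_option linter.all false
open Cfsg

namespace Cfsg.Agent.S4458

/-- A nonlinear irreducible degree squares to less than the group order. -/
theorem deg_sq_lt {G : Type*} [Group G] [Finite G] (χ : Cfsg.IrrCharacter G)
    (h : CT.deg (χ : G → ℂ) ≠ 1) : CT.deg (χ : G → ℂ) ^ 2 < Nat.card G := by
  classical
  letI := Fintype.ofFinite G
  have hs : ∑ c : Cfsg.IrrCharacter G, CT.deg (c : G → ℂ) ^ 2 = Nat.card G := by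
    have h := CT.sum_degree_sq (G := G)
    simp only [CT.deg_eq (CT.isCharacter_of_isIrr (Subtype.prop _))] at h
    exact_mod_cast h
  have hne : χ ≠ CT.trivIrr G := fun he => h (by rw [he]; simp [CT.deg])
  have h1 : ∑ c ∈ ({χ, CT.trivIrr G} : Finset (Cfsg.IrrCharacter G)), CT.deg (c : G → ℂ) ^ 2 ≤
      Nat.card G := hs ▸ Finset.sum_le_sum_of_subset (Finset.subset_univ _)
  rw [Finset.sum_pair hne] at h1
  have h2 : CT.deg (CT.trivIrr G : G → ℂ) = 1 := by simp [CT.deg]
  rw [h2] at h1
  omega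

theorem nilpotent_of_prod {G : Type*} [Group G] (P A : Subgroup G) [P.Normal] [A.Normal]
    [Group.IsNilpotent P] (hAc : ∀ a ∈ A, ∀ b ∈ A, a * b = b * a) (hinf : P ⊓ A = ⊥)
    (hsup : P ⊔ A = ⊤) : Group.IsNilpotent G := by
  have hcen : A ≤ Subgroup.center G := by
    intro a ha
    rw [Subgroup.mem_center_iff]
    intro g
    have hg : g ∈ P ⊔ A := hsup ▸ Subgroup.mem_top g
    obtain ⟨x, hx, y, hy, rfl⟩ := Subgroup.mem_sup_of_normal_right.mp hg
    have h1 : Commute x a := Subgroup.commute_of_normal_of_disjoint P A inferInstance inferInstance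
      (disjoint_iff.mpr hinf) x a hx ha
    exact (h1.mul_left (hAc y hy a ha)).eq
  haveI : Group.IsNilpotent (G ⧸ A) := by
    refine Group.nilpotent_of_surjective ((QuotientGroup.mk' A).comp P.subtype) ?_
    intro q
    induction q using QuotientGroup.induction_on with | _ g =>
    have hg : g ∈ P ⊔ A := hsup ▸ Subgroup.mem_top g
    obtain ⟨x, hx, y, hy, rfl⟩ := Subgroup.mem_sup_of_normal_right.mp hg
    refine ⟨⟨x, hx⟩, ?_⟩
    show ((x : G) : G ⧸ A) = ((x * y : G) : G ⧸ A)
    rw [QuotientGroup.eq, inv_mul_cancel_left]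
    exact hy
  exact Subgroup.isNilpotent_of_ker_le_center (QuotientGroup.mk' A)
    (by rw [QuotientGroup.ker_mk']; exact hcen)

/-- Taketa: a nilpotent group with two character degrees is metabelian. -/
theorem metabelian_of_nilpotent {G : Type*} [Group G] [Finite G] [Group.IsNilpotent G] (m : ℕ)
    (hcd : ∀ χ : G → ℂ, Cfsg.IsIrrCharacter G χ → CT.deg χ = 1 ∨ CT.deg χ = m) (hm : m ≠ 0) :
    ∀ a ∈ commutator G, ∀ b ∈ commutator G, a * b = b * a := by
  classical
  letI := Fintype.ofFinite G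
  intro a ha b hb
  have key : ∀ χ : Cfsg.IrrCharacter G,
      (χ : G → ℂ) (a * b * a⁻¹ * b⁻¹) = (χ : G → ℂ) 1 := by
    intro χ
    rcases hcd _ χ.2 with h1 | h1
    · refine CT.linear_trivial_on_commutator (CT.isCharacter_of_isIrr χ.2)
        (by rw [CT.deg_eq (CT.isCharacter_of_isIrr χ.2), h1, Nat.cast_one]) _ ?_
      exact mul_mem (mul_mem (mul_mem ha hb) (inv_mem ha)) (inv_mem hb)
    obtain ⟨H, lam, hlam⟩ := CT.nilpotent_monomial χ.2
    letI := Fintype.ofFinite H
    have hHi : H.index = m := by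
      rw [← h1, hlam]
      have h := CT.deg_eq (CT.isCharacter_indFun H (CT.isCharacter_lin lam))
      rw [CT.indFun_one_eval] at h
      simp only [map_one, Units.val_one, mul_one] at h
      exact_mod_cast h
    have hπ := CT.isCharacter_indFun H (CT.isCharacter_one (G := H))
    have hπd : CT.deg (Cfsg.indFun H (fun _ : H => (1 : ℂ))) = m := by
      have h := CT.deg_eq hπ
      rw [CT.indFun_one_eval, mul_one, hHi] at h
      exact_mod_cast h.symm
    have htriv : CT.mult (Cfsg.indFun H (fun _ : H => (1 : ℂ))) (CT.trivIrr G : G → ℂ) ≠ 0 := by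
      intro h0
      have h := CT.frobenius_reciprocity H (fun _ : H => (1 : ℂ))
        (CT.isClassFunction_of_isIrr (CT.trivIrr G).2)
      rw [CT.mult_spec hπ (CT.isCharacter_of_isIrr (CT.trivIrr G).2), h0] at h
      simp only [CT.trivIrr_apply] at h
      rw [CT.irr_inner_self CT.isIrrCharacter_one] at h
      simp at h
    have hlin : ∀ c : Cfsg.IrrCharacter G,
        CT.mult (Cfsg.indFun H (fun _ : H => (1 : ℂ))) (c : G → ℂ) ≠ 0 → (c : G → ℂ) 1 = 1 := by
      intro c hc
      rw [CT.deg_eq (CT.isCharacter_of_isIrr c.2)]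
      rcases hcd _ c.2 with h | h
      · rw [h, Nat.cast_one]
      by_cases hm1 : m = 1
      · rw [h, hm1, Nat.cast_one]
      exfalso
      have hne : c ≠ CT.trivIrr G := fun he => hm1 (by rw [← h, he]; simp [CT.deg])
      have e := congrFun (CT.character_eq_sum hπ) 1
      rw [CT.deg_eq hπ, hπd, Finset.sum_apply] at e
      have e' : m = ∑ x : Cfsg.IrrCharacter G,
          CT.mult (Cfsg.indFun H (fun _ : H => (1 : ℂ))) (x : G → ℂ) * CT.deg (x : G → ℂ) := by
        have : (m : ℂ) = ((∑ x : Cfsg.IrrCharacter G,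
            CT.mult (Cfsg.indFun H (fun _ : H => (1 : ℂ))) (x : G → ℂ) * CT.deg (x : G → ℂ) : ℕ) : ℂ) := by
          rw [e]
          push_cast
          refine Finset.sum_congr rfl fun x _ => ?_
          rw [Pi.smul_apply, smul_eq_mul, CT.deg_eq (CT.isCharacter_of_isIrr x.2)]
        exact_mod_cast this
      have h2 : ∑ x ∈ ({c, CT.trivIrr G} : Finset (Cfsg.IrrCharacter G)),
          CT.mult (Cfsg.indFun H (fun _ : H => (1 : ℂ))) (x : G → ℂ) * CT.deg (x : G → ℂ) ≤ m :=
        le_trans (Finset.sum_le_sum_of_subset (Finset.subset_univ _)) e'.ge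
      rw [Finset.sum_pair hne, h] at h2
      have h3 : CT.deg (CT.trivIrr G : G → ℂ) = 1 := by simp [CT.deg]
      rw [h3] at h2
      have h4 : m ≤ CT.mult (Cfsg.indFun H (fun _ : H => (1 : ℂ))) (c : G → ℂ) * m :=
        Nat.le_mul_of_pos_left _ (Nat.pos_of_ne_zero hc)
      omega
    have hGH : commutator G ≤ H := by
      intro g hg
      have hval : Cfsg.indFun H (fun _ : H => (1 : ℂ)) g = (H.index : ℂ) := by
        have e := congrFun (CT.character_eq_sum hπ) g
        have e1 := congrFun (CT.character_eq_sum hπ) 1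
        rw [CT.indFun_one_eval, mul_one] at e1
        rw [e, e1, Finset.sum_apply, Finset.sum_apply]
        refine Finset.sum_congr rfl fun c _ => ?_
        simp only [Pi.smul_apply]
        by_cases hc : CT.mult (Cfsg.indFun H (fun _ : H => (1 : ℂ))) (c : G → ℂ) = 0
        · simp [hc]
        · rw [CT.linear_trivial_on_commutator (CT.isCharacter_of_isIrr c.2) (hlin c hc) g hg]
      rw [CT.indFun_one_eq_coset, Subgroup.index_eq_card] at hval
      have hfix : MulAction.fixedBy (G ⧸ H) g = Set.univ := by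
        rw [Set.eq_univ_iff_ncard, Nat.card_coe_set_eq] at *
        exact_mod_cast hval
      have h1' : ((1 : G) : G ⧸ H) ∈ MulAction.fixedBy (G ⧸ H) g := hfix ▸ Set.mem_univ _
      have h2 : ((g * 1 : G) : G ⧸ H) = ((1 : G) : G ⧸ H) := h1'
      have h3 : (g * 1)⁻¹ * 1 ∈ H := QuotientGroup.eq.mp h2
      simpa using h3
    have hx : ∀ x : G, Cfsg.extendByZero H (fun h => (lam h : ℂ)) (x⁻¹ * (a * b * a⁻¹ * b⁻¹) * x) =
        1 := by
      intro x
      have ha' : x⁻¹ * a * x ∈ H := hGH (by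
        simpa using (inferInstance : (commutator G).Normal).conj_mem a ha x⁻¹)
      have hb' : x⁻¹ * b * x ∈ H := hGH (by
        simpa using (inferInstance : (commutator G).Normal).conj_mem b hb x⁻¹)
      have e : x⁻¹ * (a * b * a⁻¹ * b⁻¹) * x = ((⟨_, ha'⟩ * ⟨_, hb'⟩ * (⟨_, ha'⟩ : H)⁻¹ *
          (⟨_, hb'⟩ : H)⁻¹ : H) : G) := by
        simp only [Subgroup.coe_mul, Subgroup.coe_inv]
        group
      rw [e, CT.extendByZero_coe, ← commutatorElement_def, map_commutatorElement,
        commutatorElement_eq_one_iff_commute.mpr (Commute.all _ _), Units.val_one]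
    have hx1 : ∀ x : G, Cfsg.extendByZero H (fun h => (lam h : ℂ)) (x⁻¹ * 1 * x) = 1 := by
      intro x
      rw [show x⁻¹ * 1 * x = ((1 : H) : G) by simp, CT.extendByZero_coe]
      simp
    rw [hlam]
    simp only [Cfsg.indFun, hx, hx1]
  have h1 : a * b * a⁻¹ * b⁻¹ = 1 := isConj_one_left.mp (CT.isConj_iff_forall_irr.mpr key)
  calc a * b = (a * b * a⁻¹ * b⁻¹) * (b * a) := by group
    _ = b * a := by rw [h1, one_mul]

/-- If a finite group has exactly two irreducible character degrees, 1 and m with m ≠ 1, then its commutator subgroup is abelian. -/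
theorem result {G : Type*} [Group G] [Finite G] (m : ℕ) (hcd : ∀ χ : Cfsg.IrrCharacter G, Cfsg.charDegree (χ : G → ℂ) = 1 ∨ Cfsg.charDegree (χ : G → ℂ) = m) (hm : ∃ χ : Cfsg.IrrCharacter G, Cfsg.charDegree (χ : G → ℂ) = m) (hm1 : m ≠ 1) : ∀ a ∈ commutator G, ∀ b ∈ commutator G, a * b = b * a := by
  classical
  letI := Fintype.ofFinite G
  have hcd' : ∀ χ : G → ℂ, Cfsg.IsIrrCharacter G χ → CT.deg χ = 1 ∨ CT.deg χ = m :=
    fun χ hχ => hcd ⟨χ, hχ⟩
  have hm0 : m ≠ 0 := by
    obtain ⟨χ₀, hχ₀⟩ := hm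
    rw [← hχ₀]; exact (CT.deg_pos χ₀.2).ne'
  rcases S4457.result m hcd hm hm1 with ⟨A, hAn, hAc, hAi⟩ | ⟨p, e, hp, hpe, P, A, hPn, hAn, hPp, hAc, hinf, hsup⟩
  · haveI := hAn
    have hq : ∀ x y : G ⧸ A, x * y = y * x := by
      rw [CT.comm_iff_all_linear]
      intro β
      rw [CT.deg_eq (CT.isCharacter_of_isIrr β.2)]
      rcases hcd' _ (CT.isIrr_inflate A (χ := fun g => (β : G ⧸ A → ℂ) (QuotientGroup.mk g)) β.2
        fun g => rfl) with h | h
      · exact_mod_cast h
      · exfalso
        have h' : CT.deg (β : G ⧸ A → ℂ) = m := h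
        have h1 := CT.irr_inner_self β.2
        have hlt := deg_sq_lt (G := G ⧸ A) β (fun he => hm1 (h' ▸ he))
        rw [h', ← Subgroup.index_eq_card, hAi] at hlt
        nlinarith [Nat.pos_of_ne_zero hm0]
    have hle : commutator G ≤ A := by
      rw [commutator_def, Subgroup.commutator_le]
      intro a _ b _
      rw [← QuotientGroup.eq_one_iff, commutatorElement_def]
      simp only [QuotientGroup.mk_mul, QuotientGroup.mk_inv]
      rw [hq (a : G ⧸ A)]
      group
    exact fun a ha b hb => hAc a (hle ha) b (hle hb)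
  · haveI := hPn
    haveI := hAn
    haveI := Fact.mk hp
    haveI : Group.IsNilpotent P := hPp.isNilpotent
    haveI : Group.IsNilpotent G := nilpotent_of_prod P A hAc hinf hsup
    exact metabelian_of_nilpotent m hcd' hm0

end Cfsg.Agent.S4458
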