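import Cfsg.Statements.S4459
import Cfsg.Agent.S4458
import Cfsg.Agent.Lib.CT.TwoDegreesPrime
import Cfsg.Agent.Lib.CT.Degree

set_option autoImplicit false
set_option linter.all false
open Cfsg

namespace Cfsg.Agent.S4459

/-- Let G be a non-abelian finite group and p a prime. Then the irreducible character degrees of G are exactly 1 and p if and only if either G has an abelian normal subgroup of index p or the centre of G has index p³. -/
theorem result {G : Type*} [Group G] [Finite G] (hG : ∃ a b : G, a * b ≠ b * a) (p : ℕ) (hp : p.Prime) : ((∀ χ : Cfsg.IrrCharacter G, Cfsg.charDegree (χ : G → ℂ) = 1 ∨ Cfsg.charDegree (χ : G → ℂ) = p) ∧ ∃ χ : Cfsg.IrrCharacter G, Cfsg.charDegree (χ : G → ℂ) = p) ↔ ((∃ A : Subgroup G, A.Normal ∧ (∀ a ∈ A, ∀ b ∈ A, a * b = b * a) ∧ A.index = p) ∨ (Subgroup.center G).index = p ^ 3) := by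
  classical
  letI := Fintype.ofFinite G
  have hne : ¬ ∀ a b : G, a * b = b * a := fun h => by
    obtain ⟨a, b, hab⟩ := hG
    exact hab (h a b)
  constructor
  · rintro ⟨hcd, hm⟩
    rcases S4457.result p hcd hm hp.ne_one with hA | ⟨q, e, hq, hpe, P, A, hPn, hAn, hPp, hAc, hinf, hsup⟩
    · exact Or.inl hA
    · haveI := hPn
      haveI := hAn
      haveI := Fact.mk hq
      haveI : Group.IsNilpotent P := hPp.isNilpotent
      haveI : Group.IsNilpotent G := S4458.nilpotent_of_prod P A hAc hinf hsup
      exact TwoDeg.nilpotent_degrees_one_prime hp (fun χ hχ => hcd ⟨χ, hχ⟩) hne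
  · intro h
    have hall : ∀ χ : Cfsg.IrrCharacter G,
        Cfsg.charDegree (χ : G → ℂ) = 1 ∨ Cfsg.charDegree (χ : G → ℂ) = p := by
      intro χ
      rcases h with ⟨A, hAn, hAc, hAi⟩ | hz
      · haveI := hAn
        letI := Fintype.ofFinite A
        have h1 := CT.deg_dvd_index_of_comm A χ.2
          (fun a b => Subtype.ext (hAc a a.2 b b.2))
        rw [hAi] at h1
        exact (Nat.dvd_prime hp).mp h1
      · obtain ⟨n, ρ, hρ, hρc⟩ := id χ.2
        haveI := hρ
        have hd : CT.deg (χ : G → ℂ) = n := by
          rw [← hρc, CT.deg_eq_finrank, Module.finrank_fin_fun]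
        have h1 : n ∣ p ^ 3 := by
          have h := CT.finrank_dvd_index_of_le_center ρ (Subgroup.center G) le_rfl
          rwa [Module.finrank_fin_fun, hz] at h
        have h2 : n ^ 2 ≤ p ^ 3 := by
          letI : Fintype (Subgroup.center G) := Fintype.ofFinite _
          have hsum := CT.classInner_self_eq_sum (χ : G → ℂ)
          rw [CT.irr_inner_self χ.2, mul_one] at hsum
          simp only [Complex.mul_conj] at hsum
          have hs' : (Nat.card G : ℝ) = ∑ g : G, Complex.normSq ((χ : G → ℂ) g) := by
            exact_mod_cast hsum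
          have hle : ∑ g ∈ Finset.univ.map (Function.Embedding.subtype (· ∈ Subgroup.center G)),
              Complex.normSq ((χ : G → ℂ) g) ≤ ∑ g : G, Complex.normSq ((χ : G → ℂ) g) :=
            Finset.sum_le_sum_of_subset_of_nonneg (Finset.subset_univ _)
              fun g _ _ => Complex.normSq_nonneg _
          rw [Finset.sum_map, ← hs'] at hle
          have he : ∀ z : Subgroup.center G, Complex.normSq ((χ : G → ℂ) z) = (n : ℝ) ^ 2 := by
            intro z
            obtain ⟨ω, hω, -⟩ := CT.central_scalar ρ z.2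
            rw [Complex.normSq_eq_norm_sq, ← hρc, (CT.norm_eq_iff_scalar ρ (z : G)).mpr ⟨ω, hω⟩,
              Module.finrank_fin_fun]
          simp only [Function.Embedding.subtype_apply, he, Finset.sum_const, Finset.card_univ,
            nsmul_eq_mul] at hle
          rw [← Nat.card_eq_fintype_card, ← (Subgroup.center G).card_mul_index, hz] at hle
          have hle' : Nat.card (Subgroup.center G) * n ^ 2 ≤
              Nat.card (Subgroup.center G) * p ^ 3 := by exact_mod_cast hle
          exact Nat.le_of_mul_le_mul_left hle' Nat.card_pos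
        obtain ⟨i, hi, hni⟩ := (Nat.dvd_prime_pow hp).mp h1
        show CT.deg (χ : G → ℂ) = 1 ∨ CT.deg (χ : G → ℂ) = p
        rw [hd, hni]
        rw [hni, ← pow_mul] at h2
        have h3 := (Nat.pow_le_pow_iff_right hp.one_lt).mp h2
        interval_cases i <;> simp_all
    refine ⟨hall, ?_⟩
    by_contra hno
    push Not at hno
    apply hne
    rw [CT.comm_iff_all_linear]
    intro χ
    rw [CT.deg_eq (CT.isCharacter_of_isIrr χ.2)]
    have h1 : CT.deg (χ : G → ℂ) = 1 := (hall χ).resolve_right (hno χ)
    rw [h1, Nat.cast_one]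

end Cfsg.Agent.S4459
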