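import Cfsg.Statements.S4461
import Cfsg.Agent.Lib.CT.BrolineGarrison.Solvable

set_option autoImplicit false
open Cfsg

namespace Cfsg.Agent.S4461

/-- Let χ be an irreducible character of the finite group G and K its kernel (the elements where χ takes the value χ(1)). Suppose either that K is not contained in the Fitting subgroup F(G), or that K = F(G) with G/K solvable and K ≠ G. Then there is an irreducible character ψ of G with ψ(1) > χ(1) whose kernel is properly contained in K. -/
theorem result {G : Type*} [Group G] [Finite G] (χ : Cfsg.IrrCharacter G) (K : Subgroup G) [K.Normal] (hK : (∀ g : G, g ∈ K ↔ (χ : G → ℂ) g = (χ : G → ℂ) 1)) (h : ¬ K ≤ Cfsg.fittingSubgroup G ∨ (K = Cfsg.fittingSubgroup G ∧ Group.IsSolvable (G ⧸ K) ∧ K ≠ ⊤)) : ∃ ψ : Cfsg.IrrCharacter G, Cfsg.charDegree (χ : G → ℂ) < Cfsg.charDegree (ψ : G → ℂ) ∧ ∃ L : Subgroup G, (∀ g : G, g ∈ L ↔ (ψ : G → ℂ) g = (ψ : G → ℂ) 1) ∧ L < K := by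
  have hex : ∃ ψ : Cfsg.IrrCharacter G, CT.deg (χ : G → ℂ) < CT.deg (ψ : G → ℂ) ∧
      CT.kerChar (ψ : G → ℂ) < K := by
    rcases h with hF | ⟨hKF, hQ, htop⟩
    · exact CT.BrolineGarrison.exists_larger_of_not_nilpotent χ.2 K hK
        fun hn => hF (Basics.le_fittingSubgroup hn)
    · haveI := hQ
      haveI : Group.IsNilpotent K := by rw [hKF]; infer_instance
      haveI : Group.IsSolvable G := Group.isSolvable_of_ker_le_range K.subtype (QuotientGroup.mk' K)
        (by simp)
      exact CT.BrolineGarrison.exists_larger_of_fitting χ.2 K hK hKF htop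
  obtain ⟨ψ, hd, hker⟩ := hex
  exact ⟨ψ, hd, _, fun g => CT.mem_kerChar_iff (CT.isCharacter_of_isIrr ψ.2), hker⟩

end Cfsg.Agent.S4461
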