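import Cfsg.Statements.S4467
import Cfsg.Agent.Lib.CT.Clifford
import Cfsg.Agent.Lib.CT.Degree
import Cfsg.Agent.Lib.CT.Kernel
import Cfsg.Agent.Lib.CT.Chief
import Cfsg.Agent.Lib.CT.Glue
import Cfsg.Agent.Lib.CT.NormalizerExtend
import Cfsg.Agent.Lib.CoprimeExt.CoprimeDegree
import Cfsg.Agent.Lib.Basics.Tools

set_option autoImplicit false
set_option linter.all false
set_option maxHeartbeats 1000000
open Cfsg

namespace Cfsg.Agent.S4467

open Cfsg.Agent
open scoped Classical

universe u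

/-- The conclusion as a predicate of the degree. -/
def Good (p d : ℕ) : Prop :=
  ∃ q : ℕ, IsPrimePow q ∧ q ∣ d ∧
    ((q : ℤ) ≡ -1 [ZMOD p] ∨ (q : ℤ) ≡ 0 [ZMOD p] ∨ (q : ℤ) ≡ 1 [ZMOD p])

theorem Good.mono {p d d' : ℕ} (h : Good p d) (hd : d ∣ d') : Good p d' := by
  obtain ⟨q, h1, h2, h3⟩ := h
  exact ⟨q, h1, h2.trans hd, h3⟩

/-- An element commuting with a subgroup on which a faithful irreducible character stays
irreducible is central. -/
theorem central_of_commutes {G : Type u} [Group G] [Finite G] {χ : G → ℂ}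
    (hχ : IsIrrCharacter G χ) (hfaith : ∀ g : G, χ g = χ 1 → g = 1) {K : Subgroup G}
    (hK : IsIrrCharacter K (fun k : K => χ k)) {x : G} (hx : ∀ k ∈ K, x * k = k * x) (g : G) :
    x * g = g * x := by
  haveI := Fintype.ofFinite G
  obtain ⟨d, ρ, hρ, rfl⟩ := hχ
  haveI := Fintype.ofFinite K
  let ρK : Representation ℂ K (Fin d → ℂ) := ρ.comp K.subtype
  haveI : ρK.IsIrreducible := CT.isIrreducible_of_isIrrCharacter ρK hK
  have hs := CT.eq_scalar_of_commute ρK (ρ x) fun k => by
    show ρ x * ρ k = ρ k * ρ x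
    rw [← map_mul, ← map_mul, hx k k.2]
  have hc : ρ x * ρ g = ρ g * ρ x := by
    rw [hs]
    ext v
    simp [Module.End.mul_apply]
  have h1 : ρ (x * g * x⁻¹ * g⁻¹) = 1 := by
    rw [map_mul, map_mul, map_mul, hc, mul_assoc (ρ g) (ρ x), ← map_mul ρ x, mul_inv_cancel,
      map_one, mul_one, ← map_mul, mul_inv_cancel, map_one]
  have h2 := hfaith _ ((CT.rep_eq_one_iff ρ _).mp h1)
  calc x * g = (x * g * x⁻¹ * g⁻¹) * (g * x) := by group
    _ = g * x := by rw [h2, one_mul]

/-- A subgroup of index prime to `p` containing `K`, in a group where `J / K` is a chief factor of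
`p`-power index: the whole group, or the order of the chief factor divides the index. -/
theorem stab_step {G : Type u} [Group G] [Finite G] {p a : ℕ} (hp : p.Prime) (J K T : Subgroup G)
    [J.Normal] (hind : J.index = p ^ a) (hKJ : K ≤ J) (hKT : K ≤ T)
    (hcomm : ∀ u ∈ J, ∀ v ∈ J, u * v * u⁻¹ * v⁻¹ ∈ K)
    (hchief : ∀ X : Subgroup G, X.Normal → K ≤ X → X ≤ J → X = K ∨ X = J)
    (hT : ¬ p ∣ T.index) : T = ⊤ ∨ K.relIndex J ∣ T.index := by
  have htop : T ⊔ J = ⊤ := by
    rw [← Subgroup.index_eq_one]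
    refine Nat.eq_one_of_dvd_coprimes ((hp.coprime_iff_not_dvd.mpr hT).pow_left a)
      (hind ▸ Subgroup.index_dvd_of_le le_sup_right) (Subgroup.index_dvd_of_le le_sup_left)
  have hn : (T ⊓ J).Normal := by
    refine Subgroup.normalizer_eq_top_iff.mp (top_le_iff.mp ?_)
    rw [← htop]
    refine sup_le (fun t ht => ?_) fun j hj => ?_
    · rw [Subgroup.mem_normalizer_iff]
      intro z
      constructor
      · rintro ⟨h1, h2⟩
        exact ⟨T.mul_mem (T.mul_mem ht h1) (T.inv_mem ht), ‹J.Normal›.conj_mem z h2 t⟩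
      · rintro ⟨h1, h2⟩
        have e1 := T.mul_mem (T.mul_mem (T.inv_mem ht) h1) ht
        have e2 := ‹J.Normal›.conj_mem _ h2 t⁻¹
        exact ⟨by simpa [mul_assoc] using e1, by simpa [mul_assoc] using e2⟩
    · rw [Subgroup.mem_normalizer_iff]
      intro z
      have key : ∀ j ∈ J, ∀ z ∈ T ⊓ J, j * z * j⁻¹ ∈ T ⊓ J := by
        intro j hj z hz
        have h := hcomm j hj z hz.2
        have := (T ⊓ J).mul_mem (⟨hKT h, hKJ h⟩ : j * z * j⁻¹ * z⁻¹ ∈ T ⊓ J) hz
        simpa [mul_assoc] using this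
      refine ⟨key j hj z, fun h => ?_⟩
      have := key j⁻¹ (J.inv_mem hj) _ h
      simpa [mul_assoc] using this
  rcases hchief _ hn (le_inf hKT hKJ) inf_le_right with h | h
  · right
    have h1 : J.index = J.relIndex T := by
      rw [← Subgroup.relIndex_top_right, ← htop, sup_comm, Subgroup.relIndex_sup_left]
    have h2 := Subgroup.relIndex_mul_index (inf_le_left : T ⊓ J ≤ T)
    have h3 := Subgroup.relIndex_mul_index (inf_le_right : T ⊓ J ≤ J)
    rw [Subgroup.inf_relIndex_left, ← h1] at h2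
    rw [h] at h2 h3
    refine dvd_of_eq (Nat.eq_of_mul_eq_mul_right (Nat.pos_of_ne_zero
      Subgroup.index_ne_zero_of_finite : 0 < J.index) ?_)
    rw [h3, ← h2, mul_comm]
  · left
    rw [← top_le_iff, ← htop]
    exact sup_le le_rfl (h ▸ inf_le_left)

/-- Sylow subgroups of proper normal subgroups are normal, unless induction applies. -/
theorem normal_inf {G : Type u} [Group G] [Finite G] {p : ℕ} [hp : Fact p.Prime]
    {χ : G → ℂ} (hχ : IsIrrCharacter G χ) (hfaith : ∀ g : G, χ g = χ 1 → g = 1)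
    (ih : ∀ (H : Type u) [Group H] [Finite H], Nat.card H < Nat.card G → Group.IsSolvable H →
      ∀ ψ : H → ℂ, IsIrrCharacter H ψ → (∀ h : H, ψ h = ψ 1 → h = 1) →
      ∀ S : Sylow p H, ¬ (S : Subgroup H).Normal → Good p (CT.deg ψ))
    (hsol : Group.IsSolvable G) (hng : ¬ Good p (CT.deg χ)) (P : Sylow p G) (M : Subgroup G)
    [hMn : M.Normal] (hM : M ≠ ⊤) : ((P : Subgroup G) ⊓ M).Normal := by
  haveI := hsol
  haveI := Fintype.ofFinite G
  haveI := Fintype.ofFinite M
  have hres := CT.isCharacter_restrict M (CT.isCharacter_of_isIrr hχ)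
  let I := {η : IrrCharacter M // classInner (fun m : M => χ m) (η : M → ℂ) ≠ 0}
  have hker : ∀ η : I, (CT.kerChar ((η.1 : IrrCharacter M) : M → ℂ)).Normal := fun η =>
    NormExt.kerChar_normal (CT.isCharacter_of_isIrr η.1.2)
  have hq : ∀ (η : I) (x : M), (∃ k, x ^ p ^ k = 1) →
      ∀ (S : Sylow p (M ⧸ CT.kerChar ((η.1 : IrrCharacter M) : M → ℂ))),
        (QuotientGroup.mk x : M ⧸ CT.kerChar ((η.1 : IrrCharacter M) : M → ℂ)) ∈ S := by
    intro η x ⟨k, hx⟩ S
    haveI := hker η
    obtain ⟨ψ, hψ, hψv⟩ := CT.exists_quotient_irr η.1.2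
      (CT.kerChar ((η.1 : IrrCharacter M) : M → ℂ))
      (fun z hz => (CT.mem_kerChar_iff (CT.isCharacter_of_isIrr η.1.2)).mp hz)
    have hSn : (S : Subgroup (M ⧸ CT.kerChar ((η.1 : IrrCharacter M) : M → ℂ))).Normal := by
      by_contra hSn
      refine hng (Good.mono (ih _ ?_ inferInstance ψ hψ ?_ S hSn) ?_)
      · refine lt_of_le_of_lt (Nat.le_of_dvd Nat.card_pos
          (Subgroup.card_quotient_dvd_card _)) ?_
        refine lt_of_le_of_ne (Nat.le_of_dvd Nat.card_pos (Subgroup.card_subgroup_dvd_card M))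
          fun h => hM ((Subgroup.card_eq_iff_eq_top M).mp h)
      · intro h
        obtain ⟨g, rfl⟩ := QuotientGroup.mk_surjective h
        intro hg
        rw [← QuotientGroup.mk_one, hψv, hψv] at hg
        exact (QuotientGroup.eq_one_iff g).mpr
          ((CT.mem_kerChar_iff (CT.isCharacter_of_isIrr η.1.2)).mpr hg)
      · obtain ⟨j, hj, -⟩ := CT.deg_ratio_dvd_index M hχ η.1.2 η.2
        have e : CT.deg ψ = CT.deg ((η.1 : IrrCharacter M) : M → ℂ) := by
          unfold CT.deg
          rw [← QuotientGroup.mk_one, hψv]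
        rw [e, hj]
        exact dvd_mul_left _ _
    set z := (QuotientGroup.mk x : M ⧸ CT.kerChar ((η.1 : IrrCharacter M) : M → ℂ)) with hz
    have hzp : IsPGroup p (Subgroup.zpowers z) := by
      refine IsPGroup.iff_card.mpr ?_
      rw [Nat.card_zpowers]
      obtain ⟨i, -, hi⟩ := (Nat.dvd_prime_pow hp.out).mp (orderOf_dvd_of_pow_eq_one
        (show z ^ p ^ k = 1 by rw [hz, ← QuotientGroup.mk_pow, hx, QuotientGroup.mk_one]))
      exact ⟨i, hi⟩
    have h1 := hzp.to_sup_of_normal_right (K := (S : Subgroup _)) S.isPGroup'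
    exact (S.is_maximal' h1 le_sup_right).le (Subgroup.mem_sup_left (Subgroup.mem_zpowers z))
  have hfix : ∀ x : M, (∀ η : I, x ∈ CT.kerChar ((η.1 : IrrCharacter M) : M → ℂ)) → x = 1 := by
    intro x hx
    refine Subtype.ext (hfaith x ?_)
    show (fun m : M => χ m) x = (fun m : M => χ m) 1
    rw [CT.character_eq_sum hres]
    simp only [Finset.sum_apply, Pi.smul_apply, smul_eq_mul]
    refine Finset.sum_congr rfl fun η _ => ?_
    by_cases h0 : classInner (fun m : M => χ m) (η : M → ℂ) = 0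
    · have hm : (CT.mult (fun m : M => χ m) (η : M → ℂ) : ℂ) = 0 := by
        rw [← CT.mult_spec hres (CT.isCharacter_of_isIrr η.2), h0]
      rw [hm, zero_mul, zero_mul]
    · rw [(CT.mem_kerChar_iff (CT.isCharacter_of_isIrr η.2)).mp (hx ⟨η, h0⟩)]
  haveI := hker
  have hpow : ∀ x : M, (∀ (η : I) (S : Sylow p (M ⧸ CT.kerChar ((η.1 : IrrCharacter M) : M → ℂ))),
      (QuotientGroup.mk x : M ⧸ CT.kerChar ((η.1 : IrrCharacter M) : M → ℂ)) ∈ S) →
      ∃ k, x ^ p ^ k = 1 := by
    intro x hx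
    refine ⟨Nat.card M, hfix _ fun η => ?_⟩
    haveI := hker η
    obtain ⟨S⟩ : Nonempty (Sylow p (M ⧸ CT.kerChar ((η.1 : IrrCharacter M) : M → ℂ))) :=
      inferInstance
    obtain ⟨i, hi⟩ := IsPGroup.iff_orderOf.mp S.isPGroup' ⟨_, hx η S⟩
    rw [Subgroup.orderOf_mk] at hi
    rw [← QuotientGroup.eq_one_iff, QuotientGroup.mk_pow, ← orderOf_dvd_iff_pow_eq_one, hi]
    refine pow_dvd_pow p ?_
    have h1 : p ^ i ≤ Nat.card M := by
      rw [← hi]
      exact (Nat.le_of_dvd Nat.card_pos (orderOf_dvd_natCard _)).trans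
        (Nat.le_of_dvd Nat.card_pos (Subgroup.card_quotient_dvd_card _))
    exact (Nat.lt_pow_self hp.out.one_lt).le.trans h1
  let W : Subgroup G :=
    { carrier := {x | x ∈ M ∧ ∃ k, x ^ p ^ k = 1}
      one_mem' := ⟨M.one_mem, 0, one_pow _⟩
      inv_mem' := fun ⟨hx, k, hk⟩ => ⟨M.inv_mem hx, k, by rw [inv_pow, hk, inv_one]⟩
      mul_mem' := fun {x y} ⟨hx, k, hk⟩ ⟨hy, l, hl⟩ => ⟨M.mul_mem hx hy, by
        obtain ⟨t, ht⟩ := hpow (⟨x, hx⟩ * ⟨y, hy⟩) fun η S => by
          haveI := hker η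
          rw [QuotientGroup.mk_mul]
          exact mul_mem (hq η _ ⟨k, Subtype.ext (by simpa using hk)⟩ S)
            (hq η _ ⟨l, Subtype.ext (by simpa using hl)⟩ S)
        exact ⟨t, by simpa using congrArg Subtype.val ht⟩⟩ }
  haveI hW : W.Normal := ⟨fun x ⟨hx, k, hk⟩ g => ⟨hMn.conj_mem x hx g, k, by
    rw [conj_pow, hk, mul_one, mul_inv_cancel]⟩⟩
  have hWp : IsPGroup p W := fun x => by
    obtain ⟨-, k, hk⟩ := x.2
    exact ⟨k, Subtype.ext (by simpa using hk)⟩
  have hWP : W ≤ (P : Subgroup G) :=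
    le_sup_left.trans (P.is_maximal' (hWp.to_sup_of_normal_left P.isPGroup') le_sup_right).le
  have : (P : Subgroup G) ⊓ M = W := le_antisymm
    (fun x hx => by
      obtain ⟨k, hk⟩ := P.isPGroup' ⟨x, hx.1⟩
      exact ⟨hx.2, k, by simpa using congrArg Subtype.val hk⟩)
    (le_inf hWP fun x hx => hx.1)
  rw [this]
  exact hW

theorem cong_of_sq {p c : ℕ} (hp : p.Prime) (h : c ^ 2 ≡ 1 [MOD p]) :
    (c : ℤ) ≡ -1 [ZMOD p] ∨ (c : ℤ) ≡ 0 [ZMOD p] ∨ (c : ℤ) ≡ 1 [ZMOD p] := by
  have h1 : ((1 : ℕ) : ℤ) ≡ ((c ^ 2 : ℕ) : ℤ) [ZMOD p] := Int.natCast_modEq_iff.mpr h.symm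
  have h2 : (p : ℤ) ∣ ((c : ℤ) - 1) * ((c : ℤ) + 1) := by
    have := h1.dvd
    push_cast at this
    rwa [show ((c : ℤ) - 1) * ((c : ℤ) + 1) = (c : ℤ) ^ 2 - 1 by ring]
  rcases (Nat.prime_iff_prime_int.mp hp).dvd_or_dvd h2 with h3 | h3
  · exact Or.inr (Or.inr ((Int.modEq_iff_dvd.mpr h3).symm))
  · refine Or.inl (Int.modEq_iff_dvd.mpr ?_).symm
    simpa using h3

theorem main_aux {p : ℕ} [hp : Fact p.Prime] (m : ℕ) :
    ∀ (G : Type u) [Group G] [Finite G], Nat.card G < m → Group.IsSolvable G →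
      ∀ χ : G → ℂ, IsIrrCharacter G χ → (∀ g : G, χ g = χ 1 → g = 1) →
      ∀ P : Sylow p G, ¬ (P : Subgroup G).Normal → Good p (CT.deg χ) := by
  induction m with
  | zero => intro G _ _ h; exact absurd h (Nat.not_lt_zero _)
  | succ m ih0 =>
    intro G _ _ hcard hsol χ hχ hfaith P hP
    have ih : ∀ (H : Type u) [Group H] [Finite H], Nat.card H < Nat.card G → Group.IsSolvable H →
        ∀ ψ : H → ℂ, IsIrrCharacter H ψ → (∀ h : H, ψ h = ψ 1 → h = 1) →
        ∀ S : Sylow p H, ¬ (S : Subgroup H).Normal → Good p (CT.deg ψ) :=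
      fun H _ _ h => ih0 H (by omega)
    clear ih0
    by_contra hng
    haveI := hsol
    haveI := Fintype.ofFinite G
    have hχc := CT.isCharacter_of_isIrr hχ
    have hpn : ¬ p ∣ CT.deg χ := fun h => hng ⟨p, hp.out.isPrimePow, h,
      Or.inr (Or.inl (Int.modEq_zero_iff_dvd.mpr dvd_rfl))⟩
    have hpd : ∀ d, d ∣ CT.deg χ → ¬ p ∣ d := fun d hd h => hpn (h.trans hd)
    -- a normal subgroup containing `P` is the whole group
    have hPtop : ∀ M : Subgroup G, M.Normal → (P : Subgroup G) ≤ M → M = ⊤ := by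
      intro M hM hPM
      by_contra hne
      haveI := hM
      have := normal_inf hχ hfaith ih hsol hng P M hne
      rw [inf_eq_left.mpr hPM] at this
      exact hP this
    -- the normal subgroups of `p`-power index
    obtain ⟨J, ⟨hJn, a, hJi⟩, hJmin⟩ := (Set.toFinite
      {N : Subgroup G | N.Normal ∧ ∃ a, N.index = p ^ a}).exists_minimal
      ⟨⊤, inferInstance, 0, by simp⟩
    haveI := hJn
    haveI := Fintype.ofFinite J
    have hJP : J ⊔ (P : Subgroup G) = ⊤ := by
      rw [← Subgroup.index_eq_one]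
      exact Nat.eq_one_of_dvd_coprimes
        ((hp.out.coprime_iff_not_dvd.mpr P.not_dvd_index).pow_left a)
        (hJi ▸ Subgroup.index_dvd_of_le le_sup_left) (Subgroup.index_dvd_of_le le_sup_right)
    have hJbot : J ≠ ⊥ := fun h => by
      rw [h, bot_sup_eq] at hJP
      exact hP (hJP ▸ inferInstance)
    -- the restriction to `J` is irreducible
    obtain ⟨ψ, hψ0⟩ := CT.exists_constituent_restrict J hχ
    obtain ⟨k, hk, hkd⟩ := CT.deg_ratio_dvd_index J hχ ψ.2 hψ0
    have hk1 : k = 1 := by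
      obtain ⟨i, -, rfl⟩ := (Nat.dvd_prime_pow hp.out).mp (hJi ▸ hkd)
      rcases i with _ | i
      · simp
      · exact absurd (dvd_mul_of_dvd_left (dvd_pow_self p i.succ_ne_zero) _)
          (hk ▸ hpd _ dvd_rfl)
    rw [hk1, one_mul] at hk
    have hψ : (fun j : J => χ j) = (ψ : J → ℂ) :=
      CT.eq_of_deg_le (CT.isCharacter_restrict J hχc) ψ.2 hψ0 (le_of_eq (by rw [← hk]; rfl))
    -- a chief factor below `J`
    obtain ⟨K, ⟨hKn, hKJ⟩, hKmax⟩ := (Set.toFinite
      {N : Subgroup G | N.Normal ∧ N < J}).exists_maximal ⟨⊥, inferInstance, bot_lt_iff_ne_bot.mpr hJbot⟩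
    haveI := hKn
    haveI := Fintype.ofFinite K
    obtain ⟨M', r, hM'n, hKM', hM'J, hr, hcomm, hexp, hchief⟩ :=
      CT.exists_chief K J hKJ inferInstance
    have hM'eq : M' = J := by
      by_contra hne
      exact hKM'.not_ge (hKmax ⟨hM'n, lt_of_le_of_ne hM'J hne⟩ hKM'.le)
    subst hM'eq
    let π := QuotientGroup.mk' K
    have hπ1 : ∀ g, π g = 1 ↔ g ∈ K := fun g => QuotientGroup.eq_one_iff g
    set V := M'.map π with hV
    haveI : V.Normal := Subgroup.Normal.map inferInstance _ (QuotientGroup.mk'_surjective K)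
    have hVr : IsPGroup r V := by
      rintro ⟨_, v, hv, rfl⟩
      exact ⟨1, Subtype.ext (by
        rw [pow_one, SubmonoidClass.coe_pow, ← map_pow, OneMemClass.coe_one, hπ1]
        exact hexp v hv)⟩
    have hVcard : Nat.card V = K.relIndex M' := by
      rw [hV, ← Subgroup.relIndex_bot_left (M'.map π), ← Subgroup.relIndex_comap,
        MonoidHom.comap_bot, QuotientGroup.ker_mk']
    obtain ⟨d, hd⟩ := (haveI := Fact.mk hr; hVr.exists_card_eq)
    rw [hVcard] at hd
    have hV1 : K.relIndex M' ≠ 1 := fun h => hKJ.not_ge (Subgroup.relIndex_eq_one.mp h)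
    have hd0 : d ≠ 0 := fun h => hV1 (by rw [hd, h, pow_zero])
    have hrp : r ≠ p := by
      intro h
      refine hKJ.not_ge (hJmin ⟨hKn, d + a, ?_⟩ hKJ.le)
      rw [← Subgroup.relIndex_mul_index hKJ.le, hd, hJi, h, pow_add]
    -- `P` does not cover the chief factor
    have hnc : ¬ M' ≤ (P : Subgroup G) ⊔ K := by
      intro hle
      refine hKJ.not_ge fun v hv => ?_
      obtain ⟨z, hz, w, hw, rfl⟩ := Subgroup.mem_sup_of_normal_right.mp (hle hv)
      have hzJ : z ∈ M' := by simpa using M'.mul_mem hv (M'.inv_mem (hKJ.le hw))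
      refine K.mul_mem ?_ hw
      obtain ⟨i, hi⟩ := P.isPGroup' ⟨z, hz⟩
      rw [← hπ1, ← orderOf_eq_one_iff]
      refine Nat.eq_one_of_dvd_coprimes
        (((Nat.coprime_primes hp.out hr).mpr hrp.symm).pow_left i)
        (orderOf_dvd_of_pow_eq_one ?_) (orderOf_dvd_of_pow_eq_one ?_)
      · rw [← map_pow, show z ^ p ^ i = 1 from congrArg Subtype.val hi, map_one]
      · rw [← map_pow, hπ1]; exact hexp z hzJ
    -- no fixed points
    have hfixed : ∀ v ∈ M', (∀ x ∈ (P : Subgroup G), π x * π v = π v * π x) → π v = 1 := by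
      let C : Subgroup G := M' ⊓ (Subgroup.centralizer (((P : Subgroup G).map π : Subgroup _) :
        Set (G ⧸ K))).comap π
      have hKC : K ≤ C := fun w hw => ⟨hKJ.le hw, Subgroup.mem_comap.mpr
        (((hπ1 w).mpr hw).symm ▸ Subgroup.one_mem _)⟩
      have hmem : ∀ v, v ∈ C ↔ v ∈ M' ∧ ∀ x ∈ (P : Subgroup G), π x * π v = π v * π x := by
        intro v
        constructor
        · rintro ⟨h1, h2⟩
          exact ⟨h1, fun x hx => h2 (π x) ⟨x, hx, rfl⟩⟩
        · rintro ⟨h1, h2⟩
          refine ⟨h1, ?_⟩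
          rintro _ ⟨x, hx, rfl⟩
          exact h2 x hx
      have hCn : C.Normal := ⟨fun v hv g => by
        have hY : ⊤ ≤ (Subgroup.centralizer {π v}).comap π := by
          rw [← hJP]
          refine sup_le (fun w hw => ?_) (fun x hx => ?_)
          · refine Subgroup.mem_centralizer_singleton_iff.mpr ?_
            have := (hπ1 _).mpr (hcomm w hw v hv.1)
            rw [map_mul, map_mul, map_mul, map_inv, map_inv] at this
            calc π w * π v = (π w * π v * (π w)⁻¹ * (π v)⁻¹) * (π v * π w) := by group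
              _ = π v * π w := by rw [this, one_mul]
          · exact Subgroup.mem_centralizer_singleton_iff.mpr ((hmem v).mp hv |>.2 x hx)
        have hg : π g * π v = π v * π g :=
          Subgroup.mem_centralizer_singleton_iff.mp (hY (Subgroup.mem_top g))
        refine (hmem _).mpr ⟨hJn.conj_mem v hv.1 g, fun x hx => ?_⟩
        rw [map_mul, map_mul, map_inv, hg, mul_inv_cancel_right]
        exact ((hmem v).mp hv).2 x hx⟩
      rcases hchief C hCn hKC inf_le_left with h | h
      · intro v hv hc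
        exact (hπ1 v).mpr (h ▸ (hmem v).mpr ⟨hv, hc⟩)
      · exfalso
        refine hnc ?_
        have hNn : ((P : Subgroup G).map π).Normal := by
          refine Subgroup.normalizer_eq_top_iff.mp (top_le_iff.mp ?_)
          rw [← Subgroup.map_top_of_surjective π (QuotientGroup.mk'_surjective K), ← hJP,
            Subgroup.map_sup]
          refine sup_le ?_ Subgroup.le_normalizer
          refine le_trans ?_ (Subgroup.centralizer_le_normalizer _)
          rintro _ ⟨v, hv, rfl⟩
          rw [Subgroup.mem_centralizer_iff]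
          rintro _ ⟨x, hx, rfl⟩
          exact ((hmem v).mp (h.symm ▸ hv)).2 x hx
        have htop := hPtop _ (hNn.comap π) (Subgroup.le_comap_map _ _)
        rw [Subgroup.comap_map_eq, QuotientGroup.ker_mk'] at htop
        rw [htop]; exact le_top
    have hVmod : K.relIndex M' ≡ 1 [MOD p] := by
      letI : MulAction (P : Subgroup G) V :=
        MulAction.compHom V ((MulAut.conjNormal (H := V)).comp (π.comp (P : Subgroup G).subtype))
      have h := P.isPGroup'.card_modEq_card_fixedPoints V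
      rw [← hVcard]
      refine h.trans ?_
      have hact : ∀ (x : (P : Subgroup G)) (v : V),
          ((x • v : V) : G ⧸ K) = π x * (v : G ⧸ K) * (π x)⁻¹ := fun x v =>
        MulAut.conjNormal_apply _ v
      rw [show Nat.card (MulAction.fixedPoints (P : Subgroup G) V) = 1 from
        Nat.card_eq_one_iff_unique.mpr ?_]
      refine ⟨⟨fun u v => ?_⟩, ⟨1, fun x => Subtype.ext (by rw [hact]; simp)⟩⟩
      have key : ∀ w : MulAction.fixedPoints (P : Subgroup G) V, (w.1 : G ⧸ K) = 1 := by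
        rintro ⟨⟨_, v, hv, rfl⟩, hw⟩
        refine hfixed v hv fun x hx => ?_
        have := congrArg Subtype.val (hw ⟨x, hx⟩)
        rw [hact] at this
        simpa using mul_inv_eq_iff_eq_mul.mp this
      exact Subtype.ext (Subtype.ext ((key u).trans (key v).symm))
    have hVgood : K.relIndex M' ∣ CT.deg χ → False := fun h => hng
      ⟨_, ⟨r, d, hr.prime, Nat.pos_of_ne_zero hd0, hd.symm⟩, h, Or.inr (Or.inr
        (by simpa using Int.natCast_modEq_iff.mpr hVmod))⟩
    -- the constituent below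
    obtain ⟨φ, hφ⟩ := CT.exists_constituent_restrict K hχ
    have hTd : (CT.inertia K (φ : K → ℂ)).index ∣ CT.deg χ :=
      ⟨CT.mult (fun k : K => χ k) φ * CT.deg (φ : K → ℂ), by
        rw [CT.clifford_mult K hχ φ.2 hφ]; ring⟩
    rcases stab_step hp.out M' K _ hJi hKJ.le (CT.le_inertia K (CT.isClassFunction_of_isIrr φ.2))
      hcomm hchief (hpd _ hTd) with hT | hT
    swap
    · exact hVgood (hT.trans hTd)
    have hinv : ∀ g, CT.conjFun K g (φ : K → ℂ) = φ := fun g =>
      (CT.mem_inertia _).mp (hT ▸ Subgroup.mem_top g)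
    have hresK := CT.restrict_eq_smul_of_invariant K hχ φ.2 hφ hinv
    rw [CT.mult_spec (CT.isCharacter_restrict K hχc) (CT.isCharacter_of_isIrr φ.2)] at hresK
    set c := CT.mult (fun k : K => χ k) φ with hcdef
    have hψinv : ∀ g, CT.conjFun M' g (ψ : M' → ℂ) = ψ := fun g => by
      rw [← hψ]; exact CT.conjFun_restrict M' g (CT.isClassFunction_of_isIrr hχ)
    have hcd : c ∣ CT.deg χ := ⟨CT.deg (φ : K → ℂ), by
      rw [CT.clifford_mult K hχ φ.2 hφ, hT, Subgroup.index_top, mul_one]⟩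
    have hζ : ∀ n : K, (ψ : M' → ℂ) ⟨n, hKJ.le n.2⟩ = c * (φ : K → ℂ) n := by
      intro n
      have e1 := congrFun hψ ⟨n, hKJ.le n.2⟩
      have e2 := congrFun hresK n
      simp only [Pi.smul_apply, smul_eq_mul] at e1 e2
      rw [← e1, e2]
    rcases CT.chief_dichotomy hKJ.le hcomm hchief ψ.2 hψinv φ.2 c hζ with hc | hc
    swap
    · have hc1 : c ≠ 1 := fun h => hV1 (by rw [← hc, h, one_pow])
      obtain ⟨e, -, he⟩ := (Nat.dvd_prime_pow hr).mp (hd ▸ hc ▸ dvd_pow_self c two_ne_zero : c ∣ r ^ d)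
      refine hng ⟨c, ⟨r, e, hr.prime, Nat.pos_of_ne_zero ?_, he.symm⟩, hcd,
        cong_of_sq hp.out (hc ▸ hVmod)⟩
      rintro rfl
      exact hc1 (by simpa using he)
    -- the restriction to `K` is irreducible
    rw [hc, Nat.cast_one, one_smul] at hresK
    have hirrK : IsIrrCharacter K (fun k : K => χ k) := hresK ▸ φ.2
    let H : Subgroup G := (P : Subgroup G) ⊔ K
    have hHtop : H ≠ ⊤ := fun h => hnc (by
      show M' ≤ H
      rw [h]; exact le_top)
    haveI := Fintype.ofFinite H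
    have hirrH : IsIrrCharacter H (fun h : H => χ h) :=
      Glue.isIrr_of_res (Subgroup.inclusion (le_sup_right : K ≤ H))
        (CT.isCharacter_restrict H hχc) hirrK
    have hPH : (P.subtype (le_sup_left : (P : Subgroup G) ≤ H) : Subgroup H).Normal := by
      by_contra hne
      refine hng (ih H ?_ inferInstance _ hirrH (fun h hh => Subtype.ext (hfaith h hh)) _ hne)
      exact lt_of_le_of_ne (Nat.le_of_dvd Nat.card_pos (Subgroup.card_subgroup_dvd_card H))
        fun h => hHtop ((Subgroup.card_eq_iff_eq_top H).mp h)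
    have hKP : ∀ k ∈ K, ∀ x ∈ (P : Subgroup G), k * x * k⁻¹ ∈ (P : Subgroup G) := by
      intro k hk x hx
      have := hPH.conj_mem ⟨x, Subgroup.mem_sup_left hx⟩ (by exact hx)
        ⟨k, Subgroup.mem_sup_right hk⟩
      exact this
    set P1 := (P : Subgroup G) ⊓ K with hP1
    haveI hP1n : P1.Normal := by
      have hKtop : K ≠ ⊤ := fun h => hKJ.not_ge (h ▸ le_top)
      exact normal_inf hχ hfaith ih hsol hng P K hKtop
    haveI := Fintype.ofFinite P1
    -- `G` centralises `K / P1`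
    let Z : Subgroup G := (Subgroup.centralizer ((K.map (QuotientGroup.mk' P1) : Subgroup _) :
      Set (G ⧸ P1))).comap (QuotientGroup.mk' P1)
    haveI : (K.map (QuotientGroup.mk' P1)).Normal :=
      Subgroup.Normal.map inferInstance _ (QuotientGroup.mk'_surjective P1)
    have hZP : (P : Subgroup G) ≤ Z := by
      intro x hx
      rw [Subgroup.mem_comap, Subgroup.mem_centralizer_iff]
      rintro _ ⟨k, hk, rfl⟩
      rw [← map_mul, ← map_mul, QuotientGroup.mk'_eq_mk']
      refine ⟨(k * x)⁻¹ * (x * k), ⟨?_, ?_⟩, by group⟩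
      · have h1 := (P : Subgroup G).mul_mem
          (hKP k⁻¹ (K.inv_mem hk) x⁻¹ ((P : Subgroup G).inv_mem hx)) hx
        have h2 := hKP k⁻¹ (K.inv_mem hk) x hx
        have h3 := (P : Subgroup G).mul_mem ((P : Subgroup G).inv_mem hx) h2
        simp only [mul_assoc] at h3 ⊢
        simp only [mul_inv_rev, inv_inv, mul_assoc] at h3 ⊢
        exact h3
      · have h1 := K.mul_mem (hKn.conj_mem k⁻¹ (K.inv_mem hk) x⁻¹) hk
        simpa [mul_assoc] using h1
    have hZtop : Z = ⊤ := hPtop Z inferInstance hZP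
    have hcent : ∀ (g : G), ∀ k ∈ K, g * k * g⁻¹ * k⁻¹ ∈ P1 := by
      intro g k hk
      have h1 := (hZtop.symm ▸ Subgroup.mem_top g : g ∈ Z) _ ⟨k, hk, rfl⟩
      rw [← QuotientGroup.eq_one_iff]
      show QuotientGroup.mk' P1 (g * k * g⁻¹ * k⁻¹) = 1
      rw [map_mul, map_mul, map_mul, ← h1, map_inv, map_inv, mul_inv_cancel_right, mul_inv_cancel]
    -- a linear constituent on `P1`
    obtain ⟨lam, hlam⟩ := CT.exists_constituent_restrict P1 hχ
    have hl1 : CT.deg (lam : P1 → ℂ) = 1 := by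
      obtain ⟨a1, ha1⟩ := (P.isPGroup'.to_le (inf_le_left : P1 ≤ _)).exists_card_eq
      obtain ⟨i, -, hi⟩ := (Nat.dvd_prime_pow hp.out).mp (ha1 ▸ Glauberman.deg_dvd_card lam)
      rcases i with _ | i
      · simpa using hi
      · exact absurd (hi ▸ dvd_pow_self p i.succ_ne_zero)
          (hpd _ ⟨CT.mult (fun k : P1 => χ k) lam * (CT.inertia P1 (lam : P1 → ℂ)).index, by
            rw [CT.clifford_mult P1 hχ lam.2 hlam]; ring⟩)
    set T := CT.inertia P1 (lam : P1 → ℂ) with hTdef
    have hTdvd : T.index ∣ CT.deg χ :=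
      ⟨CT.mult (fun k : P1 => χ k) lam * CT.deg (lam : P1 → ℂ), by
        rw [CT.clifford_mult P1 hχ lam.2 hlam]; ring⟩
    have hUdvd : (T ⊔ K).index ∣ CT.deg χ := (Subgroup.index_dvd_of_le le_sup_left).trans hTdvd
    rcases stab_step hp.out M' K _ hJi hKJ.le (le_sup_right : K ≤ T ⊔ K)
      hcomm hchief (hpd _ hUdvd) with hU | hU
    swap
    · exact hVgood (hU.trans hUdvd)
    have hP1T : P1 ≤ T := CT.le_inertia P1 (CT.isClassFunction_of_isIrr lam.2)
    have hTn : T.Normal := by
      refine Subgroup.normalizer_eq_top_iff.mp (top_le_iff.mp ?_)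
      rw [← hU]
      refine sup_le Subgroup.le_normalizer fun k hk => ?_
      have key : ∀ k ∈ K, ∀ t ∈ T, k * t * k⁻¹ ∈ T := by
        intro k hk t ht
        have h1 := T.inv_mem (hP1T (hcent t k hk))
        have := T.mul_mem h1 ht
        simpa [mul_assoc] using this
      rw [Subgroup.mem_normalizer_iff]
      refine fun t => ⟨key k hk t, fun h => ?_⟩
      have := key k⁻¹ (K.inv_mem hk) _ h
      simpa [mul_assoc] using this
    have hTtop : T = ⊤ := hPtop T hTn fun x hx => by
      obtain ⟨i, hi⟩ := P.isPGroup' ⟨x, hx⟩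
      haveI := hTn
      rw [← QuotientGroup.eq_one_iff, ← orderOf_eq_one_iff]
      refine Nat.eq_one_of_dvd_coprimes
        ((hp.out.coprime_iff_not_dvd.mpr (hpd _ hTdvd)).pow_left i)
        (orderOf_dvd_of_pow_eq_one ?_) (orderOf_dvd_of_pow_eq_one ?_)
      · rw [← QuotientGroup.mk_pow, show x ^ p ^ i = 1 from congrArg Subtype.val hi,
          QuotientGroup.mk_one]
      · rw [← QuotientGroup.mk_pow, QuotientGroup.eq_one_iff]
        exact Subgroup.pow_index_mem T x
    have hTall : ∀ g : G, CT.conjFun P1 g (lam : P1 → ℂ) = lam := fun g =>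
      (CT.mem_inertia P1).mp (show g ∈ T by rw [hTtop]; exact Subgroup.mem_top g)
    have hresP := CT.restrict_eq_smul_of_invariant P1 hχ lam.2 hlam hTall
    obtain ⟨l, hl⟩ := CT.exists_hom_of_degree_one (CT.isCharacter_of_isIrr lam.2)
      (by rw [CT.deg_eq (CT.isCharacter_of_isIrr lam.2), hl1, Nat.cast_one])
    have hP1c : ∀ z ∈ P1, ∀ g : G, g * z = z * g := by
      intro z hz g
      have hin := congrFun (hTall g) ⟨z, hz⟩
      rw [CT.conjFun_eq_comp] at hin
      have hmem : g * z * g⁻¹ * z⁻¹ ∈ P1 := P1.mul_mem (hP1n.conj_mem z hz g) (P1.inv_mem hz)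
      have h1 := hfaith (g * z * g⁻¹ * z⁻¹) (by
        have e1 := congrFun hresP ⟨_, hmem⟩
        have e2 := congrFun hresP 1
        simp only [Pi.smul_apply, smul_eq_mul, OneMemClass.coe_one] at e1 e2
        rw [e1, e2]
        congr 1
        have e : (⟨_, hmem⟩ : P1) = MulAut.conjNormal g ⟨z, hz⟩ * (⟨z, hz⟩ : P1)⁻¹ :=
          Subtype.ext (by simp [MulAut.conjNormal_apply])
        rw [hl] at hin ⊢
        simp only [e, map_mul, map_inv, Units.val_mul, map_one, Units.val_one]
        have hin' : (l (MulAut.conjNormal g ⟨z, hz⟩) : ℂ) = (l ⟨z, hz⟩ : ℂ) := hin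
        rw [Units.ext hin', Units.mul_inv])
      calc g * z = (g * z * g⁻¹ * z⁻¹) * (z * g) := by group
        _ = z * g := by rw [h1, one_mul]
    -- so `P` centralises `K`
    have hPK : ∀ x ∈ (P : Subgroup G), ∀ k ∈ K, x * k = k * x := by
      intro x hx k hk
      set w := x * k * x⁻¹ * k⁻¹ with hw
      have hwP : w ∈ P1 := hcent x k hk
      have hwk : ∀ i : ℕ, x * k ^ i * x⁻¹ = w ^ i * k ^ i := by
        intro i
        induction i with
        | zero => simp
        | succ i ihi =>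
          have hc : Commute (k ^ i) w := hP1c w hwP (k ^ i)
          calc x * k ^ (i + 1) * x⁻¹ = (x * k ^ i * x⁻¹) * (x * k * x⁻¹) := by
                rw [pow_succ]; group
            _ = w ^ i * k ^ i * (w * k) := by rw [ihi, hw]; group
            _ = w ^ i * (k ^ i * w) * k := by group
            _ = w ^ i * (w * k ^ i) * k := by rw [hc.eq]
            _ = w ^ (i + 1) * k ^ (i + 1) := by rw [pow_succ, pow_succ]; group
      haveI := Fintype.ofFinite (P1.subgroupOf K)
      have hind : ¬ p ∣ (P1.subgroupOf K).index := by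
        have e1 := Subgroup.relIndex_mul_index (inf_le_left : P1 ≤ (P : Subgroup G))
        have e2 := Subgroup.relIndex_mul_index (inf_le_right : P1 ≤ K)
        have e3 := Subgroup.relIndex_mul_index (le_sup_right : K ≤ (P : Subgroup G) ⊔ K)
        rw [sup_comm (a := (P : Subgroup G)), Subgroup.relIndex_sup_left] at e3
        have e4 : K.relIndex (P : Subgroup G) = P1.relIndex (P : Subgroup G) := by
          rw [hP1, Subgroup.inf_relIndex_left]
        rw [← e3, ← e1, e4, mul_left_comm] at e2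
        have h1 : P1.relIndex K ∣ (P : Subgroup G).index :=
          ⟨_, (Nat.eq_of_mul_eq_mul_left (Nat.pos_of_ne_zero Subgroup.index_ne_zero_of_finite) e2).symm⟩
        exact fun h => P.not_dvd_index (h.trans h1)
      have hkm : k ^ (P1.subgroupOf K).index ∈ P1 :=
        Subgroup.pow_index_mem (P1.subgroupOf K) (⟨k, hk⟩ : K)
      have h1 := hwk (P1.subgroupOf K).index
      rw [hP1c _ hkm x, mul_inv_cancel_right] at h1
      have h2 : w ^ (P1.subgroupOf K).index = 1 := by
        have := h1.symm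
        exact mul_eq_right.mp this
      obtain ⟨i, hi⟩ := P.isPGroup' ⟨w, hwP.1⟩
      have h3 : w = 1 := orderOf_eq_one_iff.mp (Nat.eq_one_of_dvd_coprimes
        ((hp.out.coprime_iff_not_dvd.mpr hind).pow_left i)
        (orderOf_dvd_of_pow_eq_one (congrArg Subtype.val hi)) (orderOf_dvd_of_pow_eq_one h2))
      calc x * k = w * (k * x) := by rw [hw]; group
        _ = k * x := by rw [h3, one_mul]
    exact hP ⟨fun x hx g => by
      rw [← central_of_commutes hχ hfaith hirrK (hPK x hx) g, mul_inv_cancel_right]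
      exact hx⟩

/-- Let the finite solvable group G have a faithful irreducible character of degree n, and suppose that for the prime p a Sylow p-subgroup of G is not normal. Then n is divisible by a prime power q > 1 with q congruent to −1, 0 or 1 modulo p. -/
theorem result {G : Type*} [Group G] [Finite G] (χ : Cfsg.IrrCharacter G) (hfaith : ∀ g : G, (χ : G → ℂ) g = (χ : G → ℂ) 1 → g = 1) (n : ℕ) (hn : Cfsg.charDegree (χ : G → ℂ) = n) (hsolv : Group.IsSolvable G) (p : ℕ) (hp : p.Prime) (P : Sylow p G) (hP : ¬ (P : Subgroup G).Normal) : ∃ q : ℕ, IsPrimePow q ∧ q ∣ n ∧ ((q : ℤ) ≡ -1 [ZMOD p] ∨ (q : ℤ) ≡ 0 [ZMOD p] ∨ (q : ℤ) ≡ 1 [ZMOD p]) := by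
  haveI := Fact.mk hp
  have h := main_aux (p := p) (Nat.card G + 1) G (Nat.lt_succ_self _) hsolv χ χ.2 hfaith P hP
  rw [← hn]
  exact h

end Cfsg.Agent.S4467
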