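import Cfsg.Statements.S4468
import Cfsg.Agent.Lib.CT.Clifford
import Cfsg.Agent.Lib.CT.Degree
import Cfsg.Agent.Lib.CT.Kernel
import Cfsg.Agent.Lib.CT.RationalPBound
import Cfsg.Agent.Lib.CT.GaloisTwist
import Cfsg.Agent.Lib.CT.GaloisFixed
import Cfsg.Agent.Lib.CT.Misc
import Cfsg.Agent.Lib.OddChar.GaloisChar
import Cfsg.Agent.Lib.CoprimeExt.CoprimeDegree
import Cfsg.Agent.Lib.Transfer.Constrained
import Cfsg.Agent.Lib.Transfer.SL2Props
import Cfsg.Agent.Lib.Coprime23.PSolv
import Cfsg.Agent.Lib.Basics.Cores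
import Cfsg.Agent.Lib.Basics.CoprimeAction

set_option autoImplicit false
set_option linter.all false
open Cfsg

namespace Cfsg.Agent.S4468

open Cfsg.Agent
open scoped commutatorElement
open scoped Classical

universe u

/-- A character moving an element has an irreducible constituent moving it. -/
theorem exists_moving_constituent {H : Type u} [Group H] [Fintype H] {θ : H → ℂ}
    (hθ : IsCharacter H θ) {c : H} (h : θ c ≠ θ 1) :
    ∃ ψ : IrrCharacter H, classInner θ ψ ≠ 0 ∧ (ψ : H → ℂ) c ≠ (ψ : H → ℂ) 1 := by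
  by_contra hcon
  push Not at hcon
  refine h ?_
  rw [CT.character_eq_sum hθ]
  simp only [Finset.sum_apply, Pi.smul_apply, smul_eq_mul]
  refine Finset.sum_congr rfl fun ψ _ => ?_
  by_cases h0 : classInner θ (ψ : H → ℂ) = 0
  · have hm : (CT.mult θ (ψ : H → ℂ) : ℂ) = 0 := by
      rw [← CT.mult_spec hθ (CT.isCharacter_of_isIrr ψ.2), h0]
    rw [hm, zero_mul, zero_mul]
  · rw [hcon ψ h0]

theorem constituent_le {H : Type u} [Group H] [Fintype H] {θ : H → ℂ}
    (hθ : IsCharacter H θ) {ψ : IrrCharacter H} (h : classInner θ ψ ≠ 0) :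
    CT.deg (ψ : H → ℂ) ≤ CT.deg θ := by
  refine le_trans ?_ (CT.constituent_deg_le hθ ψ)
  refine Nat.le_mul_of_pos_left _ (Nat.pos_of_ne_zero fun h0 => h ?_)
  rw [CT.mult_spec hθ (CT.isCharacter_of_isIrr ψ.2), h0, Nat.cast_zero]

/-- A `p`-element moving a normal `q`-subgroup of `p`-power index in an irreducible character of
degree below `p`: the degree is a proper power of `q` and is at least `p - 1`. -/
theorem core {H : Type u} [Group H] [Finite H] {p q a b : ℕ} (hp : p.Prime) (hq : q.Prime)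
    (hqp : q ≠ p) (Q : Subgroup H) [hQn : Q.Normal] (hQ : Nat.card Q = q ^ a) (hind : Q.index = p ^ b)
    {x u : H} (hx : x ^ p ^ b = 1) (hc : u * x * u⁻¹ * x⁻¹ ∈ Q)
    (χ : IrrCharacter H) (hne : (χ : H → ℂ) (u * x * u⁻¹ * x⁻¹) ≠ (χ : H → ℂ) 1)
    (hlt : CT.deg (χ : H → ℂ) < p) :
    ∃ k, 1 ≤ k ∧ CT.deg (χ : H → ℂ) = q ^ k ∧ p - 1 ≤ CT.deg (χ : H → ℂ) := by
  haveI := Fintype.ofFinite H
  haveI := Fintype.ofFinite Q
  set c := u * x * u⁻¹ * x⁻¹ with hcdef
  have hχc := CT.isCharacter_of_isIrr χ.2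
  obtain ⟨θ, hθ⟩ := CT.exists_constituent_restrict Q χ.2
  obtain ⟨k, hk, hkd⟩ := CT.deg_ratio_dvd_index Q χ.2 θ.2 hθ
  have hθpos := CT.deg_pos θ.2
  have hk1 : k = 1 := by
    rw [hind] at hkd
    obtain ⟨i, -, rfl⟩ := (Nat.dvd_prime_pow hp).mp hkd
    rcases i with _ | i
    · simp
    · exfalso
      have h1 : p ∣ CT.deg (χ : H → ℂ) := by
        rw [hk]; exact dvd_mul_of_dvd_left (dvd_pow_self p i.succ_ne_zero) _
      have h2 := Nat.le_of_dvd (CT.deg_pos χ.2) h1
      omega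
  rw [hk1, one_mul] at hk
  have hres : (fun n : Q => (χ : H → ℂ) n) = (θ : Q → ℂ) := by
    refine CT.eq_of_deg_le (CT.isCharacter_restrict Q hχc) θ.2 hθ (le_of_eq ?_)
    rw [← hk]; rfl
  obtain ⟨e, -, he⟩ := (Nat.dvd_prime_pow hq).mp (hQ ▸ Glauberman.deg_dvd_card θ)
  have hcop : Nat.Coprime (p ^ b) (q ^ a) :=
    Nat.Coprime.pow _ _ ((Nat.coprime_primes hp hq).mpr hqp.symm)
  refine ⟨e, Nat.one_le_iff_ne_zero.mpr fun he0 => hne ?_, hk.trans he, ?_⟩
  · refine CT.linear_trivial_on_commutator hχc ?_ c ?_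
    · rw [CT.deg_eq hχc, hk, he, he0]; norm_num
    · rw [hcdef, ← commutatorElement_def]
      exact Subgroup.commutator_mem_commutator (Subgroup.mem_top _) (Subgroup.mem_top _)
  · by_contra hlt'
    push Not at hlt'
    have hinv : ∀ (g : H) (n : Q), (θ : Q → ℂ) ⟨g * n * g⁻¹, hQn.conj_mem n n.2 g⟩
        = (θ : Q → ℂ) n := by
      intro g n
      rw [← hres]
      exact CT.isClassFunction_of_isCharacter hχc (n : H) g
    have hcd : Nat.Coprime Q.index (CT.deg (θ : Q → ℂ)) := by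
      rw [hind]; exact hcop.coprime_dvd_right (hQ ▸ Glauberman.deg_dvd_card θ)
    have hod : detOrder (θ : Q → ℂ) ∣ q ^ a :=
      hQ ▸ CoprimeExt.detOrder_dvd_card (CT.isCharacter_of_isIrr θ.2)
    have hcdo : Nat.Coprime Q.index (detOrder (θ : Q → ℂ)) := by
      rw [hind]; exact hcop.coprime_dvd_right hod
    obtain ⟨η, ⟨hη, hηo⟩, huniq⟩ := CoprimeExt.exists_coprime_ext Q θ hinv hcd hcdo
    have hcard : Nat.card H = q ^ a * p ^ b := by rw [← hQ, ← hind, Q.card_mul_index]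
    have hrat : ∀ j : ℕ, j.Coprime p → (η : H → ℂ) (x ^ j) = (η : H → ℂ) x := by
      intro j hj
      let J := Nat.chineseRemainder hcop.symm 1 j
      have hJq : (J : ℕ) ≡ 1 [MOD q ^ a] := J.2.1
      have hJp : (J : ℕ) ≡ j [MOD p ^ b] := J.2.2
      have hJc : (J : ℕ).Coprime (Nat.card H) := by
        rw [hcard]
        refine Nat.Coprime.mul_right ?_ ?_
        · rw [Nat.Coprime, hJq.gcd_eq]; exact Nat.gcd_one_left _
        · rw [Nat.Coprime, hJp.gcd_eq]; exact hj.pow_right b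
      obtain ⟨f, hf⟩ := OddChar.exists_ringEquiv_pow (Nat.card_pos (α := H)) hJc
      obtain ⟨d, ρ, hρ⟩ := CT.isCharacter_of_isIrr η.2
      have hval : (CT.GaloisTwist.mapRep f ρ).character = fun g => (η : H → ℂ) (g ^ (J : ℕ)) := by
        funext g
        rw [CT.GaloisTwist.mapRep_char, ← CT.GaloisFixed.map_char (CT.isCharacter_of_isIrr η.2) f hf g, ← hρ]
      have hcoord : IsCharacter H (fun g => (η : H → ℂ) (g ^ (J : ℕ))) :=
        hval ▸ ⟨d, CT.GaloisTwist.mapRep f ρ, rfl⟩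
      have hfn : ∀ n : Q, (fun g => (η : H → ℂ) (g ^ (J : ℕ))) (n : H) = (θ : Q → ℂ) n := by
        intro n
        show (η : H → ℂ) ((n : H) ^ (J : ℕ)) = _
        have h1 : (n : H) ^ (J : ℕ) = n := by
          conv_rhs => rw [← pow_one (n : H)]
          refine pow_eq_pow_iff_modEq.mpr (hJq.of_dvd ?_)
          rw [Subgroup.orderOf_coe, ← hQ]
          exact orderOf_dvd_natCard n
        rw [h1]; exact hη n
      have hdo : Nat.Coprime Q.index (detOrder (fun g => (η : H → ℂ) (g ^ (J : ℕ)))) := by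
        rw [hind, ← hval, CoprimeExt.detOrder_eq]
        refine hcop.coprime_dvd_right ((orderOf_dvd_of_pow_eq_one ?_).trans hod)
        refine MonoidHom.ext fun g => Units.ext ?_
        have ho : CoprimeExt.detHom ρ ^ detOrder (θ : Q → ℂ) = 1 := by
          rw [← hηo, ← hρ, CoprimeExt.detOrder_eq, pow_orderOf_eq_one]
        have h2 := congrArg (fun l : H →* ℂˣ => ((l g : ℂˣ) : ℂ)) ho
        simp only [MonoidHom.pow_apply, Units.val_pow_eq_pow_val, MonoidHom.one_apply,
          Units.val_one] at h2 ⊢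
        rw [CT.GaloisTwist.mapRep_det, ← map_pow, h2, map_one]
      have heq := congrFun (huniq _ hcoord hfn hdo) x
      refine Eq.trans ?_ heq
      show (η : H → ℂ) (x ^ j) = (η : H → ℂ) (x ^ (J : ℕ))
      rw [show x ^ j = x ^ (J : ℕ) from
        pow_eq_pow_iff_modEq.mpr ((hJp.of_dvd (orderOf_dvd_of_pow_eq_one hx)).symm)]
    have hηd : CT.deg (η : H → ℂ) = CT.deg (θ : Q → ℂ) := by
      unfold CT.deg
      rw [← hη 1]; simp
    obtain ⟨k', hk', hval⟩ :=
      CT.RationalP.exists_value hp (CT.isCharacter_of_isIrr η.2) hx hrat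
    have hk0 : k' = 0 := by
      by_contra h0
      have : p - 1 ≤ (p - 1) * k' := Nat.le_mul_of_pos_right _ (Nat.pos_of_ne_zero h0)
      omega
    have hxk : x ∈ CT.kerChar (η : H → ℂ) := by
      rw [CT.mem_kerChar_iff (CT.isCharacter_of_isIrr η.2), hval, hk0,
        CT.deg_eq (CT.isCharacter_of_isIrr η.2)]
      simp
    have hck : c ∈ CT.kerChar (η : H → ℂ) := by
      refine Subgroup.mul_mem _ ?_ (Subgroup.inv_mem _ hxk)
      rw [CT.mem_kerChar_iff (CT.isCharacter_of_isIrr η.2)] at hxk ⊢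
      rw [CT.isClassFunction_of_isIrr η.2 x u, hxk]
    rw [CT.mem_kerChar_iff (CT.isCharacter_of_isIrr η.2)] at hck
    refine hne ?_
    have e1 := congrFun hres ⟨c, hc⟩
    have e2 := congrFun hres 1
    have e3 := hη ⟨c, hc⟩
    have e4 := hη 1
    simp only [OneMemClass.coe_one] at e2 e4 e3 e1
    rw [e1, e2, ← e3, ← e4, hck]

/-- A Sylow subgroup that is abelian and not normal in a `p`-solvable group moves a `q`-subgroup. -/
theorem exists_moved {G : Type u} [Group G] [Finite G] {p : ℕ} [hp : Fact p.Prime]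
    (hsol : IsPSolvable p G) (P : Sylow p G)
    (hab : ∀ a ∈ (P : Subgroup G), ∀ b ∈ (P : Subgroup G), a * b = b * a)
    (hP : ¬ (P : Subgroup G).Normal) :
    ∃ (q : ℕ) (Q : Subgroup G) (x u : G), q.Prime ∧ q ≠ p ∧ IsPGroup q Q ∧
      x ∈ (P : Subgroup G) ∧ x ∈ Subgroup.normalizer (Q : Set G) ∧ u ∈ Q ∧
      u * x * u⁻¹ * x⁻¹ ≠ 1 := by
  set N := pPrimeCore p G with hN
  haveI : N.Normal := Basics.pPrimeCore_normal p
  let π := QuotientGroup.mk' N
  have hπ := QuotientGroup.mk'_surjective N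
  have hO : pPrimeCore p (G ⧸ N) = ⊥ := Basics.pPrimeCore_quotient_eq_bot p
  have hcX := Transfer.centralizer_pCore_le_of_pSolvable hO
    (Transfer.isPSolvable_subgroup' (Coprime23.isPSolvable_map π hπ hsol) _)
  set R := pCore p (G ⧸ N) with hR
  haveI : R.Normal := Basics.pCore_normal p
  let S : Sylow p (G ⧸ N) := P.mapSurjective hπ
  have hS : (S : Subgroup (G ⧸ N)) = (P : Subgroup G).map π := rfl
  have hRS : R ≤ (S : Subgroup (G ⧸ N)) := by
    have h2 := (Basics.pCore_isPGroup (G := G ⧸ N) p).to_sup_of_normal_left' S.isPGroup'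
      (by rw [Subgroup.normalizer_eq_top]; exact le_top)
    exact le_sup_left.trans (S.is_maximal' h2 le_sup_right).le
  have hSR : (S : Subgroup (G ⧸ N)) ≤ R := by
    refine le_trans ?_ hcX
    intro z hz r hr
    have hr' := hRS hr
    rw [hS] at hz hr'
    obtain ⟨a, ha, rfl⟩ := hz
    obtain ⟨b, hb, rfl⟩ := hr'
    rw [← map_mul, ← map_mul, hab b hb a ha]
  have hM : ((P : Subgroup G) ⊔ N).Normal := by
    have h1 : (P : Subgroup G) ⊔ N = ((P : Subgroup G).map π).comap π := by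
      rw [Subgroup.comap_map_eq, QuotientGroup.ker_mk']
    have h2 : (P : Subgroup G).map π = R := le_antisymm (hS ▸ hSR) (hS ▸ hRS)
    rw [h1, h2]; infer_instance
  obtain ⟨x, hxP, z, hzN, hxz⟩ :
      ∃ x ∈ (P : Subgroup G), ∃ z ∈ N, z * x ≠ x * z := by
    by_contra hcon
    push Not at hcon
    have hNP : (P : Subgroup G) ⊔ N ≤ Subgroup.normalizer ((P : Subgroup G) : Set G) := by
      refine sup_le Subgroup.le_normalizer fun z hz => ?_
      rw [Subgroup.mem_normalizer_iff]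
      intro h
      have key : ∀ w ∈ (P : Subgroup G), z * w * z⁻¹ = w := fun w hw => by
        rw [hcon w hw z hz, mul_inv_cancel_right]
      refine ⟨fun hh => by rw [key h hh]; exact hh, fun hh => ?_⟩
      have h1 := key _ hh
      have h2 : z * h * z⁻¹ = h := mul_right_cancel (mul_left_cancel (by simpa only [mul_assoc] using h1) :
        z * h * z⁻¹ * z⁻¹ = h * z⁻¹)
      rwa [h2] at hh
    refine hP ⟨fun w hw g => ?_⟩
    let K := (P : Subgroup G).map (MulAut.conj g).toMonoidHom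
    have hK : IsPGroup p K := P.isPGroup'.map _
    have hKn : K ≤ Subgroup.normalizer ((P : Subgroup G) : Set G) := by
      rintro _ ⟨v, hv, rfl⟩
      exact hNP (hM.conj_mem v (Subgroup.mem_sup_left hv) g)
    have hKP := hK.inf_normalizer_sylow P
    have hKle : K ≤ (P : Subgroup G) :=
      ((inf_eq_left.mpr hKn).symm.trans hKP).le.trans inf_le_right
    exact hKle ⟨w, hw, rfl⟩
  obtain ⟨b, hb⟩ := P.isPGroup' ⟨x, hxP⟩
  have hxb : x ^ p ^ b = 1 := congrArg Subtype.val hb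
  have hcopN : (Nat.card N).Coprime p := Basics.pPrimeCore_coprime p
  have hXcop : (Nat.card (Subgroup.zpowers x)).Coprime (Nat.card N) := by
    rw [Nat.card_zpowers]
    exact Nat.Coprime.coprime_dvd_left (orderOf_dvd_of_pow_eq_one hxb) (hcopN.symm.pow_left b)
  have hXN : Subgroup.zpowers x ≤ Subgroup.normalizer (N : Set G) := by
    rw [Subgroup.normalizer_eq_top]; exact le_top
  by_contra hcon
  push Not at hcon
  apply hxz
  have hall : N ≤ Subgroup.centralizer ({x} : Set G) := by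
    set D := N ⊓ Subgroup.centralizer ({x} : Set G)
    suffices hc : Nat.card N ∣ Nat.card D from
      (Subgroup.eq_of_le_of_card_ge inf_le_left
        (Nat.le_of_dvd Nat.card_pos hc)).ge.trans inf_le_right
    refine (Nat.factorization_prime_le_iff_dvd Nat.card_pos.ne' Nat.card_pos.ne').mp fun q hq => ?_
    haveI := Fact.mk hq
    by_cases hqN : q ∣ Nat.card N
    · obtain ⟨S, hS, hSn⟩ := Basics.exists_invariant_isSylowIn (Subgroup.zpowers x) N hXN hXcop
        (Or.inl inferInstance) q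
      have hqp : q ≠ p := by
        rintro rfl
        exact hp.out.one_lt.ne' (Nat.eq_one_of_dvd_coprimes hcopN hqN dvd_rfl)
      have hle : S ≤ D := le_inf hS.1 fun v hv => by
        have h1 := hcon q S x v hq hqp hS.isPGroup hxP (hSn (Subgroup.mem_zpowers x)) hv
        rw [Subgroup.mem_centralizer_singleton_iff]
        calc v * x = (v * x * v⁻¹ * x⁻¹) * (x * v) := by group
          _ = x * v := by rw [h1, one_mul]
      refine (hq.pow_dvd_iff_le_factorization Nat.card_pos.ne').mp ?_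
      rw [← hS.2]
      exact Subgroup.card_dvd_of_le hle
    · rw [Nat.factorization_eq_zero_of_not_dvd hqN]
      exact Nat.zero_le _
  exact Subgroup.mem_centralizer_singleton_iff.mp (hall hzN)

/-- Let the finite p-solvable group G have a faithful character χ of degree n ≤ p − 1 and suppose that a Sylow p-subgroup of G is not normal. Then n = p − 1, n is a power of 2, and χ is irreducible. -/
theorem result {G : Type*} [Group G] [Finite G] (χ : G → ℂ) (hχ : Cfsg.IsCharacter G χ) (hfaith : ∀ g : G, χ g = χ 1 → g = 1) (n : ℕ) (hn : Cfsg.charDegree χ = n) (p : ℕ) (hp : p.Prime) (hsolv : Cfsg.IsPSolvable p G) (hnp : n + 1 ≤ p) (P : Sylow p G) (hP : ¬ (P : Subgroup G).Normal) : n + 1 = p ∧ (∃ k : ℕ, n = 2 ^ k) ∧ Cfsg.IsIrrCharacter G χ := by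
  haveI := Fact.mk hp
  haveI := Fintype.ofFinite G
  haveI := Fintype.ofFinite (P : Subgroup G)
  have hdeg : CT.deg χ = n := hn
  -- the Sylow subgroup is abelian
  have hab : ∀ a ∈ (P : Subgroup G), ∀ b ∈ (P : Subgroup G), a * b = b * a := by
    intro a ha b hb
    by_contra hne
    let c : (P : Subgroup G) := ⁅(⟨a, ha⟩ : (P : Subgroup G)), ⟨b, hb⟩⁆
    have hc : (fun t : (P : Subgroup G) => χ t) c ≠ (fun t : (P : Subgroup G) => χ t) 1 := by
      intro h
      have h1 : a * b * a⁻¹ * b⁻¹ = 1 := hfaith _ (by simpa [c, commutatorElement_def] using h)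
      exact hne (commutatorElement_eq_one_iff_mul_comm.mp (by rw [commutatorElement_def]; exact h1))
    obtain ⟨ψ, hψ, hψc⟩ := exists_moving_constituent (CT.isCharacter_restrict _ hχ) hc
    have hle : CT.deg (ψ : ↥(P : Subgroup G) → ℂ) ≤ n :=
      (constituent_le (CT.isCharacter_restrict _ hχ) hψ).trans (le_of_eq hdeg)
    obtain ⟨a', ha'⟩ := P.isPGroup'.exists_card_eq
    obtain ⟨i, -, hi⟩ := (Nat.dvd_prime_pow hp).mp (ha' ▸ Glauberman.deg_dvd_card ψ)
    rcases i with _ | i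
    · refine hψc (CT.linear_trivial_on_commutator (CT.isCharacter_of_isIrr ψ.2) ?_ c ?_)
      · rw [CT.deg_eq (CT.isCharacter_of_isIrr ψ.2), hi]; norm_num
      · exact Subgroup.commutator_mem_commutator (Subgroup.mem_top _) (Subgroup.mem_top _)
    · have : p ≤ p ^ (i + 1) := Nat.le_self_pow i.succ_ne_zero p
      omega
  obtain ⟨q, Q, x, u, hq, hqp, hQq, hxP, hxQ, huQ, hc1⟩ := exists_moved hsolv P hab hP
  obtain ⟨ψ, hψ, hψc⟩ := exists_moving_constituent hχ (c := u * x * u⁻¹ * x⁻¹)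
    (fun h => hc1 (hfaith _ h))
  have hψn : CT.deg (ψ : G → ℂ) ≤ n := (constituent_le hχ hψ).trans (le_of_eq hdeg)
  let H : Subgroup G := Q ⊔ Subgroup.zpowers x
  haveI := Fintype.ofFinite H
  have huH : u ∈ H := Subgroup.mem_sup_left huQ
  have hxH : x ∈ H := Subgroup.mem_sup_right (Subgroup.mem_zpowers x)
  let u' : H := ⟨u, huH⟩
  let x' : H := ⟨x, hxH⟩
  have hψH := CT.isCharacter_restrict H (CT.isCharacter_of_isIrr ψ.2)
  obtain ⟨η, hη, hηc⟩ := exists_moving_constituent hψH (c := u' * x' * u'⁻¹ * x'⁻¹) hψc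
  have hηn : CT.deg (η : H → ℂ) ≤ CT.deg (ψ : G → ℂ) :=
    (constituent_le hψH hη).trans (le_of_eq rfl)
  have hHn : H ≤ Subgroup.normalizer (Q : Set G) :=
    sup_le Subgroup.le_normalizer (Subgroup.zpowers_le.mpr hxQ)
  haveI hQ'n : (Q.subgroupOf H).Normal := Subgroup.normal_subgroupOf_of_le_normalizer hHn
  obtain ⟨a, hQa⟩ := (haveI := Fact.mk hq; hQq.exists_card_eq)
  have hQ' : Nat.card (Q.subgroupOf H) = q ^ a := by
    rw [Nat.card_congr (Subgroup.subgroupOfEquivOfLe le_sup_left).toEquiv, hQa]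
  obtain ⟨b, hb⟩ := P.isPGroup' ⟨x, hxP⟩
  have hxb : x ^ p ^ b = 1 := congrArg Subtype.val hb
  obtain ⟨b', hb'⟩ : ∃ b', (Q.subgroupOf H).index = p ^ b' := by
    have htop : ((Subgroup.zpowers x).subgroupOf H).map (QuotientGroup.mk' (Q.subgroupOf H)) = ⊤ := by
      rw [← top_le_iff, ← Subgroup.map_top_of_surjective (QuotientGroup.mk' (Q.subgroupOf H))
        (QuotientGroup.mk'_surjective _)]
      have hsup : Q.subgroupOf H ⊔ (Subgroup.zpowers x).subgroupOf H = ⊤ := by
        rw [← Subgroup.subgroupOf_sup le_sup_left le_sup_right, Subgroup.subgroupOf_self]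
      rw [← hsup, Subgroup.map_sup, QuotientGroup.map_mk'_self, bot_sup_eq]
    have hd : (Q.subgroupOf H).index ∣ p ^ b := by
      have h1 := Subgroup.card_map_dvd ((Subgroup.zpowers x).subgroupOf H)
        (QuotientGroup.mk' (Q.subgroupOf H))
      rw [htop, Subgroup.card_top, ← Subgroup.index] at h1
      refine h1.trans ?_
      rw [Nat.card_congr (Subgroup.subgroupOfEquivOfLe le_sup_right).toEquiv, Nat.card_zpowers]
      exact orderOf_dvd_of_pow_eq_one hxb
    obtain ⟨b', -, hb'⟩ := (Nat.dvd_prime_pow hp).mp hd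
    exact ⟨b', hb'⟩
  have hcQ : u' * x' * u'⁻¹ * x'⁻¹ ∈ Q.subgroupOf H := by
    show u * x * u⁻¹ * x⁻¹ ∈ Q
    have h1 : x * u⁻¹ * x⁻¹ ∈ Q := (Subgroup.mem_normalizer_iff.mp hxQ _).mp (Q.inv_mem huQ)
    have h2 := Q.mul_mem huQ h1
    simpa [mul_assoc] using h2
  have hx' : x' ^ p ^ b' = 1 := by
    have h1 : x' ^ p ^ b' ∈ Q.subgroupOf H := hb' ▸ Subgroup.pow_index_mem _ x'
    refine orderOf_eq_one_iff.mp (Nat.dvd_one.mp ?_)
    have h2 : orderOf (x' ^ p ^ b') ∣ p ^ b := (orderOf_pow_dvd _).trans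
      (orderOf_dvd_of_pow_eq_one (Subtype.ext (by simpa [x'] using hxb)))
    have h3 : orderOf (x' ^ p ^ b') ∣ q ^ a := hQ' ▸ Subgroup.orderOf_dvd_natCard _ h1
    exact (Nat.Coprime.pow b a ((Nat.coprime_primes hp hq).mpr hqp.symm)) ▸ Nat.dvd_gcd h2 h3
  obtain ⟨k, hk1, hk, hge⟩ := core hp hq hqp (Q.subgroupOf H) hQ' hb' hx' hcQ η hηc (by omega)
  have hnp1 : n + 1 = p := by omega
  have hq2 : q = 2 := by
    have heven : 2 ∣ q ^ k := by
      rcases hp.eq_two_or_odd' with h2 | hodd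
      · exfalso
        have : 2 ≤ q ^ k := hq.two_le.trans (Nat.le_self_pow (by omega) q)
        omega
      · obtain ⟨m, hm⟩ := hodd
        exact ⟨m, by omega⟩
    exact ((Nat.prime_dvd_prime_iff_eq Nat.prime_two hq).mp (Nat.prime_two.dvd_of_dvd_pow heven)).symm
  refine ⟨hnp1, ⟨k, by subst hq2; omega⟩, ?_⟩
  have hle : CT.deg χ ≤ CT.deg (ψ : G → ℂ) := by omega
  rw [CT.eq_of_deg_le hχ ψ.2 hψ hle]
  exact ψ.2

end Cfsg.Agent.S4468
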