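import Cfsg.Statements.S4474
import Cfsg.Agent.Lib.CT.RealRep

set_option autoImplicit false
set_option linter.all false
open Cfsg

namespace Cfsg.Agent.S4474

/-- Let χ be an irreducible character of the finite group G. Then the Frobenius–Schur indicator of χ (the average over s ∈ G of χ(s²)) equals 1 if and only if χ is afforded by a real representation: there is a representation of G on a real coordinate space whose trace function, viewed in ℂ, is χ. -/
theorem result {G : Type*} [Group G] [Fintype G] (χ : Cfsg.IrrCharacter G) : ((Nat.card G : ℂ)⁻¹ * ∑ s : G, (χ : G → ℂ) (s * s)) = 1 ↔ ∃ (n : ℕ) (ρ : Representation ℝ G (Fin n → ℝ)), ∀ g : G, ((LinearMap.trace ℝ (Fin n → ℝ) (ρ g) : ℝ) : ℂ) = (χ : G → ℂ) g := by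
  classical
  constructor
  · intro h
    have hr : ∀ g, ((χ : G → ℂ) g).im = 0 := by
      by_contra hne
      push Not at hne
      have h0 := ((CT.fsInd_irr χ.2).2.mpr hne)
      rw [show CT.fsInd (χ : G → ℂ) = 1 from h] at h0
      exact one_ne_zero h0
    obtain ⟨n, ρ, hρ, hχ⟩ := χ.2
    haveI := hρ
    rw [← hχ] at hr h
    obtain ⟨M, h0, hM, hsym⟩ := RealRep.exists_form ρ hr
    rw [show CT.fsInd ρ.character = 1 from h, one_smul] at hsym
    obtain ⟨m, σ, hσ⟩ := RealRep.exists_real ρ hM h0 hsym
    exact ⟨m, σ, fun g => (hσ g).trans (congrFun hχ g)⟩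
  · rintro ⟨m, σ, hσ⟩
    obtain ⟨τ, hτ, M, hM, hsym, hne⟩ := RealRep.exists_form_of_real σ
    have hc : τ.character = (χ : G → ℂ) := funext fun g => (hτ g).trans (hσ g)
    haveI : τ.IsIrreducible := CT.isIrreducible_of_isIrrCharacter τ (hc ▸ χ.2)
    have hm : 0 < m := by
      rcases Nat.eq_zero_or_pos m with rfl | h
      · exact absurd (show (χ : G → ℂ) 1 = 0 by rw [← hc, Representation.char_one]; simp) (CT.irr_one_ne_zero χ.2)
      · exact h
    have hr : ∀ g, (τ.character g).im = 0 := fun g => by rw [hτ]; exact Complex.ofReal_im _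
    have h := RealRep.form_symm τ hr hM
    rw [hsym, hc] at h
    have h1 : (1 - CT.fsInd (χ : G → ℂ)) • M = 0 := by rw [sub_smul, one_smul, ← h, sub_self]
    exact (sub_eq_zero.mp ((smul_eq_zero.mp h1).resolve_right (hne hm))).symm

end Cfsg.Agent.S4474
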