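import Cfsg.Statements.S4476
import Cfsg.Agent.Lib.CharFS.Basic
import Mathlib.GroupTheory.GroupAction.CardCommute
import Mathlib.Algebra.Order.Chebyshev

set_option autoImplicit false
open Cfsg

namespace Cfsg.Agent.S4476

open scoped ComplexConjugate

variable {G : Type*} [Group G] [Fintype G]

/-- Counting commuting pairs. -/
theorem conjClasses_bound {m : ℕ} (hm : ∀ x : G, x ≠ 1 → m ≤ (Subgroup.centralizer ({x} : Set G)).index) :
    m * (Nat.card (ConjClasses G) - 1) ≤ Nat.card G - 1 := by
  classical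
  have h : ∑ x : G, Nat.card ↥(Subgroup.centralizer ({x} : Set G)) =
      Nat.card (ConjClasses G) * Nat.card G := by
    rw [← card_comm_eq_card_conjClasses_mul_card, ← Nat.card_sigma]
    exact Nat.card_congr
      { toFun := fun p => ⟨(p.1, p.2.1), (Subgroup.mem_centralizer_singleton_iff.mp p.2.2).symm⟩
        invFun := fun p => ⟨p.1.1, p.1.2, Subgroup.mem_centralizer_singleton_iff.mpr p.2.symm⟩
        left_inv := fun p => rfl
        right_inv := fun p => rfl }
  rw [← Finset.add_sum_erase _ _ (Finset.mem_univ (1 : G))] at h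
  have h1 : Nat.card ↥(Subgroup.centralizer ({(1 : G)} : Set G)) = Nat.card G := by
    rw [show Subgroup.centralizer ({(1 : G)} : Set G) = ⊤ by
      ext x; simp [Subgroup.mem_centralizer_singleton_iff], Subgroup.card_top]
  rw [h1] at h
  have h2 : m * ∑ x ∈ Finset.univ.erase (1 : G), Nat.card ↥(Subgroup.centralizer ({x} : Set G)) ≤
      (Nat.card G - 1) * Nat.card G := by
    rw [Finset.mul_sum]
    refine (Finset.sum_le_card_nsmul _ _ (Nat.card G) fun x hx => ?_).trans ?_
    · calc m * Nat.card ↥(Subgroup.centralizer ({x} : Set G)) ≤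
          (Subgroup.centralizer ({x} : Set G)).index * Nat.card ↥(Subgroup.centralizer ({x} : Set G)) :=
            Nat.mul_le_mul_right _ (hm x (Finset.ne_of_mem_erase hx))
        _ = Nat.card G := Subgroup.index_mul_card _
    · rw [Finset.card_erase_of_mem (Finset.mem_univ _), Finset.card_univ, smul_eq_mul,
        Nat.card_eq_fintype_card]
  refine Nat.le_of_mul_le_mul_right (le_trans (le_of_eq ?_) h2) (Nat.card_pos (α := G))
  rw [mul_assoc]
  congr 1
  rw [Nat.sub_mul, one_mul, ← h, Nat.add_sub_cancel_left]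

/-- Let G be a finite group of even order g with exactly t involutions, and put α = (g − 1)/t (a rational number). Then (a) some non-identity element x of G has at most α² conjugates; and (b) some non-principal real-valued irreducible character of G has degree at most α. -/
theorem result {G : Type*} [Group G] [Fintype G] (heven : Even (Nat.card G)) (t : ℕ) (ht : Nat.card {x : G // orderOf x = 2} = t) : (∃ x : G, x ≠ 1 ∧ ((Subgroup.centralizer ({x} : Set G)).index : ℚ) ≤ (((Nat.card G : ℚ) - 1) / t) ^ 2) ∧ ∃ χ : Cfsg.IrrCharacter G, (χ : G → ℂ) ≠ (fun _ => 1) ∧ (∀ g : G, ((χ : G → ℂ) g).im = 0) ∧ (Cfsg.charDegree (χ : G → ℂ) : ℚ) ≤ ((Nat.card G : ℚ) - 1) / t := by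
  classical
  have hdeg : ∀ χ : IrrCharacter G, (χ : G → ℂ) 1 = (charDegree (χ : G → ℂ) : ℂ) := fun χ => by
    show _ = ((⌊((χ : G → ℂ) 1).re⌋₊ : ℕ) : ℂ)
    rw [CT.deg_eq (CT.isCharacter_of_isIrr χ.2), Complex.natCast_re, Nat.floor_natCast]
  set g := Nat.card G with hg
  set d : IrrCharacter G → ℕ := fun χ => charDegree (χ : G → ℂ) with hd
  have hd1 : d (CT.trivIrr G) = 1 := by
    show ⌊((1 : ℂ)).re⌋₊ = 1
    simp
  set S := Finset.univ.filter
    (fun χ : IrrCharacter G => χ ≠ CT.trivIrr G ∧ CharFS.ind (χ : G → ℂ) ≠ 0) with hS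
  have hsq : Nat.card {u : G // u * u = 1} = t + 1 := by
    rw [← ht, Nat.card_eq_fintype_card, Nat.card_eq_fintype_card, Fintype.card_subtype,
      Fintype.card_subtype]
    have e : Finset.univ.filter (fun u : G => u * u = 1) =
        insert 1 (Finset.univ.filter fun u : G => orderOf u = 2) := by
      ext u
      simp only [Finset.mem_filter, Finset.mem_univ, true_and, Finset.mem_insert, orderOf_eq_iff two_pos]
      constructor
      · intro h
        by_cases h1 : u = 1
        · exact Or.inl h1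
        · refine Or.inr ⟨by rw [pow_two]; exact h, fun m hm hm0 => ?_⟩
          rw [show m = 1 by omega, pow_one]
          exact h1
      · rintro (rfl | ⟨h, -⟩)
        · exact one_mul 1
        · rwa [pow_two] at h
    rw [e, Finset.card_insert_of_notMem (by simp)]
  have htle : t ≤ ∑ χ ∈ S, d χ := by
    have h := CharFS.card_sqrt (1 : G)
    rw [hsq] at h
    have hb : ∀ χ : IrrCharacter G, (CharFS.ind (χ : G → ℂ) * (χ : G → ℂ) 1).re ≤
        if CharFS.ind (χ : G → ℂ) ≠ 0 then (d χ : ℝ) else 0 := by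
      intro χ
      rw [hdeg χ]
      rcases CharFS.ind_cases χ.2 with ⟨e, -⟩ | ⟨e | e, -⟩ <;> simp [e, hd]
    have h2 : ((t + 1 : ℕ) : ℝ) ≤
        ∑ χ ∈ Finset.univ.filter (fun χ : IrrCharacter G => CharFS.ind (χ : G → ℂ) ≠ 0), (d χ : ℝ) := by
      rw [show ((t + 1 : ℕ) : ℝ) = ((t + 1 : ℕ) : ℂ).re from (Complex.natCast_re _).symm, h,
        Complex.re_sum, Finset.sum_filter]
      exact Finset.sum_le_sum fun χ _ => hb χ
    have h3 : (Finset.univ.filter (fun χ : IrrCharacter G => CharFS.ind (χ : G → ℂ) ≠ 0)) ⊆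
        insert (CT.trivIrr G) S := by
      intro χ hχ
      simp only [Finset.mem_filter, Finset.mem_univ, true_and] at hχ
      by_cases e : χ = CT.trivIrr G
      · simp [e]
      · simp [hS, e, hχ]
    have h4 := h2.trans (Finset.sum_le_sum_of_subset_of_nonneg h3 fun _ _ _ => Nat.cast_nonneg _)
    rw [Finset.sum_insert (by simp [hS]), hd1] at h4
    have h5 : t + 1 ≤ 1 + ∑ χ ∈ S, d χ := by exact_mod_cast h4
    omega
  have hsum : ∑ χ ∈ S, d χ ^ 2 + 1 ≤ g := by
    have h : (∑ χ : IrrCharacter G, d χ ^ 2) = g := by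
      have h := CT.sum_degree_sq (G := G)
      simp only [hdeg] at h
      exact_mod_cast h
    rw [← h]
    calc ∑ χ ∈ S, d χ ^ 2 + 1 = ∑ χ ∈ insert (CT.trivIrr G) S, d χ ^ 2 := by
          rw [Finset.sum_insert (by simp [hS]), hd1, one_pow, add_comm]
      _ ≤ _ := Finset.sum_le_sum_of_subset (Finset.subset_univ _)
  have hScard : S.card + 1 ≤ Nat.card (ConjClasses G) := by
    rw [← CT.card_irr_eq_card_conjClasses, Nat.card_eq_fintype_card, ← Finset.card_univ,
      ← Finset.card_insert_of_notMem (show CT.trivIrr G ∉ S by simp [hS])]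
    exact Finset.card_le_card (Finset.subset_univ _)
  have ht0 : 0 < t := by
    rw [← ht, Nat.card_pos_iff]
    obtain ⟨x, hx⟩ := exists_prime_orderOf_dvd_card' 2 (even_iff_two_dvd.mp heven)
    exact ⟨⟨⟨x, hx⟩⟩, inferInstance⟩
  have hg1 : 1 ≤ g := Nat.card_pos
  have hq : ((g : ℚ) - 1) = ((g - 1 : ℕ) : ℚ) := by rw [Nat.cast_sub hg1, Nat.cast_one]
  constructor
  · obtain ⟨w, hw⟩ := exists_prime_orderOf_dvd_card' 2 (even_iff_two_dvd.mp heven)
    have hw1 : w ≠ 1 := fun e => by rw [e, orderOf_one] at hw; omega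
    obtain ⟨x, hx, hmin⟩ := Finset.exists_min_image (Finset.univ.erase (1 : G))
      (fun x => (Subgroup.centralizer ({x} : Set G)).index) ⟨w, by simp [hw1]⟩
    refine ⟨x, Finset.ne_of_mem_erase hx, ?_⟩
    set m := (Subgroup.centralizer ({x} : Set G)).index
    have hk := conjClasses_bound (m := m) fun y hy => hmin y (by simp [hy])
    have hcs : t ^ 2 ≤ S.card * (g - 1) := by
      refine (Nat.pow_le_pow_left htle 2).trans ((sq_sum_le_card_mul_sum_sq).trans ?_)
      exact Nat.mul_le_mul_left _ (by omega)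
    have h1 : m * t ^ 2 ≤ (g - 1) ^ 2 := by
      calc m * t ^ 2 ≤ m * (S.card * (g - 1)) := Nat.mul_le_mul_left _ hcs
        _ ≤ m * ((Nat.card (ConjClasses G) - 1) * (g - 1)) := by gcongr; omega
        _ = m * (Nat.card (ConjClasses G) - 1) * (g - 1) := by ring
        _ ≤ (g - 1) * (g - 1) := Nat.mul_le_mul_right _ hk
        _ = _ := by ring
    rw [hq, div_pow, le_div_iff₀ (by positivity)]
    exact_mod_cast h1
  · have hne : S.Nonempty := by
      rw [Finset.nonempty_iff_ne_empty]
      intro e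
      rw [e, Finset.sum_empty] at htle
      omega
    obtain ⟨χ, hχ, hmin⟩ := S.exists_min_image d hne
    rw [hS, Finset.mem_filter] at hχ
    refine ⟨χ, fun e => hχ.2.1 (Subtype.ext e), CharFS.im_eq_zero_of_ind_ne_zero χ.2 hχ.2.2, ?_⟩
    have h1 : d χ * t ≤ g - 1 := by
      calc d χ * t ≤ ∑ ψ ∈ S, d χ * d ψ := by rw [← Finset.mul_sum]; exact Nat.mul_le_mul_left _ htle
        _ ≤ ∑ ψ ∈ S, d ψ ^ 2 := Finset.sum_le_sum fun ψ hψ => by
            rw [pow_two]; exact Nat.mul_le_mul_right _ (hmin ψ hψ)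
        _ ≤ g - 1 := by omega
    rw [hq, le_div_iff₀ (by positivity)]
    exact_mod_cast h1

end Cfsg.Agent.S4476
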