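import Cfsg.Statements.S4478
import Cfsg.Agent.Lib.ClassSum.Vanish
import Cfsg.Agent.Lib.CT.FrobeniusSchur
import Mathlib.GroupTheory.Perm.Cycle.Type

set_option autoImplicit false
set_option linter.all false
open Cfsg

namespace Cfsg.Agent.S4478

/-- Let G be a finite group of even order and χ an irreducible character of G whose degree x is divisible by the full power of 2 dividing the order of G and, for every odd prime p such that G has an element of order 2p, by the full power of p dividing the order of G. Then all involutions of G are conjugate, the centralizer of every involution has order exactly x with x coprime to its index, and the Frobenius–Schur indicator of χ equals 1. -/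
theorem result {G : Type*} [Group G] [Fintype G] (heven : Even (Nat.card G)) (χ : Cfsg.IrrCharacter G) (h2 : 2 ^ (Nat.card G).factorization 2 ∣ Cfsg.charDegree (χ : G → ℂ)) (hp : ∀ p : ℕ, p.Prime → p ≠ 2 → (∃ g : G, orderOf g = 2 * p) → p ^ (Nat.card G).factorization p ∣ Cfsg.charDegree (χ : G → ℂ)) : (∀ s t : G, orderOf s = 2 → orderOf t = 2 → IsConj s t) ∧ (∀ s : G, orderOf s = 2 → Nat.card (Subgroup.centralizer ({s} : Set G)) = Cfsg.charDegree (χ : G → ℂ) ∧ (Nat.card (Subgroup.centralizer ({s} : Set G))).Coprime (Subgroup.centralizer ({s} : Set G)).index) ∧ (Nat.card G : ℂ)⁻¹ * ∑ g : G, (χ : G → ℂ) (g * g) = 1 := by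
  classical
  set n := Nat.card G with hn
  set x := Cfsg.charDegree (χ : G → ℂ) with hx
  have hdeg : (χ : G → ℂ) 1 = (x : ℂ) := CT.deg_eq (CT.isCharacter_of_isIrr χ.2)
  have hxpos : 0 < x := CT.deg_pos χ.2
  have h2f : 1 ≤ n.factorization 2 :=
    (Nat.prime_two.dvd_iff_one_le_factorization Nat.card_pos.ne').mp (even_iff_two_dvd.mp heven)
  have hxeven : 2 ∣ x := (dvd_pow_self 2 (by omega)).trans h2
  -- vanishing
  have hv2 : ∀ g : G, 2 ∣ orderOf g → (χ : G → ℂ) g = 0 := fun g hg =>
    ClassSum.char_eq_zero_of_defZero Nat.prime_two χ h2 hg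
  -- the primes of centralizers of involutions
  have hC : ∀ t : G, orderOf t = 2 → ∀ r : ℕ, r.Prime → r ∣ Nat.card (Subgroup.centralizer ({t} : Set G)) →
      r ^ n.factorization r ∣ x := by
    intro t ht r hr hdvd
    by_cases hr2 : r = 2
    · subst hr2; exact h2
    haveI := Fact.mk hr
    obtain ⟨y, hy⟩ := exists_prime_orderOf_dvd_card' r hdvd
    refine hp r hr hr2 ⟨(y : G) * t, ?_⟩
    have hc : Commute (y : G) t := Subgroup.mem_centralizer_singleton_iff.mp y.2
    rw [hc.orderOf_mul_eq_mul_orderOf_of_coprime, Subgroup.orderOf_coe, hy, ht, mul_comm]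
    rw [Subgroup.orderOf_coe, hy, ht]
    exact (Nat.coprime_primes hr Nat.prime_two).mpr hr2
  have hcdvd : ∀ t : G, orderOf t = 2 → Nat.card (Subgroup.centralizer ({t} : Set G)) ∣ x := by
    intro t ht
    rw [← Nat.factorization_le_iff_dvd Nat.card_pos.ne' hxpos.ne']
    intro r
    by_cases hr : r ∈ (Nat.card (Subgroup.centralizer ({t} : Set G))).primeFactors
    · have hr' := Nat.prime_of_mem_primeFactors hr
      have h1 := (hr'.pow_dvd_iff_le_factorization hxpos.ne').mp (hC t ht r hr' (Nat.dvd_of_mem_primeFactors hr))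
      exact le_trans ((Nat.factorization_le_iff_dvd Nat.card_pos.ne' Nat.card_pos.ne').mpr
        (Subgroup.card_subgroup_dvd_card _) r) h1
    · rw [← Nat.support_factorization, Finsupp.notMem_support_iff] at hr
      rw [hr]
      exact Nat.zero_le _
  -- the sum over squares
  have hzero : ∀ g : G, 2 ∣ orderOf g → g * g ≠ 1 → (χ : G → ℂ) (g * g) = 0 := by
    intro g hg hne
    obtain ⟨k, hk⟩ := hg
    by_cases h4 : 2 ∣ k
    · refine hv2 _ ?_
      rw [← pow_two, orderOf_pow, hk, Nat.gcd_eq_right (dvd_mul_right 2 k), Nat.mul_div_cancel_left k two_pos]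
      exact h4
    have hk1 : k ≠ 1 := fun h => hne (by
      rw [← pow_two, ← pow_orderOf_eq_one g, hk, h, mul_one])
    obtain ⟨r, hr, hrk⟩ := Nat.exists_prime_and_dvd hk1
    have hr2 : r ≠ 2 := fun h => h4 (h ▸ hrk)
    have ho : r ∣ orderOf (g * g) := by
      rw [← pow_two, orderOf_pow, hk, Nat.gcd_eq_right (dvd_mul_right 2 k), Nat.mul_div_cancel_left k two_pos]
      exact hrk
    refine ClassSum.char_eq_zero_of_defZero hr χ (hp r hr hr2 ⟨g ^ (k / r), ?_⟩) ho
    obtain ⟨s, rfl⟩ := hrk
    rw [Nat.mul_div_cancel_left s hr.pos, orderOf_pow' g (fun h => (orderOf_pos g).ne' (by rw [hk, h]; simp)),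
      hk, show 2 * (r * s) = (2 * r) * s by ring, Nat.gcd_eq_right (dvd_mul_left s (2 * r)),
      Nat.mul_div_cancel _ (Nat.pos_of_ne_zero (fun h => (orderOf_pos g).ne' (by rw [hk, h]; simp)))]
  have hodd : ∑ g ∈ Finset.univ.filter (fun g : G => ¬ 2 ∣ orderOf g), (χ : G → ℂ) (g * g) = 0 := by
    have hnt : (χ : G → ℂ) ≠ (CT.trivIrr G : G → ℂ) := fun h => by
      have h1 := congrFun h 1
      rw [hdeg, CT.trivIrr_apply] at h1
      have : x = 1 := by exact_mod_cast h1
      omega
    have h0 := CT.irr_inner_of_ne χ.2 (CT.trivIrr G).2 hnt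
    rw [Cfsg.classInner, mul_eq_zero] at h0
    have hsum : ∑ g : G, (χ : G → ℂ) g = 0 := by
      have := h0.resolve_left (inv_ne_zero CT.card_ne_zero)
      simpa using this
    have himg : ∀ g ∈ Finset.univ.filter (fun g : G => ¬ 2 ∣ orderOf g),
        g * g ∈ Finset.univ.filter (fun g : G => ¬ 2 ∣ orderOf g) := fun g hg => by
      simp only [Finset.mem_filter, Finset.mem_univ, true_and] at hg ⊢
      exact fun h => hg (h.trans (by rw [← pow_two]; exact orderOf_pow_dvd 2))
    have hinj : Set.InjOn (fun g : G => g * g) ↑(Finset.univ.filter (fun g : G => ¬ 2 ∣ orderOf g)) := by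
      intro a ha b hb hab
      simp only [Finset.coe_filter, Finset.mem_univ, true_and, Set.mem_setOf_eq] at ha hb
      have key : ∀ c : G, ¬ 2 ∣ orderOf c → ∀ m, orderOf c ∣ m → ¬ 2 ∣ m → (c * c) ^ ((m + 1) / 2) = c :=
        fun c _ m hm hm2 => by
          rw [← pow_two, ← pow_mul, show 2 * ((m + 1) / 2) = m + 1 by omega, pow_succ,
            orderOf_dvd_iff_pow_eq_one.mp hm, one_mul]
      have hab' : a * a = b * b := hab
      have hm : ¬ 2 ∣ orderOf a * orderOf b := fun h => (Nat.prime_two.dvd_mul.mp h).elim ha hb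
      exact (key a ha _ (dvd_mul_right _ _) hm).symm.trans ((congrArg (· ^ _) hab').trans (key b hb _ (dvd_mul_left _ _) hm))
    rw [← Finset.sum_image hinj, Finset.eq_of_subset_of_card_le (Finset.image_subset_iff.mpr himg)
      (Finset.card_image_of_injOn hinj).ge]
    rw [← hsum]
    refine Finset.sum_subset (Finset.subset_univ _) fun g _ hg => hv2 g ?_
    simpa [Nat.dvd_iff_mod_eq_zero] using hg
  set I : Finset G := Finset.univ.filter fun t => orderOf t = 2 with hI
  have hS : ∑ g : G, (χ : G → ℂ) (g * g) = (x : ℂ) * I.card := by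
    rw [← Finset.sum_filter_add_sum_filter_not Finset.univ (fun g : G => 2 ∣ orderOf g), hodd, add_zero]
    have hsub : I ⊆ Finset.univ.filter (fun g : G => 2 ∣ orderOf g) := fun t ht => by
      simp only [hI, Finset.mem_filter, Finset.mem_univ, true_and] at ht ⊢
      rw [ht]
    have h1 : ∑ t ∈ I, (χ : G → ℂ) (t * t) = (x : ℂ) * I.card := by
      rw [Finset.sum_congr rfl (g := fun _ => (x : ℂ)) ?_, Finset.sum_const, nsmul_eq_mul, mul_comm]
      intro t ht
      have ht' : orderOf t = 2 := (Finset.mem_filter.mp ht).2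
      rw [← pow_two, show t ^ 2 = 1 from ht' ▸ pow_orderOf_eq_one t, hdeg]
    rw [← h1]
    refine (Finset.sum_subset hsub fun g hg hgI => hzero g (Finset.mem_filter.mp hg).2 fun h => hgI ?_).symm
    have hd : orderOf g ∣ 2 := orderOf_dvd_of_pow_eq_one (by rwa [pow_two])
    have hg2 := (Finset.mem_filter.mp hg).2
    rcases (Nat.dvd_prime Nat.prime_two).mp hd with h1 | h1
    · rw [h1] at hg2; omega
    · exact Finset.mem_filter.mpr ⟨Finset.mem_univ _, h1⟩
  obtain ⟨t0, ht0⟩ := exists_prime_orderOf_dvd_card' 2 (even_iff_two_dvd.mp heven)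
  have hIpos : 0 < I.card := Finset.card_pos.mpr ⟨t0, by simp [hI, ht0]⟩
  have hnu : (n : ℂ)⁻¹ * ∑ g : G, (χ : G → ℂ) (g * g) = ((x * I.card : ℕ) : ℂ) / n := by
    rw [hS, Nat.cast_mul, inv_mul_eq_div]
  obtain ⟨hval, -⟩ := CT.fsInd_irr χ.2
  have hν : (n : ℂ)⁻¹ * ∑ g : G, (χ : G → ℂ) (g * g) = 1 := by
    have hpos : 0 < ((x * I.card : ℕ) : ℝ) / n :=
      div_pos (Nat.cast_pos.mpr (Nat.mul_pos hxpos hIpos)) (Nat.cast_pos.mpr Nat.card_pos)
    have e : CT.fsInd (χ : G → ℂ) = ((((x * I.card : ℕ) : ℝ) / n : ℝ) : ℂ) := by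
      rw [CT.fsInd, ← hn, hnu]; push_cast; ring
    rcases hval with h | h | h
    · rw [e, Complex.ofReal_eq_zero] at h; linarith
    · exact h
    · rw [e, show (-1 : ℂ) = ((-1 : ℝ) : ℂ) by norm_num, Complex.ofReal_inj] at h; linarith
  have hcard : x * I.card = n := by
    rw [hnu, div_eq_one_iff_eq (Nat.cast_ne_zero.mpr Nat.card_pos.ne')] at hν
    exact_mod_cast hν
  -- one class
  have hclass : ∀ t, orderOf t = 2 → ∀ s ∈ I, IsConj t s ∧ Nat.card (Subgroup.centralizer ({t} : Set G)) = x := by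
    intro t ht
    set K : Finset G := Finset.univ.filter fun s => IsConj t s with hK
    have hKI : K ⊆ I := fun s hs => by
      simp only [hI, hK, Finset.mem_filter, Finset.mem_univ, true_and] at hs ⊢
      obtain ⟨c, rfl⟩ := isConj_iff.mp hs
      rw [← ht]
      exact (MulAut.conj c).orderOf_eq t
    have hKcard : K.card = (Subgroup.centralizer ({t} : Set G)).index := by
      rw [← CT.card_conj_class t, ← Fintype.card_subtype, Nat.card_eq_fintype_card]
    have h1 := Subgroup.card_mul_index (Subgroup.centralizer ({t} : Set G))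
    rw [← hn, ← hKcard, ← hcard] at h1
    have hle : Nat.card (Subgroup.centralizer ({t} : Set G)) ≤ x := Nat.le_of_dvd hxpos (hcdvd t ht)
    have hKc := Finset.card_le_card hKI
    have hKpos : 0 < K.card := Finset.card_pos.mpr ⟨t, Finset.mem_filter.mpr ⟨Finset.mem_univ _, IsConj.refl t⟩⟩
    have e1 : Nat.card (Subgroup.centralizer ({t} : Set G)) = x := by
      refine le_antisymm hle (Nat.le_of_mul_le_mul_right ?_ hIpos)
      rw [← h1]
      exact Nat.mul_le_mul_left _ hKc
    rw [e1] at h1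
    have e2 : K = I := Finset.eq_of_subset_of_card_le hKI (Nat.eq_of_mul_eq_mul_left hxpos h1).ge
    intro s hs
    rw [← e2] at hs
    exact ⟨(Finset.mem_filter.mp hs).2, e1⟩
  refine ⟨fun s t hs ht => (hclass s hs t (by simp [hI, ht])).1, fun t ht => ?_, hν⟩
  have e1 := (hclass t ht t (by simp [hI, ht])).2
  refine ⟨e1, Nat.coprime_of_dvd fun r hr h1 h2' => ?_⟩
  have h3 := hC t ht r hr h1
  rw [← e1] at h3
  have h4 := mul_dvd_mul h3 h2'
  rw [Subgroup.card_mul_index, ← pow_succ] at h4
  exact Nat.pow_succ_factorization_not_dvd Nat.card_pos.ne' hr h4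

end Cfsg.Agent.S4478
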