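import Cfsg.Statements.S4480
import Cfsg.Agent.Lib.Blocks.KleinOrder2

set_option autoImplicit false
open Cfsg

namespace Cfsg.Agent.S4480


/-- Same setting as the Klein-four order formula: G of order 4·g₀ (g₀ odd) with no normal 2-complement, P a Sylow 2-subgroup, J an involution of P, M over 2, principal 2-block {1, χ₁, χ₂, χ₃} with χ_i(J) = ε_i = ±1. Suppose ε₁ε₂ε₃ = −1 and ε₃ = −1, and put q = x₃ = χ₃(1). Then there is a natural number m with 4·c(J) = m·c(P)·(q + 1), and the order of G equals (m³·c(P)/4)·(q³ − q)/2, that is 8·#G = m³·c(P)·(q³ − q). -/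
theorem result {G : Type*} [Group G] [Finite G] (M : Ideal Cfsg.AlgInt) (hM : Cfsg.IsPModular 2 M) (g₀ : ℕ) (hg₀ : Odd g₀) (hG : Nat.card G = 4 * g₀) (hnc : ¬ ∃ N : Subgroup G, N.Normal ∧ Nat.card N = g₀) (P : Sylow 2 G) (J : G) (hJ : J ∈ (P : Subgroup G)) (hJ2 : orderOf J = 2) (χ₁ χ₂ χ₃ : Cfsg.IrrCharacter G) (ε₁ ε₂ ε₃ : ℤ) (hB : Cfsg.principalBlock M G = {χ : Cfsg.IrrCharacter G | (χ : G → ℂ) = (fun _ => 1) ∨ χ = χ₁ ∨ χ = χ₂ ∨ χ = χ₃}) (hdist : (χ₁ : G → ℂ) ≠ (fun _ => 1) ∧ (χ₂ : G → ℂ) ≠ (fun _ => 1) ∧ (χ₃ : G → ℂ) ≠ (fun _ => 1) ∧ χ₁ ≠ χ₂ ∧ χ₁ ≠ χ₃ ∧ χ₂ ≠ χ₃) (hε : (ε₁ = 1 ∨ ε₁ = -1) ∧ (ε₂ = 1 ∨ ε₂ = -1) ∧ (ε₃ = 1 ∨ ε₃ = -1)) (hval : (χ₁ : G → ℂ) J = ε₁ ∧ (χ₂ : G → ℂ) J = ε₂ ∧ (χ₃ : G → ℂ) J = ε₃) (hprod : ε₁ * ε₂ * ε₃ = -1) (hε₃ : ε₃ = -1) : ∃ m : ℕ, 4 * Nat.card (Subgroup.centralizer ({J} : Set G)) = m * Nat.card (Subgroup.centralizer ((P : Subgroup G) : Set G)) * (Cfsg.charDegree (χ₃ : G → ℂ) + 1)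 ∧ 8 * Nat.card G = m ^ 3 * Nat.card (Subgroup.centralizer ((P : Subgroup G) : Set G)) * (Cfsg.charDegree (χ₃ : G → ℂ) ^ 3 - Cfsg.charDegree (χ₃ : G → ℂ)) := by
    haveI := hM.2.1.isPrime
    obtain ⟨hK, hone⟩ := Cfsg.Agent.Blocks.klein_of_no_complement hg₀ hG hnc P
    obtain ⟨N, k, hN, hk, hrel, hkey, hreal, hconj⟩ :=
      Cfsg.Agent.Blocks.klein_order_key hM P hK hone hJ hJ2 χ₁ χ₂ χ₃ ε₁ ε₂ ε₃ hB hdist hε hval
    obtain ⟨h1, h2, h3⟩ := hε
    have x1 := Cfsg.Agent.Blocks.charDegree_pos χ₁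
    have x2 := Cfsg.Agent.Blocks.charDegree_pos χ₂
    have x3 := Cfsg.Agent.Blocks.charDegree_pos χ₃
    obtain ⟨rfl, rfl⟩ : ε₁ = 1 ∧ ε₂ = 1 := by
      rw [hε₃] at hprod hrel
      rcases h1 with rfl | rfl <;> rcases h2 with rfl | rfl <;> omega
    subst hε₃
    obtain ⟨hv1, hv2, hv3⟩ := hval
    -- one of the first two characters is not real
    have h3r : ∀ g, (starRingEnd ℂ) ((χ₃ : G → ℂ) g) = (χ₃ : G → ℂ) g := by
      obtain ⟨j, hj⟩ := hconj 2
      intro g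
      fin_cases j
      · have h := congrFun hj J
        simp [hv1, hv3] at h
        norm_num at h
      · have h := congrFun hj J
        simp [hv2, hv3] at h
        norm_num at h
      · simpa using congrFun hj g
    have hdeg : Cfsg.charDegree (χ₁ : G → ℂ) = Cfsg.charDegree (χ₂ : G → ℂ) := by
      obtain ⟨i, hi⟩ := hconj 0
      obtain ⟨j, hj⟩ := hconj 1
      fin_cases i
      · fin_cases j
        · have h := congrFun hj 1
          simp only [Matrix.cons_val, Fin.mk_one, Fin.zero_eta,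
            Cfsg.Agent.Blocks.charDegree_cast, Complex.conj_natCast, Nat.cast_inj] at h
          exact h.symm
        · have := hreal (fun g => by simpa using congrFun hi g) (fun g => by simpa using congrFun hj g) h3r
          omega
        · have h := congrFun hj J
          simp [hv2, hv3] at h
          norm_num at h
      · have h := congrFun hi 1
        simp only [Matrix.cons_val, Fin.mk_one, Fin.zero_eta,
          Cfsg.Agent.Blocks.charDegree_cast, Complex.conj_natCast, Nat.cast_inj] at h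
        exact h
      · have h := congrFun hi J
        simp [hv1, hv3] at h
        norm_num at h
    have hodd : Odd (Cfsg.charDegree (χ₁ : G → ℂ)) := by
      obtain ⟨s, hs, hd⟩ := Cfsg.Agent.Blocks.klein_char_value P hK hone hJ2 χ₁
      rw [hv1] at hs
      obtain rfl : (1 : ℤ) = s := by exact_mod_cast hs
      rw [Nat.odd_iff]
      omega
    refine Cfsg.Agent.Blocks.order_formula_neg hodd hN hk (by omega) ?_
    rw [← hdeg] at hkey
    simpa using hkey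

end Cfsg.Agent.S4480
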