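import Cfsg.Statements.S4483
import Cfsg.Agent.Lib.Blocks.BFMatrix

set_option autoImplicit false
open Cfsg

namespace Cfsg.Agent.S4483

open scoped ComplexConjugate
open Cfsg.Agent

universe u

/-- A real character of odd degree lies in the principal 2-block. -/
theorem mem_principal {G : Type u} [Group G] [Fintype G] {M : Ideal AlgInt} [M.IsPrime]
    (hM : IsPModular 2 M) (χ : IrrCharacter G) (hreal : ∀ g : G, ((χ : G → ℂ) g).im = 0)
    (hodd : Odd (charDegree (χ : G → ℂ))) : χ ∈ principalBlock M G := by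
  classical
  haveI : Fact (Nat.Prime 2) := ⟨Nat.prime_two⟩
  haveI := Blocks.charP_res (M := M) hM
  by_contra hne
  have h0 : Blocks.regS M 2 χ (CT.trivIrr G) = 0 :=
    Blocks.regS_eq_zero hM fun h => hne ((Blocks.mem_block_iff Blocks.isPBlock_principalBlock
      Blocks.trivIrr_mem_principalBlock).mpr (Blocks.sameBlock_symm h))
  have hsum : Blocks.regPair 2 χ (CT.trivIrr G) = 0 := by
    rw [← Blocks.deg_mul_regS (M := M), h0, ZeroMemClass.coe_zero, mul_zero]
  let F : G → Blocks.Res M := fun x =>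
    if 2 ∣ orderOf x then 0 else Blocks.red M (Blocks.charL M χ x)
  have h1 : ∑ x, F x = 0 := by
    have e : ∑ x, F x = Blocks.red M (∑ x, if 2 ∣ orderOf x then 0 else Blocks.charL M χ x) := by
      rw [map_sum]
      exact Finset.sum_congr rfl fun x _ => by simp only [F]; split_ifs <;> simp
    rw [e, show (∑ x, if 2 ∣ orderOf x then 0 else Blocks.charL M χ x) = 0 from Subtype.ext ?_,
      map_zero]
    rw [AddSubmonoidClass.coe_finset_sum, ZeroMemClass.coe_zero, ← hsum, Blocks.regPair]
    exact Finset.sum_congr rfl fun x _ => by split_ifs <;> simp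
  have hinv : ∀ x, F x⁻¹ = F x := fun x => by
    have : Blocks.charL M χ x⁻¹ = Blocks.charL M χ x := Subtype.ext (by
      rw [Blocks.coe_charL, Blocks.coe_charL, CT.char_inv_eq_conj (CT.isCharacter_of_isIrr χ.2),
        Complex.conj_eq_iff_im.mpr (hreal x)])
    simp only [F, orderOf_inv, this]
  have h2 : ∑ x ∈ Finset.univ.erase (1 : G), F x = 0 := by
    refine Finset.sum_involution (fun x _ => x⁻¹) (fun x _ => ?_) (fun x hx hFx => ?_)
      (fun x hx => ?_) (fun x _ => inv_inv x)
    · rw [hinv, ← two_mul, show (2 : Blocks.Res M) = 0 from CharP.cast_eq_zero (Blocks.Res M) 2,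
        zero_mul]
    · intro he
      refine hFx ?_
      have hxx : orderOf x ∣ 2 := orderOf_dvd_of_pow_eq_one (by
        rw [pow_two, ← mul_inv_cancel x]
        exact congrArg (x * ·) he.symm)
      rcases (Nat.dvd_prime Nat.prime_two).mp hxx with h | h
      · exact absurd (orderOf_eq_one_iff.mp h) (Finset.mem_erase.mp hx).1
      · simp [F, h]
    · simpa using hx
  rw [← Finset.add_sum_erase _ _ (Finset.mem_univ (1 : G)), h2, add_zero] at h1
  simp only [F, orderOf_one, Nat.dvd_one, OfNat.ofNat_ne_one, if_false] at h1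
  rw [show Blocks.charL M χ 1 = (charDegree (χ : G → ℂ) : Blocks.Loc M) from
    Subtype.ext (by simp [Blocks.charDegree_cast]), map_natCast,
    CharP.cast_eq_zero_iff (Blocks.Res M) 2] at h1
  exact hodd.not_two_dvd_nat h1

/-- Let G be a finite group of order 2^n·g₀ with g₀ odd, and M a maximal ideal of the algebraic integers containing 2. Every real-valued irreducible character of G of odd degree lies in the principal 2-block; consequently G has at most 2^(2n) real-valued irreducible characters of odd degree. -/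
theorem result {G : Type*} [Group G] [Finite G] (M : Ideal Cfsg.AlgInt) (hM : Cfsg.IsPModular 2 M) : (∀ χ : Cfsg.IrrCharacter G, (∀ g : G, ((χ : G → ℂ) g).im = 0) → Odd (Cfsg.charDegree (χ : G → ℂ)) → χ ∈ Cfsg.principalBlock M G) ∧ Nat.card {χ : Cfsg.IrrCharacter G // (∀ g : G, ((χ : G → ℂ) g).im = 0) ∧ Odd (Cfsg.charDegree (χ : G → ℂ))} ≤ 2 ^ (2 * (Nat.card G).factorization 2) := by
  classical
  haveI := Fintype.ofFinite G
  haveI := Cfsg.Agent.Blocks.isPrime_of_modular hM
  refine ⟨fun χ => mem_principal hM χ, ?_⟩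
  have h1 : Nat.card {χ : Cfsg.IrrCharacter G // (∀ g : G, ((χ : G → ℂ) g).im = 0) ∧
      Odd (Cfsg.charDegree (χ : G → ℂ))} ≤ Nat.card (Cfsg.principalBlock M G) :=
    Nat.card_le_card_of_injective (fun χ => ⟨χ.1, mem_principal hM χ.1 χ.2.1 χ.2.2⟩)
      fun x y h => Subtype.ext (congrArg Subtype.val h :)
  have hB := Cfsg.Agent.Blocks.isPBlock_principalBlock (M := M) (G := G)
  have h2 := Cfsg.Agent.Blocks.brauer_feit hM hB
  have h3 : 2 ^ (2 * Cfsg.blockDefect 2 (Cfsg.principalBlock M G)) ≤
      2 ^ (2 * (Nat.card G).factorization 2) :=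
    Nat.pow_le_pow_right (by norm_num) (Nat.mul_le_mul_left 2 (Cfsg.Agent.Blocks.blockDefect_le 2 _))
  generalize 2 ^ (2 * Cfsg.blockDefect 2 (Cfsg.principalBlock M G)) = q at h2 h3
  have h4 := Nat.one_le_two_pow (n := 2 * (Nat.card G).factorization 2)
  omega

end Cfsg.Agent.S4483
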