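import Cfsg.Statements.S4488
import Cfsg.Agent.Lib.CT.RationalPBound

set_option autoImplicit false
open Cfsg

namespace Cfsg.Agent.S4488

/-- Let the finite group G have a faithful p-rational character χ of degree n (all values of χ lie in the field generated over ℚ by a root of unity of order prime to p), and let p^a be the order of a Sylow p-subgroup of G. Then a ≤ Σ_{i ≥ 0} ⌊n / ((p − 1)·p^i)⌋ (a finite sum; the terms vanish once (p − 1)p^i > n). -/
theorem result {G : Type*} [Group G] [Finite G] (p : ℕ) (hp : p.Prime) (χ : G → ℂ) (hχ : Cfsg.IsCharacter G χ) (hfaith : ∀ g : G, χ g = χ 1 → g = 1) (hrat : (∃ r : ℕ, 0 < r ∧ ¬ p ∣ r ∧ ∀ g : G, χ g ∈ IntermediateField.adjoin ℚ ({Complex.exp (2 * Real.pi * Complex.I / r)} : Set ℂ))) (n : ℕ) (hn : Cfsg.charDegree χ = n) : (Nat.card G).factorization p ≤ ∑ i ∈ Finset.range (n + 1), n / ((p - 1) * p ^ i) := by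
  classical
  obtain ⟨r, hr0, hpr, hr⟩ := hrat
  have hdeg : CT.deg χ = n := by
    rw [← hn]
    obtain ⟨m, hm⟩ := CT.exists_degree hχ
    simp [CT.deg, Cfsg.charDegree, hm]
  rw [← hdeg]
  refine CT.RationalP.schur_bound hp hχ hfaith fun g hg k hk => ?_
  obtain ⟨b, hb⟩ := hg
  obtain ⟨m, ρ, rfl⟩ := hχ
  have hcop : r.Coprime (p ^ b) := Nat.Coprime.pow_right b ((hp.coprime_iff_not_dvd.mpr hpr).symm)
  obtain ⟨j, hj1, hjk⟩ := Nat.chineseRemainder hcop 1 k
  have hjc : j.Coprime (r * p ^ b) := Nat.Coprime.mul_right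
    (by rw [Nat.coprime_iff_gcd_eq_one, hj1.gcd_eq]; simp)
    (by rw [Nat.coprime_iff_gcd_eq_one, hjk.gcd_eq, ← Nat.coprime_iff_gcd_eq_one]
        exact hk.pow_right b)
  obtain ⟨f, hf⟩ := OddChar.exists_ringEquiv_pow (Nat.mul_pos hr0 (pow_pos hp.pos b)) hjc
  have hprim := Complex.isPrimitiveRoot_exp r hr0.ne'
  have hfr : f (Complex.exp (2 * Real.pi * Complex.I / r)) =
      Complex.exp (2 * Real.pi * Complex.I / r) := by
    rw [hf _ (by rw [pow_mul, hprim.pow_eq_one, one_pow]),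
      pow_eq_pow_mod j hprim.pow_eq_one, hj1, ← pow_eq_pow_mod 1 hprim.pow_eq_one, pow_one]
  have h1 : f (ρ.character g) = ρ.character g := CT.GaloisTwist.fixed_of_mem (n := r) f hfr (hr g)
  obtain ⟨ω, hω, he⟩ := CT.exists_eigenvalues ρ g
  have hωb : ∀ i, ω i ^ p ^ b = 1 := fun i => orderOf_dvd_iff_pow_eq_one.mp
    ((orderOf_dvd_of_pow_eq_one (hω i)).trans (orderOf_dvd_of_pow_eq_one hb))
  calc ρ.character (g ^ k) = ∑ i, f (ω i) := by
        rw [he]
        refine Finset.sum_congr rfl fun i _ => ?_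
        rw [hf _ (by rw [mul_comm, pow_mul, hωb, one_pow])]
        rw [pow_eq_pow_mod j (hωb i), hjk, ← pow_eq_pow_mod k (hωb i)]
    _ = f (ρ.character g) := by rw [← map_sum]; congr 1; simpa using (he 1).symm
    _ = _ := h1

end Cfsg.Agent.S4488
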