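import Cfsg.Statements.S4489
import Cfsg.Agent.Lib.CT.PGroupSchur

set_option autoImplicit false
open Cfsg

namespace Cfsg.Agent.S4489

/-- Let P be a finite p-group of order p^a with a > 0, and χ a faithful irreducible character of P of degree f whose field of values ℚ(χ) has degree (p − 1)·p^t over ℚ. Then a ≤ (f − 1)/(p − 1) + (t + 1)·f; in integer form, (p − 1)·a ≤ (f − 1) + (p − 1)(t + 1)·f. -/
theorem result {P : Type*} [Group P] [Finite P] (p a : ℕ) (hp : p.Prime) (ha : 0 < a) (hP : Nat.card P = p ^ a) (χ : Cfsg.IrrCharacter P) (hfaith : ∀ g : P, (χ : P → ℂ) g = (χ : P → ℂ) 1 → g = 1) (f t : ℕ) (hf : Cfsg.charDegree (χ : P → ℂ) = f) (hfield : Module.finrank ℚ (IntermediateField.adjoin ℚ (Set.range (χ : P → ℂ))) = (p - 1) * p ^ t) : (p - 1) * a ≤ (f - 1) + (p - 1) * (t + 1) * f := by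
  classical
  haveI := Fact.mk hp
  haveI := Fintype.ofFinite P
  set K := IntermediateField.adjoin ℚ (Set.range (χ : P → ℂ)) with hK
  haveI : FiniteDimensional ℚ K := FiniteDimensional.of_finrank_pos (by
    rw [hfield]; exact Nat.mul_pos (by have := hp.two_le; omega) (pow_pos hp.pos t))
  refine CT.PGroupSchur.bound (p := p) f hP χ.2 ?_ hfaith ?_
  · rw [← hf]; simp [CT.deg, Cfsg.charDegree]
  have hc := CT.isCharacter_of_isIrr χ.2
  have hex : ∀ η : CT.PGroupSchur.powOrbit p (χ : P → ℂ), ∃ φ : K →ₐ[ℚ] ℂ,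
      ∀ g : P, φ ⟨(χ : P → ℂ) g, IntermediateField.subset_adjoin ℚ _ ⟨g, rfl⟩⟩ = (η : P → ℂ) g := by
    rintro ⟨η, j, hj, rfl⟩
    obtain ⟨f', hf'⟩ := OddChar.exists_ringEquiv_pow (Nat.card_pos (α := P)) (CT.PGroupSchur.coprime_card hP hj)
    refine ⟨(f'.toRingHom.comp K.val.toRingHom).toRatAlgHom, fun g => ?_⟩
    exact CT.ValueField.map_value hc f' hf' (pow_card_eq_one')
  choose φ hφ using hex
  have hinj : Function.Injective φ := fun η η' h => Subtype.ext (funext fun g => by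
    rw [← hφ η g, ← hφ η' g, h])
  rw [← Nat.card_coe_set_eq, ← hfield, ← AlgHom.card ℚ K ℂ, ← Nat.card_eq_fintype_card]
  exact Nat.card_le_card_of_injective φ hinj

end Cfsg.Agent.S4489
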