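import Cfsg.Statements.S4490
import Cfsg.Agent.Lib.Blocks.GaloisStable

set_option autoImplicit false
open Cfsg

namespace Cfsg.Agent.S4490

/-- Let G be a finite group and M a maximal ideal of the algebraic integers containing 2. Every 2-block B of G whose defect groups are the Sylow 2-subgroups of G (a block of full defect) and which is not the principal block is different from its complex-conjugate block, the block formed by the complex conjugates of the members of B. -/
theorem result {G : Type*} [Group G] [Finite G] (M : Ideal Cfsg.AlgInt) (hM : Cfsg.IsPModular 2 M) (B : Set (Cfsg.IrrCharacter G)) (hB : Cfsg.IsPBlock M B) (P : Sylow 2 G) (hfull : Cfsg.IsDefectGroup 2 M B (P : Subgroup G)) (hnp : B ≠ Cfsg.principalBlock M G) : {ψ : Cfsg.IrrCharacter G | ∃ χ ∈ B, (ψ : G → ℂ) = fun g => (starRingEnd ℂ) ((χ : G → ℂ) g)} ≠ B := by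
  haveI := hM.2.1.isPrime
  haveI : Fact (Nat.Prime 2) := ⟨Nat.prime_two⟩
  intro heq
  have hn1 : 1 ≤ Nat.card G := Nat.card_pos
  have hk : (Nat.card G - 1).Coprime (Nat.card G) := by
    conv_rhs => rw [← Nat.sub_add_cancel hn1]
    exact Nat.coprime_self_add_right.mpr (Nat.coprime_one_right _)
  have hinv : ∀ g : G, g ^ (Nat.card G - 1) = g⁻¹ := fun g => by
    rw [eq_inv_iff_mul_eq_one, ← pow_succ, Nat.sub_add_cancel hn1]
    exact pow_card_eq_one'
  have hdef : Cfsg.blockDefect 2 B = (Nat.card G).factorization 2 := by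
    have h := Blocks.card_defectGroup hM hB hfull
    rw [P.card_eq_multiplicity] at h
    exact (Nat.pow_right_injective le_rfl h).symm
  refine hnp (Blocks.eq_principal_of_stable hM hk (fun g _ => hinv g) hB hdef fun χ hχ => ?_)
  rw [← heq]
  refine ⟨χ, hχ, funext fun g => ?_⟩
  rw [Blocks.powIrr_apply, hinv, CT.char_inv_eq_conj (CT.isCharacter_of_isIrr χ.2)]

end Cfsg.Agent.S4490
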