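import Cfsg.Statements.S4491
import Cfsg.Agent.Lib.Blocks.BFMatrix

set_option autoImplicit false
open Cfsg

namespace Cfsg.Agent.S4491

open scoped ComplexConjugate
open Cfsg.Agent

universe u

/-- Multiplicities of the trivial character on a subgroup detect combinations vanishing on it. -/
theorem exists_mult {G : Type u} [Group G] [Fintype G] (P : Subgroup G) :
    ∃ m : IrrCharacter G → ℕ, ∀ c : IrrCharacter G → ℂ,
      (∀ u ∈ P, u ≠ 1 → ∑ χ, c χ * (χ : G → ℂ) u = 0) →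
      ∑ χ, c χ * (χ : G → ℂ) 1 = (Nat.card P : ℂ) * ∑ χ, c χ * (m χ : ℂ) := by
  classical
  haveI := Fintype.ofFinite P
  choose n hn using fun χ : IrrCharacter G => CT.classInner_character_nat
    (CT.isCharacter_restrict P (CT.isCharacter_of_isIrr χ.2)) (CT.isCharacter_one (G := P))
  refine ⟨n, fun c h => ?_⟩
  have h1 : ∀ χ : IrrCharacter G, (Nat.card P : ℂ) * (n χ : ℂ) = ∑ u : P, (χ : G → ℂ) u := by
    intro χ
    rw [← hn χ, classInner, mul_inv_cancel_left₀ (CT.card_ne_zero (G := P))]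
    simp
  simp only [Finset.mul_sum, mul_left_comm (Nat.card P : ℂ) (c _), h1]
  rw [Finset.sum_comm, Finset.sum_eq_single (1 : P)]
  · rfl
  · exact fun u _ hu => h u u.2 fun e => hu (Subtype.ext e)
  · simp

/-- Let B be a p-block of defect d of the finite group G (relative to a maximal ideal M of the algebraic integers containing p), and let p^a be the p-part of the order of G. Then the exact power of p dividing the sum of the squares of the degrees of the irreducible characters in B is p^(2a − d). -/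
theorem result {G : Type*} [Group G] [Finite G] (p : ℕ) [Fact p.Prime] (M : Ideal Cfsg.AlgInt) (hM : Cfsg.IsPModular p M) (B : Set (Cfsg.IrrCharacter G)) (hB : Cfsg.IsPBlock M B) : (∑ᶠ χ ∈ B, Cfsg.charDegree (χ : G → ℂ) ^ 2).factorization p = 2 * (Nat.card G).factorization p - Cfsg.blockDefect p B := by
  classical
  haveI := Fintype.ofFinite G
  haveI := Cfsg.Agent.Blocks.isPrime_of_modular hM
  haveI := Cfsg.Agent.Blocks.charP_res (M := M) hM
  have hp := hM.1
  obtain ⟨χ, hχ, h0⟩ := Cfsg.Agent.Blocks.exists_height_zero (p := p) hB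
  set a := (Nat.card G).factorization p
  set d := Cfsg.blockDefect p B
  set e := (Cfsg.charDegree (χ : G → ℂ)).factorization p
  have hade : a = d + e := by
    have := Cfsg.Agent.Blocks.height_add (p := p) hχ
    omega
  have hdvd : ∀ ψ ∈ B, p ^ e ∣ Cfsg.charDegree (ψ : G → ℂ) := fun ψ hψ => by
    have := Cfsg.Agent.Blocks.height_add (p := p) hψ
    exact (pow_dvd_pow p (by omega)).trans (Nat.ordProj_dvd _ p)
  let n : Cfsg.IrrCharacter G → ℕ := fun ψ =>
    if ψ ∈ B then Cfsg.charDegree (ψ : G → ℂ) / p ^ e else 0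
  choose X hX using fun ψ => (Cfsg.Agent.Blocks.exists_int_bfPair hM hχ ψ :
    ∃ z : ℤ, (p : ℂ) ^ d * Cfsg.Agent.Blocks.bfPair p χ ψ = (z : ℂ))
  obtain ⟨P⟩ : Nonempty (Sylow p G) := inferInstance
  obtain ⟨m, hm⟩ := exists_mult (P : Subgroup G)
  have hsing : ∀ u ∈ (P : Subgroup G), u ≠ 1 → p ∣ orderOf u := fun u hu hu1 => by
    obtain ⟨k, hk⟩ := IsPGroup.iff_orderOf.mp P.2 ⟨u, hu⟩
    rw [show orderOf u = p ^ k by simpa using hk]
    exact dvd_pow_self p fun h => hu1 (orderOf_eq_one_iff.mp (by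
      rw [show orderOf u = p ^ k by simpa using hk, h, pow_zero]))
  have hdegn : ∀ ψ : Cfsg.IrrCharacter G,
      (if ψ ∈ B then (Cfsg.charDegree (ψ : G → ℂ) : ℂ) else 0) = (p : ℂ) ^ e * (n ψ : ℂ) := by
    intro ψ
    by_cases hψ : ψ ∈ B
    · simp only [n, if_pos hψ]
      exact_mod_cast (Nat.mul_div_cancel' (hdvd ψ hψ)).symm
    · simp [n, hψ]
  have hp0 : (p : ℂ) ≠ 0 := Nat.cast_ne_zero.mpr hp.ne_zero
  -- the sum of squares
  have hc1 := hm (fun ψ => (n ψ : ℂ)) fun u hu hu1 => by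
    have h := Cfsg.Agent.Blocks.weak_orthogonality' hM (Cfsg.Agent.Blocks.blockCoeff_mem_loc hB)
      (hsing u hu hu1) (h := 1) (by rw [orderOf_one]; exact hp.not_dvd_one)
    apply mul_left_cancel₀ (pow_ne_zero e hp0)
    rw [mul_zero, Finset.mul_sum, ← h, Cfsg.Agent.Blocks.finsum_mem_irr]
    refine Finset.sum_congr rfl fun ψ _ => ?_
    rw [← mul_assoc, ← hdegn, Cfsg.Agent.Blocks.charDegree_cast, map_natCast]
    split_ifs <;> ring
  set u := ∑ ψ, n ψ * m ψ with hu
  rw [P.card_eq_multiplicity] at hc1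
  push_cast at hc1
  have hS : (∑ᶠ ψ ∈ B, Cfsg.charDegree (ψ : G → ℂ) ^ 2) = p ^ (e + a) * u := by
    have h : ((∑ᶠ ψ ∈ B, Cfsg.charDegree (ψ : G → ℂ) ^ 2 : ℕ) : ℂ) =
        ((p ^ (e + a) * u : ℕ) : ℂ) := by
      rw [finsum_mem_eq_toFinset_sum, Nat.cast_sum, hu]
      push_cast
      rw [pow_add, mul_assoc, ← hc1, Finset.mul_sum]
      rw [← Finset.sum_filter_add_sum_filter_not Finset.univ (fun ψ : Cfsg.IrrCharacter G => ψ ∈ B)]
      rw [Finset.sum_eq_zero (s := Finset.univ.filter fun ψ => ¬ ψ ∈ B) fun ψ hψ => by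
        simp [n, (Finset.mem_filter.mp hψ).2], add_zero]
      refine Finset.sum_congr (by ext; simp) fun ψ hψ => ?_
      have hψB : ψ ∈ B := (Finset.mem_filter.mp hψ).2
      have := hdegn ψ
      rw [if_pos hψB] at this
      rw [Cfsg.Agent.Blocks.charDegree_cast, ← mul_assoc, ← this, pow_two]
    exact_mod_cast h
  -- the multiplicities see a unit
  have hc2 := hm (fun ψ => (X ψ : ℂ)) fun v hv hv1 => by
    have he := congrFun (Cfsg.Agent.Blocks.pow_mul_regFun_eq (p := p) hM hB hχ (d := d)).1 v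
    simp only [Pi.smul_apply, smul_eq_mul, Finset.sum_apply] at he
    simp only [← hX]
    rw [← he, Cfsg.Agent.Blocks.regFun, if_pos (hsing v hv hv1), mul_zero]
  have he1 := congrFun (Cfsg.Agent.Blocks.pow_mul_regFun_eq (p := p) hM hB hχ (d := d)).1 1
  simp only [Pi.smul_apply, smul_eq_mul, Finset.sum_apply, Cfsg.Agent.Blocks.regFun,
    orderOf_one, hp.not_dvd_one, if_false] at he1
  have hX1 : ∑ ψ : Cfsg.IrrCharacter G, (X ψ : ℂ) * (ψ : G → ℂ) 1 =
      ∑ ψ : Cfsg.IrrCharacter G, (p : ℂ) ^ d * Cfsg.Agent.Blocks.bfPair p χ ψ * (ψ : G → ℂ) 1 :=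
    Finset.sum_congr rfl fun ψ _ => by rw [hX ψ]
  rw [hX1, ← he1, P.card_eq_multiplicity] at hc2
  set n3 := Cfsg.charDegree (χ : G → ℂ) / p ^ e
  have hXm : ∑ ψ, X ψ * (m ψ : ℤ) = (n3 : ℤ) := by
    have h : (((∑ ψ, X ψ * (m ψ : ℤ) : ℤ)) : ℂ) = (((n3 : ℤ)) : ℂ) := by
      have hdeg : (Cfsg.charDegree (χ : G → ℂ) : ℂ) = (p : ℂ) ^ e * (n3 : ℂ) := by
        exact_mod_cast (Nat.ordProj_mul_ordCompl_eq_self (Cfsg.charDegree (χ : G → ℂ)) p).symm
      rw [Cfsg.Agent.Blocks.charDegree_cast, hdeg, ← mul_assoc, ← pow_add, ← hade] at hc2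
      push_cast at hc2 ⊢
      exact (mul_left_cancel₀ (pow_ne_zero a hp0) hc2).symm
    exact_mod_cast h
  set n1 := Nat.card G / p ^ a
  have hred : ∀ ψ, (n1 : Cfsg.Agent.Blocks.Res M) * (X ψ : Cfsg.Agent.Blocks.Res M) =
      Cfsg.Agent.Blocks.red M (Cfsg.Agent.Blocks.regS M p χ χ) *
        (n ψ : Cfsg.Agent.Blocks.Res M) := by
    intro ψ
    by_cases hψ : ψ ∈ B
    · have hl := Cfsg.Agent.Blocks.bfPair_local hM hψ χ
      rw [Cfsg.Agent.Blocks.bfPair_symm, hX ψ] at hl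
      have hnψ : (n ψ : ℂ) = (p : ℂ) ^ Cfsg.blockHeight p B (ψ : G → ℂ) *
          ((Cfsg.charDegree (ψ : G → ℂ) /
            p ^ (Cfsg.charDegree (ψ : G → ℂ)).factorization p : ℕ) : ℂ) := by
        apply mul_left_cancel₀ (pow_ne_zero e hp0)
        have := hdegn ψ
        rw [if_pos hψ] at this
        rw [← this, ← mul_assoc, ← pow_add]
        have hh := Cfsg.Agent.Blocks.height_add (p := p) hψ
        rw [show e + Cfsg.blockHeight p B (ψ : G → ℂ) =
          (Cfsg.charDegree (ψ : G → ℂ)).factorization p by omega]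
        exact_mod_cast (Nat.ordProj_mul_ordCompl_eq_self (Cfsg.charDegree (ψ : G → ℂ)) p).symm
      rw [← mul_assoc, ← hnψ] at hl
      have el : (n1 : Cfsg.Agent.Blocks.Loc M) * (X ψ : Cfsg.Agent.Blocks.Loc M) =
          (n ψ : Cfsg.Agent.Blocks.Loc M) * Cfsg.Agent.Blocks.regS M p ψ χ := Subtype.ext (by
        simp only [Subring.coe_mul, SubringClass.coe_natCast, SubringClass.coe_intCast]
        exact hl)
      have := congrArg (Cfsg.Agent.Blocks.red M) el
      rw [map_mul, map_mul, map_natCast, map_intCast, map_natCast,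
        Cfsg.Agent.Blocks.red_regS_congr
          ((Cfsg.Agent.Blocks.mem_block_iff hB hψ).mp hχ) χ] at this
      rw [this, mul_comm]
    · have hz := hX ψ
      rw [(Cfsg.Agent.Blocks.pow_mul_regFun_eq (p := p) hM hB hχ (d := d)).2 ψ hψ, mul_zero] at hz
      have hX0 : X ψ = 0 := by exact_mod_cast hz.symm
      simp [hX0, n, hψ]
  have hunit : ¬ p ∣ u := by
    intro hdiv
    have hl : (n1 : Cfsg.Agent.Blocks.Res M) * ((∑ ψ, X ψ * (m ψ : ℤ) : ℤ) : Cfsg.Agent.Blocks.Res M) =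
        Cfsg.Agent.Blocks.red M (Cfsg.Agent.Blocks.regS M p χ χ) *
          (u : Cfsg.Agent.Blocks.Res M) := by
      rw [hu]
      push_cast
      rw [Finset.mul_sum, Finset.mul_sum]
      exact Finset.sum_congr rfl fun ψ _ => by rw [← mul_assoc, hred, mul_assoc]
    rw [hXm, (CharP.cast_eq_zero_iff (Cfsg.Agent.Blocks.Res M) p u).mpr hdiv, mul_zero] at hl
    push_cast at hl
    rcases mul_eq_zero.mp hl with h | h
    · exact Nat.not_dvd_ordCompl hp Nat.card_pos.ne' ((CharP.cast_eq_zero_iff _ p _).mp h)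
    · exact Nat.not_dvd_ordCompl hp (Cfsg.Agent.Blocks.charDegree_pos χ).ne'
        ((CharP.cast_eq_zero_iff _ p _).mp h)
  have hu0 : u ≠ 0 := fun h => hunit (h ▸ dvd_zero p)
  rw [hS, Nat.factorization_mul (pow_ne_zero _ hp.ne_zero) hu0, Finsupp.coe_add, Pi.add_apply,
    hp.factorization_pow, Finsupp.single_eq_same, Nat.factorization_eq_zero_of_not_dvd hunit]
  omega

end Cfsg.Agent.S4491
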