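import Cfsg.Statements.S4493
import Cfsg.Agent.Lib.CT.ItoMichlerPSolv
import Cfsg.Agent.Lib.Components.FFThompson

set_option autoImplicit false
set_option linter.all false
open Cfsg

namespace Cfsg.Agent.S4493

/-- Let G be a finite solvable group and p a prime. Then G has a normal abelian Sylow p-subgroup if and only if no irreducible character degree of G is divisible by p. -/
theorem result {G : Type*} [Group G] [Finite G] (hsolv : Group.IsSolvable G) (p : ℕ) (hp : p.Prime) : (∃ P : Subgroup G, P.Normal ∧ (∀ x ∈ P, ∀ y ∈ P, x * y = y * x) ∧ IsPGroup p P ∧ ¬ p ∣ P.index) ↔ ∀ χ : Cfsg.IrrCharacter G, ¬ p ∣ Cfsg.charDegree (χ : G → ℂ) := by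
  haveI := Fact.mk hp
  constructor
  · rintro ⟨P, hPn, hcomm, hPp, hidx⟩ χ
    let Q : Sylow p G := hPp.toSylow hidx
    have e : (Q : Subgroup G) = P := IsPGroup.toSylow_coe hPp hidx
    haveI : (Q : Subgroup G).Normal := e.symm ▸ hPn
    exact ItoMichler.not_dvd_deg Q ⟨⟨fun a b => Subtype.ext (hcomm a (e ▸ a.2) b (e ▸ b.2))⟩⟩ χ
  · intro h
    obtain ⟨P⟩ := (inferInstance : Nonempty (Sylow p G))
    have hn := ItoMichler.sylow_normal (Nat.card G) G rfl
      (Components.isPSolvable_of_isSolvable (Nat.card G) G le_rfl hsolv) h P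
    haveI := hn
    have hc := ItoMichler.sylow_comm P h
    exact ⟨P, hn, fun x hx y hy => congrArg Subtype.val
      (hc.is_comm.comm (⟨x, hx⟩ : (P : Subgroup G)) ⟨y, hy⟩), P.2, P.not_dvd_index⟩

end Cfsg.Agent.S4493
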