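import Cfsg.Statements.S4495
import Cfsg.Agent.Lib.SelfCentPrime.Basic

set_option autoImplicit false
open Cfsg

namespace Cfsg.Agent.S4495

/-- Let the finite group G contain an element x of prime order p with C_G(x) = ⟨x⟩, and let t be the number of conjugacy classes of elements of order p. If t ≠ p − 1 then the commutator subgroup has index at most (p − 1)/t; if t = p − 1 it has index exactly p. -/
theorem result {G : Type*} [Group G] [Finite G] (p : ℕ) (hp : p.Prime) (x : G) (hx : orderOf x = p) (hC : Subgroup.centralizer ({x} : Set G) = Subgroup.zpowers x) (t : ℕ) (ht : Nat.card {C : ConjClasses G // ∃ g ∈ C.carrier, orderOf g = p} = t) : (t ≠ p - 1 → (commutator G).index * t ≤ p - 1) ∧ (t = p - 1 → (commutator G).index = p) := by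
  have h : SelfCentPrime.Hyp p x := ⟨hp, hx, hC⟩
  have hcount := h.classes_mul_idx
  rw [ht] at hcount
  have hp1 : 0 < p - 1 := Nat.sub_pos_of_lt hp.one_lt
  refine ⟨fun hne => ?_, fun he => (h.of_idx_eq_one ?_).1⟩
  · have he1 : SelfCentPrime.idx x ≠ 1 := fun e => hne (by rw [e, mul_one] at hcount; exact hcount)
    have hdvd := h.index_dvd_idx (S := commutator G) (h.mem_commutator he1)
    have hpos : 0 < SelfCentPrime.idx x := Nat.pos_of_ne_zero fun e => by
      rw [e, mul_zero] at hcount; omega
    calc (commutator G).index * t ≤ SelfCentPrime.idx x * t :=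
          Nat.mul_le_mul_right _ (Nat.le_of_dvd hpos hdvd)
      _ = p - 1 := by rw [mul_comm]; exact hcount
  · rw [he] at hcount
    exact Nat.eq_of_mul_eq_mul_left hp1 (hcount.trans (mul_one _).symm)

end Cfsg.Agent.S4495
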