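import Cfsg.Statements.S4497
import Cfsg.Agent.Lib.SelfCentPrime.Basic

set_option autoImplicit false
open Cfsg

namespace Cfsg.Agent.S4497

/-- Let the finite group G contain an element x of prime order p with C_G(x) = ⟨x⟩, let t be the number of conjugacy classes of elements of order p, and let S* = O_{p′}(G) be the largest normal subgroup of order prime to p. Then S* ≤ G′; if t ≠ p − 1 the quotient G′/S* is simple (in particular non-trivial); if t = p − 1 then G′ = S*. -/
theorem result {G : Type*} [Group G] [Finite G] (p : ℕ) (hp : p.Prime) (x : G) (hx : orderOf x = p) (hC : Subgroup.centralizer ({x} : Set G) = Subgroup.zpowers x) (t : ℕ) (ht : Nat.card {C : ConjClasses G // ∃ g ∈ C.carrier, orderOf g = p} = t) : Cfsg.pPrimeCore p G ≤ commutator G ∧ (t ≠ p - 1 → ∀ h : ((Cfsg.pPrimeCore p G).subgroupOf (commutator G)).Normal, IsSimpleGroup (↥(commutator G) ⧸ (Cfsg.pPrimeCore p G).subgroupOf (commutator G))) ∧ (t = p - 1 → commutator G = Cfsg.pPrimeCore p G) := by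
  haveI := Fact.mk hp
  have h : SelfCentPrime.Hyp p x := ⟨hp, hx, hC⟩
  have hcount := h.classes_mul_idx
  rw [ht] at hcount
  have hp1 : 0 < p - 1 := Nat.sub_pos_of_lt hp.one_lt
  refine ⟨h.pPrimeCore_le, fun hne hn => ?_, fun he => (h.of_idx_eq_one ?_).2⟩
  · have he1 : SelfCentPrime.idx x ≠ 1 := fun e => hne (by rw [e, mul_one] at hcount; exact hcount)
    have hxD := h.mem_commutator he1
    have hxS : x ∉ Cfsg.pPrimeCore p G := fun hm => Basics.not_dvd_card_pPrimeCore p
      (hx ▸ Subgroup.orderOf_dvd_natCard _ hm)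
    haveI := hn
    haveI : Nontrivial (↥(commutator G) ⧸ (Cfsg.pPrimeCore p G).subgroupOf (commutator G)) :=
      QuotientGroup.nontrivial_iff.mpr fun htop => hxS (Subgroup.mem_subgroupOf.mp
        ((htop ▸ Subgroup.mem_top _ : (⟨x, hxD⟩ : commutator G) ∈
          (Cfsg.pPrimeCore p G).subgroupOf (commutator G))))
    refine ⟨fun N hN => ?_⟩
    set q := QuotientGroup.mk' ((Cfsg.pPrimeCore p G).subgroupOf (commutator G))
    set K := N.comap q with hK
    haveI : K.Normal := hN.comap q
    by_cases hpK : p ∣ Nat.card K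
    · right
      obtain ⟨y, hy⟩ := exists_prime_orderOf_dvd_card' p hpK
      have hyo : orderOf (((y : commutator G) : G)) = p := by rw [Subgroup.orderOf_coe, Subgroup.orderOf_coe, hy]
      obtain ⟨c, hc⟩ := h.exists_conj hyo
      have hne1 : c * (((y : commutator G) : G)) * c⁻¹ ≠ 1 := fun e => hp.ne_one (by
        rw [← hyo, conj_eq_one_iff.mp e, orderOf_one])
      set Km := K.map (commutator G).subtype with hKm
      have hKmn : ∀ d ∈ commutator G, ∀ v ∈ Km, d * v * d⁻¹ ∈ Km := by
        rintro d hd _ ⟨v, hv, rfl⟩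
        exact ⟨⟨d, hd⟩ * v * ⟨d, hd⟩⁻¹, (inferInstance : K.Normal).conj_mem _ hv _, rfl⟩
      -- `K` contains a conjugate of `x` by an element of the normalizer
      have hxK : x ∈ Km := by
        obtain ⟨n, hnN, d, hd, hnd⟩ := Subgroup.mem_sup_of_normal_right.mp
          ((le_of_eq (h.sup_normalizer hxD).symm) (Subgroup.mem_top c))
        have h1 : d * (((y : commutator G) : G)) * d⁻¹ ∈ Km := hKmn d hd _ ⟨_, y.2, rfl⟩
        have h2 : d * (((y : commutator G) : G)) * d⁻¹ ∈ Subgroup.zpowers x := by
          have e : n⁻¹ * (c * (((y : commutator G) : G)) * c⁻¹) * n⁻¹⁻¹ =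
              d * (((y : commutator G) : G)) * d⁻¹ := by rw [← hnd]; group
          rw [← e]
          exact (Subgroup.mem_normalizer_iff.mp (inv_mem hnN) _).mp hc
        have h3 : d * (((y : commutator G) : G)) * d⁻¹ ≠ 1 := fun e => hp.ne_one (by
          rw [← hyo, conj_eq_one_iff.mp e, orderOf_one])
        exact Subgroup.zpowers_le.mpr h1 (h.zpowers_eq h2 h3 ▸ Subgroup.mem_zpowers x)
      haveI : (Subgroup.normalClosure ({x} : Set G)).Normal := Subgroup.normalClosure_normal
      have hcl : Subgroup.normalClosure ({x} : Set G) ≤ Km := by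
        refine (Subgroup.closure_le _).mpr fun z hz => ?_
        obtain ⟨a, ha, haz⟩ := Group.mem_conjugatesOfSet_iff.mp hz
        rw [Set.mem_singleton_iff] at ha
        obtain ⟨g, hg⟩ := isConj_iff.mp (ha ▸ haz)
        obtain ⟨n, hnN, d, hd, hnd⟩ := Subgroup.mem_sup_of_normal_left.mp
          ((le_of_eq ((sup_comm _ _).trans (h.sup_normalizer hxD)).symm) (Subgroup.mem_top g))
        have e : n * (d * x * d⁻¹) * n⁻¹ = z := by rw [← hg, ← hnd]; group
        rw [← e]
        refine hKmn n hnN _ (Subgroup.zpowers_le.mpr hxK ?_)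
        exact (Subgroup.mem_normalizer_iff.mp hd x).mp (Subgroup.mem_zpowers x)
      have hle : commutator G ≤ Km := by
        refine le_trans (h.commutator_le ?_) hcl
        rw [← hx]
        exact Subgroup.orderOf_dvd_natCard _ (Subgroup.subset_normalClosure rfl)
      have hKtop : K = ⊤ := by
        refine eq_top_iff.mpr fun v _ => ?_
        obtain ⟨w, hw, hwv⟩ := hle v.2
        exact (Subtype.ext hwv : w = v) ▸ hw
      rw [← Subgroup.map_comap_eq_self_of_surjective (QuotientGroup.mk'_surjective _) N, ← hK, hKtop,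
        Subgroup.map_top_of_surjective _ (QuotientGroup.mk'_surjective _)]
    · left
      have hKc : K ≤ (Cfsg.pPrimeCore p G).subgroupOf (commutator G) := by
        haveI : (Cfsg.pPrimeCore p ↥(commutator G)).Characteristic := inferInstance
        have hmap : ((Cfsg.pPrimeCore p ↥(commutator G)).map (commutator G).subtype).Normal :=
          inferInstance
        have h1 : (Cfsg.pPrimeCore p ↥(commutator G)).map (commutator G).subtype ≤ Cfsg.pPrimeCore p G := by
          refine Basics.le_pPrimeCore ?_
          rw [Subgroup.card_map_of_injective (commutator G).subtype_injective]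
          exact Basics.pPrimeCore_coprime p
        intro v hv
        refine Subgroup.mem_subgroupOf.mpr (h1 ⟨v, ?_, rfl⟩)
        exact Basics.le_pPrimeCore ((hp.coprime_iff_not_dvd.mpr hpK).symm) hv
      rw [← Subgroup.map_comap_eq_self_of_surjective (QuotientGroup.mk'_surjective _) N, ← hK,
        eq_bot_iff, Subgroup.map_le_iff_le_comap]
      refine hKc.trans (le_of_eq ?_)
      rw [MonoidHom.comap_bot, QuotientGroup.ker_mk']
  · rw [he] at hcount
    exact Nat.eq_of_mul_eq_mul_left hp1 (hcount.trans (mul_one _).symm)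

end Cfsg.Agent.S4497
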