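import Cfsg.Statements.S4498
import Cfsg.Agent.Lib.Blocks.Orthogonality

set_option autoImplicit false
open Cfsg

namespace Cfsg.Agent.S4498

/-- Let p and q be distinct primes dividing the order of the finite group G, and suppose G has no element of order p·q. Fix maximal ideals M_p over p and M_q over q of the algebraic integers. Then the principal p-block and the principal q-block of G have a non-principal irreducible character in common. -/
theorem result {G : Type*} [Group G] [Finite G] (p q : ℕ) [Fact p.Prime] [Fact q.Prime] (hpq : p ≠ q) (hp : p ∣ Nat.card G) (hq : q ∣ Nat.card G) (hno : ∀ g : G, orderOf g ≠ p * q) (Mp Mq : Ideal Cfsg.AlgInt) (hMp : Cfsg.IsPModular p Mp) (hMq : Cfsg.IsPModular q Mq) : ∃ χ : Cfsg.IrrCharacter G, (χ : G → ℂ) ≠ (fun _ => 1) ∧ χ ∈ Cfsg.principalBlock Mp G ∧ χ ∈ Cfsg.principalBlock Mq G := by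
  classical
  haveI := Fintype.ofFinite G
  haveI := hMp.2.1.isPrime
  haveI := hMq.2.1.isPrime
  obtain ⟨g, hg⟩ := exists_prime_orderOf_dvd_card' p hp
  obtain ⟨h, hh⟩ := exists_prime_orderOf_dvd_card' q hq
  set A := Cfsg.principalBlock Mp G with hAdef
  set B := Cfsg.principalBlock Mq G with hBdef
  by_contra hne
  push Not at hne
  have hA : ∀ u, Cfsg.blockCoeff A u ∈ Blocks.Loc Mp :=
    Blocks.blockCoeff_mem_loc Blocks.isPBlock_principalBlock
  have hB : ∀ u, Cfsg.blockCoeff B u ∈ Blocks.Loc Mq :=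
    Blocks.blockCoeff_mem_loc Blocks.isPBlock_principalBlock
  have hzero : ∀ x : G, (∑ᶠ χ ∈ A, (χ : G → ℂ) g * (starRingEnd ℂ) ((χ : G → ℂ) x)) *
      (∑ᶠ ψ ∈ B, (ψ : G → ℂ) x * (starRingEnd ℂ) ((ψ : G → ℂ) h)) = 0 := by
    intro x
    by_cases hx : p ∣ orderOf x
    · refine mul_eq_zero_of_right _ (Blocks.weak_orthogonality hMq hB (fun hxq => ?_) (by rw [hh]))
      obtain ⟨c, hc⟩ := (Nat.coprime_primes Fact.out Fact.out).mpr hpq |>.mul_dvd_of_dvd_of_dvd hx hxq
      refine hno (x ^ c) ?_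
      have hc0 : c ≠ 0 := by rintro rfl; rw [mul_zero] at hc; exact (orderOf_pos x).ne' hc
      rw [orderOf_pow' x hc0, hc, Nat.gcd_mul_left_left, Nat.mul_div_cancel _ (Nat.pos_of_ne_zero hc0)]
    · exact mul_eq_zero_of_left (Blocks.weak_orthogonality' hMp hA (by rw [hg]) hx) _
  have h0 := Finset.sum_eq_zero (s := (Finset.univ : Finset G)) (fun x _ => hzero x)
  simp only [Blocks.finsum_mem_irr, Finset.sum_mul_sum] at h0
  rw [Finset.sum_comm] at h0
  have hrow : ∀ χ ψ : Cfsg.IrrCharacter G,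
      ∑ x, (ψ : G → ℂ) x * (starRingEnd ℂ) ((χ : G → ℂ) x) =
        (Nat.card G : ℂ) * if ψ = χ then 1 else 0 := by
    intro χ ψ
    rw [← CT.irr_inner_subtype, Cfsg.classInner, mul_inv_cancel_left₀ (CT.card_ne_zero (G := G))]
  have h1 : ∀ χ : Cfsg.IrrCharacter G, ∀ c : Cfsg.IrrCharacter G → ℂ,
      (∑ x, ∑ ψ, (if χ ∈ A then (χ : G → ℂ) g * (starRingEnd ℂ) ((χ : G → ℂ) x) else 0) *
        (if ψ ∈ B then (ψ : G → ℂ) x * (starRingEnd ℂ) ((ψ : G → ℂ) h) else 0)) =
      if χ ∈ A ∧ χ ∈ B then (Nat.card G : ℂ) * ((χ : G → ℂ) g * (starRingEnd ℂ) ((χ : G → ℂ) h))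
        else 0 := by
    intro χ _
    rw [Finset.sum_comm, Finset.sum_eq_single χ]
    · by_cases h1 : χ ∈ A <;> by_cases h2 : χ ∈ B <;> simp [h1, h2]
      have hc := hrow χ χ
      rw [if_pos rfl, mul_one, Nat.card_eq_fintype_card] at hc
      rw [← hc, Finset.sum_mul]
      exact Finset.sum_congr rfl fun x _ => by ring
    · intro ψ _ hψ
      have := hrow χ ψ
      rw [if_neg hψ, mul_zero] at this
      split_ifs <;> try simp
      rw [← mul_zero ((χ : G → ℂ) g * (starRingEnd ℂ) ((ψ : G → ℂ) h)), ← this, Finset.mul_sum]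
      exact Finset.sum_congr rfl fun x _ => by ring
    · simp
  rw [Finset.sum_congr rfl fun χ _ => h1 χ 0, Finset.sum_eq_single (CT.trivIrr G)] at h0
  · rw [if_pos ⟨Blocks.trivIrr_mem_principalBlock, Blocks.trivIrr_mem_principalBlock⟩] at h0
    simp at h0
  · intro χ _ hχ
    rw [if_neg fun hc => hne χ (fun e => hχ (Subtype.ext e)) hc.1 hc.2]
  · simp

end Cfsg.Agent.S4498
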