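import Cfsg.Statements.S4500
import Cfsg.Agent.Lib.Blocks.BFMatrix
import Cfsg.Agent.Lib.Blocks.PrincipalHeight
import Cfsg.Agent.Lib.Blocks.Knorr
import Cfsg.Agent.Lib.CT.Integral
import Cfsg.Agent.Lib.Blocks.GaloisStable

set_option autoImplicit false
open Cfsg

namespace Cfsg.Agent.S4500

/-- Let G be a non-trivial finite group of order p^a · q^b · r^c with p, q, r distinct primes and a ≤ 2. Then G has a non-principal irreducible character whose degree is a power of q, and a non-principal irreducible character whose degree is a power of r; the power may be the zeroth, so a non-principal linear character serves for both. -/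
theorem result {G : Type*} [Group G] [Finite G] [Nontrivial G] (p q r a b c : ℕ) (hp : p.Prime) (hq : q.Prime) (hr : r.Prime) (hpq : p ≠ q) (hpr : p ≠ r) (hqr : q ≠ r) (ha : a ≤ 2) (hG : Nat.card G = p ^ a * q ^ b * r ^ c) : (∃ χ : Cfsg.IrrCharacter G, (χ : G → ℂ) ≠ (fun _ => 1) ∧ ∃ k : ℕ, Cfsg.charDegree (χ : G → ℂ) = q ^ k) ∧ ∃ χ : Cfsg.IrrCharacter G, (χ : G → ℂ) ≠ (fun _ => 1) ∧ ∃ k : ℕ, Cfsg.charDegree (χ : G → ℂ) = r ^ k := by
  classical
  haveI := Fintype.ofFinite G
  by_cases hlin : ∃ lam : G →* ℂˣ, lam ≠ 1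
  · obtain ⟨lam, hlam⟩ := hlin
    have hne : (fun x => (lam x : ℂ)) ≠ fun _ => 1 := fun e =>
      hlam (MonoidHom.ext fun x => Units.ext (congrFun e x))
    have hd : Cfsg.charDegree (fun x => (lam x : ℂ)) = 1 := by simp [Cfsg.charDegree]
    exact ⟨⟨⟨_, CT.isIrrCharacter_lin lam⟩, hne, 0, hd⟩, ⟨_, CT.isIrrCharacter_lin lam⟩, hne, 0, hd⟩
  have hnsol : ¬ Group.IsSolvable G := fun hs => by
    haveI := hs
    apply hlin
    have hne : commutator G ≠ ⊤ := (Group.IsSolvable.commutator_lt_top_of_nontrivial G).ne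
    haveI : Nontrivial (Abelianization G) := QuotientGroup.nontrivial_iff.mpr hne
    haveI : Finite (Abelianization G) := Quotient.finite _
    obtain ⟨x, hx⟩ := exists_ne (1 : Abelianization G)
    obtain ⟨φ, hφ⟩ := CommGroup.exists_apply_ne_one_of_hasEnoughRootsOfUnity (Abelianization G) ℂ hx
    obtain ⟨y, rfl⟩ := QuotientGroup.mk_surjective x
    exact ⟨φ.comp Abelianization.of, fun e => hφ (DFunLike.congr_fun e y)⟩
  have hpG : p ∣ Nat.card G := by
    rcases Nat.eq_zero_or_pos a with rfl | h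
    · refine absurd (CT.isSolvable_of_card_two_primes hq hr _ G b c rfl ?_) hnsol
      rw [hG, pow_zero, one_mul]
    · exact hG ▸ Dvd.dvd.mul_right (Dvd.dvd.mul_right (dvd_pow_self p h.ne') _) _
  haveI := Fact.mk hp
  obtain ⟨g, hg⟩ := exists_prime_orderOf_dvd_card' p hpG
  obtain ⟨M, hM⟩ := Blocks.exists_isPModular hp
  haveI := hM.2.1.isPrime
  have hfa : (Nat.card G).factorization p ≤ 2 := by
    refine le_of_eq_of_le ?_ ha
    have hc : ∀ (s : ℕ) (n : ℕ), s.Prime → p ≠ s → (s ^ n).factorization p = 0 := fun s n hs hps =>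
      Nat.factorization_eq_zero_of_not_dvd fun h =>
        hps ((Nat.prime_dvd_prime_iff_eq hp hs).mp (hp.dvd_of_dvd_pow h))
    rw [hG, Nat.factorization_mul (mul_ne_zero (pow_ne_zero _ hp.ne_zero) (pow_ne_zero _ hq.ne_zero))
      (pow_ne_zero _ hr.ne_zero), Nat.factorization_mul (pow_ne_zero _ hp.ne_zero)
      (pow_ne_zero _ hq.ne_zero), Finsupp.add_apply, Finsupp.add_apply, hc q b hq hpq,
      hc r c hr hpr, hp.factorization_pow, Finsupp.single_eq_same, add_zero, add_zero]
  have key : ∀ s : ℕ, s.Prime → ∃ χ ∈ Cfsg.principalBlock M G, χ ≠ CT.trivIrr G ∧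
      ¬ p ∣ Cfsg.charDegree (χ : G → ℂ) ∧ ¬ s ∣ Cfsg.charDegree (χ : G → ℂ) := by
    intro s hs
    obtain ⟨N, hN⟩ := Blocks.exists_isPModular hs
    haveI := hN.2.1.isPrime
    by_contra hcon
    push Not at hcon
    have hsum := Blocks.weak_orthogonality hM
      (Blocks.blockCoeff_mem_loc Blocks.isPBlock_principalBlock) (g := 1) (h := g)
      (by rw [orderOf_one]; exact hp.not_dvd_one) (by rw [hg])
    rw [Blocks.finsum_mem_irr, ← Finset.add_sum_erase _ _ (Finset.mem_univ (CT.trivIrr G)),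
      if_pos Blocks.trivIrr_mem_principalBlock] at hsum
    simp only [CT.trivIrr_apply, map_one, mul_one] at hsum
    have hrest : Cfsg.MemLocalIdeal N (∑ χ ∈ Finset.univ.erase (CT.trivIrr G),
        if χ ∈ Cfsg.principalBlock M G then
          (χ : G → ℂ) 1 * (starRingEnd ℂ) ((χ : G → ℂ) g) else 0) := by
      refine Finset.sum_induction _ (Cfsg.MemLocalIdeal N) (fun _ _ => Blocks.memLocalIdeal_add)
        Blocks.memLocalIdeal_zero fun χ hχ => ?_
      split_ifs with hB
      · have hpd : ¬ p ∣ Cfsg.charDegree (χ : G → ℂ) := by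
          rw [← Blocks.blockHeight_principal_eq_zero hM]
          by_contra hh
          have h1 := (Blocks.height_bound hM Blocks.isPBlock_principalBlock hB
            (Nat.pos_of_ne_zero hh)).1
          have h2 : Cfsg.blockDefect p (Cfsg.principalBlock M G) ≤ (Nat.card G).factorization p :=
            Nat.sub_le _ _
          omega
        rw [← CT.char_inv_eq_conj (CT.isCharacter_of_isIrr χ.2)]
        rw [mul_comm, Blocks.charDegree_cast]
        exact Blocks.memLocalIdeal_mul_left (Blocks.integral_mem_loc (Blocks.isIntegral_irr χ.2 _))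
          ((Blocks.memLocalIdeal_natCast hN _).mpr (hcon χ hB (Finset.ne_of_mem_erase hχ) hpd))
      · exact Blocks.memLocalIdeal_zero
    rw [add_eq_zero_iff_eq_neg'] at hsum
    rw [hsum, show (-1 : ℂ) = ((-1 : ℤ) : ℂ) by norm_num,
      Blocks.memLocalIdeal_intCast_iff hN, Int.natCast_dvd] at hrest
    exact hs.not_dvd_one (by simpa using hrest)
  have fin : ∀ s t : ℕ, s.Prime → t.Prime → ∀ m n : ℕ, Nat.card G = p ^ a * t ^ m * s ^ n →
      ∃ χ : Cfsg.IrrCharacter G, (χ : G → ℂ) ≠ (fun _ => 1) ∧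
        ∃ k : ℕ, Cfsg.charDegree (χ : G → ℂ) = t ^ k := by
    intro s t hs ht m n hcard
    obtain ⟨χ, -, hne, hpd, hsd⟩ := key s hs
    refine ⟨χ, fun e => hne (Subtype.ext e), ?_⟩
    have hdvd : Cfsg.charDegree (χ : G → ℂ) ∣ p ^ a * t ^ m * s ^ n :=
      hcard ▸ Blocks.charDegree_dvd_card χ
    have h1 := ((Nat.coprime_comm.mp (hs.coprime_iff_not_dvd.mpr hsd)).pow_right n).dvd_of_dvd_mul_right hdvd
    have h2 := ((Nat.coprime_comm.mp (hp.coprime_iff_not_dvd.mpr hpd)).pow_right a).dvd_of_dvd_mul_left h1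
    obtain ⟨k, -, hk⟩ := (Nat.dvd_prime_pow ht).mp h2
    exact ⟨k, hk⟩
  exact ⟨fin r q hr hq b c hG, fin q r hq hr c b (by rw [hG]; ring)⟩

end Cfsg.Agent.S4500
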