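import Cfsg.Statements.S4502
import Cfsg.Agent.Lib.Blocks.DefectOneCount
import Cfsg.Agent.Lib.Blocks.Knorr

set_option autoImplicit false
open Cfsg

namespace Cfsg.Agent.S4502

/-- Let G be a finite group whose order is divisible by the prime p exactly once, and let P be a Sylow p-subgroup. Then the number of irreducible characters of G of degree not divisible by p equals the number of conjugacy classes of the normalizer of P. -/
theorem result {G : Type*} [Group G] [Finite G] (p : ℕ) [Fact p.Prime] (hdiv : p ∣ Nat.card G) (hsq : ¬ p ^ 2 ∣ Nat.card G) (P : Sylow p G) : Nat.card {χ : Cfsg.IrrCharacter G // ¬ p ∣ Cfsg.charDegree (χ : G → ℂ)} = Nat.card (ConjClasses (Subgroup.normalizer ((P : Subgroup G) : Set G))) := by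
  classical
  haveI := Fintype.ofFinite G
  obtain ⟨M, hM⟩ := Blocks.exists_isPModular (Fact.out : p.Prime)
  haveI := hM.2.1.isPrime
  have hP : Nat.card P = p := by
    rw [P.card_eq_multiplicity]
    have h1 : (Nat.card G).factorization p = 1 := le_antisymm (by
      by_contra h
      exact hsq ((Nat.Prime.pow_dvd_iff_le_factorization Fact.out Nat.card_pos.ne').mpr (by omega)))
      ((Nat.Prime.dvd_iff_one_le_factorization Fact.out Nat.card_pos.ne').mp hdiv)
    rw [h1, pow_one]
  set N : Subgroup G := Blocks.D1.cN P with hN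
  haveI : Fintype N := Fintype.ofFinite N
  have hPN : (P : Subgroup G) ≤ N := Subgroup.le_normalizer
  let Q : Sylow p N := P.subtype hPN
  have hQ : Nat.card Q = p := (Blocks.card_subgroupOf hPN).trans hP
  obtain ⟨S⟩ := Blocks.D1.exists_setup P hP
  obtain ⟨T⟩ := Blocks.D1.exists_setup Q hQ
  have hmemC : ∀ x : N, x ∈ Blocks.D1.cC Q ↔ (x : G) ∈ Blocks.D1.cC P := fun x => by
    simp only [Subgroup.mem_centralizer_iff, SetLike.mem_coe]
    exact ⟨fun h y hy => congrArg Subtype.val (h ⟨y, hPN hy⟩ hy),
      fun h y hy => Subtype.ext (h (y : G) hy)⟩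
  have hmemN : ∀ x : N, x ∈ Blocks.D1.cN Q := fun x => Subgroup.mem_normalizer_iff.mpr fun y =>
    Subgroup.mem_normalizer_iff.mp x.2 (y : G)
  let e : Blocks.D1.cC Q ≃* Blocks.D1.cC P :=
    { toFun := fun c => ⟨((c : N) : G), (hmemC _).mp c.2⟩
      invFun := fun c => ⟨⟨(c : G), Subgroup.centralizer_le_normalizer _ c.2⟩, (hmemC _).mpr c.2⟩
      left_inv := fun c => rfl
      right_inv := fun c => rfl
      map_mul' := fun a b => rfl }
  let en : Blocks.D1.cN Q ≃* N :=
    { toFun := fun n => n.1
      invFun := fun n => ⟨n, hmemN n⟩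
      left_inv := fun n => rfl
      right_inv := fun n => rfl
      map_mul' := fun a b => rfl }
  haveI := Fintype.ofFinite (Blocks.D1.trivSet P)
  haveI := Fintype.ofFinite (Blocks.D1.trivSet Q)
  have h1 := Blocks.D1.card_mul_count S hM
  have h2 := Blocks.D1.card_mul_count T hM
  rw [Blocks.D1.sum_weight_congr S T e en (fun c => Iff.rfl) (fun n c => rfl)] at h1
  rw [Nat.card_congr en.toEquiv, ← h1] at h2
  rw [← Nat.eq_of_mul_eq_mul_left Nat.card_pos h2, ← CT.card_irr_eq_card_conjClasses]
  refine Nat.card_congr (Equiv.subtypeUnivEquiv fun χ hdd => ?_)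
  haveI : (Q : Subgroup N).Normal := Subgroup.normal_in_normalizer
  haveI : IsCyclic Q := isCyclic_of_prime_card hQ
  letI := IsCyclic.commGroup (α := Q)
  haveI := Fintype.ofFinite (Q : Subgroup N)
  have hd := CT.deg_dvd_index_of_comm (N := (Q : Subgroup N)) χ.2 fun a b => mul_comm (G := Q) a b
  exact Q.not_dvd_index (hdd.trans hd)

end Cfsg.Agent.S4502
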