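import Cfsg.Statements.S4506
import Cfsg.Agent.Lib.CT.PConjugates
import Cfsg.Agent.Lib.CT.GaloisTwist

set_option autoImplicit false
set_option linter.all false
open Cfsg

namespace Cfsg.Agent.S4506

open Cfsg.Agent

universe u

theorem irr_orbit {G : Type u} [Group G] [Fintype G] {p m a : ℕ} [hp : Fact p.Prime] [NeZero (p ^ a)]
    (co : m.Coprime (p ^ a)) (hn : Nat.card G = m * p ^ a) {χ : G → ℂ} (hχ : IsIrrCharacter G χ)
    {ψ : G → ℂ} (hψ : ψ ∈ CT.PConj.orbit co χ) : IsIrrCharacter G ψ := by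
  classical
  obtain ⟨k, -, rfl⟩ := Finset.mem_image.mp hψ
  have hχc := CT.isCharacter_of_isIrr hχ
  have hco := CT.PConj.lift_coprime co k
  obtain ⟨f, hf⟩ := OddChar.exists_ringEquiv_pow (hn ▸ Nat.card_pos) hco
  obtain ⟨d, ρ, hρ⟩ := id hχc
  refine CT.isIrr_of_inner_self ⟨d, CT.GaloisTwist.mapRep f ρ, funext fun g => ?_⟩ ?_
  · have h2 := CT.ValueField.map_value hχc f hf (g := g) (by rw [← hn, pow_card_eq_one'])
    rw [← hρ] at h2
    rw [CT.GaloisTwist.mapRep_char, h2, hρ]
    rfl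
  · have h := CT.irr_inner_self hχ
    simp only [classInner] at h ⊢
    rw [← h]
    congr 1
    exact Fintype.sum_equiv (powCoprime (hn ▸ hco.symm)) _ _ fun g => rfl

/-- Let G be a finite group, p a prime, p^a the p-part of the order of G and g′ its p′-part. Call two irreducible characters p-conjugate when one is obtained from the other by applying a field automorphism of ℂ that fixes the g′-th roots of unity, and let r be the number of characters p-conjugate to the irreducible character χ (χ included). Then the exponent of p in r·χ(1) is at most a; and if p^a divides r·χ(1) then p^a already divides χ(1). -/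
theorem result {G : Type*} [Group G] [Finite G] (p : ℕ) (hp : p.Prime) (χ : Cfsg.IrrCharacter G) (r : ℕ) (hr : Nat.card {ψ : Cfsg.IrrCharacter G // ∃ σ : ℂ ≃+* ℂ, σ (Complex.exp (2 * Real.pi * Complex.I / ((Nat.card G / p ^ (Nat.card G).factorization p) : ℕ))) = Complex.exp (2 * Real.pi * Complex.I / ((Nat.card G / p ^ (Nat.card G).factorization p) : ℕ)) ∧ (ψ : G → ℂ) = fun g => σ ((χ : G → ℂ) g)} = r) : (r * Cfsg.charDegree (χ : G → ℂ)).factorization p ≤ (Nat.card G).factorization p ∧ (p ^ (Nat.card G).factorization p ∣ r * Cfsg.charDegree (χ : G → ℂ) → p ^ (Nat.card G).factorization p ∣ Cfsg.charDegree (χ : G → ℂ)) := by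
  classical
  haveI : Fact p.Prime := ⟨hp⟩
  haveI := Fintype.ofFinite G
  set n := Nat.card G with hn'
  have hn0 : n ≠ 0 := Nat.card_pos.ne'
  set a := n.factorization p with ha'
  set m := n / p ^ a with hm'
  have hn : Nat.card G = m * p ^ a := by rw [mul_comm]; exact (Nat.ordProj_mul_ordCompl_eq_self n p).symm
  have hmp : ¬ p ∣ m := Nat.not_dvd_ordCompl hp hn0
  have hm0 : m ≠ 0 := fun h => hmp (h ▸ dvd_zero p)
  have co : m.Coprime (p ^ a) := Nat.Coprime.pow_right _ ((hp.coprime_iff_not_dvd.mpr hmp).symm)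
  haveI : NeZero (p ^ a) := ⟨pow_ne_zero _ hp.ne_zero⟩
  have hχc := CT.isCharacter_of_isIrr χ.2
  have hη := Complex.isPrimitiveRoot_exp m hm0
  have hζ := Complex.isPrimitiveRoot_exp (m * p ^ a) (mul_ne_zero hm0 (pow_ne_zero _ hp.ne_zero))
  have horb : ∀ ψ ∈ CT.PConj.orbit co (χ : G → ℂ), IsIrrCharacter G ψ := fun ψ hψ => irr_orbit co hn χ.2 hψ
  have hr' : r = (CT.PConj.orbit co (χ : G → ℂ)).card := by
    rw [← hr, ← Nat.card_eq_finsetCard]
    refine Nat.card_congr
      { toFun := fun ψ => ⟨(ψ.1 : G → ℂ), (CT.PConj.mem_orbit_conj co hn hχc hζ _ hη).mpr ψ.2⟩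
        invFun := fun ψ => ⟨⟨ψ.1, horb ψ.1 ψ.2⟩, (CT.PConj.mem_orbit_conj co hn hχc hζ _ hη).mp ψ.2⟩
        left_inv := fun ψ => Subtype.ext (Subtype.ext rfl)
        right_inv := fun ψ => Subtype.ext rfl }
  change (r * CT.deg (χ : G → ℂ)).factorization p ≤ a ∧
    (p ^ a ∣ r * CT.deg (χ : G → ℂ) → p ^ a ∣ CT.deg (χ : G → ℂ))
  have hd0 : CT.deg (χ : G → ℂ) ≠ 0 := (CT.deg_pos χ.2).ne'
  rw [hr']
  clear_value a
  rcases a with - | b
  · have hr1 : (CT.PConj.orbit co (χ : G → ℂ)).card = 1 := by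
      refine le_antisymm (Finset.card_image_le.trans ?_) (Finset.card_pos.mpr ⟨_,
        Finset.mem_image_of_mem _ (Finset.mem_univ 1)⟩)
      rw [Finset.card_univ, ZMod.card_units_eq_totient, pow_zero, Nat.totient_one]
    rw [hr1, one_mul, pow_zero]
    refine ⟨le_of_eq (Nat.factorization_eq_zero_of_not_dvd fun hd => hmp ?_), fun _ => one_dvd _⟩
    have := hd.trans (ClassSum.degree_dvd_card χ)
    rwa [hn, pow_zero, mul_one] at this
  · have hO : (CT.PConj.orbit co (χ : G → ℂ)).card ≠ 0 :=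
      Finset.card_ne_zero_of_mem (Finset.mem_image_of_mem _ (Finset.mem_univ 1))
    refine ⟨?_, fun hd => ?_⟩
    · by_contra hlt
      push Not at hlt
      exact CT.PConj.natDvd_of_integral hmp co hn χ.2 horb
        ((hp.pow_dvd_iff_le_factorization (mul_ne_zero hO hd0)).mpr hlt)
    · exact (Nat.Coprime.pow_left _ (hp.coprime_iff_not_dvd.mpr
        (CT.PConj.not_dvd_orbit hmp co hn χ horb hd))).dvd_of_dvd_mul_left hd

end Cfsg.Agent.S4506
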