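import Cfsg.Statements.S4507
import Cfsg.Agent.Lib.Blocks.DefectOneExceptional
open Cfsg.Agent Cfsg.Agent.Blocks
open CT.SmallFaithful
-- import your own Cfsg.Agent.* helpers here

set_option autoImplicit false
open Cfsg

namespace Cfsg.Agent.S4507

/-- Let G be a finite group whose order g is divisible by the prime p exactly once, g′ = g/p, and fix a maximal ideal M of the algebraic integers containing p. Call two irreducible characters p-conjugate when a field automorphism of ℂ fixing the g′-th roots of unity carries one to the other. Let B be a p-block of positive defect (its defect group is a Sylow p-subgroup). Then B contains a subset Y (the exceptional family) such that: Y is a full p-conjugacy class (its members are pairwise p-conjugate and every p-conjugate of a member of Y lies in Y); every member of B outside Y is p-conjugate only to itself; the size t of Y divides p − 1 and B has exactly t + (p − 1)/t members; and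 there are signs δ_χ = ±1 (χ ∈ B) such that for every p-regular element x and every θ ∈ Y, Σ_{χ ∈ B ∖ Y} δ_χ χ(x) + δ_θ θ(x) = 0. -/
theorem result {G : Type*} [Group G] [Finite G] (p : ℕ) [Fact p.Prime] (M : Ideal Cfsg.AlgInt) (hM : Cfsg.IsPModular p M) (hdiv : p ∣ Nat.card G) (hsq : ¬ p ^ 2 ∣ Nat.card G) (B : Set (Cfsg.IrrCharacter G)) (hB : Cfsg.IsPBlock M B) (hd : 0 < Cfsg.blockDefect p B) : ∃ Y : Set (Cfsg.IrrCharacter G), Y ⊆ B ∧ Y.Nonempty ∧ (∀ θ ∈ Y, ∀ ψ : Cfsg.IrrCharacter G, (∃ σ : ℂ ≃+* ℂ, σ (Complex.exp (2 * Real.pi * Complex.I / ((Nat.card G / p ^ (Nat.card G).factorization p) : ℕ))) = Complex.exp (2 * Real.pi * Complex.I / ((Nat.card G / p ^ (Nat.card G).factorization p) : ℕ)) ∧ (ψ : G → ℂ) = fun g => σ ((θ : G → ℂ) g)) ↔ ψ ∈ Y) ∧ (∀ χ ∈ B, χ ∉ Y → ∀ ψ : Cfsg.IrrCharacter G, (∃ σ : ℂ ≃+* ℂ, σ (Complex.exp (2 * Real.pi * Complex.I / ((Nat.card G / p ^ (Nat.card G).factorization p) : ℕ))) = Complex.exp (2 * Real.pi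 * Complex.I / ((Nat.card G / p ^ (Nat.card G).factorization p) : ℕ)) ∧ (ψ : G → ℂ) = fun g => σ ((χ : G → ℂ) g)) → ψ = χ) ∧ Nat.card Y ∣ p - 1 ∧ Nat.card B = Nat.card Y + (p - 1) / Nat.card Y ∧ ∃ δ : Cfsg.IrrCharacter G → ℤ, (∀ χ ∈ B, δ χ = 1 ∨ δ χ = -1) ∧ ∀ x : G, ¬ p ∣ orderOf x → ∀ θ ∈ Y, (∑ᶠ χ ∈ B \ Y, (δ χ : ℂ) * (χ : G → ℂ) x) + (δ θ : ℂ) * (θ : G → ℂ) x = 0 := by
  classical
  haveI := Fintype.ofFinite G
  have hp := Fact.out (p := p.Prime)
  haveI := hM.2.1.isPrime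
  haveI := charP_res hM
  have hG1 : (Nat.card G).factorization p = 1 := by
    have h1 : 1 ≤ (Nat.card G).factorization p :=
      (hp.dvd_iff_one_le_factorization Nat.card_pos.ne').mp hdiv
    have h2 : ¬ 2 ≤ (Nat.card G).factorization p := fun h =>
      hsq ((hp.pow_dvd_iff_le_factorization Nat.card_pos.ne').mpr h)
    omega
  obtain ⟨D, hD⟩ := exists_defectGroup (p := p) hB
  have hdle : Cfsg.blockDefect p B ≤ 1 := by
    rw [Cfsg.blockDefect, hG1]; omega
  have hDc : Nat.card D = p := by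
    rw [card_defectGroup hM hB hD, show Cfsg.blockDefect p B = 1 by omega, pow_one]
  let P : Sylow p G := Sylow.ofCard D (by rw [hDc, hG1, pow_one])
  obtain ⟨S⟩ := D1.exists_setup P hDc
  have hBP : Cfsg.IsDefectGroup p M B (P : Subgroup G) := hD
  obtain ⟨ξ, hξ⟩ := exists_block_inducing hM P.2 S.P_le_cC le_rfl
    (Subgroup.centralizer_le_normalizer _) hB
    ((br_bBar_ne_zero_iff hM hB hBP P.2).mpr ⟨1, by rw [map_conj_one]⟩)
  obtain ⟨⟨θ, ⟨hθb, hθ⟩, -⟩, -⟩ := D1.card_block_of_induced S hM hBP hξ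
  obtain ⟨e, Y, δ, he, hdvd, hYB, hYne, hYc, hBc, hfix, horb, hδ, hrel⟩ :=
    D1.exists_exceptional S θ hθ hM hBP hξ hθb
  obtain ⟨t, ht⟩ := hdvd
  have ht' : (p - 1) / e = t := by rw [ht, Nat.mul_div_cancel_left _ he]
  have ht0 : 0 < t := Nat.pos_of_ne_zero fun h => by
    rw [h, mul_zero] at ht; have := hp.two_le; omega
  set n := Nat.card G
  set g' := n / p ^ n.factorization p
  have hg' : g' = (P : Subgroup G).index := by
    show n / p ^ n.factorization p = _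
    rw [hG1, pow_one, show n = p * (P : Subgroup G).index from card_eq_mul S,
      Nat.mul_div_cancel_left _ hp.pos]
  have hn : n = p * g' := hg'.symm ▸ card_eq_mul S
  have hg0 : g' ≠ 0 := hg'.symm ▸ Subgroup.index_ne_zero_of_finite
  set ζ' : ℂ := Complex.exp (2 * Real.pi * Complex.I / (g' : ℕ))
  have hζ' : IsPrimitiveRoot ζ' g' := Complex.isPrimitiveRoot_exp g' hg0
  have h1 : ζ' ^ Nat.card G = 1 := by
    show ζ' ^ n = 1
    rw [hn, mul_comm, pow_mul, hζ'.pow_eq_one, one_pow]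
  have hiff : ∀ θ₀ ψ : Cfsg.IrrCharacter G, (∃ σ : ℂ ≃+* ℂ, σ ζ' = ζ' ∧
      (ψ : G → ℂ) = fun g => σ ((θ₀ : G → ℂ) g)) ↔ ∃ k, ψ = sig S k θ₀ := by
    intro θ₀ ψ
    constructor
    · rintro ⟨σ, hσ, hψ⟩
      have hζ := Complex.isPrimitiveRoot_exp n Nat.card_pos.ne'
      set ζ := Complex.exp (2 * Real.pi * Complex.I / (n : ℕ))
      haveI : NeZero n := ⟨Nat.card_pos.ne'⟩
      obtain ⟨j, -, hj, hje⟩ := hζ.isPrimitiveRoot_iff.mp (hζ.map_of_injective σ.injective)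
      have hσn : ∀ z : ℂ, z ^ Nat.card G = 1 → σ z = z ^ j := by
        intro z hz
        obtain ⟨i, -, rfl⟩ := hζ.eq_pow_of_pow_eq_one hz
        rw [map_pow, ← hje, ← pow_mul, ← pow_mul, mul_comm]
      have hjg : j ≡ 1 [MOD g'] := by
        have h2 : ζ' ^ j = ζ' ^ 1 := by rw [← hσn ζ' h1, hσ, pow_one]
        rcases Nat.lt_or_ge 1 g' with hg1 | hg1
        · have h3 : ζ' ^ (j % g') = ζ' ^ 1 := by rw [← pow_eq_pow_mod j hζ'.pow_eq_one, h2]
          have h4 := hζ'.pow_inj (Nat.mod_lt _ (by omega)) hg1 h3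
          rw [Nat.ModEq, h4, Nat.mod_eq_of_lt hg1]
        · rw [show g' = 1 by omega]; exact Nat.modEq_one
      have hjp : ((j : ℕ) : ZMod p) ≠ 0 := by
        rw [Ne, ZMod.natCast_eq_zero_iff]
        intro hd
        exact Nat.not_coprime_of_dvd_of_dvd hp.one_lt hd hdiv hj
      refine ⟨Units.mk0 _ hjp, Subtype.ext (hψ.trans (funext fun g => ?_))⟩
      show σ ((θ₀ : G → ℂ) g) = _
      rw [sig_apply, CT.GaloisFixed.map_char (CT.isCharacter_of_isIrr θ₀.2) σ hσn g]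
      refine congrArg _ (pow_eq_pow_iff_modEq.mpr ?_)
      refine Nat.ModEq.of_dvd (orderOf_dvd_natCard g) ?_
      show j ≡ _ [MOD n]
      rw [hn, hg', ← Nat.modEq_and_modEq_iff_modEq_mul
        (hp.coprime_iff_not_dvd.mpr P.not_dvd_index)]
      refine ⟨?_, (hg' ▸ hjg).trans (expo_modEq _).symm⟩
      rw [← ZMod.natCast_eq_natCast_iff, expo_cast, Units.val_mk0]
    · rintro ⟨k, rfl⟩
      obtain ⟨f, hf⟩ := OddChar.exists_ringEquiv_pow (Nat.card_pos (α := G)) (expo_coprime S k)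
      refine ⟨f, ?_, funext fun g => ?_⟩
      · have h2 : expo (P := P) k % g' = 1 % g' := hg' ▸ expo_modEq k
        rw [hf ζ' h1, pow_eq_pow_mod _ hζ'.pow_eq_one, h2, ← pow_eq_pow_mod _ hζ'.pow_eq_one,
          pow_one]
      · rw [sig_apply, CT.GaloisFixed.map_char (CT.isCharacter_of_isIrr θ₀.2) f hf g]
  refine ⟨Y, hYB, hYne, fun θ₀ hθ₀ ψ => (hiff θ₀ ψ).trans (horb θ₀ hθ₀ ψ),
    fun χ hχ hn ψ h => ?_, ?_, ?_, δ, hδ, hrel⟩
  · obtain ⟨k, rfl⟩ := (hiff χ ψ).mp h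
    exact hfix χ hχ hn k
  · rw [hYc, ht', ht]; exact dvd_mul_left _ _
  · rw [hYc, hBc, ht', ht, Nat.mul_div_cancel _ ht0, add_comm]

end Cfsg.Agent.S4507
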