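import Cfsg.Statements.S4508
import Cfsg.Agent.Lib.SelfCentPrime.DegreePred

set_option autoImplicit false
open Cfsg

namespace Cfsg.Agent.S4508

/-- Let the finite group G contain an element x of prime order p with C_G(x) = ⟨x⟩, and let t be the number of conjugacy classes of elements of order p. If G has an irreducible character of degree p − 1, then t is even or the commutator subgroup has even index. -/
theorem result {G : Type*} [Group G] [Finite G] (p : ℕ) (hp : p.Prime) (x : G) (hx : orderOf x = p) (hC : Subgroup.centralizer ({x} : Set G) = Subgroup.zpowers x) (t : ℕ) (ht : Nat.card {C : ConjClasses G // ∃ g ∈ C.carrier, orderOf g = p} = t) (χ : Cfsg.IrrCharacter G) (hχ : Cfsg.charDegree (χ : G → ℂ) + 1 = p) : Even t ∨ Even (commutator G).index := by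
  haveI := Fact.mk hp
  haveI := Fintype.ofFinite G
  have h : SelfCentPrime.Hyp p x := ⟨hp, hx, hC⟩
  have hcount := h.classes_mul_idx
  rw [ht] at hcount
  have hdeg : CT.deg (χ : G → ℂ) + 1 = p := by
    rw [← hχ]
    obtain ⟨m, hm⟩ := CT.exists_degree (CT.isCharacter_of_isIrr χ.2)
    simp [CT.deg, Cfsg.charDegree, hm]
  by_cases hto : Even t
  · exact Or.inl hto
  right
  by_cases hp2 : p = 2
  · have htone : t = 1 := by
      rw [hp2] at hcount
      exact Nat.eq_one_of_mul_eq_one_right hcount
    have h1 := (h.of_idx_eq_one (by rw [htone, one_mul, hp2] at hcount; exact hcount)).1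
    rw [h1, hp2]
    exact even_two
  · exact h.even_index_of_deg χ hdeg hp2 hcount hto

end Cfsg.Agent.S4508
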