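import Cfsg.Statements.S4509
import Cfsg.Agent.Lib.SelfCentPrime.Basic

set_option autoImplicit false
open Cfsg
open scoped commutatorElement

namespace Cfsg.Agent.S4509

/-- Let the finite group G contain an element x of prime order p with C_G(x) = ⟨x⟩; let t be the number of conjugacy classes of elements of order p and 1 + n·p the number of subgroups of order p. Then G has a normal subgroup of order 1 + n·p if and only if either t = p − 1, or t < p − 1 and G″ ≠ G′. Moreover, if t = p − 1 then G′ has order 1 + n·p and G/G′ is cyclic of order p; and if t < p − 1 and G″ ≠ G′ then G″ has order 1 + n·p and G′ has order p·(1 + n·p). -/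
theorem result {G : Type*} [Group G] [Finite G] (p : ℕ) (hp : p.Prime) (x : G) (hx : orderOf x = p) (hC : Subgroup.centralizer ({x} : Set G) = Subgroup.zpowers x) (t : ℕ) (ht : Nat.card {C : ConjClasses G // ∃ g ∈ C.carrier, orderOf g = p} = t) (n : ℕ) (hn : Nat.card {H : Subgroup G // Nat.card H = p} = 1 + n * p) : ((∃ S : Subgroup G, S.Normal ∧ Nat.card S = 1 + n * p) ↔ (t = p - 1 ∨ (t < p - 1 ∧ derivedSeries G 2 ≠ derivedSeries G 1))) ∧ (t = p - 1 → Nat.card (commutator G) = 1 + n * p ∧ IsCyclic (G ⧸ commutator G) ∧ (commutator G).index = p) ∧ (t < p - 1 → derivedSeries G 2 ≠ derivedSeries G 1 → Nat.card (derivedSeries G 2) = 1 + n * p ∧ Nat.card (commutator G) = p * (1 + n * p)) := by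
  haveI := Fact.mk hp
  have h : SelfCentPrime.Hyp p x := ⟨hp, hx, hC⟩
  have hcount := h.classes_mul_idx
  rw [ht] at hcount
  have hp1 : 0 < p - 1 := Nat.sub_pos_of_lt hp.one_lt
  rw [h.card_subgroups] at hn
  set N := Subgroup.normalizer (Subgroup.zpowers x : Set G) with hN
  have hGc : Nat.card G = SelfCentPrime.idx x * p * (1 + n * p) := by
    rw [← hn, ← h.card_normalizer, Subgroup.card_mul_index]
  have hpn : ¬ p ∣ 1 + n * p := fun hd => hp.one_lt.ne' (Nat.dvd_one.mp
    ((Nat.dvd_add_left (dvd_mul_left p n)).mp hd))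
  have h12 : derivedSeries G 1 = commutator G := derivedSeries_one G
  have hd2 : derivedSeries G 2 = ⁅commutator G, commutator G⁆ := by
    rw [show derivedSeries G 2 = ⁅derivedSeries G 1, derivedSeries G 1⁆ from rfl, h12]
  have hcaseA : t = p - 1 → Nat.card (commutator G) = 1 + n * p ∧
      IsCyclic (G ⧸ commutator G) ∧ (commutator G).index = p := by
    intro he
    have hone : SelfCentPrime.idx x = 1 := by
      rw [he] at hcount
      exact Nat.eq_of_mul_eq_mul_left hp1 (hcount.trans (mul_one _).symm)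
    have hidx := (h.of_idx_eq_one hone).1
    refine ⟨?_, isCyclic_of_prime_card (p := p) ?_, hidx⟩
    · have := Subgroup.card_mul_index (commutator G)
      rw [hidx, hGc, hone, one_mul, mul_comm p] at this
      exact Nat.eq_of_mul_eq_mul_right hp.pos this
    · rw [← hidx, Subgroup.index_eq_card]
  have hcaseB : t < p - 1 → derivedSeries G 2 ≠ derivedSeries G 1 →
      Nat.card (derivedSeries G 2) = 1 + n * p ∧ Nat.card (commutator G) = p * (1 + n * p) := by
    intro hlt hne
    have he1 : SelfCentPrime.idx x ≠ 1 := fun e => hlt.ne (by rw [e, mul_one] at hcount; exact hcount)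
    have hxD := h.mem_commutator he1
    set D2 := derivedSeries G 2 with hD2
    haveI : D2.Normal := derivedSeries_normal G 2
    have hle : D2 ≤ commutator G := by rw [hd2]; exact Subgroup.commutator_le_self _
    have hpD : ¬ p ∣ Nat.card D2 := fun hd =>
      hne (h12 ▸ le_antisymm hle (h.commutator_le hd))
    have hdisj := h.inf_normalizer hpD
    have hDN : commutator G ≤ D2 ⊔ Subgroup.zpowers x := by
      intro g hg
      have hq : (g : G ⧸ D2) ∈ Subgroup.centralizer ({(x : G ⧸ D2)} : Set (G ⧸ D2)) := by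
        rw [Subgroup.mem_centralizer_singleton_iff, ← QuotientGroup.mk_mul, ← QuotientGroup.mk_mul,
          QuotientGroup.eq]
        have : (g * x)⁻¹ * (x * g) = ⁅x⁻¹, g⁻¹⁆ := by rw [commutatorElement_def]; group
        rw [this, hd2]
        exact Subgroup.commutator_mem_commutator (inv_mem hxD) (inv_mem hg)
      rw [((S4496.result p hp x hx hC D2).2 hpD).2.2.2] at hq
      obtain ⟨i, hi⟩ := Subgroup.mem_zpowers_iff.mp hq
      rw [← QuotientGroup.mk_zpow, QuotientGroup.eq] at hi
      have e : g = x ^ i * ((x ^ i)⁻¹ * g) := by group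
      rw [e]
      exact mul_mem (Subgroup.mem_sup_right (zpow_mem (Subgroup.mem_zpowers x) i))
        (Subgroup.mem_sup_left hi)
    have hsup : D2 ⊔ N = ⊤ := by
      refine eq_top_iff.mpr ?_
      rw [← h.sup_normalizer hxD]
      exact sup_le le_sup_right (hDN.trans (sup_le le_sup_left (h.le_normalizer'.trans le_sup_right)))
    have e1 := Basics.card_mul_card_eq_card_sup_mul_card_inf (N := D2) (H := N)
      (fun _ _ => by rw [Subgroup.normalizer_eq_top]; trivial)
    rw [hdisj, hsup, Subgroup.card_bot, mul_one, Subgroup.card_top, h.card_normalizer, hGc,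
      mul_comm (Nat.card D2)] at e1
    have hD2c : Nat.card D2 = 1 + n * p := Nat.eq_of_mul_eq_mul_left
      (Nat.mul_pos (Nat.pos_of_ne_zero fun e => by rw [e, mul_zero] at hcount; omega) hp.pos) e1
    refine ⟨hD2c, ?_⟩
    have heq : commutator G = D2 ⊔ Subgroup.zpowers x :=
      le_antisymm hDN (sup_le hle (Subgroup.zpowers_le.mpr hxD))
    have e2 := Basics.card_mul_card_eq_card_sup_mul_card_inf (N := D2) (H := Subgroup.zpowers x)
      (fun _ _ => by rw [Subgroup.normalizer_eq_top]; trivial)
    rw [show D2 ⊓ Subgroup.zpowers x = ⊥ from eq_bot_iff.mpr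
      (le_trans (inf_le_inf_left _ h.le_normalizer') hdisj.le), ← heq, Subgroup.card_bot, mul_one,
      hD2c, h.card_zp, mul_comm] at e2
    exact e2.symm
  refine ⟨⟨?_, ?_⟩, hcaseA, hcaseB⟩
  · rintro ⟨S, hSn, hSc⟩
    by_cases he : t = p - 1
    · exact Or.inl he
    have hlt : t < p - 1 := by
      refine lt_of_le_of_ne ?_ he
      rcases Nat.eq_zero_or_pos (SelfCentPrime.idx x) with e | e
      · rw [e, mul_zero] at hcount; omega
      · rw [← hcount]; exact Nat.le_mul_of_pos_right _ e
    refine Or.inr ⟨hlt, fun heq => ?_⟩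
    have he1 : SelfCentPrime.idx x ≠ 1 := fun e => he (by rw [e, mul_one] at hcount; exact hcount)
    have hxD := h.mem_commutator he1
    haveI := hSn
    have hpS : ¬ p ∣ Nat.card S := hSc ▸ hpn
    have hSN := h.inf_normalizer hpS
    have hsup : S ⊔ N = ⊤ := by
      refine Subgroup.eq_top_of_card_eq _ ?_
      have e1 := Basics.card_mul_card_eq_card_sup_mul_card_inf (N := S) (H := N)
        (fun _ _ => by rw [Subgroup.normalizer_eq_top]; trivial)
      rw [hSN, Subgroup.card_bot, mul_one, hSc, h.card_normalizer] at e1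
      rw [← e1, hGc, mul_comm]
    haveI hSP : (S ⊔ Subgroup.zpowers x).Normal := by
      refine ⟨fun v hv g => ?_⟩
      obtain ⟨s, hs, m, hm, rfl⟩ := Subgroup.mem_sup_of_normal_left.mp
        ((le_of_eq hsup.symm) (Subgroup.mem_top g))
      obtain ⟨a, ha, b, hb, rfl⟩ := Subgroup.mem_sup_of_normal_left.mp hv
      rw [show s * m * (a * b) * (s * m)⁻¹ = s * (m * a * m⁻¹ * (m * b * m⁻¹)) * s⁻¹ by group]
      refine mul_mem (mul_mem (Subgroup.mem_sup_left hs) (mul_mem
        (Subgroup.mem_sup_left (hSn.conj_mem a ha m))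
        (Subgroup.mem_sup_right ((Subgroup.mem_normalizer_iff.mp hm b).mp hb))))
        (inv_mem (Subgroup.mem_sup_left hs))
    have hD : commutator G ≤ S ⊔ Subgroup.zpowers x := h.commutator_le (by
      rw [← hx]; exact Subgroup.orderOf_dvd_natCard _ (Subgroup.mem_sup_right (Subgroup.mem_zpowers x)))
    have h2 : ⁅commutator G, commutator G⁆ ≤ S := by
      refine (Subgroup.commutator_mono hD hD).trans ?_
      rw [Subgroup.commutator_le]
      intro a ha b hb
      obtain ⟨a1, ha1, a2, ha2, rfl⟩ := Subgroup.mem_sup_of_normal_left.mp ha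
      obtain ⟨b1, hb1, b2, hb2, rfl⟩ := Subgroup.mem_sup_of_normal_left.mp hb
      rw [← QuotientGroup.eq_one_iff, commutatorElement_def]
      obtain ⟨i, rfl⟩ := Subgroup.mem_zpowers_iff.mp ha2
      obtain ⟨j, rfl⟩ := Subgroup.mem_zpowers_iff.mp hb2
      simp only [QuotientGroup.mk_mul, QuotientGroup.mk_inv, (QuotientGroup.eq_one_iff a1).mpr ha1,
        (QuotientGroup.eq_one_iff b1).mpr hb1, one_mul, QuotientGroup.mk_zpow]
      rw [(Commute.zpow_zpow_self (x : G ⧸ S) i j).eq]
      group
    rw [← hd2, heq, h12] at h2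
    exact hpS (hx ▸ Subgroup.orderOf_dvd_natCard _ (h2 hxD))
  · rintro (he | ⟨hlt, hne⟩)
    · exact ⟨commutator G, inferInstance, (hcaseA he).1⟩
    · exact ⟨derivedSeries G 2, derivedSeries_normal G 2, (hcaseB hlt hne).1⟩

end Cfsg.Agent.S4509
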