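import Cfsg.Statements.S4518
import Cfsg.Agent.Lib.CT.Clifford
import Cfsg.Agent.Lib.CT.Orthogonality
import Cfsg.Agent.Lib.OddChar.GaloisChar
import Mathlib.GroupTheory.Perm.Cycle.Type

set_option autoImplicit false
open Cfsg

namespace Cfsg.Agent.S4518

/-- Let N be a normal subgroup of the finite group G whose index is not divisible by the prime p, and let k be coprime to the order of G with k ^ (p ^ e) ≡ 1 modulo the order of G for some e (so g ↦ g ^ k induces a field automorphism of p-power order on character values). If an irreducible character χ of G satisfies χ (g ^ k) = χ g for all g, then every irreducible constituent θ of the restriction of χ to N satisfies θ (n ^ k) = θ n for all n. -/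
theorem result {G : Type*} [Group G] [Fintype G] (p : ℕ) [Fact p.Prime] (N : Subgroup G) [N.Normal] [Fintype N] (hidx : ¬ p ∣ N.index) (k e : ℕ) (hk : Nat.Coprime k (Nat.card G)) (hke : k ^ (p ^ e) ≡ 1 [MOD Nat.card G]) (χ : Cfsg.IrrCharacter G) (hχ : ∀ g : G, (χ : G → ℂ) (g ^ k) = (χ : G → ℂ) g) (θ : Cfsg.IrrCharacter N) (hθ : Cfsg.classInner (fun n : N => (χ : G → ℂ) n) (θ : N → ℂ) ≠ 0) : ∀ n : N, (θ : N → ℂ) (n ^ k) = (θ : N → ℂ) n := by
  classical
  haveI : (N.comap (MonoidHom.id G)).Normal := inferInstance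
  set O := CT.conjOrbit N (θ : N → ℂ) with hO
  have hres := CT.isCharacter_restrict N (CT.isCharacter_of_isIrr χ.2)
  have hkN : k.Coprime (Nat.card N) := hk.coprime_dvd_right N.card_subgroup_dvd_card
  let σ : (N → ℂ) → N → ℂ := fun ψ n => ψ (n ^ k)
  have hbij : Function.Bijective fun n : N => n ^ k := (powCoprime hkN.symm).bijective
  have hinner : ∀ a b : N → ℂ, Cfsg.classInner (σ a) (σ b) = Cfsg.classInner a b := by
    intro a b
    simp only [Cfsg.classInner, σ]
    congr 1
    exact Function.Bijective.sum_comp hbij fun n => a n * (starRingEnd ℂ) (b n)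
  have hσχ : σ (fun n : N => (χ : G → ℂ) n) = fun n : N => (χ : G → ℂ) n := by
    funext n; simp [σ, hχ]
  have hirr : ∀ ψ ∈ O, Cfsg.IsIrrCharacter N ψ := fun ψ hψ => by
    obtain ⟨g, rfl⟩ := (CT.mem_conjOrbit N).mp hψ
    exact CT.isIrrCharacter_conjFun N g θ.2
  have hσO : ∀ ψ ∈ O, σ ψ ∈ O := by
    intro ψ hψ
    have h1 : Cfsg.IsIrrCharacter N (σ ψ) := CT.isIrr_of_inner_self
      (OddChar.isCharacter_map_pow (CT.isCharacter_of_isIrr (hirr ψ hψ)) hkN)
      (by rw [hinner, CT.irr_inner_self (hirr ψ hψ)])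
    obtain ⟨g, rfl⟩ := (CT.mem_conjOrbit N).mp hψ
    refine (CT.mem_conjOrbit N).mpr (CT.exists_conj_of_constituent N χ.2 θ.2 h1 hθ ?_)
    rw [← hσχ]
    refine fun h0 => hθ ?_
    have e1 := hinner (fun n : N => (χ : G → ℂ) n) (CT.conjFun N g (θ : N → ℂ))
    rw [CT.classInner_restrict_conjFun N (CT.isClassFunction_of_isIrr χ.2)] at e1
    exact e1.symm.trans h0
  have hinj : Function.Injective σ := fun a b h => funext fun n => by
    obtain ⟨m, rfl⟩ := hbij.2 n
    exact congrFun h m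
  let π : Equiv.Perm O := Equiv.ofBijective (fun ψ => ⟨σ ψ, hσO _ ψ.2⟩)
    (Finite.injective_iff_bijective.mp fun a b h => Subtype.ext (hinj (congrArg Subtype.val h)))
  have hiter : ∀ (m : ℕ) (ψ : O), (((π ^ m) ψ : O) : N → ℂ) = fun n => (ψ : N → ℂ) (n ^ k ^ m) := by
    intro m
    induction m with
    | zero => intro ψ; simp
    | succ m ih =>
      intro ψ
      rw [pow_succ, Equiv.Perm.mul_apply, ih]
      funext n
      show (ψ : N → ℂ) ((n ^ k ^ m) ^ k) = _
      rw [← pow_mul, pow_succ]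
  have hπ : π ^ p ^ e = 1 := by
    refine Equiv.ext fun ψ => Subtype.ext ?_
    rw [hiter]
    funext n
    show (ψ : N → ℂ) _ = (ψ : N → ℂ) n
    have hn : n ^ Nat.card G = 1 := Subtype.ext (by simp)
    rw [pow_eq_pow_mod _ hn, hke, ← pow_eq_pow_mod _ hn, pow_one]
  have hcard : ¬ p ∣ Fintype.card O := by
    rw [Fintype.card_coe, hO, CT.card_conjOrbit]
    exact fun h => hidx (h.trans (Subgroup.index_dvd_of_le
      (CT.le_inertia N (CT.isClassFunction_of_isIrr θ.2))))
  obtain ⟨ψ, hψ⟩ := Equiv.Perm.exists_fixed_point_of_prime (p := p) (n := e) hcard hπ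
  obtain ⟨g, hg⟩ := (CT.mem_conjOrbit N).mp ψ.2
  intro n
  have h1 := congrFun (congrArg Subtype.val hψ)
    ⟨g⁻¹ * n * g, by simpa using (inferInstance : N.Normal).conj_mem _ n.2 g⁻¹⟩
  simp only [π, Equiv.ofBijective_apply, σ, ← hg, CT.conjFun] at h1
  have hc : (g⁻¹ * (n : G) * g) ^ k = g⁻¹ * (n : G) ^ k * g := by
    simpa using conj_pow (i := k) (a := g⁻¹) (b := (n : G))
  convert h1 using 2 <;> refine Subtype.ext ?_
  · simp only [SubgroupClass.coe_pow, hc]; group
  · group

end Cfsg.Agent.S4518
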