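import Cfsg.Statements.S4520
import Cfsg.Agent.Lib.Blocks.GaloisStable
import Cfsg.Agent.Lib.Blocks.CoverDefect

set_option autoImplicit false
open Cfsg
open Cfsg.Agent

namespace Cfsg.Agent.S4520

/-- Let N be a normal subgroup of odd index in the finite group G, M a maximal ideal of the algebraic integers containing 2, and k coprime to the order of G with k ^ (2 ^ e) ≡ 1 modulo the order of G for some e and g ^ k = g⁻¹ for every element g of odd order. Let θ be an irreducible character of N and χ an irreducible character of G over θ, both unchanged by composing with g ↦ g ^ k. Then χ lies in the principal 2-block of G if and only if θ lies in the principal 2-block of N. -/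
theorem result {G : Type*} [Group G] [Fintype G] (M : Ideal Cfsg.AlgInt) (hM : Cfsg.IsPModular 2 M) (N : Subgroup G) [N.Normal] [Fintype N] (hidx : Odd N.index) (k e : ℕ) (hk : Nat.Coprime k (Nat.card G)) (hke : k ^ (2 ^ e) ≡ 1 [MOD Nat.card G]) (hk₂ : ∀ g : G, Odd (orderOf g) → g ^ k = g⁻¹) (θ : Cfsg.IrrCharacter N) (hθ : ∀ n : N, (θ : N → ℂ) (n ^ k) = (θ : N → ℂ) n) (χ : Cfsg.IrrCharacter G) (hχ : ∀ g : G, (χ : G → ℂ) (g ^ k) = (χ : G → ℂ) g) (hover : Cfsg.classInner (fun n : N => (χ : G → ℂ) n) (θ : N → ℂ) ≠ 0) : χ ∈ Cfsg.principalBlock M G ↔ θ ∈ Cfsg.principalBlock M N := by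
  classical
  haveI := Cfsg.Agent.Blocks.isPrime_of_modular hM
  haveI : Fact (Nat.Prime 2) := ⟨Nat.prime_two⟩
  have htriv : Cfsg.classInner (fun n : N => ((CT.trivIrr G : Cfsg.IrrCharacter G) : G → ℂ) n)
      ((CT.trivIrr N : Cfsg.IrrCharacter N) : N → ℂ) ≠ 0 := by
    have := CT.irr_inner_self (CT.trivIrr N).2
    show Cfsg.classInner (fun n : N => (1 : ℂ)) (fun n : N => (1 : ℂ)) ≠ 0
    rw [show Cfsg.classInner (fun n : N => (1 : ℂ)) (fun n : N => (1 : ℂ)) = 1 from this]
    exact one_ne_zero
  constructor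
  · intro h
    obtain ⟨g, hg⟩ := Blocks.covered_conj Blocks.isPBlock_principalBlock
      Blocks.isPBlock_principalBlock Blocks.trivIrr_mem_principalBlock
      Blocks.trivIrr_mem_principalBlock htriv h hover
    have h1 := Blocks.sameBlock_conjIrr g⁻¹ ((Blocks.mem_block_iff Blocks.isPBlock_principalBlock
      Blocks.trivIrr_mem_principalBlock).mp hg)
    rw [← Blocks.conjIrr_mul, mul_inv_cancel, Blocks.conjIrr_one] at h1
    refine (Blocks.mem_block_iff Blocks.isPBlock_principalBlock
      Blocks.trivIrr_mem_principalBlock).mpr ?_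
    have e : Blocks.conjIrr g⁻¹ (CT.trivIrr N) = CT.trivIrr N := Subtype.ext rfl
    rwa [e] at h1
  · intro h
    set B := Cfsg.blockOf M (χ : G → ℂ) with hBdef
    have hB : Cfsg.IsPBlock M B := ⟨χ, rfl⟩
    have hχB : χ ∈ B := Blocks.self_mem_blockOf χ
    obtain ⟨Q₀, hQ₀⟩ := Blocks.exists_defectGroup (p := 2)
      (Blocks.isPBlock_principalBlock (M := M) (G := N))
    obtain ⟨P, hP, hPN⟩ := Blocks.knorr_cover hM Blocks.isPBlock_principalBlock
      (Q := Q₀.map N.subtype) (Subgroup.map_subtype_le Q₀)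
      (by rwa [Subgroup.subgroupOf, Subgroup.comap_map_eq_self_of_injective N.subtype_injective])
      hB ⟨χ, hχB, θ, h, hover⟩
    have hfull : (Nat.card G).factorization 2 ≤ Cfsg.blockDefect 2 B := by
      have h1 : Nat.card (Q₀.map N.subtype) ≤ Nat.card P :=
        Subgroup.card_le_of_le (hPN ▸ inf_le_left)
      rw [Subgroup.card_map_of_injective N.subtype_injective,
        Blocks.card_defectGroup hM Blocks.isPBlock_principalBlock hQ₀,
        Blocks.card_defectGroup hM hB hP] at h1
      refine le_trans ?_ ((Nat.pow_le_pow_iff_right Nat.one_lt_two).mp h1)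
      rw [Cfsg.blockDefect, (Nat.sInf_eq_zero.mpr (Or.inl ⟨CT.trivIrr N,
          Blocks.trivIrr_mem_principalBlock, by simp [Cfsg.charDegree]⟩) :
        sInf ((fun η : Cfsg.IrrCharacter N => (Cfsg.charDegree (η : N → ℂ)).factorization 2) ''
          Cfsg.principalBlock M N) = 0), Nat.sub_zero, ← N.card_mul_index,
        Nat.factorization_mul Nat.card_pos.ne' Subgroup.index_ne_zero_of_finite,
        Finsupp.add_apply, Nat.factorization_eq_zero_of_not_dvd (Nat.two_dvd_ne_zero.mpr
          (Nat.odd_iff.mp hidx)), Nat.add_zero]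
    have hBp := Blocks.eq_principal_of_stable hM hk hk₂ hB (le_antisymm (Nat.sub_le _ _) hfull)
      fun η hη => by
        have e : Blocks.powIrr hk χ = χ := Subtype.ext (funext hχ)
        have := Blocks.sameBlock_powIrr (M := M) hk ((Blocks.mem_block_iff hB hχB).mp hη)
        rw [e] at this
        exact (Blocks.mem_block_iff hB hχB).mpr this
    exact hBp ▸ hχB

end Cfsg.Agent.S4520
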