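import Cfsg.Statements.S4521
import Cfsg.Agent.Lib.Blocks.CosetRegular
import Cfsg.Agent.Lib.CT.Clifford

set_option autoImplicit false
open Cfsg

namespace Cfsg.Agent.S4521

/-- Let the finite group G be generated by subgroups U₁ and U₂ that commute elementwise and whose intersection is a p-group, and let M be a maximal ideal of the algebraic integers containing the prime p. If the irreducible character χ of G has the irreducible constituents ψ₁ on U₁ and ψ₂ on U₂, then χ lies in the principal block of G if and only if ψ₁ and ψ₂ lie in the principal blocks of U₁ and U₂. -/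
theorem result {G : Type*} [Group G] [Fintype G] (p : ℕ) [Fact p.Prime] (M : Ideal Cfsg.AlgInt) (hM : Cfsg.IsPModular p M) (U₁ U₂ : Subgroup G) [Fintype U₁] [Fintype U₂] (hcomm : ∀ u ∈ U₁, ∀ v ∈ U₂, u * v = v * u) (hgen : U₁ ⊔ U₂ = ⊤) (hZ : IsPGroup p ↥(U₁ ⊓ U₂)) (χ : Cfsg.IrrCharacter G) (ψ₁ : Cfsg.IrrCharacter U₁) (ψ₂ : Cfsg.IrrCharacter U₂) (h₁ : Cfsg.classInner (fun u : U₁ => (χ : G → ℂ) u) (ψ₁ : U₁ → ℂ) ≠ 0) (h₂ : Cfsg.classInner (fun u : U₂ => (χ : G → ℂ) u) (ψ₂ : U₂ → ℂ) ≠ 0) : χ ∈ Cfsg.principalBlock M G ↔ (ψ₁ ∈ Cfsg.principalBlock M U₁ ∧ ψ₂ ∈ Cfsg.principalBlock M U₂) := by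
  classical
  haveI := Blocks.isPrime_of_modular hM
  have hp := (Fact.out : p.Prime)
  -- decomposition
  have hdec : ∀ g : G, ∃ u ∈ U₁, ∃ v ∈ U₂, g = u * v := by
    have hle : U₁ ≤ Subgroup.normalizer (U₂ : Set G) := fun u hu => Subgroup.mem_normalizer_iff.mpr fun v => by
      constructor
      · intro hv; rwa [hcomm u hu v hv, mul_inv_cancel_right]
      · intro hv
        have h := hcomm u⁻¹ (U₁.inv_mem hu) _ hv
        have e : v = u⁻¹ * (u * v * u⁻¹) * u := by group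
        rw [e, h, mul_assoc, inv_mul_cancel, mul_one]
        exact hv
    intro g
    open scoped Pointwise in
    have hg : g ∈ ((U₁ : Set G) * (U₂ : Set G)) := by
      rw [← Subgroup.coe_mul_of_left_le_normalizer_right _ _ hle, hgen]
      exact Subgroup.mem_top g
    obtain ⟨u, hu, v, hv, e⟩ := hg
    exact ⟨u, hu, v, hv, e.symm⟩
  haveI hn1 : U₁.Normal := ⟨fun x hx g => by
    obtain ⟨u, hu, v, hv, rfl⟩ := hdec g
    rw [show u * v * x * (u * v)⁻¹ = u * (v * x * v⁻¹) * u⁻¹ by group, ← hcomm x hx v hv, mul_inv_cancel_right]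
    exact U₁.mul_mem (U₁.mul_mem hu hx) (U₁.inv_mem hu)⟩
  haveI hn2 : U₂.Normal := ⟨fun x hx g => by
    obtain ⟨u, hu, v, hv, rfl⟩ := hdec g
    rw [show u * v * x * (u * v)⁻¹ = u * (v * x * v⁻¹) * u⁻¹ by group,
      hcomm u hu _ (U₂.mul_mem (U₂.mul_mem hv hx) (U₂.inv_mem hv)), mul_inv_cancel_right]
    exact U₂.mul_mem (U₂.mul_mem hv hx) (U₂.inv_mem hv)⟩
  have hinv1 : ∀ g : G, CT.conjFun U₁ g (ψ₁ : U₁ → ℂ) = ψ₁ := by
    intro g
    funext n
    obtain ⟨u, hu, v, hv, rfl⟩ := hdec g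
    rw [CT.conjFun_eq_comp]
    simp only [Function.comp_apply]
    refine Eq.trans (congrArg (ψ₁ : U₁ → ℂ) (Subtype.ext ?_)) (CT.isClassFunction_of_isIrr ψ₁.2 n ⟨u, hu⟩)
    show ((MulAut.conjNormal (u * v) : MulAut U₁) n : G) = u * n * u⁻¹
    rw [MulAut.conjNormal_apply, show u * v * (n : G) * (u * v)⁻¹ = u * (v * n * v⁻¹) * u⁻¹ by group,
      ← hcomm n n.2 v hv, mul_inv_cancel_right]
  have hinv2 : ∀ g : G, CT.conjFun U₂ g (ψ₂ : U₂ → ℂ) = ψ₂ := by
    intro g
    funext n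
    obtain ⟨u, hu, v, hv, rfl⟩ := hdec g
    rw [CT.conjFun_eq_comp]
    simp only [Function.comp_apply]
    refine Eq.trans (congrArg (ψ₂ : U₂ → ℂ) (Subtype.ext ?_)) (CT.isClassFunction_of_isIrr ψ₂.2 n ⟨v, hv⟩)
    show ((MulAut.conjNormal (u * v) : MulAut U₂) n : G) = v * n * v⁻¹
    rw [MulAut.conjNormal_apply, show u * v * (n : G) * (u * v)⁻¹ = u * (v * n * v⁻¹) * u⁻¹ by group,
      hcomm u hu _ (U₂.mul_mem (U₂.mul_mem hv n.2) (U₂.inv_mem hv)), mul_inv_cancel_right]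
  have hχ1 := CT.irr_one_ne_zero χ.2
  have hr1 : ∀ u : U₁, (χ : G → ℂ) u / (χ : G → ℂ) 1 = (ψ₁ : U₁ → ℂ) u / (ψ₁ : U₁ → ℂ) 1 := by
    intro u
    have h := CT.restrict_eq_smul_of_invariant U₁ χ.2 ψ₁.2 h₁ hinv1
    have e1 := congrFun h u
    have e2 := congrFun h 1
    simp only [Pi.smul_apply, smul_eq_mul, OneMemClass.coe_one] at e1 e2
    rw [e1, e2, mul_div_mul_left _ _ h₁]
  have hr2 : ∀ v : U₂, (χ : G → ℂ) v / (χ : G → ℂ) 1 = (ψ₂ : U₂ → ℂ) v / (ψ₂ : U₂ → ℂ) 1 := by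
    intro v
    have h := CT.restrict_eq_smul_of_invariant U₂ χ.2 ψ₂.2 h₂ hinv2
    have e1 := congrFun h v
    have e2 := congrFun h 1
    simp only [Pi.smul_apply, smul_eq_mul, OneMemClass.coe_one] at e1 e2
    rw [e1, e2, mul_div_mul_left _ _ h₂]
  -- the product formula
  have hprod : ∀ u ∈ U₁, ∀ v ∈ U₂, (χ : G → ℂ) (u * v) * (χ : G → ℂ) 1 = (χ : G → ℂ) u * (χ : G → ℂ) v := by
    intro u hu v hv
    obtain ⟨m, ρ, hρirr, hρ⟩ := χ.2
    haveI := hρirr
    set A : Module.End ℂ (Fin m → ℂ) := ∑ x : G, ρ (x * u * x⁻¹) with hA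
    have hcA : ∀ g : G, A * ρ g = ρ g * A := by
      intro g
      rw [hA, Finset.sum_mul, Finset.mul_sum]
      refine Fintype.sum_equiv (Equiv.mulLeft g⁻¹) _ _ fun x => ?_
      rw [← map_mul, ← map_mul, Equiv.coe_mulLeft]
      exact congrArg ρ (by group)
    have hs := CT.eq_scalar_of_commute ρ A hcA
    set c := LinearMap.trace ℂ (Fin m → ℂ) A / (Module.finrank ℂ (Fin m → ℂ) : ℂ) with hc
    have key : ∀ w ∈ U₂, (Nat.card G : ℂ) * (χ : G → ℂ) (u * w) = c * (χ : G → ℂ) w := by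
      intro w hw
      rw [← hρ]
      calc (Nat.card G : ℂ) * ρ.character (u * w)
          = ∑ x : G, ρ.character (x * u * x⁻¹ * w) := by
            rw [Finset.sum_congr rfl (g := fun _ => ρ.character (u * w)) fun x _ => ?_, Finset.sum_const,
              Finset.card_univ, ← Nat.card_eq_fintype_card, nsmul_eq_mul]
            obtain ⟨a, ha, b, hb, rfl⟩ := hdec x
            rw [show a * b * u * (a * b)⁻¹ = a * (b * u * b⁻¹) * a⁻¹ by group, ← hcomm u hu b hb,
              mul_inv_cancel_right, mul_assoc (a * u) a⁻¹ w, hcomm a⁻¹ (U₁.inv_mem ha) w hw,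
              show a * u * (w * a⁻¹) = a * (u * w) * a⁻¹ by group]
            exact ρ.char_conj (u * w) a
        _ = LinearMap.trace ℂ _ (A * ρ w) := by
            rw [hA, Finset.sum_mul, map_sum]
            exact Finset.sum_congr rfl fun x _ => by rw [← map_mul]; rfl
        _ = c * ρ.character w := by
            rw [hs, smul_mul_assoc, map_smul, smul_eq_mul]
            rfl
    have k1 := key v hv
    have k2 := key 1 U₂.one_mem
    rw [mul_one] at k2
    refine mul_left_cancel₀ (CT.card_ne_zero (G := G)) ?_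
    linear_combination (χ : G → ℂ) 1 * k1 - (χ : G → ℂ) v * k2
  -- the regular sums multiply
  have hreg : (∑ g : G, if p ∣ orderOf g then 0 else (χ : G → ℂ) g) / (χ : G → ℂ) 1 =
      ((∑ u : U₁, if p ∣ orderOf u then 0 else (ψ₁ : U₁ → ℂ) u) / (ψ₁ : U₁ → ℂ) 1) *
      ((∑ v : U₂, if p ∣ orderOf v then 0 else (ψ₂ : U₂ → ℂ) v) / (ψ₂ : U₂ → ℂ) 1) := by
    rw [Finset.sum_div, Finset.sum_div, Finset.sum_div, Finset.sum_mul_sum, ← Fintype.sum_prod_type']
    have hL : ∀ {X : Type _} [Group X] [Fintype X] (f : X → ℂ) (d : ℂ),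
        ∑ x : X, (if p ∣ orderOf x then 0 else f x) / d = ∑ x ∈ Finset.univ.filter (fun x : X => ¬ p ∣ orderOf x), f x / d := by
      intro X _ _ f d
      rw [Finset.sum_filter]
      exact Finset.sum_congr rfl fun x _ => by split_ifs <;> simp
    rw [hL, ← Finset.sum_filter_add_sum_filter_not (Finset.univ : Finset (U₁ × U₂))
      (fun x => ¬ p ∣ orderOf x.1 ∧ ¬ p ∣ orderOf x.2),
      Finset.sum_eq_zero (s := Finset.filter (fun x : U₁ × U₂ => ¬ (¬ p ∣ orderOf x.1 ∧ ¬ p ∣ orderOf x.2)) _) fun x hx => ?_,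
      add_zero]
    swap
    · have h := (Finset.mem_filter.mp hx).2
      rw [not_and_or, not_not, not_not] at h
      rcases h with h | h <;> simp [h]
    symm
    refine Finset.sum_bij (fun x _ => (x.1 : G) * x.2) ?_ ?_ ?_ ?_
    · intro x hx
      obtain ⟨h1, h2⟩ := (Finset.mem_filter.mp hx).2
      refine Finset.mem_filter.mpr ⟨Finset.mem_univ _, fun hd => ?_⟩
      have h3 := hd.trans ((show Commute (x.1 : G) x.2 from hcomm _ x.1.2 _ x.2.2).orderOf_mul_dvd_lcm)
      rw [Subgroup.orderOf_coe, Subgroup.orderOf_coe] at h3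
      rcases (Nat.Prime.dvd_mul hp).mp (h3.trans (Nat.lcm_dvd_mul _ _)) with h | h
      exacts [h1 h, h2 h]
    · intro x hx y hy e
      obtain ⟨hx1, hx2⟩ := (Finset.mem_filter.mp hx).2
      obtain ⟨hy1, hy2⟩ := (Finset.mem_filter.mp hy).2
      set z : G := (y.1 : G)⁻¹ * x.1 with hz
      have hz2 : z = (y.2 : G) * (x.2 : G)⁻¹ := by
        rw [eq_mul_inv_iff_mul_eq, hz, mul_assoc, e, inv_mul_cancel_left]
      have hzm : z ∈ U₁ ⊓ U₂ := ⟨U₁.mul_mem (U₁.inv_mem y.1.2) x.1.2, hz2 ▸ U₂.mul_mem y.2.2 (U₂.inv_mem x.2.2)⟩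
      obtain ⟨j, hj⟩ := hZ ⟨z, hzm⟩
      have hzc : Commute (y.1 : G) z := by
        rw [hz2]; exact hcomm _ y.1.2 _ (U₂.mul_mem y.2.2 (U₂.inv_mem x.2.2))
      have hzord : orderOf z ∣ Nat.lcm (orderOf (y.1 : G)) (orderOf (x.1 : G)) := by
        have hc : Commute (y.1 : G)⁻¹ (x.1 : G) := by
          have h1 : (y.1 : G) * x.1 = x.1 * y.1 := by
            have e' : (x.1 : G) = y.1 * z := by rw [hz, mul_inv_cancel_left]
            rw [e', mul_assoc (y.1 : G) z, ← hzc.eq]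
          exact (show Commute (y.1 : G) x.1 from h1).inv_left
        have h := hc.orderOf_mul_dvd_lcm
        rwa [orderOf_inv] at h
      have hz1 : orderOf z = 1 := by
        have h1 : orderOf z ∣ p ^ j := orderOf_dvd_of_pow_eq_one (by simpa using congrArg Subtype.val hj)
        have h2 : (Nat.lcm (orderOf (y.1 : G)) (orderOf (x.1 : G))).Coprime (p ^ j) := by
          refine Nat.Coprime.pow_right j ((hp.coprime_iff_not_dvd.mpr fun h => ?_).symm)
          rw [Subgroup.orderOf_coe, Subgroup.orderOf_coe] at h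
          rcases (Nat.Prime.dvd_mul hp).mp (h.trans (Nat.lcm_dvd_mul _ _)) with h | h
          exacts [hy1 h, hx1 h]
        exact Nat.eq_one_of_dvd_coprimes h2 hzord h1
      rw [orderOf_eq_one_iff] at hz1
      have e1 : (x.1 : G) = y.1 := by
        have := hz.symm.trans hz1
        rwa [inv_mul_eq_one, eq_comm] at this
      rw [e1] at e
      exact Prod.ext (Subtype.ext e1) (Subtype.ext (mul_left_cancel e))
    · intro g hg
      have hgr := (Finset.mem_filter.mp hg).2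
      obtain ⟨u, hu, v, hv, rfl⟩ := hdec g
      set q := p ^ (Nat.card G).factorization p with hq
      obtain ⟨b, hb⟩ := exists_pow_eq_self_of_coprime (x := u * v) (n := q)
        (Nat.Coprime.pow_left _ (hp.coprime_iff_not_dvd.mpr hgr))
      have hreg' : ∀ w : G, ¬ p ∣ orderOf ((w ^ q) ^ b) := by
        intro w hd
        have h1 := hd.trans (orderOf_pow_dvd b)
        have h2 : orderOf (w ^ q) ∣ Nat.card G / q := by
          apply orderOf_dvd_of_pow_eq_one
          rw [← pow_mul, Nat.mul_div_cancel' (Nat.ordProj_dvd _ _), pow_card_eq_one']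
        exact Nat.not_dvd_ordCompl hp Nat.card_pos.ne' (h1.trans h2)
      refine ⟨(⟨(u ^ q) ^ b, U₁.pow_mem (U₁.pow_mem hu q) b⟩, ⟨(v ^ q) ^ b, U₂.pow_mem (U₂.pow_mem hv q) b⟩),
        Finset.mem_filter.mpr ⟨Finset.mem_univ _, ?_, ?_⟩, ?_⟩
      · rw [← Subgroup.orderOf_coe]; exact hreg' u
      · rw [← Subgroup.orderOf_coe]; exact hreg' v
      · show (u ^ q) ^ b * (v ^ q) ^ b = u * v
        have hc : Commute u v := hcomm u hu v hv
        rw [← (hc.pow_pow q q).mul_pow, ← hc.mul_pow, hb]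
    · intro x hx
      obtain ⟨h1, h2⟩ := (Finset.mem_filter.mp hx).2
      rw [if_neg h1, if_neg h2, ← hr1, ← hr2, div_mul_div_comm, ← hprod _ x.1.2 _ x.2.2,
        mul_div_mul_right _ _ hχ1]
  rw [Blocks.CosetRegular.principal_iff hM χ, Blocks.CosetRegular.principal_iff hM ψ₁,
    Blocks.CosetRegular.principal_iff hM ψ₂]
  have he : Blocks.regS M p χ (CT.trivIrr G) = Blocks.regS M p ψ₁ (CT.trivIrr U₁) * Blocks.regS M p ψ₂ (CT.trivIrr U₂) := by
    apply Subtype.ext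
    push_cast
    rw [Blocks.CosetRegular.regS_one_eq, Blocks.CosetRegular.regS_one_eq, Blocks.CosetRegular.regS_one_eq]
    exact hreg
  rw [he, map_mul, mul_ne_zero_iff]

end Cfsg.Agent.S4521
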