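import Cfsg.Statements.S4540
import Cfsg.Agent.Lib.Blocks.SubMatCount

set_option autoImplicit false
open Cfsg

namespace Cfsg.Agent.S4540

/-- Let B be a 2-block of the finite group G (relative to a maximal ideal M of the algebraic integers containing 2) of defect d with defect group D. Let z be an element of D commuting with every element of D, and let b be a block of the centralizer C of z with defect group D that induces B (a major subsection (z, b)). If b has 2-regular rank at most three, then 3·k(B) ≤ 3·k₀(B) + 2·Σ 2 ^ h(χ), where k(B) is the number of members of B, k₀(B) the number of members of height zero, and the sum runs over the members χ of B of positive height h(χ); this bound is at most 3·2 ^ d, so in particular B contains at most 2 ^ d irreducible characters. -/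
theorem result {G : Type*} [Group G] [Finite G] (M : Ideal Cfsg.AlgInt) (hM : Cfsg.IsPModular 2 M) (B : Set (Cfsg.IrrCharacter G)) (hB : Cfsg.IsPBlock M B) (D : Subgroup G) (hD : Cfsg.IsDefectGroup 2 M B D) (z : G) (hzD : z ∈ D) (hzc : ∀ d ∈ D, d * z = z * d) (b : Set (Cfsg.IrrCharacter ↥(Subgroup.centralizer ({z} : Set G)))) (hb : Cfsg.IsInducedBlock M (Subgroup.centralizer ({z} : Set G)) b B) (hbD : Cfsg.IsDefectGroup 2 M b (D.subgroupOf (Subgroup.centralizer ({z} : Set G)))) (hl : Cfsg.blockRank 2 b ≤ 3) : 3 * Nat.card B ≤ 3 * Nat.card {χ : Cfsg.IrrCharacter G // χ ∈ B ∧ Cfsg.blockHeight 2 B (χ : G → ℂ) = 0} + 2 * (∑ᶠ χ ∈ {χ : Cfsg.IrrCharacter G | χ ∈ B ∧ 1 ≤ Cfsg.blockHeight 2 B (χ : G → ℂ)}, 2 ^ Cfsg.blockHeight 2 B (χ : G → ℂ)) ∧ 3 * Nat.card {χ : Cfsg.IrrCharacter G // χ ∈ B ∧ Cfsg.blockHeight 2 B (χ : G → ℂ) = 0} + 2 * (∑ᶠ χ ∈ {χ : Cfsg.IrrCharacter G | χ ∈ B ∧ 1 ≤ Cfsg.blockHeight 2 B (χ : G → ℂ)}, 2 ^ Cfsg.blockHeight 2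 B (χ : G → ℂ)) ≤ 3 * 2 ^ Cfsg.blockDefect 2 B := by
  classical
  letI := Fintype.ofFinite G
  letI := Fintype.ofFinite (Subgroup.centralizer ({z} : Set G))
  haveI : M.IsPrime := hM.2.1.isPrime
  have hle : D ≤ Subgroup.centralizer ({z} : Set G) := fun d hd =>
    Subgroup.mem_centralizer_singleton_iff.mpr (hzc d hd)
  have hDb := Cfsg.Agent.Blocks.card_defectGroup hM hb.1 hbD
  have hDB := Cfsg.Agent.Blocks.card_defectGroup hM hB hD
  rw [Nat.card_congr (Subgroup.subgroupOfEquivOfLe hle).toEquiv, hDB] at hDb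
  have hd : Cfsg.blockDefect 2 b = Cfsg.blockDefect 2 B :=
    (Nat.pow_right_injective (le_refl 2) hDb).symm
  have hz : ∃ k : ℕ, z ^ 2 ^ k = 1 := by
    refine ⟨Cfsg.blockDefect 2 B, ?_⟩
    rw [← hDB]
    exact orderOf_dvd_iff_pow_eq_one.mp
      (Subgroup.orderOf_mk z hzD ▸ orderOf_dvd_natCard (⟨z, hzD⟩ : D))
  have hmain := Cfsg.Agent.Blocks.major_count hM hz hb hd false (by simpa using hl)
  set s := Finset.univ.filter (fun χ : Cfsg.IrrCharacter G => χ ∈ B)
  have hc : Nat.card B = s.card := by rw [Nat.card_eq_fintype_card, Fintype.card_subtype]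
  have hc0 : Nat.card {χ : Cfsg.IrrCharacter G // χ ∈ B ∧ Cfsg.blockHeight 2 B (χ : G → ℂ) = 0} =
      (s.filter fun χ : Cfsg.IrrCharacter G => Cfsg.blockHeight 2 B (χ : G → ℂ) = 0).card := by
    rw [Nat.card_eq_fintype_card, Fintype.card_subtype, Finset.filter_filter]
  have hsum : (∑ᶠ χ ∈ {χ : Cfsg.IrrCharacter G | χ ∈ B ∧ 1 ≤ Cfsg.blockHeight 2 B (χ : G → ℂ)},
      2 ^ Cfsg.blockHeight 2 B (χ : G → ℂ)) =
      ∑ χ ∈ s.filter (fun χ : Cfsg.IrrCharacter G => ¬ Cfsg.blockHeight 2 B (χ : G → ℂ) = 0),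
        2 ^ Cfsg.blockHeight 2 B (χ : G → ℂ) := by
    rw [finsum_mem_eq_toFinset_sum]
    exact Finset.sum_congr (by ext χ; simp [s, Nat.one_le_iff_ne_zero]) fun _ _ => rfl
  rw [hc, hc0, hsum]
  refine ⟨?_, hmain⟩
  have hsplit := Finset.card_filter_add_card_filter_not (s := s)
    (fun χ : Cfsg.IrrCharacter G => Cfsg.blockHeight 2 B (χ : G → ℂ) = 0)
  have hge : 2 * (s.filter fun χ : Cfsg.IrrCharacter G =>
      ¬ Cfsg.blockHeight 2 B (χ : G → ℂ) = 0).card ≤
      ∑ χ ∈ s.filter (fun χ : Cfsg.IrrCharacter G => ¬ Cfsg.blockHeight 2 B (χ : G → ℂ) = 0),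
        2 ^ Cfsg.blockHeight 2 B (χ : G → ℂ) := by
    refine le_trans (le_of_eq (mul_comm _ _)) ?_
    rw [← smul_eq_mul]
    refine Finset.card_nsmul_le_sum _ _ _ fun χ hχ => ?_
    exact Nat.le_self_pow (Finset.mem_filter.mp hχ).2 2
  omega

end Cfsg.Agent.S4540
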