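import Cfsg.Statements.S4541
import Cfsg.Agent.Lib.Blocks.SubsectionGalois
import Mathlib.Algebra.Order.Chebyshev

set_option autoImplicit false
open Cfsg

namespace Cfsg.Agent.S4541

open Cfsg.Agent Cfsg.Agent.Blocks

universe u

/-- An odd `c` controlling the number of height zero characters gives the bound. -/
theorem arith {k c q l : ℕ} (hc : Odd c) (h1 : k + c ^ 2 ≤ 2 ^ q * c + 1) (h2 : c * k ≤ 2 ^ q * l) :
    (Odd l.sqrt → k ≤ l.sqrt * 2 ^ q) ∧
      (¬ Odd l.sqrt → (l.sqrt + 1) * k ≤ l * 2 ^ q) ∧ (l ≤ 3 → k ≤ 2 ^ q) := by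
  have hs1 : l.sqrt * l.sqrt ≤ l := Nat.sqrt_le l
  have hs2 : l < (l.sqrt + 1) * (l.sqrt + 1) := Nat.lt_succ_sqrt l
  set s := l.sqrt
  have hc1 : 1 ≤ c := hc.pos
  have main1 : Odd s → k ≤ s * 2 ^ q := by
    intro hs
    by_cases hcs : c ≤ s
    · have h3 : 2 ^ q * c ≤ s * 2 ^ q := by rw [mul_comm s]; exact Nat.mul_le_mul_left _ hcs
      have h4 : 1 ≤ c ^ 2 := Nat.one_le_pow _ _ hc1
      omega
    · have hcs2 : s + 2 ≤ c := by
        obtain ⟨a, ha⟩ := hs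
        obtain ⟨e, he⟩ := hc
        omega
      have h3 : (s + 2) * k ≤ (s + 2) * (s * 2 ^ q) := calc
        (s + 2) * k ≤ c * k := Nat.mul_le_mul_right _ hcs2
        _ ≤ 2 ^ q * l := h2
        _ ≤ 2 ^ q * (s * (s + 2)) := Nat.mul_le_mul_left _ (by nlinarith)
        _ = (s + 2) * (s * 2 ^ q) := by ring
      exact Nat.le_of_mul_le_mul_left h3 (by omega)
  refine ⟨main1, fun hs => ?_, fun hl => ?_⟩
  · by_cases hcs : c ≤ s
    · have hcs2 : c + 1 ≤ s := by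
        obtain ⟨a, ha⟩ := Nat.not_odd_iff_even.mp hs
        obtain ⟨e, he⟩ := hc
        omega
      obtain ⟨t, rfl⟩ : ∃ t, l = (c + 1) * (c + 1) + t := ⟨l - (c + 1) * (c + 1), by
        have := Nat.mul_le_mul hcs2 hcs2; omega⟩
      have h4 : 1 ≤ c ^ 2 := Nat.one_le_pow _ _ hc1
      have hk' : k ≤ 2 ^ q * c := by omega
      have hk : k ≤ c * 2 ^ q := hk'.trans_eq (mul_comm _ _)
      calc (s + 1) * k ≤ (s + 1) * (c * 2 ^ q) := Nat.mul_le_mul_left _ hk
        _ = ((s + 1) * c) * 2 ^ q := by ring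
        _ ≤ ((c + 1) * (c + 1) + t) * 2 ^ q := Nat.mul_le_mul_right _ (by nlinarith)
    · calc (s + 1) * k ≤ c * k := Nat.mul_le_mul_right _ (by omega)
        _ ≤ l * 2 ^ q := by rw [mul_comm l]; exact h2
  · rcases Nat.eq_zero_or_pos l with rfl | hl0
    · rw [mul_zero, Nat.le_zero, mul_eq_zero] at h2
      rcases h2 with h | h
      · omega
      · exact h.le.trans (Nat.zero_le _)
    · have hs : s = 1 := by
        rcases s with _ | _ | s
        · omega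
        · rfl
        · nlinarith
      have := main1 (by rw [hs]; exact odd_one)
      rwa [hs, one_mul] at this

theorem aux {G : Type u} [Group G] [Fintype G] {M : Ideal AlgInt} [M.IsPrime]
    (hM : IsPModular 2 M) {y : G} [Fintype (Subgroup.centralizer ({y} : Set G))]
    (hy : ∃ k : ℕ, y ^ 2 ^ k = 1) {B : Set (IrrCharacter G)}
    {b : Set (IrrCharacter (Subgroup.centralizer ({y} : Set G)))}
    (hind : IsInducedBlock M (Subgroup.centralizer ({y} : Set G)) b B) :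
    ∃ c : ℕ, Odd c ∧
      Nat.card {χ : IrrCharacter G // χ ∈ B ∧ blockHeight 2 B (χ : G → ℂ) = 0} + c ^ 2 ≤
        2 ^ blockDefect 2 b * c + 1 ∧
      c * Nat.card {χ : IrrCharacter G // χ ∈ B ∧ blockHeight 2 B (χ : G → ℂ) = 0} ≤
        2 ^ blockDefect 2 b * blockRank 2 b := by
  classical
  obtain ⟨Γ, hΓ, T, hne, hrow, htr, hout, hlow, hodd⟩ := exists_contrib hM hy hind
  set S := Finset.univ.filter fun χ : IrrCharacter G => χ ∈ B ∧ blockHeight 2 B (χ : G → ℂ) = 0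
    with hS
  rw [show Nat.card {χ : IrrCharacter G // χ ∈ B ∧ blockHeight 2 B (χ : G → ℂ) = 0} = S.card by
    rw [Nat.card_eq_fintype_card, Fintype.card_subtype]]
  have hmem : ∀ χ ∈ S, χ ∈ B ∧ blockHeight 2 B (χ : G → ℂ) = 0 := fun χ h => (Finset.mem_filter.mp h).2
  set q := blockDefect 2 b
  set N : ℝ := (Fintype.card Γ : ℝ)
  have hN : 0 < N := by simp [N, Fintype.card_pos]
  choose c hco hc using fun (χ : S) => hodd rfl χ.1 (hmem _ χ.2).1 (hmem _ χ.2).2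
  -- the diagonal is nonnegative
  have hpos : ∀ σ χ, 0 ≤ (T σ χ χ).re := by
    intro σ χ
    have h := (hrow σ χ).2
    have h0 : 0 ≤ ∑ ψ, Complex.normSq (T σ χ ψ) := Finset.sum_nonneg fun ψ _ => Complex.normSq_nonneg _
    rw [h] at h0
    exact nonneg_of_mul_nonneg_right h0 (by positivity)
  have hrowS : ∀ χ : S, (S.card : ℝ) + (c χ : ℝ) ^ 2 ≤ (2 : ℝ) ^ q * (c χ : ℝ) + 1 := by
    intro χ
    have hsq : N * (c χ : ℝ) ^ 2 ≤ ∑ σ, Complex.normSq (T σ χ.1 χ.1) := by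
      have h := sq_sum_le_card_mul_sum_sq (s := (Finset.univ : Finset Γ)) (f := fun σ => (T σ χ.1 χ.1).re)
      rw [hc χ, Finset.card_univ] at h
      have e : ∀ σ, Complex.normSq (T σ χ.1 χ.1) = (T σ χ.1 χ.1).re ^ 2 := fun σ => by
        rw [Complex.normSq_apply, (hrow σ χ.1).1]; ring
      simp only [e]
      exact le_of_mul_le_mul_left (by linarith) hN
    have h : (N * (c χ : ℝ) ^ 2) + ((S.card : ℝ) - 1) * N ≤ (2 : ℝ) ^ q * (N * (c χ : ℝ)) := by
      calc (N * (c χ : ℝ) ^ 2) + ((S.card : ℝ) - 1) * N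
          ≤ ∑ σ, Complex.normSq (T σ χ.1 χ.1) + ∑ ψ ∈ S.erase χ.1, ∑ σ, Complex.normSq (T σ χ.1 ψ) := by
            refine add_le_add hsq ?_
            rw [show ((S.card : ℝ) - 1) * N = ∑ _ψ ∈ S.erase χ.1, N by
              rw [Finset.sum_const, nsmul_eq_mul, Finset.card_erase_of_mem χ.2, Nat.cast_sub
                (Finset.card_pos.mpr ⟨_, χ.2⟩)]; simp]
            refine Finset.sum_le_sum fun ψ hψ => ?_
            have hψ' := hmem _ (Finset.mem_of_mem_erase hψ)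
            exact hlow _ (hmem _ χ.2).1 _ hψ'.1 (hmem _ χ.2).2 hψ'.2
        _ = ∑ ψ ∈ S, ∑ σ, Complex.normSq (T σ χ.1 ψ) :=
            Finset.add_sum_erase S (fun ψ => ∑ σ, Complex.normSq (T σ χ.1 ψ)) χ.2
        _ ≤ ∑ ψ, ∑ σ, Complex.normSq (T σ χ.1 ψ) :=
            Finset.sum_le_sum_of_subset_of_nonneg (Finset.subset_univ _) fun ψ _ _ =>
              Finset.sum_nonneg fun σ _ => Complex.normSq_nonneg _
        _ = (2 : ℝ) ^ q * (N * (c χ : ℝ)) := by
            rw [Finset.sum_comm, Finset.sum_congr rfl fun σ _ => (hrow σ χ.1).2, ← Finset.mul_sum,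
              hc χ]
            rfl
    refine le_of_mul_le_mul_left ?_ hN
    linarith
  have hc0 : ∀ χ : S, 1 ≤ c χ := by
    intro χ
    have h0 : (0 : ℝ) ≤ N * (c χ : ℝ) := (hc χ) ▸ Finset.sum_nonneg fun σ _ => hpos σ _
    have h1 : 0 ≤ c χ := by exact_mod_cast (nonneg_of_mul_nonneg_right h0 hN : (0 : ℝ) ≤ (c χ : ℝ))
    obtain ⟨a, ha⟩ := hco χ
    omega
  obtain ⟨χ₀, hχ₀, hh₀⟩ := exists_height_zero (p := 2) hind.2.1
  haveI : Nonempty S := ⟨⟨χ₀, Finset.mem_filter.mpr ⟨Finset.mem_univ _, hχ₀, hh₀⟩⟩⟩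
  obtain ⟨χ, hmin⟩ := Finite.exists_min c
  obtain ⟨n, hn⟩ : ∃ n : ℕ, c χ = n := ⟨(c χ).toNat, by have := hc0 χ; omega⟩
  refine ⟨n, ?_, ?_, ?_⟩
  · have := hco χ
    rw [hn] at this
    exact_mod_cast this
  · have h := hrowS χ
    rw [hn] at h
    exact_mod_cast h
  · have hsum : N * ((S.card : ℝ) * (c χ : ℝ)) ≤ N * ((2 : ℝ) ^ q * (blockRank 2 b : ℝ)) := by
      calc N * ((S.card : ℝ) * (c χ : ℝ)) = ∑ _ψ : S, N * (c χ : ℝ) := by
            simp [Fintype.card_coe]; ring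
        _ ≤ ∑ ψ : S, N * (c ψ : ℝ) := Finset.sum_le_sum fun ψ _ =>
            mul_le_mul_of_nonneg_left (by exact_mod_cast hmin ψ) hN.le
        _ = ∑ ψ : S, ∑ σ, (T σ ψ.1 ψ.1).re := Finset.sum_congr rfl fun ψ _ => (hc ψ).symm
        _ = ∑ σ, ∑ ψ ∈ S, (T σ ψ ψ).re := by
            rw [Finset.sum_comm]
            exact Finset.sum_congr rfl fun σ _ =>
              Finset.sum_coe_sort S (fun ψ => (T σ ψ ψ).re)
        _ ≤ ∑ σ, ∑ ψ, (T σ ψ ψ).re := Finset.sum_le_sum fun σ _ =>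
            Finset.sum_le_sum_of_subset_of_nonneg (Finset.subset_univ _) fun ψ _ _ => hpos σ ψ
        _ = N * ((2 : ℝ) ^ q * (blockRank 2 b : ℝ)) := by
            rw [Finset.sum_congr rfl fun σ _ => htr σ, Finset.sum_const, Finset.card_univ,
              nsmul_eq_mul]
            norm_num
            left
            rfl
    have h := le_of_mul_le_mul_left hsum hN
    rw [hn, mul_comm] at h
    exact_mod_cast h

/-- Let B be a 2-block of the finite group G (relative to a maximal ideal M of the algebraic integers containing 2), u a 2-element, and b a block of the centralizer of u inducing B (a subsection (u, b)), of defect q and 2-regular rank l; write s for the integer square root of l and k₀(B) for the number of members of B of height zero. If s is odd then k₀(B) ≤ s·2 ^ q, and otherwise (s + 1)·k₀(B) ≤ l·2 ^ q; in particular k₀(B) ≤ 2 ^ q when l ≤ 3. -/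
theorem result {G : Type*} [Group G] [Finite G] (M : Ideal Cfsg.AlgInt) (hM : Cfsg.IsPModular 2 M) (B : Set (Cfsg.IrrCharacter G)) (hB : Cfsg.IsPBlock M B) (u : G) (hu : ∃ j : ℕ, orderOf u = 2 ^ j) (b : Set (Cfsg.IrrCharacter ↥(Subgroup.centralizer ({u} : Set G)))) (hb : Cfsg.IsInducedBlock M (Subgroup.centralizer ({u} : Set G)) b B) : (Odd (Nat.sqrt (Cfsg.blockRank 2 b)) → Nat.card {χ : Cfsg.IrrCharacter G // χ ∈ B ∧ Cfsg.blockHeight 2 B (χ : G → ℂ) = 0} ≤ Nat.sqrt (Cfsg.blockRank 2 b) * 2 ^ Cfsg.blockDefect 2 b) ∧ (¬ Odd (Nat.sqrt (Cfsg.blockRank 2 b)) → (Nat.sqrt (Cfsg.blockRank 2 b) + 1) * Nat.card {χ : Cfsg.IrrCharacter G // χ ∈ B ∧ Cfsg.blockHeight 2 B (χ : G → ℂ) = 0} ≤ Cfsg.blockRank 2 b * 2 ^ Cfsg.blockDefect 2 b) ∧ (Cfsg.blockRank 2 b ≤ 3 → Nat.card {χ : Cfsg.IrrCharacter G // χ ∈ B ∧ Cfsg.blockHeight 2 B (χ : G → ℂ) = 0} ≤ 2 ^ Cfsg.blockDefect 2 b) := by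
  classical
  letI := Fintype.ofFinite G
  letI := Fintype.ofFinite (Subgroup.centralizer ({u} : Set G))
  haveI : M.IsPrime := hM.2.1.isPrime
  obtain ⟨j, hj⟩ := hu
  obtain ⟨c, hc, h1, h2⟩ := aux hM ⟨j, hj ▸ pow_orderOf_eq_one u⟩ hb
  exact arith hc h1 h2

end Cfsg.Agent.S4541
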