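import Cfsg.Statements.S4550
import Cfsg.Agent.Lib.Blocks.GaloisStable
import Cfsg.Agent.Lib.CT.RationalPBound

set_option autoImplicit false
open Cfsg

namespace Cfsg.Agent.S4550

/-- Let G be a finite group of even order and M a maximal ideal of the algebraic integers containing 2. Let k be a natural number with g ^ k = g ^ 3 for every 2-element g and g ^ k = g for every element g of odd order (such k exist); an irreducible character χ is unchanged by g ↦ g ^ k exactly when it is fixed by the field automorphism that cubes the 2-power roots of unity and fixes the roots of unity of odd order. Then the number of members χ of the principal 2-block of odd degree with χ (g ^ k) = χ g for all g is even. -/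
theorem result {G : Type*} [Group G] [Finite G] (M : Ideal Cfsg.AlgInt) (hM : Cfsg.IsPModular 2 M) (hev : Even (Nat.card G)) (k : ℕ) (hk₁ : ∀ g : G, (∃ j : ℕ, orderOf g = 2 ^ j) → g ^ k = g ^ 3) (hk₂ : ∀ g : G, Odd (orderOf g) → g ^ k = g) : Even (Nat.card {χ : Cfsg.IrrCharacter G // χ ∈ Cfsg.principalBlock M G ∧ Odd (Cfsg.charDegree (χ : G → ℂ)) ∧ ∀ g : G, (χ : G → ℂ) (g ^ k) = (χ : G → ℂ) g}) := by
  classical
  haveI := Blocks.isPrime_of_modular hM
  haveI : Fact (Nat.Prime 2) := ⟨Nat.prime_two⟩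
  haveI := Fintype.ofFinite G
  -- the exponent is prime to the order
  have hkG : k.Coprime (Nat.card G) := by
    refine Nat.coprime_of_dvd' fun q hq hqk hqG => ?_
    exfalso
    haveI := Fact.mk hq
    obtain ⟨g, hg⟩ := exists_prime_orderOf_dvd_card' q hqG
    have hgk : g ^ k = 1 := orderOf_dvd_iff_pow_eq_one.mp (hg ▸ hqk)
    have hg1 : g ≠ 1 := fun e => hq.ne_one (by rw [← hg, e, orderOf_one])
    by_cases hq2 : q = 2
    · have h := hk₁ g ⟨1, by rw [hg, hq2]; rfl⟩
      have h2 : g ^ 2 = 1 := by rw [← hq2, ← hg, pow_orderOf_eq_one]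
      rw [hgk, pow_succ, h2, one_mul] at h
      exact hg1 h.symm
    · have h := hk₂ g (hg ▸ hq.odd_of_ne_two hq2)
      exact hg1 (h.symm.trans hgk)
  obtain ⟨a, ha⟩ : ∃ a, a = (Nat.card G).factorization 2 := ⟨_, rfl⟩
  have hiter : ∀ g : G, g ^ k ^ 2 ^ a = g := by
    intro g
    obtain ⟨u, hu, -⟩ := Cfsg.Agent.Blocks.exists_isPPart (p := 2) g
    obtain ⟨v, huv, hcom, ⟨b, hb⟩, hv⟩ := hu
    have hvo : Odd (orderOf v) := Nat.not_even_iff_odd.mp fun h => hv (even_iff_two_dvd.mp h)
    have hkv : ∀ j, v ^ k ^ j = v := fun j => by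
      induction j with
      | zero => simp
      | succ j ih => rw [pow_succ', pow_mul, hk₂ v hvo, ih]
    have hku : ∀ j, u ^ k ^ j = u ^ 3 ^ j := by
      intro j
      induction j with
      | zero => simp
      | succ j ih => rw [pow_succ, pow_mul, ih, ← pow_mul, mul_comm, pow_mul, hk₁ u ⟨b, hb⟩, ← pow_mul, ← pow_succ']
    have hb' : u ^ 3 ^ 2 ^ a = u := by
      have hba : b ≤ a := ha ▸ (Nat.prime_two.pow_dvd_iff_le_factorization Nat.card_pos.ne').mp
        (hb ▸ orderOf_dvd_natCard u)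
      have h3 : 3 ^ Nat.totient (2 ^ b) ≡ 1 [MOD 2 ^ b] :=
        Nat.ModEq.pow_totient (Nat.Coprime.pow_right _ (by norm_num))
      have hd : Nat.totient (2 ^ b) ∣ 2 ^ a := by
        rcases Nat.eq_zero_or_pos b with rfl | hb0
        · simp
        · rw [Nat.totient_prime_pow Nat.prime_two hb0]
          simpa using Nat.pow_dvd_pow 2 (by omega : b - 1 ≤ a)
      obtain ⟨c, hc⟩ := hd
      conv_rhs => rw [← pow_one u]
      rw [pow_eq_pow_iff_modEq, hb, hc, pow_mul]
      simpa using h3.pow c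
    rw [← huv, hcom.mul_pow, hku, hkv, hb']
  -- the action on the principal block
  set S := Finset.univ.filter fun χ : Cfsg.IrrCharacter G =>
    χ ∈ Cfsg.principalBlock M G ∧ Odd (Cfsg.charDegree (χ : G → ℂ)) with hS
  have htriv : Blocks.powIrr hkG (CT.trivIrr G) = CT.trivIrr G := Subtype.ext rfl
  have hstab : ∀ χ ∈ S, Blocks.powIrr hkG χ ∈ S := by
    intro χ hχ
    simp only [hS, Finset.mem_filter, Finset.mem_univ, true_and] at hχ ⊢
    refine ⟨?_, by simpa [Cfsg.charDegree, Blocks.powIrr_apply] using hχ.2⟩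
    have h := Blocks.sameBlock_powIrr (M := M) hkG (χ := CT.trivIrr G) (ψ := χ) hχ.1
    rw [htriv] at h
    exact h
  let π : Equiv.Perm S := Equiv.ofBijective (fun χ => ⟨Blocks.powIrr hkG χ, hstab _ χ.2⟩)
    (Finite.injective_iff_bijective.mp fun x y e =>
      Subtype.ext (Blocks.powIrr_injective hkG (congrArg Subtype.val e)))
  have hπj : ∀ (j : ℕ) (χ : S) (g : G),
      (((π ^ j) χ : S) : Cfsg.IrrCharacter G).1 g = (χ : Cfsg.IrrCharacter G).1 (g ^ k ^ j) := by
    intro j
    induction j with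
    | zero => intro χ g; simp
    | succ j ih =>
      intro χ g
      rw [pow_succ π, Equiv.Perm.mul_apply, ih]
      show (χ : Cfsg.IrrCharacter G).1 ((g ^ k ^ j) ^ k) = _
      rw [← pow_mul, pow_succ]
  have hπ : π ^ 2 ^ a = 1 := Equiv.ext fun χ => Subtype.ext (Subtype.ext (funext fun g => by
    rw [hπj, hiter]; rfl))
  have hmod := Equiv.Perm.card_compl_support_modEq (p := 2) (n := a) hπ
  have hfix : π.supportᶜ.card = Nat.card {χ : Cfsg.IrrCharacter G // χ ∈ Cfsg.principalBlock M G ∧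
      Odd (Cfsg.charDegree (χ : G → ℂ)) ∧ ∀ g : G, (χ : G → ℂ) (g ^ k) = (χ : G → ℂ) g} := by
    rw [← Fintype.card_coe, ← Nat.card_eq_fintype_card]
    refine Nat.card_congr
      { toFun := fun x => ⟨x.1.1, ?_⟩
        invFun := fun x => ⟨⟨x.1, Finset.mem_filter.mpr ⟨Finset.mem_univ _, x.2.1, x.2.2.1⟩⟩, ?_⟩
        left_inv := fun x => rfl
        right_inv := fun x => rfl }
    · have h1 := (Finset.mem_filter.mp x.1.2).2
      have h2 : π x.1 = x.1 := by simpa [Equiv.Perm.mem_support] using Finset.mem_compl.mp x.2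
      exact ⟨h1.1, h1.2, fun g => congrFun (congrArg Subtype.val (congrArg Subtype.val h2)) g⟩
    · rw [Finset.mem_compl, Equiv.Perm.mem_support, not_not]
      exact Subtype.ext (Subtype.ext (funext fun g => x.2.2.2 g))
  -- the parity of the number of odd degrees
  haveI : Fact (2 ∣ Nat.card G) := ⟨even_iff_two_dvd.mp hev⟩
  obtain ⟨t, ht⟩ := exists_prime_orderOf_dvd_card' 2 (even_iff_two_dvd.mp hev)
  have hz : ∀ χ : Cfsg.IrrCharacter G, ∃ z : ℤ, (z : ℂ) = (χ : G → ℂ) t ∧
      (2 : ℤ) ∣ z - (Cfsg.charDegree (χ : G → ℂ) : ℤ) := by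
    intro χ
    obtain ⟨m, ρ, hρ⟩ := CT.isCharacter_of_isIrr χ.2
    obtain ⟨ω, hω, he⟩ := CT.exists_eigenvalues ρ t
    have h1 := he 1
    rw [pow_one] at h1
    have hpm : ∀ i, ∃ e : ℤ, ω i = (e : ℂ) := fun i => by
      rcases mul_self_eq_one_iff.mp (by simpa [ht, sq] using hω i : ω i * ω i = 1) with h | h
      · exact ⟨1, by simp [h]⟩
      · exact ⟨-1, by simp [h]⟩
    choose e hee using hpm
    refine ⟨∑ i, e i, ?_, ?_⟩
    · rw [← hρ, h1, Int.cast_sum]
      exact Finset.sum_congr rfl fun i _ => by rw [pow_one, hee i]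
    · have hd : Cfsg.charDegree (χ : G → ℂ) = Module.finrank ℂ (Fin m → ℂ) := by
        rw [← hρ, ← CT.deg_eq_finrank ρ]
        simp [CT.deg, Cfsg.charDegree]
      rw [hd]
      refine CT.RationalP.dvd_sub_deg Nat.prime_two (b := 1) (ω := ω) (fun i => by simpa [ht] using hω i) ?_
      rw [Int.cast_sum]
      exact Finset.sum_congr rfl fun i _ => hee i
  choose z hz1 hz2 using hz
  have horth : ∑ χ ∈ Finset.univ.filter (fun χ : Cfsg.IrrCharacter G => χ ∈ Cfsg.principalBlock M G),
      (Cfsg.charDegree (χ : G → ℂ) : ℤ) * z χ = 0 := by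
    have h := Blocks.weak_orthogonality' hM (Blocks.blockCoeff_mem_loc Blocks.isPBlock_principalBlock)
      (g := t) (h := (1 : G)) (ht ▸ dvd_rfl) (by rw [orderOf_one]; norm_num)
    rw [Blocks.finsum_mem_irr, ← Finset.sum_filter] at h
    apply Int.cast_injective (α := ℂ)
    rw [Int.cast_sum, Int.cast_zero, ← h]
    refine Finset.sum_congr rfl fun χ _ => ?_
    rw [Blocks.charDegree_cast, Int.cast_mul, hz1, Int.cast_natCast, map_natCast, mul_comm]
  have hpar : Even S.card := by
    have h2 : ((S.card : ℕ) : ZMod 2) = 0 := by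
      have h := congrArg (Int.cast : ℤ → ZMod 2) horth
      rw [Int.cast_sum, Int.cast_zero] at h
      rw [← h, hS, ← Finset.filter_filter, Finset.card_filter, Nat.cast_sum]
      refine Finset.sum_congr rfl fun χ _ => ?_
      have hzz : ((z χ : ℤ) : ZMod 2) = ((Cfsg.charDegree (χ : G → ℂ) : ℕ) : ZMod 2) := by
        rw [← Int.cast_natCast (R := ZMod 2), ZMod.intCast_eq_intCast_iff']
        have := hz2 χ
        omega
      rw [Int.cast_mul, hzz, Int.cast_natCast]
      split_ifs with ho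
      · rw [(ZMod.natCast_eq_one_iff_odd).mpr ho, Nat.cast_one, mul_one]
      · rw [(ZMod.natCast_eq_zero_iff_even).mpr (Nat.not_odd_iff_even.mp ho), Nat.cast_zero, mul_zero]
    exact ZMod.natCast_eq_zero_iff_even.mp h2
  rw [← hfix]
  rw [Nat.even_iff] at hpar ⊢
  rw [← Fintype.card_coe S] at hpar
  exact Eq.trans hmod hpar

end Cfsg.Agent.S4550
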