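import Cfsg.Statements.S4549
import Cfsg.Agent.Lib.Blocks.FixedOdd
import Cfsg.Agent.S4550

set_option autoImplicit false
open Cfsg

namespace Cfsg.Agent.S4549

/-- Let G be a finite group and M a maximal ideal of the algebraic integers containing 2. Let k be a natural number with g ^ k = g ^ 3 for every 2-element g and g ^ k = g for every element g of odd order (such k exist); an irreducible character χ is unchanged by g ↦ g ^ k exactly when it is fixed by the field automorphism that cubes the 2-power roots of unity and fixes the roots of unity of odd order. Then G has a normal 2-complement if and only if every member χ of the principal 2-block of odd degree with χ (g ^ k) = χ g for all g has degree one. -/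
theorem result {G : Type*} [Group G] [Finite G] (M : Ideal Cfsg.AlgInt) (hM : Cfsg.IsPModular 2 M) (k : ℕ) (hk₁ : ∀ g : G, (∃ j : ℕ, orderOf g = 2 ^ j) → g ^ k = g ^ 3) (hk₂ : ∀ g : G, Odd (orderOf g) → g ^ k = g) : Cfsg.HasNormalPComplement 2 G ↔ ∀ χ ∈ Cfsg.principalBlock M G, Odd (Cfsg.charDegree (χ : G → ℂ)) → (∀ g : G, (χ : G → ℂ) (g ^ k) = (χ : G → ℂ) g) → Cfsg.charDegree (χ : G → ℂ) = 1 := by
  classical
  haveI := Fintype.ofFinite G
  haveI : M.IsPrime := hM.2.1.isPrime
  haveI : Fact (Nat.Prime 2) := ⟨Nat.prime_two⟩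
  constructor
  · rintro ⟨P, N, hN, hc⟩ χ hχ hodd -
    obtain ⟨a, ha⟩ := IsPGroup.iff_card.mp P.isPGroup'
    have hidx : N.index = 2 ^ a := by rw [← ha]; exact hc.symm.index_eq_card
    have hNp : ¬ 2 ∣ Nat.card N := by
      rw [← hc.index_eq_card]
      exact P.not_dvd_index
    obtain ⟨η, hη, hcomp⟩ := Cfsg.Agent.CT.exists_quotient_irr χ.2 N fun n hn =>
      Cfsg.Agent.Blocks.apply_eq_one_of_mem_principalBlock hM hNp hχ hn
    haveI := Fintype.ofFinite (G ⧸ N)
    have hdvd := Cfsg.Agent.Glauberman.deg_dvd_card (G := G ⧸ N) ⟨η, hη⟩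
    rw [← Subgroup.index_eq_card, hidx] at hdvd
    have hd : Cfsg.Agent.CT.deg η = Cfsg.charDegree (χ : G → ℂ) := by
      have h1 := hcomp 1
      rw [QuotientGroup.mk_one, Cfsg.Agent.Blocks.charDegree_cast,
        Cfsg.Agent.CT.deg_eq (Cfsg.Agent.CT.isCharacter_of_isIrr hη)] at h1
      first | exact_mod_cast h1 | exact_mod_cast h1.symm
    have hdvd' : Cfsg.charDegree (χ : G → ℂ) ∣ 2 ^ a := hd ▸ hdvd
    obtain ⟨j, -, hj⟩ := (Nat.dvd_prime_pow Nat.prime_two).mp hdvd'
    rcases Nat.eq_zero_or_pos j with h | h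
    · rw [hj, h, pow_zero]
    · exact absurd (hj ▸ dvd_pow_self 2 h.ne') hodd.not_two_dvd_nat
  · intro h
    set N := Cfsg.pResidual 2 G with hN
    haveI : N.Characteristic := Cfsg.Agent.Transfer.pResidual_characteristic G 2
    haveI := Fintype.ofFinite N
    obtain ⟨a, ha⟩ := Cfsg.Agent.Transfer.exists_index_pResidual_eq_pow (G := G) (p := 2)
    have hnd : ¬ 2 ∣ Nat.card N := by
      intro hd
      have hk₁' : ∀ g : N, (∃ j : ℕ, orderOf g = 2 ^ j) → g ^ k = g ^ 3 := fun g hg => by
        apply Subtype.ext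
        push_cast
        exact hk₁ g (by rwa [Subgroup.orderOf_coe])
      have hk₂' : ∀ g : N, Odd (orderOf g) → g ^ k = g := fun g hg => by
        apply Subtype.ext
        push_cast
        exact hk₂ g (by rwa [Subgroup.orderOf_coe])
      have heven := Cfsg.Agent.S4550.result (G := N) M hM (even_iff_two_dvd.mpr hd) k hk₁' hk₂'
      obtain ⟨θ, hθB, hne, hodd, hfix, hinv⟩ :=
        Cfsg.Agent.Blocks.FixedOdd.exists_invariant hM N rfl heven
      have hk : k.Coprime (Nat.card G) := by
        refine Nat.coprime_of_dvd' fun q hq hqk hqG => ?_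
        exfalso
        haveI := Fact.mk hq
        obtain ⟨g, hg⟩ := exists_prime_orderOf_dvd_card' q hqG
        have hgk : g ^ k = 1 := orderOf_dvd_iff_pow_eq_one.mp (hg ▸ hqk)
        have hg1 : g ≠ 1 := fun e => hq.ne_one (by rw [← hg, e, orderOf_one])
        by_cases hq2 : q = 2
        · have h := hk₁ g ⟨1, by rw [hg, hq2]; rfl⟩
          have h2 : g ^ 2 = 1 := by rw [← hq2, ← hg, pow_orderOf_eq_one]
          rw [hgk, pow_succ, h2, one_mul] at h
          exact hg1 h.symm
        · have h := hk₂ g (hg ▸ hq.odd_of_ne_two hq2)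
          exact hg1 (h.symm.trans hgk)
      obtain ⟨χ, hχB, hres, hχfix⟩ := Cfsg.Agent.Blocks.FixedOdd.exists_fixed_ext hM hk N rfl hθB
        hinv hodd.not_two_dvd_nat hfix
      have hdeg : Cfsg.charDegree (χ : G → ℂ) = Cfsg.charDegree (θ : N → ℂ) := by
        have h1 := hres 1
        rw [OneMemClass.coe_one, Cfsg.Agent.Blocks.charDegree_cast,
          Cfsg.Agent.Blocks.charDegree_cast] at h1
        exact_mod_cast h1
      exact hne (hdeg ▸ h χ hχB (hdeg ▸ hodd) hχfix)
    obtain ⟨P⟩ : Nonempty (Sylow 2 G) := inferInstance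
    refine ⟨P, N, inferInstance, ?_⟩
    obtain ⟨b, hb⟩ := IsPGroup.iff_card.mp P.isPGroup'
    refine Subgroup.isComplement'_of_coprime ?_ ?_
    · have hmul := Subgroup.card_mul_index N
      rw [← hmul, ha]
      congr 1
      rw [hb]
      congr 1
      have h1 := P.card_eq_multiplicity
      rw [hb, ← hmul, ha, Nat.factorization_mul Nat.card_pos.ne'
        (pow_ne_zero _ two_ne_zero), Finsupp.add_apply,
        Nat.factorization_eq_zero_of_not_dvd hnd, Nat.prime_two.factorization_pow,
        Finsupp.single_eq_same, zero_add] at h1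
      exact (Nat.pow_right_injective le_rfl h1)
    · rw [hb]
      exact Nat.Coprime.pow_right b ((Nat.prime_two.coprime_iff_not_dvd.mpr hnd).symm)

end Cfsg.Agent.S4549
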