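import Cfsg.Statements.S4558
import Mathlib

set_option autoImplicit false
open Cfsg

namespace Cfsg.Agent.S4558

private lemma multiset_pow {R : Type*} [CommRing R] {p : ℕ} (hp : p.Prime) (j : ℕ) (s : Multiset R) :
    ∃ r, s.sum ^ p ^ j = (s.map (· ^ p ^ j)).sum + (p : R) * r := by
  induction s using Multiset.induction_on with
  | empty => exact ⟨0, by simp [zero_pow (pow_ne_zero j hp.ne_zero)]⟩
  | cons a s ih =>
      obtain ⟨r, hr⟩ := ih
      obtain ⟨t, ht⟩ := exists_add_pow_prime_pow_eq hp a s.sum j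
      refine ⟨r + a * s.sum * t, ?_⟩
      rw [Multiset.sum_cons, ht, hr, Multiset.map_cons, Multiset.sum_cons]
      ring

/-- Let χ be a character of the finite group G and g an element of p-power order for the prime p. If χ g = 0, then p divides the degree of χ. -/
theorem result {G : Type*} [Group G] [Finite G] (p : ℕ) [Fact p.Prime] (χ : G → ℂ) (hχ : Cfsg.IsCharacter G χ) (g : G) (hg : ∃ j : ℕ, orderOf g = p ^ j) (h0 : χ g = 0) : p ∣ Cfsg.charDegree χ := by
  obtain ⟨n, ρ, rfl⟩ := hχ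
  obtain ⟨j, hj⟩ := hg
  have hp : p.Prime := Fact.out
  have hT : (ρ g) ^ (p ^ j) = 1 := by rw [← map_pow, ← hj, pow_orderOf_eq_one, map_one]
  set f : Module.End ℂ (Fin n → ℂ) := ρ g with hf
  have hs : f.charpoly.Splits := IsAlgClosed.splits _
  have hroots : ∀ μ ∈ f.charpoly.roots, μ ^ (p ^ j) = 1 := by
    intro μ hμ
    rw [Polynomial.mem_roots'] at hμ
    obtain ⟨v, hv⟩ := ((Module.End.hasEigenvalue_iff_isRoot_charpoly f μ).mpr hμ.2).exists_hasEigenvector
    have h1 := hv.pow_apply (p ^ j)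
    rw [hT, Module.End.one_apply] at h1
    have h2 : (μ ^ (p ^ j) - 1) • v = 0 := by rw [sub_smul, ← h1, one_smul, sub_self]
    exact sub_eq_zero.mp ((smul_eq_zero.mp h2).resolve_right hv.2)
  have hsum : f.charpoly.roots.sum = 0 := by
    rw [← Module.End.trace_eq_sum_roots_charpoly_of_splits hs]; exact h0
  have hcard : Multiset.card f.charpoly.roots = n := by
    rw [← Polynomial.Splits.natDegree_eq_card_roots hs, LinearMap.charpoly_natDegree,
      Module.finrank_fin_fun]
  have hint : ∀ μ ∈ f.charpoly.roots, μ ∈ Cfsg.AlgInt := fun μ hμ =>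
    IsIntegral.of_pow (Nat.pos_of_ne_zero (pow_ne_zero j hp.ne_zero)) (by rw [hroots μ hμ]; exact isIntegral_one)
  let s : Multiset Cfsg.AlgInt := f.charpoly.roots.pmap (fun μ h => ⟨μ, h⟩) hint
  have hsval : s.map (fun a : Cfsg.AlgInt => (a : ℂ)) = f.charpoly.roots := by
    simp [s, Multiset.map_pmap, Multiset.pmap_eq_map]
  have hssum : s.sum = 0 := by
    apply Subtype.ext
    rw [AddSubmonoidClass.coe_multiset_sum, hsval, hsum]; rfl
  have hspow : ∀ a ∈ s, a ^ (p ^ j) = 1 := by
    intro a ha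
    apply Subtype.ext
    push_cast
    exact hroots _ (hsval ▸ Multiset.mem_map_of_mem _ ha)
  obtain ⟨r, hr⟩ := multiset_pow hp j s
  rw [hssum, zero_pow (pow_ne_zero j hp.ne_zero),
    Multiset.map_congr rfl hspow, Multiset.map_const', Multiset.sum_replicate] at hr
  have hsc : Multiset.card s = n := by simp [s, hcard]
  rw [hsc, nsmul_one] at hr
  have hrC : (0 : ℂ) = (n : ℂ) + (p : ℂ) * (r : ℂ) := by
    have := congrArg (fun a : Cfsg.AlgInt => (a : ℂ)) hr
    simpa using this
  have hdeg : Cfsg.charDegree ρ.character = n := by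
    simp [Cfsg.charDegree, Representation.char_one]
  rw [hdeg]
  let q : ℚ := -(n : ℚ) / p
  have hq : ((q : ℚ) : ℂ) = (r : ℂ) := by
    have hp0 : (p : ℂ) ≠ 0 := by exact_mod_cast hp.ne_zero
    simp only [q]; push_cast
    rw [div_eq_iff hp0]; linear_combination hrC
  have hqint : IsIntegral ℤ q := (isIntegral_algebraMap_iff (algebraMap ℚ ℂ).injective).mp (by
    show IsIntegral ℤ ((q : ℚ) : ℂ)
    rw [hq]; exact r.2)
  obtain ⟨z, hz⟩ := IsIntegrallyClosed.isIntegral_iff.mp hqint
  have h3 : (n : ℤ) = (p : ℤ) * (-z) := by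
    have hp0 : (p : ℚ) ≠ 0 := by exact_mod_cast hp.ne_zero
    have : (n : ℚ) = (p : ℚ) * (-(z : ℚ)) := by
      have hz' : (z : ℚ) = q := by simpa using hz
      rw [hz']; simp only [q]; field_simp
    exact_mod_cast this
  exact Int.natCast_dvd_natCast.mp ⟨-z, h3⟩

end Cfsg.Agent.S4558
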