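import Cfsg.Statements.S4560
import Cfsg.Agent.Lib.CT.TwoSetChars
import Mathlib.GroupTheory.Perm.Cycle.PossibleTypes
import Mathlib.GroupTheory.SpecificGroups.Alternating

set_option autoImplicit false
open Cfsg

namespace Cfsg.Agent.S4560

/-- For n ≥ 7 the alternating group on n letters has an irreducible character that vanishes at some 2-element and is the restriction of an irreducible character of the symmetric group, and an irreducible character that vanishes at some element of order 3 and is the restriction of an irreducible character of the symmetric group. -/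
theorem result (n : ℕ) (hn : 7 ≤ n) : (∃ χ : Cfsg.IrrCharacter (alternatingGroup (Fin n)), (∃ x : alternatingGroup (Fin n), (∃ j : ℕ, orderOf x = 2 ^ j) ∧ (χ : alternatingGroup (Fin n) → ℂ) x = 0) ∧ ∃ ψ : Cfsg.IrrCharacter (Equiv.Perm (Fin n)), ∀ x : alternatingGroup (Fin n), (ψ : Equiv.Perm (Fin n) → ℂ) x = (χ : alternatingGroup (Fin n) → ℂ) x) ∧ (∃ χ : Cfsg.IrrCharacter (alternatingGroup (Fin n)), (∃ y : alternatingGroup (Fin n), orderOf y = 3 ∧ (χ : alternatingGroup (Fin n) → ℂ) y = 0) ∧ ∃ ψ : Cfsg.IrrCharacter (Equiv.Perm (Fin n)), ∀ x : alternatingGroup (Fin n), (ψ : Equiv.Perm (Fin n) → ℂ) x = (χ : alternatingGroup (Fin n) → ℂ) x) := by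
  classical
  set A := alternatingGroup (Fin n) with hA
  have hc : Nat.card (Fin n) = n := Nat.card_fin n
  have htA : ∀ k ≤ 4, MulAction.IsMultiplyPretransitive A (Fin n) k := fun k hk => by
    haveI := alternatingGroup.isMultiplyPretransitive (Fin n)
    exact MulAction.isMultiplyPretransitive_of_le (n := Nat.card (Fin n) - 2) (by omega) (Nat.sub_le _ _)
  have htS : ∀ k ≤ 4, MulAction.IsMultiplyPretransitive (Equiv.Perm (Fin n)) (Fin n) k := fun k _ =>
    Equiv.Perm.isMultiplyPretransitive (Fin n) k
  haveI := Fintype.ofFinite A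
  obtain ⟨a1, a2, a3⟩ := CT.TwoSet.irr_of_four_transitive A (Fin n) (by omega) (htA 2 (by omega)) (htA 3 (by omega)) (htA 4 le_rfl)
  obtain ⟨s1, s2, s3⟩ := CT.TwoSet.irr_of_four_transitive (Equiv.Perm (Fin n)) (Fin n) (by omega) (htS 2 (by omega)) (htS 3 (by omega)) (htS 4 le_rfl)
  -- elements with a given cycle type
  have key : ∀ (m : Multiset ℕ) (N : ℕ), m.sum ≤ n → (∀ a ∈ m, 2 ≤ a) → Even (m.sum + Multiset.card m) →
      (∀ a ∈ m, a ∣ N) → ∃ x : A, orderOf x ∣ N ∧ orderOf x = m.lcm ∧ CT.TwoSet.fixed A (Fin n) x = n - m.sum ∧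
        CT.TwoSet.swapped A (Fin n) x = 2 * m.count 2 := by
    intro m N hm h2 hev hN
    obtain ⟨g, rfl⟩ := (Equiv.Perm.exists_with_cycleType_iff (α := Fin n)).mpr ⟨by simpa using hm, h2⟩
    have hmem : g ∈ A := by
      rw [hA, Equiv.Perm.mem_alternatingGroup, Equiv.Perm.sign_of_cycleType, hev.neg_one_pow]
    refine ⟨⟨g, hmem⟩, ?_, ?_, ?_, ?_⟩
    · rw [Subgroup.orderOf_mk, ← Equiv.Perm.lcm_cycleType]
      exact Multiset.lcm_dvd.mpr hN
    · rw [Subgroup.orderOf_mk, Equiv.Perm.lcm_cycleType]
    · rw [CT.TwoSet.fixed, Nat.card_eq_fintype_card, Fintype.card_of_subtype g.supportᶜ fun x => by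
        simp [MulAction.mem_fixedBy, Subgroup.smul_def], Finset.card_compl, Fintype.card_fin,
        Equiv.Perm.sum_cycleType]
    · rw [CT.TwoSet.swapped, CT.TwoSet.twisted, Nat.card_eq_fintype_card]
      have hS : (Finset.univ.filter fun x : Fin n => g (g x) = x ∧ g x ≠ x) =
          (g.cycleFactorsFinset.filter fun c => c.support.card = 2).biUnion fun c => c.support := by
        ext x
        simp only [Finset.mem_filter, Finset.mem_univ, true_and, Finset.mem_biUnion]
        constructor
        · rintro ⟨h, hne⟩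
          have hx : x ∈ g.support := Equiv.Perm.mem_support.mpr hne
          refine ⟨g.cycleOf x, ⟨Equiv.Perm.cycleOf_mem_cycleFactorsFinset_iff.mpr hx, ?_⟩,
            Equiv.Perm.mem_support_cycleOf_iff.mpr ⟨Equiv.Perm.SameCycle.refl _ _, hx⟩⟩
          have hcyc : (g.cycleOf x).IsCycle := Equiv.Perm.isCycle_cycleOf g hne
          have hsq : g.cycleOf x ^ 2 = 1 := (hcyc.pow_eq_one_iff' (x := x)
            (by rw [Equiv.Perm.cycleOf_apply_self]; exact hne)).mpr (by
              rw [Equiv.Perm.cycleOf_pow_apply_self]; simpa [sq] using h)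
          have hd : (g.cycleOf x).support.card ∣ 2 := hcyc.orderOf ▸ orderOf_dvd_of_pow_eq_one hsq
          have := hcyc.two_le_card_support
          have := Nat.le_of_dvd two_pos hd
          omega
        · rintro ⟨c, ⟨hc, hcard⟩, hx⟩
          obtain ⟨hcyc, happ⟩ := Equiv.Perm.mem_cycleFactorsFinset_iff.mp hc
          have hcx : c x ≠ x := Equiv.Perm.mem_support.mp hx
          have hsq : c ^ 2 = 1 := by rw [← hcard, ← hcyc.orderOf, pow_orderOf_eq_one]
          have h2x := DFunLike.congr_fun hsq x
          rw [sq, Equiv.Perm.mul_apply, happ x hx, happ _ (happ x hx ▸ Equiv.Perm.apply_mem_support.mpr hx)] at h2x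
          exact ⟨h2x, happ x hx ▸ hcx⟩
      have hcard2 : (Finset.univ.filter fun x : Fin n => g (g x) = x ∧ g x ≠ x).card = 2 * g.cycleType.count 2 := by
        rw [hS, Finset.card_biUnion, Finset.sum_const_nat (m := 2), mul_comm, Equiv.Perm.cycleType_def,
          Multiset.count_map]
        · congr 1
          rw [Finset.card_def, Finset.filter_val]
          congr 1
          exact Multiset.filter_congr fun c _ => eq_comm
        · exact fun c hc => (Finset.mem_filter.mp hc).2
        · intro c hc d hd hcd
          exact (Equiv.Perm.cycleFactorsFinset_pairwise_disjoint g (Finset.mem_filter.mp hc).1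
            (Finset.mem_filter.mp hd).1 hcd).disjoint_support
      rw [← hcard2, ← Fintype.card_coe]
      refine Fintype.card_congr
        { toFun := fun t => ⟨t.1 0, ?_⟩
          invFun := fun x => ⟨⟨![x.1, g x.1], ?_⟩, ?_⟩
          left_inv := fun t => ?_
          right_inv := fun x => ?_ }
      · obtain ⟨h0, h1⟩ := CT.TwoSet.swap_pair A (Fin n) t.2
        simp only [Finset.mem_filter, Finset.mem_univ, true_and]
        rw [Subgroup.smul_def] at h0 h1
        change g (t.1 0) = t.1 1 at h0
        change g (t.1 1) = t.1 0 at h1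
        rw [h0, h1]
        exact ⟨rfl, fun e => by simpa using t.1.injective e⟩
      · have hne := (Finset.mem_filter.mp x.2).2.2
        intro i j hij
        fin_cases i <;> fin_cases j <;> simp_all [eq_comm]
      · have h := (Finset.mem_filter.mp x.2).2.1
        refine Function.Embedding.ext fun i => ?_
        fin_cases i
        · exact rfl
        · exact h
      · have h0 := (CT.TwoSet.swap_pair A (Fin n) t.2).1
        refine Subtype.ext (Function.Embedding.ext fun i => ?_)
        fin_cases i
        · rfl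
        · exact h0
      · exact Subtype.ext rfl
  have hstd : ∀ x : A, CT.TwoSet.fixed A (Fin n) x = 1 → CT.TwoSet.stdChar A (Fin n) x = 0 := fun x h => by
    simp [CT.TwoSet.stdChar, h]
  have hsym : ∀ x : A, CT.TwoSet.fixed A (Fin n) x = 0 → CT.TwoSet.swapped A (Fin n) x = 0 →
      CT.TwoSet.symChar A (Fin n) x = 0 := fun x h h' => by
    simp [CT.TwoSet.symChar, h, h']
  have halt : ∀ x : A, (CT.TwoSet.fixed A (Fin n) x = 0 ∧ CT.TwoSet.swapped A (Fin n) x = 2) ∨
      (CT.TwoSet.fixed A (Fin n) x = 2 ∧ CT.TwoSet.swapped A (Fin n) x = 0) →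
      CT.TwoSet.altChar A (Fin n) x = 0 := fun x h => by
    rcases h with ⟨h, h'⟩ | ⟨h, h'⟩ <;> simp [CT.TwoSet.altChar, h, h']
  have hres : ∀ (x : A), CT.TwoSet.fixed (Equiv.Perm (Fin n)) (Fin n) x = CT.TwoSet.fixed A (Fin n) x ∧
      CT.TwoSet.swapped (Equiv.Perm (Fin n)) (Fin n) x = CT.TwoSet.swapped A (Fin n) x := fun x => ⟨rfl, rfl⟩
  have P1 : ∀ x : A, CT.TwoSet.stdChar (Equiv.Perm (Fin n)) (Fin n) x = CT.TwoSet.stdChar A (Fin n) x := fun x => rfl
  have P2 : ∀ x : A, CT.TwoSet.symChar (Equiv.Perm (Fin n)) (Fin n) x = CT.TwoSet.symChar A (Fin n) x := fun x => rfl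
  have P3 : ∀ x : A, CT.TwoSet.altChar (Equiv.Perm (Fin n)) (Fin n) x = CT.TwoSet.altChar A (Fin n) x := fun x => rfl
  constructor
  · suffices h : ∃ x : A, orderOf x ∣ 8 ∧ (CT.TwoSet.stdChar A (Fin n) x = 0 ∨ CT.TwoSet.symChar A (Fin n) x = 0 ∨
        CT.TwoSet.altChar A (Fin n) x = 0) by
      obtain ⟨x, hx, h⟩ := h
      obtain ⟨j, -, hj⟩ := (Nat.dvd_prime_pow Nat.prime_two).mp (show orderOf x ∣ 2 ^ 3 by simpa using hx)
      rcases h with h | h | h
      · exact ⟨⟨_, a1⟩, ⟨x, ⟨j, hj⟩, h⟩, ⟨_, s1⟩, P1⟩
      · exact ⟨⟨_, a2⟩, ⟨x, ⟨j, hj⟩, h⟩, ⟨_, s2⟩, P2⟩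
      · exact ⟨⟨_, a3⟩, ⟨x, ⟨j, hj⟩, h⟩, ⟨_, s3⟩, P3⟩
    rcases Nat.even_or_odd n with he | ho
    · by_cases h4 : n % 4 = 0
      · by_cases h8 : n % 8 = 0
        · obtain ⟨x, hx, -, hf, hs⟩ := key (Multiset.replicate (n / 4) 4) 8 (by simp; omega)
            (fun a ha => by rw [Multiset.eq_of_mem_replicate ha]; norm_num) (by simp [Nat.even_iff]; omega)
            (fun a ha => by rw [Multiset.eq_of_mem_replicate ha]; norm_num)
          refine ⟨x, hx, Or.inr (Or.inl (hsym x (by rw [hf]; simp; omega) ?_))⟩
          rw [hs]; simp [Multiset.count_replicate]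
        · obtain ⟨x, hx, -, hf, hs⟩ := key (8 ::ₘ Multiset.replicate ((n - 8) / 4) 4) 8 (by simp; omega)
            (fun a ha => by rcases Multiset.mem_cons.mp ha with rfl | ha
                            · norm_num
                            · rw [Multiset.eq_of_mem_replicate ha]; norm_num)
            (by simp [Nat.even_iff]; omega)
            (fun a ha => by rcases Multiset.mem_cons.mp ha with rfl | ha
                            · norm_num
                            · rw [Multiset.eq_of_mem_replicate ha]; norm_num)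
          refine ⟨x, hx, Or.inr (Or.inl (hsym x (by rw [hf]; simp; omega) ?_))⟩
          rw [hs]; simp [Multiset.count_replicate]
      · rw [Nat.even_iff] at he
        by_cases h8 : (n - 2) % 8 = 4
        · obtain ⟨x, hx, -, hf, hs⟩ := key (2 ::ₘ Multiset.replicate ((n - 2) / 4) 4) 8 (by simp; omega)
            (fun a ha => by rcases Multiset.mem_cons.mp ha with rfl | ha
                            · norm_num
                            · rw [Multiset.eq_of_mem_replicate ha]; norm_num)
            (by simp [Nat.even_iff]; omega)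
            (fun a ha => by rcases Multiset.mem_cons.mp ha with rfl | ha
                            · norm_num
                            · rw [Multiset.eq_of_mem_replicate ha]; norm_num)
          refine ⟨x, hx, Or.inr (Or.inr (halt x (Or.inl ⟨by rw [hf]; simp; omega, ?_⟩)))⟩
          rw [hs]; simp [Multiset.count_replicate]
        · obtain ⟨x, hx, -, hf, hs⟩ := key (2 ::ₘ 8 ::ₘ Multiset.replicate ((n - 10) / 4) 4) 8 (by simp; omega)
            (fun a ha => by rcases Multiset.mem_cons.mp ha with rfl | ha
                            · norm_num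
                            · rcases Multiset.mem_cons.mp ha with rfl | ha
                              · norm_num
                              · rw [Multiset.eq_of_mem_replicate ha]; norm_num)
            (by simp [Nat.even_iff]; omega)
            (fun a ha => by rcases Multiset.mem_cons.mp ha with rfl | ha
                            · norm_num
                            · rcases Multiset.mem_cons.mp ha with rfl | ha
                              · norm_num
                              · rw [Multiset.eq_of_mem_replicate ha]; norm_num)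
          refine ⟨x, hx, Or.inr (Or.inr (halt x (Or.inl ⟨by rw [hf]; simp; omega, ?_⟩)))⟩
          rw [hs]; simp [Multiset.count_replicate]
    · rw [Nat.odd_iff] at ho
      by_cases h4 : n % 4 = 1
      · obtain ⟨x, hx, -, hf, -⟩ := key (Multiset.replicate ((n - 1) / 2) 2) 8 (by simp; omega)
          (fun a ha => by rw [Multiset.eq_of_mem_replicate ha]) (by simp [Nat.even_iff]; omega)
          (fun a ha => by rw [Multiset.eq_of_mem_replicate ha]; norm_num)
        exact ⟨x, hx, Or.inl (hstd x (by rw [hf]; simp; omega))⟩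
      · obtain ⟨x, hx, -, hf, -⟩ := key (4 ::ₘ Multiset.replicate ((n - 5) / 2) 2) 8 (by simp; omega)
          (fun a ha => by rcases Multiset.mem_cons.mp ha with rfl | ha
                          · norm_num
                          · rw [Multiset.eq_of_mem_replicate ha])
          (by simp [Nat.even_iff]; omega)
          (fun a ha => by rcases Multiset.mem_cons.mp ha with rfl | ha
                          · norm_num
                          · rw [Multiset.eq_of_mem_replicate ha]; norm_num)
        exact ⟨x, hx, Or.inl (hstd x (by rw [hf]; simp; omega))⟩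
  · obtain ⟨x, hx, ho, hf, hs⟩ := key (Multiset.replicate (n / 3) 3) 3 (by simp; omega)
      (fun a ha => by rw [Multiset.eq_of_mem_replicate ha]; norm_num) (by simp [Nat.even_iff]; omega)
      (fun a ha => by rw [Multiset.eq_of_mem_replicate ha])
    have ho3 : orderOf x = 3 := by
      refine Nat.dvd_antisymm hx ?_
      rw [ho]
      exact Multiset.dvd_lcm (Multiset.mem_replicate.mpr ⟨by omega, rfl⟩)
    have hs0 : CT.TwoSet.swapped A (Fin n) x = 0 := by rw [hs]; simp [Multiset.count_replicate]
    rcases (by omega : n % 3 = 0 ∨ n % 3 = 1 ∨ n % 3 = 2) with h | h | h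
    · exact ⟨⟨_, a2⟩, ⟨x, ho3, hsym x (by rw [hf]; simp; omega) hs0⟩, ⟨_, s2⟩, P2⟩
    · exact ⟨⟨_, a1⟩, ⟨x, ho3, hstd x (by rw [hf]; simp; omega)⟩, ⟨_, s1⟩, P1⟩
    · exact ⟨⟨_, a3⟩, ⟨x, ho3, halt x (Or.inr ⟨by rw [hf]; simp; omega, hs0⟩)⟩, ⟨_, s3⟩, P3⟩

end Cfsg.Agent.S4560
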