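import Cfsg.Statements.S4561
import Cfsg.Agent.Lib.CT.CentralTypeEmb

set_option autoImplicit false
set_option linter.all false
universe u
open Cfsg

namespace Cfsg.Agent.S4561

theorem exists_central_type_overgroup (n : ℕ) : ∀ (G : Type u) [Group G] [Finite G],
    Group.IsSolvable G → Nat.card G = n →
    ∃ (H : Type u) (_ : Group H) (_ : Finite H) (χ : Cfsg.IrrCharacter H),
      (∀ h : H, (χ : H → ℂ) h = (χ : H → ℂ) 1 → h = 1) ∧
      (Cfsg.charDegree (χ : H → ℂ)) ^ 2 = (Subgroup.center H).index ∧
      (∃ f : G →* H ⧸ Subgroup.center H, Function.Injective f) ∧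
      (∀ p : ℕ, p.Prime → ((p ∣ Nat.card H ↔ p ∣ Nat.card G) ∧
        (p ∣ Nat.card (Subgroup.center H) ↔ p ∣ Nat.card G))) ∧
      Squarefree (Nat.card (Subgroup.center H)) := by
  induction n using Nat.strong_induction_on with
  | _ n ih =>
    intro G _ _ hs hn
    classical
    rcases subsingleton_or_nontrivial G with hG | hG
    · refine ⟨PUnit.{u+1}, inferInstance, inferInstance, CT.trivIrr _, fun h _ => Subsingleton.elim _ _,
        ?_, ⟨1, fun a b _ => Subsingleton.elim _ _⟩, fun p hp => ?_, ?_⟩
      · rw [show Subgroup.center PUnit.{u+1} = ⊤ from Subsingleton.elim _ _, Subgroup.index_top]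
        show CT.deg _ ^ 2 = 1
        simp [CT.deg]
      · rw [Nat.card_unique, Nat.card_unique, Nat.card_unique]
        exact ⟨Iff.rfl, Iff.rfl⟩
      · rw [Nat.card_unique]
        exact squarefree_one
    · obtain ⟨N, hN, hNi⟩ := WreathChar.exists_prime_index hs
      haveI := hN
      have hlt : Nat.card N < n := by
        rw [← hn, ← N.card_mul_index]
        exact lt_mul_of_one_lt_right Nat.card_pos hNi.one_lt
      obtain ⟨H, _, _, χ, hfaith, hdeg, ⟨f, hf⟩, hπ, hsq⟩ :=
        ih _ hlt N inferInstance rfl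
      haveI := Fact.mk hNi
      obtain ⟨H1, _, _, χ1, hfaith1, hdeg1, hemb, hH1, hZ1, hsq1⟩ :=
        CentralEmb.step χ hfaith hdeg hsq (Q := G ⧸ N) N.index
          (Subgroup.index_eq_card N).symm
      obtain ⟨g, hg⟩ := hemb N f hf
      obtain ⟨e, he⟩ := WreathChar.exists_embedding N
      refine ⟨H1, inferInstance, inferInstance, χ1, hfaith1, hdeg1, ⟨g.comp e, hg.comp he⟩,
        fun q hq => ?_, hsq1⟩
      have hG' : q ∣ Nat.card G ↔ q ∣ Nat.card N ∨ q = N.index := by
        rw [← N.card_mul_index, Nat.Prime.dvd_mul hq, Nat.prime_dvd_prime_iff_eq hq hNi]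
      have hZ : q ∣ Nat.card (Subgroup.center H1) ↔ q ∣ Nat.card G := by
        rw [hZ1 q hq, (hπ q hq).2, hG']
      refine ⟨⟨fun h => ?_, fun h => (hZ.mpr h).trans (Subgroup.card_subgroup_dvd_card _)⟩, hZ⟩
      rw [hG', ← (hπ q hq).1]
      exact hH1 q hq h

/-- For every finite solvable group G there is a finite group H with a faithful irreducible character χ whose degree squared equals the index of the centre Z(H) (so χ is fully ramified over the centre), such that G is isomorphic to a subgroup of H/Z(H), the primes dividing the orders of H, of Z(H) and of G are the same, and the order of Z(H) is squarefree. -/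
theorem result {G : Type u} [Group G] [Finite G] (hsolv : Group.IsSolvable G) : ∃ (H : Type u) (_ : Group H) (_ : Finite H) (χ : Cfsg.IrrCharacter H), (∀ h : H, (χ : H → ℂ) h = (χ : H → ℂ) 1 → h = 1) ∧ (Cfsg.charDegree (χ : H → ℂ)) ^ 2 = (Subgroup.center H).index ∧ (∃ f : G →* H ⧸ Subgroup.center H, Function.Injective f) ∧ (∀ p : ℕ, p.Prime → ((p ∣ Nat.card H ↔ p ∣ Nat.card G) ∧ (p ∣ Nat.card (Subgroup.center H) ↔ p ∣ Nat.card G))) ∧ Squarefree (Nat.card (Subgroup.center H)) := by
  exact exists_central_type_overgroup _ G hsolv rfl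

end Cfsg.Agent.S4561
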