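import Cfsg.Statements.S4564
import Cfsg.Agent.Lib.CT.RamifiedSylow

set_option autoImplicit false
open Cfsg

namespace Cfsg.Agent.S4564

/-- Let χ be an irreducible character of the finite group H that is fully ramified over the normal subgroup Z: the restriction of χ to Z is e times an irreducible character of Z with e ^ 2 equal to the index of Z. Let K be a normal subgroup of H containing Z and P a cyclic Sylow p-subgroup of H/K. Then P has a complement in H/K: a subgroup meeting P trivially whose product with P is the whole group. -/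
theorem result {H : Type*} [Group H] [Finite H] (Z : Subgroup H) [Z.Normal] (χ : Cfsg.IrrCharacter H) (hfr : ∃ (θ : Cfsg.IrrCharacter ↥Z) (e : ℕ), e ^ 2 = Z.index ∧ ∀ z : ↥Z, (χ : H → ℂ) z = (e : ℂ) * (θ : ↥Z → ℂ) z) (K : Subgroup H) [K.Normal] (hZK : Z ≤ K) (p : ℕ) [Fact p.Prime] (P : Sylow p (H ⧸ K)) (hcyc : IsCyclic P) : ∃ M : Subgroup (H ⧸ K), M.IsComplement' (P : Subgroup (H ⧸ K)) := by
  haveI := Fintype.ofFinite H
  obtain ⟨θ, e, he, hres⟩ := hfr
  obtain ⟨M, hM⟩ := CT.RamifiedSylow.exists_p_complement Z χ.2 θ.2 he hres K hZK (p := p)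
    (Or.inl fun P' => by haveI := hcyc; exact isCyclic_of_surjective (P.equiv P').toMonoidHom (P.equiv P').surjective)
  refine ⟨M, Subgroup.isComplement'_of_coprime ?_ ?_⟩
  · rw [Sylow.card_eq_multiplicity, ← hM, Subgroup.card_mul_index]
  · have hp := (Fact.out : p.Prime)
    rw [Sylow.card_eq_multiplicity]
    refine Nat.Coprime.pow_right _ ((hp.coprime_iff_not_dvd.mpr fun hdvd => ?_).symm)
    have h1 : p ^ ((Nat.card (H ⧸ K)).factorization p + 1) ∣ Nat.card (H ⧸ K) := by
      have h2 := mul_dvd_mul hdvd (dvd_refl (p ^ (Nat.card (H ⧸ K)).factorization p))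
      rw [← hM, Subgroup.card_mul_index] at h2
      rwa [pow_succ', ← hM]
    exact Nat.pow_succ_factorization_not_dvd Nat.card_pos.ne' hp h1

end Cfsg.Agent.S4564
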