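import Cfsg.Statements.S4565
import Cfsg.Agent.Lib.CT.GoodCount
import Cfsg.Agent.Lib.CT.GallagherExt

set_option autoImplicit false
open Cfsg

namespace Cfsg.Agent.S4565

/-- Let χ be an irreducible character of the finite group H that is fully ramified over the normal subgroup Z: the restriction of χ to Z is e times an irreducible character of Z with e ^ 2 equal to the index of Z. If Z ≠ H, then H/Z has no cyclic subgroup that is its own centralizer. -/
theorem result {H : Type*} [Group H] [Finite H] (Z : Subgroup H) [Z.Normal] (χ : Cfsg.IrrCharacter H) (hfr : ∃ (θ : Cfsg.IrrCharacter ↥Z) (e : ℕ), e ^ 2 = Z.index ∧ ∀ z : ↥Z, (χ : H → ℂ) z = (e : ℂ) * (θ : ↥Z → ℂ) z) (hZ : Z ≠ ⊤) (C : Subgroup (H ⧸ Z)) (hC : IsCyclic C) : Subgroup.centralizer (C : Set (H ⧸ Z)) ≠ C := by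
  classical
  haveI := Fintype.ofFinite H
  obtain ⟨θ, e, he, hres⟩ := hfr
  have hres' : (fun z : Z => (χ : H → ℂ) z) = (e : ℂ) • (θ : Z → ℂ) := funext fun z => hres z
  have he0 : e ≠ 0 := fun h => Subgroup.index_ne_zero_of_finite (H := Z) (by rw [← he, h]; rfl)
  have hne : classInner (fun z : Z => (χ : H → ℂ) z) (θ : Z → ℂ) ≠ 0 := by
    rw [hres', CT.classInner_smul_left, CT.irr_inner_self θ.2, mul_one]
    exact Nat.cast_ne_zero.mpr he0
  obtain ⟨hinv, huniq⟩ := (CT.GallagherExt.fully_ramified Z χ.2 θ.2 hne).2.mp ⟨e, hres', he⟩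
  have hone : Nat.card {ψ : IrrCharacter H //
      classInner (fun n : Z => (ψ : H → ℂ) n) (θ : Z → ℂ) ≠ 0} = 1 := by
    haveI : Subsingleton {ψ : IrrCharacter H //
        classInner (fun n : Z => (ψ : H → ℂ) n) (θ : Z → ℂ) ≠ 0} := by
      have key : ∀ ψ : {ψ : IrrCharacter H //
          classInner (fun n : Z => (ψ : H → ℂ) n) (θ : Z → ℂ) ≠ 0}, ψ.1 = χ := fun ψ =>
        Subtype.ext (huniq _ ψ.1.2 (by
          rw [CT.frobenius_reciprocity Z _ (CT.isClassFunction_of_isIrr ψ.1.2),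
            CT.classInner_comm_of_char (CT.isCharacter_of_isIrr θ.2)
              (CT.isCharacter_restrict Z (CT.isCharacter_of_isIrr ψ.1.2))]
          exact ψ.2))
      exact ⟨fun a b => Subtype.ext ((key a).trans (key b).symm)⟩
    haveI : Nonempty {ψ : IrrCharacter H //
        classInner (fun n : Z => (ψ : H → ℂ) n) (θ : Z → ℂ) ≠ 0} := ⟨⟨χ, hne⟩⟩
    exact Nat.card_unique
  intro hCC
  obtain ⟨⟨x, hx⟩⟩ := hC
  have hmem : ∀ r : H ⧸ Z, r ∈ C → r ∈ Subgroup.zpowers (x : H ⧸ Z) := by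
    intro r hr
    obtain ⟨i, hi⟩ := hx ⟨r, hr⟩
    exact Subgroup.mem_zpowers_iff.mpr ⟨i, by simpa using congrArg Subtype.val hi⟩
  have hgood : ∀ q : H ⧸ Z, (∀ r, r * q = q * r → ∃ g : H, ∀ w, w = q ∨ w = r → w ∈ Subgroup.zpowers (g : H ⧸ Z)) →
      GoodCount.Good Z θ q := by
    intro q h r hr
    obtain ⟨g, hg⟩ := h r hr
    obtain ⟨E, hE, hEres⟩ := GoodCount.exists_cyclic_ext Z θ hinv g
    refine GoodCount.ExtTo.mono Z θ (B' := Z ⊔ Subgroup.zpowers g) ⟨E, hE, fun n _ => hEres n⟩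
      (sup_le (sup_le le_sup_left ?_) ?_) (le_sup_left.trans le_sup_left)
    all_goals
      rw [Subgroup.zpowers_le]
    · obtain ⟨i, hi⟩ := Subgroup.mem_zpowers_iff.mp (hg q (Or.inl rfl))
      rw [← QuotientGroup.out_eq' q, ← QuotientGroup.mk_zpow, QuotientGroup.eq] at hi
      have : q.out = g ^ i * ((g ^ i)⁻¹ * q.out) := by group
      rw [this]
      exact mul_mem (Subgroup.mem_sup_right (Subgroup.zpow_mem_zpowers g i)) (Subgroup.mem_sup_left hi)
    · obtain ⟨i, hi⟩ := Subgroup.mem_zpowers_iff.mp (hg r (Or.inr rfl))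
      rw [← QuotientGroup.out_eq' r, ← QuotientGroup.mk_zpow, QuotientGroup.eq] at hi
      have : r.out = g ^ i * ((g ^ i)⁻¹ * r.out) := by group
      rw [this]
      exact mul_mem (Subgroup.mem_sup_right (Subgroup.zpow_mem_zpowers g i)) (Subgroup.mem_sup_left hi)
  have hg1 : GoodCount.Good Z θ 1 := hgood 1 fun r _ => ⟨r.out, fun w hw => by
    rw [QuotientGroup.out_eq']
    rcases hw with rfl | rfl
    · exact one_mem _
    · exact Subgroup.mem_zpowers _⟩
  have hgx : GoodCount.Good Z θ (x : H ⧸ Z) := hgood _ fun r hr => ⟨(x : H ⧸ Z).out, fun w hw => by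
    rw [QuotientGroup.out_eq']
    rcases hw with rfl | rfl
    · exact Subgroup.mem_zpowers _
    · refine hmem _ ?_
      rw [← hCC, Subgroup.mem_centralizer_iff]
      intro c hc
      obtain ⟨i, rfl⟩ := Subgroup.mem_zpowers_iff.mp (hmem c hc)
      exact (Commute.zpow_left (show Commute (x : H ⧸ Z) w from hr.symm) i).eq⟩
  have hx1 : (x : H ⧸ Z) ≠ 1 := by
    intro h1
    have hCbot : C = ⊥ := (Subgroup.eq_bot_iff_forall C).mpr fun r hr => by
      have := hmem r hr
      rwa [h1, Subgroup.zpowers_one_eq_bot, Subgroup.mem_bot] at this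
    refine hZ (eq_top_iff.mpr fun h _ => ?_)
    have hh : (h : H ⧸ Z) ∈ C := by
      rw [← hCC, hCbot, Subgroup.mem_centralizer_iff]
      intro c hc
      rw [Subgroup.mem_bot.mp hc, one_mul, mul_one]
    rw [hCbot, Subgroup.mem_bot, QuotientGroup.eq_one_iff] at hh
    exact hh
  haveI := Fintype.ofFinite (H ⧸ Z)
  have hsum := GoodCount.card_over_good Z θ hinv
  rw [hone, one_mul] at hsum
  rw [← Finset.add_sum_erase _ _ (Finset.mem_univ (1 : H ⧸ Z)), if_pos hg1,
    ← Finset.add_sum_erase _ _ (Finset.mem_erase.mpr ⟨hx1, Finset.mem_univ _⟩), if_pos hgx] at hsum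
  have htop : Nat.card (Subgroup.centralizer ({1} : Set (H ⧸ Z))) = Z.index := by
    rw [Subgroup.index_eq_card]
    exact Nat.card_congr (Equiv.subtypeUnivEquiv fun r => Subgroup.mem_centralizer_singleton_iff.mpr (by simp))
  have hpos : 0 < Nat.card (Subgroup.centralizer ({(x : H ⧸ Z)} : Set (H ⧸ Z))) := Nat.card_pos
  omega

end Cfsg.Agent.S4565
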