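import Cfsg.Statements.S4566
import Cfsg.Agent.Lib.InvChar.Q8Gen
-- import your own Cfsg.Agent.* helpers here

set_option autoImplicit false
open Cfsg

namespace Cfsg.Agent.S4566

open scoped ComplexConjugate in
theorem scalar {H : Type*} [Group H] [Finite H] {χ : H → ℂ} (hχ : Cfsg.IsIrrCharacter H χ)
    {w : H} (hw : w ∈ Subgroup.center H) : ∃ c : ℂ, ∀ g, χ (w * g) = c * χ g := by
  haveI := Fintype.ofFinite H
  obtain ⟨n, ρ, hρ, rfl⟩ := hχ
  haveI := hρ
  obtain ⟨ω, hω, -⟩ := Cfsg.Agent.CT.central_scalar ρ hw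
  exact ⟨ω, fun g => by
    rw [Representation.character, map_mul, hω]
    simp [Representation.character, Module.End.mul_eq_comp]⟩

open scoped ComplexConjugate in
theorem main {G : Type*} [Group G] [Fintype G] (N : Subgroup G) [Fintype N] (hN : N ≤ Subgroup.center G)
    (χ : G → ℂ) (hχ : Cfsg.IsIrrCharacter G χ) (ψ : N → ℂ) (hψ : Cfsg.IsIrrCharacter N ψ)
    (hfaith : ∀ n : N, ψ n = ψ 1 → n = 1)
    (hover : Cfsg.classInner (fun n : N => χ n) ψ ≠ 0) (g x : G)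
    (hcomm : x⁻¹ * g⁻¹ * x * g ∈ N) (hne : x⁻¹ * g⁻¹ * x * g ≠ 1) : χ g = 0 := by
  set w : N := ⟨x⁻¹ * g⁻¹ * x * g, hcomm⟩ with hw
  have hwc : ((w⁻¹ : N) : G) ∈ Subgroup.center G := hN (w⁻¹).2
  obtain ⟨c, hc⟩ := scalar hχ hwc
  obtain ⟨l, hl⟩ := scalar hψ (w := w⁻¹) (Subgroup.mem_center_iff.2 fun n => Subtype.ext (Subgroup.mem_center_iff.1 hwc n))
  have hcls : Cfsg.IsClassFunction G χ := by
    obtain ⟨n, ρ, -, rfl⟩ := hχ
    exact fun a b => ρ.char_conj a b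
  have hconj : ((w⁻¹ : N) : G) * g = x⁻¹ * g * x := by
    rw [← Subgroup.mem_center_iff.1 hwc g]
    show g * (x⁻¹ * g⁻¹ * x * g)⁻¹ = x⁻¹ * g * x
    group
  have h1 : c * χ g = χ g := by
    rw [← hc, hconj]
    have := hcls g x⁻¹
    rwa [inv_inv] at this
  by_contra h0
  have hc1 : c = 1 := by
    have h2 : (c - 1) * χ g = 0 := by rw [sub_mul, h1, one_mul, sub_self]
    exact sub_eq_zero.1 ((mul_eq_zero.1 h2).resolve_right h0)
  set S : ℂ := ∑ n : N, χ n * conj (ψ n) with hS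
  have hS0 : S ≠ 0 := fun e => hover (by
    show (Nat.card N : ℂ)⁻¹ * ∑ n : N, χ n * conj (ψ n) = 0
    rw [← hS, e, mul_zero])
  have hSl : S = conj l * S := by
    conv_lhs => rw [hS, ← Equiv.sum_comp (Equiv.mulLeft (w⁻¹ : N))]
    rw [hS, Finset.mul_sum]
    refine Finset.sum_congr rfl fun n _ => ?_
    simp only [Equiv.coe_mulLeft, Subgroup.coe_mul, hl, hc, hc1, one_mul, map_mul]
    ring
  have hl1 : l = 1 := by
    have h2 : (conj l - 1) * S = 0 := by rw [sub_mul, ← hSl, one_mul, sub_self]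
    have h3 : conj l = 1 := sub_eq_zero.1 ((mul_eq_zero.1 h2).resolve_right hS0)
    rw [← Complex.conj_conj l, h3, map_one]
  have h4 : (w⁻¹ : N) = 1 := hfaith _ (by
    have := hl 1
    rwa [mul_one, hl1, one_mul] at this)
  exact hne (congrArg Subtype.val (inv_eq_one.1 h4))

/-- Let N be a central subgroup of the finite group G, ψ a faithful irreducible (hence degree-one) character of N, and χ an irreducible character of G whose restriction to N contains ψ. If g ∈ G and some x ∈ G has commutator x⁻¹ g⁻¹ x g in N but different from 1, then χ g = 0. -/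
theorem result {G : Type*} [Group G] [Fintype G] (N : Subgroup G) [Fintype N] (hN : N ≤ Subgroup.center G) (ψ : Cfsg.IrrCharacter ↥N) (hfaith : ∀ n : ↥N, (ψ : ↥N → ℂ) n = (ψ : ↥N → ℂ) 1 → n = 1) (χ : Cfsg.IrrCharacter G) (hover : Cfsg.classInner (fun n : ↥N => (χ : G → ℂ) n) (ψ : ↥N → ℂ) ≠ 0) (g x : G) (hcomm : x⁻¹ * g⁻¹ * x * g ∈ N) (hne : x⁻¹ * g⁻¹ * x * g ≠ 1) : (χ : G → ℂ) g = 0 := by
  exact main N hN _ χ.2 _ ψ.2 hfaith hover g x hcomm hne

end Cfsg.Agent.S4566
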