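import Cfsg.Statements.S4567
import Cfsg.Agent.Lib.CT.GoodCount

set_option autoImplicit false
open Cfsg

namespace Cfsg.Agent.S4567

/-- Let N be a central subgroup of the finite group G and ψ a faithful irreducible (hence degree-one) character of N. Call a coset g N special when every x ∈ G whose commutator x⁻¹ g⁻¹ x g lies in N actually commutes with g (this depends only on the coset). Then the number of irreducible characters of G whose restriction to N contains ψ equals the number of conjugacy classes of G/N consisting of special cosets. -/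
theorem result {G : Type*} [Group G] [Fintype G] (N : Subgroup G) [N.Normal] [Fintype N] (hN : N ≤ Subgroup.center G) (ψ : Cfsg.IrrCharacter ↥N) (hfaith : ∀ n : ↥N, (ψ : ↥N → ℂ) n = (ψ : ↥N → ℂ) 1 → n = 1) : Nat.card {χ : Cfsg.IrrCharacter G // Cfsg.classInner (fun n : ↥N => (χ : G → ℂ) n) (ψ : ↥N → ℂ) ≠ 0} = Nat.card {C : ConjClasses (G ⧸ N) // ∃ g : G, ConjClasses.mk (g : G ⧸ N) = C ∧ ∀ x : G, x⁻¹ * g⁻¹ * x * g ∈ N → x * g = g * x} := by
  classical
  haveI : Fintype (G ⧸ N) := Fintype.ofFinite _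
  have hz : ∀ (n : N) (t : G), t * (n : G) = (n : G) * t := fun n t =>
    Subgroup.mem_center_iff.mp (hN n.2) t
  have hcomm : ∀ a b : N, a * b = b * a := fun a b => Subtype.ext (hz b a)
  have hinv : ∀ t : G, CT.conjFun N t (ψ : N → ℂ) = ψ := fun t => funext fun n => by
    refine congrArg (ψ : N → ℂ) (Subtype.ext ?_)
    show t * (n : G) * t⁻¹ = (n : G)
    rw [hz n t, mul_inv_cancel_right]
  obtain ⟨L, hL0⟩ := CT.exists_hom_of_comm hcomm ψ.2
  have hL : ∀ n, (ψ : N → ℂ) n = (L n : ℂ) := fun n => congrFun hL0 n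
  have hL1 : ∀ n : N, (L n : ℂ) = 1 → n = 1 := fun n hn => hfaith n (by
    rw [hL, hL, map_one, hn, Units.val_one])
  -- goodness of a coset
  let good : G → Prop := fun g => ∀ x : G, x⁻¹ * g⁻¹ * x * g ∈ N → x * g = g * x
  have hgoodN : ∀ g (n : N), good g → good (g * n) := by
    intro g n hg x hx
    have e : x⁻¹ * (g * n)⁻¹ * x * (g * n) = x⁻¹ * g⁻¹ * x * g := by
      have h1 : (g * (n : G))⁻¹ = g⁻¹ * (n : G)⁻¹ := by rw [hz n g, mul_inv_rev]
      rw [h1, show x⁻¹ * (g⁻¹ * (n : G)⁻¹) * x * (g * n) =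
        x⁻¹ * g⁻¹ * ((n : G)⁻¹ * x) * (g * n) by group, ← N.coe_inv, ← hz n⁻¹ x, hz n g,
        show x⁻¹ * g⁻¹ * (x * ((n⁻¹ : N) : G)) * ((n : G) * g) =
          x⁻¹ * g⁻¹ * x * (((n⁻¹ : N) : G) * (n : G)) * g by group, N.coe_inv, inv_mul_cancel, mul_one]
    rw [e] at hx
    rw [← mul_assoc, hg x hx, mul_assoc, hz n x, ← mul_assoc]
  have hgoodq : ∀ g g' : G, (g : G ⧸ N) = g' → good g → good g' := fun g g' h hg => by
    have := hgoodN g ⟨g⁻¹ * g', QuotientGroup.eq.mp h⟩ hg
    simpa using this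
  have hgoodc : ∀ g c : G, good g → good (c * g * c⁻¹) := by
    intro g c hg x hx
    have h1 : (c⁻¹ * x * c)⁻¹ * g⁻¹ * (c⁻¹ * x * c) * g ∈ N := by
      have := (inferInstance : N.Normal).conj_mem _ hx c⁻¹
      convert this using 1
      group
    calc x * (c * g * c⁻¹) = c * ((c⁻¹ * x * c) * g) * c⁻¹ := by group
      _ = c * (g * (c⁻¹ * x * c)) * c⁻¹ := by rw [hg _ h1]
      _ = _ := by group
  -- the scalar of a coset
  have homega : ∀ q : G ⧸ N, ∑ r : G ⧸ N, GoodCount.omega N ψ q.out r.out =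
      if good q.out then (Nat.card (Subgroup.centralizer ({q} : Set (G ⧸ N))) : ℂ) else 0 := by
    intro q
    set x := q.out with hx
    have hxq : (x : G ⧸ N) = q := QuotientGroup.out_eq' q
    set Cq := Subgroup.centralizer ({q} : Set (G ⧸ N))
    have hmem : ∀ r : G ⧸ N, r ∈ Cq ↔ ((r.out : G) : G ⧸ N) * (x : G ⧸ N) = (x : G ⧸ N) * (r.out : G) := by
      intro r
      rw [Subgroup.mem_centralizer_singleton_iff, hxq, QuotientGroup.out_eq' r]
    have hcm : ∀ g : G, (g : G ⧸ N) ∈ Cq → g * x⁻¹ * g⁻¹ * x ∈ N := by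
      intro g hg
      rw [Subgroup.mem_centralizer_singleton_iff] at hg
      rw [← QuotientGroup.eq_one_iff]
      simp only [QuotientGroup.mk_mul, QuotientGroup.mk_inv, hxq]
      have h2 : (g : G ⧸ N) * q⁻¹ = q⁻¹ * g := by
        rw [eq_inv_mul_iff_mul_eq, ← mul_assoc, ← hg, mul_inv_cancel_right]
      rw [h2]
      group
    have hval : ∀ g : G, ∀ hg : (g : G ⧸ N) ∈ Cq, GoodCount.omega N ψ x g = (L ⟨_, hcm g hg⟩ : ℂ) := by
      intro g hg
      rw [GoodCount.omega, Finset.sum_congr rfl fun (n : N) _ => Finset.sum_congr rfl fun (m : N) _ => show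
        GoodCount.phi0 N ψ ((g * (m : G)) * (x * (n : G))⁻¹ * (g * (m : G))⁻¹ * (x * (n : G))) =
          (L ⟨_, hcm g hg⟩ : ℂ) by
        have e : (g * (m : G)) * (x * (n : G))⁻¹ * (g * (m : G))⁻¹ * (x * (n : G)) =
            g * x⁻¹ * g⁻¹ * x := by
          have h1 : (g * (m : G)) * (x * (n : G))⁻¹ * (g * (m : G))⁻¹ * (x * (n : G)) =
              g * (((m : G) * ((n⁻¹ : N) : G)) * x⁻¹) * ((m⁻¹ : N) : G) * g⁻¹ * (x * (n : G)) := by
            simp only [Subgroup.coe_inv]; group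
          have h2 : (m : G) * ((n⁻¹ : N) : G) * x⁻¹ = x⁻¹ * ((m : G) * ((n⁻¹ : N) : G)) := by
            rw [← Subgroup.coe_mul, ← hz]
          have h3 : ((n⁻¹ : N) : G) * g⁻¹ * x * (n : G) = g⁻¹ * x := by
            rw [mul_assoc _ g⁻¹ x, ← hz n⁻¹ (g⁻¹ * x), mul_assoc, Subgroup.coe_inv, inv_mul_cancel, mul_one]
          rw [h1, h2]
          calc g * (x⁻¹ * ((m : G) * ((n⁻¹ : N) : G))) * ((m⁻¹ : N) : G) * g⁻¹ * (x * (n : G))
              = g * x⁻¹ * ((m : G) * (((n⁻¹ : N) : G) * ((m⁻¹ : N) : G))) * g⁻¹ * x * (n : G) := by group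
            _ = g * x⁻¹ * ((m : G) * (((m⁻¹ : N) : G) * ((n⁻¹ : N) : G))) * g⁻¹ * x * (n : G) := by
              rw [hz m⁻¹ ((n⁻¹ : N) : G)]
            _ = g * x⁻¹ * (((n⁻¹ : N) : G) * g⁻¹ * x * (n : G)) := by
              simp only [Subgroup.coe_inv]; group
            _ = _ := by rw [h3]; group
        rw [GoodCount.phi0_of_mem N ψ _ (e ▸ hcm g hg), hL]
        exact congrArg (fun v : N => (L v : ℂ)) (Subtype.ext e)]
      simp only [Finset.sum_const, Finset.card_univ, nsmul_eq_mul, hL, map_one, Units.val_one,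
        ← Nat.card_eq_fintype_card]
      have : (Nat.card N : ℂ) ≠ 0 := CT.card_ne_zero
      field_simp
    let χc : Cq →* ℂˣ :=
      { toFun := fun r => L ⟨_, hcm (r : G ⧸ N).out (by rw [(QuotientGroup.out_eq' _)]; exact r.2)⟩
        map_one' := by
          refine (congrArg L (Subtype.ext ?_ : _ = (1 : N))).trans (map_one L)
          have h1 : ((1 : G ⧸ N).out : G) ∈ N := (QuotientGroup.eq_one_iff _).mp (QuotientGroup.out_eq' _)
          have h2 : x⁻¹ * ((1 : G ⧸ N).out)⁻¹ = ((1 : G ⧸ N).out)⁻¹ * x⁻¹ :=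
            hz ⟨_, inv_mem h1⟩ x⁻¹
          show ((1 : G ⧸ N).out) * x⁻¹ * ((1 : G ⧸ N).out)⁻¹ * x = 1
          rw [mul_assoc ((1 : G ⧸ N).out), h2]
          group
        map_mul' := fun a b => by
          rw [← map_mul]
          refine congrArg L (Subtype.ext ?_)
          set u := ((a : Cq) : G ⧸ N).out
          set v := ((b : Cq) : G ⧸ N).out
          set w := (((a * b : Cq) : G ⧸ N)).out
          have hw : (w : G ⧸ N) = ((u * v : G) : G ⧸ N) := by
            rw [QuotientGroup.mk_mul, QuotientGroup.out_eq' _, QuotientGroup.out_eq' _,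
              QuotientGroup.out_eq' _]
            rfl
          obtain ⟨n, hn⟩ : ∃ n : N, w = u * v * n :=
            ⟨⟨(u * v)⁻¹ * w, QuotientGroup.eq.mp hw.symm⟩, by simp [mul_assoc]⟩
          have hv : (v : G ⧸ N) ∈ Cq := by rw [QuotientGroup.out_eq' _]; exact b.2
          show w * x⁻¹ * w⁻¹ * x = (u * x⁻¹ * u⁻¹ * x) * (v * x⁻¹ * v⁻¹ * x)
          have hcv := hz ⟨_, hcm v hv⟩
          rw [hn, show u * v * (n : G) * x⁻¹ * (u * v * (n : G))⁻¹ * x =
            u * v * ((n : G) * x⁻¹) * ((n : G)⁻¹) * v⁻¹ * u⁻¹ * x by group, ← hz n x⁻¹,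
            show u * v * (x⁻¹ * (n : G)) * ((n : G)⁻¹) * v⁻¹ * u⁻¹ * x =
              u * ((v * x⁻¹ * v⁻¹ * x) * (x⁻¹ * u⁻¹ * x)) by group, ← hcv]
          group }
    have hsum : ∑ r : G ⧸ N, GoodCount.omega N ψ x r.out = ∑ r : Cq, (χc r : ℂ) := by
      rw [← Finset.sum_subset (Finset.subset_univ (Finset.univ.filter fun r => r ∈ Cq))
        (fun r _ hr => GoodCount.omega_zero N ψ fun h => hr (Finset.mem_filter.mpr
          ⟨Finset.mem_univ _, (hmem r).mpr h⟩)),
        Finset.sum_subtype (Finset.univ.filter fun r => r ∈ Cq) (p := fun r => r ∈ Cq) (by simp)]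
      refine Finset.sum_congr rfl fun r _ => ?_
      exact hval (r : G ⧸ N).out (by rw [(QuotientGroup.out_eq' _)]; exact r.2)
    rw [hsum]
    by_cases hg : good x
    · rw [if_pos hg, Finset.sum_congr rfl fun r _ => show (χc r : ℂ) = 1 by
        show ((L _ : ℂˣ) : ℂ) = 1
        refine (congrArg (fun v : N => (L v : ℂ)) (Subtype.ext ?_ : _ = (1 : N))).trans (by simp)
        set u := ((r : Cq) : G ⧸ N).out
        have hu : (u : G ⧸ N) ∈ Cq := by rw [QuotientGroup.out_eq' _]; exact r.2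
        have h1 : u⁻¹ * x⁻¹ * u * x ∈ N := by
          have hi : ((u⁻¹ : G) : G ⧸ N) ∈ Cq := by rw [QuotientGroup.mk_inv]; exact inv_mem hu
          simpa using hcm u⁻¹ hi
        have h2 := hg u h1
        show u * x⁻¹ * u⁻¹ * x = 1
        calc u * x⁻¹ * u⁻¹ * x = u * (u * x)⁻¹ * x := by group
          _ = u * (x * u)⁻¹ * x := by rw [h2]
          _ = 1 := by group, Finset.sum_const, Finset.card_univ, nsmul_eq_mul, mul_one,
        ← Nat.card_eq_fintype_card]
    · rw [if_neg hg]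
      simp only [good, not_forall] at hg
      obtain ⟨y, hy, hne⟩ := hg
      have hyq : (y : G ⧸ N) ∈ Cq := by
        rw [Subgroup.mem_centralizer_singleton_iff, ← hxq]
        have h0 := (QuotientGroup.eq_one_iff (N := N) _).mpr hy
        simp only [QuotientGroup.mk_mul, QuotientGroup.mk_inv] at h0
        calc (y : G ⧸ N) * (x : G ⧸ N)
            = (x : G ⧸ N) * y * ((y : G ⧸ N)⁻¹ * (x : G ⧸ N)⁻¹ * y * x) := by group
          _ = _ := by rw [h0, mul_one]
      have hne1 : (χc ⟨(y : G ⧸ N), hyq⟩ : ℂ) ≠ 1 := by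
        intro e
        have h1 := hL1 _ e
        set u := ((y : G ⧸ N)).out
        have h2 : u * x⁻¹ * u⁻¹ * x = 1 := congrArg Subtype.val h1
        obtain ⟨n, hn⟩ : ∃ n : N, y = u * n :=
          ⟨⟨u⁻¹ * y, QuotientGroup.eq.mp (QuotientGroup.out_eq' _)⟩, by simp⟩
        have h4 : u * x⁻¹ * u⁻¹ = x⁻¹ := by
          have := mul_eq_one_iff_eq_inv.mp h2
          exact this
        have h3 : u * x = x * u := by
          calc u * x = (u * x⁻¹ * u⁻¹)⁻¹ * u := by group
            _ = x * u := by rw [h4, inv_inv]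
        exact hne (by rw [hn, mul_assoc, ← hz n x, ← mul_assoc, h3, mul_assoc])
      set s := ∑ r : Cq, (χc r : ℂ)
      have hs : (χc ⟨(y : G ⧸ N), hyq⟩ : ℂ) * s = s := by
        simp only [s, Finset.mul_sum, ← Units.val_mul, ← map_mul]
        exact Fintype.sum_equiv (Equiv.mulLeft _) _ _ fun r => rfl
      by_contra h0
      exact hne1 (mul_right_cancel₀ h0 (hs.trans (one_mul _).symm))
  -- the count by classes
  have hcount := GoodCount.card_over_mul N ψ hinv
  rw [Finset.sum_congr rfl fun q _ => homega q] at hcount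
  haveI : Fintype (ConjClasses (G ⧸ N)) := Fintype.ofFinite _
  have hclass : ∑ q : G ⧸ N, (if good q.out then (Nat.card (Subgroup.centralizer ({q} : Set (G ⧸ N))) : ℂ) else 0) =
      (Nat.card {C : ConjClasses (G ⧸ N) // ∃ g : G, ConjClasses.mk (g : G ⧸ N) = C ∧ good g} : ℂ) * (N.index : ℂ) := by
    rw [← Finset.sum_fiberwise Finset.univ ConjClasses.mk, Nat.card_eq_fintype_card, Fintype.card_subtype,
      Finset.card_filter, Nat.cast_sum, Finset.sum_mul]
    refine Finset.sum_congr rfl fun C _ => ?_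
    obtain ⟨q0, rfl⟩ := ConjClasses.mk_surjective C
    obtain ⟨g0, rfl⟩ := QuotientGroup.mk_surjective q0
    have hiff : ∀ q : G ⧸ N, ConjClasses.mk q = ConjClasses.mk (g0 : G ⧸ N) → (good q.out ↔ good g0) := by
      intro q hq
      obtain ⟨c, hc⟩ := isConj_iff.mp (ConjClasses.mk_eq_mk_iff_isConj.mp hq)
      obtain ⟨c, rfl⟩ := QuotientGroup.mk_surjective c
      have e : ((c * q.out * c⁻¹ : G) : G ⧸ N) = (g0 : G ⧸ N) := by
        simp only [QuotientGroup.mk_mul, QuotientGroup.mk_inv, QuotientGroup.out_eq' q]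
        exact hc
      refine ⟨fun h => hgoodq _ _ e (hgoodc _ c h), fun h => ?_⟩
      have := hgoodc _ c⁻¹ (hgoodq _ _ e.symm h)
      simpa [mul_assoc] using this
    have hex : (∃ g : G, ConjClasses.mk (g : G ⧸ N) = ConjClasses.mk (g0 : G ⧸ N) ∧ good g) ↔ good g0 := by
      refine ⟨?_, fun h => ⟨g0, rfl, h⟩⟩
      rintro ⟨g, hg, hgg⟩
      exact (hiff _ hg).mp (hgoodq g _ ((QuotientGroup.out_eq' _)).symm hgg)
    by_cases h : good g0
    · rw [if_pos (hex.mpr h), Nat.cast_one, one_mul, Finset.sum_congr rfl fun q hq =>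
        if_pos ((hiff q (Finset.mem_filter.mp hq).2).mpr h), ← Nat.cast_sum, Nat.cast_inj,
        Subgroup.index_eq_card]
      rw [Finset.sum_congr rfl fun q hq => show Nat.card (Subgroup.centralizer ({q} : Set (G ⧸ N))) =
          Nat.card (Subgroup.centralizer ({(g0 : G ⧸ N)} : Set (G ⧸ N))) by
        obtain ⟨c, hc⟩ := isConj_iff.mp (ConjClasses.mk_eq_mk_iff_isConj.mp (Finset.mem_filter.mp hq).2)
        refine Nat.card_congr (Equiv.subtypeEquiv (MulAut.conj c).toEquiv fun w => ?_)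
        simp only [MulEquiv.toEquiv_eq_coe, EquivLike.coe_coe, MulAut.conj_apply,
          Subgroup.mem_centralizer_singleton_iff, ← hc]
        constructor
        · intro e
          calc c * w * c⁻¹ * (c * q * c⁻¹) = c * (w * q) * c⁻¹ := by group
            _ = _ := by rw [e]; group
        · intro e
          calc w * q = c⁻¹ * (c * w * c⁻¹ * (c * q * c⁻¹)) * c := by group
            _ = _ := by rw [e]; group, Finset.sum_const, smul_eq_mul]
      set g := (g0 : G ⧸ N)
      rw [show Nat.card (Subgroup.centralizer ({g} : Set (G ⧸ N))) = Nat.card (MulAction.stabilizer (ConjAct (G ⧸ N)) g)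
        from Nat.card_congr (Equiv.subtypeEquiv ConjAct.toConjAct.toEquiv fun w => by
          simp [Subgroup.mem_centralizer_singleton_iff, ConjAct.smul_def, mul_inv_eq_iff_eq_mul])]
      rw [show (Finset.univ.filter fun q => ConjClasses.mk q = ConjClasses.mk g).card =
          (MulAction.stabilizer (ConjAct (G ⧸ N)) g).index by
        rw [MulAction.index_stabilizer, ConjAct.orbit_eq_carrier_conjClasses, ← Set.ncard_coe_finset]
        congr 1
        ext q
        simp [ConjClasses.mem_carrier_iff_mk_eq]]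
      exact (mul_comm _ _).trans (Subgroup.card_mul_index _)
    · rw [if_neg (fun h' => h (hex.mp h')), Nat.cast_zero, zero_mul]
      exact Finset.sum_eq_zero fun q hq => if_neg fun h' => h ((hiff q (Finset.mem_filter.mp hq).2).mp h')
  rw [hclass] at hcount
  exact_mod_cast mul_right_cancel₀ (Nat.cast_ne_zero.mpr Subgroup.index_ne_zero_of_finite) hcount

end Cfsg.Agent.S4567
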