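import Cfsg.Statements.S4571
import Cfsg.Agent.Lib.Blocks.InflationRank

set_option autoImplicit false
open Cfsg

namespace Cfsg.Agent.S4571

/-- Let Q be a normal p-subgroup of the finite group G with G = Q·C_G(Q), and M a maximal ideal of the algebraic integers containing p. Then the principal p-blocks of G and of G/Q have the same p-regular rank (the same number of irreducible Brauer characters). -/
theorem result {G : Type*} [Group G] [Finite G] (p : ℕ) [Fact p.Prime] (M : Ideal Cfsg.AlgInt) (hM : Cfsg.IsPModular p M) (Q : Subgroup G) [Q.Normal] (hQ : IsPGroup p Q) (hsup : Q ⊔ Subgroup.centralizer (Q : Set G) = ⊤) : Cfsg.blockRank p (Cfsg.principalBlock M G) = Cfsg.blockRank p (Cfsg.principalBlock M (G ⧸ Q)) := by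
  classical
  haveI := Cfsg.Agent.Blocks.isPrime_of_modular hM
  haveI := Fintype.ofFinite G
  have hC : ∃ k : ℕ, (Subgroup.centralizer (Q : Set G)).index = p ^ k := by
    obtain ⟨n, hn⟩ := IsPGroup.iff_card.mp hQ
    have h1 : (Subgroup.centralizer (Q : Set G)).index ∣ p ^ n := by
      rw [← Subgroup.relIndex_top_right, ← hsup, Subgroup.relIndex_sup_right, ← hn]
      exact Subgroup.index_dvd_card _
    obtain ⟨j, -, hj⟩ := (Nat.dvd_prime_pow Fact.out).mp h1
    exact ⟨j, hj⟩
  refine Cfsg.Agent.Blocks.blockRank_inflation hM hQ hC Cfsg.Agent.Blocks.isPBlock_principalBlock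
    Cfsg.Agent.Blocks.isPBlock_principalBlock fun χ hχ => ?_
  have h := Cfsg.Agent.Blocks.sameBlock_inflIrr (M := M)
    ((Cfsg.Agent.Blocks.mem_block_iff Cfsg.Agent.Blocks.isPBlock_principalBlock
      Cfsg.Agent.Blocks.trivIrr_mem_principalBlock).mp hχ)
  refine (Cfsg.Agent.Blocks.mem_block_iff Cfsg.Agent.Blocks.isPBlock_principalBlock
    Cfsg.Agent.Blocks.trivIrr_mem_principalBlock).mpr ?_
  exact h

end Cfsg.Agent.S4571
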