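import Cfsg.Statements.S4573
import Cfsg.Agent.Lib.CT.WreathChar

set_option autoImplicit false
set_option linter.all false
universe u
open Cfsg

namespace Cfsg.Agent.S4573

theorem exists_monomial_overgroup (n : ℕ) : ∀ (G : Type u) [Group G] [Finite G],
    Group.IsSolvable G → Nat.card G = n →
    ∃ (M : Type u) (_ : Group M) (_ : Fintype M), WreathChar.IsMGroup M ∧
      ∃ f : G →* M, Function.Injective f := by
  induction n using Nat.strong_induction_on with
  | _ n ih =>
    intro G _ _ hs hn
    classical
    rcases subsingleton_or_nontrivial G with hG | hG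
    · letI := Fintype.ofFinite G
      refine ⟨G, inferInstance, inferInstance, fun χ hχ => ?_, MonoidHom.id G, fun a b h => h⟩
      obtain ⟨lam, hlam⟩ := CT.exists_hom_of_comm (fun a b => Subsingleton.elim _ _) hχ
      refine ⟨⊤, lam.comp (⊤ : Subgroup G).subtype, ?_⟩
      funext g
      letI : Unique G := uniqueOfSubsingleton 1
      rw [hlam, Subsingleton.elim g 1]
      simp only [Cfsg.indFun, Fintype.sum_unique, Subsingleton.elim _ (1 : G)]
      rw [CT.extendByZero_mem (⊤ : Subgroup G) _ (Subgroup.mem_top 1)]
      simp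
    · obtain ⟨N, hN, hNi⟩ := WreathChar.exists_prime_index hs
      haveI := hN
      have hlt : Nat.card N < n := by
        rw [← hn, ← N.card_mul_index]
        exact lt_mul_of_one_lt_right Nat.card_pos hNi.one_lt
      obtain ⟨M, _, _, hM, f, hf⟩ :=
        ih _ hlt N inferInstance rfl
      obtain ⟨e, he⟩ := WreathChar.exists_embedding N
      obtain ⟨g, hg⟩ := WreathChar.exists_wreath_map (Q := G ⧸ N) f hf
      letI := Fintype.ofFinite (G ⧸ N)
      letI := Fintype.ofFinite (M ≀ᵣ (G ⧸ N))
      refine ⟨M ≀ᵣ (G ⧸ N), inferInstance, inferInstance,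
        WreathChar.isMGroup_wreath hM (by rw [← Subgroup.index_eq_card]; exact hNi),
        g.comp e, hg.comp he⟩

/-- Every finite solvable group is isomorphic to a subgroup of a finite M-group, a group each of whose irreducible characters is induced from a homomorphism of some subgroup into ℂˣ. -/
theorem result {G : Type u} [Group G] [Finite G] (hsolv : Group.IsSolvable G) : ∃ (M : Type u) (_ : Group M) (_ : Fintype M), (∀ χ : M → ℂ, Cfsg.IsIrrCharacter M χ → (∃ (H : Subgroup M) (lam : ↥H →* ℂˣ), χ = Cfsg.indFun H (fun h => (lam h : ℂ)))) ∧ ∃ f : G →* M, Function.Injective f := by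
  obtain ⟨M, _, _, hM, f, hf⟩ := exists_monomial_overgroup _ G hsolv rfl
  exact ⟨M, inferInstance, inferInstance, hM, f, hf⟩

end Cfsg.Agent.S4573
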