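import Cfsg.Statements.S4574
import Cfsg.Agent.Lib.ClassSum.GaloisMean
import Cfsg.Agent.Lib.CT.Integral

set_option autoImplicit false
open Cfsg

namespace Cfsg.Agent.S4574

/-- Let χ be an irreducible character of the finite group G, of degree d, and let Z(χ) be the set of elements g with |χ g| = d (the centre of χ). Then χ vanishes on at least (d ^ 2 - 1) · |Z(χ)| elements of G, with equality when every value |χ g| is 0, 1 or d. -/
theorem result {G : Type*} [Group G] [Fintype G] [DecidableEq G] (χ : G → ℂ) (hχ : Cfsg.IsIrrCharacter G χ) : (Cfsg.charDegree χ ^ 2 - 1) * (Finset.univ.filter (fun g : G => ‖χ g‖ = (Cfsg.charDegree χ : ℝ))).card ≤ (Finset.univ.filter (fun g : G => χ g = 0)).card ∧ ((∀ g : G, ‖χ g‖ = 0 ∨ ‖χ g‖ = 1 ∨ ‖χ g‖ = (Cfsg.charDegree χ : ℝ)) → (Cfsg.charDegree χ ^ 2 - 1) * (Finset.univ.filter (fun g : G => ‖χ g‖ = (Cfsg.charDegree χ : ℝ))).card = (Finset.univ.filter (fun g : G => χ g = 0)).card) := by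
  classical
  have hc := Cfsg.Agent.CT.isCharacter_of_isIrr hχ
  obtain ⟨n, ρ, hρ, hρe⟩ := id hχ
  have hd : Cfsg.charDegree χ = n := by
    rw [Cfsg.charDegree, ← hρe, Representation.char_one, Module.finrank_fin_fun]; simp
  have hn : 0 < n := hd ▸ Cfsg.Agent.CT.deg_pos hχ
  rw [hd]
  have hnn : (n : ℝ) ≠ 0 := Nat.cast_ne_zero.mpr hn.ne'
  set Z := Finset.univ.filter (fun g : G => ‖χ g‖ = (n : ℝ)) with hZ
  set O := Finset.univ.filter (fun g : G => χ g = 0) with hO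
  set S := Finset.univ.filter (fun g : G => ¬ ‖χ g‖ = (n : ℝ) ∧ ¬ χ g = 0) with hS
  have hclosed : ∀ x ∈ S, ∀ k : ℕ, k.Coprime (Nat.card G) → x ^ k ∈ S := by
    intro x hx k hk
    obtain ⟨-, h1, h2⟩ := Finset.mem_filter.mp hx
    refine Finset.mem_filter.mpr ⟨Finset.mem_univ _, fun h => h1 ?_,
      Cfsg.Agent.ClassSum.char_pow_ne_zero hc h2 hk⟩
    obtain ⟨m, hm⟩ := exists_pow_eq_self_of_coprime (x := x)
      (hk.coprime_dvd_right (orderOf_dvd_natCard x))
    have hρn : ∀ g : G, ‖χ g‖ = (n : ℝ) ↔ ∃ ω : ℂ, ρ g = ω • LinearMap.id := fun g => by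
      rw [← Cfsg.Agent.CT.norm_eq_iff_scalar ρ g, hρe, Module.finrank_fin_fun]
    obtain ⟨ω, hω⟩ := (hρn _).mp h
    refine (hρn x).mpr ⟨ω ^ m, ?_⟩
    rw [← hm, map_pow, hω, smul_pow]
    congr 1
    exact one_pow m
  have hsum : (Nat.card G : ℝ) = ∑ g, ‖χ g‖ ^ 2 := by
    have h := Cfsg.Agent.CT.irr_inner_self hχ
    rw [Cfsg.Agent.CT.classInner_self] at h
    have h' : (Nat.card G : ℝ)⁻¹ * ∑ g : G, ‖χ g‖ ^ 2 = 1 := by exact_mod_cast h
    field_simp at h'
    linarith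
  have hsplit : ∑ g, ‖χ g‖ ^ 2 = (Z.card : ℝ) * (n : ℝ) ^ 2 + ∑ g ∈ S, ‖χ g‖ ^ 2 := by
    rw [← Finset.sum_filter_add_sum_filter_not Finset.univ (fun g : G => ‖χ g‖ = (n : ℝ))]
    congr 1
    · rw [Finset.sum_congr rfl (g := fun _ => (n : ℝ) ^ 2) fun g hg => by
        rw [(Finset.mem_filter.mp hg).2], Finset.sum_const, nsmul_eq_mul, ← hZ]
    · rw [← Finset.sum_filter_add_sum_filter_not (Finset.univ.filter fun g : G => ¬ ‖χ g‖ = (n : ℝ))
        (fun g : G => χ g = 0), Finset.sum_eq_zero fun g hg => by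
          rw [(Finset.mem_filter.mp hg).2]; simp, zero_add, Finset.filter_filter]
  have hcount : Nat.card G = Z.card + O.card + S.card := by
    rw [Nat.card_eq_fintype_card, ← Finset.card_univ,
      ← Finset.card_filter_add_card_filter_not (s := Finset.univ) (fun g : G => ‖χ g‖ = (n : ℝ)),
      ← Finset.card_filter_add_card_filter_not
        (s := Finset.univ.filter fun g : G => ¬ ‖χ g‖ = (n : ℝ)) (fun g : G => χ g = 0),
      Finset.filter_filter, Finset.filter_filter, ← add_assoc]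
    congr 2
    rw [hO]
    congr 1
    refine Finset.filter_congr fun g _ => ⟨fun h => h.2, fun h => ⟨fun h2 => hnn ?_, h⟩⟩
    rw [h, norm_zero] at h2
    exact h2.symm
  have hge := Cfsg.Agent.ClassSum.card_le_sum_norm_sq hc S hclosed
    fun x hx => (Finset.mem_filter.mp hx).2.2
  have hkey : (Z.card : ℝ) * (n : ℝ) ^ 2 + ∑ g ∈ S, ‖χ g‖ ^ 2 =
      (Z.card : ℝ) + O.card + S.card := by
    rw [← hsplit, ← hsum, hcount]; push_cast; ring
  have hn1 : 1 ≤ n ^ 2 := Nat.one_le_pow _ _ hn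
  refine ⟨?_, fun h => ?_⟩
  · rw [← Nat.cast_le (α := ℝ), Nat.cast_mul, Nat.cast_sub hn1]
    push_cast
    nlinarith
  · have hone : ∑ g ∈ S, ‖χ g‖ ^ 2 = (S.card : ℝ) := by
      rw [Finset.sum_congr rfl (g := fun _ => (1 : ℝ)) fun g hg => by
        obtain ⟨-, h1, h2⟩ := Finset.mem_filter.mp hg
        rcases h g with h0 | h0 | h0
        · exact absurd (norm_eq_zero.mp h0) h2
        · rw [h0]; norm_num
        · exact absurd h0 h1]
      simp
    rw [← Nat.cast_inj (R := ℝ), Nat.cast_mul, Nat.cast_sub hn1]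
    push_cast
    nlinarith

end Cfsg.Agent.S4574
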