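import Cfsg.Statements.S4575
import Cfsg.Agent.Lib.Blocks.SubMatCount

set_option autoImplicit false
open Cfsg

namespace Cfsg.Agent.S4575

/-- Let B be a 2-block of the finite group G (relative to a maximal ideal M of the algebraic integers containing 2) of defect d with defect group D. Let z be an element of D commuting with every element of D, and let b be a block of the centralizer of z with defect group D that induces B (a major subsection (z, b)). If the number of irreducible characters in B exceeds the 2-regular rank of b by at most three, then B contains at most 2 ^ d irreducible characters. -/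
theorem result {G : Type*} [Group G] [Finite G] (M : Ideal Cfsg.AlgInt) (hM : Cfsg.IsPModular 2 M) (B : Set (Cfsg.IrrCharacter G)) (hB : Cfsg.IsPBlock M B) (D : Subgroup G) (hD : Cfsg.IsDefectGroup 2 M B D) (z : G) (hzD : z ∈ D) (hzc : ∀ d ∈ D, d * z = z * d) (b : Set (Cfsg.IrrCharacter ↥(Subgroup.centralizer ({z} : Set G)))) (hb : Cfsg.IsInducedBlock M (Subgroup.centralizer ({z} : Set G)) b B) (hbD : Cfsg.IsDefectGroup 2 M b (D.subgroupOf (Subgroup.centralizer ({z} : Set G)))) (h : Nat.card B ≤ Cfsg.blockRank 2 b + 3) : Nat.card B ≤ 2 ^ Cfsg.blockDefect 2 B := by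
  classical
  letI := Fintype.ofFinite G
  letI := Fintype.ofFinite (Subgroup.centralizer ({z} : Set G))
  haveI : M.IsPrime := hM.2.1.isPrime
  have hle : D ≤ Subgroup.centralizer ({z} : Set G) := fun d hd =>
    Subgroup.mem_centralizer_singleton_iff.mpr (hzc d hd)
  have hDb := Cfsg.Agent.Blocks.card_defectGroup hM hb.1 hbD
  have hDB := Cfsg.Agent.Blocks.card_defectGroup hM hB hD
  rw [Nat.card_congr (Subgroup.subgroupOfEquivOfLe hle).toEquiv, hDB] at hDb
  have hd : Cfsg.blockDefect 2 b = Cfsg.blockDefect 2 B :=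
    (Nat.pow_right_injective (le_refl 2) hDb).symm
  have hz : ∃ k : ℕ, z ^ 2 ^ k = 1 := by
    refine ⟨Cfsg.blockDefect 2 B, ?_⟩
    rw [← hDB]
    exact orderOf_dvd_iff_pow_eq_one.mp
      (Subgroup.orderOf_mk z hzD ▸ orderOf_dvd_natCard (⟨z, hzD⟩ : D))
  have hc : Nat.card B = (Finset.univ.filter (fun χ : Cfsg.IrrCharacter G => χ ∈ B)).card := by
    rw [Nat.card_eq_fintype_card, Fintype.card_subtype]
  rcases Nat.eq_zero_or_pos (Cfsg.blockDefect 2 B) with h0 | h0
  · rw [hc, h0, pow_zero]
    exact Cfsg.Agent.Blocks.card_le_of_defect_zero hM hB h0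
  have hmain := Cfsg.Agent.Blocks.major_count hM hz hb hd true (by simp only [if_true]; exact ⟨h, h0⟩)
  set s := Finset.univ.filter (fun χ : Cfsg.IrrCharacter G => χ ∈ B)
  have hsplit := Finset.card_filter_add_card_filter_not (s := s)
    (fun χ : Cfsg.IrrCharacter G => Cfsg.blockHeight 2 B (χ : G → ℂ) = 0)
  have hge : 2 * (s.filter fun χ : Cfsg.IrrCharacter G =>
      ¬ Cfsg.blockHeight 2 B (χ : G → ℂ) = 0).card ≤
      ∑ χ ∈ s.filter (fun χ : Cfsg.IrrCharacter G => ¬ Cfsg.blockHeight 2 B (χ : G → ℂ) = 0),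
        2 ^ Cfsg.blockHeight 2 B (χ : G → ℂ) := by
    refine le_trans (le_of_eq (mul_comm _ _)) ?_
    rw [← smul_eq_mul]
    refine Finset.card_nsmul_le_sum _ _ _ fun χ hχ => ?_
    exact Nat.le_self_pow (Finset.mem_filter.mp hχ).2 2
  omega

end Cfsg.Agent.S4575
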