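import Cfsg.Statements.S4581
import Cfsg.Agent.Lib.RealOddCount.Final

set_option autoImplicit false
open Cfsg

namespace Cfsg.Agent.S4581

/-- Let G be a finite solvable group, P a Sylow 2-subgroup and N its normalizer. Then G and N have the same number of real-valued irreducible characters of odd degree; and every odd-degree irreducible character of G is real-valued exactly when the derived subgroup of P equals the Frattini subgroup of P and P is its own normalizer in G. -/
theorem result {G : Type*} [Group G] [Finite G] [Group.IsSolvable G] (P : Sylow 2 G) :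
    Nat.card {χ : Cfsg.IrrCharacter G // (∀ g : G, ((χ : G → ℂ) g).im = 0) ∧ Odd (Cfsg.charDegree (χ : G → ℂ))} =
      Nat.card {ψ : Cfsg.IrrCharacter (Subgroup.normalizer ((P : Subgroup G) : Set G)) // (∀ g, ((ψ : Subgroup.normalizer ((P : Subgroup G) : Set G) → ℂ) g).im = 0) ∧ Odd (Cfsg.charDegree (ψ : Subgroup.normalizer ((P : Subgroup G) : Set G) → ℂ))} ∧
    ((∀ χ : Cfsg.IrrCharacter G, Odd (Cfsg.charDegree (χ : G → ℂ)) → ∀ g : G, ((χ : G → ℂ) g).im = 0) ↔
      (commutator (P : Subgroup G) = frattini (P : Subgroup G) ∧ Subgroup.normalizer ((P : Subgroup G) : Set G) = (P : Subgroup G))) := by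
  classical
  haveI : Fintype G := Fintype.ofFinite G
  have hP : RealOddCount.IsTwoHall (P : Subgroup G) := by
    haveI : Fact (Nat.Prime 2) := ⟨Nat.prime_two⟩
    refine ⟨P.isPGroup', ?_⟩
    rw [← Nat.not_even_iff_odd, even_iff_two_dvd]
    exact P.not_dvd_index
  obtain ⟨hG1, hG2⟩ := RealOddCount.good (P : Subgroup G) hP
  have hN := RealOddCount.good
    ((P : Subgroup G).subgroupOf (Subgroup.normalizer ((P : Subgroup G) : Set G)))
    (hP.subgroupOf Subgroup.le_normalizer)
  refine ⟨?_, ?_⟩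
  · have e1 : Nat.card {χ : Cfsg.IrrCharacter G // (∀ g : G, ((χ : G → ℂ) g).im = 0) ∧
        Odd (Cfsg.charDegree (χ : G → ℂ))} = Nat.card (RealOddCount.RO (⊥ : Subgroup G)) :=
      Nat.card_congr (Equiv.subtypeEquivRight fun χ =>
        ⟨fun h => ⟨⟨RealOddCount.isReal_iff_im.mpr h.1, h.2⟩,
            fun k hk => by rw [Subgroup.mem_bot.mp hk]⟩,
          fun h => ⟨RealOddCount.isReal_iff_im.mp h.1.1, h.1.2⟩⟩)
    have e2 : Nat.card {ψ : Cfsg.IrrCharacter (Subgroup.normalizer ((P : Subgroup G) : Set G)) //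
        (∀ g, ((ψ : Subgroup.normalizer ((P : Subgroup G) : Set G) → ℂ) g).im = 0) ∧
          Odd (Cfsg.charDegree (ψ : Subgroup.normalizer ((P : Subgroup G) : Set G) → ℂ))} =
        Nat.card (RealOddCount.RO (⊥ : Subgroup (Subgroup.normalizer ((P : Subgroup G) : Set G)))) :=
      Nat.card_congr (Equiv.subtypeEquivRight fun χ =>
        ⟨fun h => ⟨⟨RealOddCount.isReal_iff_im.mpr h.1, h.2⟩,
            fun k hk => by rw [Subgroup.mem_bot.mp hk]⟩,
          fun h => ⟨RealOddCount.isReal_iff_im.mp h.1.1, h.1.2⟩⟩)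
    rw [e1, e2, hG1, hN.1, RealOddCount.card_orb_normalizer (P : Subgroup G) _ rfl
      Subgroup.le_normalizer]
  · rw [← RealOddCount.cond_bot_iff (P : Subgroup G) P.isPGroup', ← hG2]
    exact ⟨fun h χ ho _ => RealOddCount.isReal_iff_im.mpr (h χ ho),
      fun h χ ho => RealOddCount.isReal_iff_im.mp (h χ ho fun k hk => by rw [Subgroup.mem_bot.mp hk])⟩

end Cfsg.Agent.S4581
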