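import Cfsg.Statements.S4582
import Mathlib

set_option autoImplicit false
open Cfsg

namespace Cfsg.Agent.S4582

open MulAction in
open scoped commutatorElement in
private lemma core {M : Type*} [Group M] [Finite M] (N P : Subgroup M) [N.Normal]
    (hPp : IsPGroup 2 P) (hidx : Odd P.index) (hsup : N ⊔ P = ⊤)
    (hP : ∀ x ∈ P, x ^ 2 ∈ (P ⊓ N) ⊔ ⁅P, P⁆)
    (hQ : ∀ x ∈ P ⊓ N, x ^ 2 ∈ ⁅P ⊓ N, P ⊓ N⁆)
    (hodd : Odd (Nat.card (Abelianization N))) :
    ∀ x ∈ P, x ^ 2 ∈ ⁅P, P⁆ := by
  classical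
  have : Fintype M := Fintype.ofFinite M
  intro x hx
  let φ : P →* Abelianization P := Abelianization.of
  let V : M →* Abelianization P := MonoidHom.transfer φ
  have hA : IsPGroup 2 (Abelianization P) := hPp.of_surjective φ Quotient.mk''_surjective
  have hcop : ∀ a : Abelianization P, ∀ m : ℕ, Odd m → a ^ m = 1 → a = 1 := by
    intro a m hm ha
    obtain ⟨k, hk⟩ := (hA a)
    have h1 : orderOf a ∣ m := orderOf_dvd_of_pow_eq_one ha
    have h2 : orderOf a ∣ 2 ^ k := orderOf_dvd_of_pow_eq_one hk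
    have : orderOf a ∣ 1 := by
      have hc : Nat.Coprime m (2 ^ k) := (Nat.coprime_two_right.mpr hm).pow_right k
      exact hc ▸ Nat.dvd_gcd h1 h2
    exact orderOf_eq_one_iff.mp (Nat.dvd_one.mp this)
  -- the transfer is trivial on N and on commutators
  have hVN : ∀ n ∈ N, V n = 1 := by
    intro n hn
    let f : Abelianization N →* Abelianization P := Abelianization.lift (V.comp N.subtype)
    have h1 : f (Abelianization.of ⟨n, hn⟩) = 1 := by
      apply hcop _ (Nat.card (Abelianization N)) hodd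
      rw [← map_pow, pow_card_eq_one', map_one]
    simpa [f] using h1
  have hVc : ∀ y ∈ ⁅P, P⁆, V y = 1 := by
    intro y hy
    have : y ∈ commutator M := Subgroup.commutator_mono le_top le_top hy
    exact Abelianization.commutator_subset_ker V this
  -- image of Q in the abelianization has exponent two
  have hφQ : ∀ q : P, (q : M) ∈ N ⊔ ⁅P, P⁆ → φ q ^ 2 = 1 := by
    intro q hq
    have hN' : N ⊔ ⁅P, P⁆ = N ⊔ ⁅P, P⁆ := rfl
    obtain ⟨n, hn, c, hc, hnc⟩ := Subgroup.mem_sup_of_normal_left.mp hq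
    have hcP : c ∈ P := Subgroup.commutator_le_self P hc
    have hnP : n ∈ P := by
      have : n = (q : M) * c⁻¹ := by rw [← hnc]; group
      rw [this]; exact mul_mem q.2 (inv_mem hcP)
    have hc1 : φ ⟨c, hcP⟩ = 1 := by
      have : (⟨c, hcP⟩ : P) ∈ commutator P := by
        have h := Subgroup.map_subtype_commutator P
        have hc' : c ∈ (commutator P).map P.subtype := by rw [h]; exact hc
        obtain ⟨d, hd, hdc⟩ := hc'
        have : d = ⟨c, hcP⟩ := Subtype.ext hdc
        exact this ▸ hd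
      exact (QuotientGroup.eq_one_iff _).mpr this
    have hq' : q = ⟨n, hnP⟩ * ⟨c, hcP⟩ := Subtype.ext hnc.symm
    rw [hq', map_mul, hc1, mul_one, ← map_pow]
    have h2 : n ^ 2 ∈ ⁅P, P⁆ :=
      Subgroup.commutator_mono inf_le_left inf_le_left (hQ n ⟨hnP, hn⟩)
    have : (⟨n, hnP⟩ ^ 2 : P) ∈ commutator P := by
      have h := Subgroup.map_subtype_commutator P
      rw [← h] at h2
      obtain ⟨d, hd, hdc⟩ := h2
      have : d = ⟨n, hnP⟩ ^ 2 := Subtype.ext (by simpa using hdc)
      exact this ▸ hd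
    exact (QuotientGroup.eq_one_iff _).mpr this
  -- M/(N P') is abelian
  have hMab : commutator M ≤ N ⊔ ⁅P, P⁆ := by
    have key : ∀ g : M, ∃ n ∈ N, ∃ y ∈ P, n * y = g := fun g =>
      Subgroup.mem_sup_of_normal_left.mp (hsup ▸ Subgroup.mem_top g)
    let π := QuotientGroup.mk' N
    have htop : Subgroup.map π P = ⊤ := by
      have := congrArg (Subgroup.map π) hsup
      rw [Subgroup.map_sup, QuotientGroup.map_mk'_self, bot_sup_eq,
        Subgroup.map_top_of_surjective π (QuotientGroup.mk'_surjective N)] at this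
      exact this
    have h2 : (commutator M).map π ≤ (⁅P, P⁆).map π := by
      rw [commutator_def, Subgroup.map_commutator, Subgroup.map_commutator, htop,
        Subgroup.map_top_of_surjective π (QuotientGroup.mk'_surjective N)]
    have := Subgroup.map_le_iff_le_comap.mp h2
    rw [Subgroup.comap_map_eq, QuotientGroup.ker_mk', sup_comm] at this
    exact this
  have hxP : ∀ r : ℕ, x ^ r ∈ P := fun r => pow_mem hx r
  -- compute the transfer of x
  let O := Quotient (orbitRel (Subgroup.zpowers x) (M ⧸ P))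
  let r : O → ℕ := fun q => Function.minimalPeriod (x • ·) q.out
  have hfac : ∀ q : O, ∀ h, φ ⟨q.out.out⁻¹ * x ^ r q * q.out.out, h⟩ ^ 2 = φ ⟨x, hx⟩ ^ (2 * r q) := by
    intro q h
    have hmem : ((⟨q.out.out⁻¹ * x ^ r q * q.out.out, h⟩ : P) * (⟨x, hx⟩ ^ r q)⁻¹ : P).1 ∈ N ⊔ ⁅P, P⁆ := by
      apply hMab
      simp only [Subgroup.coe_mul, Subgroup.coe_inv, SubmonoidClass.coe_pow]
      have : q.out.out⁻¹ * x ^ r q * q.out.out * (x ^ r q)⁻¹ = ⁅(q.out.out)⁻¹, x ^ r q⁆ := by
        rw [commutatorElement_def]; group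
      rw [this]
      exact Subgroup.commutator_mem_commutator (Subgroup.mem_top _) (Subgroup.mem_top _)
    have h1 := hφQ _ hmem
    rw [map_mul, map_inv, map_pow, mul_pow, inv_pow, mul_inv_eq_one, ← pow_mul] at h1
    rw [h1, mul_comm]
  have hsum : ∑ q : O, r q = P.index := by
    rw [Subgroup.index_eq_card, Nat.card_congr (Subgroup.quotientEquivSigmaZMod P x), Nat.card_sigma]
    exact Finset.sum_congr rfl fun q _ => (Nat.card_zmod _).symm
  have hV : V x ^ 2 = φ ⟨x, hx⟩ ^ (2 * P.index) := by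
    show (MonoidHom.transfer φ x) ^ 2 = _
    rw [MonoidHom.transfer_eq_prod_quotient_orbitRel_zpowers_quot φ x, ← Finset.prod_pow,
      ← hsum, Finset.mul_sum, ← Finset.prod_pow_eq_pow_sum]
    exact Finset.prod_congr rfl fun q _ => hfac q _
  have hVx : V x ^ 2 = 1 := by
    rw [← map_pow]
    have hx2 := hP x hx
    have hle : (P ⊓ N) ⊔ ⁅P, P⁆ ≤ V.ker :=
      sup_le (fun y hy => hVN y hy.2) (fun y hy => hVc y hy)
    exact hle hx2
  rw [hVx, pow_mul] at hV
  have : φ (⟨x, hx⟩ ^ 2) = 1 := by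
    rw [map_pow]; exact hcop _ _ hidx hV.symm
  have h3 : (⟨x, hx⟩ ^ 2 : P) ∈ commutator P := (QuotientGroup.eq_one_iff _).mp this
  rw [← Subgroup.map_subtype_commutator P]
  exact ⟨_, h3, by simp⟩

/-- Let N be a normal subgroup of the finite group G, P a Sylow 2-subgroup of G and Q = P ∩ N. Suppose that P/QP' and Q/Q' are elementary abelian (every square of an element of P lies in the subgroup generated by Q and the derived subgroup of P, and every square of an element of Q lies in the derived subgroup of Q), and that the commutator factor group N/N' has odd order. Then P/P' is elementary abelian. -/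
theorem result {G : Type*} [Group G] [Finite G] (N : Subgroup G) [N.Normal] (P : Sylow 2 G)
    (hP : ∀ x ∈ (P : Subgroup G), x ^ 2 ∈ ((P : Subgroup G) ⊓ N) ⊔ ⁅(P : Subgroup G), (P : Subgroup G)⁆)
    (hQ : ∀ x ∈ (P : Subgroup G) ⊓ N, x ^ 2 ∈ ⁅(P : Subgroup G) ⊓ N, (P : Subgroup G) ⊓ N⁆)
    (hodd : Odd (Nat.card (Abelianization N))) :
    ∀ x ∈ (P : Subgroup G), x ^ 2 ∈ ⁅(P : Subgroup G), (P : Subgroup G)⁆ := by
  intro x hx
  let M : Subgroup G := N ⊔ (P : Subgroup G)
  let N' : Subgroup M := N.subgroupOf M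
  let P' : Subgroup M := (P : Subgroup G).subgroupOf M
  have hNM : N ≤ M := le_sup_left
  have hPM : (P : Subgroup G) ≤ M := le_sup_right
  have eP : P'.map M.subtype = (P : Subgroup G) := Subgroup.map_subgroupOf_eq_of_le hPM
  have eN : N'.map M.subtype = N := Subgroup.map_subgroupOf_eq_of_le hNM
  have hinj : Function.Injective M.subtype := Subtype.coe_injective
  have eQ : (P' ⊓ N').map M.subtype = (P : Subgroup G) ⊓ N := by
    rw [Subgroup.map_inf _ _ _ hinj, eP, eN]
  have hsup : N' ⊔ P' = ⊤ := by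
    apply Subgroup.map_injective hinj
    rw [Subgroup.map_sup, eP, eN, ← MonoidHom.range_eq_map, Subgroup.range_subtype]
  have hidx : Odd P'.index := by
    rw [← Nat.not_even_iff_odd, even_iff_two_dvd]
    intro h
    exact P.not_dvd_index (h.trans (Subgroup.relIndex_dvd_index_of_le hPM))
  have hodd' : Odd (Nat.card (Abelianization N')) := by
    rwa [Nat.card_congr ((Subgroup.subgroupOfEquivOfLe hNM).abelianizationCongr).toEquiv]
  have back : ∀ (S : Subgroup M) (S₀ : Subgroup G), S.map M.subtype = S₀ → ∀ y : M, (y : G) ∈ S₀ → y ∈ S := by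
    intro S S₀ h y hy
    rw [← h] at hy
    obtain ⟨z, hz, hzy⟩ := hy
    exact (hinj hzy) ▸ hz
  have key := core N' P' (P.isPGroup'.comap_subtype) hidx hsup
    (fun y hy => back _ _ (by rw [Subgroup.map_sup, eQ, Subgroup.map_commutator, eP]) _
      (by simpa using hP (y : G) hy))
    (fun y hy => back _ _ (by rw [Subgroup.map_commutator, eQ]) _
      (by simpa using hQ (y : G) ⟨hy.1, hy.2⟩))
    hodd' ⟨x, hPM hx⟩ hx
  have := Subgroup.mem_map_of_mem M.subtype key
  rw [Subgroup.map_commutator, eP] at this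
  simpa using this

end Cfsg.Agent.S4582
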