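import Cfsg.Statements.S4583
import Cfsg.Agent.Lib.Blocks.Kulshammer
import Cfsg.Agent.Lib.Blocks.Covering
import Cfsg.Agent.Lib.Blocks.Extended
import Cfsg.Agent.Lib.Glauberman.PGroup
import Cfsg.Agent.Lib.CT.Clifford

set_option autoImplicit false
set_option linter.all false
open Cfsg

namespace Cfsg.Agent.S4583

open Cfsg.Agent.Blocks in
/-- The principal block coefficients modulo the local ideal. -/
theorem coeff_red {G : Type*} [Group G] [Finite G] {p : ℕ} [Fact p.Prime] {M : Ideal Cfsg.AlgInt}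
    [M.IsPrime] (hM : Cfsg.IsPModular p M) {g : G} (hg : ¬ p ∣ orderOf g) :
    (Nat.card {y : G // ¬ p ∣ orderOf y} : Res M) *
        red M ⟨Cfsg.blockCoeff (Cfsg.principalBlock M G) g, blockCoeff_mem_loc isPBlock_principalBlock g⟩ =
      (Nat.card {xy : G × G // (∃ k : ℕ, orderOf xy.1 = p ^ k) ∧ ¬ p ∣ orderOf xy.2 ∧
        xy.1 * xy.2 = g} : Res M) := by
  have h := principalBlock_coeff_congr hM hg
  haveI : Nonempty {y : G // ¬ p ∣ orderOf y} :=
    ⟨⟨1, by rw [orderOf_one]; exact hM.1.not_dvd_one⟩⟩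
  have hR : (Nat.card {y : G // ¬ p ∣ orderOf y} : ℂ) ≠ 0 :=
    Nat.cast_ne_zero.mpr Nat.card_pos.ne'
  have h1 := memLocalIdeal_mul_left (M := M)
    (natCast_mem (Loc M) (Nat.card {y : G // ¬ p ∣ orderOf y})) h
  rw [mul_sub, mul_div_cancel₀ _ hR] at h1
  rw [← map_natCast (red M), ← map_natCast (red M) (Nat.card {xy : G × G // _}), ← map_mul,
    red_eq_iff]
  exact_mod_cast h1

open Cfsg.Agent.Blocks in
theorem reg_ne_zero {G : Type*} [Group G] [Finite G] {p : ℕ} [Fact p.Prime]
    {M : Ideal Cfsg.AlgInt} [M.IsPrime] (hM : Cfsg.IsPModular p M) :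
    (Nat.card {y : G // ¬ p ∣ orderOf y} : Res M) ≠ 0 := by
  have hone : ¬ p ∣ orderOf (1 : G) := by rw [orderOf_one]; exact hM.1.not_dvd_one
  have h := coeff_red hM hone
  have hN : Nat.card {xy : G × G // (∃ k : ℕ, orderOf xy.1 = p ^ k) ∧ ¬ p ∣ orderOf xy.2 ∧
      xy.1 * xy.2 = 1} = 1 := by
    refine Nat.card_eq_one_iff_exists.mpr ⟨⟨(1, 1), ⟨0, by simp⟩, hone, mul_one 1⟩, fun z => ?_⟩
    obtain ⟨⟨x, y⟩, ⟨k, hk⟩, hy, hxy⟩ := z
    have hx : x = y⁻¹ := eq_inv_of_mul_eq_one_left hxy
    have hk0 : k = 0 := by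
      by_contra hk0
      apply hy
      show p ∣ orderOf y
      rw [← orderOf_inv, ← hx, hk]
      exact dvd_pow_self p hk0
    have hx1 : x = 1 := orderOf_eq_one_iff.mp (by rw [hk, hk0, pow_zero])
    have hy1 : y = 1 := inv_eq_one.mp (hx ▸ hx1)
    subst hx1 hy1
    rfl
  intro h0
  rw [h0, zero_mul, hN, Nat.cast_one] at h
  exact zero_ne_one h

/-- Factorisations fixed by a Sylow subgroup centralising a regular element. -/
theorem count_fixed {G : Type*} [Group G] [Finite G] {p : ℕ} [Fact p.Prime] (P : Sylow p G)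
    {k : Type*} [CommRing k] [CharP k p] {g : G} (hg : ¬ p ∣ orderOf g)
    (hc : ∀ a ∈ (P : Subgroup G), a * g = g * a) :
    (Nat.card {xy : G × G // (∃ j : ℕ, orderOf xy.1 = p ^ j) ∧ ¬ p ∣ orderOf xy.2 ∧
      xy.1 * xy.2 = g} : k) = 1 := by
  classical
  let X := {xy : G × G // (∃ j : ℕ, orderOf xy.1 = p ^ j) ∧ ¬ p ∣ orderOf xy.2 ∧
    xy.1 * xy.2 = g}
  letI : Fintype X := Fintype.ofFinite _
  have hmem : ∀ (a : (P : Subgroup G)) (z : X),
      (∃ j : ℕ, orderOf (MulAut.conj (a : G) z.1.1) = p ^ j) ∧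
        ¬ p ∣ orderOf (MulAut.conj (a : G) z.1.2) ∧
        MulAut.conj (a : G) z.1.1 * MulAut.conj (a : G) z.1.2 = g := fun a z => by
    refine ⟨?_, ?_, ?_⟩
    · rw [MulEquiv.orderOf_eq]; exact z.2.1
    · rw [MulEquiv.orderOf_eq]; exact z.2.2.1
    · rw [← map_mul, z.2.2.2, MulAut.conj_apply, hc a a.2, mul_inv_cancel_right]
  let f : ↥(P : Subgroup G) → X → X := fun a z =>
    ⟨(MulAut.conj (a : G) z.1.1, MulAut.conj (a : G) z.1.2), hmem a z⟩
  have f1 : ∀ z, f 1 z = z := fun z => Subtype.ext (by simp [f])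
  have fm : ∀ a b z, f (a * b) z = f a (f b z) := fun a b z => Subtype.ext (by simp [f, mul_assoc])
  let act : ↥(P : Subgroup G) →* Equiv.Perm X :=
    { toFun := fun a =>
        { toFun := f a
          invFun := f a⁻¹
          left_inv := fun z => by rw [← fm, inv_mul_cancel, f1]
          right_inv := fun z => by rw [← fm, mul_inv_cancel, f1] }
      map_one' := Equiv.ext f1
      map_mul' := fun a b => Equiv.ext (fm a b) }
  have h := Glauberman.sum_eq_sum_fixed P.2 act (fun _ : X => (1 : k)) (fun _ _ => rfl)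
  simp only [Finset.sum_const, Finset.card_univ, nsmul_eq_mul, mul_one] at h
  show (Nat.card X : k) = 1
  rw [Nat.card_eq_fintype_card, h, ← Nat.cast_one]
  congr 1
  rw [Finset.card_eq_one]
  refine ⟨⟨(1, g), ⟨0, by simp⟩, hg, one_mul g⟩, ?_⟩
  ext z
  simp only [Finset.mem_filter, Finset.mem_univ, true_and, Finset.mem_singleton]
  constructor
  · intro hz
    obtain ⟨⟨x, y⟩, ⟨j, hj⟩, hy, hxy⟩ := z
    have hfix : ∀ a : (P : Subgroup G), (a : G) * x = x * a ∧ (a : G) * y = y * a := fun a => by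
      have h := congrArg Subtype.val (hz a)
      simp only [act, f, MonoidHom.coe_mk, OneHom.coe_mk, Equiv.coe_fn_mk, Prod.mk.injEq,
        MulAut.conj_apply, mul_inv_eq_iff_eq_mul] at h
      exact h
    have hxP : x ∈ (P : Subgroup G) := by
      have hp' : IsPGroup p (Subgroup.zpowers x) :=
        IsPGroup.of_card (n := j) (by rw [Nat.card_zpowers]; exact hj)
      have hle : x ∈ Subgroup.zpowers x ⊓ Subgroup.normalizer ((P : Subgroup G) : Set G) := by
        refine ⟨Subgroup.mem_zpowers x, Subgroup.centralizer_le_normalizer _ ?_⟩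
        rw [Subgroup.mem_centralizer_iff]
        exact fun a ha => (hfix ⟨a, ha⟩).1
      exact ((SetLike.ext_iff.mp (hp'.inf_normalizer_sylow P) x).mp hle).2
    have hcomm : Commute x y := (hfix ⟨x, hxP⟩).2
    have hgy : Commute g y⁻¹ := by
      rw [← hxy]
      exact ((hcomm.mul_left (Commute.refl y)).inv_right)
    have hxe : x = g * y⁻¹ := eq_mul_inv_of_mul_eq hxy
    have hd : orderOf x ∣ Nat.lcm (orderOf g) (orderOf y) := by
      rw [hxe, ← orderOf_inv y]
      exact hgy.orderOf_mul_dvd_lcm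
    have hj0 : j = 0 := by
      by_contra hj0
      have h1 : p ∣ orderOf g * orderOf y := (dvd_pow_self p hj0).trans
        (hj ▸ hd.trans (Nat.lcm_dvd_mul _ _))
      exact ((Fact.out : p.Prime).dvd_mul.mp h1).elim hg hy
    have hx1 : x = 1 := orderOf_eq_one_iff.mp (by rw [hj, hj0, pow_zero])
    apply Subtype.ext
    show (x, y) = (1, g)
    rw [← hxy, hx1, one_mul]
  · rintro rfl a
    apply Subtype.ext
    show (MulAut.conj (a : G) 1, MulAut.conj (a : G) g) = ((1 : G), g)
    rw [map_one, MulAut.conj_apply, hc a a.2, mul_inv_cancel_right]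

open Cfsg.Agent.Blocks in
/-- The restricted principal block coefficients sum to a unit. -/
theorem sum_coeff_ne_zero {G : Type*} [Group G] [Finite G] {p : ℕ} [Fact p.Prime]
    {M : Ideal Cfsg.AlgInt} [M.IsPrime] (hM : Cfsg.IsPModular p M) (P : Sylow p G)
    (H : Subgroup G) [Fintype H] (hPH : (P : Subgroup G) ≤ H) :
    ∑ h : H, red M ⟨Cfsg.blockCoeff (Cfsg.principalBlock M G) (h : G),
      blockCoeff_mem_loc isPBlock_principalBlock (h : G)⟩ ≠ 0 := by
  classical
  haveI := charP_res hM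
  set c : G → Res M := fun g => red M ⟨Cfsg.blockCoeff (Cfsg.principalBlock M G) g,
    blockCoeff_mem_loc isPBlock_principalBlock g⟩ with hc
  have hA := fun g => blockCoeff_mem_loc (isPBlock_principalBlock (M := M) (G := G)) g
  have hcl : ∀ a g : G, c (a * g * a⁻¹) = c g := fun a g => by
    simp only [hc]
    congr 1
    exact Subtype.ext ((mem_center_iff_isClassFn _).mp
      (idemC_mem_center (Cfsg.principalBlock M G)) g a)
  have hsing : ∀ g : G, p ∣ orderOf g → c g = 0 := fun g hg => by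
    simp only [hc, blockCoeff_eq_zero_of_singular hM hA hg]
    exact map_zero _
  let ι : ↥(P : Subgroup G) →* H := Subgroup.inclusion hPH
  let act : ↥(P : Subgroup G) →* Equiv.Perm H :=
    { toFun := fun a => (MulAut.conj (ι a)).toEquiv
      map_one' := by ext x; simp
      map_mul' := fun a b => by ext x; simp [mul_assoc] }
  have h := Glauberman.sum_eq_sum_fixed P.2 act (fun h : H => c h) (fun a x => hcl (a : G) x)
  show ∑ h : H, c h ≠ 0
  rw [h]
  set C : Subgroup H := Subgroup.centralizer (((P : Subgroup G).subgroupOf H : Subgroup H) : Set H)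
    with hC
  have hfil : ∀ x : H, (∀ a, act a x = x) ↔ x ∈ C := by
    intro x
    rw [hC, Subgroup.mem_centralizer_iff]
    constructor
    · intro hx a ha
      have := hx ⟨(a : G), ha⟩
      have e : ι ⟨(a : G), ha⟩ = a := Subtype.ext rfl
      simp only [act, MonoidHom.coe_mk, OneHom.coe_mk, MulEquiv.toEquiv_eq_coe, EquivLike.coe_coe,
        MulAut.conj_apply, e, mul_inv_eq_iff_eq_mul] at this
      exact this
    · intro hx a
      have := hx (ι a) a.2
      simp only [act, MonoidHom.coe_mk, OneHom.coe_mk, MulEquiv.toEquiv_eq_coe, EquivLike.coe_coe,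
        MulAut.conj_apply, mul_inv_eq_iff_eq_mul]
      exact this
  have hm : (Nat.card {y : C // ¬ p ∣ orderOf y} : Res M) ≠ 0 := reg_ne_zero hM
  have key : (Nat.card {y : G // ¬ p ∣ orderOf y} : Res M) *
      ∑ x ∈ Finset.univ.filter (fun x : H => ∀ a, act a x = x), c x =
      (Nat.card {y : C // ¬ p ∣ orderOf y} : Res M) := by
    rw [Finset.mul_sum, ← Finset.sum_filter_add_sum_filter_not
      (Finset.univ.filter (fun x : H => ∀ a, act a x = x)) (fun x : H => p ∣ orderOf x)]
    rw [Finset.sum_eq_zero fun x hx => by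
      rw [hsing (x : G) (by rw [Subgroup.orderOf_coe]; exact (Finset.mem_filter.mp hx).2), mul_zero],
      zero_add, Finset.sum_congr rfl (g := fun _ => (1 : Res M)) fun x hx => by
        obtain ⟨hx1, hx2⟩ := Finset.mem_filter.mp hx
        have hxC := (hfil x).mp (Finset.mem_filter.mp hx1).2
        have hreg : ¬ p ∣ orderOf (x : G) := by rw [Subgroup.orderOf_coe]; exact hx2
        rw [coeff_red hM hreg]
        exact count_fixed P hreg fun a ha => congrArg Subtype.val
          (Subgroup.mem_centralizer_iff.mp hxC ⟨a, hPH ha⟩ ha)]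
    rw [Finset.sum_const, nsmul_eq_mul, mul_one, Finset.filter_filter, ← Fintype.card_subtype,
      ← Nat.card_eq_fintype_card]
    congr 1
    exact Nat.card_congr
      { toFun := fun x => ⟨⟨x.1, (hfil x.1).mp x.2.1⟩, by rw [← Subgroup.orderOf_coe]; exact x.2.2⟩
        invFun := fun y => ⟨y.1.1, (hfil y.1.1).mpr y.1.2, by rw [Subgroup.orderOf_coe]; exact y.2⟩
        left_inv := fun x => rfl
        right_inv := fun y => rfl }
  intro h0
  rw [h0, mul_zero] at key
  exact hm key.symm

/-- Let N be a normal subgroup of the finite group G, p a prime, M a maximal ideal of the algebraic integers containing p, and P a Sylow p-subgroup of G. Let θ be an irreducible character of N of degree prime to p lying in the principal p-block of N, and suppose θ extends to the subgroup NP (some irreducible character of NP restricts to θ). Then some irreducible character χ of G of degree prime to p in the principal p-block of G lies over θ (θ is a constituent of the restriction of χ to N).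 -/
theorem result {G : Type*} [Group G] [Finite G] (N : Subgroup G) [N.Normal] (p : ℕ) [Fact p.Prime] (M : Ideal Cfsg.AlgInt) (hM : Cfsg.IsPModular p M) (P : Sylow p G)
    (θ : Cfsg.IrrCharacter N) (hθ : θ ∈ Cfsg.principalBlock M N) (hdeg : ¬ p ∣ Cfsg.charDegree (θ : N → ℂ))
    (hext : ∃ η : Cfsg.IrrCharacter ↥(N ⊔ (P : Subgroup G)), ∀ n : N, (η : ↥(N ⊔ (P : Subgroup G)) → ℂ) (Subgroup.inclusion le_sup_left n) = (θ : N → ℂ) n) :
    ∃ χ : Cfsg.IrrCharacter G, χ ∈ Cfsg.principalBlock M G ∧ ¬ p ∣ Cfsg.charDegree (χ : G → ℂ) ∧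
      haveI := Fintype.ofFinite N; Cfsg.classInner (fun n : N => (χ : G → ℂ) n) (θ : N → ℂ) ≠ 0 := by
  classical
  haveI := Blocks.isPrime_of_modular hM
  haveI := Blocks.charP_res hM
  letI := Fintype.ofFinite G
  letI := Fintype.ofFinite N
  set H : Subgroup G := N ⊔ (P : Subgroup G) with hH
  letI := Fintype.ofFinite H
  obtain ⟨η, hη⟩ := hext
  let N' : Subgroup H := N.subgroupOf H
  letI := Fintype.ofFinite N'
  have hidx : ∃ k : ℕ, N'.index = p ^ k := by
    have h1 : N'.index ∣ Nat.card (P : Subgroup G) := by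
      show N.relIndex H ∣ _
      rw [hH, Subgroup.relIndex_sup_left]
      exact Subgroup.relIndex_dvd_card N (P : Subgroup G)
    obtain ⟨k, hk⟩ := IsPGroup.iff_card.mp P.2
    rw [hk] at h1
    obtain ⟨i, -, hi⟩ := (Nat.dvd_prime_pow (Fact.out : p.Prime)).mp h1
    exact ⟨i, hi⟩
  let e : N' ≃* N := Subgroup.subgroupOfEquivOfLe le_sup_left
  let θ' : Cfsg.IrrCharacter N' := Blocks.compIrr e θ
  have hηθ : ∀ n : N', (η : H → ℂ) n = (θ' : N' → ℂ) n := fun n => hη (e n)
  have hηB : η ∈ Cfsg.principalBlock M H := by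
    refine Blocks.mem_of_supported (Blocks.isPBlock_principalBlock (M := M) (G := H))
      (fun u hu => Blocks.supported_of_pow_index hM hidx Blocks.isPBlock_principalBlock hu)
      (Blocks.trivIrr_mem_principalBlock) (θ := CT.trivIrr N') (θ' := θ') ?_ ?_ ?_
    · simp [Cfsg.classInner]
    · rw [show (fun n : N' => (η : H → ℂ) n) = (θ' : N' → ℂ) from funext hηθ,
        CT.irr_inner_self θ'.2]
      exact one_ne_zero
    · have h1 : Blocks.compIrr e (CT.trivIrr N) = CT.trivIrr N' := Subtype.ext (funext fun _ => rfl)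
      rw [← h1]
      exact Blocks.sameBlock_compIrr e hθ
  -- the block part of the induced character
  have hA := Blocks.blockCoeff_mem_loc (Blocks.isPBlock_principalBlock (M := M) (G := G))
  set z := Blocks.resZ H (Blocks.bIdem M (Cfsg.principalBlock M G)) with hz
  set B := (Finset.univ : Finset (Cfsg.IrrCharacter G)).filter
    (fun χ => χ ∈ Cfsg.principalBlock M G) with hBdef
  set A := ∑ χ ∈ B, CT.mult (fun h : H => (χ : G → ℂ) h) (η : H → ℂ) * CT.deg (χ : G → ℂ) with hAdef
  have hev : (A : ℂ) = (H.index : ℂ) * (CT.deg (η : H → ℂ) : ℂ) *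
      ((Blocks.omegaL M η z : Blocks.Loc M) : ℂ) := by
    have hηc := CT.isCharacter_of_isIrr η.2
    have hω : ((Blocks.omegaL M η z : Blocks.Loc M) : ℂ) =
        (∑ h : H, Cfsg.blockCoeff (Cfsg.principalBlock M G) (h : G) * (η : H → ℂ) h) /
          (η : H → ℂ) 1 := by
      rw [Blocks.coe_omegaL, Blocks.omega, Blocks.ev_eq_sum]
      congr 1
      refine Finset.sum_congr rfl fun h _ => ?_
      rw [Blocks.coeff_map', hz, Blocks.coe_resZ, Blocks.coeff_resH]
      congr 1
      exact Blocks.coe_coeff_bIdem hA _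
    have hsum : ∑ h : H, Cfsg.blockCoeff (Cfsg.principalBlock M G) (h : G) * (η : H → ℂ) h =
        (Nat.card G : ℂ)⁻¹ * ((Nat.card H : ℂ) * (A : ℂ)) := by
      simp only [Cfsg.blockCoeff, finsum_mem_eq_toFinset_sum, Finset.mul_sum, Finset.sum_mul]
      rw [Finset.sum_comm, hAdef]
      push_cast
      rw [Finset.mul_sum, Finset.mul_sum]
      refine Finset.sum_congr (by ext χ; simp [hBdef]) fun χ _ => ?_
      have hχc := CT.isCharacter_restrict H (CT.isCharacter_of_isIrr χ.2)
      have h1 : (CT.mult (fun h : H => (χ : G → ℂ) h) (η : H → ℂ) : ℂ) =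
          Cfsg.classInner (η : H → ℂ) (fun h : H => (χ : G → ℂ) h) := by
        rw [CT.classInner_comm_of_char hηc hχc, CT.mult_spec hχc hηc]
      rw [h1, Cfsg.classInner, CT.deg_eq (CT.isCharacter_of_isIrr χ.2) |>.symm]
      simp only [Finset.mul_sum, Finset.sum_mul]
      refine Finset.sum_congr rfl fun h _ => ?_
      field_simp [Nat.cast_ne_zero.mpr (Nat.card_pos (α := H)).ne']
      rfl
    rw [hω, hsum, ← H.card_mul_index, CT.deg_eq hηc]
    have h1 : (CT.deg (η : H → ℂ) : ℂ) ≠ 0 := Nat.cast_ne_zero.mpr (CT.deg_pos η.2).ne'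
    have h2 : (Nat.card H : ℂ) ≠ 0 := Nat.cast_ne_zero.mpr Nat.card_pos.ne'
    have h3 : (H.index : ℂ) ≠ 0 := Nat.cast_ne_zero.mpr Subgroup.index_ne_zero_of_finite
    push_cast
    field_simp
  have hS : Blocks.red M (Blocks.omegaL M η z) ≠ 0 := by
    have hs : Cfsg.SameBlock M (CT.trivIrr H : H → ℂ) (η : H → ℂ) := hηB
    rw [← Blocks.red_omegaL_eq_of_sameBlock hs]
    have h1 : Blocks.omegaL M (CT.trivIrr H) z =
        ∑ h : H, (⟨Cfsg.blockCoeff (Cfsg.principalBlock M G) (h : G), hA h⟩ : Blocks.Loc M) := by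
      refine Subtype.ext ?_
      rw [Blocks.coe_omegaL, Blocks.omega, Blocks.ev_eq_sum, AddSubmonoidClass.coe_finset_sum]
      simp only [CT.trivIrr_apply, mul_one, div_one]
      refine Finset.sum_congr rfl fun h _ => ?_
      rw [Blocks.coeff_map', hz, Blocks.coe_resZ, Blocks.coeff_resH]
      exact Blocks.coe_coeff_bIdem hA _
    rw [h1, map_sum]
    exact sum_coeff_ne_zero hM P H le_sup_right
  have hd : CT.deg (η : H → ℂ) = Cfsg.charDegree (θ : N → ℂ) := by
    have h := hη 1
    show ⌊((η : H → ℂ) 1).re⌋₊ = ⌊((θ : N → ℂ) 1).re⌋₊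
    rw [← h, map_one]
  have hAp : ¬ p ∣ A := by
    intro hdvd
    have hL : (A : Blocks.Loc M) =
        (H.index : Blocks.Loc M) * (CT.deg (η : H → ℂ) : Blocks.Loc M) * Blocks.omegaL M η z :=
      Subtype.ext (by push_cast; exact hev)
    have h0 := congrArg (Blocks.red M) hL
    rw [map_mul, map_mul, map_natCast, map_natCast, map_natCast,
      (CharP.cast_eq_zero_iff (Blocks.Res M) p A).mpr hdvd] at h0
    rcases mul_eq_zero.mp h0.symm with h | h
    · rcases mul_eq_zero.mp h with h | h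
      · exact P.not_dvd_index (((CharP.cast_eq_zero_iff (Blocks.Res M) p _).mp h).trans
          (Subgroup.index_dvd_of_le le_sup_right))
      · exact hdeg (hd ▸ (CharP.cast_eq_zero_iff (Blocks.Res M) p _).mp h)
    · exact hS h
  obtain ⟨χ, hχ, hχd⟩ : ∃ χ ∈ B,
      ¬ p ∣ CT.mult (fun h : H => (χ : G → ℂ) h) (η : H → ℂ) * CT.deg (χ : G → ℂ) := by
    by_contra hh
    push Not at hh
    exact hAp (hAdef ▸ Finset.dvd_sum hh)
  refine ⟨χ, (Finset.mem_filter.mp hχ).2, fun hd' => hχd (Dvd.dvd.mul_left hd' _), ?_⟩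
  have hm0 : CT.mult (fun h : H => (χ : G → ℂ) h) (η : H → ℂ) ≠ 0 := fun h0 => hχd (by simp [h0])
  have hms := CT.sum_mult_over N θ.2 H le_sup_left (CT.isCharacter_of_isIrr χ.2)
  have hres : CT.resTo N H le_sup_left (η : H → ℂ) = (θ : N → ℂ) := funext hη
  have hθc := CT.isCharacter_of_isIrr θ.2
  have hone : CT.mult (CT.resTo N H le_sup_left (η : H → ℂ)) (θ : N → ℂ) ≠ 0 := by
    intro h0
    have := CT.mult_spec (CT.isCharacter_resTo N H le_sup_left (CT.isCharacter_of_isIrr η.2)) hθc
    rw [h0, hres, CT.irr_inner_self θ.2] at this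
    simp at this
  rw [CT.mult_spec (CT.isCharacter_restrict N (CT.isCharacter_of_isIrr χ.2)) hθc, Nat.cast_ne_zero,
    hms]
  intro h0
  have := (Finset.sum_eq_zero_iff.mp h0) η (Finset.mem_univ _)
  exact mul_ne_zero hm0 hone this

end Cfsg.Agent.S4583
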