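import Cfsg.Statements.S4584
import Cfsg.Agent.Lib.Invol.ExtraPairs
import Cfsg.Agent.Lib.OddLocal.Rank
import Cfsg.Agent.Lib.Transfer.ClassTwo
-- import your own Cfsg.Agent.* helpers here

set_option autoImplicit false
open Cfsg

namespace Cfsg.Agent.S4584

open scoped commutatorElement

open Subgroup in
theorem comm_bot {P : Type*} [Group P] [Finite P] (p : ℕ) [hp : Fact p.Prime] (hP : Nat.card P = p ^ 4) :
    Nat.card (commutator P) = p ↔ (center P).index = p ^ 2 := by
  have hPp : IsPGroup p P := IsPGroup.of_card hP
  haveI := hPp.isNilpotent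
  haveI : Nontrivial P := Finite.one_lt_card_iff_nontrivial.1 (hP ▸ Nat.one_lt_pow (by norm_num) hp.out.one_lt)
  have hidxpow : ∃ i, (center P).index = p ^ i :=
    IsPGroup.index hPp (center P)
  obtain ⟨i, hi⟩ := hidxpow
  constructor
  · intro hc
    have hcomm : commutator P ≤ center P :=
      Cfsg.Agent.OddLocal.le_center_of_card_le hPp _ hc.le
    have hwc : ∀ a b : P, ⁅a, b⁆ ∈ center P := fun a b =>
      hcomm (commutator_mem_commutator (mem_top a) (mem_top b))
    have hpow : ∀ a : P, a ^ p ∈ center P := fun a => mem_center_iff.2 fun b => by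
      have h1 : ⁅a ^ p, b⁆ = 1 := by
        rw [Cfsg.Agent.Transfer.commutator_pow_left (mem_center_iff.1 (hwc a b) a) p]
        have := pow_card_eq_one' (x := (⟨⁅a, b⁆, commutator_mem_commutator (mem_top a) (mem_top b)⟩ : commutator P))
        rw [hc] at this
        exact congrArg Subtype.val this
      exact (commutatorElement_eq_one_iff_mul_comm.1 h1).symm
    have hZne : center P ≠ ⊤ := by
      intro h
      have : commutator P = ⊥ := by
        rw [_root_.commutator_def, eq_bot_iff, commutator_le]
        intro a _ b _
        rw [Subgroup.mem_bot, commutatorElement_eq_one_iff_mul_comm]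
        exact (mem_center_iff.1 (h ▸ mem_top a) b).symm
      rw [this, Subgroup.card_bot] at hc
      exact hp.out.one_lt.ne hc
    have hZc := (center P).card_mul_index
    rw [hi, hP] at hZc
    have hi4 : i ≤ 4 := (Nat.pow_dvd_pow_iff_le_right hp.out.one_lt).1 (Dvd.intro_left _ hZc)
    rcases (show i = 0 ∨ i = 1 ∨ i = 2 ∨ i = 3 ∨ i = 4 by omega) with rfl | rfl | rfl | rfl | rfl
    · exact absurd (Subgroup.index_eq_one.1 (by simpa using hi)) hZne
    · exfalso
      haveI : IsCyclic (P ⧸ center P) := isCyclic_of_prime_card (p := p) (by rw [← Subgroup.index_eq_card, hi, pow_one])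
      refine hZne (eq_top_iff.2 fun a _ => mem_center_iff.2 fun b => ?_)
      exact commutative_of_cyclic_center_quotient (QuotientGroup.mk' (center P)) (QuotientGroup.ker_mk' _).le b a
    · exact hi
    · exfalso
      -- an extraspecial group of order `p ^ 4`
      have hZp : Nat.card (center P) = p := Nat.eq_of_mul_eq_mul_right (pow_pos hp.out.pos 3) (by rw [hZc]; ring)
      have heq : commutator P = center P := eq_of_le_of_card_ge hcomm (by rw [hZp, hc])
      obtain ⟨z, hz⟩ := (Subgroup.isCyclic_iff_exists_zpowers_eq_top (center P)).1 (isCyclic_of_prime_card (p := p) hZp)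
      have hpre : Cfsg.Agent.Invol.ExtraPairs.Pre p P z :=
        ⟨by rw [← Nat.card_zpowers, hz, hZp], hz.symm, fun a b => hz.symm ▸ hwc a b, fun a => hz.symm ▸ hpow a⟩
      obtain ⟨m, hm⟩ := hpre.card_odd_power
      rw [hP] at hm
      have := Nat.pow_right_injective hp.out.two_le hm
      omega
    · exfalso
      rw [Nat.mul_eq_right (pow_ne_zero _ hp.out.ne_zero)] at hZc
      exact (Group.IsNilpotent.center_ne_bot (G := P)) (Subgroup.eq_bot_of_card_eq _ hZc)
  · intro hidx
    have hne : commutator P ≠ ⊥ := by
      intro h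
      have : center P = ⊤ := eq_top_iff.2 fun a _ => mem_center_iff.2 fun b => by
        have hm : ⁅b, a⁆ ∈ commutator P := commutator_mem_commutator (mem_top b) (mem_top a)
        rw [h, Subgroup.mem_bot] at hm
        exact commutatorElement_eq_one_iff_mul_comm.1 hm
      rw [this, Subgroup.index_top] at hidx
      exact (Nat.one_lt_pow two_ne_zero hp.out.one_lt).ne hidx
    -- pick generators modulo the centre
    obtain ⟨x, hx⟩ : ∃ x, x ∉ center P := by
      by_contra h
      push Not at h
      rw [Subgroup.index_eq_one.2 (eq_top_iff.2 fun a _ => h a)] at hidx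
      exact (Nat.one_lt_pow two_ne_zero hp.out.one_lt).ne hidx
    set A := center P ⊔ zpowers x with hA
    obtain ⟨y, hy⟩ : ∃ y, y ∉ A := by
      by_contra h
      push Not at h
      refine hx (mem_center_iff.2 fun b => ?_)
      have hle : A ≤ centralizer ({x} : Set P) := sup_le (center_le_centralizer _)
        (zpowers_le.2 (mem_centralizer_singleton_iff.2 rfl))
      exact mem_centralizer_singleton_iff.1 (hle (h b))
    set B := A ⊔ zpowers y with hB
    have hBtop : B = ⊤ := by
      obtain ⟨j, hj⟩ := IsPGroup.index hPp A
      obtain ⟨k, hk⟩ := IsPGroup.index hPp B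
      have h1 : A.index < (center P).index := index_strictAnti (lt_of_le_of_ne le_sup_left fun e =>
        hx (e ▸ mem_sup_right (mem_zpowers x)))
      have h2 : B.index < A.index := index_strictAnti (lt_of_le_of_ne le_sup_left fun e =>
        hy (e ▸ mem_sup_right (mem_zpowers y)))
      rw [hidx, hj, Nat.pow_lt_pow_iff_right hp.out.one_lt] at h1
      rw [hj, hk, Nat.pow_lt_pow_iff_right hp.out.one_lt] at h2
      exact Subgroup.index_eq_one.1 (by rw [hk, show k = 0 by omega, pow_zero])
    haveI : IsMulCommutative (zpowers ⁅x, y⁆) := inferInstance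
    have hZA : ∀ c ∈ center P, ∀ a, Commute c a := fun c hc a => (mem_center_iff.1 hc a).symm
    -- the quotient by the centre is abelian
    have hwc : ∀ a b : P, ⁅a, b⁆ ∈ center P := by
      have hquot : IsMulCommutative (P ⧸ center P) :=
        IsPGroup.isMulCommutative_of_card_eq_prime_sq (p := p) hidx
      intro a b
      rw [← QuotientGroup.eq_one_iff, ← QuotientGroup.mk'_apply, map_commutatorElement,
        commutatorElement_eq_one_iff_mul_comm]
      exact hquot.is_comm.comm _ _
    have hpow : x ^ p ∈ center P := by
      by_contra hxp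
      -- then `x` would generate the quotient
      refine hx (mem_center_iff.2 fun b => ?_)
      have h1 : orderOf (QuotientGroup.mk x : P ⧸ center P) = p ^ 2 := by
        have h2 : orderOf (QuotientGroup.mk x : P ⧸ center P) ∣ p ^ 2 := hidx ▸ orderOf_dvd_natCard _
        obtain ⟨j, hj, hje⟩ := (Nat.dvd_prime_pow hp.out).1 h2
        rcases (show j ≤ 1 ∨ j = 2 by omega) with h | rfl
        · exfalso
          refine hxp ((QuotientGroup.eq_one_iff _).1 (?_ : (QuotientGroup.mk (x ^ p) : P ⧸ center P) = 1))
          rw [QuotientGroup.mk_pow]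
          exact orderOf_dvd_iff_pow_eq_one.1 (hje ▸ (pow_dvd_pow p h).trans (pow_one p).dvd)
        · exact hje
      haveI : IsCyclic (P ⧸ center P) := isCyclic_of_orderOf_eq_card _ (h1.trans hidx.symm)
      exact commutative_of_cyclic_center_quotient (QuotientGroup.mk' (center P)) (QuotientGroup.ker_mk' _).le b x
    have hle : commutator P ≤ zpowers ⁅x, y⁆ := by
      have hnorm : (zpowers ⁅x, y⁆).Normal := ⟨fun a ha g => by
        have : a ∈ center P := (zpowers_le.2 (hwc x y)) ha
        rwa [mem_center_iff.1 this g, mul_inv_cancel_right]⟩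
      haveI := hnorm
      set π := QuotientGroup.mk' (zpowers ⁅x, y⁆)
      have hgen : ∀ g : P, g ∈ (centralizer ({π x} : Set _)).comap π ⊓ (centralizer ({π y} : Set _)).comap π := by
        intro g
        have hxy : π x * π y = π y * π x := by
          rw [← commutatorElement_eq_one_iff_mul_comm, ← map_commutatorElement]
          exact (QuotientGroup.eq_one_iff _).2 (mem_zpowers _)
        have h1 : B ≤ (centralizer ({π x} : Set _)).comap π ⊓ (centralizer ({π y} : Set _)).comap π := by
          refine sup_le (sup_le (fun c hc => ?_) (zpowers_le.2 ?_)) (zpowers_le.2 ?_) <;>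
            refine mem_inf.2 ⟨mem_centralizer_singleton_iff.2 ?_, mem_centralizer_singleton_iff.2 ?_⟩
          · exact ((hZA c hc x).map π).eq
          · exact ((hZA c hc y).map π).eq
          · rfl
          · exact hxy
          · exact hxy.symm
          · rfl
        exact h1 (hBtop ▸ mem_top g)
      rw [_root_.commutator_def, commutator_le]
      intro a _ b _
      rw [← QuotientGroup.eq_one_iff, ← QuotientGroup.mk'_apply, map_commutatorElement,
        commutatorElement_eq_one_iff_mul_comm]
      have h2 : B ≤ (centralizer ({π b} : Set _)).comap π := by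
        refine sup_le (sup_le (fun c hc => ?_) (zpowers_le.2 ?_)) (zpowers_le.2 ?_) <;>
          refine mem_centralizer_singleton_iff.2 ?_
        · exact ((hZA c hc b).map π).eq
        · exact (mem_centralizer_singleton_iff.1 (mem_inf.1 (hgen b)).1).symm
        · exact (mem_centralizer_singleton_iff.1 (mem_inf.1 (hgen b)).2).symm
      exact mem_centralizer_singleton_iff.1 (h2 (hBtop ▸ mem_top a))
    have hwp : ⁅x, y⁆ ^ p = 1 := by
      rw [← Cfsg.Agent.Transfer.commutator_pow_left (mem_center_iff.1 (hwc x y) x) p,
        commutatorElement_eq_one_iff_mul_comm]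
      exact (mem_center_iff.1 hpow y).symm
    have hw1 : ⁅x, y⁆ ≠ 1 := fun h => hne (eq_bot_iff.2 (hle.trans (by rw [h, zpowers_one_eq_bot])))
    have hcardw : Nat.card (zpowers ⁅x, y⁆) = p := by rw [Nat.card_zpowers, orderOf_eq_prime hwp hw1]
    rw [eq_of_le_of_card_ge hle ?_, hcardw]
    rw [hcardw]
    obtain ⟨e, he⟩ := IsPGroup.iff_card.1 (hPp.to_subgroup (commutator P))
    rw [he]
    exact Nat.le_self_pow (fun h => hne (Subgroup.eq_bot_of_card_eq _ (by rw [he, h, pow_zero]))) p

/-- Let p be a prime and P a group of order p^4. Then the derived subgroup P' has order p if and only if the centre Z(P) has index p^2 in P. -/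
theorem result {P : Type*} [Group P] [Finite P] (p : ℕ) [Fact p.Prime] (hP : Nat.card P = p ^ 4) :
    Nat.card (commutator P) = p ↔ (Subgroup.center P).index = p ^ 2 := by
  exact comm_bot p hP

end Cfsg.Agent.S4584
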