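import Cfsg.Statements.S4585
import Cfsg.Agent.S0662
import Cfsg.Agent.S4584
-- import your own Cfsg.Agent.* helpers here

set_option autoImplicit false
open Cfsg

namespace Cfsg.Agent.S4585

open Subgroup in
theorem main {P : Type*} [Group P] [Finite P] (p : ℕ) [hp : Fact p.Prime] (hP : Nat.card P = p ^ 4) :
    (commutator P).index = p ^ 2 ↔ Group.nilpotencyClass P = 3 := by
  have hPp : IsPGroup p P := IsPGroup.of_card hP
  haveI := hPp.isNilpotent
  have hmul := (commutator P).card_mul_index
  rw [hP] at hmul
  obtain ⟨e, he⟩ := IsPGroup.iff_card.1 (hPp.to_subgroup (commutator P))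
  obtain ⟨f, hf⟩ := IsPGroup.index hPp (commutator P)
  rw [he, hf, ← pow_add] at hmul
  have hef := Nat.pow_right_injective hp.out.two_le hmul
  have h1 : (⊤ : Subgroup P).lowerCentralSeries 1 = commutator P := Subgroup.top_lowerCentralSeries_one
  have hcyc : f ≤ 1 → commutator P = ⊥ := by
    intro hf1
    refine Cfsg.Agent.S0662.commutator_bot_of_cyclic ?_
    have hc : Nat.card (P ⧸ commutator P) = p ^ f := hf
    rcases (show f = 0 ∨ f = 1 by omega) with rfl | rfl
    · haveI := (Nat.card_eq_one_iff_unique.1 (by simpa using hc)).1
      exact isCyclic_of_subsingleton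
    · exact isCyclic_of_prime_card (p := p) (by simpa using hc)
  constructor
  · intro hi
    rw [hf] at hi
    have hf2 := Nat.pow_right_injective hp.out.two_le hi
    subst hf2
    have he2 : e = 2 := by omega
    subst he2
    have h2ne : (⊤ : Subgroup P).lowerCentralSeries 2 ≠ ⊥ := by
      intro h
      rw [Subgroup.lowerCentralSeries_succ, h1, commutator_eq_bot_iff_le_centralizer, coe_top, centralizer_univ] at h
      have hZ := (center P).card_mul_index
      obtain ⟨j, hj⟩ := IsPGroup.index hPp (center P)
      have h3 := index_dvd_of_le h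
      rw [hj, hf, Nat.pow_dvd_pow_iff_le_right hp.out.one_lt] at h3
      rcases (show j = 2 ∨ j ≤ 1 by omega) with rfl | hj1
      · have := (Cfsg.Agent.S4584.comm_bot p hP).2 hj
        rw [he] at this
        exact absurd (Nat.pow_right_injective hp.out.two_le (this.trans (pow_one p).symm)) (by norm_num)
      · haveI : IsCyclic (P ⧸ center P) := by
          have hc : Nat.card (P ⧸ center P) = p ^ j := hj
          rcases (show j = 0 ∨ j = 1 by omega) with rfl | rfl
          · haveI := (Nat.card_eq_one_iff_unique.1 (by simpa using hc)).1
            exact isCyclic_of_subsingleton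
          · exact isCyclic_of_prime_card (p := p) (by simpa using hc)
        have hbot : commutator P = ⊥ := by
          rw [_root_.commutator_def, eq_bot_iff, commutator_le]
          intro a _ b _
          rw [Subgroup.mem_bot, commutatorElement_eq_one_iff_mul_comm]
          exact commutative_of_cyclic_center_quotient (QuotientGroup.mk' (center P)) (QuotientGroup.ker_mk' _).le a b
        rw [hbot, Subgroup.card_bot] at he
        exact (Nat.one_lt_pow two_ne_zero hp.out.one_lt).ne he
    have h3bot : (⊤ : Subgroup P).lowerCentralSeries 3 = ⊥ := by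
      by_contra h
      have := Cfsg.Agent.S0662.card_bounds hPp 3 h 1 (by omega)
      rw [h1, he, Nat.pow_le_pow_iff_right hp.out.one_lt] at this
      omega
    refine le_antisymm (_root_.lowerCentralSeries_eq_bot_iff_nilpotencyClass_le.1 h3bot) ?_
    by_contra hlt
    exact h2ne (_root_.lowerCentralSeries_eq_bot_iff_nilpotencyClass_le.2 (by omega))
  · intro hc
    have h2ne : (⊤ : Subgroup P).lowerCentralSeries 2 ≠ ⊥ := fun h => by
      have := _root_.lowerCentralSeries_eq_bot_iff_nilpotencyClass_le.1 h
      omega
    have hb := Cfsg.Agent.S0662.card_bounds hPp 2 h2ne 1 (by omega)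
    rw [h1, he, Nat.pow_le_pow_iff_right hp.out.one_lt] at hb
    have hf2 : ¬ f ≤ 1 := fun hle => by
      rw [hcyc hle, Subgroup.card_bot] at he
      exact (Nat.one_lt_pow (by omega) hp.out.one_lt).ne he
    rw [hf]; congr 1; omega

/-- Let p be a prime and P a group of order p^4. Then P' has index p^2 in P if and only if P has maximal nilpotency class, that is, nilpotency class exactly 3. -/
theorem result {P : Type*} [Group P] [Finite P] (p : ℕ) [Fact p.Prime] (hP : Nat.card P = p ^ 4) :
    (commutator P).index = p ^ 2 ↔ Group.nilpotencyClass P = 3 := by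
  exact main p hP

end Cfsg.Agent.S4585
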