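import Cfsg.Statements.S4586
import Cfsg.Agent.Lib.Invol.Basic
-- import your own Cfsg.Agent.* helpers here

set_option autoImplicit false
open Cfsg

namespace Cfsg.Agent.S4586

open Subgroup in
open scoped commutatorElement in
theorem key {P : Type*} [Group P] [Finite P] (p : ℕ) [Fact p.Prime] (N : Subgroup P) [N.Normal]
    (hN : N.index = p) (x : P) (hx : x ∉ N) :
    p * Nat.card {n : N // x * n * x⁻¹ * (n : P)⁻¹ ∈ (commutator N).map N.subtype} =
      (commutator P).index * Nat.card (commutator N) := by
  have hp := (Fact.out : p.Prime)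
  set D := (commutator N).map N.subtype with hD
  haveI hDn : D.Normal := inferInstance
  set π := QuotientGroup.mk' D with hπ
  have hπs := QuotientGroup.mk'_surjective D
  have hDN : D ≤ N := map_subtype_le _
  have hker : π.ker = D := QuotientGroup.ker_mk' D
  have hab : ∀ a ∈ N, ∀ b ∈ N, π a * π b = π b * π a := by
    intro a ha b hb
    rw [← commutatorElement_eq_one_iff_mul_comm, ← map_commutatorElement, ← MonoidHom.mem_ker, hker, hD]
    exact ⟨⁅(⟨a, ha⟩ : N), ⟨b, hb⟩⁆, commutator_mem_commutator (mem_top _) (mem_top _), rfl⟩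
  have hxmem : ∀ n ∈ N, x * n * x⁻¹ * n⁻¹ ∈ N := fun n hn =>
    mul_mem ((inferInstance : N.Normal).conj_mem n hn x) (inv_mem hn)
  let φ : N →* P ⧸ D :=
    { toFun := fun n => π (x * n * x⁻¹ * (n : P)⁻¹)
      map_one' := by simp
      map_mul' := fun a b => by
        have h1 : x * ((a : P) * b) * x⁻¹ * ((a : P) * b)⁻¹ =
            (x * a * x⁻¹) * ((x * b * x⁻¹ * (b : P)⁻¹) * (a : P)⁻¹) := by group
        have h2 : x * (a : P) * x⁻¹ * (a : P)⁻¹ * (x * b * x⁻¹ * (b : P)⁻¹) =
            (x * a * x⁻¹) * ((a : P)⁻¹ * (x * b * x⁻¹ * (b : P)⁻¹)) := by group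
        calc π (x * ((a * b : N) : P) * x⁻¹ * ((a * b : N) : P)⁻¹)
            = π (x * a * x⁻¹) * (π (x * b * x⁻¹ * (b : P)⁻¹) * π (a : P)⁻¹) := by
              rw [Subgroup.coe_mul, h1, map_mul, map_mul π (x * b * x⁻¹ * (b : P)⁻¹)]
          _ = π (x * a * x⁻¹) * (π (a : P)⁻¹ * π (x * b * x⁻¹ * (b : P)⁻¹)) := by
              rw [hab _ (hxmem b b.2) _ (inv_mem a.2)]
          _ = π (x * a * x⁻¹ * (a : P)⁻¹) * π (x * b * x⁻¹ * (b : P)⁻¹) := by
              rw [map_mul π (x * a * x⁻¹) (a : P)⁻¹]; exact (mul_assoc _ _ _).symm }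
  have hkerφ : Nat.card {n : N // x * n * x⁻¹ * (n : P)⁻¹ ∈ D} = Nat.card φ.ker := by
    refine Nat.card_congr (Equiv.subtypeEquivRight fun n => ?_)
    rw [MonoidHom.mem_ker]
    exact (QuotientGroup.eq_one_iff _).symm
  -- the derived subgroup of `P` modulo `D` is the image of `φ`
  have himg : φ.range = (commutator P).map π := by
    refine le_antisymm ?_ ?_
    · rintro _ ⟨n, rfl⟩
      exact mem_map_of_mem π (commutator_mem_commutator (mem_top x) (mem_top (n : P)))
    · have hnorm : φ.range.Normal := by
        have hb : ∀ q ∈ φ.range, ∀ n ∈ N, π n * q = q * π n := by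
          rintro _ ⟨m, rfl⟩ n hn
          exact hab n hn _ (hxmem m m.2)
        have hx' : ∀ q ∈ φ.range, π x * q * (π x)⁻¹ ∈ φ.range := by
          rintro _ ⟨m, rfl⟩
          refine ⟨⟨x * m * x⁻¹, (inferInstance : N.Normal).conj_mem _ m.2 x⟩, ?_⟩
          show π (x * (x * m * x⁻¹) * x⁻¹ * (x * (m : P) * x⁻¹)⁻¹) = π x * π (x * m * x⁻¹ * (m : P)⁻¹) * (π x)⁻¹
          rw [← map_inv, ← map_mul, ← map_mul]
          congr 1
          group
        refine ⟨fun q hq g => ?_⟩
        obtain ⟨g, rfl⟩ := hπs g
        let T : Subgroup P :=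
          { carrier := {g | ∀ q ∈ φ.range, π g * q * (π g)⁻¹ ∈ φ.range}
            one_mem' := fun q hq => by simpa using hq
            mul_mem' := fun {a b} ha hb q hq => by
              rw [map_mul, show π a * π b * q * (π a * π b)⁻¹ = π a * (π b * q * (π b)⁻¹) * (π a)⁻¹ by group]
              exact ha _ (hb q hq)
            inv_mem' := fun {a} ha q hq => by
              have key : ∀ k : ℕ, ∀ q ∈ φ.range, π a ^ k * q * (π a ^ k)⁻¹ ∈ φ.range := by
                intro k
                induction k with
                | zero => intro q hq; simpa using hq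
                | succ k ih =>
                  intro q hq
                  rw [pow_succ', show π a * π a ^ k * q * (π a * π a ^ k)⁻¹ = π a * (π a ^ k * q * (π a ^ k)⁻¹) * (π a)⁻¹ by group]
                  exact ha _ (ih q hq)
              have e : π a ^ (orderOf (π a) - 1) = π a⁻¹ := by
                rw [map_inv]
                refine eq_inv_of_mul_eq_one_left ?_
                rw [← pow_succ, Nat.sub_add_cancel (orderOf_pos _), pow_orderOf_eq_one]
              rw [← e]; exact key _ q hq }
        have hNT : N ≤ T := fun n hn q hq => by rw [hb q hq n hn, mul_inv_cancel_right]; exact hq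
        have hT : T = ⊤ := by
          rcases (Nat.dvd_prime hp).1 (hN ▸ index_dvd_of_le hNT) with h | h
          · exact index_eq_one.1 h
          · exfalso
            have h1 := relIndex_mul_index hNT
            rw [hN, h] at h1
            exact hx ((relIndex_eq_one.1 ((mul_eq_right₀ hp.pos.ne').1 h1)) (fun q hq => hx' q hq))
        exact (hT ▸ mem_top g : g ∈ T) q hq
      rw [_root_.commutator_def, map_commutator, ← MonoidHom.range_eq_map, hπ, QuotientGroup.range_mk', commutator_le]
      -- modulo the range the quotient is generated by commuting elements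
      intro a _ b _
      haveI := hnorm
      rw [← QuotientGroup.eq_one_iff, ← QuotientGroup.mk'_apply, map_commutatorElement,
        commutatorElement_eq_one_iff_mul_comm]
      obtain ⟨a, rfl⟩ := hπs a
      obtain ⟨b, rfl⟩ := hπs b
      let ψ := (QuotientGroup.mk' φ.range).comp π
      show ψ a * ψ b = ψ b * ψ a
      have hgenc : N ⊔ zpowers x = ⊤ := by
        rcases (Nat.dvd_prime hp).1 (hN ▸ index_dvd_of_le (le_sup_left : N ≤ N ⊔ zpowers x)) with h | h
        · exact index_eq_one.1 h
        · exfalso
          have h1 := relIndex_mul_index (le_sup_left : N ≤ N ⊔ zpowers x)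
          rw [hN, h] at h1
          exact hx ((relIndex_eq_one.1 ((mul_eq_right₀ hp.pos.ne').1 h1)) (mem_sup_right (mem_zpowers x)))
      have hxn : ∀ n ∈ N, ψ x * ψ n = ψ n * ψ x := fun n hn => by
        rw [← commutatorElement_eq_one_iff_mul_comm, ← map_commutatorElement]
        exact (QuotientGroup.eq_one_iff _).2 ⟨⟨n, hn⟩, rfl⟩
      have hcent : ∀ g : P, ∀ n ∈ N, ψ g * ψ n = ψ n * ψ g := by
        intro g n hn
        have hle : N ⊔ zpowers x ≤ (centralizer ({ψ n} : Set _)).comap ψ := sup_le
          (fun m hm => mem_centralizer_singleton_iff.2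
            (congrArg (QuotientGroup.mk' φ.range) (hab m hm n hn)))
          (zpowers_le.2 (mem_centralizer_singleton_iff.2 (hxn n hn)))
        exact mem_centralizer_singleton_iff.1 (hle (hgenc ▸ mem_top g))
      have hle : N ⊔ zpowers x ≤ (centralizer ({ψ b} : Set _)).comap ψ := sup_le
        (fun m hm => mem_centralizer_singleton_iff.2 (hcent b m hm).symm) (zpowers_le.2 (by
          refine mem_centralizer_singleton_iff.2 ?_
          have hle' : N ⊔ zpowers x ≤ (centralizer ({ψ x} : Set _)).comap ψ := sup_le
            (fun m hm => mem_centralizer_singleton_iff.2 (hxn m hm).symm)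
            (zpowers_le.2 (mem_centralizer_singleton_iff.2 rfl))
          exact (mem_centralizer_singleton_iff.1 (hle' (hgenc ▸ mem_top b))).symm))
      exact mem_centralizer_singleton_iff.1 (hle (hgenc ▸ mem_top a))
  have hDP : D ≤ commutator P := by
    rw [hD]
    exact (map_subtype_commutator N).le.trans (commutator_mono le_top le_top)
  have hcardD : Nat.card D = Nat.card (commutator N) := card_map_of_injective (subtype_injective N)
  have hidx : (commutator P).index = ((commutator P).map π).index :=
    (index_map_eq _ hπs (hker.le.trans hDP)).symm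
  have h2 := card_mul_index ((commutator P).map π)
  have h3 := φ.ker.card_mul_index
  rw [Subgroup.index_ker, himg] at h3
  have h4 := D.card_eq_card_quotient_mul_card_subgroup
  have h5 := N.card_mul_index
  rw [hkerφ, ← hcardD, hidx]
  refine Nat.eq_of_mul_eq_mul_right (Nat.card_pos (α := ↥((commutator P).map π))) ?_
  calc p * Nat.card φ.ker * Nat.card ↥((commutator P).map π) = N.index * Nat.card N := by
        rw [mul_assoc, h3, hN]
    _ = Nat.card (P ⧸ D) * Nat.card D := by rw [mul_comm, h5, h4]
    _ = _ := by rw [← h2]; ring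

/-- Let p be a prime, P a finite p-group and N a normal subgroup of P of index p. For x ∈ P write c(x) for the number of elements n of N whose commutator x n x⁻¹ n⁻¹ lies in the derived subgroup N' (so c(x)/#N' is the order of the centralizer of x acting on N/N'). Then [P : P'] = p² if and only if c(x) = p·#N' for every x ∈ P outside N, and also if and only if c(x) = p·#N' for some x ∈ P outside N. -/
theorem result {P : Type*} [Group P] [Finite P] (p : ℕ) [Fact p.Prime] (hP : IsPGroup p P) (N : Subgroup P) [N.Normal] (hN : N.index = p) :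
    ((commutator P).index = p ^ 2 ↔ ∀ x : P, x ∉ N →
        Nat.card {n : N // x * n * x⁻¹ * (n : P)⁻¹ ∈ (commutator N).map N.subtype} = p * Nat.card (commutator N)) ∧
    ((commutator P).index = p ^ 2 ↔ ∃ x : P, x ∉ N ∧
        Nat.card {n : N // x * n * x⁻¹ * (n : P)⁻¹ ∈ (commutator N).map N.subtype} = p * Nat.card (commutator N)) := by
  have hp := (Fact.out : p.Prime)
  have hiff : ∀ x : P, x ∉ N → ((commutator P).index = p ^ 2 ↔
      Nat.card {n : N // x * n * x⁻¹ * (n : P)⁻¹ ∈ (commutator N).map N.subtype} = p * Nat.card (commutator N)) := by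
    intro x hx
    have hk := key p N hN x hx
    constructor
    · intro h
      rw [h] at hk
      refine Nat.eq_of_mul_eq_mul_left hp.pos ?_
      rw [hk]; ring
    · intro h
      rw [h] at hk
      exact (Nat.eq_of_mul_eq_mul_right Nat.card_pos (by rw [← hk]; ring)).symm
  obtain ⟨x0, hx0⟩ : ∃ x, x ∉ N := by
    by_contra h
    push Not at h
    rw [Subgroup.index_eq_one.2 (eq_top_iff.2 fun x _ => h x)] at hN
    exact hp.one_lt.ne hN
  exact ⟨⟨fun h x hx => (hiff x hx).1 h, fun h => (hiff x0 hx0).2 (h x0 hx0)⟩,
    ⟨fun h => ⟨x0, hx0, (hiff x0 hx0).1 h⟩, fun ⟨x, hx, h⟩ => (hiff x hx).2 h⟩⟩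

end Cfsg.Agent.S4586
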