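import Cfsg.Statements.S4587
import Cfsg.Agent.Lib.CT.PSqCentralizer

set_option autoImplicit false
set_option linter.all false
open Cfsg

namespace Cfsg.Agent.S4587

open scoped Pointwise commutatorElement
open Cfsg.Agent.CT.PSq

theorem relIndex_commutator_eq {G : Type*} [Group G] (H : Subgroup G) :
    (⁅H, H⁆ : Subgroup G).relIndex H = (_root_.commutator H).index := by
  rw [← Subgroup.map_subtype_commutator, Subgroup.relIndex, Subgroup.subgroupOf,
    Subgroup.comap_map_eq_self_of_injective H.subtype_injective]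

theorem map_commutator_conj {G : Type*} [Group G] (H : Subgroup G) (g : G) :
    ⁅H.map (MulAut.conj g).toMonoidHom, H.map (MulAut.conj g).toMonoidHom⁆ =
      (⁅H, H⁆ : Subgroup G).map (MulAut.conj g).toMonoidHom :=
  (Subgroup.map_commutator _ _ _).symm

theorem transfer_hyps {G : Type*} [Group G] [Finite G] {p : ℕ} [Fact p.Prime] (P P1 : Sylow p G) :
    (_root_.commutator ↥(P1 : Subgroup G)).index = (_root_.commutator ↥(P : Subgroup G)).index ∧
    ((⁅(P : Subgroup G), (P : Subgroup G)⁆).normalCore = ⊥ →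
      (⁅(P1 : Subgroup G), (P1 : Subgroup G)⁆).normalCore = ⊥) ∧
    (_root_.commutator ↥(P1 : Subgroup G) = ⊥ → _root_.commutator ↥(P : Subgroup G) = ⊥) := by
  obtain ⟨g, rfl⟩ := MulAction.exists_smul_eq G P P1
  have hP1 : ((g • P : Sylow p G) : Subgroup G) = (P : Subgroup G).map (MulAut.conj g).toMonoidHom := by
    rw [Sylow.coe_subgroup_smul]; rfl
  refine ⟨?_, ?_, ?_⟩
  · rw [← relIndex_commutator_eq, ← relIndex_commutator_eq, hP1, map_commutator_conj]
    exact Subgroup.relIndex_map_map_of_injective _ _ (MulAut.conj g).injective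
  · intro h
    rw [hP1, map_commutator_conj, eq_bot_iff]
    intro z hz
    have hle : (((⁅(P : Subgroup G), (P : Subgroup G)⁆).map (MulAut.conj g).toMonoidHom).normalCore) ≤
        ⁅(P : Subgroup G), (P : Subgroup G)⁆ := by
      intro y hy
      have hy' := Subgroup.normalCore_le _ (Subgroup.Normal.conj_mem inferInstance y hy g)
      obtain ⟨w, hw, hwe⟩ := hy'
      have : w = y := (MulAut.conj g).injective hwe
      exact this ▸ hw
    rw [← h]
    exact Subgroup.normal_le_normalCore.mpr hle hz
  · intro h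
    rw [← Subgroup.map_eq_bot_iff_of_injective _ (Subgroup.subtype_injective _),
      Subgroup.map_subtype_commutator, hP1, map_commutator_conj,
      Subgroup.map_eq_bot_iff_of_injective _ (MulAut.conj g).injective,
      ← Subgroup.map_subtype_commutator,
      Subgroup.map_eq_bot_iff_of_injective _ (Subgroup.subtype_injective _)] at h
    exact h

theorem index_centralizer_le {H : Type*} [Group H] [Finite H] (x : H) :
    (Subgroup.centralizer ({x} : Set H)).index ≤ Nat.card (_root_.commutator H) := by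
  rw [Subgroup.index_eq_card]
  refine Nat.card_le_card_of_injective (fun q => ⟨⁅q.out, x⁆,
    Subgroup.commutator_mem_commutator (Subgroup.mem_top _) (Subgroup.mem_top _)⟩) fun a b hab => ?_
  have h := congrArg Subtype.val hab
  simp only [commutatorElement_def, mul_left_inj] at h
  rw [← QuotientGroup.out_eq' a, ← QuotientGroup.out_eq' b, QuotientGroup.eq,
    Subgroup.mem_centralizer_singleton_iff]
  calc a.out⁻¹ * b.out * x = a.out⁻¹ * (b.out * x * b.out⁻¹) * b.out := by group
    _ = a.out⁻¹ * (a.out * x * a.out⁻¹) * b.out := by rw [h]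
    _ = x * (a.out⁻¹ * b.out) := by group

theorem card_centralizer_subgroupOf {G : Type*} [Group G] {H S : Subgroup G} (hSH : S ≤ H)
    {x : G} (hx : x ∈ H) (hmax : H ⊓ Subgroup.centralizer {x} = S) :
    Nat.card (Subgroup.centralizer ({(⟨x, hx⟩ : H)} : Set H)) = Nat.card S := by
  rw [← Subgroup.card_map_of_injective H.subtype_injective]
  congr 2
  rw [← hmax]
  ext y
  simp only [Subgroup.mem_map, Subgroup.coe_subtype, Subgroup.mem_inf, Subgroup.mem_centralizer_singleton_iff]
  constructor
  · rintro ⟨z, hz, rfl⟩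
    exact ⟨z.2, congrArg Subtype.val hz⟩
  · rintro ⟨hy, hc⟩
    exact ⟨⟨y, hy⟩, Subtype.ext hc, rfl⟩

theorem exists_sylow_centralizer {G : Type*} [Group G] [Finite G] {p : ℕ} [Fact p.Prime] {x : G}
    (hx : ∃ k : ℕ, orderOf x = p ^ k) :
    ∃ P1 : Sylow p G, ∃ hxP : x ∈ P1,
      Nat.card (Subgroup.centralizer ({(⟨x, hxP⟩ : ↥(P1 : Subgroup G))} : Set ↥(P1 : Subgroup G))) =
        p ^ (Nat.card (Subgroup.centralizer ({x} : Set G))).factorization p := by
  set C := Subgroup.centralizer ({x} : Set G)
  obtain ⟨k, hk⟩ := hx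
  have hxC : x ∈ C := Subgroup.mem_centralizer_singleton_iff.mpr rfl
  obtain ⟨S⟩ : Nonempty (Sylow p C) := inferInstance
  haveI : (Subgroup.zpowers (⟨x, hxC⟩ : C)).Normal := ⟨fun z hz y => by
    obtain ⟨n, rfl⟩ := Subgroup.mem_zpowers_iff.mp hz
    have : Commute y (⟨x, hxC⟩ : C) := Subtype.ext (Subgroup.mem_centralizer_singleton_iff.mp y.2)
    rw [(this.zpow_right n).eq, mul_inv_cancel_right]
    exact Subgroup.zpow_mem_zpowers _ n⟩
  have hzp : IsPGroup p (Subgroup.zpowers (⟨x, hxC⟩ : C)) := IsPGroup.of_card (n := k) (by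
    rw [Nat.card_zpowers, ← Subgroup.orderOf_coe]; exact hk)
  have hxS : (⟨x, hxC⟩ : C) ∈ S := hzp.le_sylow_of_normal S (Subgroup.mem_zpowers _)
  set S' := (S : Subgroup C).map C.subtype
  have hS' : IsPGroup p S' := S.isPGroup'.map _
  obtain ⟨P1, hP1⟩ := hS'.exists_le_sylow
  have hxP : x ∈ P1 := hP1 ⟨_, hxS, rfl⟩
  refine ⟨P1, hxP, ?_⟩
  have hR : IsPGroup p (((P1 : Subgroup G) ⊓ C).subgroupOf C) :=
    (P1.isPGroup'.to_le inf_le_left).comap_of_injective C.subtype C.subtype_injective
  have hle : (S : Subgroup C) ≤ ((P1 : Subgroup G) ⊓ C).subgroupOf C := fun s hs =>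
    ⟨hP1 ⟨s, hs, rfl⟩, s.2⟩
  have heq := S.is_maximal' hR hle
  rw [card_centralizer_subgroupOf (S := (P1 : Subgroup G) ⊓ C) inf_le_left hxP rfl,
    ← S.card_eq_multiplicity, ← Nat.card_congr (Subgroup.subgroupOfEquivOfLe
      (inf_le_right : (P1 : Subgroup G) ⊓ C ≤ C)).toEquiv, heq]

/-- Let G be a finite group, p a prime and P a Sylow p-subgroup of order at least p². Assume that G has no nontrivial normal subgroup of order prime to p, that the derived subgroup P' of P contains no nontrivial normal subgroup of G, and that G is not almost simple (there is no non-abelian simple normal subgroup of G with trivial centralizer). Then [P : P'] = p² if and only if some p-element x of G has centralizer whose order has p-part exactly p². -/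
theorem result {G : Type*} [Group G] [Finite G] (p : ℕ) [Fact p.Prime] (P : Sylow p G) (hbig : p ^ 2 ∣ Nat.card G) (hcore : Cfsg.pPrimeCore p G = ⊥)
    (hcore' : (⁅(P : Subgroup G), (P : Subgroup G)⁆).normalCore = ⊥) (hnas : ¬ ∃ S : Subgroup G, S.Normal ∧ IsSimpleGroup S ∧ ¬ IsMulCommutative S ∧ Subgroup.centralizer (S : Set G) = ⊥) :
    (⁅(P : Subgroup G), (P : Subgroup G)⁆).relIndex (P : Subgroup G) = p ^ 2 ↔
      ∃ x : G, (∃ k : ℕ, orderOf x = p ^ k) ∧ (Nat.card (Subgroup.centralizer ({x} : Set G))).factorization p = 2 := by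
  rw [relIndex_commutator_eq]
  constructor
  · intro hidx
    by_cases hne : _root_.commutator ↥(P : Subgroup G) = ⊥
    · rw [hne, Subgroup.index_bot, P.card_eq_multiplicity] at hidx
      refine ⟨1, ⟨0, by rw [orderOf_one, pow_zero]⟩, ?_⟩
      have : Subgroup.centralizer ({1} : Set G) = ⊤ :=
        eq_top_iff.mpr fun y _ => Subgroup.mem_centralizer_singleton_iff.mpr (by rw [mul_one, one_mul])
      rw [this, Subgroup.card_top]
      exact Nat.pow_right_injective (Fact.out : p.Prime).two_le hidx
    · haveI : Nontrivial G := by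
        by_contra hn
        haveI := not_nontrivial_iff_subsingleton.mp hn
        exact hne (Subsingleton.elim _ _)
      obtain ⟨N, -, hNm⟩ := Finite.exists_le_minimal (p := fun N : Subgroup G => N.Normal ∧ N ≠ ⊥) (a := ⊤)
        ⟨inferInstance, top_ne_bot⟩
      haveI := hNm.1.1
      have hmin : ∀ A : Subgroup G, A.Normal → A ≤ N → A ≠ ⊥ → A = N :=
        fun A hA hAN hA0 => le_antisymm hAN (hNm.2 ⟨hA, hA0⟩ hAN)
      obtain ⟨hi, -⟩ := exists_abelian_index_prime hcore hnas hNm.1.2 hmin P hcore' hidx hne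
      obtain ⟨x, hx⟩ : ∃ x, x ∉ N.subgroupOf (P : Subgroup G) := by
        by_contra hcon
        push Not at hcon
        rw [(Subgroup.eq_top_iff' _).mpr hcon, Subgroup.index_top] at hi
        exact (Fact.out : p.Prime).one_lt.ne hi
      obtain ⟨k, hk⟩ := (IsPGroup.iff_orderOf.mp P.isPGroup') x
      have hxo : ∃ k : ℕ, orderOf (x : G) = p ^ k := ⟨k, by rw [Subgroup.orderOf_coe]; exact hk⟩
      refine ⟨x, hxo, ?_⟩
      obtain ⟨P1, hxP, hc⟩ := exists_sylow_centralizer hxo
      obtain ⟨t1, t2, t3⟩ := transfer_hyps P P1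
      obtain ⟨hi1, hab1⟩ := exists_abelian_index_prime hcore hnas hNm.1.2 hmin P1 (t2 hcore')
        (t1.trans hidx) (fun h => hne (t3 h))
      have hgen := sup_zpowers_eq_top hi1 (x := (⟨(x : G), hxP⟩ : ↥(P1 : Subgroup G))) hx
      rw [card_centralizer_of_abelian P1.isPGroup' (t1.trans hidx) hab1
        (commutator_le_of_sup_zpowers _ hgen) hi1 hx] at hc
      exact (Nat.pow_right_injective (Fact.out : p.Prime).two_le hc).symm
  · rintro ⟨x, hxo, hf⟩
    obtain ⟨P1, hxP, hc⟩ := exists_sylow_centralizer hxo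
    rw [hf] at hc
    rw [← (transfer_hyps P P1).1]
    set C' := _root_.commutator ↥(P1 : Subgroup G) with hC'
    have h1 := index_centralizer_le (⟨x, hxP⟩ : ↥(P1 : Subgroup G))
    have h2 := Subgroup.card_mul_index (Subgroup.centralizer ({(⟨x, hxP⟩ : ↥(P1 : Subgroup G))} : Set _))
    have h3 := Subgroup.card_mul_index C'
    rw [hc] at h2
    have hupper : C'.index ≤ p ^ 2 := by
      refine Nat.le_of_mul_le_mul_left (c := Nat.card C') ?_ Nat.card_pos
      rw [h3, ← h2, mul_comm]
      exact Nat.mul_le_mul_right _ h1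
    obtain ⟨j, hj⟩ := P1.isPGroup'.index C'
    rw [hj] at hupper ⊢
    have hj2 : j ≤ 2 := (Nat.pow_le_pow_iff_right (Fact.out : p.Prime).one_lt).mp hupper
    suffices ¬ j ≤ 1 by rw [show j = 2 by omega]
    intro hj1
    have hcomm := comm_of_card_abelianization_le P1.isPGroup' (by
      show Nat.card (_ ⧸ C') ≤ p
      rw [← Subgroup.index_eq_card, hj]
      exact (Nat.pow_le_pow_right (Fact.out : p.Prime).pos hj1).trans (le_of_eq (pow_one p)))
    have hbot : C' = ⊥ := by
      rw [hC', _root_.commutator_def, eq_bot_iff, Subgroup.commutator_le]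
      intro a _ b _
      rw [Subgroup.mem_bot, commutatorElement_eq_one_iff_mul_comm]
      exact hcomm a b
    rw [hbot, Subgroup.index_bot, P1.card_eq_multiplicity] at hj
    have := ((Fact.out : p.Prime).pow_dvd_iff_le_factorization Nat.card_pos.ne').mp hbig
    have := Nat.pow_right_injective (Fact.out : p.Prime).two_le hj
    omega

end Cfsg.Agent.S4587
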