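import Cfsg.Statements.S4588
import Cfsg.Agent.Lib.Blocks.SmallCentMain

set_option autoImplicit false
open Cfsg

namespace Cfsg.Agent.S4588

/-- Let G be a finite group, p a prime and M a maximal ideal of the algebraic integers containing p. If some p-element x of G (possibly x = 1) has centralizer whose order has p-part at most p², then the principal p-block of G contains at most p² irreducible characters of degree prime to p. -/
theorem result {G : Type*} [Group G] [Finite G] (p : ℕ) [Fact p.Prime] (M : Ideal Cfsg.AlgInt) (hM : Cfsg.IsPModular p M)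
    (hx : ∃ x : G, (∃ k : ℕ, orderOf x = p ^ k) ∧ (Nat.card (Subgroup.centralizer ({x} : Set G))).factorization p ≤ 2) :
    Nat.card {χ : Cfsg.IrrCharacter G // χ ∈ Cfsg.principalBlock M G ∧ ¬ p ∣ Cfsg.charDegree (χ : G → ℂ)} ≤ p ^ 2 := by
  classical
  haveI := hM.2.1.isPrime
  letI := Fintype.ofFinite G
  have hp := (Fact.out : p.Prime)
  -- a nontrivial element may be chosen unless the Sylow subgroup is trivial
  have main : ∀ x : G, (∃ k : ℕ, orderOf x = p ^ k) → x ≠ 1 →
      (Nat.card (Subgroup.centralizer ({x} : Set G))).factorization p ≤ 2 →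
      Nat.card {χ : Cfsg.IrrCharacter G // χ ∈ Cfsg.principalBlock M G ∧
        ¬ p ∣ Cfsg.charDegree (χ : G → ℂ)} ≤ p ^ 2 := by
    intro x hk hx1 hν
    letI := Fintype.ofFinite (Subgroup.centralizer ({x} : Set G))
    have hxC : x ∈ Subgroup.centralizer ({x} : Set G) := Subgroup.mem_centralizer_singleton_iff.mpr rfl
    rcases Cfsg.Agent.Blocks.SmallCent.case_split (p := p)
      (x := (⟨x, hxC⟩ : Subgroup.centralizer ({x} : Set G)))
      (Subgroup.mem_center_iff.mpr fun w => Subtype.ext (Subgroup.mem_centralizer_singleton_iff.mp w.2))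
      (by simpa [Subgroup.orderOf_mk] using hk) (fun h => hx1 (congrArg Subtype.val h)) hν with
      hnc | ⟨ho, C0, hn, hidx, hx0, hC0⟩
    · exact (Cfsg.Agent.Blocks.SmallCent.count_of_normal_complement hM hk hnc).trans
        (Nat.pow_le_pow_right hp.pos hν)
    · haveI := hn
      letI := Fintype.ofFinite C0
      rw [Subgroup.orderOf_mk] at ho
      exact Cfsg.Agent.Blocks.SmallCent.count_of_split hM ho _ rfl C0 hidx hxC hx0 hC0
  obtain ⟨x, hk, hν⟩ := hx
  by_cases hx1 : x = 1
  swap
  · exact main x hk hx1 hν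
  subst hx1
  have hcle : ∀ z : G, (Nat.card (Subgroup.centralizer ({z} : Set G))).factorization p ≤ 2 := fun z =>
    le_trans ((Nat.factorization_le_iff_dvd Nat.card_pos.ne' Nat.card_pos.ne').mpr
      (Subgroup.card_dvd_of_le (show Subgroup.centralizer ({z} : Set G) ≤
        Subgroup.centralizer ({1} : Set G) from fun a _ =>
          Subgroup.mem_centralizer_singleton_iff.mpr (by simp))) p) hν
  by_cases hd : p ∣ Nat.card G
  · obtain ⟨z, hz⟩ := exists_prime_orderOf_dvd_card' p hd
    exact main z ⟨1, by rw [hz, pow_one]⟩ (fun h => hp.ne_one (by rw [← hz, h, orderOf_one])) (hcle z)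
  · refine (Cfsg.Agent.Blocks.SmallCent.count_of_normal_complement hM hk ⟨0, ?_⟩).trans
      (Nat.pow_le_pow_right hp.pos hν)
    have htop : (⊤ : Subgroup (Subgroup.centralizer ({(1 : G)} : Set G))) ≤ Cfsg.pPrimeCore p _ :=
      Cfsg.Agent.Basics.le_pPrimeCore (by
        rw [Subgroup.card_top]
        exact ((hp.coprime_iff_not_dvd.mpr fun h =>
          hd (h.trans (Subgroup.card_subgroup_dvd_card _))).symm))
    rw [top_le_iff.mp htop, Subgroup.index_top, pow_zero]

end Cfsg.Agent.S4588
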