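import Cfsg.Statements.S4591
import Cfsg.Agent.Lib.CoprimeExt.Basic
import Cfsg.Agent.Lib.CT.Kernel
import Cfsg.Agent.Lib.CT.Clifford
import Cfsg.Agent.Lib.Glauberman.Conj
import Cfsg.Agent.Lib.Transfer.Tate
import Cfsg.Agent.Lib.Basics.Frattini
import Cfsg.Agent.Lib.InvChar.Basics
-- import your own Cfsg.Agent.* helpers here

set_option autoImplicit false
open Cfsg

namespace Cfsg.Agent.S4591

open Cfsg.Agent

universe u

theorem exists_pprime_constituent {G : Type u} [Group G] [Fintype G] {p : ℕ} {f : G → ℂ}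
    (hf : Cfsg.IsCharacter G f) (hd : ¬ p ∣ CT.deg f) :
    ∃ χ : Cfsg.IrrCharacter G, Cfsg.classInner f χ ≠ 0 ∧ ¬ p ∣ CT.deg (χ : G → ℂ) := by
  classical
  have h : CT.deg f = ∑ χ : Cfsg.IrrCharacter G,
      CT.mult f (χ : G → ℂ) * CT.deg (χ : G → ℂ) := by
    rw [← Nat.cast_inj (R := ℂ), ← CT.deg_eq hf, Nat.cast_sum]
    conv_lhs => rw [CT.character_eq_sum hf]
    rw [Finset.sum_apply]
    refine Finset.sum_congr rfl fun χ _ => ?_
    rw [Pi.smul_apply, smul_eq_mul, CT.deg_eq (CT.isCharacter_of_isIrr χ.2), Nat.cast_mul]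
  by_contra hne
  push Not at hne
  refine hd (h ▸ Finset.dvd_sum fun χ _ => ?_)
  by_cases h0 : Cfsg.classInner f (χ : G → ℂ) = 0
  · rw [CT.mult_spec hf (CT.isCharacter_of_isIrr χ.2), Nat.cast_eq_zero] at h0
    simp [h0]
  · exact (hne χ h0).mul_left _

theorem eq_one_of_lin {P : Type u} [Group P] [Finite P] {x : P}
    (h : ∀ lam : P →* ℂˣ, lam x = 1) : x ∈ commutator P := by
  classical
  haveI : Fintype (P ⧸ commutator P) := Fintype.ofFinite _
  rw [← QuotientGroup.eq_one_iff]
  refine isConj_one_left.mp (CT.isConj_iff_forall_irr.mpr fun η => ?_)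
  have hc : ∀ a b : P ⧸ commutator P, a * b = b * a := fun a b => by
    induction a using QuotientGroup.induction_on with
    | _ a =>
      induction b using QuotientGroup.induction_on with
      | _ b =>
        rw [← QuotientGroup.mk_mul, ← QuotientGroup.mk_mul, QuotientGroup.eq]
        have := Subgroup.commutator_mem_commutator (Subgroup.mem_top b⁻¹) (Subgroup.mem_top a⁻¹)
        simpa [commutatorElement_def, commutator_def, mul_assoc] using this
  obtain ⟨lam, hlam⟩ := CT.exists_hom_of_comm hc η.2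
  rw [hlam]
  have := h (lam.comp (QuotientGroup.mk' _))
  show (lam (QuotientGroup.mk x) : ℂ) = (lam (1 : P ⧸ commutator P) : ℂ)
  rw [map_one]
  exact congrArg Units.val this

theorem commutator_in {G : Type u} [Group G] (P : Subgroup G) :
    (commutator P).map P.subtype = ⁅P, P⁆ := by
  rw [commutator_def, Subgroup.map_commutator, ← MonoidHom.range_eq_map, Subgroup.range_subtype]

section Part

variable {G : Type u} [Group G] [Fintype G] {p : ℕ} [Fact p.Prime] (P : Sylow p G)

/-- A normal subgroup in which the Sylow subgroup has trivial centralizer has order prime to p. -/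
theorem not_dvd_of_inf_centralizer (N : Subgroup G) [N.Normal]
    (hN : N ⊓ Subgroup.centralizer ((P : Subgroup G) : Set G) = ⊥) : ¬ p ∣ Nat.card N := by
  have hbot : (P : Subgroup G) ⊓ N = ⊥ := by
    by_contra hne
    set Q : Subgroup (P : Subgroup G) := N.subgroupOf (P : Subgroup G) with hQ
    have hQne : Q ≠ ⊥ := by
      intro h
      apply hne
      rw [eq_bot_iff]
      intro x hx
      have hx' : (⟨x, hx.1⟩ : (P : Subgroup G)) ∈ Q := hx.2
      rw [h, Subgroup.mem_bot] at hx'
      exact Subgroup.mem_bot.mpr (congrArg Subtype.val hx')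
    obtain ⟨c, hcQ, hcZ, hc1⟩ := InvChar.exists_mem_center_of_normal P.isPGroup' Q hQne
    have hc : (c : G) ∈ N ⊓ Subgroup.centralizer ((P : Subgroup G) : Set G) := by
      refine ⟨hcQ, Subgroup.mem_centralizer_iff.mpr fun y hy => ?_⟩
      exact congrArg Subtype.val (Subgroup.mem_center_iff.mp hcZ ⟨y, hy⟩)
    rw [hN, Subgroup.mem_bot] at hc
    exact hc1 (Subtype.ext hc)
  have := Transfer.not_dvd_relIndex_normal P N
  rw [hbot, Subgroup.relIndex_bot_left] at this
  exact this

theorem conj_mem_normal (N : Subgroup G) [hN : N.Normal] (S : Subgroup G) :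
    ∀ s ∈ S, ∀ n ∈ N, s * n * s⁻¹ ∈ N := fun s _ n hn => hN.conj_mem n hn s

/-- Fixed characters of a normal p'-subgroup. -/
theorem exists_invariant_nontrivial (L : Subgroup G) [L.Normal] (hL : ¬ p ∣ Nat.card L)
    (hC : L ⊓ Subgroup.centralizer ((P : Subgroup G) : Set G) ≠ ⊥) :
    ∃ θ : Cfsg.IrrCharacter L, (θ : L → ℂ) ≠ (fun _ => 1) ∧
      ∀ x ∈ (P : Subgroup G), CT.conjFun L x (θ : L → ℂ) = (θ : L → ℂ) := by
  classical
  set φ := Glauberman.conjAct L (P : Subgroup G) (conj_mem_normal L P)
  have hcop : (Nat.card (P : Subgroup G)).Coprime (Nat.card L) := by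
    obtain ⟨n, hn⟩ := IsPGroup.iff_card.mp P.isPGroup'
    rw [hn]
    exact Nat.Coprime.pow_left n ((Fact.out : p.Prime).coprime_iff_not_dvd.mpr hL)
  haveI : Group.IsNilpotent (P : Subgroup G) := P.isPGroup'.isNilpotent
  have hcard := Glauberman.card_inv_eq φ inferInstance hcop
  by_contra hne
  push Not at hne
  have hle : Subsingleton {χ : Cfsg.IrrCharacter L // Glauberman.Inv φ (χ : L → ℂ)} := by
    refine ⟨fun a b => Subtype.ext (Subtype.ext ?_)⟩
    have h1 : ∀ c : {χ : Cfsg.IrrCharacter L // Glauberman.Inv φ (χ : L → ℂ)},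
        (c.1 : L → ℂ) = fun _ => 1 := by
      intro c
      by_contra h0
      obtain ⟨x, hx, hx'⟩ := hne c.1 h0
      exact hx' (funext fun n => c.2 ⟨x, hx⟩ n)
    rw [h1 a, h1 b]
  have hC1 : Nat.card (ConjClasses (Glauberman.fixedPts φ)) ≤ 1 := by
    rw [← CT.card_irr_eq_card_conjClasses, ← hcard]
    exact Finite.card_le_one_iff_subsingleton.mpr hle
  haveI : Subsingleton (ConjClasses (Glauberman.fixedPts φ)) :=
    Finite.card_le_one_iff_subsingleton.mp hC1
  apply hC
  rw [eq_bot_iff]
  intro x hx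
  let x' : Glauberman.fixedPts φ :=
    ⟨⟨x, hx.1⟩, (Glauberman.mem_fixedPts_conjAct L _ _).mpr hx.2⟩
  have : x' = 1 := isConj_one_left.mp
    (ConjClasses.mk_eq_mk_iff_isConj.mp (Subsingleton.elim (ConjClasses.mk x') (ConjClasses.mk 1)))
  exact Subgroup.mem_bot.mpr (congrArg (fun y : Glauberman.fixedPts φ => (y.1 : G)) this)

/-- The p'-degree characters are trivial on the largest normal subgroup with trivial centralizer. -/
theorem le_ker_of_inf_centralizer (N : Subgroup G) [N.Normal]
    (hN : N ⊓ Subgroup.centralizer ((P : Subgroup G) : Set G) = ⊥)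
    (χ : Cfsg.IrrCharacter G) (hχ : ¬ p ∣ CT.deg (χ : G → ℂ)) :
    ∀ n ∈ N, (χ : G → ℂ) n = (χ : G → ℂ) 1 := by
  classical
  have hNp := not_dvd_of_inf_centralizer P N hN
  haveI : Fintype N := Fintype.ofFinite _
  set φ := Glauberman.conjAct N (P : Subgroup G) (conj_mem_normal N P) with hφ
  have hcop : (Nat.card (P : Subgroup G)).Coprime (Nat.card N) := by
    obtain ⟨n, hn⟩ := IsPGroup.iff_card.mp P.isPGroup'
    rw [hn]
    exact Nat.Coprime.pow_left n ((Fact.out : p.Prime).coprime_iff_not_dvd.mpr hNp)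
  haveI : Group.IsNilpotent (P : Subgroup G) := P.isPGroup'.isNilpotent
  haveI : Subsingleton (Glauberman.fixedPts φ) := ⟨fun a b => by
    have h1 : ∀ c : Glauberman.fixedPts φ, c = 1 := fun c => by
      have hc : (c.1 : G) ∈ (⊥ : Subgroup G) := hN ▸ ⟨c.1.2,
        (Glauberman.mem_fixedPts_conjAct N _ _).mp c.2⟩
      exact Subtype.ext (Subtype.ext (Subgroup.mem_bot.mp hc))
    rw [h1 a, h1 b]⟩
  have huniq : Subsingleton {θ : Cfsg.IrrCharacter N // Glauberman.Inv φ (θ : N → ℂ)} := by
    refine Finite.card_le_one_iff_subsingleton.mp ?_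
    rw [Glauberman.card_inv_eq φ inferInstance hcop, CT.card_irr_eq_card_conjClasses]
    haveI : Subsingleton (ConjClasses (Glauberman.fixedPts φ)) :=
      ConjClasses.mk_surjective.subsingleton
    exact Finite.card_le_one_iff_subsingleton.mpr inferInstance
  have hres : Cfsg.IsCharacter N (fun n : N => (χ : G → ℂ) n) :=
    CT.isCharacter_restrict N (CT.isCharacter_of_isIrr χ.2)
  have hdeg : CT.deg (fun n : N => (χ : G → ℂ) n) = ∑ θ : Cfsg.IrrCharacter N,
      CT.mult (fun n : N => (χ : G → ℂ) n) (θ : N → ℂ) * CT.deg (θ : N → ℂ) := by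
    rw [← Nat.cast_inj (R := ℂ), ← CT.deg_eq hres, Nat.cast_sum]
    have := congrFun (CT.character_eq_sum hres) 1
    rw [Finset.sum_apply] at this
    rw [this]
    refine Finset.sum_congr rfl fun θ _ => ?_
    rw [Pi.smul_apply, smul_eq_mul, CT.deg_eq (CT.isCharacter_of_isIrr θ.2), Nat.cast_mul]
  have hsum := Glauberman.sum_eq_sum_fixed (p := p) (k := ZMod p) P.isPGroup'
    (Glauberman.irrPerm φ) (fun θ : Cfsg.IrrCharacter N =>
      ((CT.mult (fun n : N => (χ : G → ℂ) n) (θ : N → ℂ) * CT.deg (θ : N → ℂ) : ℕ) : ZMod p)) ?_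
  · have hfixed : ∃ θ : Cfsg.IrrCharacter N, (∀ a, Glauberman.irrPerm φ a θ = θ) ∧
        CT.mult (fun n : N => (χ : G → ℂ) n) (θ : N → ℂ) ≠ 0 := by
      by_contra hno
      push Not at hno
      apply hχ
      have hd : CT.deg (χ : G → ℂ) = CT.deg (fun n : N => (χ : G → ℂ) n) := rfl
      rw [hd, ← ZMod.natCast_eq_zero_iff, hdeg, Nat.cast_sum, hsum]
      refine Finset.sum_eq_zero fun θ hθ => ?_
      rw [hno θ (Finset.mem_filter.mp hθ).2]
      simp
    obtain ⟨θ, hθ, hne⟩ := hfixed
    have hone : (θ : N → ℂ) = fun _ => 1 :=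
      congrArg (fun c : {θ : Cfsg.IrrCharacter N // Glauberman.Inv φ (θ : N → ℂ)} => (c.1 : N → ℂ))
        (Subsingleton.elim (α := {θ : Cfsg.IrrCharacter N // Glauberman.Inv φ (θ : N → ℂ)})
          ⟨θ, (Glauberman.inv_iff_fixed φ θ).mpr hθ⟩ ⟨CT.trivIrr N, fun _ _ => rfl⟩)
    have h1 : Cfsg.classInner (fun n : N => (χ : G → ℂ) n) (fun _ => (1 : ℂ)) ≠ 0 := by
      rw [← hone, CT.mult_spec hres (CT.isCharacter_of_isIrr θ.2)]
      exact Nat.cast_ne_zero.mpr hne
    have h := CT.restrict_eq_smul_of_invariant N χ.2 CT.isIrrCharacter_one h1 (fun g => rfl)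
    intro n hn
    have h2 := congrFun h ⟨n, hn⟩
    have h3 := congrFun h 1
    simp only [Pi.smul_apply, OneMemClass.coe_one] at h2 h3
    rw [h2, h3]
  · intro a θ
    have e1 : CT.deg ((Glauberman.irrPerm φ a θ : Cfsg.IrrCharacter N) : N → ℂ) =
        CT.deg (θ : N → ℂ) := by
      unfold CT.deg
      rw [Glauberman.irrPerm_apply, map_one]
    have e2 : CT.mult (fun n : N => (χ : G → ℂ) n)
        ((Glauberman.irrPerm φ a θ : Cfsg.IrrCharacter N) : N → ℂ) =
        CT.mult (fun n : N => (χ : G → ℂ) n) (θ : N → ℂ) := by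
      apply Nat.cast_injective (R := ℂ)
      rw [← CT.mult_spec hres (CT.isCharacter_of_isIrr (Glauberman.irrPerm φ a θ).2),
        ← CT.mult_spec hres (CT.isCharacter_of_isIrr θ.2)]
      exact CT.classInner_restrict_conjFun N (CT.isClassFunction_of_isIrr χ.2) (θ : N → ℂ)
        ((a⁻¹ : (P : Subgroup G)) : G)
    rw [e1, e2]

end Part

/-- Let G be a finite group, p a prime and P a Sylow p-subgroup, and let N be the largest normal subgroup of G in which P has trivial centralizer (N is normal with C_N(P) = 1 and contains every normal subgroup with that property). Then the intersection of the kernels of the irreducible characters of G of degree prime to p is the normal core in G of the subgroup N·P' (P' the derived subgroup of P). In particular, when G has no nontrivial normal subgroup of order prime to p, that intersection is the normal core of P'. -/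
theorem result {G : Type*} [Group G] [Finite G] (p : ℕ) [Fact p.Prime] (P : Sylow p G) (N : Subgroup G) [N.Normal]
    (hN : N ⊓ Subgroup.centralizer ((P : Subgroup G) : Set G) = ⊥)
    (hmax : ∀ L : Subgroup G, L.Normal → L ⊓ Subgroup.centralizer ((P : Subgroup G) : Set G) = ⊥ → L ≤ N) :
    {g : G | ∀ χ : Cfsg.IrrCharacter G, ¬ p ∣ Cfsg.charDegree (χ : G → ℂ) → (χ : G → ℂ) g = (χ : G → ℂ) 1} =
      ((N ⊔ ⁅(P : Subgroup G), (P : Subgroup G)⁆).normalCore : Set G) := by
  classical
  haveI := Fintype.ofFinite G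
  haveI := CT.irr_finite G
  have hp : p.Prime := Fact.out
  set D : Subgroup G := ⁅(P : Subgroup G), (P : Subgroup G)⁆ with hD
  have hDP : D ≤ (P : Subgroup G) := Subgroup.commutator_le_self _
  let K : Subgroup G := ⨅ χ : {χ : Cfsg.IrrCharacter G // ¬ p ∣ Cfsg.charDegree (χ : G → ℂ)},
    CT.kerChar (χ.1 : G → ℂ)
  have hK : ∀ g, g ∈ K ↔ ∀ χ : Cfsg.IrrCharacter G, ¬ p ∣ Cfsg.charDegree (χ : G → ℂ) →
      (χ : G → ℂ) g = (χ : G → ℂ) 1 := by
    intro g
    simp only [K, Subgroup.mem_iInf]
    exact ⟨fun h χ hχ => (CT.mem_kerChar_iff (CT.isCharacter_of_isIrr χ.2)).mp (h ⟨χ, hχ⟩),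
      fun h χ => (CT.mem_kerChar_iff (CT.isCharacter_of_isIrr χ.1.2)).mpr (h χ.1 χ.2)⟩
  haveI hKn : K.Normal := ⟨fun n hn g => (hK _).mpr fun χ hχ => by
    rw [← (hK n).mp hn χ hχ]
    exact (CT.isClassFunction_isConj (CT.isClassFunction_of_isIrr χ.2)
      (isConj_iff.mpr ⟨g, rfl⟩)).symm⟩
  suffices h : K = (N ⊔ D).normalCore by
    ext g
    rw [← h]
    exact (hK g).symm
  apply le_antisymm
  · refine Subgroup.normal_le_normalCore.mpr ?_
    -- the p-part
    have hKP : K ⊓ (P : Subgroup G) ≤ D := by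
      intro x hx
      rw [hD, ← commutator_in]
      refine ⟨⟨x, hx.2⟩, eq_one_of_lin fun lam => ?_, rfl⟩
      set f : G → ℂ := Cfsg.indFun (P : Subgroup G) (fun y => (lam y : ℂ)) with hf
      have hfc : Cfsg.IsCharacter G f := CT.isCharacter_indFun _ (CT.isCharacter_lin lam)
      have hfd : ¬ p ∣ CT.deg f := by
        unfold CT.deg
        rw [hf, CT.indFun_one_eval, map_one, Units.val_one, mul_one, Complex.natCast_re,
          Nat.floor_natCast]
        exact P.not_dvd_index
      obtain ⟨χ, hχ, hχd⟩ := exists_pprime_constituent hfc hfd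
      rw [hf, CT.frobenius_reciprocity _ _ (CT.isClassFunction_of_isIrr χ.2)] at hχ
      -- the linear character is a constituent, trivial where the character is
      set M : Subgroup (P : Subgroup G) := K.subgroupOf (P : Subgroup G) with hM
      have hres : Cfsg.IsCharacter (P : Subgroup G) (fun y : (P : Subgroup G) => (χ : G → ℂ) y) :=
        CT.isCharacter_restrict _ (CT.isCharacter_of_isIrr χ.2)
      rw [CT.classInner_comm_of_char (CT.isCharacter_lin lam) hres] at hχ
      haveI : M.Normal := Subgroup.normal_subgroupOf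
      haveI : Fintype M := Fintype.ofFinite _
      have h1 : Cfsg.classInner (fun y : M => (χ : G → ℂ) ((y : (P : Subgroup G)) : G))
          (fun y : M => (lam y : ℂ)) ≠ 0 := by
        refine CT.classInner_eq_of_res_ne_zero hres (CT.isIrrCharacter_lin lam)
          (CT.isCharacter_restrict M (CT.isCharacter_lin lam)) hχ ?_
        show Cfsg.classInner (fun y : M => ((lam.comp M.subtype) y : ℂ))
          (fun y : M => ((lam.comp M.subtype) y : ℂ)) ≠ 0
        rw [CT.irr_inner_self (CT.isIrrCharacter_lin (lam.comp M.subtype))]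
        exact one_ne_zero
      have h2 : (fun y : M => (χ : G → ℂ) ((y : (P : Subgroup G)) : G)) =
          ((χ : G → ℂ) 1) • fun _ => (1 : ℂ) := funext fun y => by
        rw [Pi.smul_apply, smul_eq_mul, mul_one]
        exact (hK _).mp y.2 χ hχd
      rw [h2, CT.classInner_smul_left] at h1
      have h3 := CT.eq_of_inner_ne_zero CT.isIrrCharacter_one
        (CT.isIrrCharacter_lin (lam.comp M.subtype)) (mul_ne_zero_iff.mp h1).2
      exact Units.ext (congrFun h3 ⟨⟨x, hx.2⟩, hx.1⟩).symm
    have hfr : K ⊓ (P : Subgroup G) ≤ (frattini (P : Subgroup G)).map (P : Subgroup G).subtype := by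
      haveI : Group.IsNilpotent (P : Subgroup G) := P.isPGroup'.isNilpotent
      refine hKP.trans ?_
      rw [hD, ← commutator_in]
      exact Subgroup.map_mono Basics.commutator_le_frattini
    have hcomp := Transfer.hasNormalPComplement_of_le_frattini P K hfr
    rw [Transfer.hasNormalPComplement_iff] at hcomp
    haveI : (Cfsg.pResidual p K).Characteristic := Transfer.pResidual_characteristic K p
    set L : Subgroup G := (Cfsg.pResidual p K).map K.subtype with hLdef
    haveI : L.Normal := ConjAct.normal_of_characteristic_of_normal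
    have hLp : ¬ p ∣ Nat.card L := by
      rwa [hLdef, Subgroup.card_map_of_injective K.subtype_injective]
    have hLK : L ≤ K := Subgroup.map_subtype_le _
    have hLN : L ≤ N := by
      refine hmax L inferInstance ?_
      by_contra hC
      obtain ⟨θ, hθ1, hθ⟩ := exists_invariant_nontrivial P L hLp hC
      set H : Subgroup G := L ⊔ (P : Subgroup G) with hH
      haveI : Fintype H := Fintype.ofFinite _
      set L' : Subgroup H := L.subgroupOf H with hL'
      haveI : L'.Normal := Subgroup.normal_subgroupOf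
      haveI : Fintype L' := Fintype.ofFinite _
      let e : L' ≃* L := Subgroup.subgroupOfEquivOfLe le_sup_left
      have hidx : ∃ k, L'.index = p ^ k := by
        obtain ⟨n, hn⟩ := IsPGroup.iff_card.mp P.isPGroup'
        have h1 : L'.index = L.relIndex (P : Subgroup G) := by
          show L.relIndex H = _
          rw [hH, sup_comm, Subgroup.relIndex_sup_right]
        have h2 : L'.index ∣ p ^ n := h1 ▸ hn ▸ Subgroup.index_dvd_card _
        obtain ⟨j, -, hj⟩ := (Nat.dvd_prime_pow hp).mp h2
        exact ⟨j, hj⟩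
      obtain ⟨j, hj⟩ := hidx
      have hθ' : ∀ (g : H) (n : L'), (Glauberman.compIrr e θ : L' → ℂ)
          ⟨g * n * g⁻¹, (inferInstance : L'.Normal).conj_mem n n.2 g⟩ =
          (Glauberman.compIrr e θ : L' → ℂ) n := by
        intro g n
        have hg : (g : G) ∈ (↑(L ⊔ (P : Subgroup G)) : Set G) := g.2
        rw [Subgroup.normal_mul] at hg
        obtain ⟨l, hl, x, hx, hlx⟩ := hg
        have h1 : CT.conjFun L (g : G) (θ : L → ℂ) = (θ : L → ℂ) := by
          rw [← hlx, CT.conjFun_mul, CT.conjFun_of_mem L (CT.isClassFunction_of_isIrr θ.2) hl]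
          exact hθ x hx
        exact congrFun h1 (e n)
      have hLcard : Nat.card L' = Nat.card L := Nat.card_congr e.toEquiv
      have hcopL : ∀ {m : ℕ}, m ∣ Nat.card L' → L'.index.Coprime m := fun hm => by
        rw [hj]
        exact Nat.Coprime.pow_left j (hp.coprime_iff_not_dvd.mpr
          fun h => hLp (hLcard ▸ h.trans hm))
      have hdet : Cfsg.detOrder (Glauberman.compIrr e θ : L' → ℂ) ∣ Nat.card L' := by
        obtain ⟨d, ρ, hρ⟩ := CT.isCharacter_of_isIrr (Glauberman.compIrr e θ).2
        rw [← hρ, CoprimeExt.detOrder_eq]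
        refine orderOf_dvd_of_pow_eq_one (MonoidHom.ext fun y => ?_)
        rw [MonoidHom.pow_apply, ← map_pow, pow_card_eq_one', map_one, MonoidHom.one_apply]
      obtain ⟨ψ, ⟨hψ, -⟩, -⟩ := CoprimeExt.exists_coprime_ext L' (Glauberman.compIrr e θ) hθ'
        (hcopL (Glauberman.deg_dvd_card _)) (hcopL hdet)
      set f : G → ℂ := Cfsg.indFun H (ψ : H → ℂ) with hf
      have hψc := CT.isCharacter_of_isIrr ψ.2
      have hfd : ¬ p ∣ CT.deg f := by
        have hHidx : ¬ p ∣ H.index := fun h => P.not_dvd_index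
          (h.trans (Subgroup.index_dvd_of_le le_sup_right))
        have hψd : CT.deg (ψ : H → ℂ) = CT.deg (Glauberman.compIrr e θ : L' → ℂ) := by
          unfold CT.deg
          rw [← hψ 1]
          rfl
        unfold CT.deg at hψd ⊢
        rw [hf, CT.indFun_one_eval, CT.deg_eq hψc, ← Nat.cast_mul, Complex.natCast_re,
          Nat.floor_natCast]
        intro h
        rcases (Nat.Prime.dvd_mul hp).mp h with h | h
        · exact hHidx h
        · refine hLp (hLcard ▸ h.trans ?_)
          show ⌊((ψ : H → ℂ) 1).re⌋₊ ∣ _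
          rw [hψd]
          exact Glauberman.deg_dvd_card _
      obtain ⟨χ, hχ, hχd⟩ := exists_pprime_constituent (CT.isCharacter_indFun H hψc) hfd
      have hres : Cfsg.IsCharacter H (fun y : H => (χ : G → ℂ) y) :=
        CT.isCharacter_restrict _ (CT.isCharacter_of_isIrr χ.2)
      rw [CT.frobenius_reciprocity _ _ (CT.isClassFunction_of_isIrr χ.2),
        CT.classInner_comm_of_char hψc hres] at hχ
      have h1 : Cfsg.classInner (fun y : L' => (χ : G → ℂ) ((y : H) : G))
          (Glauberman.compIrr e θ : L' → ℂ) ≠ 0 := by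
        refine CT.classInner_eq_of_res_ne_zero hres ψ.2
          (CT.isCharacter_of_isIrr (Glauberman.compIrr e θ).2) hχ ?_
        rw [show (fun y : L' => (ψ : H → ℂ) y) = (Glauberman.compIrr e θ : L' → ℂ) from funext hψ,
          CT.irr_inner_self (Glauberman.compIrr e θ).2]
        exact one_ne_zero
      have h2 : (fun y : L' => (χ : G → ℂ) ((y : H) : G)) =
          ((χ : G → ℂ) 1) • fun _ => (1 : ℂ) := funext fun y => by
        rw [Pi.smul_apply, smul_eq_mul, mul_one]
        exact (hK _).mp (hLK y.2) χ hχd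
      rw [h2, CT.classInner_smul_left] at h1
      have h3 := CT.eq_of_inner_ne_zero CT.isIrrCharacter_one
        (Glauberman.compIrr e θ).2 (mul_ne_zero_iff.mp h1).2
      refine hθ1 (funext fun l => ?_)
      have := congrFun h3 (e.symm l)
      rw [Glauberman.compIrr_apply, MulEquiv.apply_symm_apply] at this
      exact this.symm
    intro k hk
    obtain ⟨Q, hQ⟩ := Transfer.exists_sylow_eq_subgroupOf P K
    have hcompl := Transfer.isComplement'_pResidual (G := K) hcomp Q
    have hk' : (⟨k, hk⟩ : K) ∈ Cfsg.pResidual p K ⊔ (Q : Subgroup K) := by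
      rw [hcompl.sup_eq_top]; trivial
    have := Subgroup.mem_map_of_mem K.subtype hk'
    rw [Subgroup.map_sup] at this
    refine sup_le_sup hLN ?_ this
    rw [hQ]
    rintro _ ⟨y, hy, rfl⟩
    exact hKP ⟨y.2, hy⟩
  · intro g hg
    refine (hK g).mpr fun χ hχ => ?_
    set M := (N ⊔ D).normalCore with hM
    haveI : M.Normal := Subgroup.normalCore_normal _
    have hker := le_ker_of_inf_centralizer P N hN χ hχ
    have hNk : N ≤ CT.kerChar (χ : G → ℂ) := fun n hn =>
      (CT.mem_kerChar_iff (CT.isCharacter_of_isIrr χ.2)).mpr (hker n hn)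
    -- a linear constituent on the Sylow subgroup
    have hres : Cfsg.IsCharacter (P : Subgroup G) (fun y : (P : Subgroup G) => (χ : G → ℂ) y) :=
      CT.isCharacter_restrict _ (CT.isCharacter_of_isIrr χ.2)
    obtain ⟨η, hη, hηd⟩ := exists_pprime_constituent hres
      (show ¬ p ∣ CT.deg (fun y : (P : Subgroup G) => (χ : G → ℂ) y) from hχ)
    have hη1 : (η : ↥(P : Subgroup G) → ℂ) 1 = 1 := by
      obtain ⟨n, hn⟩ := IsPGroup.iff_card.mp P.isPGroup'
      obtain ⟨j, -, hj⟩ := (Nat.dvd_prime_pow hp).mp (hn ▸ Glauberman.deg_dvd_card η)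
      rcases Nat.eq_zero_or_pos j with h0 | h0
      · rw [CT.deg_eq (CT.isCharacter_of_isIrr η.2), hj, h0, pow_zero, Nat.cast_one]
      · exact absurd (hj ▸ dvd_pow_self p h0.ne') hηd
    obtain ⟨lam, hlam⟩ := CT.exists_hom_of_degree_one (CT.isCharacter_of_isIrr η.2) hη1
    set D' : Subgroup (P : Subgroup G) := commutator (P : Subgroup G) with hD'
    haveI : Fintype D' := Fintype.ofFinite _
    have hηD : ∀ y : D', (η : ↥(P : Subgroup G) → ℂ) y = 1 := fun y => by
      rw [CT.linear_trivial_on_commutator (CT.isCharacter_of_isIrr η.2) hη1 y.1 y.2, hη1]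
    have h1 : Cfsg.classInner (fun y : D' => (χ : G → ℂ) ((y : (P : Subgroup G)) : G))
        (fun _ => (1 : ℂ)) ≠ 0 := by
      refine CT.classInner_eq_of_res_ne_zero hres η.2 CT.isCharacter_one hη ?_
      rw [show (fun y : D' => (η : ↥(P : Subgroup G) → ℂ) y) = fun _ => (1 : ℂ) from funext hηD,
        CT.irr_inner_self CT.isIrrCharacter_one]
      exact one_ne_zero
    have hmap : D'.map (P : Subgroup G).subtype = D := commutator_in _
    -- extend over the normal subgroup in the kernel
    set H : Subgroup G := N ⊔ D with hH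
    haveI : Fintype H := Fintype.ofFinite _
    haveI : Fintype M := Fintype.ofFinite _
    have hdisj : N ⊓ D = ⊥ := by
      have hNp := not_dvd_of_inf_centralizer P N hN
      rw [eq_bot_iff]
      exact (inf_le_inf_left N hDP).trans (Transfer.sylow_disjoint_of_coprime P N hNp).le
    let F : N × D' → H := fun x => ⟨(x.1 : G) * ((x.2 : (P : Subgroup G)) : G),
      mul_mem (Subgroup.mem_sup_left x.1.2) (Subgroup.mem_sup_right
        (hmap ▸ Subgroup.mem_map_of_mem _ x.2.2))⟩
    have hF : Function.Bijective F := by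
      constructor
      · rintro ⟨a, b⟩ ⟨a', b'⟩ h
        have h' : (a : G) * ((b : (P : Subgroup G)) : G) =
          (a' : G) * ((b' : (P : Subgroup G)) : G) := congrArg Subtype.val h
        have h2 : (a' : G)⁻¹ * a = ((b' : (P : Subgroup G)) : G) *
            ((b : (P : Subgroup G)) : G)⁻¹ := by
          rw [inv_mul_eq_iff_eq_mul, ← mul_assoc, ← h', mul_inv_cancel_right]
        have h3 : (a' : G)⁻¹ * a ∈ N ⊓ D := ⟨N.mul_mem (N.inv_mem a'.2) a.2, by
          rw [h2, ← hmap]
          exact mul_mem (Subgroup.mem_map_of_mem _ b'.2)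
            (Subgroup.inv_mem _ (Subgroup.mem_map_of_mem _ b.2))⟩
        rw [hdisj, Subgroup.mem_bot, inv_mul_eq_one] at h3
        have h4 : b = b' := by
          rw [h3] at h'
          exact Subtype.ext (Subtype.ext (mul_left_cancel h'))
        exact Prod.ext (Subtype.ext h3.symm) h4
      · rintro ⟨h, hh⟩
        have : h ∈ (↑(N ⊔ D) : Set G) := hh
        rw [Subgroup.normal_mul] at this
        obtain ⟨a, ha, b, hb, rfl⟩ := this
        rw [SetLike.mem_coe, ← hmap] at hb
        obtain ⟨b', hb', rfl⟩ := hb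
        exact ⟨(⟨a, ha⟩, ⟨b', hb'⟩), rfl⟩
    have h2 : Cfsg.classInner (fun y : H => (χ : G → ℂ) y) (fun _ => (1 : ℂ)) ≠ 0 := by
      have hval : ∀ x : N × D', (χ : G → ℂ) (F x) = (χ : G → ℂ) ((x.2 : (P : Subgroup G)) : G) := by
        intro x
        show (χ : G → ℂ) ((x.1 : G) * ((x.2 : (P : Subgroup G)) : G)) = _
        rw [CT.isClassFunction_mul_comm (CT.isClassFunction_of_isIrr χ.2), hNk x.1.2]
      have hcard : (Nat.card H : ℂ) = (Nat.card N : ℂ) * (Nat.card D' : ℂ) := by
        rw [← Nat.card_eq_of_bijective F hF, Nat.card_prod, Nat.cast_mul]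
      have hN0 : (Nat.card N : ℂ) ≠ 0 := Nat.cast_ne_zero.mpr Nat.card_pos.ne'
      haveI : Fintype N := Fintype.ofFinite _
      have heq : Cfsg.classInner (fun y : H => (χ : G → ℂ) y) (fun _ => (1 : ℂ)) =
          Cfsg.classInner (fun y : D' => (χ : G → ℂ) ((y : (P : Subgroup G)) : G))
            (fun _ => (1 : ℂ)) := by
        rw [Cfsg.classInner, Cfsg.classInner, hcard]
        simp only [map_one, mul_one]
        rw [← Fintype.sum_bijective F hF (fun x => (χ : G → ℂ) ((x.2 : (P : Subgroup G)) : G))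
          (fun y : H => (χ : G → ℂ) y) (fun x => (hval x).symm), Fintype.sum_prod_type]
        simp only [Finset.sum_const, Finset.card_univ, nsmul_eq_mul, ← Nat.card_eq_fintype_card]
        field_simp
      rw [heq]
      exact h1
    have hMH : M ≤ H := Subgroup.normalCore_le _
    haveI : Fintype (M.subgroupOf H) := Fintype.ofFinite _
    have h3 : Cfsg.classInner (fun y : M.subgroupOf H => (χ : G → ℂ) ((y : H) : G))
        (fun _ => (1 : ℂ)) ≠ 0 := by
      refine CT.classInner_eq_of_res_ne_zero (CT.isCharacter_restrict H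
        (CT.isCharacter_of_isIrr χ.2)) CT.isIrrCharacter_one CT.isCharacter_one h2 ?_
      rw [CT.irr_inner_self CT.isIrrCharacter_one]
      exact one_ne_zero
    have h4 : Cfsg.classInner (fun y : M => (χ : G → ℂ) y) (fun _ => (1 : ℂ)) ≠ 0 := by
      rw [← Glauberman.classInner_comp_equiv (Subgroup.subgroupOfEquivOfLe hMH)]
      exact h3
    have h5 := CT.restrict_eq_smul_of_invariant M χ.2 CT.isIrrCharacter_one h4 (fun g => rfl)
    have h6 := congrFun h5 ⟨g, hg⟩
    have h7 := congrFun h5 1
    simp only [Pi.smul_apply, OneMemClass.coe_one] at h6 h7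
    rw [h6, h7]

end Cfsg.Agent.S4591
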