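import Cfsg.Statements.S4601
import Cfsg.Agent.Lib.Basics.CoprimeAction
import Cfsg.Agent.Lib.Basics.Cores
import Cfsg.Agent.Lib.Coprime23.PSolv

set_option autoImplicit false
set_option linter.all false
universe u
open Cfsg Cfsg.Agent.Basics
open scoped Pointwise

namespace Cfsg.Agent.S4601

/-- Product formula with a normal factor. -/
theorem card_sup_mul_inf {G : Type*} [Group G] (N L : Subgroup G) [N.Normal] :
    Nat.card ↥(N ⊔ L) * Nat.card ↥(N ⊓ L) = Nat.card N * Nat.card L := by
  have h1 : ∀ A B : Subgroup G, A ≤ B → Nat.card A * A.relIndex B = Nat.card B := fun A B h => by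
    rw [← Subgroup.relIndex_bot_left A, ← Subgroup.relIndex_bot_left B,
      Subgroup.relIndex_mul_relIndex ⊥ A B bot_le h]
  have h2 := h1 N (N ⊔ L) le_sup_left
  have h3 := h1 (N ⊓ L) L inf_le_right
  rw [Subgroup.inf_relIndex_right, ← Subgroup.relIndex_sup_left (K := N) (H := L)] at h3
  rw [← h2, ← h3]
  ring

/-- A subgroup of index prime to `p` meets a normal subgroup in a subgroup of index prime to `p`. -/
theorem factorization_inf {G : Type*} [Group G] [Finite G] (p : ℕ) (hp : p.Prime) (N C : Subgroup G)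
    [N.Normal] (hC : ¬ p ∣ C.index) :
    (Nat.card ↥(N ⊓ C)).factorization p = (Nat.card N).factorization p := by
  have h := card_sup_mul_inf N C
  have h1 : C.index = C.relIndex (N ⊔ C) * (N ⊔ C).index :=
    (Subgroup.relIndex_mul_index le_sup_right).symm
  have h2 : Nat.card C * C.relIndex (N ⊔ C) = Nat.card ↥(N ⊔ C) := by
    rw [← Subgroup.relIndex_bot_left C, ← Subgroup.relIndex_bot_left (N ⊔ C),
      Subgroup.relIndex_mul_relIndex ⊥ C (N ⊔ C) bot_le le_sup_right]
  have h3 : C.relIndex (N ⊔ C) * Nat.card ↥(N ⊓ C) = Nat.card N := by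
    refine Nat.eq_of_mul_eq_mul_left (Nat.card_pos (α := C)) ?_
    rw [← mul_assoc, h2, h]; ring
  have h4 : ¬ p ∣ C.relIndex (N ⊔ C) := fun hd => hC (h1 ▸ hd.mul_right _)
  rw [← h3, Nat.factorization_mul (fun h0 => h4 (by simp [h0])) Nat.card_pos.ne', Finsupp.add_apply,
    Nat.factorization_eq_zero_of_not_dvd h4, zero_add]

/-- A `q`-group acting on a `q'`-group, each element fixing a Sylow `p`-subgroup pointwise,
centralises a Sylow `p`-subgroup. -/
theorem exists_centralized_sylow {G : Type*} [Group G] [Finite G] (p q : ℕ) [Fact p.Prime]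
    [Fact q.Prime] (Q N : Subgroup G) [N.Normal] (hQ : IsPGroup q Q)
    (hN : ¬ q ∣ Nat.card N) (h : ∀ y ∈ Q, ¬ p ∣ (Subgroup.centralizer ({y} : Set G)).index) :
    ∃ R : Subgroup G, R ≤ N ∧ Nat.card R = p ^ (Nat.card N).factorization p ∧
      R ≤ Subgroup.centralizer (Q : Set G) := by
  obtain ⟨k, hk⟩ := IsPGroup.iff_card.mp hQ
  have hq : q.Prime := Fact.out
  have hcopQ : (Nat.card Q).Coprime (Nat.card N) :=
    hk ▸ Nat.Coprime.pow_left k ((hq.coprime_iff_not_dvd).mpr hN)
  have hQN : Q ≤ Subgroup.normalizer (N : Set G) := by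
    rw [Subgroup.normalizer_eq_top]; exact le_top
  haveI : Group.IsNilpotent Q := hQ.isNilpotent
  obtain ⟨R, hR, hQR⟩ := exists_invariant_isSylowIn Q N hQN hcopQ
    (Or.inl inferInstance) p
  refine ⟨R, hR.1, hR.2, ?_⟩
  rw [Subgroup.le_centralizer_iff]
  intro y hy
  set C := Subgroup.centralizer ({y} : Set G) with hC
  let S : Sylow p ↥(N ⊓ C) := default
  have hS : IsSylowIn p N ((S : Subgroup ↥(N ⊓ C)).map (N ⊓ C).subtype) := by
    refine ⟨(Subgroup.map_subtype_le _).trans inf_le_left, ?_⟩
    rw [Subgroup.card_map_of_injective (N ⊓ C).subtype_injective, S.card_eq_multiplicity,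
      factorization_inf p Fact.out N C (h y hy)]
  have hSC : (S : Subgroup ↥(N ⊓ C)).map (N ⊓ C).subtype ≤ C :=
    (Subgroup.map_subtype_le _).trans inf_le_right
  have hA : Subgroup.zpowers y ≤ Q := Subgroup.zpowers_le.mpr hy
  have hAS : Subgroup.zpowers y ≤
      Subgroup.normalizer (((S : Subgroup ↥(N ⊓ C)).map (N ⊓ C).subtype : Subgroup G) : Set G) := by
    refine Subgroup.zpowers_le.mpr (Subgroup.centralizer_le_normalizer _ ?_)
    rw [Subgroup.mem_centralizer_iff]
    intro s hs
    exact (Subgroup.mem_centralizer_iff.mp (hSC hs) y rfl).symm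
  haveI : Group.IsNilpotent (Subgroup.zpowers y) := (hQ.to_le hA).isNilpotent
  obtain ⟨c, hc, hcR⟩ := invariant_isSylowIn_conj (Subgroup.zpowers y) N (hA.trans hQN)
    (hcopQ.coprime_dvd_left (Subgroup.card_dvd_of_le hA)) (Or.inl inferInstance) p hS hR hAS
    (hA.trans hQR)
  rw [Subgroup.mem_centralizer_iff]
  intro r hr
  rw [← hcR] at hr
  obtain ⟨s, hs, rfl⟩ := hr
  have h1 : y * s = s * y := Subgroup.mem_centralizer_iff.mp (hSC hs) y rfl
  have h2 : y * c = c * y := Subgroup.mem_centralizer_iff.mp hc.2 y (Subgroup.mem_zpowers y)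
  have hcy : Commute y (c * s * c⁻¹) :=
    ((Commute.mul_right (show Commute y c from h2) h1).mul_right
      ((show Commute y c from h2).inv_right))
  exact hcy.eq.symm

/-- Frattini step: a `p`-Sylow normalising `QN` gives one normalising `Q`. -/
theorem exists_sylow_normalizer {G : Type*} [Group G] [Finite G] (p q : ℕ) [Fact p.Prime]
    [Fact q.Prime] (h : ∀ y : G, (∃ k : ℕ, orderOf y = q ^ k) →
      ¬ p ∣ (Subgroup.centralizer ({y} : Set G)).index) (N : Subgroup G) [N.Normal]
    (P : Sylow p G) (Q : Sylow q G)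
    (hP : (P : Subgroup G) ≤ Subgroup.normalizer (((Q : Subgroup G) ⊔ N : Subgroup G) : Set G))
    (hN : ¬ p ∣ Nat.card N ∨ ¬ q ∣ Nat.card N) :
    ∃ P' : Sylow p G, (P' : Subgroup G) ≤ Subgroup.normalizer ((Q : Subgroup G) : Set G) := by
  set QN : Subgroup G := (Q : Subgroup G) ⊔ N
  set M := Subgroup.normalizer (QN : Set G) with hM
  set L := M ⊓ Subgroup.normalizer ((Q : Subgroup G) : Set G) with hL
  have hNM : N ≤ M := (le_sup_right : N ≤ QN).trans Subgroup.le_normalizer
  have hQs : IsSylowIn q QN (Q : Subgroup G) := by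
    refine ⟨le_sup_left, ?_⟩
    rw [Q.card_eq_multiplicity]
    congr 1
    refine le_antisymm ?_ ((Nat.factorization_le_iff_dvd Nat.card_pos.ne' Nat.card_pos.ne').mpr
      (Subgroup.card_subgroup_dvd_card QN) q)
    have h1 : Nat.card (Q : Subgroup G) ∣ Nat.card QN := Subgroup.card_dvd_of_le le_sup_left
    rw [Q.card_eq_multiplicity] at h1
    exact (Nat.Prime.pow_dvd_iff_le_factorization Fact.out Nat.card_pos.ne').mp h1
  have hsup : N ⊔ L = M := by
    refine le_antisymm (sup_le hNM inf_le_left) fun m hm => ?_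
    obtain ⟨k, hk, hkQ⟩ := (hQs.conj_smul hm).exists_conj hQs
    rw [← mul_smul, ← map_mul] at hkQ
    have hkm := conj_smul_eq_self_iff.mp hkQ
    obtain ⟨x, hx, n, hn, rfl⟩ := Subgroup.mem_sup_of_normal_right.mp hk
    have h2 : n * m ∈ L := by
      refine ⟨M.mul_mem (hNM hn) hm, ?_⟩
      have := (Subgroup.normalizer ((Q : Subgroup G) : Set G)).mul_mem
        ((Subgroup.normalizer ((Q : Subgroup G) : Set G)).inv_mem (Subgroup.le_normalizer hx)) hkm
      rwa [mul_assoc, inv_mul_cancel_left] at this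
    have := Subgroup.mul_mem_sup (N.inv_mem hn) h2
    rwa [inv_mul_cancel_left] at this
  have hinf : (Nat.card ↥(N ⊓ L)).factorization p = (Nat.card N).factorization p := by
    refine le_antisymm ((Nat.factorization_le_iff_dvd Nat.card_pos.ne' Nat.card_pos.ne').mpr
      (Subgroup.card_dvd_of_le inf_le_left) p) ?_
    rcases hN with hp' | hq'
    · rw [Nat.factorization_eq_zero_of_not_dvd hp']; exact Nat.zero_le _
    · obtain ⟨R, hRN, hRc, hRQ⟩ := exists_centralized_sylow p q (Q : Subgroup G) N Q.isPGroup' hq'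
        fun y hy => h y (by
          obtain ⟨k, hk⟩ := Q.isPGroup' ⟨y, hy⟩
          obtain ⟨i, -, hi⟩ := (Nat.dvd_prime_pow Fact.out).mp (orderOf_dvd_of_pow_eq_one hk)
          exact ⟨i, by rw [← hi]; exact Subgroup.orderOf_coe (⟨y, hy⟩ : (Q : Subgroup G))⟩)
      have hRle : R ≤ N ⊓ L := le_inf hRN (le_inf (hRN.trans hNM)
        (hRQ.trans (Subgroup.centralizer_le_normalizer _)))
      have h2 := Subgroup.card_dvd_of_le hRle
      rw [hRc] at h2
      exact (Nat.Prime.pow_dvd_iff_le_factorization Fact.out Nat.card_pos.ne').mp h2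
  have hLv : (Nat.card L).factorization p = (Nat.card G).factorization p := by
    have h1 := congrArg (fun n => n.factorization p) (card_sup_mul_inf N L)
    simp only [Nat.factorization_mul Nat.card_pos.ne' Nat.card_pos.ne', Finsupp.add_apply,
      hsup, hinf] at h1
    have h2 : (Nat.card M).factorization p = (Nat.card G).factorization p := by
      refine le_antisymm ((Nat.factorization_le_iff_dvd Nat.card_pos.ne' Nat.card_pos.ne').mpr
        (Subgroup.card_subgroup_dvd_card M) p) ?_
      have h3 : Nat.card (P : Subgroup G) ∣ Nat.card M := Subgroup.card_dvd_of_le hP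
      rw [P.card_eq_multiplicity] at h3
      exact (Nat.Prime.pow_dvd_iff_le_factorization Fact.out Nat.card_pos.ne').mp h3
    omega
  let S : Sylow p L := default
  have hcard : Nat.card ((S : Subgroup L).map L.subtype) = p ^ (Nat.card G).factorization p := by
    rw [Subgroup.card_map_of_injective L.subtype_injective, S.card_eq_multiplicity, hLv]
  refine ⟨Sylow.ofCard _ hcard, ?_⟩
  rw [Sylow.coe_ofCard]
  exact (Subgroup.map_subtype_le _).trans inf_le_right

theorem main (n : ℕ) : ∀ (G : Type u) [Group G] [Finite G] (p q : ℕ) [Fact p.Prime] [Fact q.Prime],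
    Nat.card G = n → Cfsg.IsPSolvable p G ∨ Cfsg.IsPSolvable q G →
    (∀ y : G, (∃ k : ℕ, orderOf y = q ^ k) → ¬ p ∣ (Subgroup.centralizer ({y} : Set G)).index) →
    ∃ (P : Sylow p G) (Q : Sylow q G),
      (P : Subgroup G) ≤ Subgroup.normalizer ((Q : Subgroup G) : Set G) := by
  induction n using Nat.strong_induction_on with
  | _ n ih =>
    intro G _ _ p q _ _ hn hsolv h
    by_cases hpq : p = q
    · subst hpq
      exact ⟨default, default, Subgroup.le_normalizer⟩
    rcases subsingleton_or_nontrivial G with hG | hG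
    · exact ⟨default, default, fun x _ => by
        rw [Subsingleton.elim x 1]; exact one_mem _⟩
    have step : ∀ N : Subgroup G, N.Normal → N ≠ ⊥ →
        ∃ (P : Sylow p G) (Q : Sylow q G),
          (P : Subgroup G) ≤ Subgroup.normalizer (((Q : Subgroup G) ⊔ N : Subgroup G) : Set G) := by
      intro N hNn hN
      haveI := hNn
      have hlt : Nat.card (G ⧸ N) < n := by
        have := Subgroup.index_strictAnti (bot_lt_iff_ne_bot.mpr hN)
        rw [Subgroup.index_bot, hn, Subgroup.index_eq_card] at this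
        exact this
      have hsurj := QuotientGroup.mk'_surjective N
      obtain ⟨P0, Q0, hPQ⟩ := ih _ hlt (G ⧸ N) p q rfl
        (hsolv.imp (Coprime23.isPSolvable_map _ hsurj) (Coprime23.isPSolvable_map _ hsurj))
        (fun y hy hd => by
          obtain ⟨k, hk⟩ := hy
          obtain ⟨Q1, hQ1⟩ := (IsPGroup.of_card (p := q) (by
            rw [Nat.card_zpowers, hk] : Nat.card (Subgroup.zpowers y) = q ^ k)).exists_le_sylow
          obtain ⟨Q2, rfl⟩ := Sylow.mapSurjective_surjective hsurj q Q1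
          obtain ⟨x, hx, hxy⟩ := (hQ1 (Subgroup.mem_zpowers y) :
            y ∈ (Q2 : Subgroup G).map (QuotientGroup.mk' N))
          obtain ⟨j, hj⟩ := Q2.isPGroup' ⟨x, hx⟩
          obtain ⟨i, -, hi⟩ := (Nat.dvd_prime_pow Fact.out).mp (orderOf_dvd_of_pow_eq_one hj)
          refine h x ⟨i, by rw [← hi]; exact Subgroup.orderOf_coe (⟨x, hx⟩ : (Q2 : Subgroup G))⟩ (hd.trans ?_)
          refine (Subgroup.index_dvd_of_le ?_).trans
            (Subgroup.index_map_dvd (Subgroup.centralizer ({x} : Set G)) hsurj)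
          rintro _ ⟨c, hc, rfl⟩
          rw [Subgroup.mem_centralizer_iff]
          rintro z rfl
          rw [← hxy, ← map_mul, ← map_mul, Subgroup.mem_centralizer_iff.mp hc x rfl])
      obtain ⟨P, rfl⟩ := Sylow.mapSurjective_surjective hsurj p P0
      obtain ⟨Q, rfl⟩ := Sylow.mapSurjective_surjective hsurj q Q0
      refine ⟨P, Q, fun x hx => ?_⟩
      have hcm : ((Q : Subgroup G).map (QuotientGroup.mk' N)).comap (QuotientGroup.mk' N) =
          (Q : Subgroup G) ⊔ N := by
        rw [Subgroup.comap_map_eq, QuotientGroup.ker_mk']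
      have hx' : QuotientGroup.mk' N x ∈ Subgroup.normalizer
          (((Q : Subgroup G).map (QuotientGroup.mk' N) : Subgroup (G ⧸ N)) : Set (G ⧸ N)) :=
        hPQ ⟨x, hx, rfl⟩
      rw [← hcm, Subgroup.mem_normalizer_iff]
      intro g
      simp only [Subgroup.mem_comap, map_mul, map_inv]
      exact Subgroup.mem_normalizer_iff.mp hx' _
    have hqp : ¬ q ∣ p := fun hd => hpq ((Nat.prime_dvd_prime_iff_eq Fact.out Fact.out).mp hd).symm
    rcases hsolv with hs | hs
    · rcases Coprime23.exists_core_ne_bot hs with hc | hc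
      · obtain ⟨P, Q, hPQ⟩ := step _ inferInstance hc
        obtain ⟨k, hk⟩ := IsPGroup.iff_card.mp (pCore_isPGroup (G := G) p)
        obtain ⟨P', hP'⟩ := exists_sylow_normalizer p q h _ P Q hPQ (Or.inr fun hd => hqp
          ((Fact.out : q.Prime).dvd_of_dvd_pow (hk ▸ hd)))
        exact ⟨P', Q, hP'⟩
      · obtain ⟨P, Q, hPQ⟩ := step _ inferInstance hc
        obtain ⟨P', hP'⟩ := exists_sylow_normalizer p q h _ P Q hPQ
          (Or.inl ((Fact.out : p.Prime).coprime_iff_not_dvd.mp (pPrimeCore_coprime p).symm))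
        exact ⟨P', Q, hP'⟩
    · rcases Coprime23.exists_core_ne_bot hs with hc | hc
      · obtain ⟨P, Q, hPQ⟩ := step _ inferInstance hc
        refine ⟨P, Q, ?_⟩
        rwa [sup_eq_left.mpr (pCore_le_sylow q Q)] at hPQ
      · obtain ⟨P, Q, hPQ⟩ := step _ inferInstance hc
        obtain ⟨P', hP'⟩ := exists_sylow_normalizer p q h _ P Q hPQ
          (Or.inr ((Fact.out : q.Prime).coprime_iff_not_dvd.mp (pPrimeCore_coprime q).symm))
        exact ⟨P', Q, hP'⟩

/-- Let p and q be primes and G a finite group that is p-solvable or q-solvable, in which no q-element has conjugacy class size divisible by p. Then some Sylow p-subgroup of G normalizes some Sylow q-subgroup of G. -/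
theorem result {G : Type*} [Group G] [Finite G] (p q : ℕ) [Fact p.Prime] [Fact q.Prime] (hsolv : Cfsg.IsPSolvable p G ∨ Cfsg.IsPSolvable q G)
    (h : ∀ y : G, (∃ k : ℕ, orderOf y = q ^ k) → ¬ p ∣ (Subgroup.centralizer ({y} : Set G)).index) :
    ∃ (P : Sylow p G) (Q : Sylow q G), (P : Subgroup G) ≤ Subgroup.normalizer ((Q : Subgroup G) : Set G) := by
  exact main _ G p q rfl hsolv h

end Cfsg.Agent.S4601
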