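import Cfsg.Statements.S4602
import Cfsg.Agent.Lib.Components.PPrimeCore
import Cfsg.Agent.Lib.OddLocal.PAction
import Cfsg.Agent.Lib.Transfer.Constrained
import Cfsg.Agent.Lib.Transfer.SL2Props

set_option autoImplicit false
open Cfsg

namespace Cfsg.Agent.S4602

open Subgroup

/-- Let G be a finite p-solvable group and q a prime different from p. Some Sylow p-subgroup of G normalizes some Sylow q-subgroup of G if and only if q does not divide the order of G/O_{p'}(G), the quotient by the largest normal subgroup of order prime to p. -/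
theorem result {G : Type*} [Group G] [Finite G] (p q : ℕ) [Fact p.Prime] [Fact q.Prime] (hpq : p ≠ q) (hsolv : Cfsg.IsPSolvable p G) :
    (∃ (P : Sylow p G) (Q : Sylow q G), (P : Subgroup G) ≤ Subgroup.normalizer ((Q : Subgroup G) : Set G)) ↔ ¬ q ∣ (Cfsg.pPrimeCore p G).index := by
  set K := Cfsg.pPrimeCore p G with hK
  constructor
  · rintro ⟨P, Q, hPQ⟩ hq
    set π := QuotientGroup.mk' K
    have hπ : Function.Surjective π := QuotientGroup.mk'_surjective K
    set P' := P.mapSurjective hπ
    set Q' := Q.mapSurjective hπ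
    set X := Cfsg.pCore p (G ⧸ K)
    have hXP : X ≤ (P' : Subgroup (G ⧸ K)) := Basics.pCore_le_sylow p P'
    have hQC : (Q' : Subgroup (G ⧸ K)) ≤ centralizer (X : Set (G ⧸ K)) := by
      intro y hy x hx
      obtain ⟨g, hg, e⟩ := (Sylow.coe_mapSurjective hπ P).le (hXP hx)
      obtain ⟨r, hr, e'⟩ := (Sylow.coe_mapSurjective hπ Q).le hy
      have h1 : x * y * x⁻¹ * y⁻¹ ∈ (Q' : Subgroup (G ⧸ K)) := by
        refine mul_mem ?_ (inv_mem hy)
        rw [← e, ← e', ← map_mul, ← map_inv, ← map_mul, Sylow.coe_mapSurjective]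
        exact mem_map_of_mem π ((mem_normalizer_iff.mp (hPQ hg) r).mp hr)
      have h2 : x * y * x⁻¹ * y⁻¹ ∈ X := by
        rw [mul_assoc, mul_assoc x]
        refine mul_mem hx ?_
        rw [← mul_assoc]
        exact (inferInstance : X.Normal).conj_mem _ (inv_mem hx) y
      have h3 : (Nat.card X).Coprime (Nat.card (Q' : Subgroup (G ⧸ K))) := by
        obtain ⟨a, ha⟩ := (Basics.pCore_isPGroup (G := G ⧸ K) p).exists_card_eq
        obtain ⟨b, hb⟩ := Q'.2.exists_card_eq
        rw [show Nat.card X = p ^ a from ha, hb]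
        exact ((Nat.coprime_primes Fact.out Fact.out).mpr hpq).pow a b
      have h4 := (inf_eq_bot_of_coprime h3).le ⟨h2, h1⟩
      rw [mem_bot, mul_inv_eq_one, mul_inv_eq_iff_eq_mul] at h4
      exact h4
    have hC : centralizer (X : Set (G ⧸ K)) ≤ X :=
      Transfer.centralizer_pCore_le_of_pSolvable Components.pPrimeCore_quotient_eq_bot
        (Transfer.isPSolvable_subgroup' (Coprime23.isPSolvable_map π hπ hsolv) _)
    have hQ1 : (Q' : Subgroup (G ⧸ K)) = ⊥ := by
      obtain ⟨a, ha⟩ := (Basics.pCore_isPGroup (G := G ⧸ K) p).exists_card_eq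
      obtain ⟨b, hb⟩ := Q'.2.exists_card_eq
      have h5 := card_dvd_of_le (hQC.trans hC)
      rw [hb, show Nat.card X = p ^ a from ha] at h5
      rcases b with _ | b
      · exact eq_bot_of_card_eq _ (by rw [hb, pow_zero])
      · exact absurd ((Nat.prime_dvd_prime_iff_eq Fact.out Fact.out).mp
          ((Fact.out : q.Prime).dvd_of_dvd_pow ((dvd_pow_self q (Nat.succ_ne_zero b)).trans h5)))
          (Ne.symm hpq)
    refine Q'.not_dvd_index ?_
    rw [hQ1, index_bot]
    exact hq
  · intro hq
    obtain ⟨P⟩ := (inferInstance : Nonempty (Sylow p G))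
    obtain ⟨S, -, hSK, hSq, hPS, hrel⟩ := OddLocal.exists_invariant_sylow_ge (A := (P : Subgroup G))
      P.2 (K := K) (fun _ _ => by rw [normalizer_eq_top]; trivial)
      ((Fact.out : p.Prime).coprime_iff_not_dvd.mp (Components.pPrimeCore_coprime (p := p)).symm)
      (Y := ⊥) bot_le (IsPGroup.of_bot (p := q)) (fun _ _ => by rw [normalizer_eq_top]; trivial)
    refine ⟨P, hSq.toSylow ?_, by rw [IsPGroup.toSylow_coe]; exact hPS⟩
    rw [← relIndex_mul_index hSK]
    exact (Fact.out : q.Prime).not_dvd_mul hrel hq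

end Cfsg.Agent.S4602
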