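import Cfsg.Statements.S4604
import Cfsg.Agent.Lib.CT.SectionIndicator
import Cfsg.Agent.Lib.CT.Orthogonality
import Mathlib.Algebra.CharP.Lemmas

set_option autoImplicit false
set_option linter.all false
open Cfsg

namespace Cfsg.Agent.S4604

/-- Let G be a finite group, p a prime and p^a the p-part of the order of G. Let x, y ∈ G and let x′, y′ be their p-regular parts: x′ has order prime to p, commutes with x·x′⁻¹, and x·x′⁻¹ has p-power order (likewise for y). Then x′ and y′ are conjugate in G if and only if for every irreducible character χ of G the algebraic integer χ(x)^(p^a) − χ(y)^(p^a) is p times an algebraic integer. -/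
theorem result {G : Type*} [Group G] [Finite G] (p : ℕ) [Fact p.Prime] (x y x' y' : G)
    (hx : (∃ k : ℕ, orderOf (x * x'⁻¹) = p ^ k) ∧ Commute (x * x'⁻¹) x' ∧ ¬ p ∣ orderOf x')
    (hy : (∃ k : ℕ, orderOf (y * y'⁻¹) = p ^ k) ∧ Commute (y * y'⁻¹) y' ∧ ¬ p ∣ orderOf y') :
    IsConj x' y' ↔ ∀ χ : Cfsg.IrrCharacter G, ∃ γ : Cfsg.AlgInt,
      (χ : G → ℂ) x ^ (p ^ (Nat.card G).factorization p) - (χ : G → ℂ) y ^ (p ^ (Nat.card G).factorization p) = (p : ℂ) * (γ : ℂ) := by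
  classical
  haveI := Fintype.ofFinite G
  have hp := (Fact.out : p.Prime)
  set q := p ^ (Nat.card G).factorization p with hq
  set n := Nat.card G / q with hn
  have hmn : Nat.card G = q * n := (Nat.ordProj_mul_ordCompl_eq_self _ _).symm
  have hnp : ¬ p ∣ n := Nat.not_dvd_ordCompl hp Nat.card_pos.ne'
  -- frobenius on sums
  have hfrob : ∀ {ι : Type} (s : Finset ι) (a : ι → Cfsg.AlgInt),
      ∃ r : Cfsg.AlgInt, (∑ i ∈ s, a i) ^ q = (∑ i ∈ s, a i ^ q) + (p : Cfsg.AlgInt) * r := by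
    intro ι s a
    induction s using Finset.induction_on with
    | empty => exact ⟨0, by simp [hq, hp.pos.ne']⟩
    | @insert i s hi ih =>
      obtain ⟨r, hr⟩ := ih
      obtain ⟨r', hr'⟩ := exists_add_pow_prime_pow_eq hp (a i) (∑ j ∈ s, a j) ((Nat.card G).factorization p)
      refine ⟨r + a i * (∑ j ∈ s, a j) * r', ?_⟩
      rw [Finset.sum_insert hi, Finset.sum_insert hi, hq, hr', ← hq, hr]
      ring
  have hpow : ∀ (χ : Cfsg.IrrCharacter G) (z : G),
      ∃ γ : Cfsg.AlgInt, (χ : G → ℂ) z ^ q - (χ : G → ℂ) (z ^ q) = (p : ℂ) * (γ : ℂ) := by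
    intro χ z
    obtain ⟨d, ρ, hρ⟩ := CT.isCharacter_of_isIrr χ.2
    obtain ⟨w, hw, hk⟩ := CT.exists_eigenvalues ρ z
    let a : Fin _ → Cfsg.AlgInt := fun i =>
      ⟨w i, IsIntegral.of_pow (orderOf_pos z) (by rw [hw i]; exact isIntegral_one)⟩
    obtain ⟨r, hr⟩ := hfrob Finset.univ a
    refine ⟨r, ?_⟩
    have h := congrArg (Subtype.val : Cfsg.AlgInt → ℂ) hr
    push_cast at h
    rw [← hρ, hk q, show ρ.character z = ∑ i, w i by simpa using hk 1]
    rw [sub_eq_iff_eq_add']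
    exact h
  have hxq : ∀ z z' : G, ((∃ k : ℕ, orderOf (z * z'⁻¹) = p ^ k) ∧ Commute (z * z'⁻¹) z' ∧ ¬ p ∣ orderOf z') →
      z ^ q = z' ^ q ∧ ∃ j, (z' ^ q) ^ j = z' := by
    rintro z z' ⟨⟨k, hk⟩, hc, hz'⟩
    constructor
    · conv_lhs => rw [show z = z * z'⁻¹ * z' by group, hc.mul_pow]
      have h1 : (z * z'⁻¹) ^ q = 1 := by
        rw [← orderOf_dvd_iff_pow_eq_one, hk]
        refine pow_dvd_pow p ((hp.pow_dvd_iff_le_factorization Nat.card_pos.ne').mp ?_)
        rw [← hk]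
        exact orderOf_dvd_natCard _
      rw [h1, one_mul]
    · exact exists_pow_eq_self_of_coprime (((hp.coprime_iff_not_dvd.mpr hz').pow_left _))
  obtain ⟨hx1, j, hjx⟩ := hxq x x' hx
  obtain ⟨hy1, i, hiy⟩ := hxq y y' hy
  constructor
  · intro h χ
    obtain ⟨γ, hγ⟩ := hpow χ x
    obtain ⟨δ, hδ⟩ := hpow χ y
    refine ⟨γ - δ, ?_⟩
    have e : (χ : G → ℂ) (x ^ q) = (χ : G → ℂ) (y ^ q) := by
      rw [hx1, hy1]
      exact CT.isClassFunction_isConj (CT.isClassFunction_of_isIrr χ.2) (h.pow q)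
    show _ = (p : ℂ) * ((γ : ℂ) - (δ : ℂ))
    linear_combination hγ - hδ + e
  · intro h
    by_contra hne
    have hcong : ∀ χ : Cfsg.IrrCharacter G, ∃ γ : Cfsg.AlgInt,
        (χ : G → ℂ) (x' ^ q) - (χ : G → ℂ) (y' ^ q) = (p : ℂ) * (γ : ℂ) := by
      intro χ
      obtain ⟨γ, hγ⟩ := hpow χ x
      obtain ⟨δ, hδ⟩ := hpow χ y
      obtain ⟨ε, hε⟩ := h χ
      refine ⟨ε - γ + δ, ?_⟩
      rw [← hx1, ← hy1]
      show _ = (p : ℂ) * ((ε : ℂ) - (γ : ℂ) + (δ : ℂ))
      linear_combination hε - hγ + hδ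
    have hnc : ¬ IsConj (y' ^ q) (x' ^ q) := fun hc => hne (by
      obtain ⟨c, hc⟩ := isConj_iff.mp hc.symm
      obtain ⟨k0, hk0, hk0'⟩ := Nat.chineseRemainder ((hp.coprime_iff_not_dvd.mpr hnp).pow_left _ : Nat.Coprime q n) 0 1
      obtain ⟨t, ht⟩ := Nat.modEq_zero_iff_dvd.mp hk0
      have hback : ∀ z : G, ¬ p ∣ orderOf z → (z ^ q) ^ t = z := fun z hz => by
        have hzn : orderOf z ∣ n := ((hp.coprime_iff_not_dvd.mpr hz).pow_left _).symm.dvd_of_dvd_mul_left
          (hmn ▸ orderOf_dvd_natCard z)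
        rw [← pow_mul, ← ht]
        conv_rhs => rw [← pow_one z]
        exact pow_eq_pow_iff_modEq.mpr (hk0'.of_dvd hzn)
      rw [← hback x' hx.2.2, ← hback y' hy.2.2]
      exact (isConj_iff.mpr ⟨c, hc⟩).pow t)
    obtain ⟨k, hk0, hk1⟩ := Nat.chineseRemainder ((hp.coprime_iff_not_dvd.mpr hnp).pow_left _ : Nat.Coprime q n) 0 1
    set g := x' ^ q with hg
    have hfix : ∀ z : G, ¬ p ∣ orderOf z → (z ^ q) ^ k = z ^ q := fun z hz => by
      conv_rhs => rw [← pow_one (z ^ q)]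
      have hzn : orderOf (z ^ q) ∣ n := (orderOf_pow_dvd q).trans
        (((hp.coprime_iff_not_dvd.mpr hz).pow_left _).symm.dvd_of_dvd_mul_left (hmn ▸ orderOf_dvd_natCard z))
      exact pow_eq_pow_iff_modEq.mpr (hk1.of_dvd hzn)
    set f : G → ℂ := fun z => if IsConj (z ^ k) g then (n : ℂ) else 0 with hf
    have hcoef := fun χ => CT.section_indicator_coeff hmn hk0 hk1 ((hp.coprime_iff_not_dvd.mpr hnp).pow_left _) g χ
    have hcl : Cfsg.IsClassFunction G f := fun z c => by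
      simp only [hf]
      have : IsConj ((c * z * c⁻¹) ^ k) (z ^ k) := by
        rw [conj_pow]; exact (isConj_iff.mpr ⟨c, rfl⟩).symm
      exact if_congr ⟨fun h => this.symm.trans h, fun h => this.trans h⟩ rfl rfl
    have h1 : f g - f (y' ^ q) = (n : ℂ) := by
      simp only [hf]
      rw [hfix x' hx.2.2, hfix y' hy.2.2, if_pos (IsConj.refl g), if_neg hnc, sub_zero]
    have hexp := CT.classFunction_eq_sum hcl
    choose γ hγ using hcong
    have h2 : (n : ℂ) = (p : ℂ) * ((∑ χ : Cfsg.IrrCharacter G,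
        (⟨_, hcoef χ⟩ : Cfsg.AlgInt) * γ χ : Cfsg.AlgInt) : ℂ) := by
      refine h1.symm.trans ?_
      conv_lhs => rw [hexp, Finset.sum_apply, Finset.sum_apply, ← Finset.sum_sub_distrib]
      push_cast
      rw [Finset.mul_sum]
      refine Finset.sum_congr rfl fun χ _ => ?_
      simp only [Pi.smul_apply, smul_eq_mul, ← mul_sub]
      rw [hγ χ]
      rw [show f = fun z => if IsConj (z ^ k) g then (n : ℂ) else 0 from rfl]
      ring
    refine hnp ?_
    set w := (∑ χ : Cfsg.IrrCharacter G, (⟨_, hcoef χ⟩ : Cfsg.AlgInt) * γ χ : Cfsg.AlgInt) with hw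
    have hint : IsIntegral ℤ ((n : ℚ) / p) := by
      refine (isIntegral_algebraMap_iff (algebraMap ℚ ℂ).injective).mp ?_
      have : algebraMap ℚ ℂ ((n : ℚ) / p) = (w : ℂ) := by
        rw [map_div₀, map_natCast, map_natCast, h2, mul_div_assoc, mul_comm, div_mul_cancel₀]
        exact Nat.cast_ne_zero.mpr hp.pos.ne'
      rw [this]
      exact w.2
    obtain ⟨m, hm⟩ := IsIntegrallyClosed.isIntegral_iff.mp hint
    have hm' : (n : ℚ) = p * (m : ℚ) := by
      rw [show (m : ℚ) = algebraMap ℤ ℚ m from rfl, hm, mul_div_cancel₀]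
      exact Nat.cast_ne_zero.mpr hp.pos.ne'
    exact Int.natCast_dvd_natCast.mp ⟨m, by exact_mod_cast hm'⟩

end Cfsg.Agent.S4604
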