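import Cfsg.Statements.S4611
import Cfsg.Agent.S0915
import Cfsg.Agent.Lib.Blocks.Inflation
import Cfsg.Agent.Lib.Blocks.Normal
import Cfsg.Agent.Lib.Coprime23.PSolv
import Cfsg.Agent.Lib.Components.FFThompson
import Cfsg.Agent.Lib.Basics.Cores
import Cfsg.Agent.Lib.ClassSum.Codegree

set_option autoImplicit false
set_option linter.all false
open Cfsg

namespace Cfsg.Agent.S4611

/-- Let G be a finite solvable group and π a nonempty set of primes, each dividing the order of G; fix for each p in π a maximal ideal M p of the algebraic integers containing p. Then the only irreducible character lying in the principal p-block for every p in π is the principal character if and only if G is generated by the subgroups O_{p'}(G), p in π (the largest normal subgroups of order prime to p). -/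
theorem result {G : Type*} [Group G] [Finite G] [Group.IsSolvable G] (π : Set ℕ) (hπ : ∀ p ∈ π, p.Prime ∧ p ∣ Nat.card G) (hne : π.Nonempty) (M : ℕ → Ideal Cfsg.AlgInt) (hM : ∀ p ∈ π, Cfsg.IsPModular p (M p)) :
    (∀ χ : Cfsg.IrrCharacter G, (∀ p ∈ π, χ ∈ Cfsg.principalBlock (M p) G) → (χ : G → ℂ) = fun _ => 1) ↔
      ⨆ p ∈ π, Cfsg.pPrimeCore p G = ⊤ := by
  classical
  letI := Fintype.ofFinite G
  constructor
  · intro hall
    by_contra hne
    haveI : ∀ p, (⨆ _ : p ∈ π, Cfsg.pPrimeCore p G).Normal := fun p => by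
      by_cases hp : p ∈ π
      · rw [iSup_pos hp]; exact Basics.pPrimeCore_normal p
      · rw [iSup_neg hp]; infer_instance
    haveI hRn : (⨆ p ∈ π, Cfsg.pPrimeCore p G).Normal := Subgroup.iSup_normal _
    set R := ⨆ p ∈ π, Cfsg.pPrimeCore p G with hR
    haveI : Nontrivial (G ⧸ R) := by
      by_contra h
      rw [not_nontrivial_iff_subsingleton] at h
      exact hne (eq_top_iff.mpr fun g _ => (QuotientGroup.eq_one_iff g).mp (Subsingleton.elim _ _))
    obtain ⟨x, hx⟩ := exists_ne (1 : G ⧸ R)
    have hnc : ¬ IsConj x 1 := by rwa [isConj_one_left]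
    haveI := Fintype.ofFinite (G ⧸ R)
    rw [CT.isConj_iff_forall_irr] at hnc
    push Not at hnc
    obtain ⟨β, hβ⟩ := hnc
    have hmem : ∀ p ∈ π, Blocks.inflIrr β ∈ Cfsg.principalBlock (M p) G := by
      intro p hp
      haveI := Fact.mk (hπ p hp).1
      haveI := Blocks.isPrime_of_modular (hM p hp)
      haveI := Basics.pPrimeCore_normal (G := G) p
      haveI := Fintype.ofFinite (G ⧸ Cfsg.pPrimeCore p G)
      have hle : Cfsg.pPrimeCore p G ≤ R := le_biSup (fun p => Cfsg.pPrimeCore p G) hp
      obtain ⟨η, hη, hηv⟩ := CT.exists_quotient_irr (Blocks.inflIrr β).2 (Cfsg.pPrimeCore p G)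
        (fun n hn => by
          simp only [Blocks.inflIrr_apply, (QuotientGroup.eq_one_iff n).mpr (hle hn), QuotientGroup.mk_one])
      have hs : Cfsg.IsPSolvable p (G ⧸ Cfsg.pPrimeCore p G) :=
        Coprime23.isPSolvable_map _ (QuotientGroup.mk'_surjective _)
          (Components.isPSolvable_of_isSolvable _ G le_rfl inferInstance)
      have h := Blocks.sameBlock_inflIrr (G := G) (S0915.result p (M p) (hM p hp) hs
        (Basics.pPrimeCore_quotient_eq_bot p) (CT.trivIrr _) ⟨η, hη⟩)
      show Cfsg.SameBlock (M p) (fun _ : G => (1 : ℂ)) (Blocks.inflIrr β : G → ℂ)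
      have e1 : (Blocks.inflIrr (CT.trivIrr (G ⧸ Cfsg.pPrimeCore p G)) : G → ℂ) =
          fun _ => (1 : ℂ) := funext fun g => rfl
      have e2 : (Blocks.inflIrr (⟨η, hη⟩ : Cfsg.IrrCharacter (G ⧸ Cfsg.pPrimeCore p G)) : G → ℂ) =
          (Blocks.inflIrr β : G → ℂ) := funext fun g => hηv g
      rwa [e1, e2] at h
    have h1 := hall (Blocks.inflIrr β) hmem
    obtain ⟨g, rfl⟩ := QuotientGroup.mk_surjective x
    exact hβ ((congrFun h1 g).trans (congrFun h1 1).symm)
  · intro htop χ hmem
    haveI := ClassSum.kerChar_normal (CT.isCharacter_of_isIrr χ.2)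
    have hle : ⊤ ≤ CT.kerChar (χ : G → ℂ) := by
      rw [← htop]
      refine iSup₂_le fun p hp n hn => ?_
      haveI := Fact.mk (hπ p hp).1
      haveI := Blocks.isPrime_of_modular (hM p hp)
      haveI := Basics.pPrimeCore_normal (G := G) p
      exact (CT.mem_kerChar_iff (CT.isCharacter_of_isIrr χ.2)).mpr
        (Blocks.apply_eq_one_of_mem_principalBlock (hM p hp) (Basics.not_dvd_card_pPrimeCore p)
          (hmem p hp) hn)
    have hconst : ∀ g, (χ : G → ℂ) g = (χ : G → ℂ) 1 := fun g =>
      (CT.mem_kerChar_iff (CT.isCharacter_of_isIrr χ.2)).mp (hle (Subgroup.mem_top g))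
    have hi := CT.irr_inner_self χ.2
    rw [Cfsg.classInner] at hi
    simp only [hconst, Finset.sum_const, Finset.card_univ, nsmul_eq_mul,
      ← Nat.card_eq_fintype_card] at hi
    rw [← mul_assoc, inv_mul_cancel₀ (Nat.cast_ne_zero.mpr Nat.card_pos.ne'), one_mul,
      CT.deg_eq (CT.isCharacter_of_isIrr χ.2), Complex.conj_natCast] at hi
    have hd : CT.deg (χ : G → ℂ) = 1 := by
      have : CT.deg (χ : G → ℂ) * CT.deg (χ : G → ℂ) = 1 := by exact_mod_cast hi
      exact Nat.eq_one_of_mul_eq_one_left this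
    funext g
    rw [hconst, CT.deg_eq (CT.isCharacter_of_isIrr χ.2), hd, Nat.cast_one]

end Cfsg.Agent.S4611
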