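import Cfsg.Statements.S4613
import Cfsg.Agent.Lib.AutFix.Exceptional
import Cfsg.Agent.Lib.AutFix.Suzuki
import Cfsg.Agent.Lib.AutFix.Linear
import Cfsg.Agent.Lib.AutFix.Symplectic
import Cfsg.Agent.Lib.AutFix.Unitary
import Cfsg.Agent.Lib.AutFix.Orthogonal
import Cfsg.Agent.Lib.Forms.OddInvol
import Cfsg.Agent.Lib.AutPOmega.DkClasses
-- import your own Cfsg.Agent.* helpers here

set_option autoImplicit false
open Cfsg

namespace Cfsg.Agent.S4613

/-- Let G be a finite simple group of Lie type in characteristic p and α an automorphism of G of order prime to p that fixes some Sylow p-subgroup of G elementwise. Then α is the identity. -/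
theorem result {G : Type*} [Group G] [Finite G] [IsSimpleGroup G] (p : ℕ) [Fact p.Prime] (hG : Cfsg.IsLieTypeChar p G) (α : MulAut G) (hα : ¬ p ∣ orderOf α) (U : Sylow p G) (hfix : ∀ x ∈ (U : Subgroup G), α x = x) : α = 1 := by
  refine (?_ : AutFix.Rigid p G) α hα U hfix
  have key : ∀ {H : Type} [Group H], Nonempty (G ≃* H) →
      (∀ [Finite H] [IsSimpleGroup H], AutFix.Rigid p H) → AutFix.Rigid p G := by
    rintro H _ ⟨e⟩ h
    have : Finite H := Finite.of_equiv G e.toEquiv
    have : Nontrivial H := e.toEquiv.symm.nontrivial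
    have : IsSimpleGroup H := IsSimpleGroup.isSimpleGroup_of_surjective e.toMonoidHom e.surjective
    exact (h).of_equiv e.symm
  rcases hG with ⟨F, i1, i2, i3, n, hn, h4, he⟩ | ⟨F, i1, i2, i3, m, hm, h3, he⟩ |
    ⟨F, i1, i2, i3, n, q, hF, hn, hx, he⟩ | ⟨F, i1, i2, i3, m, hm, ho, he⟩ | ⟨F, i1, i2, i3, m, hm, he⟩ |
    ⟨F, i1, i2, i3, m, a, b, hm, hab, he⟩ | ⟨F, i1, i2, i3, he⟩ | ⟨K, i1, i2, i3, q, hq, he⟩ |
    ⟨rfl, K, i1, i2, m, hm, hK, he⟩ | ⟨rfl, K, i1, i2, m, hm, hK, he⟩ | ⟨rfl, K, i1, i2, m, hm, hK, he⟩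
  · exact key he (AutFix.psl hn)
  · exact key he (AutFix.psp (by omega))
  · have := AutPSU.QField.of_card hF
    exact key he (AutFix.psu (by omega))
  · have h2 : ringChar F ≠ 2 := fun h => by
      have := FiniteField.even_card_iff_char_two.1 h
      rw [Nat.odd_iff] at ho
      omega
    have S : QMax.QSetting (FormsLib.qOdd m F) :=
      ⟨FormsLib.qOdd_nondeg (Ring.two_ne_zero h2), by simp [Fintype.card_sum]; omega⟩
    refine key he ?_
    intros
    rw [← FormsLib.coe_qOdd]
    exact AutFix.pOmega S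
  · have S : QMax.QSetting (OrthOrder.qPlus m F) :=
      ⟨OrthForms.qPlus_nondeg m, by simp [Fintype.card_sum]; omega⟩
    refine key he ?_
    intros
    rw [← (funext (OrthOrder.qPlus_apply m) : ⇑(OrthOrder.qPlus m F) = Cfsg.quadFormPlus m F)]
    exact AutFix.pOmega S
  · obtain ⟨Q, hQ, hnd⟩ := OrthForms.exists_qMinus (m - 1) a b hab
    have S : QMax.QSetting Q := ⟨hnd, by simp [Fintype.card_sum]; omega⟩
    refine key he ?_
    intros
    rw [← hQ]
    exact AutFix.pOmega S
  · rcases he with ⟨-, he⟩ | he | he | he | he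
    · exact key he (AutFix.chev p (h := Chev.G2.ok) Chev.ckComm_G2 (by decide))
    · exact key he (AutFix.chev p (h := Chev.F4.ok) Chev.ckComm_F4 (by decide))
    · exact key he (AutFix.chev p (h := Chev.E6.ok) Chev.ckComm_E6 (by decide))
    · exact key he (AutFix.chev p (h := Chev.E7.ok) Chev.ckComm_E7 (by decide))
    · exact key he (AutFix.chev p (h := Chev.E8.ok) Chev.ckComm_E8 (by decide))
  · rcases he with ⟨hK, he⟩ | ⟨hK, he⟩
    · exact key he (AutFix.twE6 p hq hK)
    · exact key he (AutFix.twD4 p hq hK)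
  · exact key he (AutFix.suzuki hm hK)
  · exact key he (AutFix.twF4 hm hK)
  · exact key he (AutFix.ree hm hK)

end Cfsg.Agent.S4613
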