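import Cfsg.Statements.S4620
import Cfsg.Agent.Lib.Basics.Cores
import Cfsg.Agent.Lib.Basics.Tools

set_option autoImplicit false
open scoped Pointwise
open Cfsg

namespace Cfsg.Agent.S4620

/-- Let H be a finite group with no nontrivial normal p-subgroup and no nontrivial normal subgroup of order prime to p, whose Sylow p-subgroup P is nontrivial and a trivial-intersection set (P meets its conjugates by elements outside N_H(P) trivially). Then H has a unique minimal normal subgroup N; N is non-abelian simple with trivial centralizer in H (so H embeds in Aut(N)), and a Sylow p-subgroup of N is again a nontrivial trivial-intersection set in N. -/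
theorem result {H : Type*} [Group H] [Finite H] (p : ℕ) [Fact p.Prime] (hOp : Cfsg.pCore p H = ⊥) (hOp' : Cfsg.pPrimeCore p H = ⊥) (P : Sylow p H) (hP1 : (P : Subgroup H) ≠ ⊥)
    (hTI : ∀ g : H, g ∉ Subgroup.normalizer ((P : Subgroup H) : Set H) → (P : Subgroup H) ⊓ (MulAut.conj g • (P : Subgroup H)) = ⊥) :
    ∃ N : Subgroup H, N.Normal ∧ N ≠ ⊥ ∧ (∀ K : Subgroup H, K.Normal → K ≠ ⊥ → N ≤ K) ∧
      IsSimpleGroup N ∧ ¬ IsMulCommutative N ∧ Subgroup.centralizer (N : Set H) = ⊥ ∧
      ∀ Q : Sylow p N, (Q : Subgroup N) ≠ ⊥ ∧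
        ∀ n : N, n ∉ Subgroup.normalizer ((Q : Subgroup N) : Set N) → (Q : Subgroup N) ⊓ (MulAut.conj n • (Q : Subgroup N)) = ⊥ := by
  classical
  have hp := (Fact.out : p.Prime)
  -- the property holds for every Sylow subgroup
  have hTI' : ∀ (R : Sylow p H) (g : H), g ∉ Subgroup.normalizer ((R : Subgroup H) : Set H) →
      ∀ y ∈ (R : Subgroup H), g * y * g⁻¹ ∈ (R : Subgroup H) → y = 1 := by
    intro R g hg y hy hgy
    obtain ⟨c, hc⟩ := MulAction.exists_smul_eq H P R
    have hc' : MulAut.conj c • (P : Subgroup H) = (R : Subgroup H) := by rw [← hc]; rfl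
    have hmemR : ∀ z : H, z ∈ (R : Subgroup H) ↔ c⁻¹ * z * c ∈ (P : Subgroup H) := fun z => by
      rw [← hc', Basics.mem_conj_smul]
    have hg' : c⁻¹ * g * c ∉ Subgroup.normalizer ((P : Subgroup H) : Set H) := by
      intro h1
      refine hg (Subgroup.mem_normalizer_iff.mpr fun z => ?_)
      rw [hmemR, hmemR, Subgroup.mem_normalizer_iff.mp h1 (c⁻¹ * z * c)]
      exact iff_of_eq (congrArg (· ∈ (P : Subgroup H)) (by group))
    have h1 : c⁻¹ * (g * y * g⁻¹) * c ∈
        (P : Subgroup H) ⊓ MulAut.conj (c⁻¹ * g * c) • (P : Subgroup H) := by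
      refine Subgroup.mem_inf.mpr ⟨(hmemR _).mp hgy, ?_⟩
      rw [Basics.mem_conj_smul]
      have h2 := (hmemR y).mp hy
      convert h2 using 1
      group
    rw [hTI _ hg', Subgroup.mem_bot] at h1
    calc y = g⁻¹ * c * (c⁻¹ * (g * y * g⁻¹) * c) * c⁻¹ * g := by group
      _ = 1 := by rw [h1]; group
  -- what centralizes a nontrivial element of a Sylow subgroup normalizes it
  have hnorm : ∀ (R : Sylow p H) (y : H), y ∈ (R : Subgroup H) → y ≠ 1 → ∀ g : H, Commute g y →
      g ∈ Subgroup.normalizer ((R : Subgroup H) : Set H) := by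
    intro R y hy hy1 g hg
    by_contra hn
    exact hy1 (hTI' R g hn y hy (by rw [hg.eq, mul_inv_cancel_right]; exact hy))
  have hsyl : ∀ y : H, orderOf y = p → ∃ R : Sylow p H, y ∈ (R : Subgroup H) := fun y hy => by
    obtain ⟨R, hR⟩ := (IsPGroup.of_card (n := 1) (by rw [Nat.card_zpowers, hy, pow_one]) :
      IsPGroup p (Subgroup.zpowers y)).exists_le_sylow
    exact ⟨R, hR (Subgroup.mem_zpowers y)⟩
  -- a normal subgroup of a normal subgroup normalizing a Sylow subgroup has order prime to `p`
  have hcore : ∀ (M : Subgroup H), M.Normal → ∀ (A : Subgroup M), A.Normal → ∀ R : Sylow p H,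
      (∀ a ∈ A, (a : H) ∈ Subgroup.normalizer ((R : Subgroup H) : Set H)) → ¬ p ∣ Nat.card A := by
    intro M hM A hA R hAR hd
    haveI := hM
    haveI := hA
    obtain ⟨a, ha⟩ := exists_prime_orderOf_dvd_card' p hd
    have hain : ((a : M) : H) ∈ (R : Subgroup H) := by
      have hap : IsPGroup p (Subgroup.zpowers ((a : M) : H)) := IsPGroup.of_card (n := 1) (by
        rw [Nat.card_zpowers, Subgroup.orderOf_coe, Subgroup.orderOf_coe, ha, pow_one])
      have hsup : IsPGroup p ↥(Subgroup.zpowers ((a : M) : H) ⊔ (R : Subgroup H)) :=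
        hap.to_sup_of_normal_right' R.isPGroup' (Subgroup.zpowers_le.mpr (hAR _ a.2))
      rw [← R.is_maximal' hsup le_sup_right]
      exact Subgroup.mem_sup_left (Subgroup.mem_zpowers _)
    set D := (R : Subgroup H).comap (M.subtype.comp A.subtype) with hD
    haveI : D.Normal := ⟨fun v hv g => by
      have := (Subgroup.mem_normalizer_iff.mp (hAR _ g.2) (((v : A) : M) : H)).mp hv
      simpa [hD] using this⟩
    have hDp : IsPGroup p D := R.isPGroup'.comap_of_injective _
      (Subtype.val_injective.comp Subtype.val_injective)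
    have hmap : ((Cfsg.pCore p A).map A.subtype).Normal := inferInstance
    have h1 : (Cfsg.pCore p A).map A.subtype ≤ Cfsg.pCore p M :=
      Basics.le_pCore ((Basics.pCore_isPGroup p).map _)
    have h2 : (Cfsg.pCore p M).map M.subtype ≤ Cfsg.pCore p H :=
      Basics.le_pCore ((Basics.pCore_isPGroup p).map _)
    have h3 : ((a : M) : H) ∈ Cfsg.pCore p H :=
      h2 ⟨_, h1 ⟨a, Basics.le_pCore hDp (show a ∈ D from hain), rfl⟩, rfl⟩
    rw [hOp, Subgroup.mem_bot, ← orderOf_eq_one_iff, Subgroup.orderOf_coe, Subgroup.orderOf_coe, ha] at h3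
    exact hp.ne_one h3
  have hdvd : ∀ M : Subgroup H, M.Normal → M ≠ ⊥ → p ∣ Nat.card M := by
    intro M hM hM1
    by_contra hd
    haveI := hM
    exact hM1 (eq_bot_iff.mpr ((Basics.le_pPrimeCore ((hp.coprime_iff_not_dvd.mpr hd).symm)).trans
      hOp'.le))
  haveI : Nontrivial H := by
    obtain ⟨y, -, hy⟩ := (P : Subgroup H).bot_or_exists_ne_one.resolve_left hP1
    exact ⟨y, 1, hy⟩
  obtain ⟨N, hNn, -, hN1, hNmin⟩ :=
    Basics.exists_minimal_normal (top_ne_bot : (⊤ : Subgroup H) ≠ ⊥)
  haveI := hNn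
  have huniq : ∀ K : Subgroup H, K.Normal → K ≠ ⊥ → N ≤ K := by
    intro K hK hK1
    haveI := hK
    rcases hNmin (N ⊓ K) (Subgroup.normal_inf_normal N K) inf_le_left with h | h
    · exfalso
      obtain ⟨y, hy⟩ := exists_prime_orderOf_dvd_card' p (hdvd N hNn hN1)
      obtain ⟨R, hR⟩ := hsyl (y : H) (by rw [Subgroup.orderOf_coe, hy])
      refine hcore K hK ⊤ inferInstance R (fun a _ => hnorm R _ hR (fun e => hp.ne_one (by
        rw [← hy, ← Subgroup.orderOf_coe, e, orderOf_one])) _
        (Subgroup.commute_of_normal_of_disjoint N K hNn hK (disjoint_iff.mpr h) _ _ y.2 a.2).symm) ?_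
      rw [Subgroup.card_top]
      exact hdvd K hK hK1
    · exact h ▸ inf_le_right
  haveI : Nontrivial N := (Subgroup.nontrivial_iff_ne_bot _).mpr hN1
  -- the minimal normal subgroups of `N` are improper
  have hmin : ∀ L : Subgroup N, L.Normal → L ≠ ⊥ →
      (∀ K : Subgroup N, K.Normal → K ≤ L → K = ⊥ ∨ K = L) → L = ⊤ := by
    intro L hL hL1 hLmin
    haveI := hL
    have hconjn : ∀ g : H, (L.map (MulAut.conjNormal g : MulAut N).toMonoidHom).Normal := fun g =>
      hL.map _ (MulAut.conjNormal g : MulAut N).surjective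
    by_cases hall : ∀ g : H, L.map (MulAut.conjNormal g : MulAut N).toMonoidHom = L
    · have hLH : (L.map N.subtype).Normal := by
        refine ⟨?_⟩
        rintro _ ⟨v, hv, rfl⟩ g
        exact ⟨(MulAut.conjNormal g : MulAut N) v, (hall g).le ⟨v, hv, rfl⟩, by simp⟩
      rcases hNmin _ hLH (Subgroup.map_subtype_le L) with h | h
      · exact absurd ((Subgroup.map_eq_bot_iff_of_injective _ N.subtype_injective).mp h) hL1
      · exact Subgroup.map_injective N.subtype_injective
          (h.trans (by rw [← MonoidHom.range_eq_map, Subgroup.range_subtype]))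
    exfalso
    push Not at hall
    obtain ⟨g, hg⟩ := hall
    set L' := L.map (MulAut.conjNormal g : MulAut N).toMonoidHom
    haveI := hconjn g
    have hcard : Nat.card L' = Nat.card L :=
      Subgroup.card_map_of_injective (MulAut.conjNormal g : MulAut N).injective
    have hdisj : L ⊓ L' = ⊥ := by
      rcases hLmin _ (Subgroup.normal_inf_normal L L') inf_le_left with h | h
      · exact h
      · exact absurd (Subgroup.eq_of_le_of_card_ge (h ▸ inf_le_right : L ≤ L') hcard.le).symm hg
    have hpL : p ∣ Nat.card L := by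
      by_contra hd
      have h1 : L ≤ Cfsg.pPrimeCore p N :=
        Basics.le_pPrimeCore ((hp.coprime_iff_not_dvd.mpr hd).symm)
      have h2 : (Cfsg.pPrimeCore p N).map N.subtype ≤ Cfsg.pPrimeCore p H :=
        Basics.le_pPrimeCore (by
          rw [Subgroup.card_map_of_injective N.subtype_injective]
          exact Basics.pPrimeCore_coprime p)
      exact hL1 ((Subgroup.map_eq_bot_iff_of_injective _ N.subtype_injective).mp
        (eq_bot_iff.mpr (((Subgroup.map_mono h1).trans h2).trans hOp'.le)))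
    obtain ⟨y, hy⟩ := exists_prime_orderOf_dvd_card' p hpL
    obtain ⟨R, hR⟩ := hsyl ((y : N) : H) (by rw [Subgroup.orderOf_coe, Subgroup.orderOf_coe, hy])
    refine hcore N hNn L' inferInstance R (fun a ha => hnorm R _ hR (fun e => hp.ne_one (by
      rw [← hy, ← Subgroup.orderOf_coe, ← Subgroup.orderOf_coe, e, orderOf_one])) _ ?_) (hcard ▸ hpL)
    exact ((Subgroup.commute_of_normal_of_disjoint L L' hL inferInstance (disjoint_iff.mpr hdisj)
      _ _ y.2 ha).symm.map N.subtype : _)
  have hsimple : IsSimpleGroup N := by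
    refine ⟨fun K hK => ?_⟩
    by_cases hK1 : K = ⊥
    · exact Or.inl hK1
    haveI := hK
    obtain ⟨L, hL, hLK, hL1, hLmin⟩ := Basics.exists_minimal_normal hK1
    exact Or.inr (eq_top_iff.mpr ((hmin L hL hL1 hLmin) ▸ hLK))
  have hnab : ¬ IsMulCommutative N := by
    intro hc
    haveI := hc
    haveI := hsimple
    open scoped IsMulCommutative in
    have hprime : (Nat.card N).Prime := IsSimpleGroup.prime_card (α := N)
    have hNp : Nat.card N = p := ((Nat.prime_dvd_prime_iff_eq hp hprime).mp (hdvd N hNn hN1)).symm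
    exact hN1 (eq_bot_iff.mpr ((Basics.le_pCore (IsPGroup.of_card (n := 1) (by
      rw [hNp, pow_one]))).trans hOp.le))
  refine ⟨N, hNn, hN1, huniq, hsimple, hnab, ?_, fun Q => ⟨fun e => ?_, fun n hn => ?_⟩⟩
  · by_contra hC
    refine hnab ⟨⟨fun a b => Subtype.ext ?_⟩⟩
    exact Subgroup.mem_centralizer_iff.mp (huniq _ inferInstance hC b.2) (a : H) a.2
  · have := Q.card_eq_multiplicity
    rw [e, Subgroup.card_bot] at this
    have h1 := hp.factorization_pos_of_dvd Nat.card_pos.ne' (hdvd N hNn hN1)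
    exact absurd this (ne_of_lt (Nat.one_lt_pow h1.ne' hp.one_lt))
  · obtain ⟨R, hR⟩ := (Q.isPGroup'.map N.subtype).exists_le_sylow
    have hQR : (R : Subgroup H).comap N.subtype = (Q : Subgroup N) :=
      Q.is_maximal' (R.isPGroup'.comap_of_injective _ N.subtype_injective)
        (Subgroup.map_le_iff_le_comap.mp hR)
    have hmem : ∀ z : N, z ∈ (Q : Subgroup N) ↔ (z : H) ∈ (R : Subgroup H) := fun z => by
      rw [← hQR]; rfl
    have hnR : (n : H) ∉ Subgroup.normalizer ((R : Subgroup H) : Set H) := fun h1 =>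
      hn (Subgroup.mem_normalizer_iff.mpr fun z => by
        rw [hmem, hmem]
        exact Subgroup.mem_normalizer_iff.mp h1 (z : H))
    rw [eq_bot_iff]
    rintro y ⟨hy1, hy2⟩
    rw [Subgroup.mem_bot]
    have hy2' : n⁻¹ * y * n ∈ (Q : Subgroup N) := Basics.mem_conj_smul.mp hy2
    have h3 := hTI' R (n : H) hnR ((n⁻¹ * y * n : N) : H) ((hmem _).mp hy2') (by
      have := (hmem y).mp hy1
      simpa [mul_assoc] using this)
    have h4 : n⁻¹ * y * n = 1 := Subtype.ext h3
    calc y = n * (n⁻¹ * y * n) * n⁻¹ := by group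
      _ = 1 := by rw [h4]; group

end Cfsg.Agent.S4620
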