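import Cfsg.Statements.S4623
import Cfsg.Agent.Lib.SymSylow.OrderP

set_option autoImplicit false
open Cfsg

namespace Cfsg.Agent.S4623

/-- For every prime p and every n, a Sylow p-subgroup P of the symmetric group on n letters has P/P' elementary abelian (the p-th power of every element of P lies in the derived subgroup of P), and the same holds for a Sylow p-subgroup of the alternating group on n letters. -/
theorem result (p : ℕ) [Fact p.Prime] (n : ℕ) (P : Sylow p (Equiv.Perm (Fin n))) (Q : Sylow p (alternatingGroup (Fin n))) :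
    (∀ x : (P : Subgroup (Equiv.Perm (Fin n))), x ^ p ∈ commutator (P : Subgroup (Equiv.Perm (Fin n)))) ∧
    (∀ x : (Q : Subgroup (alternatingGroup (Fin n))), x ^ p ∈ commutator (Q : Subgroup (alternatingGroup (Fin n)))) := by
  classical
  obtain ⟨W, g, hgen, -, hP⟩ := SymSylow.exists_conj_witness n P
  refine ⟨SymSylow.pow_mem_commutator (SymSylow.genByP_top_of (hP ▸ SymSylow.genByP_map _ hgen)), ?_⟩
  obtain ⟨R, hR⟩ := (Q.isPGroup'.map (alternatingGroup (Fin n)).subtype).exists_le_sylow
  obtain ⟨W', g', hgen', heven', hR'⟩ := SymSylow.exists_conj_witness n R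
  have hQR : (R : Subgroup (Equiv.Perm (Fin n))).comap (alternatingGroup (Fin n)).subtype =
      (Q : Subgroup (alternatingGroup (Fin n))) :=
    Q.is_maximal' (R.isPGroup'.comap_of_injective _ (alternatingGroup (Fin n)).subtype_injective)
      (Subgroup.map_le_iff_le_comap.mp hR)
  have hmap : (Q : Subgroup (alternatingGroup (Fin n))).map (alternatingGroup (Fin n)).subtype =
      (R : Subgroup (Equiv.Perm (Fin n))) ⊓ alternatingGroup (Fin n) := by
    rw [← hQR, Subgroup.map_comap_eq, Subgroup.range_subtype, inf_comm]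
  have hgenR : SymSylow.GenByP p ((R : Subgroup (Equiv.Perm (Fin n))) ⊓ alternatingGroup (Fin n)) := by
    by_cases h2 : p = 2
    · have e : (R : Subgroup (Equiv.Perm (Fin n))) ⊓ alternatingGroup (Fin n) =
          (W' ⊓ (Equiv.Perm.sign : Equiv.Perm (Fin n) →* ℤˣ).ker).map (MulAut.conj g').toMonoidHom := by
        rw [Subgroup.map_inf _ _ _ (MulAut.conj g').injective, ← hR']
        congr 1
        ext z
        constructor
        · intro hz
          exact ⟨g'⁻¹ * z * g', by
            have hz' : Equiv.Perm.sign z = 1 := hz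
            show Equiv.Perm.sign (g'⁻¹ * z * g') = 1
            simp [hz'], by simp [mul_assoc]⟩
        · rintro ⟨w, hw, rfl⟩
          have hw' : Equiv.Perm.sign w = 1 := hw
          show Equiv.Perm.sign (g' * w * g'⁻¹) = 1
          simp [hw']
      rw [e]
      exact SymSylow.genByP_map _ (heven' h2)
    · have hle : (R : Subgroup (Equiv.Perm (Fin n))) ≤ alternatingGroup (Fin n) := by
        intro x hx
        obtain ⟨k, hk⟩ := R.isPGroup' ⟨x, hx⟩
        have hk' : x ^ p ^ k = 1 := congrArg Subtype.val hk
        have hs := congrArg (Equiv.Perm.sign : Equiv.Perm (Fin n) → ℤˣ) hk'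
        rw [map_pow, map_one, Int.units_pow_eq_pow_mod_two, Nat.odd_iff.mp
          (((Fact.out : p.Prime).odd_of_ne_two h2).pow), pow_one] at hs
        exact hs
      rw [inf_eq_left.mpr hle, hR']
      exact SymSylow.genByP_map _ hgen'
  intro x
  have hgenQ : SymSylow.GenByP p (Q : Subgroup (alternatingGroup (Fin n))) := by
    intro z hz
    have h1 : (z : Equiv.Perm (Fin n)) ∈ (Subgroup.closure {w : alternatingGroup (Fin n) |
        w ∈ (Q : Subgroup (alternatingGroup (Fin n))) ∧ w ^ p = 1}).map (alternatingGroup (Fin n)).subtype := by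
      rw [MonoidHom.map_closure]
      refine Subgroup.closure_mono ?_ (hgenR (hmap ▸ ⟨z, hz, rfl⟩))
      rintro w ⟨hw, hwp⟩
      obtain ⟨v, hv, rfl⟩ := hmap.ge hw
      exact ⟨v, ⟨hv, Subtype.ext hwp⟩, rfl⟩
    obtain ⟨v, hv, hvz⟩ := h1
    exact (Subtype.ext hvz : v = z) ▸ hv
  exact SymSylow.pow_mem_commutator (SymSylow.genByP_top_of hgenQ) x

end Cfsg.Agent.S4623
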