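import Cfsg.Statements.S4625
import Cfsg.Agent.Lib.LieSylow.Exceptional
import Cfsg.Agent.Lib.LieSylow.Linear
import Cfsg.Agent.Lib.LieSylow.Unitary
import Cfsg.Agent.Lib.LieSylow.Orthogonal
import Cfsg.Agent.Lib.Chev.AllC
-- import your own Cfsg.Agent.* helpers here

set_option autoImplicit false
open Cfsg

namespace Cfsg.Agent.S4625

/-- Let G be a finite simple group of Lie type in characteristic 2, not counting the Tits group ²F₄(2)′. Then a Sylow 2-subgroup P of G has P/P' elementary abelian: the square of every element of P lies in the derived subgroup of P. -/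
theorem result {G : Type*} [Group G] [Finite G] [IsSimpleGroup G] (hG : Cfsg.IsLieTypeChar 2 G) (P : Sylow 2 G) :
    ∀ x : (P : Subgroup G), x ^ 2 ∈ commutator (P : Subgroup G) := by
  refine LieSylow.SylowGood.sq_mem ?_ P
  haveI : Fact (Nat.Prime 2) := ⟨Nat.prime_two⟩
  have key : ∀ {H : Type} [Group H], Nonempty (G ≃* H) → LieSylow.SylowGood H → LieSylow.SylowGood G := by
    rintro H _ ⟨e⟩ h
    haveI : Finite H := Finite.of_equiv G e.toEquiv
    exact h.of_equiv e.symm
  rcases hG with ⟨F, i1, i2, i3, n, hn, h4, he⟩ | ⟨F, i1, i2, i3, m, hm, h3, he⟩ |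
    ⟨F, i1, i2, i3, n, q, hF, hn, hx, he⟩ | ⟨F, i1, i2, i3, m, hm, ho, he⟩ | ⟨F, i1, i2, i3, m, hm, he⟩ |
    ⟨F, i1, i2, i3, m, a, b, hm, hab, he⟩ | ⟨F, i1, i2, i3, he⟩ | ⟨K, i1, i2, i3, q, hq, he⟩ |
    ⟨-, K, i1, i2, m, hm, hK, he⟩ | ⟨-, K, i1, i2, m, hm, hK, he⟩ | ⟨h, -⟩
  · exact key he LieSylow.psl
  · exact key he LieSylow.psp
  · haveI := AutPSU.QField.of_card hF
    exact key he LieSylow.psu
  · exact absurd (FiniteField.even_card_iff_char_two.1 (ringChar.eq F 2)) (by have := Nat.odd_iff.1 ho; omega)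
  · exact key he (LieSylow.pOmegaPlus hm)
  · exact key he (LieSylow.pOmegaMinus hm hab)
  · rcases he with ⟨-, he⟩ | he | he | he | he
    · exact key he (LieSylow.chev Chev.G2.ok Chev.ckComm_G2)
    · exact key he (LieSylow.chev Chev.F4.ok Chev.ckComm_F4)
    · exact key he (LieSylow.chev Chev.E6.ok Chev.ckComm_E6)
    · exact key he (LieSylow.chev Chev.E7.ok Chev.ckComm_E7)
    · exact key he (LieSylow.chev Chev.E8.ok Chev.ckComm_E8)
  · rcases he with ⟨hK, he⟩ | ⟨hK, he⟩
    · exact key he (LieSylow.twE6 hq hK)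
    · exact key he (LieSylow.twD4 hq hK)
  · exact key he (LieSylow.suzuki hm hK)
  · exact key he (LieSylow.twF4 hm hK)
  · exact absurd h (by norm_num)

end Cfsg.Agent.S4625
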