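import Cfsg.Statements.S4626
import Cfsg.Agent.Lib.Blocks.Defect
import Cfsg.Agent.Lib.Blocks.Knorr
import Cfsg.Agent.Lib.CT.Kernel

set_option autoImplicit false
open Cfsg

namespace Cfsg.Agent.S4626

/-- Let G be a finite group, p a prime, M a maximal ideal of the algebraic integers containing p, P a Sylow p-subgroup of G and N a normal subgroup of index prime to p containing the centralizer C_G(P). Then every irreducible character of G whose kernel contains N lies in the principal p-block of G. -/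
theorem result {G : Type*} [Group G] [Finite G] (p : ℕ) [Fact p.Prime] (M : Ideal Cfsg.AlgInt) (hM : Cfsg.IsPModular p M) (P : Sylow p G) (N : Subgroup G) [N.Normal] (hidx : ¬ p ∣ N.index)
    (hC : Subgroup.centralizer ((P : Subgroup G) : Set G) ≤ N) (χ : Cfsg.IrrCharacter G) (hker : ∀ n ∈ N, (χ : G → ℂ) n = (χ : G → ℂ) 1) :
    χ ∈ Cfsg.principalBlock M G := by
  classical
  haveI := Cfsg.Agent.Blocks.isPrime_of_modular hM
  obtain ⟨f, hf, hfe⟩ := CT.exists_quotient_irr χ.2 N hker
  have hdeg : ¬ p ∣ Cfsg.charDegree (χ : G → ℂ) := fun hd => hidx (by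
    have h := Cfsg.Agent.Blocks.charDegree_dvd_card (⟨f, hf⟩ : Cfsg.IrrCharacter (G ⧸ N))
    rw [← Subgroup.index_eq_card] at h
    refine (hd.trans (dvd_of_eq ?_)).trans h
    simp only [Cfsg.charDegree]
    rw [← hfe 1, QuotientGroup.mk_one])
  show Cfsg.SameBlock M (fun _ : G => (1 : ℂ)) (χ : G → ℂ)
  intro g
  simp only [Cfsg.centralChar, mul_one, div_one]
  by_cases hg : g ∈ N
  · rw [hker g hg, mul_div_assoc, div_self (CT.irr_one_ne_zero χ.2), mul_one, sub_self]
    exact Cfsg.Agent.Blocks.memLocalIdeal_zero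
  have hp : p ∣ (Subgroup.centralizer ({g} : Set G)).index := by
    by_contra h
    apply hg
    set C := Subgroup.centralizer ({g} : Set G)
    obtain ⟨S⟩ : Nonempty (Sylow p C) := inferInstance
    have hcard : Nat.card ((S : Subgroup C).map C.subtype) = p ^ (Nat.card G).factorization p := by
      rw [Subgroup.card_map_of_injective C.subtype_injective, S.card_eq_multiplicity,
        ← C.card_mul_index, Nat.factorization_mul Nat.card_pos.ne' Subgroup.index_ne_zero_of_finite,
        Finsupp.add_apply, Nat.factorization_eq_zero_of_not_dvd h, add_zero]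
    obtain ⟨x, hx⟩ := MulAction.exists_smul_eq G (Sylow.ofCard _ hcard) P
    have hmem : x * g * x⁻¹ ∈ Subgroup.centralizer ((P : Subgroup G) : Set G) := by
      rw [Subgroup.mem_centralizer_iff]
      intro q hq
      rw [← hx, Sylow.coe_subgroup_smul, SetLike.mem_coe,
        Subgroup.mem_pointwise_smul_iff_inv_smul_mem] at hq
      obtain ⟨s, -, hs⟩ := hq
      have e := Subgroup.mem_centralizer_singleton_iff.mp s.2
      simp only [← MulAut.conj.map_inv, MulAut.smul_def, MulAut.conj_apply, inv_inv,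
        Subgroup.coe_subtype] at hs
      rw [hs] at e
      calc q * (x * g * x⁻¹) = x * ((x⁻¹ * q * x) * g) * x⁻¹ := by group
        _ = x * (g * (x⁻¹ * q * x)) * x⁻¹ := by rw [e]
        _ = x * g * x⁻¹ * q := by group
    have := (inferInstance : N.Normal).conj_mem _ (hC hmem) x⁻¹
    simpa [mul_assoc] using this
  have e : ((Subgroup.centralizer ({g} : Set G)).index : ℂ) -
      ((Subgroup.centralizer ({g} : Set G)).index : ℂ) * (χ : G → ℂ) g / (χ : G → ℂ) 1 =
      (1 - (χ : G → ℂ) g * ((χ : G → ℂ) 1)⁻¹) *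
        ((Subgroup.centralizer ({g} : Set G)).index : ℂ) := by ring
  rw [e]
  refine Cfsg.Agent.Blocks.memLocalIdeal_mul_left ((Cfsg.Agent.Blocks.Loc M).sub_mem
    (Cfsg.Agent.Blocks.Loc M).one_mem ((Cfsg.Agent.Blocks.Loc M).mul_mem
      (Cfsg.Agent.Blocks.integral_mem_loc (Cfsg.Agent.Blocks.isIntegral_irr χ.2 g)) ?_))
    ((Cfsg.Agent.Blocks.memLocalIdeal_natCast hM _).mpr hp)
  rw [Cfsg.Agent.Blocks.charDegree_cast]
  exact Cfsg.Agent.Blocks.inv_mem_loc (natCast_mem _ _) fun hI =>
    hdeg ((Cfsg.Agent.Blocks.memLocalIdeal_natCast hM _).mp hI)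

end Cfsg.Agent.S4626
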