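import Cfsg.Statements.S4629
import Cfsg.Agent.Lib.OrthSylowTwo.Forms
import Cfsg.Agent.Lib.OrthClasses.ElusiveSpecial
-- import your own Cfsg.Agent.* helpers here

set_option autoImplicit false
open Cfsg

namespace Cfsg.Agent.S4629

open Cfsg.Agent Cfsg.Agent.OrthSylowTwo

/-- Let F be a finite field of odd order and m ≥ 3. For the commutator subgroup Ω of the isometry group of the non-singular quadratic form x₀² + Σ x_i y_i in dimension 2m + 1 over F, a Sylow 2-subgroup P of Ω has P/P' elementary abelian: the square of every element of P lies in the derived subgroup of P. -/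
theorem result {F : Type*} [Field F] [Fintype F] (hF : Odd (Fintype.card F)) (m : ℕ) (hm : 3 ≤ m) (P : Sylow 2 (Cfsg.Omega F (Cfsg.quadFormOdd m F))) : ∀ x : (P : Subgroup (Cfsg.Omega F (Cfsg.quadFormOdd m F))), x ^ 2 ∈ commutator (P : Subgroup (Cfsg.Omega F (Cfsg.quadFormOdd m F))) := by
  classical
  have hq : 1 < Fintype.card F := Fintype.one_lt_card
  have h2 : (2 : F) ≠ 0 := OrthClasses.two_ne_zero_of_odd_card hF
  revert P
  rw [show Cfsg.quadFormOdd m F = ⇑(FormsLib.qOdd m F) from FormsLib.coe_qOdd.symm]
  intro P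
  refine omega_sqComm_of_card (n := m) (r := 1) h2 (FormsLib.qOdd_nondeg h2) (by omega) (by simp; omega)
    (fun h => absurd h one_ne_zero) ?_ P
  rw [FormsLib.coe_qOdd, S0286.result rfl hF, val_order_odd hq hF]
  ring

end Cfsg.Agent.S4629
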