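import Cfsg.Statements.S4630
import Cfsg.Agent.Lib.OrthSylowTwo.Forms
import Cfsg.Agent.Lib.OrthClasses.ElusiveSpecial
-- import your own Cfsg.Agent.* helpers here

set_option autoImplicit false
open Cfsg

namespace Cfsg.Agent.S4630

open Cfsg.Agent Cfsg.Agent.OrthSylowTwo

/-- Let F be a finite field of odd order and m ≥ 1 with m even or m ≥ 4. For the commutator subgroup Ω of the isometry group of the plus-type quadratic form Σ_{i<m} x_i y_i in dimension 2m over F, a Sylow 2-subgroup P of Ω has P/P' elementary abelian: the square of every element of P lies in the derived subgroup of P. -/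
theorem result {F : Type*} [Field F] [Fintype F] (hF : Odd (Fintype.card F)) (m : ℕ) (hm : 1 ≤ m) (hm' : Even m ∨ 4 ≤ m) (P : Sylow 2 (Cfsg.Omega F (Cfsg.quadFormPlus m F))) : ∀ x : (P : Subgroup (Cfsg.Omega F (Cfsg.quadFormPlus m F))), x ^ 2 ∈ commutator (P : Subgroup (Cfsg.Omega F (Cfsg.quadFormPlus m F))) := by
  classical
  have hq : 1 < Fintype.card F := Fintype.one_lt_card
  have h2 : (2 : F) ≠ 0 := OrthClasses.two_ne_zero_of_odd_card hF
  revert P
  rw [show Cfsg.quadFormPlus m F = ⇑(OrthOrder.qPlus m F) from (funext fun v => OrthOrder.qPlus_apply m v).symm]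
  intro P
  have hnd := OrthForms.qPlus_nondeg (F := F) m
  have hv : padicValNat 2 (Nat.card (Cfsg.isometryGroup F ⇑(OrthOrder.qPlus m F))) =
      1 + padicValNat 2 (Fintype.card F ^ m - 1) +
        ((m - 1) * padicValNat 2 (Fintype.card F ^ 2 - 1) + padicValNat 2 (m - 1).factorial) := by
    rw [show ⇑(OrthOrder.qPlus m F) = Cfsg.quadFormPlus m F from funext fun v => OrthOrder.qPlus_apply m v,
      S0287.result rfl m hm, val_order_even hq hF _ _ _ (FGS.SqC.odd_pow_sub_one hq _ (by omega))]
  have hpar := val_pow_parity hq hF hm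
  have hmod := val_one_of_mod hq
  have hsplit := val_split hq hF
  have hfac := val_fac hm
  have hmul : m * padicValNat 2 (Fintype.card F ^ 2 - 1) =
      (m - 1) * padicValNat 2 (Fintype.card F ^ 2 - 1) + padicValNat 2 (Fintype.card F ^ 2 - 1) := by
    rw [← Nat.succ_mul, Nat.succ_eq_add_one, Nat.sub_add_cancel hm]
  have ho := Nat.odd_iff.1 hF
  by_cases hsquare : Even m ∨ Fintype.card F % 4 = 1
  · refine omega_sqComm_of_card (n := m) (r := 0) h2 hnd (by rcases hm' with ⟨j, hj⟩ | hj <;> omega)
      (by simp; omega) (fun _ κ _ v hv' => ?_) ?_ P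
    · rw [TwoRank.disc_eq h2 hv' (TwoRank.plus_orth h2 m), TwoRank.plus_disc h2]
      exact (cls_neg_one_pow h2 m).2 hsquare
    · rcases Nat.even_or_odd m with he | hmo
      · have := hpar.1 he; omega
      · have := hpar.2 hmo
        have := hmod.1 (hsquare.resolve_left (Nat.not_even_iff_odd.2 hmo))
        omega
  · rw [not_or, Nat.not_even_iff_odd] at hsquare
    have := hpar.2 hsquare.1
    have := hmod.2 (by omega)
    have hm4 : 4 ≤ m := hm'.resolve_left (Nat.not_even_iff_odd.2 hsquare.1)
    exact omega_sqComm_of_card (n := m - 1) (r := 2) h2 hnd (by omega) (by simp; omega)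
      (fun h => absurd h two_ne_zero) (by omega) P

end Cfsg.Agent.S4630
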