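import Cfsg.Statements.S4631
import Cfsg.Agent.Lib.OrthSylowTwo.Forms
import Cfsg.Agent.Lib.OrthClasses.ElusiveSpecial
-- import your own Cfsg.Agent.* helpers here

set_option autoImplicit false
open Cfsg

namespace Cfsg.Agent.S4631

open Cfsg.Agent Cfsg.Agent.OrthSylowTwo

/-- Let F be a finite field of odd order, m ≥ 4, and a, b ∈ F with z₁² + a z₁ z₂ + b z₂² anisotropic. For the commutator subgroup Ω of the isometry group of the minus-type quadratic form Σ_{i<m−1} x_i y_i + (z₁² + a z₁ z₂ + b z₂²) in dimension 2m over F, a Sylow 2-subgroup P of Ω has P/P' elementary abelian: the square of every element of P lies in the derived subgroup of P. -/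
theorem result {F : Type*} [Field F] [Fintype F] (hF : Odd (Fintype.card F)) (m : ℕ) (hm : 4 ≤ m) (a b : F) (hab : ∀ z₁ z₂ : F, z₁ ^ 2 + a * z₁ * z₂ + b * z₂ ^ 2 = 0 → z₁ = 0 ∧ z₂ = 0) (P : Sylow 2 (Cfsg.Omega F (Cfsg.quadFormMinus (m - 1) F a b))) : ∀ x : (P : Subgroup (Cfsg.Omega F (Cfsg.quadFormMinus (m - 1) F a b))), x ^ 2 ∈ commutator (P : Subgroup (Cfsg.Omega F (Cfsg.quadFormMinus (m - 1) F a b))) := by
  classical
  have hq : 1 < Fintype.card F := Fintype.one_lt_card
  have h2 : (2 : F) ≠ 0 := OrthClasses.two_ne_zero_of_odd_card hF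
  obtain ⟨Q, hQ, hnd, horth, hdisc⟩ := TwoRank.exists_minus h2 (m - 1) a b hab
  revert P
  rw [← hQ]
  intro P
  have hv : padicValNat 2 (Nat.card (Cfsg.isometryGroup F ⇑Q)) =
      1 + padicValNat 2 (Fintype.card F ^ m + 1) +
        ((m - 1) * padicValNat 2 (Fintype.card F ^ 2 - 1) + padicValNat 2 (m - 1).factorial) := by
    rw [hQ, S0288.result rfl m (by omega) a b hab, val_order_even hq hF _ _ _ (by omega)]
  have hpar := val_pow_parity hq hF (m := m) (by omega)
  have hmod := val_one_of_mod hq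
  have hsplit := val_split hq hF
  have hfac := val_fac (m := m) (by omega)
  have hmul : m * padicValNat 2 (Fintype.card F ^ 2 - 1) =
      (m - 1) * padicValNat 2 (Fintype.card F ^ 2 - 1) + padicValNat 2 (Fintype.card F ^ 2 - 1) := by
    rw [← Nat.succ_mul, Nat.succ_eq_add_one, Nat.sub_add_cancel (by omega)]
  have ho := Nat.odd_iff.1 hF
  by_cases hsquare : Odd m ∧ Fintype.card F % 4 = 3
  · refine omega_sqComm_of_card (n := m) (r := 0) h2 hnd (by omega)
      (by simp; omega) (fun _ κ _ v hv' => ?_) ?_ P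
    · rw [TwoRank.disc_eq h2 hv' horth, hdisc, Nat.sub_add_cancel (by omega)]
      have h : ¬ TwoRank.cls ((-1 : F) ^ m) = 1 := by
        rw [cls_neg_one_pow h2, not_or, Nat.not_even_iff_odd]
        exact ⟨hsquare.1, by omega⟩
      rcases Int.units_eq_one_or (TwoRank.cls ((-1 : F) ^ m)) with e | e
      · exact absurd e h
      · rw [e, neg_neg]
    · have := hpar.2 hsquare.1
      have := hmod.2 hsquare.2
      omega
  · refine omega_sqComm_of_card (n := m - 1) (r := 2) h2 hnd (by omega) (by simp; omega)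
      (fun h => absurd h two_ne_zero) ?_ P
    rcases Nat.even_or_odd m with he | hmo
    · have := hpar.1 he; omega
    · have := hpar.2 hmo
      have := hmod.1 (by have : Fintype.card F % 4 ≠ 3 := fun h => hsquare ⟨hmo, h⟩; omega)
      omega

end Cfsg.Agent.S4631
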