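import Cfsg.Statements.S4634
import Cfsg.Agent.Lib.Blocks.CycPerfectFrob

set_option autoImplicit false
open Cfsg

namespace Cfsg.Agent.S4634

/-- Let B be a block of the finite group G relative to a maximal ideal M of the algebraic integers containing the prime p, with a nontrivial cyclic defect group P, let c be a block of C_G(P) inducing B, T the stabilizer of c in N_G(P) and e the index of C_G(P) in T. Let F be any finite group of order #P · e having a cyclic subgroup Q of order #P that is its own centralizer (F is then the semidirect product of Q by a cyclic group of order e acting faithfully). Then there is a perfect isometry from the set of all irreducible characters of F onto B whose signs agree on all the characters of F that do not contain Q in their kernel. -/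
theorem result {G : Type*} [Group G] [Finite G] (p : ℕ) [Fact p.Prime] (M : Ideal Cfsg.AlgInt) (hM : Cfsg.IsPModular p M) (B : Set (Cfsg.IrrCharacter G)) (hB : Cfsg.IsPBlock M B) (P : Subgroup G) (hPD : Cfsg.IsDefectGroup p M B P) (hP1 : P ≠ ⊥) (hcyc : IsCyclic P) (c : Set (Cfsg.IrrCharacter (Subgroup.centralizer (P : Set G)))) (hc : Cfsg.IsInducedBlock M (Subgroup.centralizer (P : Set G)) c B) (T : Subgroup G) (hT : ∀ g : G, g ∈ T ↔ (g ∈ Subgroup.normalizer (P : Set G) ∧ Cfsg.StabilizesBlock (Subgroup.centralizer (P : Set G)) c g)) (e : ℕ) (he : (Subgroup.centralizer (P : Set G)).relIndex T = e) (F : Type*) [Group F] [Finite F] (hF : Nat.card F = Nat.card P * e) (Q : Subgroup F) (hQ : IsCyclic Q) (hQcard : Nat.card Q = Nat.card P) (hQC : Subgroup.centralizer (Q : Set F) = Q) : ∃ (I : Cfsg.IrrCharacter F → Cfsg.IrrCharacter G) (ε : Cfsg.IrrCharacter F → ℤ), Cfsg.IsPerfectIsometry p M (Set.univ : Set (Cfsg.IrrCharacter F)) B I ε ∧ ∀ η η' : Cfsg.IrrCharacter F, (∃ x ∈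 Q, (η : F → ℂ) x ≠ (η : F → ℂ) 1) → (∃ x ∈ Q, (η' : F → ℂ) x ≠ (η' : F → ℂ) 1) → ε η = ε η' := by
  classical
  haveI := hM.2.1.isPrime
  haveI := Fintype.ofFinite G
  haveI := Fintype.ofFinite F
  let S : Cfsg.Agent.Blocks.Cyclic.Setting p M G := ⟨hM, B, hB, P, hPD, hcyc, hP1, c, hc⟩
  have hSe : S.e = e := by
    rw [← he, Cfsg.Agent.Blocks.eq_stabSub (M := M) hc.1 hT]; rfl
  have hed : e ∣ p - 1 := hSe ▸ S.e_dvd
  obtain ⟨n, hn⟩ : ∃ n, Nat.card P = p ^ n :=
    ⟨_, Cfsg.Agent.Blocks.card_defectGroup hM hB hPD⟩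
  have hq : Nat.card Q = p ^ n := hQcard.trans hn
  rw [hn] at hF
  haveI : Q.Normal := Cfsg.Agent.Blocks.CycFrob.normal_of_index hq hF hed
  have hQ1 : Q ≠ ⊥ := fun h => hP1 (Subgroup.card_eq_one.mp (by
    rw [← hQcard, h, Subgroup.card_bot]))
  obtain ⟨S', hB', hD', he'⟩ :=
    Cfsg.Agent.Blocks.CycFrob.exists_setting (M := M) hM hQ hQ1 hq hF hed hQC
  haveI := S.isCyclic_Dc
  haveI := S'.isCyclic_Dc
  haveI := S.hcyc
  haveI := S'.hcyc
  have hcard : Nat.card S.D = Nat.card S'.D := by rw [hD']; exact hQcard.symm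
  obtain ⟨C, C', I, σ, hC, hC', hI, h1, h2⟩ := Cfsg.Agent.Blocks.Cyclic.exists_isometry_settings S S'
    (mulEquivOfCyclicCardEq hcard) (he'.trans hSe.symm)
  refine ⟨I, σ, hB' ▸ hI, fun η η' hη hη' => ?_⟩
  exact Cfsg.Agent.Blocks.CycFrob.signs_agree hB' C C'
    (Cfsg.Agent.Blocks.CycFrob.exists_lin_ne_one (S.card_D'.symm ▸ S.two_le_card))
    (Cfsg.Agent.Blocks.CycFrob.exists_lin_ne_one (S'.card_D'.symm ▸ S'.two_le_card))
    (hC.trans hSe) (hC'.trans he') hQ hq hF hed hQC h1
    (fun θ h => h2 θ (hB' ▸ Set.mem_univ θ) h) hη hη'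

end Cfsg.Agent.S4634
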