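import Cfsg.Statements.S4635
import Cfsg.Agent.Lib.Blocks.CycPerfectSetting

set_option autoImplicit false
open Cfsg

namespace Cfsg.Agent.S4635

/-- Let B be a block of the finite group G relative to a maximal ideal M of the algebraic integers containing the prime p, with a nontrivial cyclic defect group P; let Z be the subgroup of order p of P and H = N_G(Z), which contains N_G(P). Let c be the block of H with defect group P that induces B. Then B and c contain the same number of irreducible characters, have the same p-regular rank, and there is a perfect isometry from c onto B. -/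
theorem result {G : Type*} [Group G] [Finite G] (p : ℕ) [Fact p.Prime] (M : Ideal Cfsg.AlgInt) (hM : Cfsg.IsPModular p M) (B : Set (Cfsg.IrrCharacter G)) (hB : Cfsg.IsPBlock M B) (P : Subgroup G) (hPD : Cfsg.IsDefectGroup p M B P) (hP1 : P ≠ ⊥) (hcyc : IsCyclic P) (Z : Subgroup G) (hZ : Z ≤ P) (hZcard : Nat.card Z = p) (H : Subgroup G) (hH : H = Subgroup.normalizer (Z : Set G)) (c : Set (Cfsg.IrrCharacter H)) (hcD : Cfsg.IsDefectGroup p M c (P.subgroupOf H)) (hc : Cfsg.IsInducedBlock M H c B) : Nat.card c = Nat.card B ∧ Cfsg.blockRank p c = Cfsg.blockRank p B ∧ ∃ (I : Cfsg.IrrCharacter H → Cfsg.IrrCharacter G) (ε : Cfsg.IrrCharacter H → ℤ), Cfsg.IsPerfectIsometry p M c B I ε := by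
  classical
  haveI := hM.2.1.isPrime
  haveI := Fintype.ofFinite G
  haveI := Fintype.ofFinite H
  have hcyc' : IsCyclic P := hcyc
  have hPH : P ≤ H := by
    rw [hH]
    exact fun g hg => Cfsg.Agent.Blocks.conj_mem_of_cyclic hcyc hZ (Subgroup.le_normalizer hg)
  have hNH : Subgroup.normalizer (P : Set G) ≤ H := by
    rw [hH]
    exact fun g hg => Cfsg.Agent.Blocks.conj_mem_of_cyclic hcyc hZ hg
  have hCH : Subgroup.centralizer (P : Set G) ≤ H :=
    (Subgroup.centralizer_le_normalizer _).trans hNH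
  have hcyc1 : IsCyclic (P.subgroupOf H) :=
    isCyclic_of_surjective (Subgroup.subgroupOfEquivOfLe hPH).symm.toMonoidHom
      (Subgroup.subgroupOfEquivOfLe hPH).symm.surjective
  obtain ⟨c₁, hc₁⟩ := Cfsg.Agent.Blocks.Cyclic.exists_centralizer_block hM hc.1 hcD hcyc1
  let S : Cfsg.Agent.Blocks.Cyclic.Setting p M G := ⟨hM, B, hB, P, hPD, hcyc, hP1, _,
    Cfsg.Agent.Blocks.Cyclic.induced_pull hPH hCH hM hc hc₁⟩
  let S' : Cfsg.Agent.Blocks.Cyclic.Setting p M H := ⟨hM, c, hc.1, P.subgroupOf H, hcD, hcyc1,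
    (fun h => hP1 (by
      rw [← Subgroup.map_subgroupOf_eq_of_le hPH, h, Subgroup.map_bot])), c₁, hc₁⟩
  have he : S'.e = S.e :=
    (Cfsg.Agent.Blocks.Cyclic.relIndex_stab_eq hPH hCH hNH hc₁.1).symm
  obtain ⟨C, C', I, σ, hC, hC', hI, -⟩ := Cfsg.Agent.Blocks.Cyclic.exists_isometry_settings S S'
    (Subgroup.subgroupOfEquivOfLe hPH).symm he
  refine ⟨?_, ?_, I, σ, hI⟩
  · exact Nat.card_congr (Equiv.ofBijective _ hI.1.bijective)
  · exact S'.blockRank_eq.trans (he.trans S.blockRank_eq.symm)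

end Cfsg.Agent.S4635
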