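import Cfsg.Statements.S4636
import Mathlib

set_option autoImplicit false
open scoped Pointwise
open Cfsg

namespace Cfsg.Agent.S4636

private lemma unique_sub {G : Type*} [Group G] [Finite G] (p : ℕ) [Fact p.Prime] (P : Subgroup G)
    (hcyc : IsCyclic P) (A B : Subgroup G) (hA : A ≤ P) (hB : B ≤ P)
    (h : Nat.card A = Nat.card B) : A = B := by
  classical
  have key : A.subgroupOf P = B.subgroupOf P := by
    have : Fintype P := Fintype.ofFinite P
    have hd : 0 < Nat.card A := Nat.card_pos
    have sub : ∀ C : Subgroup G, C ≤ P → Nat.card C = Nat.card A →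
        (Finset.univ.filter fun x : P => x ∈ C.subgroupOf P) =
          Finset.univ.filter fun x : P => x ^ Nat.card A = 1 := by
      intro C hC hcard
      apply Finset.eq_of_subset_of_card_le
      · intro x hx
        simp only [Finset.mem_filter, Finset.mem_univ, true_and] at hx ⊢
        apply Subtype.ext
        rw [SubmonoidClass.coe_pow, ← hcard]
        exact congrArg Subtype.val (pow_card_eq_one' (x := (⟨(x : G), hx⟩ : C)))
      · refine (IsCyclic.card_pow_eq_one_le hd).trans (le_of_eq ?_)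
        rw [← hcard, ← Nat.card_congr (Subgroup.subgroupOfEquivOfLe hC).toEquiv,
          Nat.card_eq_fintype_card, Fintype.card_subtype]
    ext x
    have := Finset.ext_iff.mp ((sub A hA rfl).trans (sub B hB h.symm).symm) x
    simpa using this
  have := congrArg (Subgroup.map P.subtype) key
  rwa [Subgroup.map_subgroupOf_eq_of_le hA, Subgroup.map_subgroupOf_eq_of_le hB] at this

private lemma z_le {G : Type*} [Group G] [Finite G] (p : ℕ) [Fact p.Prime] (P : Subgroup G)
    (hP : IsPGroup p P) (hcyc : IsCyclic P) (Z : Subgroup G) (hZ : Z ≤ P) (hZcard : Nat.card Z = p)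
    (R : Subgroup G) (hR : R ≤ P) (hR1 : R ≠ ⊥) : Z ≤ R := by
  have hRp : IsPGroup p R := hP.to_le hR
  obtain ⟨k, hk⟩ := IsPGroup.iff_card.mp hRp
  have hdvd : p ∣ Nat.card R := by
    rw [hk]
    refine dvd_pow_self p ?_
    intro h0
    rw [h0, pow_zero] at hk
    exact hR1 (Subgroup.card_eq_one.mp hk)
  obtain ⟨x, hx⟩ := exists_prime_orderOf_dvd_card' p hdvd
  have hx' : orderOf (x : G) = p := by simpa using hx
  have : Z = Subgroup.zpowers (x : G) :=
    unique_sub p P hcyc _ _ hZ (Subgroup.zpowers_le.mpr (hR x.2)) (by simp [hZcard, hx'])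
  rw [this]
  exact Subgroup.zpowers_le.mpr x.2

private lemma mem_norm {G : Type*} [Group G] [Finite G] (p : ℕ) [Fact p.Prime] (P : Subgroup G)
    (hcyc : IsCyclic P) (Z : Subgroup G) (hZ : Z ≤ P) (x : G) (hx : MulAut.conj x • Z ≤ P) :
    x ∈ Subgroup.normalizer (Z : Set G) := by
  have h : MulAut.conj x • Z = Z :=
    unique_sub p P hcyc _ _ hx hZ (Nat.card_congr (Subgroup.equivSMul (MulAut.conj x) Z).toEquiv.symm)
  rw [Subgroup.mem_normalizer_iff]
  intro z
  constructor
  · intro hz
    rw [← h]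
    exact ⟨z, hz, by simp [MulAut.conj_apply]⟩
  · intro hz
    rw [← h] at hz
    obtain ⟨w, hw, hwz⟩ := hz
    simp [MulAut.conj_apply] at hwz
    exact hwz ▸ hw

/-- Let P be a nontrivial cyclic p-subgroup of the finite group G and Z its subgroup of order p. For every x outside N_G(Z), P meets its conjugate xPx⁻¹ trivially; consequently N_G(Q) ≤ N_G(Z) for every nontrivial subgroup Q of P. -/
theorem result {G : Type*} [Group G] [Finite G] (p : ℕ) [Fact p.Prime] (P : Subgroup G) (hP : IsPGroup p P) (hP1 : P ≠ ⊥) (hcyc : IsCyclic P) (Z : Subgroup G) (hZ : Z ≤ P) (hZcard : Nat.card Z = p) : (∀ x : G, x ∉ Subgroup.normalizer (Z : Set G) → P ⊓ MulAut.conj x • P = ⊥) ∧ ∀ Q : Subgroup G, Q ≤ P → Q ≠ ⊥ → Subgroup.normalizer (Q : Set G) ≤ Subgroup.normalizer (Z : Set G) := by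
  constructor
  · intro x hx
    by_contra hne
    apply hx
    have h1 := z_le p P hP hcyc Z hZ hZcard _ inf_le_left hne
    have h2 : Z ≤ MulAut.conj x • P := h1.trans inf_le_right
    have : MulAut.conj x⁻¹ • Z ≤ P := by
      intro y hy
      obtain ⟨z, hz, rfl⟩ := hy
      obtain ⟨w, hw, hwz⟩ := h2 hz
      rw [← hwz]
      simpa [MulAut.conj_apply, mul_assoc] using hw
    simpa using inv_mem (mem_norm p P hcyc Z hZ x⁻¹ this)
  · intro Q hQ hQ1 x hx
    have h1 := z_le p P hP hcyc Z hZ hZcard Q hQ hQ1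
    apply mem_norm p P hcyc Z hZ x
    intro y hy
    obtain ⟨z, hz, rfl⟩ := hy
    apply hQ
    simpa [MulAut.conj_apply] using (Subgroup.mem_normalizer_iff.mp hx z).mp (h1 hz)

end Cfsg.Agent.S4636
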