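import Cfsg.Statements.S4638
import Cfsg.Agent.Lib.FreeStar.Klein
import Cfsg.Agent.Lib.Blocks.InertialFree
import Cfsg.Agent.Lib.Blocks.FirstMain

set_option autoImplicit false
open Cfsg

namespace Cfsg.Agent.S4638

/-- Let B be a block of the finite group G relative to a maximal ideal M of the algebraic integers containing 2, with a Klein four defect group P, and let c be its Brauer correspondent: the block of N_G(P) with defect group P that induces B. Then there is a perfect isometry from c onto B. -/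
theorem result {G : Type*} [Group G] [Finite G] (M : Ideal Cfsg.AlgInt) (hM : Cfsg.IsPModular 2 M) (B : Set (Cfsg.IrrCharacter G)) (hB : Cfsg.IsPBlock M B) (P : Subgroup G) (hPD : Cfsg.IsDefectGroup 2 M B P) (hV : IsKleinFour P) (c : Set (Cfsg.IrrCharacter (Subgroup.normalizer (P : Set G)))) (hcD : Cfsg.IsDefectGroup 2 M c (P.subgroupOf (Subgroup.normalizer (P : Set G)))) (hc : Cfsg.IsInducedBlock M (Subgroup.normalizer (P : Set G)) c B) : ∃ (I : Cfsg.IrrCharacter (Subgroup.normalizer (P : Set G)) → Cfsg.IrrCharacter G) (ε : Cfsg.IrrCharacter (Subgroup.normalizer (P : Set G)) → ℤ), Cfsg.IsPerfectIsometry 2 M c B I ε := by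
  classical
  haveI : Fact (Nat.Prime 2) := ⟨Nat.prime_two⟩
  haveI : M.IsPrime := hM.2.1.isPrime
  haveI := Fintype.ofFinite G
  obtain ⟨H, hH⟩ : ∃ H : Subgroup G, H = Subgroup.normalizer (P : Set G) := ⟨_, rfl⟩
  subst hH
  haveI := Fintype.ofFinite (Subgroup.normalizer (P : Set G))
  haveI := Blocks.charP_res (p := 2) hM
  have hPH : P ≤ Subgroup.normalizer (P : Set G) := Subgroup.le_normalizer
  have hCH : Subgroup.centralizer (P : Set G) ≤ Subgroup.normalizer (P : Set G) :=
    Subgroup.centralizer_le_normalizer _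
  obtain ⟨P', hP'⟩ : ∃ P', P' = P.subgroupOf (Subgroup.normalizer (P : Set G)) := ⟨_, rfl⟩
  rw [← hP'] at hcD
  have iP : P' ≃* P := hP' ▸ Subgroup.subgroupOfEquivOfLe hPH
  haveI := hV
  haveI hV' : IsKleinFour P' :=
    ⟨(Nat.card_congr iP.toEquiv).trans IsKleinFour.card_four,
      (Monoid.exponent_eq_of_mulEquiv iP).trans IsKleinFour.exponent_two⟩
  have hcB := hc.1
  have hcomm : P' ≤ Subgroup.centralizer (P' : Set _) := fun a ha =>
    Subgroup.mem_centralizer_iff.mpr fun b hb =>
      congrArg Subtype.val (mul_comm_of_exponent_two IsKleinFour.exponent_two (⟨b, hb⟩ : P') ⟨a, ha⟩)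
  have hP'p := Blocks.isPGroup_defectGroup hM hcB hcD
  obtain ⟨ξ, hξ⟩ := Blocks.exists_block_inducing hM hP'p hcomm le_rfl
    (Subgroup.centralizer_le_normalizer _) hcB
    ((Blocks.br_bBar_ne_zero_iff hM hcB hcD hP'p).mpr
      ⟨1, by rw [Subgroup.map_le_iff_le_comap]; intro v hv; simpa using hv⟩)
  subst hP'
  have hind := Blocks.Cyclic.induced_pull hPH hCH hM hc hξ
  have hmax := Blocks.maximal_of_induced hM hB hPD hind
  have hmax' := Blocks.maximal_of_induced hM hcB hcD hξ
  have iG : P ≃* Multiplicative (ZMod (2 ^ 1) × ZMod (2 ^ 1)) :=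
    Classical.choice (IsKleinFour.nonempty_mulEquiv :
      Nonempty (P ≃* Multiplicative (ZMod 2 × ZMod 2)))
  obtain ⟨h1, h2, h3, -⟩ := FreeStar.homocyclic_free hM hB hmax le_rfl iG
  obtain ⟨h1', h2', h3', -⟩ := FreeStar.homocyclic_free hM hcB hmax' le_rfl (iP.trans iG)
  let D : FreeStar.Free 2 M G := ⟨hM, B, P, _, hmax, h1, h2, h3⟩
  let D' : FreeStar.Free 2 M (Subgroup.normalizer (P : Set G)) := ⟨hM, c, _, _, hmax', h1', h2', h3'⟩
  exact FreeStar.klein_isometry D D' hV hV' (Blocks.Cyclic.relIndex_stab_eq hPH hCH le_rfl hξ.1).symm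

end Cfsg.Agent.S4638
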