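import Cfsg.Statements.S4640
import Cfsg.Agent.Lib.Blocks.AbelianPIndex

set_option autoImplicit false
open Cfsg

namespace Cfsg.Agent.S4640

/-- Let N be a normal subgroup of the finite group G of index a power of the prime p, M a maximal ideal of the algebraic integers containing p, b a block of N stabilized by every element of G, and B a block of G covering b (some member of B has a member of b as a constituent of its restriction to N). Suppose that B has a commutative defect group P. Then G = NP and P ∩ N is a defect group of b; every member of B restricts to a member of b; every member of b is the restriction of exactly [G : N] members of B; B contains exactly [G : N] times as many irreducible characters as b; and B and b have the same p-regular rank. -/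
theorem result {G : Type*} [Group G] [Fintype G] (p : ℕ) [Fact p.Prime] (M : Ideal Cfsg.AlgInt) (hM : Cfsg.IsPModular p M) (N : Subgroup G) [N.Normal] [Fintype N] (hNi : ∃ k : ℕ, N.index = p ^ k) (b : Set (Cfsg.IrrCharacter N)) (hb : Cfsg.IsPBlock M b) (hstab : ∀ g : G, Cfsg.StabilizesBlock N b g) (B : Set (Cfsg.IrrCharacter G)) (hB : Cfsg.IsPBlock M B) (hcov : ∃ χ ∈ B, ∃ θ ∈ b, Cfsg.classInner (fun n : N => (χ : G → ℂ) n) (θ : N → ℂ) ≠ 0) (P : Subgroup G) (hPD : Cfsg.IsDefectGroup p M B P) (hPab : ∀ x ∈ P, ∀ y ∈ P, x * y = y * x) : N ⊔ P = ⊤ ∧ Cfsg.IsDefectGroup p M b ((P ⊓ N).subgroupOf N) ∧ (∀ χ ∈ B, ∃ θ ∈ b, ∀ n : N, (χ : G → ℂ) n = (θ : N → ℂ) n) ∧ (∀ θ ∈ b, Nat.card {χ : Cfsg.IrrCharacter G // χ ∈ B ∧ ∀ n : N, (χ : G → ℂ) n = (θ : N → ℂ) n} = N.index) ∧ Nat.card B = N.index * Nat.card b ∧ Cfsg.blockRank p B = Cfsg.blockRank p b := by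
  classical
  haveI := Cfsg.Agent.Blocks.isPrime_of_modular hM
  obtain ⟨A, hA, hAc, hAiff⟩ := Cfsg.Agent.Blocks.exists_block_over_stable hM hNi hb hstab
  obtain ⟨χ₁, hχ₁, θ₁, hθ₁, hc₁⟩ := hcov
  have hAB : A = B := Cfsg.Agent.Blocks.block_eq_of_mem hA hB
    ((hAiff χ₁).mpr ⟨θ₁, hθ₁, (Cfsg.Agent.Blocks.mult_ne_zero_iff χ₁ θ₁).mpr hc₁⟩) hχ₁
  subst hAB
  obtain ⟨hsup, hdef⟩ :=
    Cfsg.Agent.Blocks.defect_of_block_over_stable hM hNi hb hstab hA hAc hPD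
  have hθB : ∀ θ ∈ b, ∀ χ : Cfsg.IrrCharacter G,
      Cfsg.classInner (fun n : N => (χ : G → ℂ) n) (θ : N → ℂ) ≠ 0 → χ ∈ A := fun θ hθ χ h =>
    (hAiff χ).mpr ⟨θ, hθ, (Cfsg.Agent.Blocks.mult_ne_zero_iff χ θ).mpr h⟩
  have hext := fun θ hθ => Cfsg.Agent.Blocks.extensions_of_abelian hM hNi hsup hA hPD hPab θ (hθB θ hθ)
  have h1 : ∀ χ ∈ A, ∃ θ ∈ b, ∀ n : N, (χ : G → ℂ) n = (θ : N → ℂ) n := fun χ hχ => by
    obtain ⟨θ, hθ, hc⟩ := (hAiff χ).mp hχ
    exact ⟨θ, hθ, (hext θ hθ).1 χ ((Cfsg.Agent.Blocks.mult_ne_zero_iff χ θ).mp hc)⟩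
  have hne : ∀ (χ : Cfsg.IrrCharacter G) (θ : Cfsg.IrrCharacter N),
      (∀ n : N, (χ : G → ℂ) n = (θ : N → ℂ) n) →
      Cfsg.classInner (fun n : N => (χ : G → ℂ) n) (θ : N → ℂ) ≠ 0 := fun χ θ h => by
    rw [funext h, CT.irr_inner_self θ.2]; exact one_ne_zero
  have h4 : ∀ θ ∈ b, Nat.card {χ : Cfsg.IrrCharacter G //
      χ ∈ A ∧ ∀ n : N, (χ : G → ℂ) n = (θ : N → ℂ) n} = N.index := fun θ hθ => by
    rw [← (hext θ hθ).2]
    exact Nat.card_congr (Equiv.subtypeEquivRight fun χ =>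
      ⟨fun h => hne χ θ h.2, fun h => ⟨hθB θ hθ χ h, (hext θ hθ).1 χ h⟩⟩)
  have h2 : ∀ θ ∈ b, ∃ χ ∈ A, ∀ n : N, (χ : G → ℂ) n = (θ : N → ℂ) n := fun θ hθ => by
    obtain ⟨χ, hχ⟩ := CT.exists_irr_over N θ.2
    exact ⟨χ, hθB θ hθ χ hχ, (hext θ hθ).1 χ hχ⟩
  refine ⟨hsup, hdef, h1, h4, ?_, Cfsg.Agent.Blocks.blockRank_eq_of_restrict hNi h1 h2⟩
  choose res hres hval using h1
  let f : A → b := fun χ => ⟨res χ.1 χ.2, hres χ.1 χ.2⟩
  rw [← Nat.card_congr (Equiv.sigmaFiberEquiv f), Nat.card_sigma]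
  have hfib : ∀ θ : b, Nat.card {χ : A // f χ = θ} = N.index := fun θ => by
    rw [← h4 θ.1 θ.2]
    refine Nat.card_congr
      { toFun := fun χ => ⟨χ.1.1, χ.1.2, fun n => (hval χ.1.1 χ.1.2 n).trans
          (congrArg (fun z : b => ((z : Cfsg.IrrCharacter N) : N → ℂ) n) χ.2)⟩
        invFun := fun χ => ⟨⟨χ.1, χ.2.1⟩, Subtype.ext (Subtype.ext (funext fun n => by
          rw [← hval χ.1 χ.2.1 n, χ.2.2 n]))⟩
        left_inv := fun _ => rfl
        right_inv := fun _ => rfl }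
  simp only [hfib, Finset.sum_const, Finset.card_univ, smul_eq_mul, Nat.card_eq_fintype_card]
  exact mul_comm _ _

end Cfsg.Agent.S4640
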