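import Cfsg.Statements.S4641
import Cfsg.Agent.Lib.Blocks.BrauerBlock

set_option autoImplicit false
open Cfsg

namespace Cfsg.Agent.S4641

/-- Let B be a block of the finite group G relative to a maximal ideal M of the algebraic integers containing the prime p, let p^a be the p-part of the order of G and p^d the order of a defect group D of B, and let g be the greatest common divisor of the degrees of the members of B. Then the p-part of g is exactly p^(a−d), and writing g = p^(a−d)·u there is a positive integer v, prime to p and at least the p-regular rank of B (its number of irreducible Brauer characters), with Σ_{χ ∈ B} χ(1)² = p^(2a−d)·u²·v. -/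
theorem result {G : Type*} [Group G] [Finite G] (p : ℕ) [Fact p.Prime] (M : Ideal Cfsg.AlgInt) (hM : Cfsg.IsPModular p M) (B : Set (Cfsg.IrrCharacter G)) (hB : Cfsg.IsPBlock M B) (D : Subgroup G) (hD : Cfsg.IsDefectGroup p M B D) (a d : ℕ) (ha : (Nat.card G).factorization p = a) (hd : Nat.card D = p ^ d) (g : ℕ) (hg1 : ∀ χ ∈ B, g ∣ Cfsg.charDegree (χ : G → ℂ)) (hg2 : ∀ g' : ℕ, (∀ χ ∈ B, g' ∣ Cfsg.charDegree (χ : G → ℂ)) → g' ∣ g) : g.factorization p = a - d ∧ ∃ v : ℕ, 0 < v ∧ ¬ p ∣ v ∧ Cfsg.blockRank p B ≤ v ∧ ∑ᶠ χ ∈ B, Cfsg.charDegree (χ : G → ℂ) ^ 2 = p ^ (2 * a - d) * (g / p ^ (a - d)) ^ 2 * v := by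
  classical
  haveI := Cfsg.Agent.Blocks.isPrime_of_modular hM
  haveI := Fintype.ofFinite G
  haveI := Blocks.charP_res hM
  obtain ⟨Sp⟩ := Blocks.nonempty_gSplit (G := G) hM
  have hp := (Fact.out : p.Prime)
  have hA : ∀ x, Cfsg.blockCoeff B x ∈ Blocks.Loc M := Blocks.blockCoeff_mem_loc hB
  have hd' : Cfsg.blockDefect p B = d :=
    Nat.pow_right_injective hp.two_le ((Blocks.card_defectGroup hM hB hD).symm.trans hd)
  have hda : d ≤ a := by rw [← hd', ← ha]; exact Blocks.blockDefect_le p B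
  obtain ⟨c₀, hc₀, h0⟩ := Blocks.exists_height_zero (p := p) hB
  have hfac : ∀ χ ∈ B, a - d ≤ (Cfsg.charDegree (χ : G → ℂ)).factorization p := by
    intro χ hχ
    have := Blocks.height_add (p := p) hχ
    rw [ha, hd'] at this
    omega
  have hf0 : (Cfsg.charDegree (c₀ : G → ℂ)).factorization p = a - d := by
    have := Blocks.height_add (p := p) hc₀
    rw [h0, ha, hd'] at this
    omega
  have hg0 : g ≠ 0 := fun h => (Blocks.charDegree_pos c₀).ne' (by simpa [h] using hg1 c₀ hc₀)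
  have hgfac : g.factorization p = a - d := by
    refine le_antisymm (hf0 ▸ (Nat.factorization_le_iff_dvd hg0 (Blocks.charDegree_pos c₀).ne').mpr
      (hg1 c₀ hc₀) p) ((hp.pow_dvd_iff_le_factorization hg0).mp (hg2 _ fun χ hχ => ?_))
    exact (hp.pow_dvd_iff_le_factorization (Blocks.charDegree_pos χ).ne').mpr (hfac χ hχ)
  refine ⟨hgfac, ?_⟩
  obtain ⟨u, hu⟩ : ∃ u, u = g / p ^ (a - d) := ⟨_, rfl⟩
  have hgu : g = p ^ (a - d) * u := by
    rw [hu, ← hgfac]; exact (Nat.ordProj_mul_ordCompl_eq_self g p).symm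
  have hup : ¬ p ∣ u := by rw [hu, ← hgfac]; exact Nat.not_dvd_ordCompl hp hg0
  have hu0 : u ≠ 0 := fun h => hg0 (by rw [hgu, h, mul_zero])
  obtain ⟨I, hI⟩ : ∃ I, I = Blocks.inBlk Sp B := ⟨_, rfl⟩
  have hgd : ∀ i ∈ I, g ∣ Sp.d i := fun i hi =>
    Blocks.dvd_deg_brauer Sp hM hA hg1 (hI ▸ hi)
  have hgP : ∀ i ∈ I, p ^ a * u ∣ Blocks.projDeg Sp i := fun i hi => by
    refine Nat.Coprime.mul_dvd_of_dvd_of_dvd ((hp.coprime_iff_not_dvd.mpr hup).pow_left a)
      (ha ▸ Blocks.pow_dvd_projDeg Sp hM i) ?_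
    rw [Blocks.projDeg_eq_sum_blk Sp hM hA (hI ▸ hi)]
    exact Finset.dvd_sum fun χ hχ =>
      ((Dvd.intro_left _ hgu.symm).trans (hg1 χ (Finset.mem_filter.mp hχ).2)).mul_right _
  obtain ⟨v, hv⟩ : ∃ v, v = ∑ i ∈ I, (Sp.d i / g) * (Blocks.projDeg Sp i / (p ^ a * u)) := ⟨_, rfl⟩
  have hpu : 0 < p ^ a * u := Nat.mul_pos (pow_pos hp.pos a) (Nat.pos_of_ne_zero hu0)
  have hsum : ∑ χ ∈ Finset.univ.filter (· ∈ B), Cfsg.charDegree (χ : G → ℂ) ^ 2 =
      g * (p ^ a * u) * v := by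
    rw [Blocks.sum_deg_sq_blk Sp hM hA, ← hI, hv, Finset.mul_sum]
    refine Finset.sum_congr rfl fun i hi => ?_
    obtain ⟨x, hx⟩ := hgd i hi
    obtain ⟨y, hy⟩ := hgP i hi
    rw [hx, hy, Nat.mul_div_cancel_left _ (Nat.pos_of_ne_zero hg0), Nat.mul_div_cancel_left _ hpu]
    ring
  have hcard : I.card ≤ v := by
    rw [hv, Finset.card_eq_sum_ones]
    refine Finset.sum_le_sum fun i hi => ?_
    obtain ⟨x, hx⟩ := hgd i hi
    obtain ⟨y, hy⟩ := hgP i hi
    rw [hx, hy, Nat.mul_div_cancel_left _ (Nat.pos_of_ne_zero hg0), Nat.mul_div_cancel_left _ hpu]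
    refine Nat.mul_pos (Nat.pos_of_ne_zero fun h => (Sp.pos i).ne' (by rw [hx, h, mul_zero]))
      (Nat.pos_of_ne_zero fun h => (Blocks.projDeg_pos Sp hM i).ne' (by rw [hy, h, mul_zero]))
  choose! m hm using hg1
  have hm0 : ¬ p ∣ m c₀ := by
    intro h
    have : p ^ (a - d + 1) ∣ Cfsg.charDegree (c₀ : G → ℂ) := by
      rw [hm c₀ hc₀, pow_succ, hgu, mul_assoc]
      exact mul_dvd_mul_left _ (h.mul_left u)
    have := (hp.pow_dvd_iff_le_factorization (Blocks.charDegree_pos c₀).ne').mp this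
    omega
  have hmsq : (∑ χ ∈ Finset.univ.filter (· ∈ B), m χ ^ 2) = p ^ d * v := by
    refine Nat.eq_of_mul_eq_mul_left (pow_pos (Nat.pos_of_ne_zero hg0) 2) ?_
    rw [Finset.mul_sum, Finset.sum_congr rfl (fun χ hχ => by
      rw [← mul_pow, ← hm χ (Finset.mem_filter.mp hχ).2]), hsum]
    calc g * (p ^ a * u) * v = g * (p ^ d * p ^ (a - d) * u) * v := by
          rw [← pow_add, Nat.add_sub_cancel' hda]
      _ = g ^ 2 * (p ^ d * v) := by rw [hgu]; ring
  have hvp : ¬ p ∣ v := by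
    intro hpv
    choose X hX using fun ψ => Blocks.exists_int_bfPair hM hc₀ ψ
    rw [hd'] at hX
    obtain ⟨mm, hmm⟩ : ∃ mm : Cfsg.IrrCharacter G → ℤ,
        mm = fun ψ => if ψ ∈ B then (m ψ : ℤ) else 0 := ⟨_, rfl⟩
    have hdeg : ∀ ψ ∈ B, (Cfsg.charDegree (ψ : G → ℂ) : ℂ) = (g : ℂ) * (mm ψ : ℂ) := by
      intro ψ hψ
      simp only [hmm, if_pos hψ]
      rw [hm ψ hψ]
      push_cast
      rfl
    have hXB : ∀ ψ, ψ ∉ B → X ψ = 0 := fun ψ hψ => by
      have := hX ψ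
      rw [Blocks.bfPair_eq_zero hM fun h => hψ ((Blocks.mem_block_iff hB hc₀).mpr h), mul_zero] at this
      exact_mod_cast this.symm
    obtain ⟨n1, hn1⟩ : ∃ n1, n1 = Nat.card G / p ^ a := ⟨_, rfl⟩
    have hn1p : ¬ p ∣ n1 := by rw [hn1, ← ha]; exact Nat.not_dvd_ordCompl hp Nat.card_pos.ne'
    have hG : (Nat.card G : ℂ) = (p : ℂ) ^ a * (n1 : ℂ) := by
      rw [hn1, ← ha]
      exact_mod_cast (Nat.ordProj_mul_ordCompl_eq_self (Nat.card G) p).symm
    have hp0 : (p : ℂ) ≠ 0 := Nat.cast_ne_zero.mpr hp.ne_zero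
    have hnC : (n1 : ℂ) ≠ 0 := Nat.cast_ne_zero.mpr fun h => hn1p (h ▸ dvd_zero p)
    have hgC : (p : ℂ) ^ d * (g : ℂ) = (p : ℂ) ^ a * (u : ℂ) := by
      rw [hgu, Nat.cast_mul, Nat.cast_pow, ← mul_assoc, ← pow_add, Nat.add_sub_cancel' hda]
    have hXn : ∀ ψ ∈ B, (n1 : Blocks.Loc M) * (X ψ : Blocks.Loc M) =
        (u : Blocks.Loc M) * (mm ψ : Blocks.Loc M) * Blocks.regS M p ψ c₀ := by
      intro ψ hψ
      refine Subtype.ext ?_
      push_cast
      rw [← hX ψ, Blocks.bfPair_symm, Blocks.bfPair_eq, ← Blocks.deg_mul_regS (M := M),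
        Blocks.charDegree_cast, hdeg ψ hψ, hG]
      have hpa := pow_ne_zero a hp0
      field_simp
      linear_combination ((mm ψ : ℂ) * (Blocks.regS M p ψ c₀ : ℂ)) * hgC
    obtain ⟨Z, hZ⟩ : ∃ Z : Cfsg.IrrCharacter G → ℤ,
        Z = fun ψ => X ψ * mm c₀ - X c₀ * mm ψ := ⟨_, rfl⟩
    have hZp : ∀ ψ, (p : ℤ) ∣ Z ψ := by
      intro ψ
      by_cases hψ : ψ ∈ B
      · have e1 := congrArg (Blocks.red M) (hXn ψ hψ)
        have e2 := congrArg (Blocks.red M) (hXn c₀ hc₀)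
        have e3 := Blocks.red_regS_congr (p := p) ((Blocks.mem_block_iff hB hψ).mp hc₀) c₀
        simp only [map_mul, map_natCast, map_intCast] at e1 e2
        rw [e3] at e1
        have hu1 : (n1 : Blocks.Res M) ≠ 0 := mt (CharP.cast_eq_zero_iff _ p _).mp hn1p
        rw [← CharP.intCast_eq_zero_iff (Blocks.Res M) p, hZ]
        push_cast
        refine (mul_eq_zero.mp (show (n1 : Blocks.Res M) * _ = 0 from ?_)).resolve_left hu1
        linear_combination (mm c₀ : Blocks.Res M) * e1 - (mm ψ : Blocks.Res M) * e2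
      · simp [hZ, hmm, hXB ψ hψ, hψ]
    choose W hW using hZp
    -- the combination vanishes at singular elements
    obtain ⟨f, hf⟩ : ∃ f : G → ℂ,
        f = ∑ ψ : Cfsg.IrrCharacter G, (W ψ : ℂ) • (ψ : G → ℂ) := ⟨_, rfl⟩
    have hfgen : Cfsg.IsGeneralizedCharacter G f :=
      hf ▸ CT.isGen_sum _ fun ψ _ => CT.isGen_zsmul _ (CT.isGen_of_isIrr ψ.2)
    have hXsum : ∀ x : G, ∑ ψ : Cfsg.IrrCharacter G, (X ψ : ℂ) * (ψ : G → ℂ) x =
        (p : ℂ) ^ d * Blocks.regFun p c₀ x := fun x => by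
      have h := congrFun (Blocks.pow_mul_regFun_eq hM hB hc₀ (d := d)).1 x
      simp only [Pi.smul_apply, smul_eq_mul, Finset.sum_apply, hX] at h
      exact h.symm
    have hmsum : ∀ x : G, (g : ℂ) * ∑ ψ : Cfsg.IrrCharacter G, (mm ψ : ℂ) * (ψ : G → ℂ) x =
        (Nat.card G : ℂ) * Cfsg.blockCoeff B x⁻¹ := fun x => by
      rw [Cfsg.blockCoeff, mul_inv_cancel_left₀ (Nat.cast_ne_zero.mpr Nat.card_pos.ne'),
        Blocks.finsum_mem_irr, Finset.mul_sum]
      refine Finset.sum_congr rfl fun ψ _ => ?_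
      by_cases hψ : ψ ∈ B
      · rw [if_pos hψ, Blocks.charDegree_cast, hdeg ψ hψ,
          CT.char_inv_eq_conj (CT.isCharacter_of_isIrr ψ.2), Complex.conj_conj]
        ring
      · simp [hmm, hψ]
    have hWZ : ∀ x : G, (p : ℂ) * f x =
        (mm c₀ : ℂ) * ((p : ℂ) ^ d * Blocks.regFun p c₀ x) -
          (X c₀ : ℂ) * ∑ ψ : Cfsg.IrrCharacter G, (mm ψ : ℂ) * (ψ : G → ℂ) x := fun x => by
      rw [← hXsum, hf, Finset.sum_apply, Finset.mul_sum, Finset.mul_sum, Finset.mul_sum,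
        ← Finset.sum_sub_distrib]
      refine Finset.sum_congr rfl fun ψ _ => ?_
      have h := congrArg (fun z : ℤ => (z : ℂ)) (hW ψ)
      simp only [hZ] at h
      push_cast at h
      rw [Pi.smul_apply, smul_eq_mul]
      linear_combination -((ψ : G → ℂ) x) * h
    have hgCne : (g : ℂ) ≠ 0 := Nat.cast_ne_zero.mpr hg0
    have hvan : ∀ x : G, p ∣ orderOf x → f x = 0 := fun x hx => by
      have h1 := hmsum x
      rw [Blocks.blockCoeff_block_eq_zero hM hB (by rwa [orderOf_inv]), mul_zero,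
        mul_eq_zero, or_iff_right hgCne] at h1
      have h2 := hWZ x
      rw [h1, mul_zero, sub_zero, show Blocks.regFun p c₀ x = 0 by simp [Blocks.regFun, hx],
        mul_zero, mul_zero, mul_eq_zero, or_iff_right hp0] at h2
      exact h2
    obtain ⟨S, hS⟩ : ∃ S : ℤ, S = ∑ ψ : Cfsg.IrrCharacter G, W ψ * mm ψ := ⟨_, rfl⟩
    have hWB : ∀ ψ, ψ ∉ B → W ψ = 0 := fun ψ hψ => by
      have := hW ψ
      simp [hZ, hmm, hXB ψ hψ, hψ, hp.ne_zero] at this
      exact this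
    have hf1 : f 1 = (((g : ℤ) * S : ℤ) : ℂ) := by
      rw [hf, Finset.sum_apply, hS]
      push_cast
      rw [Finset.mul_sum]
      refine Finset.sum_congr rfl fun ψ _ => ?_
      rw [Pi.smul_apply, smul_eq_mul]
      by_cases hψ : ψ ∈ B
      · rw [Blocks.charDegree_cast, hdeg ψ hψ]; ring
      · simp [hWB ψ hψ]
    have hdvd := Blocks.pow_dvd_of_vanish hfgen hvan hf1
    rw [ha] at hdvd
    have hdS : ((p : ℤ) ^ d) ∣ S := by
      have h1 : ((p : ℤ) ^ (a - d)) * (p : ℤ) ^ d ∣ (p : ℤ) ^ (a - d) * ((u : ℤ) * S) := by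
        rw [← pow_add, Nat.sub_add_cancel hda, ← mul_assoc]
        convert hdvd using 1
        · push_cast; rfl
        · rw [hgu]; push_cast; rfl
      refine IsCoprime.dvd_of_dvd_mul_left ?_
        ((mul_dvd_mul_iff_left (pow_ne_zero _ (by exact_mod_cast hp.ne_zero))).mp h1)
      exact (Int.isCoprime_iff_nat_coprime.mpr
        (by simpa using hp.coprime_iff_not_dvd.mpr hup)).pow_left
    obtain ⟨k, hk⟩ := hdS
    have hmsqZ : ∑ ψ : Cfsg.IrrCharacter G, mm ψ * mm ψ = (p : ℤ) ^ d * v := by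
      rw [show (p : ℤ) ^ d * v = ((p ^ d * v : ℕ) : ℤ) by push_cast; rfl, ← hmsq, Nat.cast_sum,
        Finset.sum_filter]
      refine Finset.sum_congr rfl fun ψ _ => ?_
      simp only [hmm]
      split_ifs <;> push_cast <;> ring
    have hXm : ∑ ψ : Cfsg.IrrCharacter G, X ψ * mm ψ = (p : ℤ) ^ d * mm c₀ := by
      have h := hXsum 1
      rw [show Blocks.regFun p c₀ 1 = (c₀ : G → ℂ) 1 by
          simp [Blocks.regFun, orderOf_one, hp.not_dvd_one], Blocks.charDegree_cast, hdeg c₀ hc₀] at h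
      have : (g : ℂ) * ((∑ ψ : Cfsg.IrrCharacter G, X ψ * mm ψ : ℤ) : ℂ) =
          (g : ℂ) * (((p : ℤ) ^ d * mm c₀ : ℤ) : ℂ) := by
        push_cast
        rw [show (g : ℂ) * ((p : ℂ) ^ d * (mm c₀ : ℂ)) = (p : ℂ) ^ d * ((g : ℂ) * (mm c₀ : ℂ)) by
          ring, ← h, Finset.mul_sum]
        refine Finset.sum_congr rfl fun ψ _ => ?_
        by_cases hψ : ψ ∈ B
        · rw [Blocks.charDegree_cast, hdeg ψ hψ]; ring
        · simp [hXB ψ hψ]
      exact_mod_cast mul_left_cancel₀ hgCne this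
    have hfin : (p : ℤ) * S = (p : ℤ) ^ d * (mm c₀ ^ 2 - X c₀ * v) := by
      calc (p : ℤ) * S = ∑ ψ : Cfsg.IrrCharacter G, Z ψ * mm ψ := by
            rw [hS, Finset.mul_sum]
            exact Finset.sum_congr rfl fun ψ _ => by rw [hW ψ]; ring
        _ = mm c₀ * (∑ ψ : Cfsg.IrrCharacter G, X ψ * mm ψ) -
            X c₀ * ∑ ψ : Cfsg.IrrCharacter G, mm ψ * mm ψ := by
            rw [Finset.mul_sum, Finset.mul_sum, ← Finset.sum_sub_distrib, hZ]
            exact Finset.sum_congr rfl fun ψ _ => by ring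
        _ = _ := by rw [hXm, hmsqZ]; ring
    rw [hk, mul_left_comm] at hfin
    have hfin' := mul_left_cancel₀ (pow_ne_zero d (Int.natCast_ne_zero.mpr hp.ne_zero)) hfin
    have h2 : (p : ℤ) ∣ mm c₀ ^ 2 := by
      have : mm c₀ ^ 2 = (p : ℤ) * k + X c₀ * v := by linear_combination -hfin'
      rw [this]
      exact dvd_add (dvd_mul_right _ _) ((Int.natCast_dvd_natCast.mpr hpv).mul_left _)
    have h3 := Int.Prime.dvd_pow' hp h2
    rw [hmm] at h3
    simp only [if_pos hc₀] at h3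
    exact hm0 (Int.natCast_dvd_natCast.mp h3)
  refine ⟨v, ?_, hvp, ?_, ?_⟩
  · exact Nat.pos_of_ne_zero fun h => hvp (h ▸ dvd_zero p)
  · rw [Blocks.blockRank_eq_card Sp hM hA, ← hI]; exact hcard
  · rw [← hu, finsum_mem_eq_finite_toFinset_sum _ B.toFinite,
      show B.toFinite.toFinset = Finset.univ.filter (· ∈ B) by ext x; simp, hsum, hgu,
      show 2 * a - d = (a - d) + a by omega, pow_add]
    ring

end Cfsg.Agent.S4641
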