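import Cfsg.Statements.S4642
import Cfsg.Agent.Lib.Blocks.InvariantPairs

set_option autoImplicit false
open Cfsg

namespace Cfsg.Agent.S4642

/-- Let G be a finite group, p a prime, M a maximal ideal of the algebraic integers containing p, K the largest normal subgroup of G of order prime to p, and L the preimage in G of the largest normal p-subgroup of G/K. Let Q be a Sylow p-subgroup of L and suppose C_G(Q) ≤ L. Let θ be an irreducible character of K invariant under conjugation by every element of G, and let B be the set of irreducible characters of G whose restriction to K contains θ. Then B is a block of G, every Sylow p-subgroup of G is a defect group of B, and B is of principal type: for every p-subgroup R of G exactly one block of C_G(R) induces B. -/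
theorem result {G : Type*} [Group G] [Fintype G] (p : ℕ) [Fact p.Prime] (M : Ideal Cfsg.AlgInt) (hM : Cfsg.IsPModular p M) (K : Subgroup G) (hK : K = Cfsg.pPrimeCore p G) [Fintype K] (L : Subgroup G) (hL : L = Cfsg.pPrimePCore p G) (Q : Subgroup G) (hQL : Q ≤ L) (hQp : IsPGroup p Q) (hQS : ¬ p ∣ Q.relIndex L) (hCQ : Subgroup.centralizer (Q : Set G) ≤ L) (θ : Cfsg.IrrCharacter K) (hθ : ∀ g : G, Cfsg.IsConjCharOf K g (θ : K → ℂ) (θ : K → ℂ)) (B : Set (Cfsg.IrrCharacter G)) (hBdef : ∀ χ : Cfsg.IrrCharacter G, χ ∈ B ↔ Cfsg.classInner (fun k : K => (χ : G → ℂ) k) (θ : K → ℂ) ≠ 0) : Cfsg.IsPBlock M B ∧ (∀ S : Sylow p G, Cfsg.IsDefectGroup p M B S) ∧ ∀ R : Subgroup G, IsPGroup p R → ∃! f : Set (Cfsg.IrrCharacter (Subgroup.centralizer (R : Set G))), Cfsg.IsInducedBlock M (Subgroup.centralizer (R : Set G)) f B := by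
  haveI := Cfsg.Agent.Blocks.isPrime_of_modular hM
  haveI hKn : K.Normal := by rw [hK]; exact Cfsg.Agent.Basics.pPrimeCore_normal p
  have hL' : L = (Cfsg.pCore p (G ⧸ K)).comap (QuotientGroup.mk' K) := by subst hK; exact hL
  clear hL
  have hp' : ¬ p ∣ Nat.card K :=
    by
    rw [hK]
    exact (Fact.out : p.Prime).coprime_iff_not_dvd.mp (Cfsg.Agent.Basics.pPrimeCore_coprime p).symm
  set π := QuotientGroup.mk' K with hπ
  have hO : L.map π = Cfsg.pCore p (G ⧸ K) := by
    rw [hL']
    exact Subgroup.map_comap_eq_self_of_surjective (QuotientGroup.mk'_surjective K) _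
  haveI : (Cfsg.pCore p (G ⧸ K)).Normal := Cfsg.Agent.Basics.pCore_normal p
  haveI hLn : L.Normal := by rw [hL']; exact Subgroup.normal_comap π
  have hLp : IsPGroup p (L.map π) := hO ▸ Cfsg.Agent.Basics.pCore_isPGroup p
  have hKL : K ≤ L := by
    intro x hx
    rw [hL']
    show π x ∈ Cfsg.pCore p (G ⧸ K)
    rw [hπ, QuotientGroup.mk'_apply, (QuotientGroup.eq_one_iff x).mpr hx]
    exact one_mem _
  have hrel : ∃ m : ℕ, K.relIndex L = p ^ m := by
    obtain ⟨m, hm⟩ := IsPGroup.iff_card.mp hLp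
    refine ⟨m, ?_⟩
    rw [← hm, ← Subgroup.relIndex_ker (f := π) (K := L), hπ, QuotientGroup.ker_mk']
  have hC : Subgroup.centralizer (L.map π : Set (G ⧸ K)) ≤ L.map π := by
    rw [← Cfsg.Agent.Blocks.map_eq_of_not_dvd π hQL hLp hQS,
      ← Cfsg.Agent.Components.map_centralizer_of_coprime
        ((Fact.out : p.Prime).coprime_iff_not_dvd.mpr hp').symm hQp,
      Cfsg.Agent.Blocks.map_eq_of_not_dvd π hQL hLp hQS]
    exact Subgroup.map_mono hCQ
  have hmem : ∀ g : G, π g ∈ L.map π → g ∈ L := by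
    rintro g ⟨l, hl, he⟩
    have := hKL (QuotientGroup.eq.mp he)
    simpa using L.mul_mem hl this
  have hcent : ∀ S : Subgroup G, S ≤ L → IsPGroup p S →
      Nat.card S = p ^ (Nat.card L).factorization p →
        ∀ c ∈ Subgroup.centralizer (S : Set G), ¬ p ∣ orderOf c → c ∈ L := by
    intro S hSL _ hcard c hc _
    refine hmem c (hC ?_)
    rw [← Cfsg.Agent.Blocks.map_eq_of_not_dvd π hSL hLp
      (Cfsg.Agent.Blocks.not_dvd_relIndex_of_card hSL hcard), Subgroup.mem_centralizer_iff]
    rintro _ ⟨s, hs, rfl⟩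
    rw [← map_mul, ← map_mul, Subgroup.mem_centralizer_iff.mp hc s hs]
  have hinv : ∀ g : G, Cfsg.Agent.Blocks.conjIrr g θ = θ := fun g =>
    Subtype.ext (funext fun n =>
      (hθ g n ⟨g * n * g⁻¹, (inferInstance : K.Normal).conj_mem n n.2 g⟩ rfl))
  obtain ⟨B', hB', hiff, hd⟩ :=
    Cfsg.Agent.Blocks.exists_block_over hM hp' θ hinv hKL hrel hcent
  obtain rfl : B = B' := Set.ext fun χ => (hBdef χ).trans (hiff χ).symm
  have hdef : ∀ S : Sylow p G, Cfsg.IsDefectGroup p M B S := fun S => by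
    obtain ⟨D, hD⟩ := Cfsg.Agent.Blocks.exists_defectGroup (p := p) hB'
    have hc := Cfsg.Agent.Blocks.card_defectGroup hM hB' hD
    rw [hd] at hc
    obtain ⟨x, hx⟩ := MulAction.exists_smul_eq G (Sylow.ofCard D hc) S
    have h := Cfsg.Agent.Blocks.isDefectGroup_conj hD x
    rw [← hx, Sylow.coe_subgroup_smul]
    exact h
  refine ⟨hB', hdef, fun R hR => ?_⟩
  obtain ⟨P, hRP⟩ := hR.exists_le_sylow
  refine Cfsg.Agent.Blocks.existsUnique_pair_of_over (L := L.subgroupOf _) hM hp' θ hinv hB' hiff hR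
    (hdef P) hRP Subgroup.normal_subgroupOf (Subgroup.comap_mono hKL) ?_
    fun S hS _ hcard c hc hreg =>
      Cfsg.Agent.Blocks.mem_of_centralizes_fixed hp' hR hKL hLp hC hS hcard hc hreg
  obtain ⟨m, hm⟩ := hrel
  have h1 : (K.subgroupOf (Subgroup.centralizer (R : Set G))).relIndex
      (L.subgroupOf (Subgroup.centralizer (R : Set G))) ∣ p ^ m := by
    rw [← Subgroup.inf_subgroupOf_right L, Subgroup.relIndex_subgroupOf inf_le_right,
      ← Subgroup.relIndex_subgroupOf (inf_le_left : L ⊓ Subgroup.centralizer (R : Set G) ≤ L), ← hm]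
    exact Subgroup.relIndex_dvd_index_of_normal _ _
  obtain ⟨j, -, hj⟩ := (Nat.dvd_prime_pow (Fact.out : p.Prime)).mp h1
  exact ⟨j, hj⟩

end Cfsg.Agent.S4642
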