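import Cfsg.Statements.S4689
import Cfsg.Agent.Lib.Blocks.NilMain

set_option autoImplicit false
open Cfsg Cfsg.Agent.Blocks

namespace Cfsg.Agent.S4689

/-- Fix a prime p and a maximal ideal M of the algebraic integers containing p, and a nilpotent p-block B of the finite group G. Then B has p-regular rank one (a single irreducible Brauer character), and some χ₀ ∈ B restricts to that Brauer character: every χ ∈ B agrees on the p-regular elements with a natural-number multiple of χ₀. -/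
theorem result {G : Type*} [Group G] [Fintype G] (p : ℕ) [Fact p.Prime] (M : Ideal Cfsg.AlgInt) (hM : Cfsg.IsPModular p M) (B : Set (Cfsg.IrrCharacter G)) (hnil : Cfsg.IsNilpotentBlock p M B) : Cfsg.blockRank p B = 1 ∧ ∃ χ₀ ∈ B, ∀ χ ∈ B, ∃ d : ℕ, ∀ x : G, Cfsg.pRegularPart p (χ : G → ℂ) x = (d : ℂ) * Cfsg.pRegularPart p (χ₀ : G → ℂ) x := by
  haveI : M.IsPrime := isPrime_of_modular hM
  obtain ⟨P, e, hmax⟩ := exists_maximal_of_block hM hnil.1
  obtain ⟨χ₀, hχ₀, -, Φ, hΦ, -⟩ := exists_nilpotent_equiv hM hnil hmax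
  have hrow : ∀ χ ∈ B, ∃ d : ℕ, ∀ x : G, Cfsg.pRegularPart p (χ : G → ℂ) x =
      (d : ℂ) * Cfsg.pRegularPart p (χ₀ : G → ℂ) x := by
    intro χ hχ
    refine ⟨charDegree ((Φ.symm ⟨χ, hχ⟩ : IrrCharacter P) : P → ℂ), fun x => ?_⟩
    by_cases hx : IsPRegular p x
    · have h := hΦ (Φ.symm ⟨χ, hχ⟩) x hx
      rw [Equiv.apply_symm_apply, charDegree_cast] at h
      simp only [pRegularPart, if_pos hx]
      exact h
    · simp [pRegularPart, hx]
  refine ⟨?_, χ₀, hχ₀, hrow⟩
  have hv : Cfsg.pRegularPart p (χ₀ : G → ℂ) ≠ 0 := fun h => by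
    have h1 := congrFun h 1
    simp only [pRegularPart, Pi.zero_apply] at h1
    rw [if_pos (show IsPRegular p (1 : G) by
      rw [IsPRegular, orderOf_one]; exact (Fact.out : p.Prime).not_dvd_one)] at h1
    exact CT.irr_one_ne_zero χ₀.2 h1
  have hspan : Submodule.span ℂ ((fun χ : IrrCharacter G => pRegularPart p (χ : G → ℂ)) '' B) =
      Submodule.span ℂ {Cfsg.pRegularPart p (χ₀ : G → ℂ)} := by
    refine le_antisymm (Submodule.span_le.mpr ?_) (Submodule.span_mono ?_)
    · rintro _ ⟨χ, hχ, rfl⟩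
      obtain ⟨d, hd⟩ := hrow χ hχ
      exact Submodule.mem_span_singleton.mpr ⟨(d : ℂ), funext fun x => (hd x).symm⟩
    · rintro _ rfl
      exact ⟨χ₀, hχ₀, rfl⟩
  rw [blockRank, hspan]
  exact finrank_span_singleton hv

end Cfsg.Agent.S4689
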