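import Cfsg.Statements.S4645
import Cfsg.Agent.Lib.Blocks.InertialCyclic
import Cfsg.Agent.S4689

set_option autoImplicit false
open Cfsg Cfsg.Agent.Blocks Cfsg.Agent.BPairs

namespace Cfsg.Agent.S4645

/-- Let B be a block of the finite group G relative to a maximal ideal M of the algebraic integers containing the prime p, with a nontrivial cyclic defect group P; let c be a block of C_G(P) inducing B and T the stabilizer of c in N_G(P). Let Q be a nontrivial subgroup of P (so C_G(P) ≤ C_G(Q)), f the block of C_G(Q) induced by c inside C_G(Q), and T' the stabilizer of f in N_G(Q). Then T' = T·C_G(Q), the index of C_G(Q) in T' equals the index of C_G(P) in T, f has p-regular rank 1, and f is a nilpotent block of C_G(Q). -/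
theorem result {G : Type*} [Group G] [Finite G] (p : ℕ) [Fact p.Prime] (M : Ideal Cfsg.AlgInt) (hM : Cfsg.IsPModular p M) (B : Set (Cfsg.IrrCharacter G)) (hB : Cfsg.IsPBlock M B) (P : Subgroup G) (hPD : Cfsg.IsDefectGroup p M B P) (hP1 : P ≠ ⊥) (hcyc : IsCyclic P) (c : Set (Cfsg.IrrCharacter (Subgroup.centralizer (P : Set G)))) (hc : Cfsg.IsInducedBlock M (Subgroup.centralizer (P : Set G)) c B) (T : Subgroup G) (hT : ∀ g : G, g ∈ T ↔ (g ∈ Subgroup.normalizer (P : Set G) ∧ Cfsg.StabilizesBlock (Subgroup.centralizer (P : Set G)) c g)) (Q : Subgroup G) (hQP : Q ≤ P) (hQ1 : Q ≠ ⊥) (f : Set (Cfsg.IrrCharacter (Subgroup.centralizer (Q : Set G)))) (hf : Cfsg.IsInducedBlockIn M (Subgroup.centralizer (Q : Set G)) (Subgroup.centralizer (P : Set G)) c f) (T' : Subgroup G) (hT' : ∀ g : G, g ∈ T' ↔ (g ∈ Subgroup.normalizer (Q : Set G) ∧ Cfsg.StabilizesBlock (Subgroup.centralizer (Q : Set G)) f g)) : T' = T ⊔ Subgroup.centralizer (Q : Set G) ∧ (Subgroup.centralizer (Q : Set G)).relIndex T' = (Subgroup.centralizer (P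 : Set G)).relIndex T ∧ Cfsg.blockRank p f = 1 ∧ Cfsg.IsNilpotentBlock p M f := by
  haveI : M.IsPrime := isPrime_of_modular hM
  haveI := Fintype.ofFinite G
  haveI := Fintype.ofFinite (Subgroup.centralizer (Q : Set G))
  obtain rfl := eq_stabSub (M := M) hc.1 hT
  obtain rfl := eq_stabSub (M := M) hf.2.1 hT'
  have hP := le_centralizer_of_cyclic hcyc
  have hmax := maximal_of_induced hM hB hPD hc
  have hle := subpair_of_inducedIn hM hmax.1.1 hP hQP hf
  have hfree := free_of_cyclic hM hB hPD hcyc hc
  have hnil := nilpotent_of_free hM hmax hP hfree hQ1 hf.2.1 hle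
  have hPQ : P ≤ Subgroup.centralizer (Q : Set G) := hP.trans (Subgroup.centralizer_le hQP)
  have hsup : stabSub M Q f = stabSub M P c ⊔ Subgroup.centralizer (Q : Set G) := by
    refine le_antisymm (fun x hx => ?_) (sup_le (fun g hg => ?_) (centralizer_le_stabSub f))
    · obtain ⟨y, hy, d, hd, rfl⟩ := BPairs.abelian_stab hM hmax hle hPQ hx
      exact Subgroup.mul_mem_sup hy hd
    · have hPb : IsPBlock M (⟨P, c⟩ : BrauerPairIdx G).2 := hc.1
      have hfix := (BPairs.conjIdx_eq_self_iff hPb).mpr hg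
      have hQb : IsPBlock M (⟨Q, f⟩ : BrauerPairIdx G).2 := hf.2.1
      refine (BPairs.conjIdx_eq_self_iff hQb).mp (idx_below_unique hM hmax.1.1 ?_ hle ?_)
      · have := BPairs.subpair_conj hM hle g
        rwa [hfix] at this
      · exact Subgroup.mem_normalizer_iff_map_conj_eq.mp (conj_mem_of_cyclic hcyc hQP hg.1)
  refine ⟨hsup, ?_, (S4689.result p M hM f hnil).1, hnil⟩
  have hinf : Subgroup.centralizer (Q : Set G) ⊓ stabSub M P c =
      Subgroup.centralizer (P : Set G) := by
    refine le_antisymm (fun g hg => ?_)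
      (le_inf (Subgroup.centralizer_le hQP) (centralizer_le_stabSub c))
    obtain ⟨q, hq, hq1⟩ : ∃ q ∈ Q, q ≠ 1 := by
      by_contra hcon
      push Not at hcon
      exact hQ1 (eq_bot_iff.mpr fun q hq => Subgroup.mem_bot.mpr (hcon q hq))
    exact hfree g hg.2 q (hQP hq) hq1
      (mul_inv_eq_iff_eq_mul.mpr (Subgroup.mem_centralizer_iff.mp hg.1 q hq).symm)
  have hCS := centralizer_le_stabSub (M := M) f
  haveI : ((Subgroup.centralizer (Q : Set G)).subgroupOf (stabSub M Q f)).Normal := by
    refine ⟨fun x hx y => ?_⟩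
    rw [Subgroup.mem_subgroupOf] at hx ⊢
    simpa using (Subgroup.mem_normalizer_iff.mp
      (normalizer_le_normalizer_centralizer Q y.2.1) (x : G)).mp hx
  have hTS : stabSub M P c ≤ stabSub M Q f := hsup ▸ le_sup_left
  calc (Subgroup.centralizer (Q : Set G)).relIndex (stabSub M Q f)
      = ((Subgroup.centralizer (Q : Set G)).subgroupOf (stabSub M Q f)).relIndex
          ((stabSub M P c).subgroupOf (stabSub M Q f) ⊔
            (Subgroup.centralizer (Q : Set G)).subgroupOf (stabSub M Q f)) := by
        rw [← Subgroup.subgroupOf_sup hTS hCS, ← hsup, Subgroup.subgroupOf_self,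
          Subgroup.relIndex_top_right]
        rfl
    _ = (Subgroup.centralizer (Q : Set G)).relIndex (stabSub M P c) := by
        rw [Subgroup.relIndex_sup_right, Subgroup.relIndex_subgroupOf hTS]
    _ = (Subgroup.centralizer (P : Set G)).relIndex (stabSub M P c) := by
        rw [← Subgroup.inf_relIndex_right, hinf]

end Cfsg.Agent.S4645
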