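import Cfsg.Statements.S4691
import Cfsg.Agent.Lib.BrauerPairs.Principal
import Cfsg.Agent.Lib.Transfer.Fusion

set_option autoImplicit false
open Cfsg

namespace Cfsg.Agent.S4691

/-- Fix a prime p and a maximal ideal M of the algebraic integers containing p. A finite group G has a normal p-complement if and only if its principal p-block is nilpotent. -/
theorem result {G : Type*} [Group G] [Fintype G] (p : ℕ) [Fact p.Prime] (M : Ideal Cfsg.AlgInt) (hM : Cfsg.IsPModular p M) : Cfsg.HasNormalPComplement p G ↔ Cfsg.IsNilpotentBlock p M (Cfsg.principalBlock M G) := by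
  haveI := Blocks.isPrime_of_modular hM
  have hcop : ∀ x : G, IsPRegular p x ↔ (orderOf x).Coprime p := fun x =>
    ((Nat.Prime.coprime_iff_not_dvd Fact.out).symm.trans Nat.coprime_comm)
  constructor
  · intro h
    exact ⟨Blocks.isPBlock_principalBlock, fun Q e hQe x hx _ hreg =>
      Transfer.centralizes_of_hasNormalPComplement h Q hQe.1.1 x hx ((hcop x).mp hreg)⟩
  · intro h
    refine Transfer.hasNormalPComplement_of_frobenius fun D hD g hg hcp => ?_
    have hpair := (BPairs.principal_pair_iff hM hD Blocks.isPBlock_principalBlock).mpr rfl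
    refine h.2 D _ hpair g hg ?_ ((hcop g).mpr hcp)
    have hn := BPairs.normalizer_le_normalizer_centralizer D hg
    refine ⟨hn, fun χ hχ => ?_⟩
    have hb := Blocks.isPBlock_principalBlock (M := M) (G := Subgroup.centralizer (D : Set G))
    have hconj : BPairs.conjA g (BPairs.bel M _ (principalBlock M (Subgroup.centralizer (D : Set G)))) =
        BPairs.bel M _ (principalBlock M (Subgroup.centralizer (D : Set G))) := by
      have hmem : ∀ u, u ∈ Subgroup.centralizer (D : Set G) ↔
          g * u * g⁻¹ ∈ Subgroup.centralizer (D : Set G) := Subgroup.mem_normalizer_iff.mp hn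
      have hp : BPairs.conjSet g _ _ hmem (principalBlock M (Subgroup.centralizer (D : Set G))) =
          principalBlock M (Subgroup.centralizer (D : Set G)) :=
        Blocks.block_eq_of_mem (BPairs.isPBlock_pullSet _ hb) hb (χ := CT.trivIrr _)
          ((BPairs.mem_conjSet_iff g _ _ hmem _ _).mpr
            ⟨CT.trivIrr _, Blocks.trivIrr_mem_principalBlock, fun _ _ _ => rfl⟩)
          Blocks.trivIrr_mem_principalBlock
      rw [← BPairs.bel_conjSet g _ _ hmem hb, hp]
    exact ((BPairs.conjA_bel_iff_stabilizes g _ hb hn).mpr hconj).2 χ hχ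

end Cfsg.Agent.S4691
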