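import Cfsg.Statements.S4646
import Cfsg.Agent.S4691
import Cfsg.Agent.Lib.Blocks.Inflation
import Cfsg.Agent.Lib.Blocks.Orthogonality
import Cfsg.Agent.Lib.CT.Kernel

set_option autoImplicit false
open Cfsg

namespace Cfsg.Agent.S4646

/-- For a finite group G, a prime p and a maximal ideal M of the algebraic integers containing p: the principal block of G is nilpotent if and only if its p-regular rank is 1 (the trivial Brauer character is its only irreducible Brauer character). -/
theorem result {G : Type*} [Group G] [Finite G] (p : ℕ) [Fact p.Prime] (M : Ideal Cfsg.AlgInt) (hM : Cfsg.IsPModular p M) : Cfsg.IsNilpotentBlock p M (Cfsg.principalBlock M G) ↔ Cfsg.blockRank p (Cfsg.principalBlock M G) = 1 := by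
  classical
  haveI := Cfsg.Agent.Blocks.isPrime_of_modular hM
  letI := Fintype.ofFinite G
  rw [← Cfsg.Agent.S4691.result p M hM]
  have h1mem : (CT.trivIrr G : Cfsg.IrrCharacter G) ∈ Cfsg.principalBlock M G :=
    Cfsg.Agent.Blocks.trivIrr_mem_principalBlock
  set v := Cfsg.pRegularPart p ((CT.trivIrr G : Cfsg.IrrCharacter G) : G → ℂ) with hv
  have hv1 : ∀ g : G, v g = if Cfsg.IsPRegular p g then 1 else 0 := fun g => rfl
  have h1reg : Cfsg.IsPRegular p (1 : G) := by
    simp [Cfsg.IsPRegular, (Fact.out : p.Prime).ne_one]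
  have hv0 : v ≠ 0 := fun h => by
    have := congrFun h 1
    rw [hv1, if_pos h1reg] at this
    exact one_ne_zero this
  constructor
  · rintro ⟨P, N, hN, hNP⟩
    haveI := hN
    have hidx : N.index = Nat.card P := (Subgroup.IsComplement'.symm hNP).index_eq_card
    have hNp : ¬ p ∣ Nat.card N := fun hd => P.not_dvd_index ((Subgroup.IsComplement'.index_eq_card hNP).symm ▸ hd)
    have hpow : ∃ k : ℕ, N.index = p ^ k := by
      rw [hidx]; exact IsPGroup.iff_card.mp P.isPGroup'
    have hspan : Submodule.span ℂ ((fun χ : Cfsg.IrrCharacter G => Cfsg.pRegularPart p (χ : G → ℂ)) ''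
        Cfsg.principalBlock M G) = Submodule.span ℂ {v} := by
      refine le_antisymm (Submodule.span_le.mpr ?_) (Submodule.span_mono
        (Set.singleton_subset_iff.mpr ⟨_, h1mem, rfl⟩))
      rintro _ ⟨χ, hχ, rfl⟩
      refine Submodule.mem_span_singleton.mpr ⟨(χ : G → ℂ) 1, funext fun g => ?_⟩
      rw [Pi.smul_apply, smul_eq_mul, hv1]
      simp only [Cfsg.pRegularPart]
      split_ifs with hg
      · rw [mul_one, Cfsg.Agent.Blocks.apply_eq_one_of_mem_principalBlock hM hNp hχ
          (Cfsg.Agent.Blocks.mem_of_pow_index hpow hg)]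
      · rw [mul_zero]
    rw [Cfsg.blockRank, hspan]
    exact finrank_span_singleton hv0
  · intro h
    obtain ⟨w, hw⟩ := finrank_eq_one_iff'.mp h
    have hmem : ∀ χ ∈ Cfsg.principalBlock M G, ∀ g : G, Cfsg.IsPRegular p g →
        (χ : G → ℂ) g = (χ : G → ℂ) 1 := by
      intro χ hχ g hg
      obtain ⟨a, ha⟩ := hw.2 ⟨v, Submodule.subset_span ⟨_, h1mem, rfl⟩⟩
      obtain ⟨b, hb⟩ := hw.2 ⟨_, Submodule.subset_span ⟨χ, hχ, rfl⟩⟩
      have ha' : a • (w : G → ℂ) = v := congrArg Subtype.val ha
      have hb' : b • (w : G → ℂ) = Cfsg.pRegularPart p (χ : G → ℂ) := congrArg Subtype.val hb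
      have ha0 : a ≠ 0 := fun h0 => hv0 (by rw [← ha', h0, zero_smul])
      have e : ∀ u : G, Cfsg.IsPRegular p u → (χ : G → ℂ) u = b / a := fun u hu => by
        have h1 := congrFun ha' u
        have h2 := congrFun hb' u
        rw [Pi.smul_apply, smul_eq_mul, hv1, if_pos hu] at h1
        simp only [Cfsg.pRegularPart, if_pos hu, Pi.smul_apply, smul_eq_mul] at h2
        rw [← h2, eq_div_iff ha0]
        linear_combination b * h1
      rw [e g hg, e 1 h1reg]
    let K : Subgroup G := ⨅ χ ∈ Cfsg.principalBlock M G, CT.kerChar ((χ : Cfsg.IrrCharacter G) : G → ℂ)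
    have hKmem : ∀ g : G, g ∈ K ↔ ∀ χ ∈ Cfsg.principalBlock M G, (χ : G → ℂ) g = (χ : G → ℂ) 1 :=
      fun g => by
        simp only [K, Subgroup.mem_iInf]
        exact forall₂_congr fun χ _ => CT.mem_kerChar_iff (CT.isCharacter_of_isIrr χ.2)
    haveI : K.Normal := ⟨fun n hn g => (hKmem _).mpr fun χ hχ => by
      rw [Cfsg.Agent.Blocks.isClassFn_irr χ n g]; exact (hKmem n).mp hn χ hχ⟩
    have hKp : ¬ p ∣ Nat.card K := by
      intro hd
      obtain ⟨x, hx⟩ := exists_prime_orderOf_dvd_card' p hd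
      have hxG : p ∣ orderOf (x : G) := by rw [Subgroup.orderOf_coe, hx]
      have h0 := Cfsg.Agent.Blocks.weak_orthogonality hM
        (Cfsg.Agent.Blocks.blockCoeff_mem_loc Cfsg.Agent.Blocks.isPBlock_principalBlock)
        (g := (1 : G)) (by rw [orderOf_one]; exact (Fact.out : p.Prime).not_dvd_one) hxG
      rw [finsum_mem_eq_finite_toFinset_sum _ (Set.toFinite _)] at h0
      have hpos : ∀ χ ∈ (Set.toFinite (Cfsg.principalBlock M G)).toFinset,
          (χ : G → ℂ) 1 * (starRingEnd ℂ) ((χ : G → ℂ) x) =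
            ((Cfsg.charDegree (χ : G → ℂ) ^ 2 : ℕ) : ℂ) := fun χ hχ => by
        rw [(hKmem x).mp x.2 χ ((Set.Finite.mem_toFinset _).mp hχ),
          Cfsg.Agent.Blocks.charDegree_cast χ, Complex.conj_natCast]
        push_cast
        ring
      rw [Finset.sum_congr rfl hpos, ← Nat.cast_sum, Nat.cast_eq_zero] at h0
      have h2 := Finset.sum_eq_zero_iff.mp h0 (CT.trivIrr G)
        ((Set.Finite.mem_toFinset _).mpr h1mem)
      have h3 := Cfsg.Agent.Blocks.charDegree_cast (CT.trivIrr G : Cfsg.IrrCharacter G)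
      rw [pow_eq_zero_iff two_ne_zero] at h2
      rw [h2, Nat.cast_zero] at h3
      exact CT.irr_one_ne_zero (CT.trivIrr G : Cfsg.IrrCharacter G).2 h3
    obtain ⟨P⟩ : Nonempty (Sylow p G) := inferInstance
    obtain ⟨n, hn⟩ : ∃ n, K.index = p ^ n := by
      refine ⟨_, Nat.eq_prime_pow_of_unique_prime_dvd Subgroup.index_ne_zero_of_finite
        fun {q} hq hqd => ?_⟩
      haveI := Fact.mk hq
      obtain ⟨x, hx⟩ := exists_prime_orderOf_dvd_card' (G := G ⧸ K) q
        (by rwa [← Subgroup.index_eq_card])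
      by_contra hqp
      obtain ⟨g, hg, hgx⟩ := Cfsg.Agent.Blocks.exists_regular_lift (p := p) (x := x) (by
        rw [hx]
        exact fun hd => hqp ((Nat.prime_dvd_prime_iff_eq (Fact.out : p.Prime) hq).mp hd).symm)
      have : x = 1 := by
        rw [← hgx]
        exact (QuotientGroup.eq_one_iff _).mpr ((hKmem g).mpr fun χ hχ => hmem χ hχ g hg)
      rw [this, orderOf_one] at hx
      exact hq.one_lt.ne hx
    refine ⟨P, K, inferInstance, Subgroup.isComplement'_of_coprime ?_ ?_⟩
    · rw [P.card_eq_multiplicity, ← K.index_mul_card, hn, Nat.factorization_mul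
        (pow_ne_zero _ (Fact.out : p.Prime).ne_zero) Nat.card_pos.ne']
      simp [-Nat.card_eq_fintype_card, Nat.factorization_eq_zero_of_not_dvd hKp,
        (Fact.out : p.Prime).factorization_self, mul_comm]
    · rw [P.card_eq_multiplicity]
      exact (((Fact.out : p.Prime).coprime_iff_not_dvd.mpr hKp).symm).pow_right _

end Cfsg.Agent.S4646
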