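import Cfsg.Statements.S4648
import Cfsg.Agent.Lib.Blocks.OneSimple
import Cfsg.Agent.Lib.FreeStar.Homocyclic
import Cfsg.Agent.Lib.Blocks.CycNilpotent
import Cfsg.Agent.Lib.Blocks.InertialCyclic

set_option autoImplicit false
open Cfsg

namespace Cfsg.Agent.S4648

/-- Let B be a block of the finite group G relative to a maximal ideal M of the algebraic integers containing the prime p, with a nontrivial defect group D. If B has p-regular rank 1 and at most four irreducible characters, then B is nilpotent, D has exactly as many elements as B has irreducible characters, and p is 2 or 3. -/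
theorem result {G : Type*} [Group G] [Finite G] (p : ℕ) [Fact p.Prime] (M : Ideal Cfsg.AlgInt) (hM : Cfsg.IsPModular p M) (B : Set (Cfsg.IrrCharacter G)) (hB : Cfsg.IsPBlock M B) (D : Subgroup G) (hD : Cfsg.IsDefectGroup p M B D) (hD1 : D ≠ ⊥) (hl : Cfsg.blockRank p B = 1) (hk : Nat.card B ≤ 4) : Cfsg.IsNilpotentBlock p M B ∧ Nat.card D = Nat.card B ∧ (p = 2 ∨ p = 3) := by
  classical
  haveI hp : Fact p.Prime := ⟨hM.1⟩
  haveI : M.IsPrime := hM.2.1.isPrime
  haveI := Fintype.ofFinite G
  have hle4 := Blocks.defect_le_four hM hB hl hk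
  have hq : Nat.card D = p ^ Cfsg.blockDefect p B := Blocks.card_defectGroup hM hB hD
  obtain ⟨P, c, hmax⟩ := Blocks.exists_maximal_of_block hM hB
  have hPD := BPairs.isDefectGroup_of_maximal hM hmax
  have hPc : Nat.card P = Nat.card D := Blocks.card_defect_eq hM hB hPD hD
  have hd0 : Cfsg.blockDefect p B ≠ 0 := fun h => hD1 (Subgroup.card_eq_one.mp (by rw [hq, h, pow_zero]))
  have hP1 : P ≠ ⊥ := fun h => by
    rw [h, Subgroup.card_bot, hq] at hPc
    exact hd0 ((Nat.pow_eq_one.mp hPc.symm).resolve_left hM.1.ne_one)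
  have hp4 : p ≤ 4 := (Nat.le_self_pow hd0 p).trans hle4
  have hp23 : p = 2 ∨ p = 3 := by
    have := hM.1.two_le
    rcases (show p = 2 ∨ p = 3 ∨ p = 4 by omega) with h | h | h
    · exact Or.inl h
    · exact Or.inr h
    · subst h; exact absurd hM.1 (by norm_num)
  have hc := Blocks.isInducedBlock_of_brauerPair hM hmax.1
  obtain ⟨hPC, hfree⟩ : P ≤ Subgroup.centralizer (P : Set G) ∧
      ∀ g ∈ BPairs.stabSub M P c, ∀ x ∈ P, x ≠ 1 → g * x * g⁻¹ = x →
        g ∈ Subgroup.centralizer (P : Set G) := by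
    by_cases hcyc : IsCyclic P
    · exact ⟨Blocks.le_centralizer_of_cyclic hcyc, Blocks.free_of_cyclic hM hB hPD hcyc hc⟩
    · have hd2 : Cfsg.blockDefect p B ≠ 1 := fun h => hcyc (isCyclic_of_prime_card (p := p) (by
        rw [hPc, hq, h, pow_one]))
      obtain ⟨h22, hd⟩ : p = 2 ∧ Cfsg.blockDefect p B = 2 := by
        rcases hp23 with rfl | rfl
        · refine ⟨rfl, ?_⟩
          by_contra h
          have := (Nat.pow_le_pow_right (show 0 < 2 by norm_num) (show 3 ≤ Cfsg.blockDefect 2 B by omega)).trans hle4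
          norm_num at this
        · have := (Nat.pow_le_pow_right (show 0 < 3 by norm_num) (show 2 ≤ Cfsg.blockDefect 3 B by omega)).trans hle4
          norm_num at this
      subst h22
      have h4 : Nat.card P = 2 ^ 2 := by rw [hPc, hq, hd]
      haveI : IsKleinFour P :=
        ⟨h4.trans (by norm_num), (not_isCyclic_iff_exponent_eq_prime hM.1 h4).mp hcyc⟩
      obtain ⟨iso⟩ : Nonempty (P ≃* Multiplicative (ZMod (2 ^ 1) × ZMod (2 ^ 1))) :=
        (IsKleinFour.nonempty_mulEquiv : Nonempty (P ≃* Multiplicative (ZMod 2 × ZMod 2)))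
      obtain ⟨h1, -, h2, -⟩ := FreeStar.homocyclic_free hM hB hmax le_rfl iso
      exact ⟨h1, h2⟩
  let S : FreeStar.Free p M G := ⟨hM, B, P, c, hmax, hPC, hP1, hfree⟩
  have hSq : S.q = p ^ Cfsg.blockDefect p B := hPc.trans hq
  have hq1 := S.one_lt_q
  have he3 : S.e ≤ 3 := by
    have := Nat.le_of_dvd (by omega) S.e_dvd
    omega
  obtain ⟨-, -, -, h3⟩ := S.counts
  obtain ⟨hkk, hll⟩ := h3 he3
  have he : S.e = 1 := hll.symm.trans hl
  refine ⟨?_, ?_, hp23⟩
  · refine BPairs.nilpotent_of_below hM hmax fun Q f _ hle x hx _ => ?_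
    have hQP := BPairs.subpair_le hle
    obtain ⟨y, hy, g, hg, rfl⟩ :=
      BPairs.abelian_stab hM hmax hle (hPC.trans (Subgroup.centralizer_le hQP)) hx
    exact mul_mem (Subgroup.centralizer_le hQP (Subgroup.relIndex_eq_one.mp he hy)) hg
  · rw [he, Nat.div_one] at hkk
    have : Nat.card B = S.q := by rw [show Nat.card B = Nat.card S.B from rfl, hkk]; omega
    rw [this, hSq, hq]

end Cfsg.Agent.S4648
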