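import Cfsg.Statements.S4651
import Cfsg.Agent.Lib.Blocks.ChainCount

set_option autoImplicit false
open Cfsg

namespace Cfsg.Agent.S4651


/-- An alternating-sum identity over chains of p-subgroups (the character-count form behind the chain reformulation of Alperin's weight conjecture, which holds unconditionally for the difference k − l). Let b be a block of the finite group G relative to a maximal ideal M of the algebraic integers containing the prime p. Consider the nonempty chains s = {Q_0 < Q_1 < ⋯ < Q_m} of nontrivial p-subgroups of G in which every member is normal in the largest member; let N_G(s) be the intersection of the normalizers of the members (the stabilizer of the chain), and let b_s be the set of irreducible characters of N_G(s) lying in blocks of N_G(s) that induce b. Then #G · (k(b) − l(b)) equals the sum over all such chains s of (−1)^m · #N_G(s) · (k(b_s) − l(b_s)), where k counts irreducible characters and l is the p-regular rank; equivalently, k(b) − l(b) is the alternating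 sum of k(b_s) − l(b_s) over representatives of the conjugacy classes of such chains. -/
theorem result {G : Type*} [Group G] [Finite G] (p : ℕ) [Fact p.Prime] (M : Ideal Cfsg.AlgInt) (hM : Cfsg.IsPModular p M) (b : Set (Cfsg.IrrCharacter G)) (hb : Cfsg.IsPBlock M b) : (Nat.card G : ℤ) * ((Nat.card b : ℤ) - (Cfsg.blockRank p b : ℤ)) = ∑ᶠ s ∈ {s : Finset (Subgroup G) | s.Nonempty ∧ (∀ Q ∈ s, ∀ R ∈ s, Q ≤ R ∨ R ≤ Q) ∧ (∀ Q ∈ s, Q ≠ ⊥ ∧ IsPGroup p Q) ∧ ∃ T ∈ s, ∀ Q ∈ s, Q ≤ T ∧ T ≤ Subgroup.normalizer ((Q : Subgroup G) : Set G)}, (-1 : ℤ) ^ (s.card - 1) * (Nat.card (((⨅ Q ∈ s, Subgroup.normalizer ((Q : Subgroup G) : Set G) : Subgroup G))) : ℤ) * ((Nat.card {ψ : Cfsg.IrrCharacter (((⨅ Q ∈ s, Subgroup.normalizer ((Q : Subgroup G) : Set G) : Subgroup G))) | ∃ β : Set (Cfsg.IrrCharacter (((⨅ Q ∈ s, Subgroup.normalizer ((Q : Subgroup G) : Set G) : Subgroup G)))), ψ ∈ β ∧ Cfsg.IsInducedBlock M (((⨅ Q ∈ s, Subgroup.normalizer ((Q : Subgroup G) : Set G) : Subgroup G))) β b} : ℤ) - (Cfsg.blockRank p {ψ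 : Cfsg.IrrCharacter (((⨅ Q ∈ s, Subgroup.normalizer ((Q : Subgroup G) : Set G) : Subgroup G))) | ∃ β : Set (Cfsg.IrrCharacter (((⨅ Q ∈ s, Subgroup.normalizer ((Q : Subgroup G) : Set G) : Subgroup G)))), ψ ∈ β ∧ Cfsg.IsInducedBlock M (((⨅ Q ∈ s, Subgroup.normalizer ((Q : Subgroup G) : Set G) : Subgroup G))) β b} : ℤ)) := by
    classical
    haveI := hM.2.1.isPrime
    letI := Fintype.ofFinite G
    letI : Fintype (Subgroup G) := Fintype.ofFinite _
    have hover : ∀ N : Subgroup G, {ψ : Cfsg.IrrCharacter N | ∃ β : Set (Cfsg.IrrCharacter N),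
        ψ ∈ β ∧ Cfsg.IsInducedBlock M N β b} = Cfsg.Agent.Blocks.ChainCount.Over M b N.subtype := by
      intro N
      letI := Fintype.ofFinite N
      ext ψ
      constructor
      · rintro ⟨β, hψ, hβ⟩ χ hχ g
        exact hβ.2.2 ψ hψ χ hχ g
      · intro hψ
        exact ⟨_, Cfsg.Agent.Blocks.self_mem_blockOf ψ, Cfsg.Agent.Blocks.isPBlock_blockOf ψ, hb,
          fun ξ hξ => Cfsg.Agent.Blocks.ChainCount.over_closed N.subtype hψ hξ⟩
    set Φ : Subgroup G → ℤ := fun H => Cfsg.Agent.Blocks.ChainCount.phi p M b H.subtype with hΦ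
    have hid := Cfsg.Agent.Blocks.ChainCount.card_sub_rank (b := b) hM (MonoidHom.id G)
      Function.injective_id
    rw [Cfsg.Agent.Blocks.ChainCount.over_id hb] at hid
    set F := Finset.univ.filter fun s : Finset (Subgroup G) =>
      Cfsg.Agent.Blocks.ChainSums.IsNormalChain (p := p) s with hF
    rw [finsum_mem_eq_toFinset_sum, hid]
    have hterm : ∀ N : Subgroup G,
        (Nat.card N : ℤ) * ((Nat.card {ψ : Cfsg.IrrCharacter N |
            ∃ β : Set (Cfsg.IrrCharacter N), ψ ∈ β ∧ Cfsg.IsInducedBlock M N β b} : ℤ) -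
          (Cfsg.blockRank p {ψ : Cfsg.IrrCharacter N |
            ∃ β : Set (Cfsg.IrrCharacter N), ψ ∈ β ∧ Cfsg.IsInducedBlock M N β b} : ℤ)) =
        ∑ x ∈ Finset.univ.filter (fun x : G => (∃ k : ℕ, orderOf x = p ^ k) ∧ x ≠ 1),
          if x ∈ N then Φ (N ⊓ Subgroup.centralizer ({x} : Set G)) else 0 := by
      intro N
      letI := Fintype.ofFinite N
      rw [hover N, Cfsg.Agent.Blocks.ChainCount.card_sub_rank hM N.subtype Subtype.val_injective,
        ← Finset.sum_filter, Subgroup.range_subtype]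
      refine Finset.sum_bij (fun x _ => (x : G)) (fun x hx => ?_) (fun _ _ _ _ h => Subtype.ext h)
        (fun x hx => ?_) fun x _ => rfl
      · simp only [Finset.mem_filter, Finset.mem_univ, true_and] at hx ⊢
        obtain ⟨h1, h2⟩ := hx
        exact ⟨⟨by simpa [Subgroup.orderOf_coe] using h1, fun h => h2 (Subtype.ext h)⟩, x.2⟩
      · simp only [Finset.mem_filter, Finset.mem_univ, true_and] at hx
        obtain ⟨⟨h1, h2⟩, hxN⟩ := hx
        refine ⟨⟨x, hxN⟩, ?_, rfl⟩
        simp only [Finset.mem_filter, Finset.mem_univ, true_and]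
        exact ⟨by simpa [Subgroup.orderOf_mk] using h1, fun h => h2 (congrArg Subtype.val h)⟩
    simp only [mul_assoc, hterm, Finset.mul_sum, mul_ite, mul_zero]
    rw [Finset.sum_comm]
    refine Finset.sum_congr (Finset.ext fun x => by simp) fun x hx => ?_
    obtain ⟨h1, h2⟩ := (Finset.mem_filter.mp hx).2
    rw [MonoidHom.range_eq_top.mpr fun g => ⟨g, rfl⟩, top_inf_eq, ← Finset.sum_filter]
    refine (Cfsg.Agent.Blocks.ChainSums.alternating_sum h2 h1 Φ).symm.trans (Finset.sum_congr ?_ fun s _ => rfl)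
    ext s
    simp only [Finset.mem_filter, Finset.mem_univ, true_and, Set.mem_toFinset, Set.mem_setOf_eq]
    rfl

end Cfsg.Agent.S4651
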