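import Cfsg.Statements.S4664
import Cfsg.Agent.Lib.Blocks.SecondMain
import Cfsg.Agent.Lib.CT.Basic

set_option autoImplicit false
open Cfsg

namespace Cfsg.Agent.S4664

/-- Fix a prime p and a maximal ideal M of the algebraic integers containing p, and let B be a p-block of the finite group G. Let m be the p'-part of the order of G and η = exp(2πi/m). Then every coefficient of the idempotent of B lies in the cyclotomic field ℚ(η). -/
theorem result {G : Type*} [Group G] [Fintype G] (p : ℕ) [Fact p.Prime] (M : Ideal Cfsg.AlgInt) (hM : Cfsg.IsPModular p M) (B : Set (Cfsg.IrrCharacter G)) (hB : Cfsg.IsPBlock M B) (g : G) : Cfsg.blockCoeff B g ∈ IntermediateField.adjoin ℚ ({Complex.exp (2 * Real.pi * Complex.I / ((Nat.card G / p ^ (Nat.card G).factorization p : ℕ) : ℂ))} : Set ℂ) := by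
  classical
  haveI := Cfsg.Agent.Blocks.isPrime_of_modular hM
  by_cases hreg : p ∣ orderOf g
  · rw [Cfsg.Agent.Blocks.blockCoeff_eq_zero_of_singular hM (Cfsg.Agent.Blocks.blockCoeff_mem_loc hB) hreg]
    exact zero_mem _
  set m := Nat.card G / p ^ (Nat.card G).factorization p
  set K := IntermediateField.adjoin ℚ
    ({Complex.exp (2 * Real.pi * Complex.I / (m : ℂ))} : Set ℂ)
  have hm : m ≠ 0 := (Nat.div_pos (Nat.le_of_dvd Nat.card_pos (Nat.ordProj_dvd _ p))
    (pow_pos (Fact.out : p.Prime).pos _)).ne'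
  haveI : NeZero m := ⟨hm⟩
  have hζ := Complex.isPrimitiveRoot_exp m hm
  have hroot : ∀ z : ℂ, z ^ m = 1 → z ∈ K := fun z hz => by
    obtain ⟨i, -, rfl⟩ := hζ.eq_pow_of_pow_eq_one hz
    exact pow_mem (IntermediateField.mem_adjoin_simple_self ℚ _) i
  have hord : orderOf g⁻¹ ∣ m := by
    rw [orderOf_inv]
    refine Nat.Coprime.dvd_of_dvd_mul_left
      (Nat.Coprime.pow_right ((Nat.card G).factorization p) ((Fact.out : p.Prime).coprime_iff_not_dvd.mpr hreg).symm) ?_
    rw [Nat.ordProj_mul_ordCompl_eq_self]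
    exact _root_.orderOf_dvd_natCard g
  rw [Cfsg.blockCoeff, Cfsg.Agent.Blocks.finsum_mem_irr]
  refine mul_mem (inv_mem (natCast_mem _ _)) (sum_mem fun χ _ => ?_)
  split_ifs
  · refine mul_mem ?_ ?_
    · rw [Cfsg.Agent.Blocks.charDegree_cast]
      exact natCast_mem _ _
    · rw [← Cfsg.Agent.CT.char_inv_eq_conj (Cfsg.Agent.CT.isCharacter_of_isIrr χ.2)]
      obtain ⟨n, ρ, hρ, he⟩ := χ.2
      rw [← he]
      obtain ⟨ω, hω, he⟩ := Cfsg.Agent.CT.exists_eigenvalues ρ g⁻¹
      have h1 := he 1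
      simp only [pow_one] at h1
      rw [h1]
      exact sum_mem fun i _ => hroot _ (orderOf_dvd_iff_pow_eq_one.mp
        ((orderOf_dvd_of_pow_eq_one (hω i)).trans hord))
  · exact zero_mem _

end Cfsg.Agent.S4664
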