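import Cfsg.Statements.S4665
import Cfsg.Agent.Lib.CT.Induced
import Cfsg.Agent.Lib.Blocks.PPart
import Cfsg.Agent.Lib.Blocks.CentralChar

set_option autoImplicit false
open Cfsg
open scoped ComplexConjugate

namespace Cfsg.Agent.S4665

/-- Fix a prime p, a maximal ideal M of the algebraic integers containing p, and a p-block B of the finite group G, and let p^a be the p-part of the order of G. Let χ be an integer combination of the irreducible characters in B. If the function that agrees with χ on p-regular elements and vanishes on p-singular elements is again an integer combination of the irreducible characters in B, then p^a divides χ(1). -/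
theorem result {G : Type*} [Group G] [Fintype G] (p : ℕ) [Fact p.Prime] (M : Ideal Cfsg.AlgInt) (hM : Cfsg.IsPModular p M) (B : Set (Cfsg.IrrCharacter G)) (hB : Cfsg.IsPBlock M B) (χ : G → ℂ) (hχ : (∃ n : Cfsg.IrrCharacter G → ℤ, ∀ g : G, χ g = ∑ᶠ ψ ∈ B, (n ψ : ℂ) * (ψ : G → ℂ) g)) (h0 : (∃ n : Cfsg.IrrCharacter G → ℤ, ∀ g : G, Cfsg.pRegularPart p χ g = ∑ᶠ ψ ∈ B, (n ψ : ℂ) * (ψ : G → ℂ) g)) : ∃ k : ℤ, χ 1 = (p ^ (Nat.card G).factorization p : ℂ) * k := by
  classical
  haveI := Fintype.ofFinite (IrrCharacter G)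
  obtain ⟨n, hn⟩ := h0
  have hgen : IsGeneralizedCharacter G (pRegularPart p χ) := by
    have e : pRegularPart p χ = ∑ ψ : IrrCharacter G,
        (((if ψ ∈ B then n ψ else 0 : ℤ) : ℂ) • (ψ : G → ℂ)) := by
      funext g
      rw [hn g, finsum_mem_eq_toFinset_sum, Finset.sum_apply]
      refine Eq.trans ?_ (Finset.sum_congr rfl fun ψ _ => ?_)
        (b := ∑ ψ : IrrCharacter G, if ψ ∈ B then (n ψ : ℂ) * (ψ : G → ℂ) g else 0)
      · rw [← Finset.sum_filter]
        refine Finset.sum_congr (Finset.ext fun ψ => by simp) fun _ _ => rfl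
      · split_ifs <;> simp
    rw [e]
    exact CT.isGen_sum _ fun ψ _ => CT.isGen_zsmul _ (CT.isGen_of_isIrr ψ.2)
  obtain ⟨S⟩ : Nonempty (Sylow p G) := inferInstance
  haveI := Fintype.ofFinite (S : Subgroup G)
  obtain ⟨k, hk⟩ := CT.isGen_inner_int (CT.isGen_restrict (S : Subgroup G) hgen)
    (CT.isGen_of_isIrr (CT.isIrrCharacter_lin (1 : (S : Subgroup G) →* ℂˣ)))
  refine ⟨k, ?_⟩
  have hone : pRegularPart p χ 1 = χ 1 := by
    simp only [pRegularPart]
    rw [if_pos]
    rw [IsPRegular, orderOf_one]; exact (Fact.out : p.Prime).not_dvd_one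
  have hoff : ∀ x : (S : Subgroup G), x ≠ 1 → pRegularPart p χ (x : G) = 0 := fun x hx => by
    simp only [pRegularPart]
    rw [if_neg]
    intro hreg
    obtain ⟨j, hj⟩ := S.2 x
    refine hx (orderOf_eq_one_iff.mp ?_)
    obtain ⟨i, -, hi⟩ := (Nat.dvd_prime_pow Fact.out).mp (orderOf_dvd_of_pow_eq_one hj)
    rcases i with _ | i
    · simpa using hi
    · exact absurd (by rw [Subgroup.orderOf_coe, hi]; exact dvd_pow_self p i.succ_ne_zero) hreg
  rw [classInner, Finset.sum_eq_single (1 : (S : Subgroup G))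
    (fun x _ hx => by rw [hoff x hx, zero_mul]) (by simp), OneMemClass.coe_one, hone,
    S.card_eq_multiplicity] at hk
  simp only [MonoidHom.one_apply, Units.val_one, map_one, mul_one] at hk
  have hne : ((p ^ (Nat.card G).factorization p : ℕ) : ℂ) ≠ 0 :=
    Nat.cast_ne_zero.mpr (pow_ne_zero _ (Fact.out : p.Prime).ne_zero)
  rw [inv_mul_eq_iff_eq_mul₀ hne] at hk
  rw [hk]
  push_cast
  ring

end Cfsg.Agent.S4665
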