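import Cfsg.Statements.S4666
import Cfsg.Agent.Lib.Blocks.BFMatrix

set_option autoImplicit false
open Cfsg

namespace Cfsg.Agent.S4666

/-- Fix a prime p and a maximal ideal M of the algebraic integers containing p, and a p-block B of the finite group G of defect d. For every integer combination χ of the irreducible characters in B, p^d times the function that agrees with χ on p-regular elements and vanishes elsewhere is again an integer combination of the irreducible characters in B. -/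
theorem result {G : Type*} [Group G] [Fintype G] (p : ℕ) [Fact p.Prime] (M : Ideal Cfsg.AlgInt) (hM : Cfsg.IsPModular p M) (B : Set (Cfsg.IrrCharacter G)) (hB : Cfsg.IsPBlock M B) (χ : G → ℂ) (hχ : (∃ n : Cfsg.IrrCharacter G → ℤ, ∀ g : G, χ g = ∑ᶠ ψ ∈ B, (n ψ : ℂ) * (ψ : G → ℂ) g)) : (∃ n : Cfsg.IrrCharacter G → ℤ, ∀ g : G, (p ^ Cfsg.blockDefect p B : ℂ) * Cfsg.pRegularPart p χ g = ∑ᶠ ψ ∈ B, (n ψ : ℂ) * (ψ : G → ℂ) g) := by
  classical
  haveI := Cfsg.Agent.Blocks.isPrime_of_modular hM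
  obtain ⟨n, hn⟩ := hχ
  have hX : ∀ φ ψ : Cfsg.IrrCharacter G, ∃ z : ℤ, φ ∈ B →
      (p : ℂ) ^ Cfsg.blockDefect p B * Cfsg.Agent.Blocks.bfPair p φ ψ = (z : ℂ) := fun φ ψ => by
    by_cases h : φ ∈ B
    · exact (Cfsg.Agent.Blocks.exists_int_bfPair hM h ψ).imp fun z hz _ => hz
    · exact ⟨0, fun h' => absurd h' h⟩
  choose X hX using hX
  refine ⟨fun ψ => ∑ φ, if φ ∈ B then n φ * X φ ψ else 0, fun g => ?_⟩
  have key : ∀ φ : Cfsg.IrrCharacter G, φ ∈ B →
      (p : ℂ) ^ Cfsg.blockDefect p B * Cfsg.Agent.Blocks.regFun p φ g =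
        ∑ ψ : Cfsg.IrrCharacter G, if ψ ∈ B then (X φ ψ : ℂ) * (ψ : G → ℂ) g else 0 := by
    intro φ hφ
    obtain ⟨he, hz⟩ := Cfsg.Agent.Blocks.pow_mul_regFun_eq (p := p) hM hB hφ (d := Cfsg.blockDefect p B)
    have := congrFun he g
    simp only [Pi.smul_apply, smul_eq_mul, Finset.sum_apply] at this
    rw [this]
    refine Finset.sum_congr rfl fun ψ _ => ?_
    split_ifs with hψ
    · rw [hX φ ψ hφ]
    · rw [hz ψ hψ, mul_zero, zero_mul]
  have hreg : Cfsg.pRegularPart p χ g =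
      ∑ φ : Cfsg.IrrCharacter G, if φ ∈ B then (n φ : ℂ) * Cfsg.Agent.Blocks.regFun p φ g else 0 := by
    simp only [Cfsg.pRegularPart, Cfsg.IsPRegular, Cfsg.Agent.Blocks.regFun, hn g,
      Cfsg.Agent.Blocks.finsum_mem_irr]
    by_cases hg : p ∣ orderOf g
    · simp [hg]
    · simp [hg]
  rw [hreg, Cfsg.Agent.Blocks.finsum_mem_irr, Finset.mul_sum]
  have : ∀ φ : Cfsg.IrrCharacter G, (p : ℂ) ^ Cfsg.blockDefect p B *
      (if φ ∈ B then (n φ : ℂ) * Cfsg.Agent.Blocks.regFun p φ g else 0) =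
      ∑ ψ : Cfsg.IrrCharacter G, if ψ ∈ B then
        ((if φ ∈ B then n φ * X φ ψ else 0 : ℤ) : ℂ) * (ψ : G → ℂ) g else 0 := by
    intro φ
    by_cases hφ : φ ∈ B
    · rw [if_pos hφ, mul_left_comm, key φ hφ, Finset.mul_sum]
      refine Finset.sum_congr rfl fun ψ _ => ?_
      split_ifs <;> push_cast <;> ring
    · simp [hφ]
  rw [Finset.sum_congr rfl fun φ _ => this φ, Finset.sum_comm]
  refine Finset.sum_congr rfl fun ψ _ => ?_
  split_ifs
  · rw [Int.cast_sum, Finset.sum_mul]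
  · simp

end Cfsg.Agent.S4666
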