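import Cfsg.Statements.S4668
import Cfsg.Agent.Lib.Blocks.NormalPSupport
import Cfsg.Agent.Lib.ClassK.AxB

set_option autoImplicit false
open Cfsg

namespace Cfsg.Agent.S4668

/-- Fix a prime p and a maximal ideal M of the algebraic integers containing p. Let Q₀ < Q₁ < ⋯ < Q_m be a strictly increasing chain of p-subgroups of the finite group G and N the intersection of their normalizers. Then every block idempotent of N is supported on C_G(Q_m): for every p-block E of N, the idempotent coefficient of E vanishes at every element of N outside C_G(Q_m). -/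
theorem result {G : Type*} [Group G] [Fintype G] (p : ℕ) [Fact p.Prime] (M : Ideal Cfsg.AlgInt) (hM : Cfsg.IsPModular p M) (m : ℕ) (Q : Fin (m + 1) → Subgroup G) (hQ : StrictMono Q) (hQp : ∀ i, IsPGroup p (Q i)) (N : Subgroup G) (hN : ∀ g : G, g ∈ N ↔ ∀ i, g ∈ Subgroup.normalizer (Q i : Set G)) (E : Set (Cfsg.IrrCharacter N)) (hE : Cfsg.IsPBlock M E) (n : N) (hn : (n : G) ∉ Subgroup.centralizer (Q (Fin.last m) : Set G)) : Cfsg.blockCoeff E n = 0 := by
  haveI := Blocks.isPrime_of_modular hM
  by_cases hreg : p ∣ orderOf n
  · exact Blocks.blockCoeff_block_eq_zero hM hE hreg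
  by_contra hne
  apply hn
  let R : Fin (m + 1) → Subgroup N := fun i => (Q i).subgroupOf N
  have hRnorm : ∀ i, (R i).Normal := fun i => ⟨fun a ha x => by
    simp only [R, Subgroup.mem_subgroupOf] at ha ⊢
    simpa using (Subgroup.mem_normalizer_iff.mp ((hN _).mp x.2 i) _).mp ha⟩
  have hcN : ∀ i, ∀ a ∈ Q i, a ∈ N → Commute (n : G) a := fun i a ha haN => by
    haveI := hRnorm i
    have hmem : n ∈ Subgroup.centralizer (R i : Set N) := by
      by_contra hnot
      exact hne (Blocks.blockCoeff_eq_zero_of_notMem hM (P := R i)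
        ((hQp i).comap_subtype (K := N)) hE hnot)
    have := Subgroup.mem_centralizer_iff.mp hmem ⟨a, haN⟩
      (by simpa [R, Subgroup.mem_subgroupOf] using ha)
    exact (congrArg Subtype.val this).symm
  have hord : (orderOf (n : G)).Coprime p := by
    rw [Subgroup.orderOf_coe]
    exact Nat.Coprime.symm ((Nat.Prime.coprime_iff_not_dvd Fact.out).mpr hreg)
  have key : ∀ i : Fin (m + 1), ∀ a ∈ Q i, Commute (n : G) a := by
    intro i
    induction i using Fin.induction with
    | zero =>
      intro a ha
      refine hcN 0 a ha ((hN a).mpr fun j => ?_)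
      exact Subgroup.le_normalizer (hQ.monotone (Fin.zero_le j) ha)
    | succ i ih =>
      have hlt : Q i.castSucc ≤ Q i.succ := hQ.monotone (Fin.castSucc_le_succ i)
      refine ClassK.axb_lemma (hQp i.castSucc) (hQp i.succ) (hlt.trans Subgroup.le_normalizer)
        ((hN _).mp n.2 i.succ) hord (fun u hu a _ => ?_) (fun a ha hau => ?_)
      · have h1 : (n : G) * u * (n : G)⁻¹ * u⁻¹ = 1 := by rw [(ih u hu).eq]; group
        rw [h1]
        exact Commute.one_left a
      · refine hcN i.succ a ha ((hN a).mpr fun j => ?_)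
        rcases le_or_gt i.succ j with hj | hj
        · exact Subgroup.le_normalizer (hQ.monotone hj ha)
        · refine Subgroup.centralizer_le_normalizer _ ?_
          rw [Subgroup.mem_centralizer_iff]
          exact fun u hu => hau u (hQ.monotone (Fin.le_castSucc_iff.mpr hj) hu)
  rw [Subgroup.mem_centralizer_iff]
  exact fun a ha => (key _ a ha).eq.symm

end Cfsg.Agent.S4668
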