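import Cfsg.Statements.S4669
import Cfsg.Agent.Lib.Blocks.BlockCount
import Cfsg.Agent.Lib.Blocks.CentralProduct

set_option autoImplicit false
open Cfsg

namespace Cfsg.Agent.S4669

/-- Fix a prime p and a maximal ideal M of the algebraic integers containing p. If the p-block B of the finite group G has a defect group P contained in the centre of G, then B has p-regular rank one (a single irreducible Brauer character). -/
theorem result {G : Type*} [Group G] [Fintype G] (p : ℕ) [Fact p.Prime] (M : Ideal Cfsg.AlgInt) (hM : Cfsg.IsPModular p M) (B : Set (Cfsg.IrrCharacter G)) (hB : Cfsg.IsPBlock M B) (P : Subgroup G) (hD : Cfsg.IsDefectGroup p M B P) (hPZ : P ≤ Subgroup.center G) : Cfsg.blockRank p B = 1 := by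
  classical
  haveI := Cfsg.Agent.Blocks.isPrime_of_modular hM
  obtain ⟨-, -, -, hPp, -⟩ := Cfsg.Agent.Blocks.defectGroup_spec hD
  have hPc : ∀ x ∈ P, ∀ g : G, g * x = x * g := fun x hx g =>
    Subgroup.mem_center_iff.mp (hPZ hx) g
  have hG : P ⊔ Subgroup.centralizer (P : Set G) = ⊤ :=
    eq_top_iff.mpr fun g _ => Subgroup.mem_sup_right fun x hx => (hPc x hx g).symm
  obtain ⟨-, -, hk⟩ := Cfsg.Agent.Blocks.central_product_block hM hPp hG hB hD
  have hcl : Nat.card (ConjClasses P) = Nat.card P := by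
    refine (Nat.card_congr (Equiv.ofBijective ConjClasses.mk
      ⟨fun a b h => ?_, ConjClasses.mk_surjective⟩)).symm
    obtain ⟨c, hc⟩ := isConj_iff.mp (ConjClasses.mk_eq_mk_iff_isConj.mp h)
    rw [← hc]
    exact Subtype.ext (by
      rw [Subgroup.coe_mul, Subgroup.coe_mul, Subgroup.coe_inv, hPc a a.2 c, mul_inv_cancel_right])
  choose π hπ using fun g : G => Cfsg.Agent.Blocks.exists_isPPart (p := p) g
  have hval : ∀ χ ∈ B, (Nat.card P : ℂ) * Cfsg.Agent.Blocks.bfPair p χ χ = 1 := by
    intro χ hχ
    have hzero : ∀ g : G, π g ∉ P → (χ : G → ℂ) g = 0 := fun g hg =>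
      Cfsg.Agent.Blocks.char_eq_zero_of_not_mem_defect hM (hπ g).1 fun D hD' hx => hg (by
        rw [← Cfsg.Agent.Blocks.block_eq_blockOf hB hχ] at hD'
        obtain ⟨x, hxD⟩ := Cfsg.Agent.Blocks.defect_le_of_defect hM hB hD' hD
        have h1 : x * π g * x⁻¹ ∈ P := hxD (Subgroup.mem_map_of_mem _ hx)
        have h2 : π g = x * π g * x⁻¹ := by
          have h3 := hPc _ h1 x⁻¹
          calc π g = x⁻¹ * (x * π g * x⁻¹) * x := by group
            _ = (x * π g * x⁻¹) * x⁻¹ * x := by rw [h3]
            _ = x * π g * x⁻¹ := by group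
        exact h2 ▸ h1)
    set F : G → ℂ := fun g => (χ : G → ℂ) g * (starRingEnd ℂ) ((χ : G → ℂ) g)
    have hfib : ∀ x : G, ∑ g ∈ Finset.univ.filter (fun g => π g = x), F g =
        if x ∈ P then ∑ g : G, (if p ∣ orderOf g then 0 else F g) else 0 := by
      intro x
      split_ifs with hx
      · obtain ⟨k, hk'⟩ := hPp ⟨x, hx⟩
        rw [show Finset.univ.filter (fun g => π g = x) =
            Finset.univ.filter (fun g : G => Cfsg.IsPPart p g x) by
          ext g
          simp only [Finset.mem_filter, Finset.mem_univ, true_and]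
          exact ⟨fun h => h ▸ (hπ g).1, fun h => Cfsg.Agent.Blocks.ppart_unique (hπ g).1 h⟩,
          Cfsg.Agent.Blocks.sum_section (Fact.out : p.Prime) ⟨k, congrArg Subtype.val hk'⟩,
          Finset.sum_ite, Finset.sum_const_zero, zero_add]
        refine Finset.sum_bij (fun v _ => (v : G)) (fun v hv => ?_) (fun v _ w _ h => Subtype.ext h)
          (fun g hg => ⟨⟨g, Subgroup.mem_centralizer_singleton_iff.mpr (hPc x hx g)⟩, ?_, rfl⟩)
          (fun v _ => ?_)
        · simpa [Subgroup.orderOf_coe] using hv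
        · simpa [Subgroup.orderOf_mk] using hg
        · simp only [F]
          rw [Complex.mul_conj, Complex.mul_conj, Complex.normSq_eq_norm_sq,
            Complex.normSq_eq_norm_sq, Cfsg.Agent.Blocks.norm_mul_central χ.2 (hPZ hx)]
      · exact Finset.sum_eq_zero fun g hg => by
          simp only [F, hzero g (by rw [(Finset.mem_filter.mp hg).2]; exact hx), zero_mul]
    have hone : (Nat.card G : ℂ)⁻¹ * ∑ g : G, F g = 1 := CT.irr_inner_self χ.2
    rw [← Finset.sum_fiberwise_of_maps_to (g := π) (t := Finset.univ) (fun g _ => Finset.mem_univ _),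
      Finset.sum_congr rfl fun x _ => hfib x, Finset.sum_ite, Finset.sum_const_zero, add_zero,
      Finset.sum_const, nsmul_eq_mul] at hone
    rw [show (Finset.univ.filter fun x : G => x ∈ P).card = Nat.card P by
      rw [Nat.card_eq_fintype_card, Fintype.card_subtype]] at hone
    have hb : Cfsg.Agent.Blocks.bfPair p χ χ =
        (Nat.card G : ℂ)⁻¹ * ∑ g : G, (if p ∣ orderOf g then 0 else F g) := by
      rw [Cfsg.Agent.Blocks.bfPair, Cfsg.classInner]
      congr 1
      refine Finset.sum_congr rfl fun g _ => ?_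
      simp only [Cfsg.Agent.Blocks.regFun]
      split_ifs <;> simp [F]
    rw [hb]
    linear_combination hone
  have hP0 : (Nat.card P : ℂ) ≠ 0 := Nat.cast_ne_zero.mpr Nat.card_pos.ne'
  have hsum := Cfsg.Agent.Blocks.sum_bfPair_self (p := p) hM hB
  rw [Finset.sum_congr rfl (g := fun χ : Cfsg.IrrCharacter G =>
      if χ ∈ B then (Nat.card P : ℂ)⁻¹ else 0) (fun χ _ => by
        by_cases h : χ ∈ B
        · rw [if_pos h, if_pos h, eq_inv_of_mul_eq_one_left ((mul_comm _ _).trans (hval χ h))]
        · rw [if_neg h, if_neg h]),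
    Finset.sum_ite, Finset.sum_const_zero, add_zero, Finset.sum_const, nsmul_eq_mul,
    show (Finset.univ.filter fun χ : Cfsg.IrrCharacter G => χ ∈ B).card = Nat.card B by
      rw [Nat.card_eq_fintype_card, Fintype.card_subtype], hk, hcl, mul_inv_cancel₀ hP0] at hsum
  exact_mod_cast hsum.symm

end Cfsg.Agent.S4669
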