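import Cfsg.Statements.S4675
import Cfsg.Agent.Lib.Blocks.BFMatrix

set_option autoImplicit false
open Cfsg

namespace Cfsg.Agent.S4675

/-- Fix a prime p and a maximal ideal M of the algebraic integers containing p. Let B be a p-block of the finite group G with defect group P and p-regular rank one (a single irreducible Brauer character). Then there are a function φ on G that is, on the p-regular elements, an integer combination of the members of B, and natural numbers d_χ (χ ∈ B), such that every χ ∈ B agrees with d_χ·φ on the p-regular elements and Σ_{χ ∈ B} d_χ² equals the order of P (the single Cartan invariant of B is the order of P). -/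
theorem result {G : Type*} [Group G] [Fintype G] (p : ℕ) [Fact p.Prime] (M : Ideal Cfsg.AlgInt) (hM : Cfsg.IsPModular p M) (B : Set (Cfsg.IrrCharacter G)) (hB : Cfsg.IsPBlock M B) (P : Subgroup G) (hP : Cfsg.IsDefectGroup p M B P) (hl : Cfsg.blockRank p B = 1) : ∃ φ : G → ℂ, ∃ d : Cfsg.IrrCharacter G → ℕ, (∃ n : Cfsg.IrrCharacter G → ℤ, ∀ x : G, Cfsg.IsPRegular p x → φ x = ∑ᶠ ψ ∈ B, (n ψ : ℂ) * (ψ : G → ℂ) x) ∧ (∀ χ ∈ B, ∀ x : G, Cfsg.IsPRegular p x → (χ : G → ℂ) x = (d χ : ℂ) * φ x) ∧ ∑ᶠ χ ∈ B, d χ ^ 2 = Nat.card P := by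
  classical
  haveI := Cfsg.Agent.Blocks.isPrime_of_modular hM
  obtain ⟨χ₀, hχ₀, h0⟩ := Cfsg.Agent.Blocks.exists_height_zero (p := p) hB
  set R : Cfsg.IrrCharacter G → G → ℂ := Cfsg.Agent.Blocks.regFun p with hR
  have hreg : ∀ (χ : Cfsg.IrrCharacter G) (x : G), Cfsg.IsPRegular p x → R χ x = (χ : G → ℂ) x :=
    fun χ x hx => if_neg hx
  have hRp : (fun χ : Cfsg.IrrCharacter G => Cfsg.pRegularPart p (χ : G → ℂ)) = R := by
    funext χ x
    simp only [hR, Cfsg.pRegularPart, Cfsg.IsPRegular, Cfsg.Agent.Blocks.regFun]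
    by_cases hx : p ∣ orderOf x <;> simp [hx]
  have h1 : Cfsg.IsPRegular p (1 : G) := by
    simp [Cfsg.IsPRegular, (Fact.out : p.Prime).ne_one]
  -- all regular parts are proportional
  have hprop : ∀ χ ∈ B, R χ = (((χ : G → ℂ) 1) / (χ₀ : G → ℂ) 1) • R χ₀ := by
    intro χ hχ
    rw [Cfsg.blockRank, hRp] at hl
    obtain ⟨w, -, hw⟩ := finrank_eq_one_iff'.mp hl
    obtain ⟨a, ha⟩ := hw ⟨R χ₀, Submodule.subset_span ⟨χ₀, hχ₀, rfl⟩⟩
    obtain ⟨b, hb⟩ := hw ⟨R χ, Submodule.subset_span ⟨χ, hχ, rfl⟩⟩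
    have ha' : a • (w : G → ℂ) = R χ₀ := congrArg Subtype.val ha
    have hb' : b • (w : G → ℂ) = R χ := congrArg Subtype.val hb
    have ha1 : a * (w : G → ℂ) 1 = (χ₀ : G → ℂ) 1 := by
      rw [← hreg χ₀ 1 h1, ← ha']; rfl
    have hb1 : b * (w : G → ℂ) 1 = (χ : G → ℂ) 1 := by rw [← hreg χ 1 h1, ← hb']; rfl
    have ha0 : a ≠ 0 := fun h => CT.irr_one_ne_zero χ₀.2 (by rw [← ha1, h, zero_mul])
    have hw0 : (w : G → ℂ) 1 ≠ 0 := fun h => CT.irr_one_ne_zero χ₀.2 (by rw [← ha1, h, mul_zero])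
    rw [← ha1, ← hb1, mul_div_mul_right _ _ hw0, ← ha', ← hb', smul_smul, div_mul_cancel₀ _ ha0]
  set dd := Cfsg.blockDefect p B with hdd
  choose X hX using fun ψ => Cfsg.Agent.Blocks.exists_int_bfPair hM hχ₀ ψ
  set c : Cfsg.IrrCharacter G → ℂ := fun χ => (χ : G → ℂ) 1 / (χ₀ : G → ℂ) 1 with hc
  have hXc : ∀ ψ ∈ B, (X ψ : ℂ) = c ψ * (X χ₀ : ℂ) := by
    intro ψ hψ
    rw [← hX ψ, ← hX χ₀, Cfsg.Agent.Blocks.bfPair_symm χ₀ ψ, Cfsg.Agent.Blocks.bfPair,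
      Cfsg.Agent.Blocks.bfPair, ← hR, hprop ψ hψ, CT.classInner_smul_left]
    ring
  have hXprod : ∀ χ ∈ B, ∀ ψ ∈ B, ∃ z : ℤ, X χ * X ψ = z * X χ₀ := by
    intro χ hχ ψ hψ
    obtain ⟨z, hz⟩ := Cfsg.Agent.Blocks.exists_int_bfPair hM hχ ψ
    refine ⟨z, ?_⟩
    have e : (z : ℂ) = c χ * (X ψ : ℂ) := by
      rw [← hz, ← hX ψ, Cfsg.Agent.Blocks.bfPair, Cfsg.Agent.Blocks.bfPair, ← hR, hprop χ hχ,
        CT.classInner_smul_left]
      ring
    have h2 : ((X χ * X ψ : ℤ) : ℂ) = ((z * X χ₀ : ℤ) : ℂ) := by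
      push_cast
      rw [e, hXc χ hχ]
      ring
    exact_mod_cast h2
  have hsq : ∑ ψ, X ψ ^ 2 = (p : ℤ) ^ dd * X χ₀ :=
    Cfsg.Agent.Blocks.sum_sq_bfInt χ₀ dd hX
  have hout : ∀ ψ, ψ ∉ B → X ψ = 0 := fun ψ hψ => by
    have := hX ψ
    rw [Cfsg.Agent.Blocks.bfPair_eq_zero hM
      (fun h => hψ ((Cfsg.Agent.Blocks.mem_block_iff hB hχ₀).mpr h)), mul_zero] at this
    exact_mod_cast this.symm
  obtain ⟨W, hW, hiff⟩ := Cfsg.Agent.Blocks.bfInt_valuation hM hχ₀ χ₀ (hX χ₀)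
  have hpX : ¬ (p : ℤ) ∣ X χ₀ := by
    rw [hW, h0, pow_zero, one_mul]
    exact fun h => (hiff hB hχ₀).mp h h0
  have hXpos : 0 < X χ₀ := by
    have h2 : 0 ≤ (p : ℤ) ^ dd * X χ₀ := hsq ▸ Finset.sum_nonneg fun ψ _ => sq_nonneg _
    rcases lt_trichotomy (X χ₀) 0 with h | h | h
    · exact absurd h2 (not_le.mpr (mul_neg_of_pos_of_neg
        (pow_pos (by exact_mod_cast (Fact.out : p.Prime).pos) _) h))
    · exact absurd (h ▸ dvd_zero _) hpX
    · exact h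
  -- the generator
  obtain ⟨D, hD⟩ := (inferInstance : (Ideal.span (Set.range X)).IsPrincipal).principal
  have hDdvd : ∀ ψ, ∃ v, X ψ = v * D := fun ψ => by
    obtain ⟨v, hv⟩ := Submodule.mem_span_singleton.mp (hD ▸ Ideal.subset_span ⟨ψ, rfl⟩ :
      X ψ ∈ Submodule.span ℤ {D})
    exact ⟨v, hv.symm⟩
  choose v hv using hDdvd
  obtain ⟨n, hn⟩ := Ideal.mem_span_range_iff_exists_fun.mp
    (hD ▸ Submodule.mem_span_singleton_self D : D ∈ Ideal.span (Set.range X))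
  have hD0 : D ≠ 0 := fun h => hpX (by rw [hv χ₀, h, mul_zero]; exact dvd_zero _)
  have hbez : ∑ ψ, n ψ * v ψ = 1 := by
    apply mul_right_cancel₀ hD0
    rw [Finset.sum_mul, one_mul]
    conv_rhs => rw [← hn]
    exact Finset.sum_congr rfl fun ψ _ => by rw [hv ψ]; ring
  have hout' : ∀ ψ, ψ ∉ B → v ψ = 0 := fun ψ hψ =>
    (mul_eq_zero.mp ((hv ψ).symm.trans (hout ψ hψ))).resolve_right hD0
  have hdiv : ∀ χ ψ, v χ₀ ∣ v χ * v ψ * D := by
    intro χ ψ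
    by_cases hχ : χ ∈ B
    · by_cases hψ : ψ ∈ B
      · obtain ⟨z, hz⟩ := hXprod χ hχ ψ hψ
        refine ⟨z, mul_right_cancel₀ hD0 ?_⟩
        rw [hv χ, hv ψ, hv χ₀] at hz
        linear_combination hz
      · simp [hout' ψ hψ]
    · simp [hout' χ hχ]
  have hv0D : v χ₀ ∣ D := by
    have : D = ∑ χ, ∑ ψ, n χ * n ψ * (v χ * v ψ * D) := by
      conv_lhs => rw [← one_mul D, ← one_mul (1 : ℤ)]
      nth_rewrite 1 [← hbez]
      nth_rewrite 1 [← hbez]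
      rw [Finset.sum_mul_sum, Finset.sum_mul]
      exact Finset.sum_congr rfl fun χ _ => by
        rw [Finset.sum_mul]; exact Finset.sum_congr rfl fun ψ _ => by ring
    rw [this]
    exact Finset.dvd_sum fun χ _ => Finset.dvd_sum fun ψ _ => Dvd.dvd.mul_left (hdiv χ ψ) _
  have hsq' : D * ∑ ψ, v ψ ^ 2 = (p : ℤ) ^ dd * v χ₀ := by
    apply mul_right_cancel₀ hD0
    have h := hsq
    rw [hv χ₀, Finset.sum_congr rfl fun ψ _ => (show X ψ ^ 2 = v ψ ^ 2 * (D * D) by rw [hv ψ]; ring),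
      ← Finset.sum_mul] at h
    linear_combination h
  have hDv : D ∣ v χ₀ := by
    have hcop : IsCoprime D ((p : ℤ) ^ dd) := by
      refine IsCoprime.pow_right ?_
      refine IsCoprime.symm ((Prime.coprime_iff_not_dvd (Nat.prime_iff_prime_int.mp Fact.out)).mpr ?_)
      exact fun h => hpX (hv χ₀ ▸ h.mul_left _)
    exact hcop.dvd_of_dvd_mul_left ⟨_, hsq'.symm⟩
  have habs : v χ₀ = D ∨ v χ₀ = -D :=
    Int.natAbs_eq_natAbs_iff.mp (Int.natAbs_eq_of_dvd_dvd hv0D hDv)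
  have hvD : v χ₀ = D := by
    rcases habs with h | h
    · exact h
    · rw [hv χ₀, h] at hXpos
      nlinarith
  have hsum : ∑ ψ, v ψ ^ 2 = (p : ℤ) ^ dd := by
    rw [hvD] at hsq'
    exact mul_left_cancel₀ hD0 (hsq'.trans (mul_comm _ _))
  set s : ℤ := if 0 < D then 1 else -1 with hs
  have hs1 : s * s = 1 := by simp [hs]; split_ifs <;> rfl
  set φ : G → ℂ := (((s * D : ℤ) : ℂ) / (X χ₀ : ℂ)) • R χ₀ with hφ
  have hX0c : (X χ₀ : ℂ) ≠ 0 := by exact_mod_cast hXpos.ne'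
  have hfit : ∀ χ ∈ B, R χ = ((s * v χ : ℤ) : ℂ) • φ := by
    intro χ hχ
    rw [hprop χ hχ, hφ, smul_smul]
    congr 1
    show c χ = _
    have e1 : ((s * v χ : ℤ) : ℂ) * ((s * D : ℤ) : ℂ) = (X χ : ℂ) := by
      rw [← Int.cast_mul, hv χ]
      congr 1
      linear_combination (v χ * D) * hs1
    rw [← mul_div_assoc, e1, hXc χ hχ, mul_div_assoc, div_self hX0c, mul_one]
  have hnn : ∀ χ, 0 ≤ s * v χ := by
    intro χ
    by_cases hχ : χ ∈ B
    · have h2 : (0 : ℤ) ≤ X χ := by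
        have e := hXc χ hχ
        simp only [hc, Cfsg.Agent.Blocks.charDegree_cast] at e
        rw [div_mul_eq_mul_div, eq_div_iff (Nat.cast_ne_zero.mpr
          (Cfsg.Agent.Blocks.charDegree_pos χ₀).ne')] at e
        have e' : X χ * (Cfsg.charDegree (χ₀ : G → ℂ) : ℤ) =
            (Cfsg.charDegree (χ : G → ℂ) : ℤ) * X χ₀ := by exact_mod_cast e
        have hp2 : (0 : ℤ) < (Cfsg.charDegree (χ₀ : G → ℂ) : ℤ) := by
          exact_mod_cast Cfsg.Agent.Blocks.charDegree_pos χ₀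
        nlinarith [mul_nonneg (Int.natCast_nonneg (Cfsg.charDegree (χ : G → ℂ))) hXpos.le]
      rw [hv χ] at h2
      simp only [hs]
      split_ifs with hpos
      · nlinarith
      · have : D < 0 := lt_of_le_of_ne (not_lt.mp hpos) hD0
        nlinarith
    · simp [hout' χ hχ]
  refine ⟨φ, fun χ => (s * v χ).toNat, ⟨fun ψ => s * n ψ, fun x hx => ?_⟩, fun χ hχ x hx => ?_, ?_⟩
  · rw [Cfsg.Agent.Blocks.finsum_mem_irr]
    have e : ∀ ψ : Cfsg.IrrCharacter G, (if ψ ∈ B then ((s * n ψ : ℤ) : ℂ) * (ψ : G → ℂ) x else 0) =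
        ((n ψ * v ψ : ℤ) : ℂ) * φ x := by
      intro ψ
      by_cases hψ : ψ ∈ B
      · rw [if_pos hψ, ← hreg ψ x hx, hfit ψ hψ, Pi.smul_apply, smul_eq_mul, ← mul_assoc]
        congr 1
        rw [← Int.cast_mul]
        congr 1
        linear_combination (n ψ * v ψ) * hs1
      · rw [if_neg hψ, hout' ψ hψ]; simp
    rw [Finset.sum_congr rfl fun ψ _ => e ψ, ← Finset.sum_mul, ← Int.cast_sum, hbez, Int.cast_one,
      one_mul]
  · rw [← hreg χ x hx, hfit χ hχ, Pi.smul_apply, smul_eq_mul, ← Int.cast_natCast,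
      Int.toNat_of_nonneg (hnn χ)]
  · rw [Cfsg.Agent.Blocks.card_defectGroup hM hB hP,
      finsum_mem_eq_finite_toFinset_sum _ (Set.toFinite B), ← hdd]
    zify
    rw [← hsum]
    refine Finset.sum_subset_zero_on_sdiff (Finset.subset_univ _) (fun χ hχ => ?_) fun χ _ => ?_
    · rw [hout' χ (by simpa using hχ)]; simp
    · rw [Int.toNat_of_nonneg (hnn χ)]
      linear_combination (v χ ^ 2) * hs1

end Cfsg.Agent.S4675
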