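import Cfsg.Statements.S4679
import Cfsg.Agent.Lib.BrauerPairs.Saturation

set_option autoImplicit false
open Cfsg

namespace Cfsg.Agent.S4679

/-- Fix a prime p and a maximal ideal M of the algebraic integers containing p, a p-block B of the finite group G with maximal Brauer pair (P, e), its fusion system F on P, a Brauer pair (Q, f) ≤ (P, e), and let T be the stabilizer of f in N_G(Q). Then Q is fully normalized in F if and only if N_P(Q) is a defect group of the block of T whose idempotent is that of f. -/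
theorem result {G : Type*} [Group G] [Fintype G] (p : ℕ) [Fact p.Prime] (M : Ideal Cfsg.AlgInt) (hM : Cfsg.IsPModular p M) (B : Set (Cfsg.IrrCharacter G)) (P : Subgroup G) (e : Set (Cfsg.IrrCharacter (Subgroup.centralizer (P : Set G)))) (hmax : Cfsg.IsMaximalBrauerPair p M B P e) (F : Cfsg.FusionSystem P) (hF : Cfsg.IsBlockFusionSystemOn p M B P e F) (Q : Subgroup G) (f : Set (Cfsg.IrrCharacter (Subgroup.centralizer (Q : Set G)))) (hQP : Q ≤ P) (hf : Cfsg.IsPBlock M f) (hle : Cfsg.SubpairLE p M Q f P e) (T : Subgroup G) (hT : ∀ y : G, y ∈ T ↔ y ∈ Subgroup.normalizer (Q : Set G) ∧ Cfsg.StabilizesBlock (Subgroup.centralizer (Q : Set G)) f y) : F.IsFullyNormalized Q ↔ ∃ F' : Set (Cfsg.IrrCharacter T), Cfsg.IsPBlock M F' ∧ (∀ t : T, Cfsg.blockCoeff F' t = Cfsg.subgroupBlockCoeff (Subgroup.centralizer (Q : Set G)) f (t : G)) ∧ Cfsg.IsDefectGroup p M F' ((P ⊓ Subgroup.normalizer (Q : Set G)).subgroupOf T) := by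
  haveI := Blocks.isPrime_of_modular hM
  obtain rfl : T = BPairs.stabSub M Q f := by
    ext y; rw [hT, BPairs.mem_stabSub hf]
  have hQp : IsBrauerPair p M Q f := BPairs.isBrauerPair_of_subpair hle hmax.1.1
  constructor
  · intro h
    obtain ⟨k, E, -, -, hE, hcoeff, hdef⟩ :=
      BPairs.localMax_of_fullyNormalized hM hmax hle fun g hg =>
        h.2 _ ((BPairs.isConj_iff_below hM hF hle _).mpr ⟨g, rfl, hg⟩)
    exact ⟨E, hE, hcoeff, hdef⟩
  · rintro ⟨F', hF', hcoeff', hdef'⟩
    refine ⟨hQP, fun Q' hQ' => ?_⟩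
    obtain ⟨g, rfl, hg⟩ := (BPairs.isConj_iff_below hM hF hle Q').mp hQ'
    obtain ⟨D, k, E, hD, hE, hcoeff, hdef⟩ :=
      BPairs.exists_local_max hM (BPairs.isLocal_stabSub hQp)
    have hEF : F' = E := by
      refine BPairs.bel_injective _ hF' hE (MonoidAlgebra.ext (Finsupp.ext fun u => ?_))
      by_cases hu : u ∈ BPairs.stabSub M Q f
      · rw [show u = ((⟨u, hu⟩ : BPairs.stabSub M Q f) : G) from rfl, BPairs.coeff_bel,
          BPairs.coeff_bel, BPairs.coeff_bBar (Blocks.blockCoeff_mem_loc hF'),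
          BPairs.coeff_bBar (Blocks.blockCoeff_mem_loc hE)]
        exact congrArg _ (Subtype.ext ((hcoeff' _).trans (hcoeff _).symm))
      · rw [BPairs.coeff_bel_of_notMem _ _ hu, BPairs.coeff_bel_of_notMem _ _ hu]
    subst hEF
    have hcard := Blocks.card_defect_eq hM hE hdef hdef'
    obtain ⟨k', -, hrel⟩ := BPairs.exists_normalizer_pair hM hmax.1.1 hle
    rw [Nat.card_congr (Subgroup.subgroupOfEquivOfLe hD.le).toEquiv,
      Nat.card_congr (Subgroup.subgroupOfEquivOfLe (BPairs.le_stabSub_of_rel hrel)).toEquiv] at hcard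
    exact (BPairs.card_normalizer_le hM hmax hle hD hg).trans (le_of_eq hcard)

end Cfsg.Agent.S4679
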