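import Cfsg.Statements.S4680
import Cfsg.Agent.Lib.BrauerPairs.Saturation

set_option autoImplicit false
open Cfsg

namespace Cfsg.Agent.S4680

/-- Fix a prime p and a maximal ideal M of the algebraic integers containing p, a p-block B of the finite group G with maximal Brauer pair (P, e), its fusion system F on P, and a Brauer pair (Q, f) ≤ (P, e). Then Q is centric in F if and only if Z(Q) is a defect group of f as a block of C_G(Q). -/
theorem result {G : Type*} [Group G] [Fintype G] (p : ℕ) [Fact p.Prime] (M : Ideal Cfsg.AlgInt) (hM : Cfsg.IsPModular p M) (B : Set (Cfsg.IrrCharacter G)) (P : Subgroup G) (e : Set (Cfsg.IrrCharacter (Subgroup.centralizer (P : Set G)))) (hmax : Cfsg.IsMaximalBrauerPair p M B P e) (F : Cfsg.FusionSystem P) (hF : Cfsg.IsBlockFusionSystemOn p M B P e F) (Q : Subgroup G) (f : Set (Cfsg.IrrCharacter (Subgroup.centralizer (Q : Set G)))) (hQP : Q ≤ P) (hf : Cfsg.IsPBlock M f) (hle : Cfsg.SubpairLE p M Q f P e) : F.IsCentric Q ↔ Cfsg.IsDefectGroup p M f ((Q ⊓ Subgroup.centralizer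 (Q : Set G)).subgroupOf (Subgroup.centralizer (Q : Set G))) := by
  haveI := Blocks.isPrime_of_modular hM
  have hZ : ∀ g : G, Nat.card (Q.map (MulAut.conj g).toMonoidHom ⊓ Subgroup.centralizer
      ((Q.map (MulAut.conj g).toMonoidHom : Subgroup G) : Set G) : Subgroup G) =
      Nat.card (Q ⊓ Subgroup.centralizer (Q : Set G) : Subgroup G) := fun g => by
    rw [← BPairs.map_conj_centralizer, ← BPairs.map_conj_inf, Blocks.card_map_conj]
  obtain ⟨Df, hDf⟩ := Blocks.exists_defectGroup (p := p) hf
  constructor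
  · intro h
    obtain ⟨g, hg, hge⟩ := BPairs.exists_centralizer_ge hM hmax hle hDf
    refine BPairs.isDefectGroup_of_centralizer hM hmax hle hDf (inf_le_inf_right _ hQP)
      (hge.trans ?_)
    rw [← hZ g]
    exact Subgroup.card_le_of_le
      (le_inf (h.2 _ ((BPairs.isConj_iff_below hM hF hle _).mpr ⟨g, rfl, hg⟩)) inf_le_right)
  · intro hD
    refine ⟨hQP, fun Q' hQ' => ?_⟩
    obtain ⟨g, rfl, hg⟩ := (BPairs.isConj_iff_below hM hF hle Q').mp hQ'
    have h1 := BPairs.card_centralizer_le hM hmax hle hD hg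
    rw [Nat.card_congr (Subgroup.subgroupOfEquivOfLe inf_le_right).toEquiv, ← hZ g] at h1
    have heq := Subgroup.eq_of_le_of_card_ge (inf_le_inf_right _ (BPairs.subpair_le hg)) h1
    exact (le_of_eq heq.symm).trans inf_le_left

end Cfsg.Agent.S4680
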