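import Cfsg.Statements.S4682
import Cfsg.Agent.Lib.BrauerPairs.Fusion

set_option autoImplicit false
open Cfsg

namespace Cfsg.Agent.S4682

/-- Fix a prime p and a maximal ideal M of the algebraic integers containing p, a p-block B of the finite group G with maximal Brauer pair (P, e), P abelian, and a Brauer pair (Q, f) ≤ (P, e). Let T_Q be the stabilizer of f in N_G(Q) and T_P the stabilizer of e in N_G(P). Then every element of T_Q is a product of an element of T_P and an element of C_G(Q); and the index of C_G(Q) in T_Q equals the index of T_P ∩ C_G(Q) in T_P ∩ N_G(Q). -/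
theorem result {G : Type*} [Group G] [Fintype G] (p : ℕ) [Fact p.Prime] (M : Ideal Cfsg.AlgInt) (hM : Cfsg.IsPModular p M) (B : Set (Cfsg.IrrCharacter G)) (P : Subgroup G) (e : Set (Cfsg.IrrCharacter (Subgroup.centralizer (P : Set G)))) (hmax : Cfsg.IsMaximalBrauerPair p M B P e) (hab : ∀ x ∈ P, ∀ y ∈ P, x * y = y * x) (Q : Subgroup G) (f : Set (Cfsg.IrrCharacter (Subgroup.centralizer (Q : Set G)))) (hQP : Q ≤ P) (hf : Cfsg.IsPBlock M f) (hle : Cfsg.SubpairLE p M Q f P e) (TQ : Subgroup G) (hTQ : ∀ y : G, y ∈ TQ ↔ y ∈ Subgroup.normalizer (Q : Set G) ∧ Cfsg.StabilizesBlock (Subgroup.centralizer (Q : Set G)) f y) (TP : Subgroup G) (hTP : ∀ y : G, y ∈ TP ↔ y ∈ Subgroup.normalizer (P : Set G) ∧ Cfsg.StabilizesBlock (Subgroup.centralizer (P : Set G)) e y) : (∀ x ∈ TQ, ∃ y ∈ TP, ∃ c ∈ Subgroup.centralizer (Q : Set G), x = y * c) ∧ ((Subgroup.centralizer (Q : Set G)).subgroupOf TQ).index = ((TP ⊓ Subgroup.centralizer (Q : Set G)).subgroupOf (TP ⊓ Subgroup.normalizer (Q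 : Set G))).index := by
  haveI := Blocks.isPrime_of_modular hM
  have hPQ : P ≤ Subgroup.centralizer (Q : Set G) := fun u hu =>
    Subgroup.mem_centralizer_iff.mpr fun q hq => hab q (hQP hq) u hu
  have hP : IsPBlock M e := hmax.1.1.2
  have hTQ' : TQ = BPairs.stabSub M Q f := by
    ext y; rw [hTQ, BPairs.mem_stabSub hf]
  have hTP' : TP = BPairs.stabSub M P e := by
    ext y; rw [hTP, BPairs.mem_stabSub hP]
  have hCT : Subgroup.centralizer (Q : Set G) ≤ TQ :=
    hTQ' ▸ (BPairs.isLocal_stabSub (BPairs.isBrauerPair_of_subpair hle hmax.1.1)).cle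
  have hmem : ∀ y ∈ TP, y ∈ Subgroup.normalizer (Q : Set G) → y ∈ TQ := by
    intro y hy hyN
    rw [hTP'] at hy
    rw [hTQ']
    have hQb : IsPBlock M (⟨Q, f⟩ : BrauerPairIdx G).2 := hf
    refine (BPairs.conjIdx_eq_self_iff hQb).mp (Sigma.ext ?_ ?_)
    · ext u
      show u ∈ Q.map (MulAut.conj y).toMonoidHom ↔ u ∈ Q
      rw [Blocks.mem_map_conj]
      exact (Subgroup.mem_normalizer_iff''.mp hyN u).symm
    · have hmapeq : Q.map (MulAut.conj y).toMonoidHom = Q := by
        ext u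
        rw [Blocks.mem_map_conj]
        exact (Subgroup.mem_normalizer_iff''.mp hyN u).symm
      have hsub : Relation.ReflTransGen (NormalSubpairRel p M)
          (BPairs.conjIdx y (⟨Q, f⟩ : BrauerPairIdx G)) ⟨P, e⟩ := by
        have := BPairs.subpair_conj hM hle y
        rwa [(BPairs.conjIdx_eq_self_iff (show IsPBlock M (⟨P, e⟩ : BrauerPairIdx G).2 from hP)).mpr
          hy] at this
      revert hsub
      show Relation.ReflTransGen (NormalSubpairRel p M)
        (⟨Q.map (MulAut.conj y).toMonoidHom, conjBlock Q y f⟩ : BrauerPairIdx G) ⟨P, e⟩ →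
        HEq (conjBlock Q y f) f
      generalize conjBlock Q y f = g
      revert g
      rw [hmapeq]
      intro g hg
      exact heq_of_eq (BPairs.eq_of_below hM hmax.1.1 _ Q rfl g f hg hle)
  have hfact : ∀ x ∈ TQ, ∃ y ∈ TP, ∃ c ∈ Subgroup.centralizer (Q : Set G), x = y * c := by
    intro x hx
    rw [hTP']
    exact BPairs.abelian_stab hM hmax hle hPQ (hTQ' ▸ hx)
  refine ⟨hfact, ?_⟩
  set TN := TP ⊓ Subgroup.normalizer (Q : Set G) with hTN
  have hC : (Subgroup.centralizer (Q : Set G)).relIndex TN =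
      (TP ⊓ Subgroup.centralizer (Q : Set G)).relIndex TN := by
    rw [← Subgroup.inf_relIndex_right (Subgroup.centralizer (Q : Set G)) TN]
    congr 1
    rw [hTN]
    apply le_antisymm
    · exact fun u hu => ⟨hu.2.1, hu.1⟩
    · exact fun u hu => ⟨hu.2, hu.1, Subgroup.centralizer_le_normalizer _ hu.2⟩
  show (Subgroup.centralizer (Q : Set G)).relIndex TQ = _
  change _ = (TP ⊓ Subgroup.centralizer (Q : Set G)).relIndex TN
  rw [← hC]
  haveI : ((Subgroup.centralizer (Q : Set G)).subgroupOf TQ).Normal :=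
    Subgroup.normal_subgroupOf_of_le_normalizer (fun y hy =>
      BPairs.normalizer_le_normalizer_centralizer Q ((hTQ y).mp hy).1)
  have hTNle : TN ≤ TQ := fun y hy => hmem y hy.1 hy.2
  rw [← Subgroup.relIndex_subgroupOf le_rfl, ← Subgroup.relIndex_subgroupOf hTNle]
  rw [← Subgroup.relIndex_sup_right (H := TN.subgroupOf TQ)
    (K := (Subgroup.centralizer (Q : Set G)).subgroupOf TQ)]
  congr 1
  rw [Subgroup.subgroupOf_self, eq_comm, eq_top_iff]
  rintro ⟨x, hx⟩ -
  obtain ⟨y, hy, c, hc, rfl⟩ := hfact x hx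
  have hyT : y ∈ Subgroup.normalizer (Q : Set G) := by
    have h1 := mul_mem ((hTQ _).mp hx).1
      (inv_mem (Subgroup.centralizer_le_normalizer _ hc : c ∈ Subgroup.normalizer (Q : Set G)))
    rwa [mul_inv_cancel_right] at h1
  exact Subgroup.mul_mem_sup (x := (⟨y, hmem y hy hyT⟩ : TQ)) (y := ⟨c, hCT hc⟩) ⟨hy, hyT⟩ hc

end Cfsg.Agent.S4682
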