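import Cfsg.Statements.S4683
import Cfsg.Agent.Lib.Blocks.BlockCount

set_option autoImplicit false
open Cfsg

namespace Cfsg.Agent.S4683

/-- Fix a prime p and a maximal ideal M of the algebraic integers containing p, a p-block B of the finite group G, a p-element u and a p-block e of C = C_G(u) such that (⟨u⟩, e) is a Brauer pair of B (a Brauer element of B). For χ ∈ B let χ_u be the e-part of the class function c ↦ χ(u c) on C and χ_u' the e-part of c ↦ χ(u⁻¹ c). Then the sum over χ ∈ B and over the p-regular elements s of C of χ_u(s)·χ_u'(s⁻¹) equals the order of C times the p-regular rank of e (the number of irreducible Brauer characters of e). -/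
theorem result {G : Type*} [Group G] [Fintype G] (p : ℕ) [Fact p.Prime] (M : Ideal Cfsg.AlgInt) (hM : Cfsg.IsPModular p M) (B : Set (Cfsg.IrrCharacter G)) (u : G) (hu : ∃ k : ℕ, orderOf u = p ^ k) (e : Set (Cfsg.IrrCharacter (Subgroup.centralizer (Subgroup.zpowers u : Set G)))) (hBe : Cfsg.IsBrauerPairOf p M B (Subgroup.zpowers u) e) : ∑ᶠ χ ∈ B, ∑ᶠ s : Subgroup.centralizer (Subgroup.zpowers u : Set G), Cfsg.pRegularPart p (Cfsg.blockPart e (fun c : Subgroup.centralizer (Subgroup.zpowers u : Set G) => (χ : G → ℂ) (u * c))) s * Cfsg.blockPart e (fun c : Subgroup.centralizer (Subgroup.zpowers u : Set G) => (χ : G → ℂ) (u⁻¹ * c)) s⁻¹ = (Nat.card (Subgroup.centralizer (Subgroup.zpowers u : Set G)) : ℂ) * (Cfsg.blockRank p e : ℂ) := by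
  classical
  haveI := Cfsg.Agent.Blocks.isPrime_of_modular hM
  letI := Fintype.ofFinite (Subgroup.centralizer (Subgroup.zpowers u : Set G))
  obtain ⟨k, hk⟩ := hu
  have hu' : ∃ k : ℕ, u ^ p ^ k = 1 := ⟨k, hk ▸ pow_orderOf_eq_one u⟩
  rw [← Cfsg.Agent.Blocks.sum_regular_blockPart hM hu' _
    (Cfsg.Agent.Blocks.centralizer_zpowers_eq u).symm
    (Cfsg.Agent.Blocks.isInducedBlock_of_brauerPair hM hBe)]
  refine finsum_mem_congr rfl fun χ _ => ?_
  rw [finsum_eq_sum_of_fintype]
  refine Finset.sum_congr rfl fun s _ => ?_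
  by_cases hs : p ∣ orderOf s
  · simp [Cfsg.pRegularPart, Cfsg.IsPRegular, hs]
  simp only [Cfsg.pRegularPart, Cfsg.IsPRegular, hs, not_false_eq_true, if_true, if_false]
  congr 1
  have hinv : ∀ t : Subgroup.centralizer (Subgroup.zpowers u : Set G),
      (χ : G → ℂ) (u⁻¹ * ((t⁻¹ : Subgroup.centralizer (Subgroup.zpowers u : Set G)) : G)) =
        (starRingEnd ℂ) ((χ : G → ℂ) (u * (t : G))) := fun t => by
    rw [← CT.char_inv_eq_conj (CT.isCharacter_of_isIrr χ.2), mul_inv_rev, Subgroup.coe_inv]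
    exact congrArg _ (Commute.inv_inv (show Commute u (t : G) from
      Subgroup.mem_centralizer_iff.mp t.2 u (Subgroup.mem_zpowers u))).eq
  simp only [Cfsg.blockPart, Cfsg.Agent.Blocks.finsum_mem_irr, map_sum]
  refine Finset.sum_congr rfl fun η _ => ?_
  split_ifs
  swap
  · rw [map_zero]
  rw [map_mul, CT.char_inv_eq_conj (CT.isCharacter_of_isIrr η.2)]
  congr 1
  rw [Cfsg.classInner, Cfsg.classInner, map_mul, map_inv₀, map_natCast, map_sum]
  congr 1
  refine Fintype.sum_equiv (Equiv.inv _) _ _ fun t => ?_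
  rw [Equiv.inv_apply, map_mul, Complex.conj_conj, CT.char_inv_eq_conj (CT.isCharacter_of_isIrr η.2),
    ← hinv t⁻¹, inv_inv]

end Cfsg.Agent.S4683
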