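import Cfsg.Statements.S4685
import Cfsg.Agent.Lib.Blocks.StarAction

set_option autoImplicit false
open Cfsg Cfsg.Agent.Blocks

namespace Cfsg.Agent.S4685

/-- Fix a prime p and a maximal ideal M of the algebraic integers containing p, a p-block B of the finite group G with maximal Brauer pair (P, e) and fusion system F on P. Then for every h the number of irreducible characters of height h in B is divisible by the index of Z(P) ∩ foc(F) in Z(P), where foc(F) is the focal subgroup of F. -/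
theorem result {G : Type*} [Group G] [Fintype G] (p : ℕ) [Fact p.Prime] (M : Ideal Cfsg.AlgInt) (hM : Cfsg.IsPModular p M) (B : Set (Cfsg.IrrCharacter G)) (P : Subgroup G) (e : Set (Cfsg.IrrCharacter (Subgroup.centralizer (P : Set G)))) (hmax : Cfsg.IsMaximalBrauerPair p M B P e) (F : Cfsg.FusionSystem P) (hF : Cfsg.IsBlockFusionSystemOn p M B P e F) (h : ℕ) : ((P ⊓ Subgroup.centralizer (P : Set G) ⊓ F.focalSubgroup).subgroupOf (P ⊓ Subgroup.centralizer (P : Set G))).index ∣ Nat.card {χ : Cfsg.IrrCharacter G // χ ∈ B ∧ Cfsg.blockHeight p B (χ : G → ℂ) = h} := by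
  haveI : M.IsPrime := isPrime_of_modular hM
  obtain ⟨K₀, hK₀⟩ : ∃ K₀, K₀ = F.focalSubgroup.subgroupOf P := ⟨_, rfl⟩
  obtain ⟨Z, hZ⟩ : ∃ Z, Z = (P ⊓ Subgroup.centralizer (P : Set G)).subgroupOf P := ⟨_, rfl⟩
  haveI : K₀.Normal := Subgroup.Normal.of_commutator_le P (hK₀ ▸ commutator_le_focal F)
  have hK0 : dualSub (Z ⊔ K₀) ≤ dualSub K₀ := dualSub_anti le_sup_right
  have hC : commutator P ≤ K₀ := hK₀ ▸ commutator_le_focal F
  have key : ((dualSub (Z ⊔ K₀)).subgroupOf (dualSub K₀)).index =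
      ((P ⊓ Subgroup.centralizer (P : Set G) ⊓ F.focalSubgroup).subgroupOf
        (P ⊓ Subgroup.centralizer (P : Set G))).index := by
    have h1 := Subgroup.index_mul_card ((dualSub (Z ⊔ K₀)).subgroupOf (dualSub K₀))
    rw [Nat.card_congr (Subgroup.subgroupOfEquivOfLe hK0).toEquiv,
      card_dualSub _ hC, card_dualSub _ (hC.trans le_sup_right),
      ← Subgroup.relIndex_mul_index (le_sup_right : K₀ ≤ Z ⊔ K₀)] at h1
    have h2 := Nat.eq_of_mul_eq_mul_right (Nat.pos_of_ne_zero Subgroup.index_ne_zero_of_finite) h1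
    rw [h2, Subgroup.relIndex_sup_right, hK₀, hZ, Subgroup.relIndex_subgroupOf inf_le_left]
    change _ = (P ⊓ Subgroup.centralizer (P : Set G) ⊓ F.focalSubgroup).relIndex
      (P ⊓ Subgroup.centralizer (P : Set G))
    rw [inf_comm _ F.focalSubgroup, Subgroup.inf_relIndex_right]
  rw [← key]
  subst hK₀
  refine index_dvd_card_height hM hF h _ fun f θ hθ _ hfix => ?_
  rw [Subgroup.mem_subgroupOf]
  intro x hx
  have h3 : Z ⊔ F.focalSubgroup.subgroupOf P ≤ (f : P →* ℂˣ).ker := by
    refine sup_le (fun u hu => ?_) fun u hu => f.2 u hu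
    rw [hZ, Subgroup.mem_subgroupOf] at hu
    exact eq_one_of_fixed_central hM hF f.2 hθ hfix u hu.2
  exact h3 hx

end Cfsg.Agent.S4685
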