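import Cfsg.Statements.S4686
import Cfsg.Agent.Lib.BrauerPairs.Fusion

set_option autoImplicit false
open Cfsg

namespace Cfsg.Agent.S4686

/-- Fix a prime p and a maximal ideal M of the algebraic integers containing p, a p-block B of the finite group G with maximal Brauer pair (P, e) and fusion system F on P. Then B is nilpotent (for every Brauer pair (Q, f) of B the stabilizer of f in N_G(Q) is C_G(Q) extended by a p-group) if and only if F is the inner fusion system of P: its maps from each subgroup of P are exactly the conjugations by elements of P. -/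
theorem result {G : Type*} [Group G] [Fintype G] (p : ℕ) [Fact p.Prime] (M : Ideal Cfsg.AlgInt) (hM : Cfsg.IsPModular p M) (B : Set (Cfsg.IrrCharacter G)) (P : Subgroup G) (e : Set (Cfsg.IrrCharacter (Subgroup.centralizer (P : Set G)))) (hmax : Cfsg.IsMaximalBrauerPair p M B P e) (F : Cfsg.FusionSystem P) (hF : Cfsg.IsBlockFusionSystemOn p M B P e F) : Cfsg.IsNilpotentBlock p M B ↔ ∀ Q : Subgroup G, F.Hom Q = (Cfsg.innerFusionSystem P).Hom Q := by
  haveI := Blocks.isPrime_of_modular hM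
  constructor
  · intro hnil Q
    ext φ
    rw [hF.2 Q φ]
    constructor
    · rintro ⟨hQ, g, hg, -, f, hf, hfg⟩
      obtain ⟨y, hy, hyg⟩ := BPairs.exists_mem_of_nilpotent hM hnil hmax hf hfg
      refine ⟨hQ, y, hy, fun u => ?_⟩
      have hc := Subgroup.mem_centralizer_iff.mp hyg u u.2
      rw [hg, show g * (u : G) * g⁻¹ = y * (y⁻¹ * g * (u : G)) * g⁻¹ by group, ← hc]
      group
    · rintro ⟨hQ, y, hy, hyu⟩
      obtain ⟨f, ⟨hfb, hf⟩, -⟩ := BPairs.existsUnique_below hM hmax.1.1 hQ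
      refine ⟨hQ, y, hyu, ?_, f, hf, BPairs.conj_below hM hmax.1.1.2 hf hy⟩
      rintro _ ⟨u, hu, rfl⟩
      exact P.mul_mem (P.mul_mem hy (hQ hu)) (P.inv_mem hy)
  · intro h
    refine BPairs.nilpotent_of_below hM hmax fun Q f hfb hf x hx hreg => ?_
    have hQP := BPairs.subpair_le hf
    have hQb : IsPBlock M (⟨Q, f⟩ : BrauerPairIdx G).2 := hfb
    have hfix := (BPairs.conjIdx_eq_self_iff hQb).mpr hx
    have hsub : SubpairLE p M (Q.map (MulAut.conj x).toMonoidHom) (conjBlock Q x f) P e := by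
      show Relation.ReflTransGen (NormalSubpairRel p M) (BPairs.conjIdx x ⟨Q, f⟩) ⟨P, e⟩
      rw [hfix]
      exact hf
    have hmem : conjHom Q x ∈ F.Hom Q :=
      (hF.2 Q _).mpr ⟨hQP, x, fun _ => rfl, BPairs.subpair_le hsub, f, hf, hsub⟩
    rw [h Q] at hmem
    obtain ⟨-, g, hg, hgu⟩ := hmem
    obtain ⟨k, hk⟩ := Blocks.exists_pow_eq_one_of_isPGroup hmax.1.1.1 hg
    refine BPairs.centralizes_of_eq_action Fact.out hreg hk
      (Subgroup.mem_normalizer_iff.mpr fun u => ?_) fun u hu => hgu ⟨u, hu⟩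
    have hgu' : ∀ v, v ∈ Q → x * v * x⁻¹ = g * v * g⁻¹ := fun v hv => hgu ⟨v, hv⟩
    constructor
    · intro hu
      rw [← hgu' u hu]
      exact (Subgroup.mem_normalizer_iff.mp hx.1 u).mp hu
    · intro hu
      have hv : x⁻¹ * (g * u * g⁻¹) * x ∈ Q :=
        (Subgroup.mem_normalizer_iff''.mp hx.1 _).mp hu
      have h1 := hgu' _ hv
      rw [show x * (x⁻¹ * (g * u * g⁻¹) * x) * x⁻¹ = g * u * g⁻¹ by group] at h1
      rw [mul_left_cancel (mul_right_cancel h1)]
      exact hv

end Cfsg.Agent.S4686
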