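import Cfsg.Statements.S4687
import Cfsg.Agent.Lib.BrauerPairs.Fusion

set_option autoImplicit false
open Cfsg

namespace Cfsg.Agent.S4687

/-- Fix a prime p and a maximal ideal M of the algebraic integers containing p, and a p-block B of the finite group G with maximal Brauer pair (P, e), P abelian. Then B is nilpotent if and only if its inertial quotient is trivial: every element of N_G(P) stabilizing e centralizes P. -/
theorem result {G : Type*} [Group G] [Fintype G] (p : ℕ) [Fact p.Prime] (M : Ideal Cfsg.AlgInt) (hM : Cfsg.IsPModular p M) (B : Set (Cfsg.IrrCharacter G)) (P : Subgroup G) (e : Set (Cfsg.IrrCharacter (Subgroup.centralizer (P : Set G)))) (hmax : Cfsg.IsMaximalBrauerPair p M B P e) (hab : ∀ x ∈ P, ∀ y ∈ P, x * y = y * x) : Cfsg.IsNilpotentBlock p M B ↔ ∀ x : G, x ∈ Subgroup.normalizer (P : Set G) → Cfsg.StabilizesBlock (Subgroup.centralizer (P : Set G)) e x → x ∈ Subgroup.centralizer (P : Set G) := by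
  haveI := Blocks.isPrime_of_modular hM
  have hP : IsPBlock M e := hmax.1.1.2
  have hPC : P ≤ Subgroup.centralizer (P : Set G) := fun u hu =>
    Subgroup.mem_centralizer_iff.mpr fun q hq => hab q hq u hu
  constructor
  · intro hnil x hx hst
    have := BPairs.stabilizer_le_of_nilpotent hM hnil hmax.1
      (BPairs.maximal_localMax hM hmax (BPairs.isLocal_stabSub hmax.1.1))
      ((BPairs.mem_stabSub hP).mpr ⟨hx, hst⟩)
    rwa [sup_eq_right.mpr hPC] at this
  · intro h
    refine BPairs.nilpotent_of_below hM hmax fun Q f hfb hle x hx _ => ?_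
    have hQP := BPairs.subpair_le hle
    obtain ⟨y, hy, c, hc, rfl⟩ := BPairs.abelian_stab hM hmax hle
      (hPC.trans (BPairs.centralizer_le_centralizer hQP)) hx
    refine mul_mem (BPairs.centralizer_le_centralizer hQP (h y hy.1 ?_)) hc
    exact ((BPairs.mem_stabSub hP).mp hy).2

end Cfsg.Agent.S4687
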