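import Cfsg.Statements.S4688
import Cfsg.Agent.Lib.BrauerPairs.Saturation

set_option autoImplicit false
open Cfsg

namespace Cfsg.Agent.S4688

/-- Fix a prime p and a maximal ideal M of the algebraic integers containing p, and a nilpotent p-block B of the finite group G with maximal Brauer pair (P, e). Then for every Brauer pair (Q, f) of B, f is a nilpotent block of C_G(Q); and if moreover (Q, f) ≤ (P, e), then C_P(Q) is a defect group of f as a block of C_G(Q). -/
theorem result {G : Type*} [Group G] [Fintype G] (p : ℕ) [Fact p.Prime] (M : Ideal Cfsg.AlgInt) (hM : Cfsg.IsPModular p M) (B : Set (Cfsg.IrrCharacter G)) (P : Subgroup G) (e : Set (Cfsg.IrrCharacter (Subgroup.centralizer (P : Set G)))) (hmax : Cfsg.IsMaximalBrauerPair p M B P e) (hnil : Cfsg.IsNilpotentBlock p M B) (Q : Subgroup G) (f : Set (Cfsg.IrrCharacter (Subgroup.centralizer (Q : Set G)))) (hQf : Cfsg.IsBrauerPairOf p M B Q f) : Cfsg.IsNilpotentBlock p M f ∧ (Cfsg.SubpairLE p M Q f P e → Cfsg.IsDefectGroup p M f ((P ⊓ Subgroup.centralizer (Q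 : Set G)).subgroupOf (Subgroup.centralizer (Q : Set G)))) := by
  haveI := Blocks.isPrime_of_modular hM
  have hf : IsPBlock M f := hQf.1.2
  refine ⟨⟨hf, fun R r hRr x hxN hst hreg => ?_⟩, fun hle => ?_⟩
  · set R'' := R.map (Subgroup.centralizer (Q : Set G)).subtype with hR''
    have hRC : R'' ≤ (Subgroup.centralizer (Q : Set G)) := Subgroup.map_subtype_le _
    set S := R'' ⊔ Q with hS
    have hiff : ∀ u : G, u ∈ Subgroup.centralizer (S : Set G) ↔
        ∃ hu : u ∈ (Subgroup.centralizer (Q : Set G)), (⟨u, hu⟩ : (Subgroup.centralizer (Q : Set G))) ∈ Subgroup.centralizer (R : Set (Subgroup.centralizer (Q : Set G))) := by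
      intro u
      rw [← Blocks.le_centralizer_singleton, hS, sup_le_iff, Blocks.le_centralizer_singleton,
        Blocks.le_centralizer_singleton]
      constructor
      · rintro ⟨h1, h2⟩
        exact ⟨h2, (BPairs.mem_centralizer_map_iff R ⟨u, h2⟩).mp h1⟩
      · rintro ⟨h2, h1⟩
        exact ⟨(BPairs.mem_centralizer_map_iff R ⟨u, h2⟩).mpr h1, h2⟩
    let ι : Subgroup.centralizer (R : Set (Subgroup.centralizer (Q : Set G))) ≃* Subgroup.centralizer (S : Set G) :=
      { toFun := fun u => ⟨((u : (Subgroup.centralizer (Q : Set G))) : G), (hiff _).mpr ⟨u.1.2, u.2⟩⟩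
        invFun := fun v => ⟨⟨(v : G), ((hiff _).mp v.2).1⟩, ((hiff _).mp v.2).2⟩
        left_inv := fun _ => rfl
        right_inv := fun _ => rfl
        map_mul' := fun _ _ => rfl }
    have hr : IsPBlock M r := hRr.1.2
    let h := BPairs.pullSet ι.symm r
    have hh : IsPBlock M h := BPairs.isPBlock_pullSet _ hr
    have hbel : Blocks.embH (Subgroup.centralizer (Q : Set G)) (BPairs.bel M (Subgroup.centralizer (R : Set (Subgroup.centralizer (Q : Set G)))) r) =
        BPairs.bel M (Subgroup.centralizer (S : Set G)) h := by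
      refine MonoidAlgebra.ext (Finsupp.ext fun u => ?_)
      by_cases hu : u ∈ Subgroup.centralizer (S : Set G)
      · obtain ⟨huC, huR⟩ := (hiff u).mp hu
        rw [Blocks.coeff_embH (Subgroup.centralizer (Q : Set G)) _ ⟨u, huC⟩]
        refine (BPairs.coeff_bel _ r ⟨⟨u, huC⟩, huR⟩).trans ?_
        refine Eq.trans ?_ (BPairs.coeff_bel _ h ⟨u, hu⟩).symm
        rw [BPairs.bBar_pullSet _ hr]
        rfl
      · rw [BPairs.coeff_bel_of_notMem _ _ hu]
        by_cases huC : u ∈ (Subgroup.centralizer (Q : Set G))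
        · rw [Blocks.coeff_embH (Subgroup.centralizer (Q : Set G)) _ ⟨u, huC⟩,
            BPairs.coeff_bel_of_notMem _ _ fun h' => hu ((hiff u).mpr ⟨huC, h'⟩)]
        · rw [Blocks.coeff_embH_of_notMem _ _ huC]
    have hkey : Blocks.embH _ (Blocks.resH (Subgroup.centralizer (S : Set G))
        (BPairs.bel M (Subgroup.centralizer (Q : Set G)) f)) = Blocks.embH (Subgroup.centralizer (Q : Set G)) (Blocks.embH _ (Blocks.resH
          (Subgroup.centralizer (R : Set (Subgroup.centralizer (Q : Set G))))
          (Blocks.bBar M f : MonoidAlgebra (Blocks.Res M) (Subgroup.centralizer (Q : Set G))))) := by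
      refine MonoidAlgebra.ext (Finsupp.ext fun u => ?_)
      by_cases hu : u ∈ Subgroup.centralizer (S : Set G)
      · obtain ⟨huC, huR⟩ := (hiff u).mp hu
        rw [Blocks.coeff_embH _ _ ⟨u, hu⟩, Blocks.coeff_resH, Blocks.coeff_embH (Subgroup.centralizer (Q : Set G)) _ ⟨u, huC⟩]
        refine (BPairs.coeff_bel (Subgroup.centralizer (Q : Set G)) f ⟨u, huC⟩).trans ?_
        exact ((Blocks.coeff_embH (Subgroup.centralizer (R : Set (Subgroup.centralizer (Q : Set G)))) _ ⟨⟨u, huC⟩, huR⟩).trans
          (Blocks.coeff_resH _ _ _)).symm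
      · rw [Blocks.coeff_embH_of_notMem _ _ hu]
        by_cases huC : u ∈ (Subgroup.centralizer (Q : Set G))
        · rw [Blocks.coeff_embH (Subgroup.centralizer (Q : Set G)) _ ⟨u, huC⟩,
            Blocks.coeff_embH_of_notMem _ _ fun h' => hu ((hiff u).mpr ⟨huC, h'⟩)]
        · rw [Blocks.coeff_embH_of_notMem _ _ huC]
    have hSp : IsPGroup p S := IsPGroup.to_sup_of_normal_right' (hRr.1.1.map _) hQf.1.1
      (hRC.trans (Subgroup.centralizer_le_normalizer _))
    have hSN : S ≤ Subgroup.normalizer (Q : Set G) :=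
      sup_le (hRC.trans (Subgroup.centralizer_le_normalizer _)) Subgroup.le_normalizer
    have hSloc : S ≤ BPairs.stabSub M Q f := sup_le
      (hRC.trans (BPairs.isLocal_stabSub hQf.1).cle) (BPairs.isLocal_stabSub hQf.1).le
    have hocc : BPairs.Occ M S h (BPairs.bel M (Subgroup.centralizer (Q : Set G)) f) := by
      obtain ⟨-, -, -, ho⟩ := BPairs.isBrauerPairOf_iff.mp hRr
      have hi := BPairs.inv2_center R (Blocks.bBar M f).2
      have hm := BPairs.mul_of_occ hM hRr.1.1 hr hi
        (by rw [← Subring.coe_mul, Blocks.bBar_mul_self (Blocks.blockCoeff_mem_loc hf)]) ho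
      refine BPairs.occ_of_mul hh
        (BPairs.inv2_bel le_sup_right (fun y hy => (hSloc hy).2)).2 ?_
      rw [hkey, ← hbel, ← map_mul, hm]
    have hrel : NormalSubpairRel p M (⟨Q, f⟩ : BrauerPairIdx G) ⟨S, h⟩ :=
      BPairs.isNormalSubpair_iff.mpr ⟨hQf.1, ⟨hSp, hh⟩, le_sup_right, hSN,
        fun y hy => (hSloc hy).2, hocc⟩
    have hpair : IsBrauerPairOf p M B S h :=
      (BPairs.pairOf_iff_of_subpair hM hQf.2.1 ⟨Q, f⟩ ⟨S, h⟩
        (Relation.ReflTransGen.single hrel)).mpr hQf
    have hxs : (x : G) ∈ BPairs.stabSub M S h := by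
      refine ⟨?_, ?_⟩
      · rw [Subgroup.mem_normalizer_iff]
        intro u
        have hmap : S.map (MulAut.conj (x : G)).toMonoidHom = S := by
          rw [hS, Subgroup.map_sup]
          congr 1
          · rw [hR'', ← BPairs.map_subtype_conj]
            congr 1
            ext v
            rw [Blocks.mem_map_conj]
            exact (Subgroup.mem_normalizer_iff''.mp hxN v).symm
          · ext v
            rw [Blocks.mem_map_conj]
            exact (Subgroup.mem_normalizer_iff''.mp
              (Subgroup.centralizer_le_normalizer _ x.2) v).symm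
        conv_rhs => rw [← hmap, Blocks.mem_map_conj]
        rw [show (x : G)⁻¹ * ((x : G) * u * (x : G)⁻¹) * (x : G) = u by group]
      · rw [← hbel, BPairs.conjA_embH,
          (BPairs.conjA_bel_iff_stabilizes x _ hr
            (BPairs.normalizer_le_normalizer_centralizer R hxN)).mp hst]
    have hcent := hnil.2 S h hpair (x : G) hxs.1 ((BPairs.mem_stabSub hh).mp hxs).2
      (by rwa [IsPRegular, Subgroup.orderOf_coe])
    exact ((hiff _).mp hcent).2
  · refine BPairs.centralizer_defect_of_fullyCentralized hM hmax hle fun g hg => le_of_eq ?_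
    obtain ⟨y, hy, hyg⟩ := BPairs.exists_mem_of_nilpotent hM hnil hmax hle hg
    have hQg : Q.map (MulAut.conj g).toMonoidHom = Q.map (MulAut.conj y).toMonoidHom := by
      rw [show g = y * (y⁻¹ * g) by group, ← Blocks.map_conj_map_conj]
      congr 1
      ext v
      rw [Blocks.mem_map_conj]
      exact (Subgroup.mem_normalizer_iff''.mp (Subgroup.centralizer_le_normalizer _ hyg) v).symm
    have hP : P.map (MulAut.conj y).toMonoidHom = P := by
      ext v
      rw [Blocks.mem_map_conj]
      exact (Subgroup.mem_normalizer_iff''.mp (Subgroup.le_normalizer hy) v).symm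
    rw [hQg, ← BPairs.map_conj_centralizer]
    conv_lhs => rw [← hP, ← BPairs.map_conj_inf]
    rw [Blocks.card_map_conj]

end Cfsg.Agent.S4688
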