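import Cfsg.Statements.S4690
import Cfsg.Agent.Lib.Blocks.NilMain
import Cfsg.Agent.Lib.Glauberman.Solvable

set_option autoImplicit false
open Cfsg Cfsg.Agent.Blocks

namespace Cfsg.Agent.S4690

/-- Fix a prime p and a maximal ideal M of the algebraic integers containing p, and a nilpotent p-block B of the finite group G with defect group P. Then there is a bijection from B onto the irreducible characters of P carrying the height of each χ ∈ B to the exponent of p in the degree of its image. -/
theorem result {G : Type*} [Group G] [Fintype G] (p : ℕ) [Fact p.Prime] (M : Ideal Cfsg.AlgInt) (hM : Cfsg.IsPModular p M) (B : Set (Cfsg.IrrCharacter G)) (hnil : Cfsg.IsNilpotentBlock p M B) (P : Subgroup G) (hP : Cfsg.IsDefectGroup p M B P) : ∃ Φ : B ≃ Cfsg.IrrCharacter P, ∀ χ : B, Cfsg.blockHeight p B ((χ : Cfsg.IrrCharacter G) : G → ℂ) = (Cfsg.charDegree ((Φ χ : Cfsg.IrrCharacter P) : P → ℂ)).factorization p := by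
  haveI : M.IsPrime := isPrime_of_modular hM
  obtain ⟨P', e, hmax⟩ := exists_maximal_of_block hM hnil.1
  obtain ⟨χ₀, -, -, Φ, -, hh⟩ := exists_nilpotent_equiv hM hnil hmax
  obtain ⟨x, hx⟩ := defect_conj hM hnil.1 (BPairs.isDefectGroup_of_maximal hM hmax) hP
  let E : P' ≃* P := (Subgroup.equivMapOfInjective P' _ (MulAut.conj x).injective).trans
    (MulEquiv.subgroupCongr hx)
  refine ⟨Φ.symm.trans (Glauberman.compIrrEquiv E.symm), fun χ => ?_⟩
  have h := hh (Φ.symm χ)
  rw [Equiv.apply_symm_apply] at h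
  rw [h]
  congr 2
  show charDegree ((Φ.symm χ : IrrCharacter P') : P' → ℂ) =
    charDegree ((Glauberman.compIrr E.symm (Φ.symm χ) : IrrCharacter P) : P → ℂ)
  have h1 := charDegree_cast (Φ.symm χ)
  have h2 := charDegree_cast (Glauberman.compIrr E.symm (Φ.symm χ))
  have e : ((Φ.symm χ : IrrCharacter P') : P' → ℂ) 1 =
      ((Glauberman.compIrr E.symm (Φ.symm χ) : IrrCharacter P) : P → ℂ) 1 := by
    show _ = ((Φ.symm χ : IrrCharacter P') : P' → ℂ) (E.symm 1)
    rw [map_one]
  exact_mod_cast h1.symm.trans (e.trans h2)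

end Cfsg.Agent.S4690
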