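import Cfsg.Statements.S4693
import Cfsg.Agent.Lib.BrauerPairs.Saturation
import Cfsg.Agent.Lib.Blocks.NormalPSupport
import Cfsg.Agent.Lib.Blocks.Covering

set_option autoImplicit false
open Cfsg
open Cfsg.Agent

namespace Cfsg.Agent.S4693

/-- Fix a prime p and a maximal ideal M of the algebraic integers containing p, a p-block B of the finite group G with maximal Brauer pair (P, e) and fusion system F on P, and a Brauer pair (Q, f) ≤ (P, e) with Q centric in F. Suppose every element of G normalizes Q and stabilizes f. Then the idempotent of B agrees with that of f modulo M at every element of G, and f is the idempotent of a nilpotent block of Q·C_G(Q): some p-block of Q·C_G(Q) has the idempotent coefficients of f and is nilpotent. -/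
theorem result {G : Type*} [Group G] [Fintype G] (p : ℕ) [Fact p.Prime] (M : Ideal Cfsg.AlgInt) (hM : Cfsg.IsPModular p M) (B : Set (Cfsg.IrrCharacter G)) (P : Subgroup G) (e : Set (Cfsg.IrrCharacter (Subgroup.centralizer (P : Set G)))) (hmax : Cfsg.IsMaximalBrauerPair p M B P e) (F : Cfsg.FusionSystem P) (hF : Cfsg.IsBlockFusionSystemOn p M B P e F) (Q : Subgroup G) (f : Set (Cfsg.IrrCharacter (Subgroup.centralizer (Q : Set G)))) (hQP : Q ≤ P) (hf : Cfsg.IsPBlock M f) (hle : Cfsg.SubpairLE p M Q f P e) (hcen : F.IsCentric Q) (hG : ∀ x : G, x ∈ Subgroup.normalizer (Q : Set G) ∧ Cfsg.StabilizesBlock (Subgroup.centralizer (Q : Set G)) f x) : (∀ g : G, Cfsg.MemLocalIdeal M (Cfsg.blockCoeff B g - Cfsg.subgroupBlockCoeff (Subgroup.centralizer (Q : Set G)) f g)) ∧ ∃ F' : Set (Cfsg.IrrCharacter ↥(Q ⊔ Subgroup.centralizer (Q : Set G))), Cfsg.IsPBlock M F' ∧ (∀ t : ↥(Q ⊔ Subgroup.centralizer (Q : Set G)), Cfsg.blockCoeff F' t = Cfsg.subgroupBlockCoeff (Subgroup.centralizer (Q : Set G)) f (t : G)) ∧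 Cfsg.IsNilpotentBlock p M F' := by
  classical
  haveI := Cfsg.Agent.Blocks.isPrime_of_modular hM
  haveI := Cfsg.Agent.Blocks.charP_res hM
  obtain ⟨hQp, -, hB, hocc⟩ := BPairs.isBrauerPairOf_iff.mp
    ((BPairs.pairOf_iff_of_subpair hM hmax.1.2.1 ⟨Q, f⟩ ⟨P, e⟩ hle).mp hmax.1)
  haveI hQn : Q.Normal := ⟨fun n hn g => (Subgroup.mem_normalizer_iff.mp (hG g).1 n).mp hn⟩
  have hinv : ∀ x : G, BPairs.conjA x (BPairs.bel M (Subgroup.centralizer (Q : Set G)) f) =
      BPairs.bel M (Subgroup.centralizer (Q : Set G)) f := fun x =>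
    (BPairs.conjA_bel_iff_stabilizes x _ hf
      (BPairs.normalizer_le_normalizer_centralizer Q (hG x).1)).mp (hG x).2
  refine ⟨fun g => ?_, ?_⟩
  · -- the idempotent of `B` is that of `f`
    have hcen : BPairs.bel M (Subgroup.centralizer (Q : Set G)) f ∈
        Subring.center (MonoidAlgebra (Blocks.Res M) G) := by
      rw [Blocks.mem_center_iff_isClassFn]
      intro u x
      have := (BPairs.conjA_eq_self_iff x⁻¹ _).mp (hinv x⁻¹) u
      simpa using this
    set z : Blocks.ZG (Blocks.Res M) G := ⟨_, hcen⟩ with hz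
    have hzz : z * z = z := Subtype.ext (BPairs.bel_mul_self _ hf)
    have hA := Blocks.blockCoeff_mem_loc (M := M) hB
    have hBB : (Blocks.bBar M B : MonoidAlgebra (Blocks.Res M) G) *
        (Blocks.bBar M B : MonoidAlgebra (Blocks.Res M) G) =
        (Blocks.bBar M B : MonoidAlgebra (Blocks.Res M) G) := by
      rw [← Subring.coe_mul, Blocks.bBar_mul_self hA]
    have hzB : Blocks.bBar M B * z = z := by
      refine Subtype.ext ?_
      have h := BPairs.mul_of_occ hM hQp hf (BPairs.inv2_center Q (Blocks.bBar M B).2) hBB hocc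
      rw [Blocks.embH_resH fun u hu =>
        Blocks.coeff_bBar_eq_zero_of_notMem hQp hB hu] at h
      exact h
    have hzero : ∀ χ : Cfsg.IrrCharacter G, χ ∉ B → Blocks.omegaBar M χ z = 0 := fun χ hχ => by
      rw [← hzB, map_mul, Blocks.omegaBar_bBar hA, if_neg hχ, zero_mul]
    obtain ⟨χ₀, hχ₀B, hχ₀⟩ : ∃ χ₀ ∈ B, Blocks.omegaBar M χ₀ z = 1 := by
      by_contra hno
      push Not at hno
      refine BPairs.bel_ne_zero (Subgroup.centralizer (Q : Set G)) hf ?_
      have : z = 0 := Blocks.eq_zero_of_omegaBar hM z hzz fun χ => by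
        by_cases hχ : χ ∈ B
        · have h2 : Blocks.omegaBar M χ z * Blocks.omegaBar M χ z = Blocks.omegaBar M χ z := by
            rw [← map_mul, hzz]
          rcases eq_zero_or_one_of_sq_eq_self (show Blocks.omegaBar M χ z ^ 2 = _ by
            rw [sq]; exact h2) with h0 | h0
          · exact h0
          · exact absurd h0 (hno χ hχ)
        · exact hzero χ hχ
      exact congrArg Subtype.val this
    have heq : z = Blocks.bBar M B := by
      refine Blocks.idem_ext hM hzz (Blocks.bBar_mul_self hA) fun χ => ?_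
      rw [Blocks.omegaBar_bBar hA]
      split_ifs with hχ
      · rw [Blocks.omegaBar_eq_of_sameBlock ((Blocks.mem_block_iff hB hχ).mp hχ₀B), hχ₀]
      · exact hzero χ hχ
    have h := congrArg (fun w : Blocks.ZG (Blocks.Res M) G =>
      (w : MonoidAlgebra (Blocks.Res M) G).coeff g) heq
    simp only [hz] at h
    rw [BPairs.coeff_bel_eq hf, BPairs.coeff_bBar hA, Blocks.red_eq_iff] at h
    have := Blocks.memLocalIdeal_neg h
    rwa [neg_sub] at this
  · haveI : (Subgroup.centralizer (Q : Set G)).Normal := inferInstance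
    have hL : BPairs.IsLocal p M Q f (Q ⊔ Subgroup.centralizer (Q : Set G)) :=
      { pair := ⟨hQp, hf⟩
        le := le_sup_left
        cle := le_sup_right
        leN := fun x _ => (hG x).1
        stab := fun x _ => hinv x }
    obtain ⟨D, k, E, hD, hE, hcoeff, hdef⟩ := BPairs.exists_local_max hM hL
    refine ⟨E, hE, hcoeff, hE, fun R r hRr x hxN _ hreg => ?_⟩
    -- the defect group is `Q`
    have hDQ : D ≤ Q := by
      intro y hy
      obtain ⟨q, hq, c, hc, rfl⟩ := Subgroup.mem_sup_of_normal_right.mp (hD.le hy)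
      have hQD : Q ≤ D := (BPairs.isNormalSubpair_iff.mp hD.rel).2.2.1
      have hcD : c ∈ D := by simpa using D.mul_mem (D.inv_mem (hQD hq)) hy
      obtain ⟨g, -, hgD⟩ := BPairs.exists_conj_local hM hmax hle hD
      have h1 := (hgD (Subgroup.mem_map_of_mem _ hcD)).1
      have h2 : (MulAut.conj g).toMonoidHom c ∈ (Subgroup.centralizer (Q : Set G)) :=
        (inferInstance : (Subgroup.centralizer (Q : Set G)).Normal).conj_mem c hc g
      have hconj : F.IsConj Q Q := by
        refine ⟨Q.subtype, (hF.2 Q _).mpr ⟨hQP, 1, fun u => by simp, ?_, f, hle, ?_⟩, Q.range_subtype⟩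
        · rw [Blocks.map_conj_one]; exact hQP
        · have := BPairs.conjIdx_one (show Cfsg.IsPBlock M (⟨Q, f⟩ : Cfsg.BrauerPairIdx G).2 from hf)
          show Relation.ReflTransGen (Cfsg.NormalSubpairRel p M)
            (BPairs.conjIdx 1 (⟨Q, f⟩ : Cfsg.BrauerPairIdx G)) ⟨P, e⟩
          rw [this]
          exact hle
      have h3 := hcen.2 Q hconj ⟨h1, h2⟩
      have h4 : c ∈ Q := by
        have := hQn.conj_mem _ h3 g⁻¹
        simpa [mul_assoc] using this
      exact Q.mul_mem hq h4
    obtain ⟨b, hb, hbmax⟩ := BPairs.exists_maximal hM hRr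
    obtain ⟨t, ht⟩ := Blocks.defect_conj hM hE hdef (BPairs.isDefectGroup_of_maximal hM hbmax)
    have hRQ : ∀ w ∈ R, (w : G) ∈ Q := fun w hw => by
      have := BPairs.subpair_le hb hw
      rw [← ht] at this
      obtain ⟨d, hd, rfl⟩ := Subgroup.mem_map.mp this
      exact hQn.conj_mem _ (hDQ (Subgroup.mem_subgroupOf.mp hd)) (t : G)
    haveI : ((Subgroup.centralizer (Q : Set G)).subgroupOf (Q ⊔ Subgroup.centralizer (Q : Set G))).Normal :=
      Subgroup.Normal.subgroupOf inferInstance _
    have hidx : ∃ j : ℕ, ((Subgroup.centralizer (Q : Set G)).subgroupOf (Q ⊔ Subgroup.centralizer (Q : Set G))).index = p ^ j := by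
      obtain ⟨n, hn⟩ := IsPGroup.iff_card.mp hQp
      have h1 : (Subgroup.centralizer (Q : Set G)).relIndex (Q ⊔ (Subgroup.centralizer (Q : Set G))) ∣ p ^ n := by
        rw [Subgroup.relIndex_sup_right, ← hn]
        exact Subgroup.index_dvd_card _
      obtain ⟨j, -, hj⟩ := (Nat.dvd_prime_pow Fact.out).mp h1
      exact ⟨j, hj⟩
    have hxC : (x : G) ∈ (Subgroup.centralizer (Q : Set G)) := Subgroup.mem_subgroupOf.mp (Blocks.mem_of_pow_index hidx hreg)
    exact Subgroup.mem_centralizer_iff.mpr fun w hw =>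
      Subtype.ext (Subgroup.mem_centralizer_iff.mp hxC (w : G) (hRQ w hw))

end Cfsg.Agent.S4693
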