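import Cfsg.Statements.S4697
import Cfsg.Agent.Lib.Blocks.RankFormsMain

set_option autoImplicit false
open Cfsg

namespace Cfsg.Agent.S4697

/-- Let p be a prime, M a maximal ideal of the algebraic integers containing p, and B a p-block of the finite group G with an abelian defect group D of order p^d. If D has rank 2 (its least number of generators is 2) then B contains at most p^d irreducible characters; if D has rank 3 then the number k of irreducible characters in B satisfies k^3 ≤ p^(5d). -/
theorem result {G : Type*} [Group G] [Finite G] (p : ℕ) [Fact p.Prime] (M : Ideal Cfsg.AlgInt) (hM : Cfsg.IsPModular p M) (B : Set (Cfsg.IrrCharacter G)) (hB : Cfsg.IsPBlock M B) (D : Subgroup G) (hBD : Cfsg.IsDefectGroup p M B D) (hab : IsMulCommutative D) (d : ℕ) (hDd : Nat.card D = p ^ d) : (Group.rank D = 2 → Nat.card B ≤ p ^ d) ∧ (Group.rank D = 3 → Nat.card B ^ 3 ≤ p ^ (5 * d)) := by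
  classical
  letI := Fintype.ofFinite G
  haveI : M.IsPrime := hM.2.1.isPrime
  have hd : Cfsg.blockDefect p B = d :=
    Nat.pow_right_injective hM.1.two_le ((Cfsg.Agent.Blocks.card_defectGroup hM hB hBD).symm.trans hDd)
  have hcomm : ∀ v ∈ D, ∀ w ∈ D, v * w = w * v := fun v hv w hw =>
    congrArg Subtype.val (hab.is_comm.comm (⟨v, hv⟩ : D) ⟨w, hw⟩)
  have hgen : ∀ s : Set D, Subgroup.closure s = ⊤ → D = Subgroup.closure (D.subtype '' s) := by
    intro s hs
    rw [← MonoidHom.map_closure, hs, ← MonoidHom.range_eq_map, Subgroup.range_subtype]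
  obtain ⟨S, hS, hSc⟩ := Group.rank_spec D
  refine ⟨fun h2 => ?_, fun h3 => ?_⟩
  · obtain ⟨a, c, -, rfl⟩ := Finset.card_eq_two.mp (hS.trans h2)
    rw [← hd]
    refine Cfsg.Agent.Blocks.Forms.card_le_of_two_gen hM hB hBD hcomm (a₀ := (a : G)) (c₀ := (c : G))
      ((hgen _ hSc).trans ?_)
    simp [Set.image_pair]
  · obtain ⟨a, b, c, -, -, -, rfl⟩ := Finset.card_eq_three.mp (hS.trans h3)
    have hD3 : D = Subgroup.closure {(a : G), (b : G), (c : G)} := by
      refine (hgen _ hSc).trans ?_
      simp [Set.image_insert_eq]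
    rw [← hd]
    rcases le_total (orderOf (b : G)) (orderOf (a : G)) with hba | hab'
    · rcases le_total (orderOf (c : G)) (orderOf (a : G)) with hca | hac
      · exact Cfsg.Agent.Blocks.Forms.cube_le_of_three_gen hM hB hBD hcomm hD3 hba hca
      · exact Cfsg.Agent.Blocks.Forms.cube_le_of_three_gen hM hB hBD hcomm (a₀ := (c : G))
          (b₀ := (a : G)) (c₀ := (b : G))
          (hD3.trans (congrArg Subgroup.closure (by aesop))) hac (hba.trans hac)
    · rcases le_total (orderOf (c : G)) (orderOf (b : G)) with hcb | hbc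
      · exact Cfsg.Agent.Blocks.Forms.cube_le_of_three_gen hM hB hBD hcomm (a₀ := (b : G))
          (b₀ := (a : G)) (c₀ := (c : G))
          (hD3.trans (congrArg Subgroup.closure (by aesop))) hab' hcb
      · exact Cfsg.Agent.Blocks.Forms.cube_le_of_three_gen hM hB hBD hcomm (a₀ := (c : G))
          (b₀ := (a : G)) (c₀ := (b : G))
          (hD3.trans (congrArg Subgroup.closure (by aesop))) (hab'.trans hbc) hbc

end Cfsg.Agent.S4697
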