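import Cfsg.Statements.S4706
import Cfsg.Agent.S4702
import Cfsg.Agent.S0676
import Cfsg.Agent.Lib.Basics.Tools
import Cfsg.Agent.Lib.PermGp.PrimeTwoP

set_option autoImplicit false
open Cfsg

namespace Cfsg.Agent.S4706

open MulAction PermGp in
/-- A solvable transitive group of prime degree has a normal Sylow subgroup. -/
theorem normal_of_solvable {α : Type*} [Fintype α] [DecidableEq α] {p : ℕ} [Fact p.Prime]
    (hα : Fintype.card α = p) (G : Subgroup (Equiv.Perm α)) [IsPretransitive G α]
    (hs : Group.IsSolvable G) (P : Sylow p G) : (P : Subgroup G).Normal := by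
  classical
  haveI : IsPreprimitive G α := IsPreprimitive.of_prime_card
    (by rw [Nat.card_eq_fintype_card, hα]; exact Fact.out)
  haveI : Nontrivial G := by
    rw [← Finite.one_lt_card_iff_nontrivial]
    exact lt_of_lt_of_le (Fact.out : p.Prime).one_lt (Nat.le_of_dvd Nat.card_pos (prime_dvd_card hα G))
  haveI : Finite G := inferInstance
  obtain ⟨q, E, hq, hEn, -, hEne, -, hexp⟩ := Basics.exists_elementary_normal (G := G) (N := ⊤)
    top_ne_bot (haveI := hs; inferInstance)
  haveI := hEn
  haveI := normal_transitive (α := α) E hEne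
  obtain ⟨a⟩ : Nonempty α := Fintype.card_pos_iff.mp (by rw [hα]; exact (Fact.out : p.Prime).pos)
  have hpE : p ∣ Nat.card E := by
    have := card_mul_card_stabilizer (G := E) a
    rw [Nat.card_eq_fintype_card (α := α), hα] at this
    exact ⟨_, this.symm⟩
  obtain ⟨x, hx⟩ := exists_prime_orderOf_dvd_card' (G := E) p hpE
  have hqp : q = p := by
    have h1 : orderOf x ∣ q := orderOf_dvd_of_pow_eq_one (Subtype.ext (by simpa using hexp x x.2))
    rw [hx] at h1
    exact ((Nat.prime_dvd_prime_iff_eq Fact.out hq).mp h1).symm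
  subst hqp
  have hEp : IsPGroup q E := fun y => ⟨1, Subtype.ext (by simpa using hexp y y.2)⟩
  obtain ⟨Q, hQ⟩ := hEp.exists_le_sylow
  have hQE : (Q : Subgroup G) = E := (Subgroup.eq_of_le_of_card_ge hQ
    (by rw [card_sylow hα G Q]; exact Nat.le_of_dvd Nat.card_pos hpE)).symm
  haveI : (Q : Subgroup G).Normal := hQE ▸ hEn
  haveI := Sylow.unique_of_normal Q inferInstance
  rw [Subsingleton.elim P Q]
  infer_instance

/-- Let p > 2 be a prime and G a permutation group on p letters whose Sylow p-subgroup P has normalizer of order 2p. Then either P is normal in G, or p − 1 = 2^a for some a and G is isomorphic to SL(2, 2^a). -/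
theorem result {α : Type*} [Fintype α] [DecidableEq α] {p : ℕ} [Fact p.Prime] (hp : 2 < p) (hα : Fintype.card α = p) (G : Subgroup (Equiv.Perm α)) (P : Sylow p G) (hN : Nat.card (Subgroup.normalizer ((P : Subgroup G) : Set G)) = 2 * p) : (P : Subgroup G).Normal ∨ ∃ (a : ℕ) (F : Type) (_ : Field F) (_ : Fintype F), p = 2 ^ a + 1 ∧ Fintype.card F = 2 ^ a ∧ Nonempty (G ≃* Matrix.SpecialLinearGroup (Fin 2) F) := by
  classical
  set N := Subgroup.normalizer ((P : Subgroup G) : Set G) with hNdef
  have hpp : p.Prime := Fact.out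
  haveI : MulAction.IsPretransitive G α := by
    obtain ⟨x, hx⟩ := exists_prime_orderOf_dvd_card' (G := G) p
      (((dvd_mul_left p 2).trans (hN ▸ dvd_rfl)).trans (Subgroup.card_subgroup_dvd_card N))
    have hxo : orderOf (x : Equiv.Perm α) = p := by rw [Subgroup.orderOf_coe, hx]
    have hc : (x : Equiv.Perm α).IsCycle :=
      Equiv.Perm.isCycle_of_prime_order'' (by rw [hα]; exact hpp) (by rw [hxo, hα])
    have hsupp : (x : Equiv.Perm α).support = Finset.univ :=
      Finset.eq_univ_of_card _ (by rw [← hc.orderOf, hxo, hα])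
    refine ⟨fun a b => ?_⟩
    obtain ⟨i, hi⟩ := hc.exists_zpow_eq (x := a) (y := b)
      (Equiv.Perm.mem_support.mp (hsupp ▸ Finset.mem_univ a))
      (Equiv.Perm.mem_support.mp (hsupp ▸ Finset.mem_univ b))
    exact ⟨x ^ i, by simpa [Subgroup.smul_def] using hi⟩
  by_cases hs : Group.IsSolvable G
  · exact Or.inl (normal_of_solvable hα G hs P)
  right
  have h3 := S0676.result hα G hs P (by rw [← hNdef, hN]; exact even_two_mul p)
  have hcP : Nat.card (P : Subgroup G) = p := PermGp.card_sylow hα G P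
  obtain ⟨x, e, hP, hx⟩ := PermGp.exists_frame hα G P
  have hpow : ∀ (y : G), y ∈ (P : Subgroup G) → ∃ b : ZMod p, ∀ i, y • e i = e (i + b) := by
    intro y hy
    rw [hP] at hy
    obtain ⟨n, rfl⟩ := hy
    exact ⟨n, fun i => PermGp.frame_pow G hx n i⟩
  have H : PermGp.PrimeTwoP.Hyp2 G (P : Subgroup G) p := by
    refine ⟨hpp, hp.ne', hcP, fun g hg => ?_, hN⟩
    have hgx : g * x = x * g := hg x (by rw [hP]; exact Subgroup.mem_zpowers x)
    obtain ⟨b, hb⟩ : ∃ b, g • e 0 = e b := ⟨e.symm (g • e 0), by simp⟩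
    have hg' : g = x ^ (b.val : ℤ) := by
      refine PermGp.perm_ext fun a => ?_
      obtain ⟨i, rfl⟩ := e.surjective a
      have e1 : e i = x ^ (i.val : ℤ) • e 0 := by
        rw [PermGp.frame_pow G hx]; simp
      conv_lhs => rw [e1, ← mul_smul, ((Commute.zpow_right (show Commute g x from hgx) _)).eq, mul_smul, hb,
        PermGp.frame_pow G hx]
      rw [PermGp.frame_pow G hx]
      push_cast [ZMod.natCast_zmod_val]
      rw [add_comm]
    rw [hg', hP]
    exact Subgroup.zpow_mem _ (Subgroup.mem_zpowers x) _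
  have hfree : ∀ y ∈ (P : Subgroup G), y ≠ 1 → ∀ a : α, y • a ≠ a := by
    intro y hy hy1 a ha
    obtain ⟨b, hb⟩ := hpow y hy
    obtain ⟨i, rfl⟩ := e.surjective a
    rw [hb] at ha
    have hb0 : b = 0 := by simpa using e.injective ha
    refine hy1 (PermGp.perm_ext fun a => ?_)
    obtain ⟨j, rfl⟩ := e.surjective a
    rw [hb, hb0, add_zero, one_smul]
  have hodd : Odd (Fintype.card α) := hα ▸ hpp.odd_of_ne_two hp.ne'
  obtain ⟨a, -, hca, F, iF, tF, hF, hiso⟩ := S4702.result (by omega) hodd G h3 (fun g hg => by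
    refine PermGp.PrimeTwoP.fix_three H hα h3 hfree (g := g) ?_
    have := PermGp.PrimeTwoP.permChar_eq_fixN (α := α) g
    rw [PermGp.permChar] at this
    have e' : Nat.card (MulAction.fixedBy α g) = PermGp.PrimeTwoP.fixN G α g := by exact_mod_cast this
    omega)
  exact ⟨a, F, iF, tF, by rw [← hα, hca], hF, hiso⟩

end Cfsg.Agent.S4706
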