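import Cfsg.Statements.S4709
import Cfsg.Agent.Lib.Blocks.FrobNormalizerMain

set_option autoImplicit false
open Cfsg

namespace Cfsg.Agent.S4709

/-- Let p be a prime, M a maximal ideal of the algebraic integers containing p, and G a finite group with a nontrivial abelian Sylow p-subgroup P; put N = N_G(P), C = C_G(P). Suppose N/C is cyclic of order m with 1 < m < #P − 1 (C has index m in N and N is generated by C and one element), and C_G(y) ∩ N = C for every non-identity y ∈ P. Put r = (#P − 1)/m. Then there is s ≤ m such that the principal p-block is the disjoint union of a set X of s characters containing the principal character and a set Y of r characters, with integers a_χ ≠ 0 (χ ∈ X), d and a sign δ = ±1, such that: every χ ∈ X takes the value a_χ at every element whose p-part is a non-identity element of P; there is a map ζ from the non-principal linear characters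 ψ of P onto Y, constant on N-conjugacy classes, with ζ_ψ(z) = d + δ·Σ ψ'(y) for every z whose p-part y is a non-identity element of P, the sum running over the N-conjugates ψ' of ψ; (d − δ)^2 + (r − 1) d^2 + Σ_{χ ∈ X} a_χ^2 = m + 1; all members of Y agree on p-regular elements; and (r d − δ) η(g) + Σ_{χ ∈ X} a_χ χ(g) = 0 for every η ∈ Y and every p-regular g. -/
theorem result {G : Type*} [Group G] [Finite G] (p : ℕ) [Fact p.Prime] (M : Ideal Cfsg.AlgInt) (hM : Cfsg.IsPModular p M) (P : Sylow p G) (hab : IsMulCommutative P) (hP1 : Nat.card P ≠ 1) (m : ℕ) (hm1 : 1 < m) (hm2 : m + 1 < Nat.card P) (hCN : (Subgroup.centralizer ((P : Subgroup G) : Set G)).relIndex (Subgroup.normalizer ((P : Subgroup G) : Set G)) = m) (hcyc : ∃ g : G, g ∈ Subgroup.normalizer ((P : Subgroup G) : Set G) ∧ Subgroup.centralizer ((P : Subgroup G) : Set G) ⊔ Subgroup.zpowers g = Subgroup.normalizer ((P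 : Subgroup G) : Set G)) (hfrob : ∀ y : G, y ∈ (P : Subgroup G) → y ≠ 1 → Subgroup.centralizer ({y} : Set G) ⊓ Subgroup.normalizer ((P : Subgroup G) : Set G) = Subgroup.centralizer ((P : Subgroup G) : Set G)) : ∃ (s : ℕ) (X Y : Set (Cfsg.IrrCharacter G)), s ≤ m ∧ Cfsg.principalBlock M G = X ∪ Y ∧ Disjoint X Y ∧ Nat.card X = s ∧ Nat.card Y = (Nat.card P - 1) / m ∧ (∃ χ₁ ∈ X, (χ₁ : G → ℂ) = fun _ => 1) ∧ ∃ (a : Cfsg.IrrCharacter G → ℤ) (d δ : ℤ) (ζ : (↥(P : Subgroup G) →* ℂˣ) → Cfsg.IrrCharacter G), (δ = 1 ∨ δ = -1) ∧ (∀ χ ∈ X, a χ ≠ 0 ∧ ∀ z y : G, Cfsg.IsPPart p z y → y ∈ (P : Subgroup G) → y ≠ 1 → (χ : G → ℂ) z = (a χ : ℂ)) ∧ (∀ ψ : ↥(P : Subgroup G) →* ℂˣ, ψ ≠ 1 → ζ ψ ∈ Y) ∧ (∀ η ∈ Y, ∃ ψ : ↥(P : Subgroup G) →* ℂˣ, ψ ≠ 1 ∧ ζ ψ = η) ∧ (∀ ψ ψ' : ↥(P : Subgroup G) →* ℂˣ, ψ ≠ 1 → (∃ n : G, n ∈ Subgroup.normalizer ((P : Subgroup G) : Set G) ∧ ∀ w w' : ↥(P : Subgroup G), (w' :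 G) = n * w * n⁻¹ → ψ' w' = ψ w) → ζ ψ' = ζ ψ) ∧ (∀ ψ : ↥(P : Subgroup G) →* ℂˣ, ψ ≠ 1 → ∀ (z : G) (y : ↥(P : Subgroup G)), Cfsg.IsPPart p z (y : G) → (y : G) ≠ 1 → (ζ ψ : G → ℂ) z = (d : ℂ) + (δ : ℂ) * ∑ᶠ ψ' ∈ {ψ' : ↥(P : Subgroup G) →* ℂˣ | ∃ n : G, n ∈ Subgroup.normalizer ((P : Subgroup G) : Set G) ∧ ∀ w w' : ↥(P : Subgroup G), (w' : G) = n * w * n⁻¹ → ψ' w' = ψ w}, ((ψ' y : ℂˣ) : ℂ)) ∧ ((d - δ) ^ 2 + ((Nat.card P - 1) / m - 1 : ℤ) * d ^ 2 + ∑ᶠ χ ∈ X, a χ ^ 2 = (m : ℤ) + 1) ∧ (∀ η ∈ Y, ∀ η' ∈ Y, ∀ g : G, ¬ p ∣ orderOf g → (η : G → ℂ) g = (η' : G → ℂ) g) ∧ (∀ η ∈ Y, ∀ g : G, ¬ p ∣ orderOf g → ((((Nat.card P - 1) / m : ℕ) : ℂ) * d - δ) * (η : G → ℂ) g + ∑ᶠ χ ∈ X, (a χ : ℂ) * (χ : G → ℂ) g = 0) := by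
  classical
  haveI := Fintype.ofFinite G
  haveI := hM.2.1.isPrime
  haveI := hab
  have hm : Nat.card (Cfsg.Agent.Blocks.FrobN.aut P) = m := Cfsg.Agent.Blocks.FrobN.card_aut P hCN
  obtain ⟨X, Y, a, d, δ, ζ, hXY, hdis, hYc, hr2, ⟨χ₁, hχ₁, h1, -⟩, hδ, hX, hζY, hζon, hζc, hζv,
    hsum, hag, hrel⟩ := Cfsg.Agent.Blocks.FrobN.exists_structure hM hfrob hm hm2
  refine ⟨Nat.card X, X, Y, ?_, hXY, hdis, rfl, hYc, ⟨χ₁, hχ₁, h1⟩, a, d, δ, ζ, hδ, hX, hζY, hζon,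
    fun ψ ψ' hψ h => ?_, fun ψ hψ z y hz hy => ?_, hsum, hag, hrel⟩
  · have hfin : X.Finite := X.toFinite
    have h1 : (Nat.card X : ℤ) ≤ ∑ᶠ χ ∈ X, a χ ^ 2 := by
      rw [finsum_mem_eq_finite_toFinset_sum _ hfin, Nat.card_eq_card_finite_toFinset hfin]
      calc (hfin.toFinset.card : ℤ) = ∑ χ ∈ hfin.toFinset, (1 : ℤ) := by simp
        _ ≤ _ := Finset.sum_le_sum fun χ hχ => by
            have h0 := (hX χ (hfin.mem_toFinset.mp hχ)).1
            have : 0 < a χ ^ 2 := by positivity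
            omega
    have hr : (2 : ℤ) ≤ ((Nat.card (P : Subgroup G) : ℤ) - 1) / m := by
      rw [show ((Nat.card (P : Subgroup G) : ℤ) - 1) = ((Nat.card (P : Subgroup G) - 1 : ℕ) : ℤ) by
        rw [Nat.cast_sub Nat.card_pos, Nat.cast_one], ← Int.natCast_div]
      exact_mod_cast hr2
    have h2 : 1 ≤ (d - δ) ^ 2 + (((Nat.card (P : Subgroup G) : ℤ) - 1) / m - 1) * d ^ 2 := by
      by_cases hd : d = 0
      · rcases hδ with rfl | rfl <;> simp [hd]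
      · have : 0 < d ^ 2 := by positivity
        nlinarith [sq_nonneg (d - δ)]
    omega
  · refine hζc ψ ψ' hψ ?_
    rw [← Finset.mem_coe, ← Cfsg.Agent.Blocks.FrobN.orb_coe]
    exact h
  · rw [Cfsg.Agent.Blocks.FrobN.orb_coe, finsum_mem_coe_finset]
    exact hζv ψ hψ z y hz hy

end Cfsg.Agent.S4709
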