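import Cfsg.Statements.S4710
import Cfsg.Agent.Lib.Blocks.BFMatrix

set_option autoImplicit false
open Cfsg

namespace Cfsg.Agent.S4710

/-- Let p be a prime, M a maximal ideal of the algebraic integers containing p, and B a p-block of defect d of the finite group G containing k irreducible characters. If B contains a character of positive height then 2k ≤ p^(2d − 2); and every character in B has height 0 when d ≤ 1 and height at most d − 2 when d ≥ 2. -/
theorem result {G : Type*} [Group G] [Finite G] (p : ℕ) [Fact p.Prime] (M : Ideal Cfsg.AlgInt) (hM : Cfsg.IsPModular p M) (B : Set (Cfsg.IrrCharacter G)) (hB : Cfsg.IsPBlock M B) (d : ℕ) (hd : Cfsg.blockDefect p B = d) : ((∃ χ ∈ B, 0 < Cfsg.blockHeight p B (χ : G → ℂ)) → 2 * Nat.card B ≤ p ^ (2 * d - 2)) ∧ ∀ χ ∈ B, (d ≤ 1 → Cfsg.blockHeight p B (χ : G → ℂ) = 0) ∧ (2 ≤ d → Cfsg.blockHeight p B (χ : G → ℂ) ≤ d - 2) := by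
  classical
  haveI := Fintype.ofFinite G
  haveI := Cfsg.Agent.Blocks.isPrime_of_modular hM
  subst hd
  refine ⟨?_, fun χ hχ => ?_⟩
  · rintro ⟨χ, hχ, hpos⟩
    obtain ⟨h1, h2⟩ := Cfsg.Agent.Blocks.height_bound hM hB hχ hpos
    have h3 := Cfsg.Agent.Blocks.sum_height_sq_le hM hB
    have hcard : Nat.card B =
        (Finset.univ.filter (fun χ : Cfsg.IrrCharacter G => χ ∈ B)).card := by
      rw [Nat.card_eq_fintype_card, ← Set.toFinset_card]
      congr 1
      ext; simp
    rw [hcard]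
    set S := Finset.univ.filter (fun χ : Cfsg.IrrCharacter G => χ ∈ B)
    set S0 := S.filter (fun ψ : Cfsg.IrrCharacter G => Cfsg.blockHeight p B (ψ : G → ℂ) = 0)
      with hS0
    have hsplit : S0.card + p ^ 2 * (S.filter (fun ψ : Cfsg.IrrCharacter G =>
        ¬ Cfsg.blockHeight p B (ψ : G → ℂ) = 0)).card ≤
        ∑ ψ ∈ S, p ^ (2 * Cfsg.blockHeight p B (ψ : G → ℂ)) := by
      rw [hS0, ← Finset.sum_filter_add_sum_filter_not S
        (fun ψ : Cfsg.IrrCharacter G => Cfsg.blockHeight p B (ψ : G → ℂ) = 0)]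
      refine Nat.add_le_add ?_ ?_
      · rw [Finset.card_eq_sum_ones]
        exact Finset.sum_le_sum fun ψ _ => Nat.one_le_pow _ _ hM.1.pos
      · rw [mul_comm, ← smul_eq_mul, ← Finset.sum_const]
        refine Finset.sum_le_sum fun ψ hψ => Nat.pow_le_pow_right hM.1.pos ?_
        have := (Finset.mem_filter.mp hψ).2
        omega
    have htot := Finset.card_filter_add_card_filter_not (s := S)
      (fun ψ : Cfsg.IrrCharacter G => Cfsg.blockHeight p B (ψ : G → ℂ) = 0)
    rw [← hS0] at htot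
    set k1 := (S.filter (fun ψ : Cfsg.IrrCharacter G =>
      ¬ Cfsg.blockHeight p B (ψ : G → ℂ) = 0)).card
    obtain ⟨n, hn⟩ : ∃ n, Cfsg.blockDefect p B = n + 2 := ⟨_ - 2, (Nat.sub_add_cancel (by omega)).symm⟩
    rw [hn] at h2 h3 ⊢
    have hq : p ^ 2 * p ^ (2 * n + 2) = p ^ (2 * (n + 2)) := by rw [← pow_add]; ring_nf
    have hk0 : 4 * S0.card ≤ p ^ (2 * n + 2) := by
      have h5 : 4 * S0.card * p ^ 2 ≤ p ^ 2 * p ^ (2 * n + 2) := by
        rw [hq]
        refine le_trans (Nat.mul_le_mul_left _ (Nat.pow_le_pow_right hM.1.pos ?_)) h2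
        omega
      exact Nat.le_of_mul_le_mul_left (by linarith) (pow_pos hM.1.pos 2)
    rw [← hq] at h3
    have hp2 : 4 ≤ p ^ 2 := Nat.pow_le_pow_left hM.1.two_le 2
    have hq4 : 4 ≤ p ^ (2 * n + 2) :=
      le_trans hp2 (Nat.pow_le_pow_right hM.1.pos (by omega))
    rw [show 2 * (n + 2) - 2 = 2 * n + 2 by omega, ← htot]
    nlinarith
  · refine ⟨fun hd => by_contra fun hne => ?_, fun hd => ?_⟩
    · have := (Cfsg.Agent.Blocks.height_bound hM hB hχ (Nat.pos_of_ne_zero hne)).1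
      omega
    · by_contra hlt
      have := (Cfsg.Agent.Blocks.height_bound hM hB hχ (by omega)).1
      omega

end Cfsg.Agent.S4710
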