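import Cfsg.Statements.S4712
import Cfsg.Agent.Lib.Blocks.SectionDec
import Cfsg.Agent.Lib.Blocks.GaloisStable
import Mathlib.RingTheory.ZMod.UnitsCyclic

set_option autoImplicit false
open Cfsg

namespace Cfsg.Agent.S4712

/-- Let p be an odd prime, M a maximal ideal of the algebraic integers containing p, G a finite group of order n with p-part p^a, and B a p-block of G. Call an irreducible character χ p-rational when χ(g^k) = χ(g) for every g and every k coprime to n with k ≡ 1 modulo n/p^a (χ is fixed by the Galois automorphisms fixing the roots of unity of order prime to p). Then the number of p-rational irreducible characters in B is at least the p-regular rank of B (the number of irreducible Brauer characters in B). -/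
theorem result {G : Type*} [Group G] [Finite G] (p : ℕ) [Fact p.Prime] (hodd : p ≠ 2) (M : Ideal Cfsg.AlgInt) (hM : Cfsg.IsPModular p M) (B : Set (Cfsg.IrrCharacter G)) (hB : Cfsg.IsPBlock M B) : Cfsg.blockRank p B ≤ Nat.card {χ : Cfsg.IrrCharacter G // χ ∈ B ∧ ∀ k : ℕ, Nat.Coprime k (Nat.card G) → k ≡ 1 [MOD Nat.card G / p ^ (Nat.card G).factorization p] → ∀ g : G, (χ : G → ℂ) (g ^ k) = (χ : G → ℂ) g} := by
  classical
  haveI := Cfsg.Agent.Blocks.isPrime_of_modular hM
  haveI := Fintype.ofFinite G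
  have hp := (Fact.out : p.Prime)
  obtain ⟨n, hn⟩ : ∃ n, n = Nat.card G := ⟨_, rfl⟩
  obtain ⟨a, ha⟩ : ∃ a, a = n.factorization p := ⟨_, rfl⟩
  obtain ⟨m, hm⟩ : ∃ m, m = n / p ^ a := ⟨_, rfl⟩
  have hn0 : n ≠ 0 := hn ▸ Nat.card_pos.ne'
  haveI : NeZero n := ⟨hn0⟩
  have hnm : p ^ a * m = n := by rw [hm, ha]; exact Nat.ordProj_mul_ordCompl_eq_self n p
  have hcop : (p ^ a).Coprime m := by
    rw [hm, ha]; exact (Nat.coprime_ordCompl hp hn0).pow_left _
  rw [← hn, ← ha, ← hm]
  -- a generator of the group of exponents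
  obtain ⟨k0, hk0c, hk0m, hgen⟩ : ∃ k0 : ℕ, k0.Coprime n ∧ k0 ≡ 1 [MOD m] ∧
      ∀ k : ℕ, k.Coprime n → k ≡ 1 [MOD m] → ∃ j : ℕ, k ≡ k0 ^ j [MOD n] := by
    let U := (ZMod.unitsMap (show m ∣ n from Dvd.intro_left _ hnm)).ker
    let f : U →* (ZMod (p ^ a))ˣ :=
      (ZMod.unitsMap (show p ^ a ∣ n from Dvd.intro _ hnm)).comp U.subtype
    have hf : Function.Injective f := by
      rw [injective_iff_map_eq_one]
      intro u hu
      have h1 : ((u : (ZMod n)ˣ) : ZMod n).val ≡ 1 [MOD m] := by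
        rw [← ZMod.natCast_eq_natCast_iff, ZMod.natCast_val, Nat.cast_one]
        exact congrArg Units.val u.2
      have h2 : ((u : (ZMod n)ˣ) : ZMod n).val ≡ 1 [MOD p ^ a] := by
        rw [← ZMod.natCast_eq_natCast_iff, ZMod.natCast_val, Nat.cast_one]
        exact congrArg Units.val hu
      have h3 := (Nat.modEq_and_modEq_iff_modEq_mul hcop).mp ⟨h2, h1⟩
      rw [hnm, ← ZMod.natCast_eq_natCast_iff, ZMod.natCast_zmod_val, Nat.cast_one] at h3
      exact Subtype.ext (Units.ext h3)
    haveI : IsCyclic (ZMod (p ^ a))ˣ := ZMod.isCyclic_units_of_prime_pow p hp hodd a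
    haveI : IsCyclic U := isCyclic_of_injective f hf
    obtain ⟨g, hg⟩ := IsCyclic.exists_generator (α := U)
    refine ⟨((g : (ZMod n)ˣ) : ZMod n).val, ZMod.val_coe_unit_coprime _, ?_, fun k hk hk1 => ?_⟩
    · rw [← ZMod.natCast_eq_natCast_iff, ZMod.natCast_val, Nat.cast_one]
      exact congrArg Units.val g.2
    · have hu : ZMod.unitOfCoprime k hk ∈ U := by
        rw [MonoidHom.mem_ker]
        refine Units.ext ?_
        rw [ZMod.unitsMap_val, ZMod.coe_unitOfCoprime, ZMod.cast_natCast (Dvd.intro_left _ hnm),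
          Units.val_one, ← Nat.cast_one, ZMod.natCast_eq_natCast_iff]
        exact hk1
      obtain ⟨j, hj⟩ := (mem_powers_iff_mem_zpowers).mpr (hg ⟨_, hu⟩)
      refine ⟨j, (ZMod.natCast_eq_natCast_iff _ _ _).mp ?_⟩
      rw [Nat.cast_pow, ZMod.natCast_zmod_val]
      simpa using (congrArg (fun x : U => ((x : (ZMod n)ˣ) : ZMod n)) hj).symm
  have hk : k0.Coprime (Nat.card G) := hn ▸ hk0c
  have hregpow : ∀ x : G, ¬ p ∣ orderOf x → x ^ k0 = x := by
    intro x hx
    have hxm : orderOf x ∣ m := by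
      have h := orderOf_dvd_natCard x
      rw [← hn, ← hnm] at h
      exact ((hp.coprime_iff_not_dvd.mpr hx).symm.pow_right a).dvd_of_dvd_mul_left h
    conv_rhs => rw [← pow_one x]
    exact pow_eq_pow_iff_modEq.mpr (hk0m.of_dvd hxm)
  have hrat : ∀ χ : Cfsg.IrrCharacter G, (∀ k : ℕ, Nat.Coprime k n → k ≡ 1 [MOD m] →
      ∀ g : G, (χ : G → ℂ) (g ^ k) = (χ : G → ℂ) g) ↔ Blocks.powIrr hk χ = χ := by
    intro χ
    constructor
    · exact fun h => Subtype.ext (funext fun g => h k0 hk0c hk0m g)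
    · intro h k hkc hkm g
      obtain ⟨j, hj⟩ := hgen k hkc hkm
      have hpow : ∀ (j : ℕ) (g : G), (χ : G → ℂ) (g ^ k0 ^ j) = (χ : G → ℂ) g := by
        intro j
        induction j with
        | zero => simp
        | succ j ih =>
          intro g
          rw [pow_succ, pow_mul, show (χ : G → ℂ) ((g ^ k0 ^ j) ^ k0) = _ from
            congrFun (congrArg Subtype.val h) (g ^ k0 ^ j), ih]
      rw [show g ^ k = g ^ k0 ^ j from pow_eq_pow_iff_modEq.mpr
        (hj.of_dvd (hn ▸ orderOf_dvd_natCard g)), hpow]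
  obtain ⟨S, hS⟩ : ∃ S, S = Finset.univ.filter (fun χ : Cfsg.IrrCharacter G => χ ∈ B) := ⟨_, rfl⟩
  rw [show Nat.card {χ : Cfsg.IrrCharacter G // χ ∈ B ∧ ∀ k : ℕ, Nat.Coprime k n → k ≡ 1 [MOD m] →
      ∀ g : G, (χ : G → ℂ) (g ^ k) = (χ : G → ℂ) g} =
      (S.filter fun χ => Blocks.powIrr hk χ = χ).card by
    rw [Nat.card_eq_fintype_card, Fintype.card_subtype, hS, Finset.filter_filter]
    exact congrArg _ (Finset.filter_congr fun χ _ => by rw [hrat])]
  obtain ⟨F, hF⟩ : ∃ F : G → ℂ,
      F = fun x => ∑ χ ∈ S, (χ : G → ℂ) (x ^ k0) * starRingEnd ℂ ((χ : G → ℂ) x) := ⟨_, rfl⟩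
  have hN : ((S.filter fun χ => Blocks.powIrr hk χ = χ).card : ℂ) * (n : ℂ) = ∑ x, F x := by
    rw [Finset.natCast_card_filter, Finset.sum_mul, hF, Finset.sum_comm]
    refine Finset.sum_congr rfl fun χ _ => ?_
    rw [← CT.irr_inner_subtype (Blocks.powIrr hk χ) χ, Cfsg.classInner, hn, mul_comm,
      mul_inv_cancel_left₀ (Nat.cast_ne_zero.mpr Nat.card_pos.ne')]
    rfl
  choose π hπ using fun x : G => Blocks.exists_isPPart (p := p) x
  have hfib : ∀ z : G, ∀ x, π x = z → Cfsg.IsPPart p x z := fun z x h => h ▸ (hπ x).1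
  -- the regular elements give the rank, every other section a natural number
  have hsec : ∀ z : G, ∃ c : ℕ, (∑ x ∈ Finset.univ.filter (fun x => π x = z), F x) =
      (if z = 1 then (n : ℂ) * (Cfsg.blockRank p B : ℂ) else 0) + (c : ℂ) := by
    intro z
    have hset : Finset.univ.filter (fun x => π x = z) =
        Finset.univ.filter (fun x : G => Cfsg.IsPPart p x z) := by
      ext x
      simp only [Finset.mem_filter, Finset.mem_univ, true_and]
      exact ⟨hfib z x, fun h => Blocks.ppart_unique (hπ x).1 h⟩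
    rw [hset]
    by_cases hz : ∃ j : ℕ, z ^ p ^ j = 1
    swap
    · refine ⟨0, ?_⟩
      rw [if_neg (fun h => hz ⟨0, by simp [h]⟩), Finset.sum_eq_zero fun x hx => absurd
        (Blocks.ppart_pow_eq_one (Finset.mem_filter.mp hx).2) hz]
      simp
    by_cases hz1 : z = 1
    · refine ⟨0, ?_⟩
      subst hz1
      rw [if_pos rfl, Nat.cast_zero, add_zero, ← Blocks.sum_bfPair_self hM hB, ← Finset.sum_filter,
        ← hS, Finset.mul_sum, hF, Finset.sum_comm]
      refine Finset.sum_congr rfl fun χ _ => ?_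
      rw [Blocks.bfPair, Cfsg.classInner, hn,
        mul_inv_cancel_left₀ (Nat.cast_ne_zero.mpr Nat.card_pos.ne'), Finset.sum_filter]
      refine Finset.sum_congr rfl fun x _ => ?_
      simp only [Blocks.isPPart_one_iff, Blocks.regFun]
      by_cases hx : p ∣ orderOf x
      · simp [hx]
      · simp [hx, hregpow x hx]
    rw [if_neg hz1]
    simp only [zero_add]
    haveI := Fintype.ofFinite (Subgroup.centralizer ({z} : Set G))
    rw [Blocks.sum_section hp hz F]
    have hcom : ∀ h : Subgroup.centralizer ({z} : Set G), Commute z (h : G) :=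
      fun h => (Subgroup.mem_centralizer_singleton_iff.mp h.2).symm
    by_cases hc : IsConj z (z ^ k0)
    swap
    · refine ⟨0, ?_⟩
      rw [Nat.cast_zero, Finset.sum_eq_zero]
      intro h hh
      have hh' : ¬ p ∣ orderOf (h : G) := by
        rw [Subgroup.orderOf_coe]; exact (Finset.mem_filter.mp hh).2
      obtain ⟨j, hj⟩ := hz
      have h1 := Blocks.isPPart_mk (p := p) ((hcom h).pow_left k0)
        ⟨j, by rw [← pow_mul, mul_comm, pow_mul, hj, one_pow]⟩ hh'
      have h2 := Blocks.isPPart_mk (p := p) (hcom h) ⟨j, hj⟩ hh'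
      have := Blocks.block_orthogonality hM (Blocks.blockCoeff_mem_loc hB) h1 h2
        fun hcc => hc hcc.symm
      rw [Blocks.finsum_mem_irr, ← Finset.sum_filter, ← hS] at this
      rw [hF]
      simp only [(hcom h).mul_pow, hregpow _ hh']
      exact this
    obtain ⟨t, ht⟩ := isConj_iff.mp hc
    have hmem : ∀ h : Subgroup.centralizer ({z} : Set G),
        t⁻¹ * (h : G) * t ∈ Subgroup.centralizer ({z} : Set G) := by
      intro h
      have h1 : (h : G) * (t * z * t⁻¹) = t * z * t⁻¹ * (h : G) :=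
        (ht ▸ ((hcom h).pow_left k0).symm.eq)
      refine Subgroup.mem_centralizer_singleton_iff.mpr ?_
      calc t⁻¹ * (h : G) * t * z = t⁻¹ * ((h : G) * (t * z * t⁻¹)) * t := by group
        _ = z * (t⁻¹ * (h : G) * t) := by rw [h1]; group
    let τ : Subgroup.centralizer ({z} : Set G) →* Subgroup.centralizer ({z} : Set G) :=
      { toFun := fun h => ⟨t⁻¹ * (h : G) * t, hmem h⟩
        map_one' := Subtype.ext (by simp)
        map_mul' := fun a b => Subtype.ext (by simp [mul_assoc]) }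
    have hτ : Function.Injective τ := fun a b h => Subtype.ext
      (mul_left_cancel (mul_right_cancel (congrArg Subtype.val h)))
    obtain ⟨c, hc⟩ := Blocks.exists_section_trace hM hB hz τ hτ
    refine ⟨Nat.card (Subgroup.centralizer ({z} : Set G)) * c, ?_⟩
    rw [Nat.cast_mul, ← hc]
    refine Finset.sum_congr rfl fun h hh => ?_
    have hh' : ¬ p ∣ orderOf (h : G) := by
      rw [Subgroup.orderOf_coe]; exact (Finset.mem_filter.mp hh).2
    rw [hF, ← hS]
    refine Finset.sum_congr rfl fun χ _ => ?_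
    congr 1
    rw [(hcom h).mul_pow, hregpow _ hh', ← Blocks.isClassFn_irr χ (z * (τ h : G)) t]
    refine congrArg (χ : G → ℂ) ?_
    show _ = t * (z * (t⁻¹ * (h : G) * t)) * t⁻¹
    rw [← ht]
    group
  choose c hc using hsec
  have htot : ∑ x, F x = (n : ℂ) * (Cfsg.blockRank p B : ℂ) + ((∑ z, c z : ℕ) : ℂ) := by
    rw [← Finset.sum_fiberwise Finset.univ π F, Finset.sum_congr rfl fun z _ => hc z,
      Finset.sum_add_distrib, Finset.sum_ite_eq', if_pos (Finset.mem_univ _), Nat.cast_sum]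
  rw [← hN] at htot
  have hnat : (S.filter fun χ => Blocks.powIrr hk χ = χ).card * n =
      n * Cfsg.blockRank p B + ∑ z, c z := by exact_mod_cast htot
  exact Nat.le_of_mul_le_mul_left (by rw [mul_comm n (Finset.card _)]; omega)
    (Nat.pos_of_ne_zero hn0)

end Cfsg.Agent.S4712
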