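import Cfsg.Statements.S4714
import Cfsg.Agent.Lib.Blocks.CentralProductVal
import Cfsg.Agent.Lib.CT.Clifford

set_option autoImplicit false
set_option linter.all false
open Cfsg

namespace Cfsg.Agent.S4714

open Cfsg.Agent.Blocks
open scoped ComplexConjugate

/-- Let p be a prime, M a maximal ideal of the algebraic integers containing p, D a p-subgroup of the finite group G with G = D·C_G(D), and B a p-block with defect group D. Let χ be a member of B having D in its kernel (there is exactly one, the canonical character of B). Then the irreducible characters in B are exactly the functions θ on G for which there is an irreducible character ζ of D such that θ(yx) = ζ(y)χ(x) whenever y ∈ D, x has order prime to p and x commutes with y, and θ(z) = 0 whenever the p-part of z does not lie in D. -/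
theorem result {G : Type*} [Group G] [Finite G] (p : ℕ) [Fact p.Prime] (M : Ideal Cfsg.AlgInt) (hM : Cfsg.IsPModular p M) (D : Subgroup G) (hD : IsPGroup p D) (hG : D ⊔ Subgroup.centralizer (D : Set G) = ⊤) (B : Set (Cfsg.IrrCharacter G)) (hB : Cfsg.IsPBlock M B) (hBD : Cfsg.IsDefectGroup p M B D) (χ : Cfsg.IrrCharacter G) (hχ : χ ∈ B) (hχD : ∀ y ∈ D, (χ : G → ℂ) y = (χ : G → ℂ) 1) : (∀ θ : Cfsg.IrrCharacter G, θ ∈ B ↔ ∃ ζ : Cfsg.IrrCharacter D, (∀ (y : D) (x : G), ¬ p ∣ orderOf x → Commute (y : G) x → (θ : G → ℂ) ((y : G) * x) = (ζ : D → ℂ) y * (χ : G → ℂ) x) ∧ (∀ z : G, (∀ y : G, Cfsg.IsPPart p z y → y ∉ D) → (θ : G → ℂ) z = 0)) ∧ ∀ ζ : Cfsg.IrrCharacter D, ∃ θ ∈ B, (∀ (y : D) (x : G), ¬ p ∣ orderOf x → Commute (y : G) x → (θ : G → ℂ) ((y : G) * x) = (ζ : D → ℂ) y * (χ : G → ℂ) x) ∧ (∀ z : G, (∀ y : G, Cfsg.IsPPart p z y → y ∉ D) → (θ : G → ℂ) z = 0) := by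
  classical
  haveI := Cfsg.Agent.Blocks.isPrime_of_modular hM
  haveI := Fintype.ofFinite G
  haveI := Fintype.ofFinite D
  haveI hDn : D.Normal := normal_of_sup_eq_top hG
  obtain ⟨⟨huniq, -, hcard⟩, hnorm⟩ := central_product_block_norm hM hD hG hB hBD
  obtain ⟨hval, hvan⟩ := central_product_values hM hD hG hB hBD hχ hχD
  have hχ0 : (χ : G → ℂ) 1 ≠ 0 := Cfsg.Agent.CT.irr_one_ne_zero χ.2
  have hC : ∀ x : G, ¬ p ∣ orderOf x → x ∈ Subgroup.centralizer (D : Set G) := fun x hx => by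
    haveI := Fintype.ofFinite (Subgroup.centralizer (D : Set G))
    exact mem_of_pow_index (centralizer_index_pow hG hD) hx
  have hone : ¬ p ∣ orderOf (1 : G) := by rw [orderOf_one]; exact hM.1.not_dvd_one
  -- the character of `D` attached to a member
  have hζ : ∀ θ ∈ B, ∃ ζ : Cfsg.IrrCharacter D, ∀ y : D,
      (θ : G → ℂ) y = (χ : G → ℂ) 1 * (ζ : D → ℂ) y := by
    intro θ hθ
    obtain ⟨ζ, hne⟩ := Cfsg.Agent.CT.exists_constituent_restrict D θ.2
    obtain ⟨e, he⟩ : ∃ e : ℂ, e = Cfsg.classInner (fun y : D => (θ : G → ℂ) y) (ζ : D → ℂ) := ⟨_, rfl⟩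
    have hinv : ∀ g : G, Cfsg.Agent.CT.conjFun D g (ζ : D → ℂ) = ζ := by
      intro g
      funext n
      obtain ⟨a, ha, c, hc, rfl⟩ := exists_mul_of_sup_eq_top hG g
      refine (Cfsg.Agent.CT.isClassFunction_isConj (Cfsg.Agent.CT.isClassFunction_of_isIrr ζ.2) ?_).symm
      refine isConj_iff.mpr ⟨⟨a, ha⟩, Subtype.ext ?_⟩
      show a * (n : G) * a⁻¹ = a * c * (n : G) * (a * c)⁻¹
      have : c * (n : G) * c⁻¹ = n := by
        rw [← Subgroup.mem_centralizer_iff.mp hc _ n.2, mul_inv_cancel_right]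
      calc a * (n : G) * a⁻¹ = a * (c * n * c⁻¹) * a⁻¹ := by rw [this]
        _ = _ := by group
    have hres := Cfsg.Agent.CT.restrict_eq_smul_of_invariant D θ.2 ζ.2 hne hinv
    rw [← he] at hres
    have hm := Cfsg.Agent.CT.mult_spec
      (Cfsg.Agent.CT.isCharacter_restrict D (Cfsg.Agent.CT.isCharacter_of_isIrr θ.2))
      (Cfsg.Agent.CT.isCharacter_of_isIrr ζ.2)
    rw [← he] at hm
    have h1 := hnorm χ hχ hχD θ hθ
    rw [Finset.sum_subtype (Finset.univ.filter (· ∈ D)) (p := fun x => x ∈ D) (fun x => by simp),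
      Finset.sum_congr rfl fun (x : D) _ => by
        rw [show (θ : G → ℂ) (x : G) = e * (ζ : D → ℂ) x from congrFun hres x, map_mul,
          show e * (ζ : D → ℂ) x * (conj e * conj ((ζ : D → ℂ) x)) =
            (e * conj e) * ((ζ : D → ℂ) x * conj ((ζ : D → ℂ) x)) by ring]] at h1
    have h2 := Cfsg.Agent.CT.irr_inner_self ζ.2
    rw [Cfsg.classInner, inv_mul_eq_iff_eq_mul₀ Cfsg.Agent.CT.card_ne_zero, mul_one] at h2
    rw [← Finset.mul_sum, h2] at h1
    have h3 := mul_right_cancel₀ Cfsg.Agent.CT.card_ne_zero h1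
    refine ⟨ζ, fun y => ?_⟩
    rw [show (θ : G → ℂ) (y : G) = e * (ζ : D → ℂ) y from congrFun hres y]
    congr 1
    rw [hm, Cfsg.Agent.CT.deg_eq (Cfsg.Agent.CT.isCharacter_of_isIrr χ.2), Complex.conj_natCast,
      Complex.conj_natCast] at h3
    rw [hm, Cfsg.Agent.CT.deg_eq (Cfsg.Agent.CT.isCharacter_of_isIrr χ.2)]
    rw [← Nat.cast_mul, ← Nat.cast_mul, Nat.cast_inj] at h3
    exact_mod_cast Nat.mul_self_inj.mp h3
  choose Z hZ using hζ
  have hform : ∀ (θ : Cfsg.IrrCharacter G) (hθ : θ ∈ B),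
      (∀ (y : D) (x : G), ¬ p ∣ orderOf x → Commute (y : G) x →
        (θ : G → ℂ) ((y : G) * x) = (Z θ hθ : D → ℂ) y * (χ : G → ℂ) x) ∧
      (∀ z : G, (∀ y : G, Cfsg.IsPPart p z y → y ∉ D) → (θ : G → ℂ) z = 0) := by
    intro θ hθ
    refine ⟨fun y x hx _ => ?_, fun z hz => ?_⟩
    · have h := hval θ hθ y y.2 x hx
      rw [hZ θ hθ y, mul_assoc] at h
      exact mul_left_cancel₀ hχ0 h
    · obtain ⟨w, hw, -⟩ := exists_isPPart (p := p) z
      exact hvan θ hθ z w hw (hz w hw)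
  have hdet : ∀ (θ θ' : Cfsg.IrrCharacter G) (ζ : Cfsg.IrrCharacter D),
      ((∀ (y : D) (x : G), ¬ p ∣ orderOf x → Commute (y : G) x →
        (θ : G → ℂ) ((y : G) * x) = (ζ : D → ℂ) y * (χ : G → ℂ) x) ∧
      (∀ z : G, (∀ y : G, Cfsg.IsPPart p z y → y ∉ D) → (θ : G → ℂ) z = 0)) →
      ((∀ (y : D) (x : G), ¬ p ∣ orderOf x → Commute (y : G) x →
        (θ' : G → ℂ) ((y : G) * x) = (ζ : D → ℂ) y * (χ : G → ℂ) x) ∧
      (∀ z : G, (∀ y : G, Cfsg.IsPPart p z y → y ∉ D) → (θ' : G → ℂ) z = 0)) → θ = θ' := by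
    intro θ θ' ζ h h'
    refine Subtype.ext (funext fun g => ?_)
    obtain ⟨z, hz, hzu⟩ := exists_isPPart (p := p) g
    by_cases hzD : z ∈ D
    · obtain ⟨y, hy, hc, -, hreg⟩ := hz
      rw [← hy, h.1 ⟨z, hzD⟩ y hreg hc, h'.1 ⟨z, hzD⟩ y hreg hc]
    · have hall : ∀ w : G, Cfsg.IsPPart p g w → w ∉ D := fun w hw => by
        rw [ppart_unique hw hz]; exact hzD
      rw [h.2 g hall, h'.2 g hall]
  have hbij : Function.Bijective fun θ : B => Z θ.1 θ.2 := by
    haveI : Finite (Cfsg.IrrCharacter G) := Cfsg.Agent.CT.irr_finite G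
    haveI := Cfsg.Agent.CT.irr_finite D
    refine (Nat.bijective_iff_injective_and_card _).mpr ⟨fun a b hab => ?_, ?_⟩
    · apply Subtype.ext
      refine hdet a.1 b.1 _ (hform a.1 a.2) ?_
      have e : Z a.1 a.2 = Z b.1 b.2 := hab
      rw [e]
      exact hform b.1 b.2
    · rw [Cfsg.Agent.CT.card_irr_eq_card_conjClasses]
      exact hcard
  refine ⟨fun θ => ⟨fun hθ => ⟨_, hform θ hθ⟩, ?_⟩, fun ζ => ?_⟩
  · rintro ⟨ζ, hζ⟩
    obtain ⟨⟨η, hη⟩, rfl⟩ := hbij.2 ζ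
    rw [hdet θ η _ hζ (hform η hη)]
    exact hη
  · obtain ⟨⟨η, hη⟩, rfl⟩ := hbij.2 ζ
    exact ⟨η, hη, hform η hη⟩

end Cfsg.Agent.S4714
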