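import Cfsg.Statements.S4716
import Cfsg.Agent.Lib.Blocks.Subsection

set_option autoImplicit false
open Cfsg

namespace Cfsg.Agent.S4716

open scoped ComplexConjugate
open Cfsg.Agent Cfsg.Agent.Blocks

universe u

theorem aux {G : Type u} [Group G] [Fintype G] {p : ℕ} [hp : Fact p.Prime] {M : Ideal AlgInt} [M.IsPrime]
    (hM : IsPModular p M) {y : G} [Fintype (Subgroup.centralizer ({y} : Set G))]
    (hy : ∃ k : ℕ, y ^ p ^ k = 1) {B : Set (IrrCharacter G)}
    (hh : ∀ χ ∈ B, blockHeight p B (χ : G → ℂ) = 0)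
    {b : Set (IrrCharacter (Subgroup.centralizer ({y} : Set G)))}
    (hind : IsInducedBlock M (Subgroup.centralizer ({y} : Set G)) b B) :
    Nat.card B ^ 2 ≤ p ^ (2 * blockDefect p b) * blockRank p b := by
  classical
  haveI := charP_res (M := M) hM
  obtain ⟨hb, hB, -⟩ := id hind
  set d := blockDefect p b
  -- the integral matrix of `b`
  have hXex : ∀ η η' : IrrCharacter (Subgroup.centralizer ({y} : Set G)), ∃ z : ℤ, η ∈ b → (p : ℂ) ^ d * bfPair p η η' = (z : ℂ) :=
    fun η η' => if h : η ∈ b then (exists_int_bfPair hM h η').imp fun z hz _ => hz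
      else ⟨0, fun h' => absurd h' h⟩
  choose X hX using hXex
  let m : IrrCharacter G → IrrCharacter (Subgroup.centralizer ({y} : Set G)) → ℕ := fun χ η =>
    if η ∈ b then CT.mult (fun h : (Subgroup.centralizer ({y} : Set G)) => (χ : G → ℂ) h) (η : _ → ℂ) else 0
  have hm0 : ∀ χ η, η ∉ b → m χ η = 0 := fun χ η h => if_neg h
  have hsec : ∀ χ η, secC b χ η = (m χ η : ℂ) * omC η := by
    intro χ η
    simp only [secC, m]
    split_ifs <;> simp
  have hdeg : ∀ η : IrrCharacter (Subgroup.centralizer ({y} : Set G)), conj ((η : (Subgroup.centralizer ({y} : Set G)) → ℂ) 1) = (η : (Subgroup.centralizer ({y} : Set G)) → ℂ) 1 := fun η => by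
    rw [charDegree_cast, map_natCast]
  -- the entries
  have hT : ∀ χ ψ : IrrCharacter G, subMat p d b χ ψ = ∑ η, ∑ η',
      (((m χ η : ℤ) * m ψ η' * X η η' : ℤ) : ℂ) * (omC η * conj (omC η')) := by
    intro χ ψ
    rw [subMat_eq]
    refine Finset.sum_congr rfl fun η _ => Finset.sum_congr rfl fun η' _ => ?_
    rw [hsec, hsec, map_mul, map_natCast]
    by_cases hη : η ∈ b
    · rw [hX η η' hη]; push_cast; ring
    · rw [hm0 χ η hη]; simp
  -- roots of unity
  obtain ⟨j, hj⟩ := hy
  have hsC : selfC y ^ p ^ j = 1 := Subtype.ext (by simpa [selfC] using hj)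
  have hom : ∀ η : IrrCharacter (Subgroup.centralizer ({y} : Set G)), omC η ^ p ^ j = 1 := fun η => (omC_spec η).2 _ hsC
  have homi : ∀ η : IrrCharacter (Subgroup.centralizer ({y} : Set G)), IsIntegral ℤ (omC η) := fun η =>
    IsIntegral.of_pow (pow_pos hp.out.pos j) (by rw [hom]; exact isIntegral_one)
  -- nonvanishing
  have hne : ∀ χ ∈ B, ∀ ψ ∈ B, subMat p d b χ ψ ≠ 0 := by
    intro χ hχ ψ hψ h0
    let w : IrrCharacter (Subgroup.centralizer ({y} : Set G)) → Loc M := fun η => ⟨omC η, integral_mem_loc (homi η)⟩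
    let w' : IrrCharacter (Subgroup.centralizer ({y} : Set G)) → Loc M := fun η =>
      ⟨conj (omC η), integral_mem_loc (CT.isIntegral_conj (homi η))⟩
    have hw : ∀ η, red M (w η) = 1 := fun η => red_root_eq_one hM (Subtype.ext (by simpa [w] using hom η))
    have hw' : ∀ η, red M (w' η) = 1 := fun η => red_root_eq_one hM (Subtype.ext (by
      simp only [w', SubmonoidClass.coe_pow, OneMemClass.coe_one]
      rw [← map_pow, hom, map_one]))
    have hS : ∑ η, ∑ η', (((m χ η : ℤ) * m ψ η' * X η η' : ℤ) : Loc M) * (w η * w' η') = 0 := by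
      apply Subtype.ext
      push_cast
      rw [← h0, hT]
      push_cast
      rfl
    have hS2 := congrArg (red M) hS
    simp only [map_sum, map_mul, map_intCast, hw, hw', mul_one, map_zero] at hS2
    set n1 := Nat.card (Subgroup.centralizer ({y} : Set G)) / p ^ (Nat.card (Subgroup.centralizer ({y} : Set G))).factorization p
    obtain ⟨ξ, hξ, hξ0⟩ := exists_height_zero (p := p) hb
    let R : IrrCharacter (Subgroup.centralizer ({y} : Set G)) → Res M := fun η => red M (regS M p ξ η)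
    let ν : IrrCharacter (Subgroup.centralizer ({y} : Set G)) → Res M := fun η => if η ∈ b then
      (p : Res M) ^ blockHeight p b (η : (Subgroup.centralizer ({y} : Set G)) → ℂ) *
        (((charDegree (η : (Subgroup.centralizer ({y} : Set G)) → ℂ) / p ^ (charDegree (η : (Subgroup.centralizer ({y} : Set G)) → ℂ)).factorization p : ℕ)) : Res M) else 0
    have hR0 : ∀ η, η ∉ b → R η = 0 := fun η h => by
      simp only [R]
      rw [regS_eq_zero hM (fun h' => h ((mem_block_iff hb hξ).mpr h')), map_zero]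
    have key : ∀ η ∈ b, ∀ η', (n1 : Res M) * (X η η' : Res M) = ν η * R η' := by
      intro η hη η'
      have h := bfPair_local hM hη η'
      rw [hX η η' hη] at h
      have e : (n1 : Loc M) * (X η η' : Loc M) =
          (p : Loc M) ^ blockHeight p b (η : (Subgroup.centralizer ({y} : Set G)) → ℂ) *
            (((charDegree (η : (Subgroup.centralizer ({y} : Set G)) → ℂ) / p ^ (charDegree (η : (Subgroup.centralizer ({y} : Set G)) → ℂ)).factorization p : ℕ) : Loc M) *
              regS M p η η') := by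
        apply Subtype.ext
        push_cast
        exact h
      have e2 := congrArg (red M) e
      simp only [map_mul, map_pow, map_intCast, map_natCast] at e2
      rw [e2, red_regS_congr ((mem_block_iff hb hη).mp hξ)]
      simp only [ν, if_pos hη, R]
      ring
    have hS3 : (∑ η, (m χ η : Res M) * ν η) * (∑ η', (m ψ η' : Res M) * R η') = 0 := by
      rw [Finset.sum_mul_sum]
      refine Eq.trans ?_ (mul_eq_zero_of_right (n1 : Res M) hS2)
      rw [Finset.mul_sum]
      refine Finset.sum_congr rfl fun η _ => ?_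
      rw [Finset.mul_sum]
      refine Finset.sum_congr rfl fun η' _ => ?_
      by_cases hη : η ∈ b
      · push_cast
        linear_combination (-((m χ η : Res M) * (m ψ η' : Res M))) * key η hη η'
      · rw [hm0 χ η hη]; simp
    have hsum : ∀ φ ∈ B, ∑ η, (m φ η : Res M) * R η ≠ 0 := by
      intro φ hφ h
      refine (red_regS_ne_zero_iff hM hB hφ hφ).mpr (hh φ hφ) ?_
      rw [red_regS_induced hM hind hξ hφ, ← h]
      refine Finset.sum_congr rfl fun η _ => ?_
      by_cases hη : η ∈ b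
      · simp only [m, if_pos hη, R]
      · rw [hm0 φ η hη, hR0 η hη]
        simp only [R] at hR0
        rw [hR0 η hη]; simp
    have hν : ∀ η, R ξ * ν η = ν ξ * R η := by
      intro η
      by_cases hη : η ∈ b
      · have hXs : X η ξ = X ξ η := by
          have h1 := hX η ξ hη
          rw [bfPair_symm, hX ξ η hξ] at h1
          exact_mod_cast h1.symm
        rw [mul_comm, ← key η hη ξ, hXs, key ξ hξ η]
      · rw [hR0 η hη]; simp [ν, hη]
    have hRξ : R ξ ≠ 0 := (red_regS_ne_zero_iff hM hb hξ hξ).mpr hξ0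
    have hνξ : ν ξ ≠ 0 := by
      simp only [ν, if_pos hξ, hξ0, pow_zero, one_mul]
      exact mt (CharP.cast_eq_zero_iff (Res M) p _).mp
        (Nat.not_dvd_ordCompl hp.out (charDegree_pos ξ).ne')
    refine hsum ψ hψ ((mul_eq_zero.mp hS3).resolve_left fun h => hsum χ hχ ?_)
    apply mul_left_cancel₀ hνξ
    rw [mul_zero, Finset.mul_sum]
    have h2 := mul_eq_zero_of_right (R ξ) h
    rw [Finset.mul_sum] at h2
    rw [← h2]
    exact Finset.sum_congr rfl fun η _ => by rw [mul_left_comm, ← hν, mul_left_comm]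
  -- Galois
  obtain ⟨K, hfin, hgal, hK⟩ := ClassSum.exists_galois_data (Subgroup.centralizer ({y} : Set G))
  obtain ⟨ξ, hξ⟩ := block_nonempty hb
  have hmem : ∀ (η : IrrCharacter (Subgroup.centralizer ({y} : Set G))) x, (η : (Subgroup.centralizer ({y} : Set G)) → ℂ) x ∈ K := fun η =>
    (hK _ (CT.isCharacter_of_isIrr η.2)).1
  have hσ : ∀ σ : Gal(K/ℚ), ∃ k : ℕ, ∀ (η : IrrCharacter (Subgroup.centralizer ({y} : Set G))) x,
      ((σ ⟨(η : (Subgroup.centralizer ({y} : Set G)) → ℂ) x, hmem η x⟩ : K) : ℂ) = (η : (Subgroup.centralizer ({y} : Set G)) → ℂ) (x ^ k) := by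
    intro σ
    obtain ⟨k, -, hk⟩ := (hK _ (CT.isCharacter_of_isIrr ξ.2)).2 σ
    exact ⟨k, fun η x => hk _ (CT.isCharacter_of_isIrr η.2) x (hmem η x)⟩
  let e : IrrCharacter (Subgroup.centralizer ({y} : Set G)) → (Subgroup.centralizer ({y} : Set G)) → K := fun η x => ⟨(η : (Subgroup.centralizer ({y} : Set G)) → ℂ) x, hmem η x⟩
  let A : IrrCharacter G → IrrCharacter G → K := fun χ ψ => ∑ η, ∑ η',
      (((m χ η : ℤ) * m ψ η' * X η η' : ℤ) : K) *
        ((e η (selfC y) / e η 1) * (e η' (selfC y)⁻¹ / e η' 1))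
  have hAσ : ∀ (σ : Gal(K/ℚ)), ∃ k : ℕ, ∀ χ ψ, ((σ (A χ ψ) : K) : ℂ) = ∑ η, ∑ η',
      (((m χ η : ℤ) * m ψ η' * X η η' : ℤ) : ℂ) *
        (((η : (Subgroup.centralizer ({y} : Set G)) → ℂ) (selfC y ^ k) / (η : (Subgroup.centralizer ({y} : Set G)) → ℂ) 1) *
          conj ((η' : (Subgroup.centralizer ({y} : Set G)) → ℂ) (selfC y ^ k) / (η' : (Subgroup.centralizer ({y} : Set G)) → ℂ) 1)) := by
    intro σ
    obtain ⟨k, hk⟩ := hσ σ
    refine ⟨k, fun χ ψ => ?_⟩
    simp only [A, map_sum, map_mul, map_intCast, map_div₀, AddSubmonoidClass.coe_finsetSum]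
    refine Finset.sum_congr rfl fun η _ => Finset.sum_congr rfl fun η' _ => ?_
    push_cast
    simp only [e, hk, one_pow]
    rw [inv_pow, CT.char_inv_eq_conj (CT.isCharacter_of_isIrr η'.2), hdeg]
  have hA : ∀ χ ψ, (A χ ψ : ℂ) = subMat p d b χ ψ := by
    intro χ ψ
    simp only [A, hT, AddSubmonoidClass.coe_finsetSum]
    refine Finset.sum_congr rfl fun η _ => Finset.sum_congr rfl fun η' _ => ?_
    push_cast
    simp only [e, omC]
    rw [CT.char_inv_eq_conj (CT.isCharacter_of_isIrr η'.2), map_div₀, hdeg]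
  have hint : ∀ χ ψ, IsIntegral ℤ (A χ ψ : ℂ) := by
    intro χ ψ
    rw [hA, hT]
    exact IsIntegral.sum _ fun η _ => IsIntegral.sum _ fun η' _ =>
      isIntegral_algebraMap.mul ((homi η).mul (CT.isIntegral_conj (homi η')))
  have hherm : ∀ (σ : Gal(K/ℚ)) χ ψ, conj ((σ (A χ ψ) : K) : ℂ) = ((σ (A ψ χ) : K) : ℂ) := by
    intro σ χ ψ
    obtain ⟨k, hk⟩ := hAσ σ
    rw [hk, hk, map_sum, Finset.sum_comm]
    simp only [map_sum]
    refine Finset.sum_congr rfl fun η _ => Finset.sum_congr rfl fun η' _ => ?_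
    rw [map_mul, map_mul, Complex.conj_conj, map_intCast]
    by_cases hη : η ∈ b
    · by_cases hη' : η' ∈ b
      · have hXs : X η η' = X η' η := by
          have h1 := hX η η' hη
          rw [bfPair_symm, hX η' η hη'] at h1
          exact_mod_cast h1.symm
        rw [hXs]; push_cast; ring
      · rw [hm0 ψ η' hη']; simp
    · rw [hm0 χ η hη]; simp
  have hQ : ∀ σ : Gal(K/ℚ), ∑ χ : IrrCharacter G, ∑ ψ : IrrCharacter G,
      Complex.normSq ((σ (A χ ψ) : K) : ℂ) = ((p ^ (2 * d) * blockRank p b : ℕ) : ℝ) := by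
    intro σ
    have hq : (∑ χ : IrrCharacter G, ∑ ψ : IrrCharacter G, A χ ψ * A ψ χ) =
        ((p ^ (2 * d) * blockRank p b : ℕ) : K) := by
      apply Subtype.ext
      simp only [AddSubmonoidClass.coe_finsetSum]
      push_cast
      simp only [hA]
      exact sum_subMat_mul hM ⟨j, hj⟩ hb d
    have h2 := congrArg (fun z : K => ((σ z : K) : ℂ)) hq
    simp only [map_sum, map_mul, map_natCast, AddSubmonoidClass.coe_finsetSum] at h2
    push_cast at h2
    rw [Finset.sum_congr rfl fun χ _ => Finset.sum_congr rfl fun ψ _ =>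
      (show ((σ (A χ ψ) : K) : ℂ) * ((σ (A ψ χ) : K) : ℂ) =
        ((Complex.normSq ((σ (A χ ψ) : K) : ℂ) : ℝ) : ℂ) by
          rw [← hherm σ χ ψ, Complex.mul_conj])] at h2
    apply Complex.ofReal_injective
    push_cast
    exact h2
  have hlow : ∀ χ ∈ B, ∀ ψ ∈ B, (Fintype.card Gal(K/ℚ) : ℝ) ≤
      ∑ σ : Gal(K/ℚ), Complex.normSq ((σ (A χ ψ) : K) : ℂ) := fun χ hχ ψ hψ =>
    card_le_sum_gal _ (by rw [hA]; exact hne χ hχ ψ hψ) (hint χ ψ)
  set s := Finset.univ.filter fun χ : IrrCharacter G => χ ∈ B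
  have hcard : Nat.card B = s.card := by
    rw [Nat.card_eq_fintype_card, Fintype.card_subtype]
  have hmain : ((s.card : ℝ) ^ 2) * (Fintype.card Gal(K/ℚ) : ℝ) ≤
      (Fintype.card Gal(K/ℚ) : ℝ) * ((p ^ (2 * d) * blockRank p b : ℕ) : ℝ) := by
    calc ((s.card : ℝ) ^ 2) * (Fintype.card Gal(K/ℚ) : ℝ)
        = ∑ χ ∈ s, ∑ ψ ∈ s, (Fintype.card Gal(K/ℚ) : ℝ) := by simp; ring
      _ ≤ ∑ χ ∈ s, ∑ ψ ∈ s, ∑ σ : Gal(K/ℚ), Complex.normSq ((σ (A χ ψ) : K) : ℂ) :=
          Finset.sum_le_sum fun χ hχ => Finset.sum_le_sum fun ψ hψ =>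
            hlow χ (Finset.mem_filter.mp hχ).2 ψ (Finset.mem_filter.mp hψ).2
      _ ≤ ∑ χ : IrrCharacter G, ∑ ψ : IrrCharacter G,
            ∑ σ : Gal(K/ℚ), Complex.normSq ((σ (A χ ψ) : K) : ℂ) :=
          le_trans (Finset.sum_le_sum_of_subset_of_nonneg (Finset.subset_univ _) fun χ _ _ =>
            Finset.sum_nonneg fun ψ _ => Finset.sum_nonneg fun σ _ => Complex.normSq_nonneg _)
            (Finset.sum_le_sum fun χ _ => Finset.sum_le_sum_of_subset_of_nonneg (Finset.subset_univ _)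
              fun ψ _ _ => Finset.sum_nonneg fun σ _ => Complex.normSq_nonneg _)
      _ = ∑ σ : Gal(K/ℚ), ∑ χ : IrrCharacter G, ∑ ψ : IrrCharacter G,
            Complex.normSq ((σ (A χ ψ) : K) : ℂ) := by
          rw [Finset.sum_congr rfl fun χ _ => Finset.sum_comm, Finset.sum_comm]
      _ = (Fintype.card Gal(K/ℚ) : ℝ) * ((p ^ (2 * d) * blockRank p b : ℕ) : ℝ) := by
          rw [Finset.sum_congr rfl fun σ _ => hQ σ, Finset.sum_const, nsmul_eq_mul]; simp
  have hpos : (0 : ℝ) < Fintype.card Gal(K/ℚ) := by exact_mod_cast Fintype.card_pos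
  rw [hcard]
  have h3 : ((s.card ^ 2 : ℕ) : ℝ) ≤ ((p ^ (2 * d) * blockRank p b : ℕ) : ℝ) := by
    push_cast at hmain ⊢
    nlinarith
  exact_mod_cast h3

/-- Let p be a prime, M a maximal ideal of the algebraic integers containing p, and B a p-block of defect d of the finite group G all of whose irreducible characters have height zero. Let y be a p-element, C = C_G(y), and b a block of C inducing B and having the same defect d (a major subsection). Then k(B)^2 ≤ p^(2d)·l(b), where k(B) is the number of irreducible characters in B and l(b) the p-regular rank of b (its number of irreducible Brauer characters); in particular (y = 1) k(B)^2 ≤ p^(2d)·l(B). -/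
theorem result {G : Type*} [Group G] [Finite G] (p : ℕ) [Fact p.Prime] (M : Ideal Cfsg.AlgInt) (hM : Cfsg.IsPModular p M) (B : Set (Cfsg.IrrCharacter G)) (hB : Cfsg.IsPBlock M B) (d : ℕ) (hd : Cfsg.blockDefect p B = d) (hh : ∀ χ ∈ B, Cfsg.blockHeight p B (χ : G → ℂ) = 0) (y : G) (hy : ∃ k : ℕ, orderOf y = p ^ k) (b : Set (Cfsg.IrrCharacter ↥(Subgroup.centralizer ({y} : Set G)))) (hind : Cfsg.IsInducedBlock M (Subgroup.centralizer ({y} : Set G)) b B) (hbd : Cfsg.blockDefect p b = d) : Nat.card B ^ 2 ≤ p ^ (2 * d) * Cfsg.blockRank p b := by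
  classical
  letI := Fintype.ofFinite G
  letI := Fintype.ofFinite (Subgroup.centralizer ({y} : Set G))
  haveI : M.IsPrime := hM.2.1.isPrime
  obtain ⟨k, hk⟩ := hy
  rw [← hbd]
  exact aux hM ⟨k, hk ▸ pow_orderOf_eq_one y⟩ hh hind

end Cfsg.Agent.S4716
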