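import Cfsg.Statements.S4717
import Cfsg.Agent.Lib.Blocks.IdemBlock
import Cfsg.Agent.Lib.Blocks.Height
import Cfsg.Agent.Lib.Blocks.FirstMain

set_option autoImplicit false
open Cfsg

namespace Cfsg.Agent.S4717

/-- Let p be a prime, M a maximal ideal of the algebraic integers containing p, and r a natural number; say that a finite group X has deficiency class r when X has no non-principal p-block of defect ≥ r. If G has deficiency class r then so does the centralizer of every p-element of G; conversely, if r > 0 and the centralizer of every element of order p has deficiency class r, then G has deficiency class r. -/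
theorem result {G : Type*} [Group G] [Finite G] (p : ℕ) [Fact p.Prime] (M : Ideal Cfsg.AlgInt) (hM : Cfsg.IsPModular p M) (r : ℕ) : ((∀ B' : Set (Cfsg.IrrCharacter G), Cfsg.IsPBlock M B' → B' ≠ Cfsg.principalBlock M G → Cfsg.blockDefect p B' < r) → ∀ y : G, (∃ k : ℕ, orderOf y = p ^ k) → (∀ B' : Set (Cfsg.IrrCharacter ↥(Subgroup.centralizer ({y} : Set G))), Cfsg.IsPBlock M B' → B' ≠ Cfsg.principalBlock M ↥(Subgroup.centralizer ({y} : Set G)) → Cfsg.blockDefect p B' < r)) ∧ (0 < r → (∀ y : G, orderOf y = p → (∀ B' : Set (Cfsg.IrrCharacter ↥(Subgroup.centralizer ({y} : Set G))), Cfsg.IsPBlock M B' → B' ≠ Cfsg.principalBlock M ↥(Subgroup.centralizer ({y} : Set G)) → Cfsg.blockDefect p B' < r)) → (∀ B' : Set (Cfsg.IrrCharacter G), Cfsg.IsPBlock M B' → B' ≠ Cfsg.principalBlock M G → Cfsg.blockDefect p B' < r)) := by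
  haveI := Cfsg.Agent.Blocks.isPrime_of_modular hM
  haveI := Cfsg.Agent.Blocks.charP_res hM
  have hQp : ∀ y : G, (∃ k : ℕ, orderOf y = p ^ k) → IsPGroup p (Subgroup.zpowers y) := fun y ⟨k, hk⟩ =>
    IsPGroup.of_card (n := k) (by rw [Nat.card_zpowers, hk])
  have hQH : ∀ y : G, Subgroup.zpowers y ≤ Subgroup.centralizer ({y} : Set G) := fun y =>
    Subgroup.zpowers_le.mpr (Subgroup.mem_centralizer_singleton_iff.mpr rfl)
  have hCH : ∀ y : G, Subgroup.centralizer (Subgroup.zpowers y : Set G) ≤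
      Subgroup.centralizer ({y} : Set G) := fun y => Subgroup.centralizer_le
    (Set.singleton_subset_iff.mpr (Subgroup.mem_zpowers y))
  have hHN : ∀ y : G, Subgroup.centralizer ({y} : Set G) ≤
      Subgroup.normalizer (Subgroup.zpowers y : Set G) := fun y => by
    refine le_trans (le_of_eq ?_) (Subgroup.centralizer_le_normalizer (Subgroup.zpowers y : Set G))
    exact le_antisymm (by rw [Subgroup.le_centralizer_iff, Subgroup.zpowers_le]
                          exact fun c hc => Subgroup.mem_centralizer_singleton_iff.mp hc) (hCH y)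
  refine ⟨fun hG y hy b hb hne => ?_, fun hr hC B hB hne => ?_⟩
  · obtain ⟨B, hB⟩ := Cfsg.Agent.Blocks.exists_inducedBlock hM (hQp y hy) (hQH y) (hCH y) (hHN y) hb
    have hBne : B ≠ Cfsg.principalBlock M G := fun h =>
      hne ((Cfsg.Agent.Blocks.third_main hM ⟨B, hB⟩).mp (h ▸ hB))
    refine lt_of_le_of_lt ?_ (hG B hB.2.1 hBne)
    obtain ⟨D, hD⟩ := Cfsg.Agent.Blocks.exists_defectGroup (p := p) hb
    obtain ⟨E, hE⟩ := Cfsg.Agent.Blocks.exists_defectGroup (p := p) hB.2.1
    obtain ⟨ξ, hξ⟩ := Cfsg.Agent.Blocks.block_nonempty hb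
    obtain ⟨u, -, huB, hub⟩ := Cfsg.Agent.Blocks.exists_support_of_induced hM (hQp y hy) (hQH y)
      (hCH y) (hHN y) hB hξ
    obtain ⟨x, hx⟩ := Cfsg.Agent.Blocks.defect_conj_le_centralizer hM hb hD hξ hub
    obtain ⟨-, -, -, hDp, -⟩ := Cfsg.Agent.Blocks.defectGroup_spec hD
    obtain ⟨z, hz⟩ := Cfsg.Agent.Blocks.conj_le_defect hM hB.2.1 hE
      (Q := (D.map (MulAut.conj x).toMonoidHom).map (Subgroup.centralizer ({y} : Set G)).subtype)
      ((hDp.map _).map _) huB (by
        rintro _ ⟨d, hd, rfl⟩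
        exact Subgroup.mem_centralizer_singleton_iff.mpr
          (congrArg Subtype.val (Subgroup.mem_centralizer_singleton_iff.mp (hx hd))))
    have h := Subgroup.card_le_of_le hz
    rw [Cfsg.Agent.Blocks.card_map_conj, Subgroup.card_map_of_injective Subtype.val_injective,
      Cfsg.Agent.Blocks.card_map_conj, Cfsg.Agent.Blocks.card_defectGroup hM hb hD,
      Cfsg.Agent.Blocks.card_defectGroup hM hB.2.1 hE] at h
    exact (Nat.pow_le_pow_iff_right (Fact.out : p.Prime).one_lt).mp h
  · by_contra hlt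
    rw [not_lt] at hlt
    obtain ⟨D, hD⟩ := Cfsg.Agent.Blocks.exists_defectGroup (p := p) hB
    have hDcard := Cfsg.Agent.Blocks.card_defectGroup hM hB hD
    obtain ⟨g, hg, hDg, hDp, -⟩ := Cfsg.Agent.Blocks.defectGroup_spec hD
    haveI : Nontrivial D := Finite.one_lt_card_iff_nontrivial.mp (by
      rw [hDcard]; exact Nat.one_lt_pow (by omega) (Fact.out : p.Prime).one_lt)
    haveI := hDp.center_nontrivial
    obtain ⟨k, hk⟩ := IsPGroup.iff_card.mp (hDp.to_subgroup (Subgroup.center D))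
    have hpdvd : p ∣ Nat.card (Subgroup.center D) := by
      rcases k with _ | k
      · exact absurd hk (by rw [pow_zero]; exact (Finite.one_lt_card (α := Subgroup.center D)).ne')
      · rw [hk]; exact dvd_pow_self p k.succ_ne_zero
    obtain ⟨z, hz⟩ := exists_prime_orderOf_dvd_card' p hpdvd
    set y : G := ((z : D) : G) with hy
    have hyo : orderOf y = p := by rw [hy, Subgroup.orderOf_coe, Subgroup.orderOf_coe, hz]
    have hDy : D ≤ Subgroup.centralizer ({y} : Set G) := fun d hd =>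
      Subgroup.mem_centralizer_singleton_iff.mpr
        (congrArg Subtype.val (Subgroup.mem_center_iff.mp z.2 ⟨d, hd⟩))
    have hp1 : ∃ k : ℕ, orderOf y = p ^ k := ⟨1, by rw [hyo, pow_one]⟩
    have hgy : g ∈ Subgroup.centralizer (Subgroup.zpowers y : Set G) := by
      refine Subgroup.mem_centralizer_iff.mpr fun q hq => ?_
      exact Subgroup.mem_centralizer_singleton_iff.mp
        (hDg ((Subgroup.zpowers_le (H := D)).mpr (z : D).2 hq))
    set e := Cfsg.Agent.Blocks.brH (Subgroup.zpowers y) (Subgroup.centralizer ({y} : Set G))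
      (hQp y hp1) (hCH y) (hHN y) (Cfsg.Agent.Blocks.bBar M B) with he
    have hee : e * e = e := by
      rw [he, ← map_mul, Cfsg.Agent.Blocks.bBar_mul_self (Cfsg.Agent.Blocks.blockCoeff_mem_loc hB)]
    obtain ⟨ξ, hξe, hξg⟩ := Cfsg.Agent.Blocks.exists_block_of_idem hM hee (g := ⟨g, hCH y hgy⟩) (by
      rw [he, Cfsg.Agent.Blocks.coe_brH, Cfsg.Agent.Blocks.coeff_resH,
        Cfsg.Agent.Blocks.coeff_trunc_of_mem _ hgy]
      exact (Cfsg.Agent.Blocks.coeff_bBar_ne_zero_iff (Cfsg.Agent.Blocks.blockCoeff_mem_loc hB) g).mpr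
        hg.2.1)
    have hb := Cfsg.Agent.Blocks.isPBlock_blockOf (M := M) ξ
    obtain ⟨B', hB'⟩ := Cfsg.Agent.Blocks.exists_inducedBlock hM (hQp y hp1) (hQH y) (hCH y) (hHN y) hb
    obtain ⟨χ', hχ'⟩ := Cfsg.Agent.Blocks.block_nonempty hB'.2.1
    rw [he, ← Cfsg.Agent.Blocks.indBar_eq_brH hM (hQp y hp1) (hQH y) (hCH y) (hHN y),
      Cfsg.Agent.Blocks.indBar_eq_of_isInducedBlock hB' (Cfsg.Agent.Blocks.self_mem_blockOf ξ) hχ',
      Cfsg.Agent.Blocks.omegaBar_bBar (Cfsg.Agent.Blocks.blockCoeff_mem_loc hB)] at hξe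
    have hBB : B' = B := Cfsg.Agent.Blocks.block_eq_of_mem hB'.2.1 hB hχ' (by
      by_contra h
      rw [if_neg h] at hξe
      exact zero_ne_one hξe)
    refine (hC y hyo _ hb fun h => hne ?_).not_ge (hlt.trans ?_)
    · have h' := (Cfsg.Agent.Blocks.third_main hM ⟨B', hB'⟩).mpr h
      rw [← hBB]
      exact Cfsg.Agent.Blocks.inducedBlock_unique hB' h'
    obtain ⟨E, hE⟩ := Cfsg.Agent.Blocks.exists_defectGroup (p := p) hb
    obtain ⟨x, hx⟩ := Cfsg.Agent.Blocks.conj_le_defect hM hb hE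
      (Q := D.subgroupOf (Subgroup.centralizer ({y} : Set G)))
      (hDp.comap_of_injective _ Subtype.val_injective) hξg (fun d hd =>
        Subgroup.mem_centralizer_singleton_iff.mpr
          (Subtype.ext (Subgroup.mem_centralizer_singleton_iff.mp (hDg hd))))
    have h := Subgroup.card_le_of_le hx
    rw [Cfsg.Agent.Blocks.card_map_conj, Cfsg.Agent.Blocks.card_subgroupOf hDy, hDcard,
      Cfsg.Agent.Blocks.card_defectGroup hM hb hE] at h
    exact (Nat.pow_le_pow_iff_right (Fact.out : p.Prime).one_lt).mp h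

end Cfsg.Agent.S4717
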