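import Cfsg.Statements.S4719
import Cfsg.Agent.Lib.Blocks.SingleBlock
import Cfsg.Agent.Lib.ClassSum.BoundedCentralizer
import Cfsg.Agent.S0917
import Cfsg.Agent.Lib.Blocks.Subgroup

set_option autoImplicit false
universe u
open Cfsg

namespace Cfsg.Agent.S4719

open Cfsg.Agent Cfsg.Agent.Blocks

universe v

/-- The centralizers of large subgroups have a single block. -/
theorem blocks_principal {G : Type v} [Group G] [Finite G] {M : Ideal AlgInt}
    (hM : IsPModular 2 M) {r : ℕ}
    (hblk : ∀ B : Set (IrrCharacter G), IsPBlock M B → B ≠ principalBlock M G → blockDefect 2 B < r)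
    {F : Subgroup G} (hF : IsPGroup 2 F) (hFc : IsMulCommutative F) (hr : 2 ^ r ≤ Nat.card F)
    {b : Set (IrrCharacter (Subgroup.centralizer (F : Set G)))} (hb : IsPBlock M b) :
    b = principalBlock M (Subgroup.centralizer (F : Set G)) := by
  haveI : Fact (Nat.Prime 2) := ⟨Nat.prime_two⟩
  haveI := isPrime_of_modular hM
  have hFX : F ≤ Subgroup.centralizer (F : Set G) := fun x hx => Subgroup.mem_centralizer_iff.mpr
    fun y hy => congrArg Subtype.val (mul_comm' (⟨y, hy⟩ : F) ⟨x, hx⟩)
  obtain ⟨B, hB⟩ := exists_inducedBlock hM hF hFX le_rfl (Subgroup.centralizer_le_normalizer _) hb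
  by_cases hBp : B = principalBlock M G
  · subst hBp
    exact (third_main hM ⟨_, hB⟩).mp hB
  exfalso
  obtain ⟨D, hD⟩ := exists_defectGroup (p := 2) hb
  obtain ⟨g, -, hDg, -, hDcard⟩ := defectGroup_spec hD
  set F' := F.subgroupOf (Subgroup.centralizer (F : Set G)) with hF'
  have hF'c : ∀ f ∈ F', ∀ x : Subgroup.centralizer (F : Set G), f * x = x * f := fun f hf x =>
    Subtype.ext (Subgroup.mem_centralizer_iff.mp x.2 (f : G) (Subgroup.mem_subgroupOf.mp hf))
  have hF'g : F' ≤ Subgroup.centralizer ({g} : Set _) := fun f hf =>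
    Subgroup.mem_centralizer_singleton_iff.mpr (hF'c f hf g)
  obtain ⟨x, hx⟩ := conj_le_of_le_centralizer hDg hDcard
    (hF.of_equiv (Subgroup.subgroupOfEquivOfLe hFX).symm) hF'g
  obtain ⟨E, hE, hDE⟩ := S0917.result 2 M hM _ b hb B hB.2.1 hB D hD
  have h1 : Nat.card F ≤ Nat.card E :=
    calc Nat.card F = Nat.card (F'.map (MulAut.conj x).toMonoidHom) := by
          rw [card_map_conj, hF', Nat.card_congr (Subgroup.subgroupOfEquivOfLe hFX).toEquiv]
      _ ≤ Nat.card D := Subgroup.card_le_of_le hx
      _ = Nat.card (D.map (Subgroup.centralizer (F : Set G)).subtype) :=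
          (Subgroup.card_map_of_injective (Subgroup.subtype_injective _)).symm
      _ ≤ Nat.card E := Subgroup.card_le_of_le hDE
  rw [card_defectGroup hM hB.2.1 hE] at h1
  have := (Nat.pow_le_pow_iff_right (by norm_num : 1 < 2)).mp (hr.trans h1)
  have := hblk B hB.2.1 hBp
  omega

theorem card_two_mul_le_sup {G : Type v} [Group G] [Finite G] (F : Subgroup G) {w : G}
    (hw : w ∉ F) : 2 * Nat.card F ≤ Nat.card (F ⊔ Subgroup.zpowers w : Subgroup G) := by
  obtain ⟨k, hk⟩ := Subgroup.card_dvd_of_le (le_sup_left : F ≤ F ⊔ Subgroup.zpowers w)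
  rcases Nat.lt_or_ge k 2 with hk2 | hk2
  · exfalso
    interval_cases k
    · exact (Nat.card_pos (α := (F ⊔ Subgroup.zpowers w : Subgroup G))).ne' (by simpa using hk)
    · refine hw ?_
      rw [Subgroup.eq_of_le_of_card_ge (le_sup_left : F ≤ F ⊔ Subgroup.zpowers w) (by simpa using hk.le)]
      exact Subgroup.mem_sup_right (Subgroup.mem_zpowers w)
  · rw [hk, mul_comm 2]
    exact Nat.mul_le_mul_left _ hk2

theorem exists_bound_centralizer (a k : ℕ) : ∃ N : ℕ, ∀ (G : Type v) [Group G] [Finite G]
    (M : Ideal AlgInt) (r : ℕ), IsPModular 2 M → (Nat.card G).factorization 2 ≤ a →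
    (∀ B : Set (IrrCharacter G), IsPBlock M B → B ≠ principalBlock M G → blockDefect 2 B < r) →
    ∀ E : Subgroup G, IsMulCommutative E → (∀ x ∈ E, x * x = 1) → Nat.card E = 2 ^ (r + 1) →
    ∀ F ≤ E, Nat.card E ≤ 2 ^ (k + 1) * Nat.card F →
      Nat.card (Subgroup.centralizer (F : Set G)) ≤ N := by
  haveI : Fact (Nat.Prime 2) := ⟨Nat.prime_two⟩
  induction k with
  | zero =>
    obtain ⟨N, hN⟩ := exists_bound_of_single_block.{v} 2 a
    refine ⟨N, fun G _ _ M r hM ha hblk E hEc hE2 hEcard F hFE hle => hN _ M hM ?_ ?_⟩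
    · exact le_trans ((Nat.factorization_le_iff_dvd Nat.card_pos.ne' Nat.card_pos.ne').mpr
        (Subgroup.card_subgroup_dvd_card _) 2) ha
    · refine fun b hb => blocks_principal hM hblk (r := r) (fun f => ⟨1, Subtype.ext ?_⟩) ?_ ?_ hb
      · simpa [pow_two] using hE2 f (hFE f.2)
      · exact ⟨⟨fun x y => Subtype.ext (congrArg (fun z : E => (z : G))
          (mul_comm' (⟨x, hFE x.2⟩ : E) ⟨y, hFE y.2⟩) :)⟩⟩
      · rw [hEcard, zero_add, pow_one, pow_succ, mul_comm 2] at hle
        exact Nat.le_of_mul_le_mul_right hle (by norm_num)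
  | succ k ih =>
    obtain ⟨N₀, hN₀⟩ := ih
    obtain ⟨N₁, hN₁⟩ := BoundedCent.exists_bound.{v} a (2 ^ a * N₀)
    refine ⟨N₀ + N₁ * 2 ^ a, fun G _ _ M r hM ha hblk E hEc hE2 hEcard F hFE hle => ?_⟩
    have hN := hN₀ G M r hM ha hblk E hEc hE2 hEcard
    by_cases hsmall : Nat.card E ≤ 2 ^ (k + 1) * Nat.card F
    · exact (hN F hFE hsmall).trans (Nat.le_add_right _ _)
    push Not at hsmall
    have hcomm : ∀ x ∈ E, ∀ y ∈ E, x * y = y * x := fun x hx y hy =>
      congrArg Subtype.val (mul_comm' (⟨x, hx⟩ : E) ⟨y, hy⟩)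
    obtain ⟨u, huE, huF⟩ : ∃ u ∈ E, u ∉ F := by
      by_contra h
      push Not at h
      have := Subgroup.card_le_of_le (show E ≤ F from h)
      have := Nat.le_mul_of_pos_left (Nat.card F) (Nat.two_pow_pos (k + 1))
      omega
    obtain ⟨v, hvE, hvF⟩ : ∃ v ∈ E, v ∉ F ⊔ Subgroup.zpowers u := by
      by_contra h
      push Not at h
      have h1 := Subgroup.card_le_of_le (show E ≤ F ⊔ Subgroup.zpowers u from h)
      have h2 : Nat.card (F ⊔ Subgroup.zpowers u : Subgroup G) ≤ 2 * Nat.card F := by
        let f : F × Fin 2 → (F ⊔ Subgroup.zpowers u : Subgroup G) := fun q =>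
          ⟨(q.1 : G) * u ^ (q.2 : ℕ), Subgroup.mul_mem_sup q.1.2
            (Subgroup.pow_mem _ (Subgroup.mem_zpowers u) _)⟩
        refine (Nat.card_le_card_of_surjective f fun y => ?_).trans_eq ?_
        · obtain ⟨y, hy⟩ := y
          rw [Subgroup.sup_eq_closure] at hy
          have : ∀ z ∈ Subgroup.closure ((F : Set G) ∪ Subgroup.zpowers u),
              ∃ q : F × Fin 2, (q.1 : G) * u ^ (q.2 : ℕ) = z := by
            intro z hz
            induction hz using Subgroup.closure_induction with
            | mem z hz =>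
              rcases hz with hz | hz
              · exact ⟨(⟨z, hz⟩, 0), by simp⟩
              · obtain ⟨i, hi⟩ := Subgroup.mem_zpowers_iff.mp hz
                refine ⟨(1, ⟨(i % 2).toNat, by omega⟩), ?_⟩
                have hu2 : u ^ (2 : ℤ) = 1 := by rw [zpow_two, hE2 u huE]
                simp only [OneMemClass.coe_one, one_mul]
                rw [← zpow_natCast, Int.toNat_of_nonneg (Int.emod_nonneg i (by norm_num)), ← hi]
                conv_rhs => rw [← Int.mul_ediv_add_emod i 2, zpow_add, zpow_mul, hu2, one_zpow, one_mul]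
            | one => exact ⟨(1, 0), by simp⟩
            | mul z z' _ _ hz hz' =>
              obtain ⟨⟨f1, i⟩, rfl⟩ := hz
              obtain ⟨⟨f2, j⟩, rfl⟩ := hz'
              refine ⟨(f1 * f2, i + j), ?_⟩
              have hc : Commute (u ^ (i : ℕ)) (f2 : G) :=
                (show Commute u (f2 : G) from hcomm u huE f2 (hFE f2.2)).pow_left _
              have hp : u ^ (((i + j : Fin 2) : ℕ)) = u ^ (i : ℕ) * u ^ (j : ℕ) := by
                fin_cases i <;> fin_cases j <;> simp [hE2 u huE]
              simp only [Subgroup.coe_mul, hp]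
              rw [mul_assoc, ← mul_assoc (f2 : G), ← hc.eq]
              group
            | inv z _ hz =>
              obtain ⟨⟨f1, i⟩, rfl⟩ := hz
              refine ⟨(f1⁻¹, i), ?_⟩
              have hc : Commute (u ^ (i : ℕ)) (f1 : G)⁻¹ :=
                ((show Commute u (f1 : G) from hcomm u huE f1 (hFE f1.2)).pow_left _).inv_right
              have hp : (u ^ (i : ℕ))⁻¹ = u ^ (i : ℕ) :=
                inv_eq_of_mul_eq_one_right (by fin_cases i <;> simp [hE2 u huE])
              simp only [Subgroup.coe_inv, mul_inv_rev, hp]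
              exact hc.eq.symm
          obtain ⟨q, hq⟩ := this y hy
          exact ⟨q, Subtype.ext hq⟩
        · rw [Nat.card_prod, Nat.card_eq_fintype_card (α := Fin 2), Fintype.card_fin, mul_comm]
      have : 2 * Nat.card F ≤ 2 ^ (k + 1) * Nat.card F :=
        Nat.mul_le_mul_right _ (Nat.le_self_pow (Nat.succ_ne_zero k) 2)
      omega
    set X := Subgroup.centralizer (F : Set G)
    have hEX : E ≤ X := fun x hx => Subgroup.mem_centralizer_iff.mpr
      fun y hy => hcomm y (hFE hy) x hx
    set F' := F.subgroupOf X with hF'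
    haveI : F'.Normal := ⟨fun f hf x => by
      have e : x * f = f * x := Subtype.ext
        (Subgroup.mem_centralizer_iff.mp x.2 (f : G) (Subgroup.mem_subgroupOf.mp hf)).symm
      rwa [e, mul_inv_cancel_right]⟩
    have hFcard : Nat.card F' = Nat.card F :=
      Nat.card_congr (Subgroup.subgroupOfEquivOfLe (hFE.trans hEX)).toEquiv
    have hE2a : Nat.card E ≤ 2 ^ a := by
      rw [hEcard]
      refine Nat.pow_le_pow_right (by norm_num) (le_trans ?_ ha)
      exact (Nat.prime_two.pow_dvd_iff_le_factorization Nat.card_pos.ne').mp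
        (hEcard ▸ Subgroup.card_subgroup_dvd_card E)
    have hFa : Nat.card F' ≤ 2 ^ a := hFcard ▸ (Subgroup.card_le_of_le hFE).trans hE2a
    let q : ∀ w ∈ E, X ⧸ F' := fun w hw => ((⟨w, hEX hw⟩ : X) : X ⧸ F')
    have hord : ∀ w (hw : w ∈ E), w ∉ F → orderOf (q w hw) = 2 := by
      intro w hw hwF
      refine Invol.orderOf_two_of_mul_self ?_ fun h => hwF ?_
      · show ((_ : X) : X ⧸ F') * _ = 1
        rw [← QuotientGroup.mk_mul, QuotientGroup.eq_one_iff]
        exact Subgroup.mem_subgroupOf.mpr (by simp [hE2 w hw])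
      · exact Subgroup.mem_subgroupOf.mp ((QuotientGroup.eq_one_iff _).mp h)
    have hcen : ∀ w (hw : w ∈ E), w ∉ F →
        Nat.card (Subgroup.centralizer ({q w hw} : Set (X ⧸ F'))) ≤ 2 ^ a * N₀ := by
      intro w hw hwF
      refine (BoundedCent.card_centralizer_mk_le F' _).trans (Nat.mul_le_mul hFa ?_)
      refine le_trans ?_ (hN (F ⊔ Subgroup.zpowers w) (sup_le hFE (Subgroup.zpowers_le.mpr hw)) ?_)
      · refine Nat.card_le_card_of_injective (fun c => ⟨((c : X) : G), ?_⟩) fun c c' h =>
          Subtype.ext (Subtype.ext (congrArg Subtype.val h :))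
        have hw' := Subgroup.mem_centralizer_singleton_iff.mp c.2
        have hle : F ⊔ Subgroup.zpowers w ≤ Subgroup.centralizer ({((c : X) : G)} : Set G) :=
          sup_le (fun f hf => Subgroup.mem_centralizer_singleton_iff.mpr
              (Subgroup.mem_centralizer_iff.mp (c : X).2 f hf))
            (Subgroup.zpowers_le.mpr (Subgroup.mem_centralizer_singleton_iff.mpr
              (congrArg Subtype.val hw').symm))
        exact Subgroup.mem_centralizer_iff.mpr fun y hy =>
          Subgroup.mem_centralizer_singleton_iff.mp (hle hy)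
      · refine hle.trans ?_
        rw [pow_succ, mul_assoc]
        exact Nat.mul_le_mul_left _ (card_two_mul_le_sup F hwF)
    have hvF' : v ∉ F := fun h => hvF (Subgroup.mem_sup_left h)
    have huvE : u * v ∈ E := E.mul_mem huE hvE
    have huvF : u * v ∉ F := fun h => hvF (by
      have := Subgroup.mul_mem_sup h (Subgroup.mem_zpowers u)
      rwa [hcomm u huE v hvE, mul_assoc, hE2 u huE, mul_one] at this)
    have hne : q u huE ≠ q v hvE := fun h => by
      have h' := Subgroup.mem_subgroupOf.mp (QuotientGroup.eq.mp h)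
      apply huvF
      have hinv : u⁻¹ = u := Invol.inv_eq_self_of_mul_self (hE2 u huE)
      simpa [hinv] using h'
    have hmul : q (u * v) huvE = q u huE * q v hvE := rfl
    have hb := hN₁ (X ⧸ F')
      (le_trans ((Nat.factorization_le_iff_dvd Nat.card_pos.ne' Nat.card_pos.ne').mpr
        ((Subgroup.card_quotient_dvd_card F').trans (Subgroup.card_subgroup_dvd_card X)) 2) ha)
      (q u huE) (q v hvE) (hord u huE huF) (hord v hvE hvF')
      (by show ((_ : X) : X ⧸ F') * _ = _
          rw [← QuotientGroup.mk_mul]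
          exact congrArg _ (Subtype.ext (hcomm u huE v hvE)))
      hne (hcen u huE huF) (hcen v hvE hvF') (hmul ▸ hcen _ huvE huvF)
    rw [Subgroup.card_eq_card_quotient_mul_card_subgroup F']
    exact le_trans (Nat.mul_le_mul hb hFa) (Nat.le_add_left _ _)

/-- For every natural number a there is a bound N with the following property. Let G be a finite group with Sylow 2-subgroups of order 2^a and r ≥ 0 such that G has no non-principal 2-block (relative to a maximal ideal of the algebraic integers containing 2) of defect ≥ r, and suppose a Sylow 2-subgroup of G contains an elementary abelian subgroup of order 2^(r+1). Then the order of G is at most N. -/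
theorem result (a : ℕ) : ∃ N : ℕ, ∀ (G : Type u) [Group G] [Finite G] (M : Ideal Cfsg.AlgInt) (r : ℕ) (P : Sylow 2 G), Cfsg.IsPModular 2 M → Nat.card P = 2 ^ a → (∀ B : Set (Cfsg.IrrCharacter G), Cfsg.IsPBlock M B → B ≠ Cfsg.principalBlock M G → Cfsg.blockDefect 2 B < r) → (∃ E : Subgroup G, E ≤ (P : Subgroup G) ∧ IsMulCommutative E ∧ (∀ x ∈ E, x * x = 1) ∧ Nat.card E = 2 ^ (r + 1)) → Nat.card G ≤ N := by
  obtain ⟨N, hN⟩ := exists_bound_centralizer.{u} a a
  refine ⟨N, fun G _ _ M r P hM hP hblk ⟨E, hEP, hEc, hE2, hEcard⟩ => ?_⟩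
  haveI : Fact (Nat.Prime 2) := ⟨Nat.prime_two⟩
  have ha : (Nat.card G).factorization 2 = a :=
    Nat.pow_right_injective le_rfl (P.card_eq_multiplicity.symm.trans hP)
  have h := hN G M r hM ha.le hblk E hEc hE2 hEcard ⊥ bot_le ?_
  · have : Subgroup.centralizer ((⊥ : Subgroup G) : Set G) = ⊤ :=
      (Subgroup.eq_top_iff' _).mpr fun x => Subgroup.mem_centralizer_iff.mpr (by simp)
    rwa [this, Subgroup.card_top] at h
  · rw [Subgroup.card_bot, mul_one]
    calc Nat.card E ≤ Nat.card P := Subgroup.card_le_of_le hEP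
      _ = 2 ^ a := hP
      _ ≤ 2 ^ (a + 1) := Nat.pow_le_pow_right (by norm_num) (Nat.le_succ a)

end Cfsg.Agent.S4719
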