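import Cfsg.Statements.S4720
import Cfsg.Agent.Lib.Blocks.Section
import Cfsg.Agent.Lib.Blocks.Orthogonality
import Cfsg.Agent.Lib.CT.Induced

set_option autoImplicit false
open Cfsg

namespace Cfsg.Agent.S4720

open scoped ComplexConjugate
open Cfsg.Agent Cfsg.Agent.Blocks

/-- Let p be a prime, M a maximal ideal of the algebraic integers containing p, P a p-subgroup of the finite group G, N a subgroup with P ≤ N ≤ N_G(P), and U a nonempty subset of P normalized by N such that an element of U and an element of P that are conjugate in G are already conjugate in N, and such that λ(C_G(y)) = w·#C_N(y) for every y ∈ U with one rational number w, where λ(X) denotes the sum of the squares of the degrees of the irreducible characters in the principal p-block of X. For a complex function θ on P and χ in the principal block of G put a_χ(θ) = #P⁻¹ Σ_{y ∈ P} χ(y) θ(y⁻¹). Then for generalized characters θ, η of P with θ vanishing outside U, Σ_χ a_χ(θ)·conj(a_χ(η))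 = (w/#P²)·Σ_{y ∈ P} θ(y)·conj(Σ_{x ∈ N} η(x y x⁻¹)) (η extended by zero off P; the conjugates lie in P), the first sum over the principal p-block of G. -/
theorem result {G : Type*} [Group G] [Finite G] (p : ℕ) [Fact p.Prime] (M : Ideal Cfsg.AlgInt) (hM : Cfsg.IsPModular p M) (P : Subgroup G) (hP : IsPGroup p P) (N : Subgroup G) (hPN : P ≤ N) (hNN : N ≤ Subgroup.normalizer (P : Set G)) (U : Set G) (hUne : U.Nonempty) (hUP : U ⊆ (P : Set G)) (hUN : ∀ n ∈ N, ∀ u ∈ U, n * u * n⁻¹ ∈ U) (hfus : ∀ u ∈ U, ∀ g : G, g * u * g⁻¹ ∈ (P : Set G) → ∃ n ∈ N, n * u * n⁻¹ = g * u * g⁻¹) (w : ℚ) (hw : ∀ y ∈ U, ((∑ᶠ ψ ∈ Cfsg.principalBlock M ↥(Subgroup.centralizer ({y} : Set G)), Cfsg.charDegree (ψ : ↥(Subgroup.centralizer ({y} : Set G)) → ℂ) ^ 2) : ℚ) = w * Nat.card ↥(N ⊓ Subgroup.centralizer ({y} : Set G))) (θ η : ↥P → ℂ) (hθ : Cfsg.IsGeneralizedCharacter ↥P θ) (hη : Cfsg.IsGeneralizedCharacter ↥P η) (hθU : ∀ y : ↥P, (y : G) ∉ U → θ y = 0) : ∑ᶠ χ ∈ Cfsg.principalBlock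 M G, ((Nat.card ↥P : ℂ)⁻¹ * ∑ᶠ y : ↥P, (χ : G → ℂ) (y : G) * θ y⁻¹) * (starRingEnd ℂ) ((Nat.card ↥P : ℂ)⁻¹ * ∑ᶠ y : ↥P, (χ : G → ℂ) (y : G) * η y⁻¹) = ((w : ℂ) / ((Nat.card ↥P : ℂ) ^ 2)) * ∑ᶠ y : ↥P, θ y * (starRingEnd ℂ) (∑ᶠ x : ↥N, Cfsg.extendByZero P η ((x : G) * (y : G) * (x : G)⁻¹)) := by
  classical
  haveI := Fintype.ofFinite G
  haveI := Fintype.ofFinite ↥P
  haveI := Fintype.ofFinite ↥N
  haveI := isPrime_of_modular hM
  set B := principalBlock M G with hBdef
  have hB : IsPBlock M B := isPBlock_principalBlock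
  have hA := blockCoeff_mem_loc hB
  have hpow : ∀ y ∈ P, ∃ k : ℕ, y ^ p ^ k = 1 := fun y hy => by
    obtain ⟨k, hk⟩ := hP ⟨y, hy⟩
    exact ⟨k, by simpa using congrArg Subtype.val hk⟩
  have hgen : ∀ {f : ↥P → ℂ}, IsGeneralizedCharacter ↥P f →
      ∀ y : ↥P, (starRingEnd ℂ) (f y) = f y⁻¹ := by
    intro f hf y
    obtain ⟨c1, c2, h1, h2, rfl⟩ := hf
    simp [CT.char_inv_eq_conj h1, CT.char_inv_eq_conj h2]
  have hchar : ∀ (χ : IrrCharacter G) (g : G), (starRingEnd ℂ) ((χ : G → ℂ) g) = (χ : G → ℂ) g⁻¹ :=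
    fun χ g => (CT.char_inv_eq_conj (CT.isCharacter_of_isIrr χ.2) g).symm
  let T : G → G → ℂ := fun y z => ∑ᶠ χ ∈ B, (χ : G → ℂ) y * (starRingEnd ℂ) ((χ : G → ℂ) z)
  have hT0 : ∀ y z : ↥P, ¬ IsConj (y : G) (z : G) → T y z = 0 := fun y z h =>
    block_orthogonality hM hA (isPPart_self (hpow _ y.2)) (isPPart_self (hpow _ z.2)) h
  have hS : ∀ u ∈ U, ∀ v : G, IsConj u v →
      T u⁻¹ v⁻¹ = (w : ℂ) * (Nat.card ↥(N ⊓ Subgroup.centralizer ({u} : Set G)) : ℂ) := by
    intro u hu v huv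
    have h1 : T u⁻¹ v⁻¹ =
        ((∑ᶠ χ ∈ B, ‖(χ : G → ℂ) (u * ((1 : Subgroup.centralizer ({u} : Set G)) : G))‖ ^ 2 : ℝ) : ℂ) := by
      simp only [T]
      rw [finsum_mem_irr, finsum_mem_eq_toFinset_sum, Complex.ofReal_sum]
      symm
      refine (Finset.sum_subset_zero_on_sdiff (Finset.subset_univ _) (fun η hη => ?_)
        fun η hη => ?_)
      · simp only [Finset.mem_sdiff, Finset.mem_univ, Set.mem_toFinset, true_and] at hη
        rw [if_neg hη]
      · rw [if_pos (Set.mem_toFinset.mp hη), OneMemClass.coe_one, mul_one, ← hchar, ← hchar,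
          Complex.conj_conj, CT.isClassFunction_isConj (CT.isClassFunction_of_isIrr η.2) huv,
          mul_comm, Complex.mul_conj, Complex.normSq_eq_norm_sq]
    rw [h1, section_sums hM (hpow u (hUP hu))
      (by rw [orderOf_one]; exact hM.1.not_dvd_one)]
    set C := Subgroup.centralizer ({u} : Set G)
    have h2 := congrArg (fun q : ℚ => (q : ℂ)) (hw u hu)
    simp only [Rat.cast_mul, Rat.cast_natCast] at h2
    rw [← h2]
    simp only [finsum_mem_eq_toFinset_sum, Complex.ofReal_sum, Nat.cast_sum, Rat.cast_sum,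
      Nat.cast_pow, Rat.cast_pow, Rat.cast_natCast]
    refine Finset.sum_congr rfl fun η _ => ?_
    rw [charDegree_cast]
    simp
  -- expand the left hand side
  have hexp : ∑ᶠ χ ∈ B, ((Nat.card ↥P : ℂ)⁻¹ * ∑ᶠ y : ↥P, (χ : G → ℂ) (y : G) * θ y⁻¹) *
      (starRingEnd ℂ) ((Nat.card ↥P : ℂ)⁻¹ * ∑ᶠ y : ↥P, (χ : G → ℂ) (y : G) * η y⁻¹) =
      ((Nat.card ↥P : ℂ) ^ 2)⁻¹ * ∑ y : ↥P, ∑ z : ↥P,
        θ y * (starRingEnd ℂ) (η z) * T (y : G)⁻¹ (z : G)⁻¹ := by
    simp only [T, finsum_mem_irr]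
    simp only [finsum_eq_sum_of_fintype]
    simp only [Finset.mul_sum]
    conv_rhs => arg 2; ext y; rw [Finset.sum_comm]
    conv_rhs => rw [Finset.sum_comm]
    refine Finset.sum_congr rfl fun χ _ => ?_
    split_ifs with hχ
    · rw [map_sum, Finset.sum_mul]
      refine Fintype.sum_equiv (Equiv.inv ↥P) _ _ fun y => ?_
      rw [Finset.mul_sum]
      refine Fintype.sum_equiv (Equiv.inv ↥P) _ _ fun z => ?_
      simp only [Equiv.inv_apply, Subgroup.coe_inv, inv_inv, map_mul, map_inv₀, map_natCast]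
      ring
    · simp
  rw [hexp, div_eq_inv_mul, mul_assoc]
  congr 1
  rw [finsum_eq_sum_of_fintype, Finset.mul_sum]
  refine Finset.sum_congr rfl fun y _ => ?_
  by_cases hyU : (y : G) ∈ U
  swap
  · simp [hθU y hyU]
  have hconj : ∀ z : ↥P, IsConj (y : G) (z : G) →
      ∃ n ∈ N, n * (y : G) * n⁻¹ = (z : G) := fun z h => by
    obtain ⟨g, hg⟩ := isConj_iff.mp h
    obtain ⟨n, hn, hn'⟩ := hfus _ hyU g (hg ▸ z.2)
    exact ⟨n, hn, hn'.trans hg⟩
  let c : ↥N → ↥P := fun x => ⟨(x : G) * (y : G) * (x : G)⁻¹,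
    (Subgroup.mem_normalizer_iff.mp (hNN x.2) (y : G)).mp y.2⟩
  have hfib : ∀ z : ↥P, θ y * (starRingEnd ℂ) (η z) * T (y : G)⁻¹ (z : G)⁻¹ =
      ∑ x ∈ Finset.univ.filter (fun x => c x = z), (w : ℂ) * (θ y * (starRingEnd ℂ) (η (c x))) := by
    intro z
    by_cases hz : IsConj (y : G) (z : G)
    · obtain ⟨n, hn, hnz⟩ := hconj z hz
      have hcz : c ⟨n, hn⟩ = z := Subtype.ext hnz
      rw [hS _ hyU _ hz, Finset.sum_congr rfl fun x hx => by rw [(Finset.mem_filter.mp hx).2],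
        Finset.sum_const, nsmul_eq_mul]
      have hcard : (Finset.univ.filter (fun x => c x = z)).card =
          Nat.card ↥(N ⊓ Subgroup.centralizer ({(y : G)} : Set G)) := by
        rw [← Fintype.card_subtype, ← Nat.card_eq_fintype_card]
        refine Nat.card_congr
          { toFun := fun x => ⟨n⁻¹ * (x.1 : G), N.mul_mem (N.inv_mem hn) x.1.2, ?_⟩
            invFun := fun h => ⟨⟨n * (h : G), N.mul_mem hn h.2.1⟩, ?_⟩
            left_inv := fun x => by ext; simp
            right_inv := fun h => by ext; simp }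
        · have e : (x.1 : G) * (y : G) * (x.1 : G)⁻¹ = n * (y : G) * n⁻¹ :=
            (congrArg Subtype.val x.2).trans hnz.symm
          refine Subgroup.mem_centralizer_singleton_iff.mpr ?_
          calc n⁻¹ * (x.1 : G) * (y : G) = n⁻¹ * ((x.1 : G) * (y : G) * (x.1 : G)⁻¹) * x.1 := by group
            _ = n⁻¹ * (n * (y : G) * n⁻¹) * x.1 := by rw [e]
            _ = (y : G) * (n⁻¹ * x.1) := by group
        · refine Subtype.ext ?_
          show n * (h : G) * (y : G) * (n * (h : G))⁻¹ = (z : G)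
          have e := Subgroup.mem_centralizer_singleton_iff.mp h.2.2
          calc n * (h : G) * (y : G) * (n * (h : G))⁻¹
              = n * ((h : G) * (y : G)) * (h : G)⁻¹ * n⁻¹ := by group
            _ = n * ((y : G) * (h : G)) * (h : G)⁻¹ * n⁻¹ := by rw [e]
            _ = n * (y : G) * n⁻¹ := by group
            _ = z := hnz
      rw [hcard]
      ring
    · have hne : ¬ IsConj ((y⁻¹ : ↥P) : G) ((z⁻¹ : ↥P) : G) := fun h => hz (by
        obtain ⟨g, hg⟩ := isConj_iff.mp h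
        refine isConj_iff.mpr ⟨g, inv_injective ?_⟩
        rw [conj_inv]
        simpa using hg)
      have h0 := hT0 y⁻¹ z⁻¹ hne
      simp only [Subgroup.coe_inv] at h0
      rw [h0, mul_zero]
      symm
      refine Finset.sum_eq_zero fun x hx => ?_
      exact absurd (isConj_iff.mpr ⟨(x : G), congrArg Subtype.val (Finset.mem_filter.mp hx).2⟩) hz
  rw [Finset.sum_congr rfl fun z _ => hfib z, Finset.sum_fiberwise, finsum_eq_sum_of_fintype,
    map_sum, Finset.mul_sum, Finset.mul_sum]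
  refine Finset.sum_congr rfl fun x _ => ?_
  rw [show extendByZero P η ((x : G) * (y : G) * (x : G)⁻¹) = η (c x) from
    CT.extendByZero_mem P η (c x).2]

end Cfsg.Agent.S4720
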