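import Cfsg.Statements.S4722
import Cfsg.Agent.Lib.Blocks.Normal
import Cfsg.Agent.Lib.Blocks.Orthogonality
import Cfsg.Agent.Lib.ClassSum.Basic
import Cfsg.Agent.Lib.CT.Kernel
import Cfsg.Agent.Lib.ClassSum.Codegree
import Cfsg.Agent.Lib.Basics.Cores

set_option autoImplicit false
open Cfsg

namespace Cfsg.Agent.S4722

open scoped ComplexConjugate
open Cfsg.Agent Cfsg.Agent.Blocks

universe u

variable {G : Type u} [Group G]

theorem real_of_invol [Finite G] {t : G} (ht : t * t = 1) (χ : IrrCharacter G) :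
    conj ((χ : G → ℂ) t) = (χ : G → ℂ) t := by
  rw [← CT.char_inv_eq_conj (CT.isCharacter_of_isIrr χ.2), inv_eq_of_mul_eq_one_left ht]

theorem sq_sum_vanish [Fintype G] {M : Ideal AlgInt} [M.IsPrime] (hM : IsPModular 2 M)
    {B : Set (IrrCharacter G)} (hB : ∀ u, blockCoeff B u ∈ Loc M)
    {t y : G} (ht : t * t = 1) (hy : ∃ k : ℕ, y ^ 2 ^ k = 1)
    (hinv : ∀ g : G, (g * t * g⁻¹) * y * (g * t * g⁻¹)⁻¹ ≠ y⁻¹) :
    ∑ᶠ χ ∈ B, (χ : G → ℂ) y * ((χ : G → ℂ) t ^ 2 / (χ : G → ℂ) 1) = 0 := by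
  classical
  haveI : Fact (Nat.Prime 2) := ⟨Nat.prime_two⟩
  set F : IrrCharacter G → ℂ := fun χ => (χ : G → ℂ) t ^ 2 / (χ : G → ℂ) 1 with hF
  let f : G → ℂ := fun v => ∑ ψ : IrrCharacter G, F ψ * (ψ : G → ℂ) v
  have hfz : ∀ v w : G, IsPPart 2 v w → IsConj y w → f v = 0 := by
    intro v w hw hyw
    set K : ℂ := (Nat.card {g : G // IsConj t g} : ℂ) with hKdef
    have hK : K ≠ 0 :=
      Nat.cast_ne_zero.mpr (Nat.card_pos_iff.mpr ⟨⟨⟨t, IsConj.refl t⟩⟩, inferInstance⟩).ne'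
    have h := ClassSum.sum_char_omega_conj (ClassSum.classInd_isClassWeight t) t v⁻¹
    have hz : ∀ g, (ClassSum.classInd t g : ℂ) * (ClassSum.classInd v⁻¹ (t * g) : ℂ) = 0 := by
      intro g
      by_cases hg : IsConj t g
      · by_cases hv : IsConj v⁻¹ (t * g)
        · exfalso
          obtain ⟨c, hc⟩ := isConj_iff.mp hv.symm
          obtain ⟨d, hd⟩ := isConj_iff.mp hg
          have hgg : g * g = 1 := by
            rw [← hd, conj_mul, ht, mul_one, mul_inv_cancel]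
          set a := c * t * c⁻¹ with ha
          have hav : a * v * a⁻¹ = v⁻¹ := by
            have e : v = c * (g * t) * c⁻¹ := by
              rw [← inv_inv v, ← hc, mul_inv_rev, mul_inv_rev, inv_inv,
                mul_inv_rev, inv_eq_of_mul_eq_one_left ht, inv_eq_of_mul_eq_one_left hgg]
              group
            have hti : t⁻¹ = t := inv_eq_of_mul_eq_one_left ht
            rw [← hc, e, ha]
            calc c * t * c⁻¹ * (c * (g * t) * c⁻¹) * (c * t * c⁻¹)⁻¹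
                = c * (t * g * (t * t⁻¹)) * c⁻¹ := by group
              _ = c * (t * g) * c⁻¹ := by group
          obtain ⟨w', hw', hmem⟩ := exists_isPPart (p := 2) v
          have hwe : w' = w := ppart_unique hw' hw
          subst hwe
          obtain ⟨n, hn⟩ := hmem
          have haw : a * w' * a⁻¹ = w'⁻¹ := by
            simp only at hn
            rw [← hn, ← conj_zpow, hav, inv_zpow]
          obtain ⟨e, he⟩ := isConj_iff.mp hyw
          refine hinv (e⁻¹ * c) ?_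
          rw [show e⁻¹ * c * t * (e⁻¹ * c)⁻¹ = e⁻¹ * a * e by rw [ha]; group]
          calc e⁻¹ * a * e * y * (e⁻¹ * a * e)⁻¹ = e⁻¹ * (a * (e * y * e⁻¹) * a⁻¹) * e := by group
            _ = e⁻¹ * (a * w' * a⁻¹) * e := by rw [he]
            _ = e⁻¹ * w'⁻¹ * e := by rw [haw]
            _ = y⁻¹ := by rw [← he]; group
        · simp [ClassSum.classInd_neg hv]
      · simp [ClassSum.classInd_neg hg]
    rw [Finset.sum_eq_zero fun g _ => hz g, mul_zero] at h
    have e : K * f v = 0 := by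
      rw [← h, Finset.mul_sum]
      refine Finset.sum_congr rfl fun χ _ => ?_
      rw [ClassSum.omega_classInd _ (CT.isClassFunction_of_isIrr χ.2),
        CT.char_inv_eq_conj (CT.isCharacter_of_isIrr χ.2), Complex.conj_conj, ← hKdef]
      simp only [hF]
      ring
    exact (mul_eq_zero.mp e).resolve_left hK
  have hrow : ∀ χ : IrrCharacter G, (Nat.card G : ℂ) * F χ =
      ∑ v, f v * conj ((χ : G → ℂ) v) := by
    intro χ
    simp only [f, Finset.sum_mul, mul_assoc]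
    rw [Finset.sum_comm]
    simp only [← Finset.mul_sum]
    have : ∀ ψ : IrrCharacter G, ∑ v, (ψ : G → ℂ) v * conj ((χ : G → ℂ) v) =
        (Nat.card G : ℂ) * if ψ = χ then 1 else 0 := by
      intro ψ
      rw [← CT.irr_inner_subtype ψ χ, classInner, mul_inv_cancel_left₀ CT.card_ne_zero]
    rw [Finset.sum_congr rfl fun ψ _ => congrArg (F ψ * ·) (this ψ)]
    simp [mul_comm]
  apply mul_left_cancel₀ (CT.card_ne_zero (G := G))
  rw [finsum_mem_irr, mul_zero, Finset.mul_sum]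
  have h1 : ∀ χ : IrrCharacter G,
      (Nat.card G : ℂ) * (if χ ∈ B then (χ : G → ℂ) y * F χ else 0) =
      ∑ v, f v * (if χ ∈ B then (χ : G → ℂ) y * conj ((χ : G → ℂ) v) else 0) := by
    intro χ
    split_ifs
    · rw [mul_left_comm, hrow, Finset.mul_sum]
      exact Finset.sum_congr rfl fun v _ => by ring
    · simp
  rw [Finset.sum_congr rfl fun χ _ => h1 χ, Finset.sum_comm]
  refine Finset.sum_eq_zero fun v _ => ?_
  obtain ⟨w, hw, -⟩ := exists_isPPart (p := 2) v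
  by_cases hyw : IsConj y w
  · simp [hfz v w hw hyw]
  · rw [← Finset.mul_sum, ← finsum_mem_irr, block_orthogonality hM hB (isPPart_self hy) hw hyw,
      mul_zero]

/-- If three weighted moments of a real function vanish and only one weight is positive, the
function is constant on the support. -/
theorem moments {ι : Type*} [Fintype ι] (w v : ι → ℝ) (h0 : ∑ i, w i = 0)
    (h1 : ∑ i, w i * v i = 0) (h2 : ∑ i, w i * v i ^ 2 = 0) {i₀ : ι}
    (hneg : ∀ i, i ≠ i₀ → w i ≤ 0) {i : ι} (hi : w i ≠ 0) : v i = v i₀ := by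
  have hs : ∑ j, -(w j * (v j - v i₀) ^ 2) = 0 := by
    rw [Finset.sum_neg_distrib, neg_eq_zero]
    have : ∀ j, w j * (v j - v i₀) ^ 2 = w j * v j ^ 2 - (2 * v i₀) * (w j * v j) +
        v i₀ ^ 2 * w j := fun j => by ring
    rw [Finset.sum_congr rfl fun j _ => this j, Finset.sum_add_distrib, Finset.sum_sub_distrib,
      ← Finset.mul_sum, ← Finset.mul_sum, h0, h1, h2]
    ring
  have := (Finset.sum_eq_zero_iff_of_nonneg fun j _ => ?_).mp hs i (Finset.mem_univ i)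
  · simpa [hi, sub_eq_zero] using this
  · by_cases hj : j = i₀
    · simp [hj]
    · exact neg_nonneg.mpr (mul_nonpos_of_nonpos_of_nonneg (hneg j hj) (sq_nonneg _))

/-- Let M be a maximal ideal of the algebraic integers containing 2, P a 2-subgroup of the finite group G, U a subset of P, and t an involution of G such that no element of U is inverted by any conjugate of t. Let θ be a generalized character of P vanishing outside U, and for χ in the principal 2-block B₀ put a_χ = #P⁻¹ Σ_{y ∈ P} χ(y) θ(y⁻¹). Then Σ_{χ ∈ B₀} a_χ χ(t)^2/χ(1) = 0, Σ_{χ ∈ B₀} a_χ χ(1) = 0 and Σ_{χ ∈ B₀} a_χ χ(t) = 0. If moreover #P⁻¹ Σ_{y ∈ P} θ(y) ≠ 0, then either at least two of the a_χ have positive real part and at least two have negative real part, or G has a proper normal subgroup containing O_2'(G) and t. -/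
theorem result {G : Type*} [Group G] [Finite G] (M : Ideal Cfsg.AlgInt) (hM : Cfsg.IsPModular 2 M) (P : Subgroup G) (hP : IsPGroup 2 P) (U : Set G) (hUP : U ⊆ (P : Set G)) (t : G) (ht : orderOf t = 2) (hinv : ∀ u ∈ U, ∀ g : G, (g * t * g⁻¹) * u * (g * t * g⁻¹)⁻¹ ≠ u⁻¹) (θ : ↥P → ℂ) (hθ : Cfsg.IsGeneralizedCharacter ↥P θ) (hθU : ∀ y : ↥P, (y : G) ∉ U → θ y = 0) : (∑ᶠ χ ∈ Cfsg.principalBlock M G, ((Nat.card ↥P : ℂ)⁻¹ * ∑ᶠ y : ↥P, (χ : G → ℂ) (y : G) * θ y⁻¹) * (χ : G → ℂ) t ^ 2 / (χ : G → ℂ) 1 = 0) ∧ (∑ᶠ χ ∈ Cfsg.principalBlock M G, ((Nat.card ↥P : ℂ)⁻¹ * ∑ᶠ y : ↥P, (χ : G → ℂ) (y : G) * θ y⁻¹) * (χ : G → ℂ) 1 = 0) ∧ (∑ᶠ χ ∈ Cfsg.principalBlock M G, ((Nat.card ↥P : ℂ)⁻¹ * ∑ᶠ y : ↥P, (χ : G → ℂ) (y : G) * θ y⁻¹) * (χ : G → ℂ) t = 0) ∧ ((Nat.card ↥P : ℂ)⁻¹ * ∑ᶠ y : ↥P, θ y ≠ 0 → (2 ≤ Nat.card {χ : Cfsg.IrrCharacter G // χ ∈ Cfsg.principalBlock M G ∧ 0 < (((Nat.card ↥P : ℂ)⁻¹ * ∑ᶠ y : ↥P, (χ : G → ℂ) (y : G) * θ y⁻¹)).re} ∧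 2 ≤ Nat.card {χ : Cfsg.IrrCharacter G // χ ∈ Cfsg.principalBlock M G ∧ (((Nat.card ↥P : ℂ)⁻¹ * ∑ᶠ y : ↥P, (χ : G → ℂ) (y : G) * θ y⁻¹)).re < 0}) ∨ ∃ K : Subgroup G, K.Normal ∧ K ≠ ⊤ ∧ Cfsg.pPrimeCore 2 G ≤ K ∧ t ∈ K) := by
  classical
  haveI := Fintype.ofFinite G
  haveI := Fintype.ofFinite ↥P
  haveI := isPrime_of_modular hM
  haveI : Fact (Nat.Prime 2) := ⟨Nat.prime_two⟩
  set B := principalBlock M G with hBdef
  have hB : IsPBlock M B := isPBlock_principalBlock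
  have hA := blockCoeff_mem_loc hB
  set a : IrrCharacter G → ℂ :=
    fun χ => (Nat.card ↥P : ℂ)⁻¹ * ∑ᶠ y : ↥P, (χ : G → ℂ) (y : G) * θ y⁻¹ with ha
  have ht2 : t * t = 1 := by rw [← pow_two, ← ht]; exact pow_orderOf_eq_one t
  have htt : t⁻¹ = t := inv_eq_of_mul_eq_one_left ht2
  have hsum : ∀ F : IrrCharacter G → ℂ,
      (∀ y ∈ P, y⁻¹ ∈ U → ∑ᶠ χ ∈ B, (χ : G → ℂ) y * F χ = 0) →
      ∑ᶠ χ ∈ B, a χ * F χ = 0 := by
    intro F hF
    rw [finsum_mem_irr]
    have h1 : ∀ χ : IrrCharacter G, (if χ ∈ B then a χ * F χ else 0) =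
        ∑ y : ↥P, (Nat.card ↥P : ℂ)⁻¹ * θ y⁻¹ *
          (if χ ∈ B then (χ : G → ℂ) (y : G) * F χ else 0) := by
      intro χ
      split_ifs
      · simp only [ha, finsum_eq_sum_of_fintype, Finset.mul_sum, Finset.sum_mul]
        exact Finset.sum_congr rfl fun y _ => by ring
      · simp
    rw [Finset.sum_congr rfl fun χ _ => h1 χ, Finset.sum_comm]
    refine Finset.sum_eq_zero fun y _ => ?_
    rw [← Finset.mul_sum, ← finsum_mem_irr]
    by_cases hyU : (y : G)⁻¹ ∈ U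
    · rw [hF y y.2 hyU, mul_zero]
    · rw [hθU y⁻¹ (by simpa using hyU)]
      simp
  have hpow : ∀ y ∈ P, ∃ k : ℕ, y ^ 2 ^ k = 1 := fun y hy => by
    obtain ⟨k, hk⟩ := hP ⟨y, hy⟩
    exact ⟨k, by simpa using congrArg Subtype.val hk⟩
  have hone : ∀ y : G, y⁻¹ ∈ U → y ≠ 1 := fun y hy e => by
    subst e
    exact hinv _ hy 1 (by simp)
  have hinv' : ∀ y : G, y⁻¹ ∈ U → ∀ g : G, (g * t * g⁻¹) * y * (g * t * g⁻¹)⁻¹ ≠ y⁻¹ :=
    fun y hy g h => hinv _ hy g (by rw [inv_inv, ← conj_inv, h, inv_inv])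
  have s1 : ∑ᶠ χ ∈ B, a χ * (χ : G → ℂ) t ^ 2 / (χ : G → ℂ) 1 = 0 := by
    refine Eq.trans (finsum_congr fun χ => finsum_congr fun _ => mul_div_assoc _ _ _)
      (hsum _ fun y hy hyU => ?_)
    exact sq_sum_vanish hM hA ht2 (hpow y hy) (hinv' y hyU)
  have s2 : ∑ᶠ χ ∈ B, a χ * (χ : G → ℂ) 1 = 0 := by
    refine hsum _ fun y hy hyU => ?_
    refine Eq.trans (finsum_congr fun χ => finsum_congr fun _ => ?_)
      (block_orthogonality hM hA (h := 1) (isPPart_self (hpow y hy))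
        (isPPart_one (by rw [orderOf_one]; exact Nat.prime_two.not_dvd_one))
        fun hc => hone y hyU (isConj_one_left.mp hc))
    rw [CT.deg_eq (CT.isCharacter_of_isIrr χ.2), map_natCast]
  have s3 : ∑ᶠ χ ∈ B, a χ * (χ : G → ℂ) t = 0 := by
    refine hsum _ fun y hy hyU => ?_
    refine Eq.trans (finsum_congr fun χ => finsum_congr fun _ => ?_)
      (block_orthogonality hM hA (h := t) (isPPart_self (hpow y hy))
        (isPPart_self ⟨1, by rw [pow_one, pow_two, ht2]⟩) fun hc => ?_)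
    · rw [real_of_invol ht2]
    · obtain ⟨g, hg⟩ := isConj_iff.mp hc.symm
      refine hinv' y hyU g ?_
      rw [hg, mul_inv_cancel_right, ← hg, conj_inv, htt]
  refine ⟨s1, s2, s3, fun hne => ?_⟩
  -- `a` is an integer
  have hconj : ∀ y : ↥P, θ y⁻¹ = (starRingEnd ℂ) (θ y) := by
    obtain ⟨c1, c2, h1, h2, rfl⟩ := hθ
    intro y
    simp [CT.char_inv_eq_conj h1, CT.char_inv_eq_conj h2]
  have hint : ∀ χ : IrrCharacter G, ∃ n : ℤ, a χ = n := fun χ => by
    obtain ⟨n, hn⟩ := CT.isGen_inner_int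
      (CT.isGen_restrict P (CT.isGen_of_isIrr χ.2)) hθ
    refine ⟨n, ?_⟩
    rw [← hn]
    simp [ha, classInner, finsum_eq_sum_of_fintype, hconj]
  choose n hn using hint
  have hre : ∀ χ, (a χ).re = n χ := fun χ => by rw [hn χ]; simp
  let w : IrrCharacter G → ℝ :=
    fun χ => if χ ∈ B then (n χ : ℝ) * (CT.deg (χ : G → ℂ) : ℝ) else 0
  let v : IrrCharacter G → ℝ := fun χ => ((χ : G → ℂ) t).re / (CT.deg (χ : G → ℂ) : ℝ)
  have hd : ∀ χ : IrrCharacter G, (χ : G → ℂ) 1 = ((CT.deg (χ : G → ℂ) : ℝ) : ℂ) :=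
    fun χ => by rw [Complex.ofReal_natCast]; exact CT.deg_eq (CT.isCharacter_of_isIrr χ.2)
  have hd0 : ∀ χ : IrrCharacter G, (0 : ℝ) < (CT.deg (χ : G → ℂ) : ℝ) :=
    fun χ => Nat.cast_pos.mpr (CT.deg_pos χ.2)
  have hvt : ∀ χ : IrrCharacter G, (χ : G → ℂ) t = (((χ : G → ℂ) t).re : ℂ) :=
    fun χ => (Complex.conj_eq_iff_re.mp (real_of_invol ht2 χ)).symm
  have m0 : ∑ χ, w χ = 0 := by
    apply Complex.ofReal_injective
    rw [Complex.ofReal_zero, ← s2, finsum_mem_irr, Complex.ofReal_sum]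
    refine Finset.sum_congr rfl fun χ _ => ?_
    simp only [w]
    split_ifs
    · rw [hn χ, hd χ]; push_cast; rfl
    · simp
  have m1 : ∑ χ, w χ * v χ = 0 := by
    apply Complex.ofReal_injective
    rw [Complex.ofReal_zero, ← s3, finsum_mem_irr, Complex.ofReal_sum]
    refine Finset.sum_congr rfl fun χ _ => ?_
    simp only [w, v]
    have := (hd0 χ).ne'
    split_ifs
    · rw [hn χ, hvt χ, ← Complex.ofReal_intCast, ← Complex.ofReal_mul, Complex.ofReal_re]
      congr 1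
      field_simp
    · simp
  have m2 : ∑ χ, w χ * v χ ^ 2 = 0 := by
    apply Complex.ofReal_injective
    rw [Complex.ofReal_zero, ← s1, finsum_mem_irr, Complex.ofReal_sum]
    refine Finset.sum_congr rfl fun χ _ => ?_
    simp only [w, v]
    have := (hd0 χ).ne'
    split_ifs
    · rw [hn χ, hvt χ, hd χ, ← Complex.ofReal_intCast, ← Complex.ofReal_pow, ← Complex.ofReal_mul,
        ← Complex.ofReal_div, Complex.ofReal_re]
      congr 1
      field_simp
    · simp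
  have htriv : CT.trivIrr G ∈ B := trivIrr_mem_principalBlock
  have hw0 : w (CT.trivIrr G) ≠ 0 := by
    have hnt : n (CT.trivIrr G) ≠ 0 := by
      intro h0
      apply hne
      have := hn (CT.trivIrr G)
      rw [h0, Int.cast_zero] at this
      rw [← this, ha]
      congr 1
      rw [finsum_eq_sum_of_fintype, finsum_eq_sum_of_fintype]
      refine Fintype.sum_equiv (Equiv.inv ↥P) _ _ fun y => ?_
      simp
    simp only [w, if_pos htriv]
    exact mul_ne_zero (Int.cast_ne_zero.mpr hnt) (hd0 _).ne'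
  have sub : ∀ (s : ℝ), s ≠ 0 →
      ¬ (2 ≤ Nat.card {χ : IrrCharacter G // χ ∈ B ∧ 0 < s * (a χ).re}) →
      ∃ χ, χ ≠ CT.trivIrr G ∧ χ ∈ B ∧ (χ : G → ℂ) t = (χ : G → ℂ) 1 := by
    intro s hs hcard
    have hpos : ∀ χ, 0 < s * w χ → χ ∈ B ∧ 0 < s * (a χ).re := by
      intro χ h
      by_cases hm : χ ∈ B
      · refine ⟨hm, ?_⟩
        simp only [w, if_pos hm, ← mul_assoc] at h
        rw [hre]
        exact pos_of_mul_pos_left h (hd0 χ).le
      · simp [w, hm] at h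
    have hex : ∀ c : ℝ, c ≠ 0 → ∃ χ, 0 < c * w χ := by
      intro c hc
      by_contra h
      push Not at h
      have := (Finset.sum_eq_zero_iff_of_nonpos fun χ _ => h χ).mp
        (by rw [← Finset.mul_sum, m0, mul_zero]) (CT.trivIrr G) (Finset.mem_univ _)
      exact hw0 ((mul_eq_zero.mp this).resolve_left hc)
    obtain ⟨χp, hp⟩ := hex s hs
    obtain ⟨χm, hm⟩ := hex (-s) (neg_ne_zero.mpr hs)
    have huniq : ∀ χ, χ ≠ χp → s * w χ ≤ 0 := by
      intro χ hne'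
      by_contra hlt
      push Not at hlt
      apply hcard
      haveI : Fintype {χ : IrrCharacter G // χ ∈ B ∧ 0 < s * (a χ).re} := Fintype.ofFinite _
      rw [Nat.card_eq_fintype_card]
      exact Fintype.one_lt_card_iff.mpr
        ⟨⟨χ, hpos χ hlt⟩, ⟨χp, hpos χp hp⟩, fun e => hne' (congrArg Subtype.val e)⟩
    have hv : ∀ χ, w χ ≠ 0 → v χ = v (CT.trivIrr G) := by
      have key : ∀ χ, w χ ≠ 0 → v χ = v χp := fun χ hχ =>
        moments (fun χ => s * w χ) v (by rw [← Finset.mul_sum, m0, mul_zero])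
          (by simp only [mul_assoc]; rw [← Finset.mul_sum, m1, mul_zero])
          (by simp only [mul_assoc]; rw [← Finset.mul_sum, m2, mul_zero])
          huniq (mul_ne_zero hs hχ)
      exact fun χ hχ => (key χ hχ).trans (key _ hw0).symm
    have hone' : v (CT.trivIrr G) = 1 := by simp [v, CT.deg]
    have h2 : ∀ χ, w χ ≠ 0 → χ ∈ B ∧ (χ : G → ℂ) t = (χ : G → ℂ) 1 := by
      intro χ hχ
      refine ⟨by_contra fun hb => hχ (if_neg hb), ?_⟩
      have := hv χ hχ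
      rw [hone'] at this
      simp only [v, div_eq_one_iff_eq (hd0 χ).ne'] at this
      rw [hvt χ, this, hd χ]
    by_cases hpt : χp = CT.trivIrr G
    · have hwm : w χm ≠ 0 := fun h => by simp [h] at hm
      refine ⟨χm, fun e => ?_, h2 χm hwm⟩
      rw [e, ← hpt] at hm
      rw [neg_mul] at hm
      linarith
    · exact ⟨χp, hpt, h2 χp (fun h => by simp [h] at hp)⟩
  by_contra hcon
  push Not at hcon
  obtain ⟨hlt, hK⟩ := hcon
  obtain ⟨χ, hχ1, hχB, hχt⟩ : ∃ χ, χ ≠ CT.trivIrr G ∧ χ ∈ B ∧ (χ : G → ℂ) t = (χ : G → ℂ) 1 := by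
    by_cases hp2 : 2 ≤ Nat.card {χ : IrrCharacter G // χ ∈ B ∧ 0 < (a χ).re}
    · refine sub (-1) (by norm_num) fun h => absurd (hlt hp2) (not_lt.mpr ?_)
      refine h.trans_eq (Nat.card_congr (Equiv.subtypeEquivRight fun χ => ?_))
      simp [ha]
    · exact sub 1 one_ne_zero (by simpa using hp2)
  have hc := CT.isCharacter_of_isIrr χ.2
  refine hK (CT.kerChar (χ : G → ℂ)) (ClassSum.kerChar_normal hc) (fun htop => hχ1 ?_) ?_
    ((CT.mem_kerChar_iff hc).mpr hχt)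
  · by_contra hne'
    have h0 := CT.irr_inner_subtype χ (CT.trivIrr G)
    rw [if_neg hne', classInner] at h0
    have hcst : ∀ g : G, (χ : G → ℂ) g = (χ : G → ℂ) 1 :=
      fun g => (CT.mem_kerChar_iff hc).mp (htop ▸ Subgroup.mem_top g)
    simp [hcst, CT.irr_one_ne_zero χ.2] at h0
  · intro g hg
    exact (CT.mem_kerChar_iff hc).mpr (apply_eq_one_of_mem_principalBlock hM
      (Basics.not_dvd_card_pPrimeCore (G := G) 2) hχB hg)

end Cfsg.Agent.S4722
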