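import Cfsg.Statements.S4723
import Cfsg.Agent.Lib.Blocks.Height
import Cfsg.Agent.Lib.Blocks.Covering
import Cfsg.Agent.Lib.Glauberman.PGroup
import Cfsg.Agent.Lib.Blocks.FirstMain

set_option autoImplicit false
set_option linter.all false
open Cfsg

namespace Cfsg.Agent.S4723

open Cfsg.Agent Cfsg.Agent.Blocks
open scoped ComplexConjugate

theorem regS_conj {G : Type*} [Group G] [Finite G] {p : ℕ} {M : Ideal AlgInt} [M.IsPrime]
    {N : Subgroup G} [N.Normal] (g : G) (χ ψ : IrrCharacter N) :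
    regS M p (conjIrr g χ) (conjIrr g ψ) = regS M p χ ψ := by
  classical
  letI := Fintype.ofFinite N
  refine Subtype.ext ?_
  have h1 : regPair p (conjIrr g χ) (conjIrr g ψ) = regPair p χ ψ := by
    refine Fintype.sum_equiv (MulAut.conjNormal g).toEquiv _ _ fun n => ?_
    simp only [MulEquiv.toEquiv_eq_coe, EquivLike.coe_coe, MulEquiv.orderOf_eq, coe_conjIrr,
      CT.conjFun_eq_comp]
  have h2 : (conjIrr g χ : N → ℂ) 1 = (χ : N → ℂ) 1 := by
    rw [coe_conjIrr, CT.conjFun_eq_comp]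
    simp
  have := deg_mul_regS (M := M) (p := p) (conjIrr g χ) (conjIrr g ψ)
  rw [h1, ← deg_mul_regS (M := M), h2] at this
  exact mul_left_cancel₀ (CT.irr_one_ne_zero χ.2) this

theorem exists_unit_weight {H : Type*} [Group H] [Fintype H] {p : ℕ} {M : Ideal AlgInt}
    [M.IsPrime] (hM : IsPModular p M) [Fact p.Prime] (R : Sylow p H) [Fintype (R : Subgroup H)]
    (χ : IrrCharacter H) [DecidablePred (· ∈ blockOf M (χ : H → ℂ))] :
    ∑ ψ : IrrCharacter H, (if ψ ∈ blockOf M (χ : H → ℂ) then red M (regS M p χ ψ) *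
      (CT.mult (fun u : (R : Subgroup H) => (ψ : H → ℂ) u) (fun _ => (1 : ℂ)) : Res M) else 0) ≠ 0 := by
  classical
  haveI := charP_res hM
  set B := blockOf M (χ : H → ℂ)
  have hB : IsPBlock M B := isPBlock_blockOf χ
  have hA : ∀ u, blockCoeff B u ∈ Loc M := blockCoeff_mem_loc hB
  have hχB : χ ∈ B := self_mem_blockOf χ
  let c : IrrCharacter H → ℂ := fun ψ => if ψ ∈ B then (regS M p χ ψ : ℂ) else 0
  have hce : ∀ u : H, (χ : H → ℂ) 1 * ∑ ψ, c ψ * (ψ : H → ℂ) u =
      ∑ x : H, if p ∣ orderOf x then 0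
        else (χ : H → ℂ) x * ∑ ψ : IrrCharacter H,
          (if ψ ∈ B then (ψ : H → ℂ) u * conj ((ψ : H → ℂ) x) else 0) := by
    intro u
    rw [Finset.mul_sum]
    have e : ∀ ψ : IrrCharacter H, (χ : H → ℂ) 1 * (c ψ * (ψ : H → ℂ) u) =
        ∑ x : H, if p ∣ orderOf x then 0 else (χ : H → ℂ) x *
          (if ψ ∈ B then (ψ : H → ℂ) u * conj ((ψ : H → ℂ) x) else 0) := by
      intro ψ
      by_cases hψ : ψ ∈ B
      · simp only [c, if_pos hψ]
        rw [← mul_assoc, deg_mul_regS, regPair, Finset.sum_mul]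
        exact Finset.sum_congr rfl fun x _ => by split_ifs <;> ring
      · simp [c, hψ]
    rw [Finset.sum_congr rfl fun ψ _ => e ψ, Finset.sum_comm]
    refine Finset.sum_congr rfl fun x _ => ?_
    by_cases hx : p ∣ orderOf x
    · simp [hx]
    · simp [hx, Finset.mul_sum]
  have htot : ∑ ψ, c ψ * (ψ : H → ℂ) 1 = (Nat.card H : ℂ) := by
    apply mul_left_cancel₀ (CT.irr_one_ne_zero χ.2)
    rw [hce]
    have h1 := omega_idemC B χ
    rw [if_pos hχB, omega, div_eq_one_iff_eq (CT.irr_one_ne_zero χ.2), idemC, ev_ofFun] at h1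
    refine Eq.trans ?_ ((congrArg ((Nat.card H : ℂ) * ·) h1).trans (mul_comm _ _))
    rw [Finset.mul_sum]
    refine Finset.sum_congr rfl fun x _ => ?_
    by_cases hx : p ∣ orderOf x
    · rw [if_pos hx, blockCoeff_eq_zero_of_singular hM hA hx]; ring
    · rw [if_neg hx, blockCoeff, finsum_mem_irr, ← mul_assoc,
        mul_inv_cancel_left₀ (CT.card_ne_zero (G := H)), Finset.mul_sum, Finset.sum_mul]
      exact Finset.sum_congr rfl fun ψ _ => by split_ifs <;> ring
  have hvan : ∀ u : H, u ∈ (R : Subgroup H) → u ≠ 1 → ∑ ψ, c ψ * (ψ : H → ℂ) u = 0 := by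
    intro u hu hu1
    have hpu : p ∣ orderOf u := by
      obtain ⟨k, hk⟩ := exists_pow_eq_one_of_isPGroup R.isPGroup' hu
      obtain ⟨j, _, hj⟩ := (Nat.dvd_prime_pow hM.1).mp (orderOf_dvd_of_pow_eq_one hk)
      rw [hj]
      exact dvd_pow_self p fun e => hu1 (orderOf_eq_one_iff.mp (by rw [hj, e, pow_zero]))
    apply mul_left_cancel₀ (CT.irr_one_ne_zero χ.2)
    rw [hce, mul_zero]
    refine Finset.sum_eq_zero fun x _ => ?_
    by_cases hx : p ∣ orderOf x
    · rw [if_pos hx]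
    · have h0 := weak_orthogonality' hM hA hpu hx
      rw [finsum_mem_irr] at h0
      rw [if_neg hx, h0, mul_zero]
  set n : IrrCharacter H → ℕ := fun ψ =>
    CT.mult (fun u : (R : Subgroup H) => (ψ : H → ℂ) u) (fun _ => (1 : ℂ))
  have hn : ∀ ψ, (Nat.card (R : Subgroup H) : ℂ) * (n ψ : ℂ) =
      ∑ u : (R : Subgroup H), (ψ : H → ℂ) u := fun ψ => by
    rw [← CT.mult_spec (CT.isCharacter_restrict _ (CT.isCharacter_of_isIrr ψ.2)) CT.isCharacter_one,
      classInner, mul_inv_cancel_left₀ CT.card_ne_zero]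
    simp
  have hsum : (Nat.card (R : Subgroup H) : ℂ) * ∑ ψ, c ψ * (n ψ : ℂ) = (Nat.card H : ℂ) := by
    rw [← htot, Finset.mul_sum]
    simp only [mul_left_comm (Nat.card (R : Subgroup H) : ℂ) (c _), hn, Finset.mul_sum]
    rw [Finset.sum_comm, Finset.sum_eq_single (1 : (R : Subgroup H))]
    · rfl
    · exact fun u _ hu => hvan u u.2 fun e => hu (Subtype.ext e)
    · simp
  intro h0
  apply R.not_dvd_index
  refine (memLocalIdeal_natCast hM _).mp ?_
  let s : Loc M := ∑ ψ : IrrCharacter H, if ψ ∈ B then regS M p χ ψ * (n ψ : Loc M) else 0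
  have hs : (s : ℂ) = ((R : Subgroup H).index : ℂ) := by
    refine mul_left_cancel₀ (CT.card_ne_zero (G := (R : Subgroup H))) ?_
    rw [← Nat.cast_mul, Subgroup.card_mul_index, ← hsum]
    congr 1
    simp only [s, c, AddSubmonoidClass.coe_finsetSum]
    refine Finset.sum_congr rfl fun ψ _ => ?_
    split_ifs <;> simp
  rw [← hs]
  refine red_eq_zero_iff.mp ?_
  simp only [s, map_sum, apply_ite (red M), map_mul, map_natCast, map_zero]
  convert h0 using 2 with x
  split_ifs <;> rfl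

/-- Let p be a prime, M a maximal ideal of the algebraic integers containing p, H a normal subgroup of the finite group G and b a p-block of H. Let T be the stabilizer of b in G. Then b contains a character θ of height zero whose own stabilizer in G (the elements g with θ(g h g⁻¹) = θ(h) for all h ∈ H) has index prime to p in T, i.e. contains a Sylow p-subgroup of T. -/
theorem result {G : Type*} [Group G] [Finite G] (p : ℕ) [Fact p.Prime] (M : Ideal Cfsg.AlgInt) (hM : Cfsg.IsPModular p M) (H : Subgroup G) [H.Normal] (b : Set (Cfsg.IrrCharacter ↥H)) (hb : Cfsg.IsPBlock M b) (T : Subgroup G) (hT : (∀ g : G, g ∈ T ↔ ∀ θ ∈ b, ∀ θ' : Cfsg.IrrCharacter ↥H, (∀ h h' : ↥H, (h' : G) = g * h * g⁻¹ → (θ' : ↥H → ℂ) h' = (θ : ↥H → ℂ) h) → θ' ∈ b)) : ∃ θ ∈ b, Cfsg.blockHeight p b (θ : ↥H → ℂ) = 0 ∧ ∃ S : Subgroup G, S ≤ T ∧ (∀ g : G, g ∈ S ↔ (g ∈ T ∧ ∀ h h' : ↥H, (h' : G) = g * h * g⁻¹ → (θ : ↥H → ℂ) h' = (θ : ↥H → ℂ) h)) ∧ ¬ p ∣ S.relIndex T := by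
  classical
  haveI := Cfsg.Agent.Blocks.isPrime_of_modular hM
  haveI := charP_res hM
  haveI := Fintype.ofFinite G
  haveI := Fintype.ofFinite H
  obtain ⟨χ, hχ⟩ := block_nonempty hb
  have hbeq : b = blockOf M (χ : H → ℂ) := block_eq_blockOf hb hχ
  have hTmem : ∀ g : G, g ∈ T ↔ ∀ θ ∈ b, conjIrr g⁻¹ θ ∈ b := by
    intro g
    rw [hT]
    constructor
    · intro h θ hθ
      refine h θ hθ _ fun x x' hx => ?_
      rw [coe_conjIrr, CT.conjFun]
      refine congrArg _ (Subtype.ext ?_)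
      show g⁻¹ * (x' : G) * g⁻¹⁻¹ = x
      rw [hx]; group
    · intro h θ hθ θ' hθ'
      have : θ' = conjIrr g⁻¹ θ := by
        refine Subtype.ext (funext fun n => ?_)
        rw [coe_conjIrr]
        exact hθ' ⟨g⁻¹ * n * g⁻¹⁻¹, ‹H.Normal›.conj_mem _ n.2 _⟩ n (by simp [mul_assoc])
      exact this ▸ h θ hθ
  have hHT : H ≤ T := by
    intro g hg
    rw [hTmem]
    intro θ hθ
    have : conjIrr g⁻¹ θ = θ := Subtype.ext (funext fun n => by
      rw [coe_conjIrr, CT.conjFun, ← CT.isClassFunction_of_isIrr θ.2 n ⟨g⁻¹, H.inv_mem hg⟩]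
      exact congrArg _ (Subtype.ext rfl))
    rwa [this]
  obtain ⟨Q⟩ : Nonempty (Sylow p T) := inferInstance
  haveI : (H.subgroupOf T).Normal := inferInstance
  set P := (Q : Subgroup T).map T.subtype
  have hPp : IsPGroup p P := Q.isPGroup'.map _
  have hPT : P ≤ T := Subgroup.map_subtype_le _
  set R := (P ⊓ H).subgroupOf H with hRdef
  have hRp : IsPGroup p R := (hPp.to_le inf_le_left).comap_subtype
  have hRidx : ¬ p ∣ R.index := by
    intro hd
    apply Q.not_dvd_index
    obtain ⟨R', hR'⟩ := hRp.exists_le_sylow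
    have hR'Q : Nat.card R' ≤ Nat.card R := by
      obtain ⟨t, ht⟩ : ∃ t : T, ((R' : Subgroup H).map (Subgroup.inclusion hHT)).map
          (MulAut.conj t).toMonoidHom ≤ (Q : Subgroup T) := by
        obtain ⟨Q', hQ'⟩ := (R'.isPGroup'.map (Subgroup.inclusion hHT)).exists_le_sylow
        obtain ⟨t, rfl⟩ := MulAction.exists_smul_eq T Q' Q
        exact ⟨t, by rw [Sylow.coe_subgroup_smul]; exact Subgroup.map_mono hQ'⟩
      have hle : (((R' : Subgroup H).map (Subgroup.inclusion hHT)).map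
          (MulAut.conj t).toMonoidHom).map T.subtype ≤ P ⊓ H := by
        refine le_inf (Subgroup.map_mono ht) ?_
        rintro _ ⟨_, ⟨_, ⟨u, -, rfl⟩, rfl⟩, rfl⟩
        exact ‹H.Normal›.conj_mem _ u.2 _
      have := Subgroup.card_le_of_le hle
      rw [Subgroup.card_map_of_injective T.subtype_injective,
        Subgroup.card_map_of_injective (MulAut.conj t).injective,
        Subgroup.card_map_of_injective (Subgroup.inclusion_injective hHT)] at this
      rwa [hRdef, card_subgroupOf inf_le_right]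
    have heq := Subgroup.eq_of_le_of_card_ge hR' hR'Q
    exact absurd (heq ▸ hd) R'.not_dvd_index
  let RS : Sylow p H := hRp.toSylow hRidx
  haveI := Fintype.ofFinite (RS : Subgroup H)
  let f : IrrCharacter H → Res M := fun ψ => if ψ ∈ blockOf M (χ : H → ℂ) then
    red M (regS M p χ ψ) *
      (CT.mult (fun u : (RS : Subgroup H) => (ψ : H → ℂ) u) (fun _ => (1 : ℂ)) : Res M) else 0
  have hsum : ∑ ψ, f ψ ≠ 0 := exists_unit_weight hM RS χ
  let act : P →* Equiv.Perm (IrrCharacter H) :=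
    { toFun := fun g =>
        { toFun := conjIrr (g : G)⁻¹
          invFun := conjIrr (g : G)
          left_inv := fun θ => by rw [← conjIrr_mul, inv_mul_cancel, conjIrr_one]
          right_inv := fun θ => by rw [← conjIrr_mul, mul_inv_cancel, conjIrr_one] }
      map_one' := Equiv.ext fun θ => by simp [conjIrr_one]
      map_mul' := fun a c => Equiv.ext fun θ => by simp [conjIrr_mul] }
  have hf : ∀ g ψ, f (act g ψ) = f ψ := by
    intro g ψ
    show f (conjIrr (g : G)⁻¹ ψ) = f ψ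
    have hgT := hPT g.2
    have hst : ∀ θ, conjIrr (g : G)⁻¹ θ ∈ b ↔ θ ∈ b := fun θ => ⟨fun h => by
      have := (hTmem _).mp (T.inv_mem hgT) _ h
      rwa [inv_inv, ← conjIrr_mul, inv_mul_cancel, conjIrr_one] at this, (hTmem _).mp hgT θ⟩
    by_cases hψ : ψ ∈ b
    · simp only [f, ← hbeq, if_pos hψ, if_pos ((hst ψ).mpr hψ)]
      congr 1
      · rw [← red_regS_congr (χ := conjIrr (g : G)⁻¹ χ) (χ' := χ)
          ((mem_block_iff hb ((hst χ).mpr hχ)).mp hχ) (conjIrr (g : G)⁻¹ ψ), regS_conj]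
      · congr 1
        have e1 := CT.mult_spec (CT.isCharacter_restrict (RS : Subgroup H)
          (CT.isCharacter_of_isIrr (conjIrr (g : G)⁻¹ ψ).2)) CT.isCharacter_one
        have e2 := CT.mult_spec (CT.isCharacter_restrict (RS : Subgroup H)
          (CT.isCharacter_of_isIrr ψ.2)) CT.isCharacter_one
        refine Nat.cast_injective (R := ℂ) ?_
        rw [← e1, ← e2, classInner, classInner]
        congr 1
        have hconj : ∀ x : G, x ∈ P → ∀ u : H, u ∈ R → ∀ (hm : x * u * x⁻¹ ∈ H),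
            (⟨x * u * x⁻¹, hm⟩ : H) ∈ R := by
          intro x hx u hu hm
          rw [hRdef, Subgroup.mem_subgroupOf] at hu ⊢
          exact ⟨P.mul_mem (P.mul_mem hx hu.1) (P.inv_mem hx), hm⟩
        refine Fintype.sum_equiv (show (RS : Subgroup H) ≃ (RS : Subgroup H) from
          { toFun := fun u => ⟨⟨(g : G)⁻¹ * (u : H) * (g : G)⁻¹⁻¹, ‹H.Normal›.conj_mem _ (u : H).2 _⟩,
              hconj _ (P.inv_mem g.2) u u.2 _⟩
            invFun := fun u => ⟨⟨(g : G) * (u : H) * (g : G)⁻¹, ‹H.Normal›.conj_mem _ (u : H).2 _⟩,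
              hconj _ g.2 u u.2 _⟩
            left_inv := fun u => Subtype.ext (Subtype.ext (by simp [mul_assoc]))
            right_inv := fun u => Subtype.ext (Subtype.ext (by simp [mul_assoc])) }) _ _ fun u => ?_
        rfl
    · simp only [f, ← hbeq, if_neg hψ, if_neg (fun h => hψ ((hst ψ).mp h))]
  rw [Glauberman.sum_eq_sum_fixed hPp act f hf] at hsum
  obtain ⟨θ, hθ, hθ0⟩ := Finset.exists_ne_zero_of_sum_ne_zero hsum
  have hfix := (Finset.mem_filter.mp hθ).2
  have hθb : θ ∈ b := by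
    by_contra h
    exact hθ0 (by simp only [f, ← hbeq, if_neg h])
  simp only [f, ← hbeq, if_pos hθb] at hθ0
  refine ⟨θ, hθb, (red_regS_ne_zero_iff hM hb hχ hθb).mp (left_ne_zero_of_mul hθ0), ?_⟩
  let S : Subgroup G :=
    { carrier := {g | g ∈ T ∧ conjIrr g θ = θ}
      one_mem' := ⟨T.one_mem, conjIrr_one θ⟩
      mul_mem' := fun {a c} ha hc => ⟨T.mul_mem ha.1 hc.1, by rw [conjIrr_mul, ha.2, hc.2]⟩
      inv_mem' := fun {a} ha => ⟨T.inv_mem ha.1, by
        conv_lhs => rw [← ha.2]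
        rw [← conjIrr_mul, mul_inv_cancel, conjIrr_one]⟩ }
  refine ⟨S, fun g hg => hg.1, fun g => ⟨fun hg => ⟨hg.1, fun x x' hx => ?_⟩,
    fun hg => ⟨hg.1, Subtype.ext (funext fun n => ?_)⟩⟩, ?_⟩
  · have := congrFun (congrArg Subtype.val hg.2) x
    rw [coe_conjIrr] at this
    rw [← this]
    exact congrArg _ (Subtype.ext hx)
  · rw [coe_conjIrr]
    exact hg.2 n _ rfl
  · intro hd
    apply Q.not_dvd_index
    have hle : (Q : Subgroup T) ≤ S.subgroupOf T := by
      intro q hq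
      rw [Subgroup.mem_subgroupOf]
      refine ⟨q.2, ?_⟩
      have := hfix ⟨(q : G), Subgroup.mem_map_of_mem _ hq⟩⁻¹
      simpa [act] using this
    exact hd.trans (Subgroup.index_dvd_of_le hle)

end Cfsg.Agent.S4723
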