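import Cfsg.Statements.S4725
import Cfsg.Agent.Lib.Blocks.Height
import Cfsg.Agent.Lib.Blocks.Knorr
import Cfsg.Agent.Lib.Blocks.BFMatrix

set_option autoImplicit false
set_option linter.all false
open Cfsg

namespace Cfsg.Agent.S4725

/-- Let p be a prime, M a maximal ideal of the algebraic integers containing p, H a subgroup of the finite group G, and b a p-block of H inducing the p-block B of G, with b and B of the same defect. Then for every height-zero ζ ∈ b there is a height-zero χ ∈ B whose multiplicity in the character induced from ζ is not divisible by p. -/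
theorem result {G : Type*} [Group G] [Fintype G] (p : ℕ) [Fact p.Prime] (M : Ideal Cfsg.AlgInt) (hM : Cfsg.IsPModular p M) (H : Subgroup G) (b : Set (Cfsg.IrrCharacter ↥H)) (B : Set (Cfsg.IrrCharacter G)) (hind : Cfsg.IsInducedBlock M H b B) (hdef : Cfsg.blockDefect p b = Cfsg.blockDefect p B) (ζ : Cfsg.IrrCharacter ↥H) (hζ : ζ ∈ b) (hζ0 : Cfsg.blockHeight p b (ζ : ↥H → ℂ) = 0) : ∃ χ ∈ B, Cfsg.blockHeight p B (χ : G → ℂ) = 0 ∧ ∃ a : ℕ, Cfsg.classInner (Cfsg.indFun H (ζ : ↥H → ℂ)) (χ : G → ℂ) = (a : ℂ) ∧ ¬ p ∣ a := by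
  classical
  haveI := Cfsg.Agent.Blocks.isPrime_of_modular hM
  haveI := Fintype.ofFinite H
  obtain ⟨hb, hB, -⟩ := id hind
  obtain ⟨χ₀, hχ₀⟩ := Cfsg.Agent.Blocks.block_nonempty hB
  have hA := Cfsg.Agent.Blocks.blockCoeff_mem_loc hB
  set I := Cfsg.indFun H (ζ : H → ℂ)
  have hI : Cfsg.IsCharacter G I :=
    Cfsg.Agent.CT.isCharacter_indFun H (Cfsg.Agent.CT.isCharacter_of_isIrr ζ.2)
  set w := Cfsg.Agent.Blocks.omegaL M ζ (Cfsg.Agent.Blocks.resZ H (Cfsg.Agent.Blocks.bIdem M B))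
  have hw : Cfsg.Agent.Blocks.red M w ≠ 0 := by
    have h1 := Cfsg.Agent.Blocks.indBar_eq_of_isInducedBlock hind hζ hχ₀ (Cfsg.Agent.Blocks.bBar M B)
    rw [Cfsg.Agent.Blocks.omegaBar_bBar_eq_one hB hχ₀, Cfsg.Agent.Blocks.indBar_apply,
      Cfsg.Agent.Blocks.bBar,
      show Cfsg.Agent.Blocks.resZ H
          (Cfsg.Agent.Blocks.redZ M G (Cfsg.Agent.Blocks.bIdem M B)) =
        Cfsg.Agent.Blocks.redZ M H (Cfsg.Agent.Blocks.resZ H (Cfsg.Agent.Blocks.bIdem M B)) from
        Subtype.ext (by simp [Cfsg.Agent.Blocks.map_resH]),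
      Cfsg.Agent.Blocks.omegaBar_redZ] at h1
    rw [h1]
    exact one_ne_zero
  have hbc : Cfsg.IsClassFunction G fun u : G =>
      (starRingEnd ℂ) ((Cfsg.Agent.Blocks.idemC B).coeff u) := fun g x => by
    have := (Cfsg.Agent.Blocks.mem_center_iff_isClassFn _).mp
      (Cfsg.Agent.Blocks.idemC_mem_center B) g x
    simp only at this ⊢
    rw [this]
  have key : ((H.index * Cfsg.charDegree (ζ : H → ℂ) : ℕ) : ℂ) * (w : ℂ) =
      ((∑ χ : Cfsg.IrrCharacter G, if χ ∈ B then
        Cfsg.Agent.CT.mult I (χ : G → ℂ) * Cfsg.charDegree (χ : G → ℂ) else 0 : ℕ) : ℂ) := by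
    have h1 := Cfsg.Agent.CT.frobenius_reciprocity H (ζ : H → ℂ) hbc
    simp only [Cfsg.classInner, Complex.conj_conj] at h1
    have hL : Cfsg.Agent.Blocks.ev (ζ : H → ℂ)
        (Cfsg.Agent.Blocks.resH H (Cfsg.Agent.Blocks.idemC B)) =
          (Cfsg.charDegree (ζ : H → ℂ) : ℂ) * (w : ℂ) := by
      rw [Cfsg.Agent.Blocks.coe_omegaL, Cfsg.Agent.Blocks.coe_resZ, Cfsg.Agent.Blocks.omega,
        ← Cfsg.Agent.Blocks.charDegree_cast,
        mul_div_cancel₀ _ (Cfsg.Agent.CT.irr_one_ne_zero ζ.2)]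
      congr 1
      rw [← Cfsg.Agent.Blocks.toC_bIdem hA, Cfsg.Agent.Blocks.toC, Cfsg.Agent.Blocks.toC,
        Cfsg.Agent.Blocks.map_resH]
    have hR : Cfsg.Agent.Blocks.ev I (Cfsg.Agent.Blocks.idemC B) =
        ((∑ χ : Cfsg.IrrCharacter G, if χ ∈ B then
          Cfsg.Agent.CT.mult I (χ : G → ℂ) * Cfsg.charDegree (χ : G → ℂ) else 0 : ℕ) : ℂ) := by
      have hdec := Cfsg.Agent.CT.character_eq_sum hI
      rw [Cfsg.Agent.Blocks.ev_eq_sum]
      conv_lhs => arg 2; ext u; rw [congrFun hdec u]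
      simp only [Finset.sum_apply, Pi.smul_apply, smul_eq_mul, Finset.mul_sum]
      rw [Finset.sum_comm]
      push_cast
      refine Finset.sum_congr rfl fun χ _ => ?_
      have h2 := Cfsg.Agent.Blocks.ev_idemC_mul B χ (1 : MonoidAlgebra ℂ G)
      rw [mul_one, Cfsg.Agent.Blocks.ev_eq_sum, MonoidAlgebra.one_def,
        Cfsg.Agent.Blocks.ev_single, one_mul, Cfsg.Agent.Blocks.charDegree_cast] at h2
      simp only [mul_left_comm _ (Cfsg.Agent.CT.mult I (χ : G → ℂ) : ℂ), ← Finset.mul_sum, h2]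
      split_ifs <;> simp
    have hH : (Nat.card H : ℂ) ≠ 0 := Cfsg.Agent.CT.card_ne_zero
    have hG : (Nat.card G : ℂ) ≠ 0 := Cfsg.Agent.CT.card_ne_zero
    rw [← hR, Nat.cast_mul, mul_assoc, ← hL, Cfsg.Agent.Blocks.ev_eq_sum,
      Cfsg.Agent.Blocks.ev_eq_sum]
    simp only [Cfsg.Agent.Blocks.coeff_resH]
    rw [← H.index_mul_card] at h1 hG
    push_cast at h1 hG
    simp only [mul_comm ((Cfsg.Agent.Blocks.idemC B).coeff _)]
    field_simp at h1
    rw [div_eq_iff (left_ne_zero_of_mul hG)] at h1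
    linear_combination -h1
  by_contra hne
  push Not at hne
  set e := (Nat.card G).factorization p - Cfsg.blockDefect p B with he
  have hζdeg : (H.index * Cfsg.charDegree (ζ : H → ℂ)).factorization p = e := by
    have h1 := Cfsg.Agent.Blocks.height_add (p := p) hζ
    have h2 : Cfsg.blockDefect p B ≤ (Nat.card G).factorization p := Nat.sub_le _ _
    rw [hζ0, hdef] at h1
    have h3 : (Nat.card G).factorization p =
        H.index.factorization p + (Nat.card H).factorization p := by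
      rw [← H.index_mul_card, Nat.factorization_mul Subgroup.index_ne_zero_of_finite
        Nat.card_pos.ne', Finsupp.add_apply]
    rw [Nat.factorization_mul Subgroup.index_ne_zero_of_finite
      (Cfsg.Agent.Blocks.charDegree_pos ζ).ne', Finsupp.add_apply]
    omega
  have hdvd : p ^ (e + 1) ∣ ∑ χ : Cfsg.IrrCharacter G, if χ ∈ B then
      Cfsg.Agent.CT.mult I (χ : G → ℂ) * Cfsg.charDegree (χ : G → ℂ) else 0 := by
    refine Finset.dvd_sum fun χ _ => ?_
    split_ifs with hχ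
    · have h1 := Cfsg.Agent.Blocks.height_add (p := p) hχ
      have h2 : Cfsg.blockDefect p B ≤ (Nat.card G).factorization p := Nat.sub_le _ _
      by_cases h0 : Cfsg.blockHeight p B (χ : G → ℂ) = 0
      · have hm := hne χ hχ h0 (Cfsg.Agent.CT.mult I (χ : G → ℂ))
          (Cfsg.Agent.CT.mult_spec hI (Cfsg.Agent.CT.isCharacter_of_isIrr χ.2))
        rw [pow_succ']
        exact mul_dvd_mul hm ((Nat.Prime.pow_dvd_iff_le_factorization hM.1
          (Cfsg.Agent.Blocks.charDegree_pos χ).ne').mpr (by omega))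
      · exact dvd_mul_of_dvd_right ((Nat.Prime.pow_dvd_iff_le_factorization hM.1
          (Cfsg.Agent.Blocks.charDegree_pos χ).ne').mpr (by omega)) _
    · exact dvd_zero _
  obtain ⟨c, hc⟩ := hdvd
  rw [hc] at key
  have := (Cfsg.Agent.Blocks.factorization_le_of_unit hM (m := p ^ (e + 1))
    (n := H.index * Cfsg.charDegree (ζ : H → ℂ)) (pow_ne_zero _ hM.1.ne_zero)
    (Nat.mul_ne_zero Subgroup.index_ne_zero_of_finite (Cfsg.Agent.Blocks.charDegree_pos ζ).ne')
    (u := w) (w := (c : Cfsg.Agent.Blocks.Loc M)) hw (by push_cast at key ⊢; linear_combination key)).1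
  rw [hζdeg, hM.1.factorization_pow, Finsupp.single_eq_same] at this
  omega

end Cfsg.Agent.S4725
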