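import Cfsg.Statements.S4726
import Cfsg.Agent.Lib.BrauerPairs.Kernel
import Cfsg.Agent.Lib.BrauerPairs.Saturation
import Cfsg.Agent.Lib.Blocks.DefectCenter

set_option autoImplicit false
open Cfsg

namespace Cfsg.Agent.S4726

open Cfsg.Agent Cfsg.Agent.Blocks Cfsg.Agent.BPairs

theorem embH_br_resZ {G : Type*} [Group G] [Finite G] {p : ℕ} [Fact p.Prime] {R : Type*}
    [CommRing R] [CharP R p] {H : Subgroup G} {D₀ : Subgroup H} (hD : IsPGroup p D₀)
    (hC : Subgroup.centralizer ((D₀.map H.subtype : Subgroup G) : Set G) ≤ H) (a : ZG R G) :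
    embH H (br D₀ hD (resZ H a)) =
      trunc (Subgroup.centralizer ((D₀.map H.subtype : Subgroup G) : Set G) : Set G)
        (a : MonoidAlgebra R G) := by
  ext u
  by_cases hu : u ∈ H
  · rw [coeff_embH H _ ⟨u, hu⟩, br_apply]
    by_cases hc : u ∈ Subgroup.centralizer ((D₀.map H.subtype : Subgroup G) : Set G)
    · rw [coeff_trunc_of_mem _ ((mem_centralizer_map_iff D₀ ⟨u, hu⟩).mp hc),
        coeff_trunc_of_mem _ hc, coe_resZ, coeff_resH]
    · rw [coeff_trunc_of_notMem _ (fun h => hc ((mem_centralizer_map_iff D₀ ⟨u, hu⟩).mpr h)),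
        coeff_trunc_of_notMem _ hc]
  · rw [coeff_embH_of_notMem H _ hu, coeff_trunc_of_notMem _ (fun h => hu (hC h))]

/-- Let p be a prime, M a maximal ideal of the algebraic integers containing p, H a subgroup of the finite group G and b a p-block of H with defect group D₀ such that C_G(D₀) ≤ H. Then b induces a block of G, and for every block B of G induced by b there is a defect group D of B with Z(D) ≤ Z(D₀) ≤ D₀ ≤ D (as subgroups of G). In particular, if the defect groups of B are abelian then D₀ is a defect group of B. -/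
theorem result {G : Type*} [Group G] [Finite G] (p : ℕ) [Fact p.Prime] (M : Ideal Cfsg.AlgInt) (hM : Cfsg.IsPModular p M) (H : Subgroup G) (b : Set (Cfsg.IrrCharacter ↥H)) (hb : Cfsg.IsPBlock M b) (D₀ : Subgroup ↥H) (hD₀ : Cfsg.IsDefectGroup p M b D₀) (hC : Subgroup.centralizer ((D₀.map H.subtype : Subgroup G) : Set G) ≤ H) : Cfsg.InducedBlockDefined M H b ∧ ∀ B : Set (Cfsg.IrrCharacter G), Cfsg.IsInducedBlock M H b B → (∃ D : Subgroup G, Cfsg.IsDefectGroup p M B D ∧ (Subgroup.center ↥D).map D.subtype ≤ ((Subgroup.center ↥D₀).map D₀.subtype).map H.subtype ∧ ((Subgroup.center ↥D₀).map D₀.subtype).map H.subtype ≤ D₀.map H.subtype ∧ D₀.map H.subtype ≤ D) ∧ (∀ D : Subgroup G, Cfsg.IsDefectGroup p M B D → IsMulCommutative ↥D → Cfsg.IsDefectGroup p M B (D₀.map H.subtype)) := by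
  classical
  haveI := Cfsg.Agent.Blocks.isPrime_of_modular hM
  haveI := charP_res hM
  obtain ⟨g₀, hg₀, hle₀, hDp, hcard₀⟩ := defectGroup_spec hD₀
  obtain ⟨η, hη⟩ := block_nonempty hb
  have hbr : br D₀ hDp (bBar M b) ≠ 0 :=
    (br_bBar_ne_zero_iff hM hb hD₀ hDp).mpr ⟨1, fun x hx => by
      obtain ⟨y, hy, rfl⟩ := hx
      simpa using hy⟩
  set P := D₀.map H.subtype with hPdef
  have hPH : P ≤ H := Subgroup.map_subtype_le D₀
  have hPp : IsPGroup p P := hDp.map _
  -- the induced block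
  have hker : ∀ z : ZG (Res M) H, br D₀ hDp z = 0 → omegaBar M η z = 0 := fun z hz => by
    by_contra hne
    exact br_ne_zero hM hDp hb hη hne hbr hz
  have hlmul : ∀ a c : ZG (Res M) G,
      omegaBar M η (resZ H (a * c)) = omegaBar M η (resZ H a) * omegaBar M η (resZ H c) := by
    intro a c
    rw [← map_mul, ← sub_eq_zero, ← map_sub]
    refine hker _ ?_
    rw [map_sub, map_mul, sub_eq_zero]
    refine embH_injective H ?_
    rw [map_mul, embH_br_resZ hDp hC, embH_br_resZ hDp hC, embH_br_resZ hDp hC, Subring.coe_mul,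
      trunc_mul hPp (isInv_of_mem_center P a.2) (isInv_of_mem_center P c.2)]
  have hlscal : ∀ c, omegaBar M η (resZ H (scalarZ c)) = c := by
    intro c
    refine Eq.trans ?_ (omegaBar_scalarZ η c)
    congr 1
    refine Subtype.ext ?_
    ext v
    rw [coe_resZ, coeff_resH]
    simp only [scalarZ, MonoidAlgebra.coeff_single]
    by_cases hv : v = 1
    · subst hv; simp
    · rw [Finsupp.single_eq_of_ne hv,
        Finsupp.single_eq_of_ne (fun e' => hv (Subtype.ext e') : ¬ (v : G) = (1 : G))]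
  let l : ZG (Res M) G →+* Res M :=
    { toFun := fun a => omegaBar M η (resZ H a)
      map_one' := by
        have h1 : (1 : ZG (Res M) G) = scalarZ 1 := Subtype.ext rfl
        rw [h1]
        exact hlscal 1
      map_mul' := hlmul
      map_zero' := (indBar M H η).map_zero
      map_add' := (indBar M H η).map_add }
  obtain ⟨χ₀, hχ₀⟩ := exists_eq_omegaBar hM l hlscal
  refine ⟨⟨_, isInducedBlock_blockOf (χ := χ₀) hb hη fun a => by
    rw [indBar_apply, ← hχ₀]; rfl⟩, fun B hind => ?_⟩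
  have hgu : (g₀ : G) ∈ Subgroup.centralizer (P : Set G) :=
    (mem_centralizer_map_iff D₀ g₀).mpr (Subgroup.mem_centralizer_iff.mpr fun d hd =>
      (Subgroup.mem_centralizer_singleton_iff.mp (hle₀ hd)))
  obtain ⟨e, hPe, hval⟩ := exists_local_pair hM hPp hPH hC hind hgu
    ((coeff_bBar_ne_zero_iff (blockCoeff_mem_loc hb) g₀).mpr hg₀.2.1)
  obtain ⟨⟨D, f⟩, hchain, hmax⟩ := exists_maximal hM hPe
  have hDdef := isDefectGroup_of_maximal hM hmax
  have hPD : P ≤ D := subpair_le hchain
  have hocc : Occ M P e (bel M H b) := fun ξ hξ => by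
    show val M P ξ (embH H (bBar M b : MonoidAlgebra (Res M) H)) = 1
    rw [hval ξ hξ η hη, omegaBar_bBar_eq_one hb hη]
  have hZD : ∀ z ∈ D, (∀ w ∈ D, z * w = w * z) → z ∈ P := by
    intro z hz hzc
    have hzC : z ∈ Subgroup.centralizer (P : Set G) :=
      Subgroup.mem_centralizer_iff.mpr fun w hw => (hzc w (hPD hw)).symm
    set R := P ⊔ Subgroup.zpowers z with hRdef
    have hRD : R ≤ D := sup_le hPD (Subgroup.zpowers_le.mpr hz)
    have hRN : R ≤ Subgroup.normalizer (P : Set G) := sup_le Subgroup.le_normalizer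
      (Subgroup.zpowers_le.mpr (Subgroup.centralizer_le_normalizer _ hzC))
    have hRH : R ≤ H := sup_le hPH (Subgroup.zpowers_le.mpr (hC hzC))
    obtain ⟨h, ⟨hhb, hh⟩, -⟩ := existsUnique_below hM hmax.1.1 hRD
    have hrel := rel_of_below hM hmax.1.1 hchain le_sup_left hRN hh
    have hRocc : Occ M R h (bel M H b) :=
      (occ_iff_of_normal hM hrel ⟨isInv_embH hPH (bBar M b).2, isInv_embH hC (bBar M b).2⟩
        (isInv_embH hRH (bBar M b).2) (bel_mul_self H hb)).mpr hocc
    obtain ⟨ξ, hξ⟩ := block_nonempty hhb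
    have h1 := hRocc ξ hξ
    rw [val] at h1
    obtain ⟨K, -, hK⟩ := Finset.exists_ne_zero_of_sum_ne_zero (h1 ▸ one_ne_zero)
    have hne := left_ne_zero_of_mul hK
    have huH : ((rep K : Subgroup.centralizer (R : Set G)) : G) ∈ H :=
      hC ((Subgroup.centralizer_le (show (P : Set G) ⊆ R from fun x hx => Subgroup.mem_sup_left hx))
        (rep K).2)
    rw [show ((rep K : Subgroup.centralizer (R : Set G)) : G) = ((⟨_, huH⟩ : H) : G) from rfl,
      coeff_bel] at hne
    have hunit := (coeff_bBar_ne_zero_iff (blockCoeff_mem_loc hb) ⟨_, huH⟩).mp hne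
    have hRp : IsPGroup p (R.subgroupOf H) := ((hmax.1.1.1).to_le hRD).comap_subtype
    obtain ⟨x, hx⟩ := conj_le_defect hM hb hD₀ hRp hunit fun r hr =>
      Subgroup.mem_centralizer_singleton_iff.mpr (Subtype.ext
        (Subgroup.mem_centralizer_iff.mp (rep K).2 _ (Subgroup.mem_subgroupOf.mp hr)))
    have hcard : Nat.card R ≤ Nat.card P := by
      have h2 := Subgroup.card_le_of_le hx
      rw [card_map_conj, card_subgroupOf hRH] at h2
      rwa [hPdef, Subgroup.card_map_of_injective H.subtype_injective]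
    have heq : P = R := Subgroup.eq_of_le_of_card_ge le_sup_left hcard
    rw [heq]
    exact Subgroup.mem_sup_right (Subgroup.mem_zpowers z)
  refine ⟨⟨D, hDdef, ?_, Subgroup.map_mono (Subgroup.map_subtype_le _), hPD⟩, fun D' hD' hab => ?_⟩
  · rintro _ ⟨⟨z, hzD⟩, hzc, rfl⟩
    have hc : ∀ w ∈ D, z * w = w * z := fun w hw =>
      (congrArg Subtype.val (Subgroup.mem_center_iff.mp hzc ⟨w, hw⟩)).symm
    have hzP := hZD z hzD hc
    obtain ⟨z', hz', hz'eq⟩ := Subgroup.mem_map.mp hzP
    refine ⟨z', ⟨⟨z', hz'⟩, Subgroup.mem_center_iff.mpr fun w => Subtype.ext (Subtype.ext ?_), rfl⟩,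
      hz'eq⟩
    show ((w : H) : G) * (z' : G) = (z' : G) * ((w : H) : G)
    rw [show (z' : G) = z from hz'eq]
    exact (hc _ (hPD (Subgroup.mem_map_of_mem _ w.2))).symm
  · obtain ⟨y, hy⟩ := defect_conj hM hind.2.1 hD' hDdef
    replace hy : D'.map (MulAut.conj y).toMonoidHom = D := hy
    have habD : ∀ a ∈ D, ∀ c ∈ D, a * c = c * a := by
      intro a ha c hc
      rw [← hy] at ha hc
      obtain ⟨a', ha', rfl⟩ := ha
      obtain ⟨c', hc', rfl⟩ := hc
      rw [← map_mul, ← map_mul, show a' * c' = c' * a' from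
        congrArg Subtype.val (hab.is_comm.comm ⟨a', ha'⟩ ⟨c', hc'⟩)]
    rwa [show P = D from le_antisymm hPD fun z hz => hZD z hz fun w hw => habD z hz w hw]

end Cfsg.Agent.S4726
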