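import Cfsg.Statements.S4727
import Cfsg.Agent.Lib.BrauerPairs.Kernel
import Cfsg.Agent.Lib.Blocks.Subsection

set_option autoImplicit false
open Cfsg

namespace Cfsg.Agent.S4727

open Cfsg.Agent Cfsg.Agent.Blocks Cfsg.Agent.BPairs

universe u

theorem block_sum_eq_zero {G : Type u} [Group G] [Fintype G] {p : ℕ} {M : Ideal AlgInt} [M.IsPrime]
    (hM : IsPModular p M) {y : G} [Fintype (Subgroup.centralizer ({y} : Set G))]
    (hy : ∃ k : ℕ, y ^ p ^ k = 1) {b : Set (IrrCharacter (Subgroup.centralizer ({y} : Set G)))}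
    (hb : IsPBlock M b) {χ : IrrCharacter G}
    (hnot : ¬ IsInducedBlock M (Subgroup.centralizer ({y} : Set G)) b (blockOf M (χ : G → ℂ)))
    {c : Subgroup.centralizer ({y} : Set G)} (hc : ¬ p ∣ orderOf c) :
    ∑ η, secC b χ η * (η : Subgroup.centralizer ({y} : Set G) → ℂ) c = 0 := by
  classical
  have h := second_main_blockPart hM hy hb hnot hc
  rw [show blockPart b (fun c : Subgroup.centralizer ({y} : Set G) =>
      (χ : G → ℂ) (y * (c : G))) c = ∑ᶠ η' ∈ b,
        classInner (fun c : Subgroup.centralizer ({y} : Set G) => (χ : G → ℂ) (y * (c : G)))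
          (η' : _ → ℂ) * (η' : _ → ℂ) c by
        simp only [blockPart]
        rw [Subsingleton.elim (Fintype.ofFinite _)
          ‹Fintype (Subgroup.centralizer ({y} : Set G))›],
    finsum_mem_irr] at h
  refine Eq.trans (Finset.sum_congr rfl fun η' _ => ?_) h
  by_cases h' : η' ∈ b
  · rw [if_pos h', secC, if_pos h', translate_eq, CT.classInner_sum_left,
      Finset.sum_eq_single η']
    · rw [CT.classInner_smul_left, CT.irr_inner_self η'.2, mul_one]
    · intro η'' _ hne
      rw [CT.classInner_smul_left, CT.irr_inner_subtype, if_neg hne, mul_zero]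
    · simp
  · rw [if_neg h', secC, if_neg h', zero_mul]

theorem aux {G : Type u} [Group G] [Fintype G] {p : ℕ} [Fact p.Prime] {M : Ideal AlgInt} [M.IsPrime]
    (hM : IsPModular p M) {π : Set ℕ} (hpπ : p ∈ π) {B : Set (IrrCharacter G)} {a : BrauerPairIdx G}
    (hmax : IsMaximalBrauerPair p M B a.1 a.2) (ha : Kills M π a) {y : G}
    [Fintype (Subgroup.centralizer ({y} : Set G))]
    (hy : ∃ k : ℕ, y ^ p ^ k = 1) {χ : IrrCharacter G} (hχ : χ ∈ B)
    {c : Subgroup.centralizer ({y} : Set G)}
    (hcK : c ∈ piCore {q | q ∉ π} (Subgroup.centralizer ({y} : Set G))) (hc : ¬ p ∣ orderOf c) :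
    (χ : G → ℂ) (y * (c : G)) = (χ : G → ℂ) y := by
  classical
  have hB : IsPBlock M B := hmax.1.2.1
  have h0 : ∀ v : Subgroup.centralizer ({y} : Set G), (χ : G → ℂ) (y * (v : G)) =
      ∑ b ∈ blocks M (Subgroup.centralizer ({y} : Set G)),
        ∑ η, secC b χ η * (η : Subgroup.centralizer ({y} : Set G) → ℂ) v := by
    intro v
    have h := congrFun (translate_eq (y := y) χ) v
    simp only [Finset.sum_apply, Pi.smul_apply, smul_eq_mul] at h
    rw [h, Finset.sum_comm]
    refine Finset.sum_congr rfl fun η _ => ?_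
    rw [Finset.sum_eq_single (blockOf M (η : Subgroup.centralizer ({y} : Set G) → ℂ))]
    · rw [secC, if_pos (self_mem_blockOf η)]
    · intro b hb hne
      rw [secC, if_neg, zero_mul]
      exact fun hη => hne (block_eq_blockOf (mem_blocks.mp hb) hη)
    · exact fun h => absurd (mem_blocks.mpr (isPBlock_blockOf η)) h
  have hdiff : ∀ b ∈ blocks M (Subgroup.centralizer ({y} : Set G)),
      ∑ η, secC b χ η * (η : Subgroup.centralizer ({y} : Set G) → ℂ) c =
        ∑ η, secC b χ η * (η : Subgroup.centralizer ({y} : Set G) → ℂ) 1 := by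
    intro b hb
    have hb' := mem_blocks.mp hb
    by_cases hind : IsInducedBlock M (Subgroup.centralizer ({y} : Set G)) b B
    · obtain ⟨D₀, hD₀⟩ := exists_defectGroup (p := p) hb'
      have hZp : IsPGroup p (Subgroup.zpowers (selfC y)) := by
        obtain ⟨k, hk⟩ := hy
        intro g
        refine ⟨k, ?_⟩
        obtain ⟨g, hg⟩ := g
        obtain ⟨i, rfl⟩ := Subgroup.mem_zpowers_iff.mp hg
        refine Subtype.ext ?_
        rw [SubmonoidClass.coe_pow, ← zpow_natCast, ← zpow_mul, mul_comm, zpow_mul, zpow_natCast,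
          show selfC y ^ p ^ k = 1 from Subtype.ext (by simpa [selfC] using hk), one_zpow]
        rfl
      haveI : (Subgroup.zpowers (selfC y)).Normal := ⟨fun n hn g => by
        obtain ⟨i, rfl⟩ := Subgroup.mem_zpowers_iff.mp hn
        rw [Subgroup.mem_center_iff.mp (Subgroup.zpow_mem _ (selfC_mem_center y) i) g,
          mul_inv_cancel_right]
        exact hn⟩
      have hyD : selfC y ∈ D₀ := normal_le_defect hM hb' hZp hD₀ (Subgroup.mem_zpowers _)
      have hC : Subgroup.centralizer
          ((D₀.map (Subgroup.centralizer ({y} : Set G)).subtype : Subgroup G) : Set G) ≤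
          Subgroup.centralizer ({y} : Set G) := fun u hu =>
        Subgroup.mem_centralizer_singleton_iff.mpr
          (Subgroup.mem_centralizer_iff.mp hu y ⟨selfC y, hyD, rfl⟩).symm
      have hk := piCore_le_blockKer hM hpπ hmax ha hind hD₀ hC c hcK
      refine Finset.sum_congr rfl fun η _ => ?_
      by_cases hη : η ∈ b
      · rw [hk η hη]
      · rw [secC, if_neg hη, zero_mul, zero_mul]
    · have hnot : ¬ IsInducedBlock M (Subgroup.centralizer ({y} : Set G)) b
          (blockOf M (χ : G → ℂ)) := by rwa [← block_eq_blockOf hB hχ]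
      rw [block_sum_eq_zero hM hy hb' hnot hc, block_sum_eq_zero hM hy hb' hnot
        (by rw [orderOf_one]; exact hM.1.not_dvd_one)]
  rw [h0 c, Finset.sum_congr rfl hdiff, ← h0 1, OneMemClass.coe_one, mul_one]

/-- Let p be a prime, π a set of primes containing p, M a maximal ideal of the algebraic integers containing p, and B a p-block of the finite group G with defect group D; let B₁ be the block of N_G(D) with defect group D that induces B (the Brauer correspondent of B). Suppose every element of O_π'(N_G(D)), the largest normal subgroup of N_G(D) whose order has no prime divisor in π, lies in the kernel of every member of B₁. If y is a p-element whose centralizer C has a normal Hall π'-subgroup (every element of C whose order has no prime divisor in π lies in O_π'(C)), then χ(y x) = χ(y) for every χ ∈ B and every x ∈ C whose order has no prime divisor in π. -/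
theorem result {G : Type*} [Group G] [Finite G] (p : ℕ) [Fact p.Prime] (M : Ideal Cfsg.AlgInt) (hM : Cfsg.IsPModular p M) (π : Set ℕ) (hpπ : p ∈ π) (B : Set (Cfsg.IrrCharacter G)) (hB : Cfsg.IsPBlock M B) (D : Subgroup G) (hBD : Cfsg.IsDefectGroup p M B D) (B₁ : Set (Cfsg.IrrCharacter ↥(Subgroup.normalizer (D : Set G)))) (hB₁ : Cfsg.IsInducedBlock M (Subgroup.normalizer (D : Set G)) B₁ B) (hB₁D : Cfsg.IsDefectGroup p M B₁ (D.subgroupOf (Subgroup.normalizer (D : Set G)))) (hker : ∀ n : ↥(Subgroup.normalizer (D : Set G)), n ∈ Cfsg.piCore {q | q ∉ π} ↥(Subgroup.normalizer (D : Set G)) → n ∈ Cfsg.blockKer B₁) (y : G) (hy : ∃ k : ℕ, orderOf y = p ^ k) (hC : ∀ x : ↥(Subgroup.centralizer ({y} : Set G)), (∀ q : ℕ, q.Prime → q ∣ orderOf x → q ∉ π) → x ∈ Cfsg.piCore {q | q ∉ π} ↥(Subgroup.centralizer ({y} : Set G))) : ∀ χ ∈ B, ∀ x : G, x ∈ Subgroup.centralizer ({y} : Set G) → (∀ q : ℕ, q.Prime → q ∣ orderOf x → q ∉ π) → (χ : G → ℂ) (y * x) = (χ : G → ℂ) y := by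
  classical
  letI := Fintype.ofFinite G
  haveI : M.IsPrime := hM.2.1.isPrime
  letI := Fintype.ofFinite (Subgroup.centralizer ({y} : Set G))
  obtain ⟨e, hmax, hk⟩ := kills_of_normalizer hM hpπ hBD hB₁ hker
  obtain ⟨k, hk'⟩ := hy
  intro χ hχ x hx hπ
  exact aux hM hpπ (a := ⟨D, e⟩) hmax hk ⟨k, hk' ▸ pow_orderOf_eq_one y⟩ hχ (c := ⟨x, hx⟩)
    (hC ⟨x, hx⟩ fun q hq hd => hπ q hq (by rwa [Subgroup.orderOf_mk] at hd))
    fun hd => hπ p Fact.out (by rwa [Subgroup.orderOf_mk] at hd) hpπ

end Cfsg.Agent.S4727
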