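import Cfsg.Statements.S4728
import Cfsg.Agent.Lib.BrauerPairs.Kernel

set_option autoImplicit false
open Cfsg

namespace Cfsg.Agent.S4728

open Cfsg.Agent Cfsg.Agent.Blocks Cfsg.Agent.BPairs

/-- Let p be a prime, π a set of primes containing p, M a maximal ideal of the algebraic integers containing p, B a p-block of the finite group G with defect group D, and B₁ the block of N_G(D) with defect group D inducing B. Let D₀ be a p-subgroup, H₀ = D₀·C_G(D₀), and b a block of H₀ inducing B. Write O_π'(X) for the largest normal subgroup of X whose order has no prime divisor in π. Suppose that O_π'(C_G(D₀)) is a normal Hall π'-subgroup of C_G(D₀) (it contains every element of C_G(D₀) whose order has no prime divisor in π) and that every element of it lies in the kernel of every member of b. Then every element of O_π'(N_G(D)) lies in the kernel of every member of B₁. -/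
theorem result {G : Type*} [Group G] [Finite G] (p : ℕ) [Fact p.Prime] (M : Ideal Cfsg.AlgInt) (hM : Cfsg.IsPModular p M) (π : Set ℕ) (hpπ : p ∈ π) (B : Set (Cfsg.IrrCharacter G)) (hB : Cfsg.IsPBlock M B) (D : Subgroup G) (hBD : Cfsg.IsDefectGroup p M B D) (B₁ : Set (Cfsg.IrrCharacter ↥(Subgroup.normalizer (D : Set G)))) (hB₁ : Cfsg.IsInducedBlock M (Subgroup.normalizer (D : Set G)) B₁ B) (hB₁D : Cfsg.IsDefectGroup p M B₁ (D.subgroupOf (Subgroup.normalizer (D : Set G)))) (D₀ : Subgroup G) (hD₀ : IsPGroup p D₀) (H₀ : Subgroup G) (hH₀ : H₀ = D₀ ⊔ Subgroup.centralizer (D₀ : Set G)) (b : Set (Cfsg.IrrCharacter ↥H₀)) (hb : Cfsg.IsInducedBlock M H₀ b B) (hcompl : ∀ x : ↥(Subgroup.centralizer (D₀ : Set G)), (∀ q : ℕ, q.Prime → q ∣ orderOf x → q ∉ π) → x ∈ Cfsg.piCore {q | q ∉ π} ↥(Subgroup.centralizer (D₀ : Set G))) (hkerb : ∀ x : ↥(Subgroup.centralizer (D₀ : Set G)), x ∈ Cfsg.piCore {q | q ∉ π} ↥(Subgroup.centralizer (D₀ : Set G)) → ∀ θ ∈ b,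 ∀ h : ↥H₀, (h : G) = (x : G) → (θ : ↥H₀ → ℂ) h = (θ : ↥H₀ → ℂ) 1) : ∀ n : ↥(Subgroup.normalizer (D : Set G)), n ∈ Cfsg.piCore {q | q ∉ π} ↥(Subgroup.normalizer (D : Set G)) → n ∈ Cfsg.blockKer B₁ := by
  subst hH₀
  haveI : M.IsPrime := hM.2.1.isPrime
  haveI := charP_res (M := M) hM
  set H := D₀ ⊔ Subgroup.centralizer (D₀ : Set G)
  have hDH : D₀ ≤ H := le_sup_left
  have hCH : Subgroup.centralizer (D₀ : Set G) ≤ H := le_sup_right
  have hHN : H ≤ Subgroup.normalizer (D₀ : Set G) :=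
    sup_le Subgroup.le_normalizer (Subgroup.centralizer_le_normalizer _)
  haveI : (D₀.subgroupOf H).Normal := (Subgroup.normal_subgroupOf_iff_le_normalizer hDH).mpr hHN
  have hne := br_ne_zero_of_normal (hD₀.of_equiv (Subgroup.subgroupOfEquivOfLe hDH).symm)
    (bBar_ne_zero hb.1) (bBar_mul_self (blockCoeff_mem_loc hb.1))
  rw [br_apply, ne_eq, trunc_eq_zero_iff] at hne
  push Not at hne
  obtain ⟨u, hu, hu0⟩ := hne
  obtain ⟨e, he, hom⟩ := exists_local_pair hM hD₀ hDH hCH hb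
    ((mem_centralizer_subgroupOf hDH).mp hu) hu0
  have hk : Kills M π ⟨D₀, e⟩ := by
    have := (block_kills_iff hM hD₀ hDH hCH hb.1 he.1.2 hom ((coreC_le D₀).trans hCH)
      (hHN.trans (normalizer_le_coreC D₀)) (not_dvd_coreC hM.1 hpπ D₀)).mp fun η hη k hk =>
        hkerb ⟨(k : G), coreC_le D₀ hk⟩ ((mem_piCoreOf_iff
          (⟨(k : G), coreC_le D₀ hk⟩ : Subgroup.centralizer (D₀ : Set G))).mp hk) η hη k rfl
    rwa [inf_eq_left.mpr (coreC_le D₀)] at this
  obtain ⟨⟨P, eP⟩, hle, hmax⟩ := exists_maximal hM he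
  obtain ⟨hkP, -⟩ := kills_up hM hpπ hle (fun x hx hπ => by
    refine (mem_piCoreOf_iff (⟨x, hx⟩ : Subgroup.centralizer (D₀ : Set G))).mpr (hcompl ⟨x, hx⟩ ?_)
    intro q hq hd
    exact hπ q hq (by rwa [Subgroup.orderOf_mk] at hd)) hk
  obtain ⟨e₁, he₁, hom₁⟩ := exists_max_normalizer hM hBD hB₁
  have hk₁ : Kills M π ⟨D, e₁⟩ := kills_all hM hpπ (b := ⟨D, e₁⟩) hmax he₁.1 hkP
  intro n hn η hη
  set K := piCoreOf {q | q ∉ π} (Subgroup.normalizer (D : Set G))
  have hKN : K ≤ Subgroup.normalizer (D : Set G) := OddLocal.piCoreOf_le _ _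
  have hNK := OddLocal.le_normalizer_piCoreOf_self {q | q ∉ π} (Subgroup.normalizer (D : Set G))
  have hpK : ¬ p ∣ Nat.card K := fun h => OddLocal.piCoreOf_primes _ _ hM.1 h hpπ
  refine (block_kills_iff hM he₁.1.1.1 Subgroup.le_normalizer
    (Subgroup.centralizer_le_normalizer _) hB₁.1 he₁.1.1.2 hom₁ hKN hNK hpK).mpr ?_ η hη n
    ((mem_piCoreOf_iff n).mpr hn)
  have hLn := le_normalizer_inf_self ((Subgroup.centralizer_le_normalizer (D : Set G)).trans hNK)
  have hLC : K ⊓ Subgroup.centralizer (D : Set G) ≤ coreC π D :=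
    OddLocal.le_piCoreOf inf_le_right hLn fun r hr hd =>
      OddLocal.piCoreOf_primes _ _ hr (hd.trans (Subgroup.card_dvd_of_le inf_le_left))
  exact (occ_eK_iff hM inf_le_right hLn
    fun h => hpK (h.trans (Subgroup.card_dvd_of_le inf_le_left))).mpr fun ξ hξ k hk' =>
      (occ_eK_iff hM (coreC_le D) (centralizer_le_coreC D) (not_dvd_coreC hM.1 hpπ D)).mp hk₁
        ξ hξ k (hLC hk')

end Cfsg.Agent.S4728
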