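import Cfsg.Statements.S4729
import Cfsg.Agent.Lib.Blocks.Defect
import Cfsg.Agent.Lib.CT.Basic

set_option autoImplicit false
set_option linter.all false
open Cfsg

namespace Cfsg.Agent.S4729

open Cfsg.Agent Cfsg.Agent.Blocks

theorem loc_root {M : Ideal AlgInt} [M.IsPrime] {z : ℂ} {m : ℕ} (hm : 0 < m) (h : z ^ m = 1) :
    z ∈ Loc M :=
  integral_mem_loc (IsIntegral.of_pow hm (h ▸ isIntegral_one))

/-- Roots of unity of order prime to `p` with all power sums congruent to their number. -/
theorem counts {p : ℕ} {M : Ideal AlgInt} [M.IsPrime] (hM : IsPModular p M) {ι : Type*} [Fintype ι]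
    {m : ℕ} (hm : ¬ p ∣ m) (ω : ι → ℂ) (hω : ∀ i, ω i ^ m = 1)
    (h : ∀ j, MemLocalIdeal M ((∑ i, ω i ^ j) - (Fintype.card ι : ℂ))) (t : ℂ) (ht : t ^ m = 1) :
    ((Finset.univ.filter fun i => ω i = t).card : Res M) =
      if t = 1 then (Fintype.card ι : Res M) else 0 := by
  classical
  haveI := charP_res hM
  have hm0 : 0 < m := Nat.pos_of_ne_zero fun e => hm (e ▸ dvd_zero p)
  have hmR : (m : Res M) ≠ 0 := fun e => hm ((CharP.cast_eq_zero_iff (Res M) p m).mp e)
  have ht0 : t ≠ 0 := fun e => by rw [e, zero_pow hm0.ne'] at ht; exact zero_ne_one ht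
  have hgeo : ∀ z : ℂ, z ^ m = 1 → z ≠ 1 → ∑ j ∈ Finset.range m, z ^ j = 0 := fun z hz hz1 => by
    rw [geom_sum_eq hz1, hz, sub_self, zero_div]
  have hzi : ∀ i, (ω i * t⁻¹) ^ m = 1 := fun i => by rw [mul_pow, hω, one_mul, inv_pow, ht, inv_one]
  let z : ι → Loc M := fun i => ⟨ω i * t⁻¹, loc_root hm0 (hzi i)⟩
  let s : Loc M := ⟨t⁻¹, loc_root hm0 (by rw [inv_pow, ht, inv_one])⟩
  have e1 : ∀ i, ∑ j ∈ Finset.range m, z i ^ j = if ω i = t then (m : Loc M) else 0 := fun i => by
    apply Subtype.ext
    simp only [AddSubmonoidClass.coe_finsetSum, SubmonoidClass.coe_pow, z]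
    split_ifs with hi
    · simp [hi, ht0]
    · rw [hgeo _ (hzi i) fun e => hi (mul_inv_eq_one₀ ht0 |>.mp e)]; rfl
  have e2 : ∀ j, red M (∑ i, z i ^ j) = (Fintype.card ι : Res M) * red M (s ^ j) := fun j => by
    let y : Loc M := ∑ i, (⟨ω i, loc_root hm0 (hω i)⟩ : Loc M) ^ j
    have hy : red M y = (Fintype.card ι : Res M) := by
      rw [← map_natCast (red M), ← sub_eq_zero, ← map_sub, red_eq_zero_iff]
      convert h j using 1
      simp [y]
    have : ∑ i, z i ^ j = y * s ^ j := by
      simp only [y, Finset.sum_mul]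
      refine Finset.sum_congr rfl fun i _ => ?_
      rw [← mul_pow]
      rfl
    rw [this, map_mul, hy]
  have e3 : ∑ j ∈ Finset.range m, s ^ j = if t = 1 then (m : Loc M) else 0 := by
    apply Subtype.ext
    simp only [AddSubmonoidClass.coe_finsetSum, SubmonoidClass.coe_pow, s]
    split_ifs with hi
    · simp [hi]
    · rw [hgeo _ (by rw [inv_pow, ht, inv_one]) fun e => hi (inv_eq_one.mp e)]; rfl
  have key : red M (∑ i, ∑ j ∈ Finset.range m, z i ^ j) =
      (Fintype.card ι : Res M) * red M (∑ j ∈ Finset.range m, s ^ j) := by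
    rw [Finset.sum_comm, map_sum, map_sum, Finset.mul_sum]
    exact Finset.sum_congr rfl fun j _ => e2 j
  rw [Finset.sum_congr rfl fun i _ => e1 i, e3, ← Finset.sum_filter, Finset.sum_const, nsmul_eq_mul,
    map_mul, map_natCast, map_natCast] at key
  split_ifs at key ⊢ with h1
  · rw [map_natCast] at key
    exact mul_right_cancel₀ hmR key
  · rw [map_zero, mul_zero] at key
    exact (mul_eq_zero.mp key).resolve_right hmR

/-- Let p be a prime, M a maximal ideal of the algebraic integers containing p, G a finite perfect group and P a Sylow p-subgroup. If the principal p-block of G contains a faithful irreducible character of degree less than 2p, then the centralizer of P is a p-group. -/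
theorem result {G : Type*} [Group G] [Finite G] (p : ℕ) [Fact p.Prime] (M : Ideal Cfsg.AlgInt) (hM : Cfsg.IsPModular p M) (hperf : commutator G = ⊤) (P : Sylow p G) (χ : Cfsg.IrrCharacter G) (hχ : χ ∈ Cfsg.principalBlock M G) (hfaith : ∀ g : G, (χ : G → ℂ) g = (χ : G → ℂ) 1 → g = 1) (hdeg : Cfsg.charDegree (χ : G → ℂ) < 2 * p) : IsPGroup p ↥(Subgroup.centralizer ((P : Subgroup G) : Set G)) := by
  classical
  haveI := isPrime_of_modular hM
  haveI := charP_res hM
  have hp := (Fact.out : p.Prime)
  rintro ⟨x, hx⟩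
  obtain ⟨k, u, hu, hk⟩ := Nat.exists_eq_pow_mul_and_not_dvd (orderOf_pos x).ne' p hp.ne_one
  set y := x ^ p ^ k with hy
  have hyC : y ∈ Subgroup.centralizer ((P : Subgroup G) : Set G) := Subgroup.pow_mem _ hx _
  suffices hy1 : y = 1 by exact ⟨k, Subtype.ext hy1⟩
  have hyo : ¬ p ∣ orderOf y := fun hd => hu (hd.trans (orderOf_dvd_of_pow_eq_one (by
    rw [hy, ← pow_mul, ← hk, pow_orderOf_eq_one])))
  -- values at the powers of `y` are congruent to the degree
  have hval : ∀ z ∈ Subgroup.centralizer ((P : Subgroup G) : Set G),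
      MemLocalIdeal M ((χ : G → ℂ) z - (charDegree (χ : G → ℂ) : ℂ)) := by
    intro z hz
    have hidx : ¬ p ∣ (Subgroup.centralizer ({z} : Set G)).index := fun hd =>
      P.not_dvd_index (hd.trans (Subgroup.index_dvd_of_le fun q hq => by
        rw [Subgroup.mem_centralizer_singleton_iff]
        exact (Subgroup.mem_centralizer_iff.mp hz q hq)))
    set i := (Subgroup.centralizer ({z} : Set G)).index
    have h1 : MemLocalIdeal M ((i : ℂ) * (χ : G → ℂ) z / (χ : G → ℂ) 1 - (i : ℂ)) := by
      have hs : MemLocalIdeal M (centralChar (χ : G → ℂ) z - centralChar (fun _ : G => (1 : ℂ)) z) := by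
        first | exact hχ z | (have h := memLocalIdeal_neg (hχ z); simpa using h)
      simpa [centralChar, i] using hs
    have h2 := memLocalIdeal_mul_left (x := (charDegree (χ : G → ℂ) : ℂ))
      (integral_mem_loc isIntegral_algebraMap) h1
    refine memLocalIdeal_of_mul ?_ (b := (i : ℂ)) (integral_mem_loc isIntegral_algebraMap)
      (fun h => hidx ((memLocalIdeal_natCast hM i).mp h)) ?_
    · obtain ⟨n, ρ, -, he⟩ := χ.2
      exact sub_mem (integral_mem_loc (he ▸ CT.isIntegral_char ρ z))
        (integral_mem_loc isIntegral_algebraMap)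
    · convert h2 using 1
      have h0 : (charDegree (χ : G → ℂ) : ℂ) ≠ 0 := Nat.cast_ne_zero.mpr (charDegree_pos χ).ne'
      rw [charDegree_cast χ]
      field_simp
  obtain ⟨n, ρ, hρ, hχe⟩ := χ.2
  have hn : charDegree (χ : G → ℂ) = Module.finrank ℂ (Fin n → ℂ) := by
    have := charDegree_cast χ
    rw [← hχe, Representation.char_one] at this
    rw [← hχe]
    exact_mod_cast this.symm
  obtain ⟨b, ω, hb, hω⟩ := CT.exists_eigenbasis (ρ y) (orderOf_pos y)
    (by rw [← map_pow, pow_orderOf_eq_one, map_one])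
  have hpow : ∀ j, ρ.character (y ^ j) = ∑ i, ω i ^ j := fun j => by
    refine CT.trace_eq_sum_of_eigenbasis (ρ (y ^ j)) b _ fun i => ?_
    induction j with
    | zero => simp
    | succ j ih =>
      rw [pow_succ', map_mul, Module.End.mul_apply, ih, map_smul, hb, smul_smul, pow_succ]
  have hcnt := fun t ht => counts hM hyo ω hω (fun j => by
    have := hval (y ^ j) (Subgroup.pow_mem _ hyC j)
    rw [← hχe, hpow] at this
    rw [Fintype.card_fin]
    rwa [hχe, hn] at this) t ht
  have hdeg2 : Fintype.card (Fin (Module.finrank ℂ (Fin n → ℂ))) < 2 * p := by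
    rw [Fintype.card_fin, ← hn]; exact hdeg
  -- all eigenvalues are `1`
  have hall : ∀ i, ω i = 1 := by
    intro i
    by_contra hi
    have hci : p ∣ (Finset.univ.filter fun j => ω j = ω i).card :=
      (CharP.cast_eq_zero_iff (Res M) p _).mp (by rw [hcnt _ (hω i), if_neg hi])
    have hcpos : 0 < (Finset.univ.filter fun j => ω j = ω i).card :=
      Finset.card_pos.mpr ⟨i, Finset.mem_filter.mpr ⟨Finset.mem_univ i, rfl⟩⟩
    have hge := Nat.le_of_dvd hcpos hci
    have heq : (Finset.univ.filter fun j => ω j = ω i).card = p := by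
      obtain ⟨c, hc⟩ := hci
      have hle : (Finset.univ.filter fun j => ω j = ω i).card ≤ Fintype.card (Fin (Module.finrank ℂ (Fin n → ℂ))) :=
        Finset.card_le_univ _
      rcases c with _ | _ | c
      · omega
      · omega
      · nlinarith
    have hrest : ∀ j, ω j ≠ ω i → ω j = 1 := by
      intro j hj
      by_contra hj1
      have hcj : p ∣ (Finset.univ.filter fun l => ω l = ω j).card :=
        (CharP.cast_eq_zero_iff (Res M) p _).mp (by rw [hcnt _ (hω j), if_neg hj1])
      have hgej := Nat.le_of_dvd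
        (Finset.card_pos.mpr ⟨j, (Finset.mem_filter.mpr ⟨Finset.mem_univ j, rfl⟩ :
          j ∈ Finset.univ.filter fun l => ω l = ω j)⟩) hcj
      have hd : Disjoint (Finset.univ.filter fun l => ω l = ω i) (Finset.univ.filter fun l => ω l = ω j) :=
        Finset.disjoint_filter.mpr fun l _ h1 h2 => hj (h2.symm.trans h1)
      have := Finset.card_le_univ ((Finset.univ.filter fun l => ω l = ω i) ∪ (Finset.univ.filter fun l => ω l = ω j))
      rw [Finset.card_union_of_disjoint hd] at this
      omega
    have hdet : LinearMap.det (ρ y) = ∏ j, ω j := by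
      rw [← LinearMap.det_toMatrix b]
      have : LinearMap.toMatrix b b (ρ y) = Matrix.diagonal ω := by
        ext r c
        rw [LinearMap.toMatrix_apply, hb, map_smul, Module.Basis.repr_self, Finsupp.smul_single,
          smul_eq_mul, mul_one, Finsupp.single_apply, Matrix.diagonal_apply]
        by_cases h : r = c
        · rw [if_pos h.symm, if_pos h, h]
        · rw [if_neg (Ne.symm h), if_neg h]
      rw [this, Matrix.det_diagonal]
    have hdet1 : LinearMap.det (ρ y) = 1 := by
      let f : G →* ℂ := LinearMap.det.comp ρ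
      have := Abelianization.commutator_subset_ker f.toHomUnits (hperf ▸ Subgroup.mem_top y)
      exact congrArg Units.val this
    have hprod : ∏ j, ω j = ω i ^ p := by
      rw [← Finset.prod_subset (Finset.subset_univ (Finset.univ.filter fun j => ω j = ω i))
        (fun j _ hj => hrest j fun e => hj (Finset.mem_filter.mpr ⟨Finset.mem_univ j, e⟩)),
        Finset.prod_congr rfl fun j hj => (Finset.mem_filter.mp hj).2, Finset.prod_const, heq]
    have h1 : ω i ^ p = 1 := by rw [← hprod, ← hdet, hdet1]
    have := pow_gcd_eq_one.mpr ⟨h1, hω i⟩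
    rw [(hp.coprime_iff_not_dvd).mpr hyo, pow_one] at this
    exact hi this
  refine hfaith y ?_
  rw [← hχe, Representation.char_one, ← pow_one y, hpow 1]
  simp [hall]

end Cfsg.Agent.S4729
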