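import Cfsg.Statements.S4730
import Cfsg.Agent.Lib.ClassSum.Basic
import Cfsg.Agent.Lib.CT.Integral
import Cfsg.Agent.Lib.CT.Kernel
import Cfsg.Agent.Lib.Blocks.LocalRing

set_option autoImplicit false
open Cfsg

namespace Cfsg.Agent.S4730

/-- Let p be a prime, M a maximal ideal of the algebraic integers containing p, and G a finite group with trivial centre, Sylow p-subgroup P of order p^a and centre Z(P) of order p^b. If χ is a faithful irreducible character of G whose degree is a power of p, then the p-block of χ has defect at most a − b; in particular, if P is abelian then χ lies in a block of defect zero. -/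
theorem result {G : Type*} [Group G] [Finite G] (p : ℕ) [Fact p.Prime] (M : Ideal Cfsg.AlgInt) (hM : Cfsg.IsPModular p M) (hZ : Subgroup.center G = ⊥) (P : Sylow p G) (a b : ℕ) (ha : Nat.card P = p ^ a) (hb : Nat.card (Subgroup.center ↥(P : Subgroup G)) = p ^ b) (χ : Cfsg.IrrCharacter G) (hfaith : ∀ g : G, (χ : G → ℂ) g = (χ : G → ℂ) 1 → g = 1) (n : ℕ) (hdeg : Cfsg.charDegree (χ : G → ℂ) = p ^ n) : Cfsg.blockDefect p (Cfsg.blockOf M (χ : G → ℂ)) ≤ a - b ∧ (IsMulCommutative ↥(P : Subgroup G) → Cfsg.blockDefect p (Cfsg.blockOf M (χ : G → ℂ)) = 0) := by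
  classical
  haveI := Fintype.ofFinite G
  have hp : p.Prime := Fact.out
  haveI := Blocks.isPrime_of_modular hM
  have hva : (Nat.card G).factorization p = a := by
    have h := P.card_eq_multiplicity
    rw [ha] at h
    exact (Nat.pow_right_injective hp.two_le h).symm
  let Z := Subgroup.center ↥(P : Subgroup G)
  let ι : Z →* G := (P : Subgroup G).subtype.comp Z.subtype
  have hinj : Function.Injective ι := fun u v h => Subtype.ext (Subtype.ext h)
  have hidx : ∀ z : Z, ¬ p ∣ (Subgroup.centralizer ({ι z} : Set G)).index := by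
    intro z h
    refine P.not_dvd_index (h.trans (Subgroup.index_dvd_of_le fun w hw => ?_))
    have := congrArg Subtype.val (Subgroup.mem_center_iff.mp z.2 ⟨w, hw⟩)
    exact Subgroup.mem_centralizer_singleton_iff.mpr (by simpa [ι] using this)
  -- χ vanishes on the nontrivial central elements of P
  have hvan : ∀ z : Z, z ≠ 1 → (χ : G → ℂ) (ι z) = 0 := by
    intro z hz
    obtain ⟨m, ρ, hρ, hchar⟩ := χ.2
    haveI := hρ
    have hm : Module.finrank ℂ (Fin m → ℂ) = p ^ n := by
      rw [← hdeg, ← CT.deg_eq_finrank ρ, hchar]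
      rfl
    rcases CT.zero_or_norm_of_coprime ρ (ι z) (by
      rw [hm]; exact Nat.Coprime.pow_left _ (hp.coprime_iff_not_dvd.mpr (hidx z))) with h | h
    · rwa [hchar] at h
    · exfalso
      have hs := CT.scalar_of_norm_eq ρ h
      have hc : ι z ∈ Subgroup.center G := Subgroup.mem_center_iff.mpr fun g => by
        have h1 : ρ (g * ι z * g⁻¹ * (ι z)⁻¹) = 1 := by
          have e : ρ g * ρ (ι z) = ρ (ι z) * ρ g := by
            rw [hs]; ext v; simp
          rw [map_mul, map_mul, map_mul, e, mul_assoc (ρ (ι z)), ← map_mul ρ g, mul_inv_cancel,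
            map_one, mul_one, ← map_mul, mul_inv_cancel, map_one]
        have h2 := (CT.rep_eq_one_iff ρ _).mp h1
        rw [hchar] at h2
        have h3 := hfaith _ h2
        rwa [mul_inv_eq_one, mul_inv_eq_iff_eq_mul] at h3
      rw [hZ, Subgroup.mem_bot] at hc
      exact hz (hinj (hc.trans ι.map_one.symm))
  have hv : ∀ ψ ∈ Cfsg.blockOf M (χ : G → ℂ),
      b ≤ (Cfsg.charDegree (ψ : G → ℂ)).factorization p := by
    intro ψ hψ
    by_contra hlt
    push Not at hlt
    let idx : Z → ℕ := fun z => (Subgroup.centralizer ({ι z} : Set G)).index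
    let w : Z → ℂ := fun z => ClassSum.omega (ψ : G → ℂ) (ClassSum.classInd (ι z))
    have hwint : ∀ z, IsIntegral ℤ (w z) := fun z =>
      ClassSum.omega_isIntegral ψ.2 (ClassSum.classInd_isClassWeight _)
    have hwM : ∀ z : Z, z ≠ 1 → Blocks.aint (hwint z) ∈ M := by
      intro z hz
      refine Blocks.memLocalIdeal_coe_iff.mp ?_
      have h := hψ (ι z)
      simp only [centralChar, hvan z hz, mul_zero, zero_div, zero_sub] at h
      have h' := Blocks.memLocalIdeal_neg h
      rw [neg_neg] at h'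
      simp only [Blocks.coe_aint, w]
      rwa [ClassSum.omega_classInd _ (CT.isClassFunction_of_isIrr ψ.2), CT.card_conj_class]
    obtain ⟨m, hm⟩ := CT.classInner_character_nat
      (CT.isCharacter_comp ι (CT.isCharacter_of_isIrr ψ.2)) (CT.isCharacter_one (G := Z))
    have hsum : ∑ z : Z, (ψ : G → ℂ) (ι z) = (p : ℂ) ^ b * m := by
      have hc : (Nat.card Z : ℂ) ≠ 0 := Nat.cast_ne_zero.mpr Nat.card_pos.ne'
      rw [← hm, classInner, show (p : ℂ) ^ b = (Nat.card Z : ℂ) by rw [hb]; push_cast; rfl,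
        mul_inv_cancel_left₀ hc]
      simp
    let N := ∏ z : Z, idx z
    let r : Z → ℕ := fun z => ∏ y ∈ Finset.univ.erase z, idx y
    have hr : ∀ z, idx z * r z = N := fun z =>
      Finset.mul_prod_erase _ _ (Finset.mem_univ z)
    have hNp : ¬ p ∣ N := fun h => by
      obtain ⟨z, _, hz⟩ := (Nat.prime_iff.mp hp).exists_mem_finset_dvd h
      exact hidx z hz
    let U : Cfsg.AlgInt := (N : Cfsg.AlgInt) +
      ∑ z ∈ Finset.univ.erase (1 : Z), (r z : Cfsg.AlgInt) * Blocks.aint (hwint z)
    have hU : U ∉ M := fun h => by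
      have h2 : ∑ z ∈ Finset.univ.erase (1 : Z), (r z : Cfsg.AlgInt) * Blocks.aint (hwint z) ∈ M :=
        M.sum_mem fun z hz => M.mul_mem_left _ (hwM z (Finset.ne_of_mem_erase hz))
      exact hNp ((Blocks.natCast_mem_iff hM N).mp ((add_mem_cancel_right h2).mp h))
    set d := Cfsg.charDegree (ψ : G → ℂ) with hd
    set v := d.factorization p
    have hd' : ¬ p ∣ d / p ^ v := Nat.not_dvd_ordCompl hp (CT.deg_pos ψ.2).ne'
    have hdC : (ψ : G → ℂ) 1 = (d : ℂ) := CT.deg_eq (CT.isCharacter_of_isIrr ψ.2)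
    have hd0 : (d : ℂ) ≠ 0 := hdC ▸ CT.irr_one_ne_zero ψ.2
    have hkey : (N : ℂ) * ((p : ℂ) ^ b * m) = (d : ℂ) * (U : ℂ) := by
      rw [← hsum, ← Finset.add_sum_erase _ _ (Finset.mem_univ (1 : Z)), ι.map_one, hdC, mul_add,
        Finset.mul_sum]
      simp only [U, AddMemClass.coe_add, AddSubmonoidClass.coe_finset_sum, MulMemClass.coe_mul,
        SubringClass.coe_natCast, Blocks.coe_aint, mul_add, Finset.mul_sum]
      rw [mul_comm (N : ℂ) (d : ℂ)]
      congr 1
      refine Finset.sum_congr rfl fun z _ => ?_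
      simp only [w, ClassSum.omega_classInd _ (CT.isClassFunction_of_isIrr ψ.2),
        CT.card_conj_class, hdC]
      rw [← hr z]
      field_simp
      simp only [idx]
      push_cast
      ring
    have heq : ((d / p ^ v : ℕ) : Cfsg.AlgInt) * U =
        (p : Cfsg.AlgInt) * ((N * (p ^ (b - v - 1) * m) : ℕ) : Cfsg.AlgInt) := by
      apply Subtype.ext
      have hpv : (p : ℂ) ^ v ≠ 0 := pow_ne_zero _ (Nat.cast_ne_zero.mpr hp.ne_zero)
      refine mul_left_cancel₀ hpv ?_
      have h1 : (d : ℂ) = (p : ℂ) ^ v * ((d / p ^ v : ℕ) : ℂ) := by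
        exact_mod_cast (Nat.ordProj_mul_ordCompl_eq_self d p).symm
      have h2 : (p : ℂ) ^ b = (p : ℂ) ^ v * (p : ℂ) * (p : ℂ) ^ (b - v - 1) := by
        rw [← pow_succ, ← pow_add]
        congr 1
        omega
      rw [h1, h2] at hkey
      simp only [MulMemClass.coe_mul, SubringClass.coe_natCast]
      push_cast
      linear_combination -hkey
    have hin : ((d / p ^ v : ℕ) : Cfsg.AlgInt) * U ∈ M := heq ▸ M.mul_mem_right _ hM.2.2
    rcases ‹M.IsPrime›.mem_or_mem hin with h | h
    · exact hd' ((Blocks.natCast_mem_iff hM _).mp h)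
    · exact hU h
  have hle : Cfsg.blockDefect p (Cfsg.blockOf M (χ : G → ℂ)) ≤ a - b := by
    have hne : ((fun ψ : Cfsg.IrrCharacter G => (Cfsg.charDegree (ψ : G → ℂ)).factorization p) ''
        Cfsg.blockOf M (χ : G → ℂ)).Nonempty :=
      Set.Nonempty.image _ ⟨χ, fun g => by rw [sub_self]; exact Blocks.memLocalIdeal_zero⟩
    have h1 : b ≤ sInf ((fun ψ : Cfsg.IrrCharacter G =>
        (Cfsg.charDegree (ψ : G → ℂ)).factorization p) '' Cfsg.blockOf M (χ : G → ℂ)) := by
      refine le_csInf hne ?_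
      rintro _ ⟨ψ, hψ, rfl⟩
      exact hv ψ hψ
    unfold Cfsg.blockDefect
    rw [hva]
    omega
  refine ⟨hle, fun hab => ?_⟩
  have : b = a := by
    refine Nat.pow_right_injective hp.two_le ?_
    have htop : Subgroup.center ↥(P : Subgroup G) = ⊤ :=
      eq_top_iff.mpr fun u _ => Subgroup.mem_center_iff.mpr fun w => hab.is_comm.comm w u
    show p ^ b = p ^ a
    rw [← hb, ← ha, htop, Subgroup.card_top]
  omega

end Cfsg.Agent.S4730
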