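import Cfsg.Statements.S4731
import Cfsg.Agent.Lib.Blocks.Orthogonality
import Cfsg.Agent.Lib.Blocks.Defect

set_option autoImplicit false
open Cfsg

namespace Cfsg.Agent.S4731

/-- Let p ≠ q be primes, M_p and M_q maximal ideals of the algebraic integers containing p and q respectively, and G a finite group with no element of order pq; let q^b be the q-part of the order of G. For a p-block B_p (relative to M_p), a q-block B_q (relative to M_q) and a p-singular element y, the sum of χ(1)χ(y) over the irreducible characters χ lying in both B_p and B_q is q^b times an algebraic integer. -/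
theorem result {G : Type*} [Group G] [Finite G] (p q : ℕ) [Fact p.Prime] [Fact q.Prime] (hpq : p ≠ q) (Mp Mq : Ideal Cfsg.AlgInt) (hMp : Cfsg.IsPModular p Mp) (hMq : Cfsg.IsPModular q Mq) (hno : ∀ g : G, orderOf g ≠ p * q) (b : ℕ) (hb : (Nat.card G).factorization q = b) (Bp : Set (Cfsg.IrrCharacter G)) (hBp : Cfsg.IsPBlock Mp Bp) (Bq : Set (Cfsg.IrrCharacter G)) (hBq : Cfsg.IsPBlock Mq Bq) (y : G) (hy : p ∣ orderOf y) : ∃ ω : Cfsg.AlgInt, ∑ᶠ χ ∈ Bp ∩ Bq, (Cfsg.charDegree (χ : G → ℂ) : ℂ) * (χ : G → ℂ) y = (q : ℂ) ^ b * (ω : ℂ) := by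
  classical
  haveI := Fintype.ofFinite G
  haveI : Mp.IsPrime := hMp.2.1.isPrime
  haveI : Mq.IsPrime := hMq.2.1.isPrime
  have hint : ∀ (χ : Cfsg.IrrCharacter G) (g : G), IsIntegral ℤ ((χ : G → ℂ) g) :=
    fun χ g => Cfsg.Agent.Blocks.isIntegral_irr χ.2 g
  let cp : Cfsg.IrrCharacter G → ℂ := fun χ => if χ ∈ Bp then (χ : G → ℂ) y else 0
  let cc : Cfsg.IrrCharacter G → ℂ := fun χ => if χ ∈ Bp ∩ Bq then (χ : G → ℂ) y else 0
  let T : G → Cfsg.Agent.Blocks.Loc Mq := fun x => ∑ χ : Cfsg.IrrCharacter G,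
    if χ ∈ Bp then Cfsg.Agent.Blocks.charL Mq χ y * Cfsg.Agent.Blocks.charL Mq χ x else 0
  have hTc : ∀ x, ((T x : Cfsg.Agent.Blocks.Loc Mq) : ℂ) =
      ∑ χ : Cfsg.IrrCharacter G, cp χ * (χ : G → ℂ) x := by
    intro x
    simp only [T, cp]
    rw [AddSubmonoidClass.coe_finsetSum]
    refine Finset.sum_congr rfl fun χ _ => ?_
    split_ifs <;> simp
  have hTclass : Cfsg.Agent.Blocks.IsClassFn T := fun g h => Subtype.ext (by
    rw [hTc, hTc]
    exact Finset.sum_congr rfl fun χ _ => by rw [Cfsg.Agent.Blocks.isClassFn_irr χ g h])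
  have hTzero : ∀ w : G, ¬ p ∣ orderOf w → T w = 0 := by
    intro w hw
    refine Subtype.ext ?_
    rw [hTc, ZeroMemClass.coe_zero]
    have h0 := Cfsg.Agent.Blocks.weak_orthogonality hMp
      (Cfsg.Agent.Blocks.blockCoeff_mem_loc hBp) (g := w) (h := y⁻¹) hw (by rwa [orderOf_inv])
    rw [Cfsg.Agent.Blocks.finsum_mem_irr] at h0
    rw [← h0]
    refine Finset.sum_congr rfl fun χ _ => ?_
    simp only [cp]
    split_ifs
    · rw [Cfsg.Agent.CT.char_inv_eq_conj (Cfsg.Agent.CT.isCharacter_of_isIrr χ.2),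
        Complex.conj_conj, mul_comm]
    · rw [zero_mul]
  have hA := Cfsg.Agent.Blocks.blockCoeff_mem_loc hBq
  have hvan : ∀ u : G, q ∣ orderOf u → ∑ χ, cc χ * (χ : G → ℂ) u = 0 := by
    intro u hu
    obtain ⟨z, hz, -⟩ := Cfsg.Agent.Blocks.exists_isPPart (p := q) u
    have hz1 : z ≠ 1 := fun h => Cfsg.Agent.Blocks.isPPart_one_iff.mp (h ▸ hz) hu
    have h0 := Cfsg.Agent.Blocks.ev_idem_eq_zero_of_ppart hMq hTclass
      (e := (Cfsg.Agent.Blocks.bIdem Mq Bq : MonoidAlgebra (Cfsg.Agent.Blocks.Loc Mq) G))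
      (congrArg Subtype.val (Cfsg.Agent.Blocks.bIdem_mul_self hA)) hz
      (fun c _ _ => (Subring.mem_center_iff.mp (Cfsg.Agent.Blocks.bIdem Mq Bq).2 _).symm)
      (fun w hw => hTzero w fun hpw => by
        have hqw : q ∣ orderOf w := by
          by_contra hnq
          exact hz1 (Cfsg.Agent.Blocks.ppart_unique hw (Cfsg.Agent.Blocks.isPPart_one hnq))
        have hpqw : p * q ∣ orderOf w :=
          ((Nat.coprime_primes Fact.out Fact.out).mpr hpq).mul_dvd_of_dvd_of_dvd hpw hqw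
        exact hno _ (orderOf_pow_orderOf_div (orderOf_pos w).ne' hpqw))
    have h1 := congrArg (fun x : Cfsg.Agent.Blocks.Loc Mq => (x : ℂ)) h0
    simp only [Cfsg.Agent.Blocks.coe_ev, map_mul, Cfsg.Agent.Blocks.toC_bIdem hA,
      ZeroMemClass.coe_zero] at h1
    rw [show Cfsg.Agent.Blocks.toC Mq G (MonoidAlgebra.single u (1 : Cfsg.Agent.Blocks.Loc Mq)) =
      MonoidAlgebra.single u (1 : ℂ) by simp] at h1
    rw [← h1, Cfsg.Agent.Blocks.ev_eq_sum]
    simp only [hTc, Finset.mul_sum]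
    rw [Finset.sum_comm]
    refine Finset.sum_congr rfl fun χ _ => ?_
    have h2 := Cfsg.Agent.Blocks.ev_idemC_mul Bq χ (MonoidAlgebra.single u (1 : ℂ))
    rw [Cfsg.Agent.Blocks.ev_eq_sum, Cfsg.Agent.Blocks.ev_single, one_mul] at h2
    simp only [mul_left_comm _ (cp χ), ← Finset.mul_sum, h2]
    simp only [cc, cp, Set.mem_inter_iff]
    split_ifs with a b c <;> simp_all
  obtain ⟨n, hn, -⟩ := Cfsg.Agent.Blocks.exists_eq_pow_mul (M := Mq) (Fact.out : q.Prime) cc
    (fun χ => by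
      simp only [cc]
      split_ifs
      · exact Cfsg.Agent.Blocks.integral_mem_loc (hint χ y)
      · exact zero_mem _) hvan
  have hω : ∑ χ, cc χ * (n χ : ℂ) ∈ Cfsg.AlgInt := sum_mem fun χ _ => mul_mem
    (by simp only [cc]; split_ifs <;> [exact hint χ y; exact zero_mem _]) (natCast_mem _ _)
  refine ⟨⟨_, hω⟩, ?_⟩
  rw [hb] at hn
  rw [← hn, Cfsg.Agent.Blocks.finsum_mem_irr]
  refine Finset.sum_congr rfl fun χ _ => ?_
  simp only [cc]
  split_ifs
  · rw [Cfsg.Agent.Blocks.charDegree_cast, mul_comm]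
  · rw [zero_mul]

end Cfsg.Agent.S4731
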