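import Cfsg.Statements.S4732
import Cfsg.Agent.Lib.CT.BrauerFeit.Main

set_option autoImplicit false
universe u v
open Cfsg

namespace Cfsg.Agent.S4732

/-- Let p be a prime. There is a function f of two natural-number arguments such that every finite group G admitting a faithful representation of degree n over a field of characteristic p, with Sylow p-subgroups of order p^m, has a normal abelian subgroup A with [G : A] < f(m, n). -/
theorem result (p : ℕ) [Fact p.Prime] : ∃ f : ℕ → ℕ → ℕ, ∀ (G : Type u) [Group G] [Finite G] (F : Type v) [Field F] [CharP F p] (n : ℕ) (ρ : Representation F G (Fin n → F)), Function.Injective ρ → ∀ m : ℕ, (Nat.card G).factorization p = m → ∃ A : Subgroup G, A.Normal ∧ IsMulCommutative A ∧ A.index < f m n := by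
  choose b hb using fun m n => BrauerFeit.exists_torus_bound.{u, v} p m n
  refine ⟨fun m n => (b m n).factorial + 1, fun G _ _ F _ _ n ρ hρ m hm => ?_⟩
  let K := AlgebraicClosure F
  haveI : CharP K p := charP_of_injective_algebraMap (algebraMap F K).injective p
  let φ : G →* Module.End K (Fin n → K) :=
    (Matrix.toLinAlgEquiv' : Matrix (Fin n) (Fin n) K ≃ₐ[K] _).toAlgHom.toRingHom.toMonoidHom.comp
      ((algebraMap F K).mapMatrix.toMonoidHom.comp
        ((LinearMap.toMatrixAlgEquiv' : _ ≃ₐ[F] Matrix (Fin n) (Fin n) F).toAlgHom.toRingHom.toMonoidHom.comp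
          ρ))
  have hφ : Function.Injective φ :=
    Matrix.toLinAlgEquiv'.injective.comp ((Matrix.map_injective (algebraMap F K).injective).comp
      (LinearMap.toMatrixAlgEquiv'.injective.comp hρ))
  obtain ⟨A, hA, hAi⟩ := hb m n K G (Fin n → K) (by rw [Module.finrank_fin_fun]) φ hφ hm.le
  refine ⟨A.normalCore, A.normalCore_normal, ⟨⟨fun x y => Subtype.ext
    (hA.1 _ (A.normalCore_le x.2) _ (A.normalCore_le y.2)).eq⟩⟩, Nat.lt_succ_of_le ?_⟩
  refine le_trans ?_ (Nat.factorial_le hAi)
  refine Nat.le_of_dvd (Nat.factorial_pos _) ?_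
  rw [Subgroup.normalCore_eq_ker, Subgroup.index_ker, Subgroup.index_eq_card, ← Nat.card_perm]
  exact Subgroup.card_subgroup_dvd_card _

end Cfsg.Agent.S4732
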