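import Cfsg.Statements.S4733
import Cfsg.Agent.Lib.Blocks.Subsection
import Cfsg.Agent.Lib.Blocks.Knorr

set_option autoImplicit false
open Cfsg

namespace Cfsg.Agent.S4733

/-- Let p be a prime, M a maximal ideal of the algebraic integers containing p, and B a p-block of the finite group G with k irreducible characters and p-regular rank l (the number of irreducible Brauer characters). Then l ≤ k, and the following are equivalent: B has defect 0; k = l = 1; k = l. -/
theorem result {G : Type*} [Group G] [Finite G] (p : ℕ) [Fact p.Prime] (M : Ideal Cfsg.AlgInt) (hM : Cfsg.IsPModular p M) (B : Set (Cfsg.IrrCharacter G)) (hB : Cfsg.IsPBlock M B) : Cfsg.blockRank p B ≤ Nat.card B ∧ (Cfsg.blockDefect p B = 0 ↔ (Nat.card B = 1 ∧ Cfsg.blockRank p B = 1)) ∧ (Cfsg.blockDefect p B = 0 ↔ Nat.card B = Cfsg.blockRank p B) := by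
  classical
  haveI := Fintype.ofFinite G
  haveI := Cfsg.Agent.Blocks.isPrime_of_modular hM
  haveI : Fintype B := Fintype.ofFinite B
  have hreg : (fun χ : Cfsg.IrrCharacter G => Cfsg.pRegularPart p (χ : G → ℂ)) =
      Cfsg.Agent.Blocks.regFun p := by
    funext c z
    simp only [Cfsg.pRegularPart, Cfsg.IsPRegular, Cfsg.Agent.Blocks.regFun]
    by_cases hz : p ∣ orderOf z <;> simp [hz]
  have hle : Cfsg.blockRank p B ≤ Nat.card B := by
    rw [Cfsg.blockRank, Set.image_eq_range, Nat.card_eq_fintype_card]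
    exact finrank_range_le_card _
  have hne : B.Nonempty := Cfsg.Agent.Blocks.block_nonempty hB
  have hk1 : 1 ≤ Nat.card B := by
    haveI : Nonempty B := hne.to_subtype
    exact Nat.card_pos
  have hl1 : 1 ≤ Cfsg.blockRank p B := by
    obtain ⟨χ, hχ⟩ := hne
    rw [Cfsg.blockRank]
    refine Submodule.one_le_finrank_iff.mpr fun h => ?_
    have h1 : Cfsg.pRegularPart p (χ : G → ℂ) ∈ (⊥ : Submodule ℂ (G → ℂ)) :=
      h ▸ Submodule.subset_span ⟨χ, hχ, rfl⟩
    rw [Submodule.mem_bot] at h1
    have h2 := congrFun ((congrFun hreg χ).symm.trans h1) 1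
    simp only [Cfsg.Agent.Blocks.regFun, orderOf_one, Nat.dvd_one,
      (Fact.out : p.Prime).ne_one, if_false, Pi.zero_apply] at h2
    exact Cfsg.Agent.CT.irr_one_ne_zero χ.2 h2
  have h0 : Cfsg.blockDefect p B = 0 → Nat.card B = 1 := fun h => by
    have := Cfsg.Agent.Blocks.brauer_feit hM hB
    rw [h, Nat.mul_zero, pow_zero] at this
    omega
  have hkl : Nat.card B = Cfsg.blockRank p B → Cfsg.blockDefect p B = 0 := by
    intro h
    have htr := Cfsg.Agent.Blocks.sum_bfPair_self hM hB
    rw [← h] at htr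
    set T : Cfsg.IrrCharacter G → ℝ := fun η =>
      (Nat.card G : ℝ)⁻¹ * ∑ g : G, if p ∣ orderOf g then Complex.normSq ((η : G → ℂ) g) else 0
    have hT : ∀ η : Cfsg.IrrCharacter G, Cfsg.Agent.Blocks.bfPair p η η = ((1 - T η : ℝ) : ℂ) := by
      intro η
      have h1 : (Nat.card G : ℂ)⁻¹ * ∑ g : G, (η : G → ℂ) g * (starRingEnd ℂ) ((η : G → ℂ) g) = 1 :=
        Cfsg.Agent.CT.irr_inner_self η.2
      rw [Cfsg.Agent.Blocks.bfPair, Cfsg.classInner, Complex.ofReal_sub, Complex.ofReal_one, ← h1]
      simp only [T, Complex.ofReal_mul, Complex.ofReal_inv, Complex.ofReal_natCast,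
        Complex.ofReal_sum, ← mul_sub, ← Finset.sum_sub_distrib]
      congr 1
      refine Finset.sum_congr rfl fun g _ => ?_
      simp only [Cfsg.Agent.Blocks.regFun]
      split_ifs <;> simp [Complex.mul_conj]
    have hnn : ∀ η : Cfsg.IrrCharacter G, 0 ≤ T η := fun η => by
      refine mul_nonneg (by positivity) (Finset.sum_nonneg fun g _ => ?_)
      split_ifs
      · exact Complex.normSq_nonneg _
      · exact le_rfl
    have hzero : ∑ η ∈ B.toFinset, T η = 0 := by
      rw [Finset.sum_ite, Finset.sum_const_zero, add_zero,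
        Finset.sum_congr rfl fun η _ => hT η, ← Complex.ofReal_sum] at htr
      rw [show Finset.univ.filter (fun η => η ∈ B) = B.toFinset by ext; simp] at htr
      have h1 : ∑ η ∈ B.toFinset, (1 - T η) = (Nat.card B : ℝ) := by exact_mod_cast htr
      rw [Finset.sum_sub_distrib, Finset.sum_const, Set.toFinset_card, ← Nat.card_eq_fintype_card,
        nsmul_eq_mul, mul_one] at h1
      linarith
    obtain ⟨χ, hχ, hmin⟩ : ∃ χ ∈ B, (Cfsg.charDegree (χ : G → ℂ)).factorization p =
        sInf ((fun χ : Cfsg.IrrCharacter G => (Cfsg.charDegree (χ : G → ℂ)).factorization p) '' B) :=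
      Nat.sInf_mem (hne.image _)
    have hχ0 := (Finset.sum_eq_zero_iff_of_nonneg fun η _ => hnn η).mp hzero χ (by simpa using hχ)
    have hvan : ∀ g : G, orderOf g = p → (χ : G → ℂ) g = 0 := by
      intro g hg
      have h1 : ∀ x : G, 0 ≤ (if p ∣ orderOf x then Complex.normSq ((χ : G → ℂ) x) else 0) :=
        fun x => by
          split_ifs
          · exact Complex.normSq_nonneg _
          · exact le_rfl
      have h2 := (mul_eq_zero.mp hχ0).resolve_left (by simp [Nat.card_pos.ne'])
      have h3 := (Finset.sum_eq_zero_iff_of_nonneg fun x _ => h1 x).mp h2 g (Finset.mem_univ _)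
      rw [if_pos (hg ▸ dvd_rfl)] at h3
      exact Complex.normSq_eq_zero.mp h3
    rw [Cfsg.blockDefect, ← hmin, Cfsg.Agent.Blocks.defect_zero_of_vanishing hM χ hvan, Nat.sub_self]
  refine ⟨hle, ⟨fun h => ⟨h0 h, ?_⟩, fun h => hkl (h.1.trans h.2.symm)⟩, ⟨fun h => ?_, hkl⟩⟩
  · have := h0 h; omega
  · have := h0 h; omega

end Cfsg.Agent.S4733
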