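import Cfsg.Statements.S4735
import Cfsg.Agent.Lib.Blocks.GaloisStable
import Cfsg.Agent.Lib.ClassSum.GaloisMean
import Cfsg.Agent.Lib.Basics.Cores

set_option autoImplicit false
set_option linter.all false
open Cfsg

namespace Cfsg.Agent.S4735

/-- Let p be a prime, M a maximal ideal of the algebraic integers containing p, G a finite group, H = O_p'(G) and Ḡ = G/H. For x ∈ G write λ(G, x) for the sum of |χ(x)|^2 over the irreducible characters χ in the principal p-block of G. Then λ(G, x) is a positive integer, λ(G, x) = λ(Ḡ, x̄) where x̄ is the image of x, and λ(G, x) ≤ #C_Ḡ(x̄). Moreover λ(G, 1) = [G : H] if and only if the principal block is the only p-block of Ḡ. -/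
theorem result {G : Type*} [Group G] [Finite G] (p : ℕ) [Fact p.Prime] (M : Ideal Cfsg.AlgInt) (hM : Cfsg.IsPModular p M) (x : G) : (∃ n : ℕ, 0 < n ∧ ∑ᶠ χ ∈ Cfsg.principalBlock M G, Complex.normSq ((χ : G → ℂ) x) = n) ∧ ∑ᶠ χ ∈ Cfsg.principalBlock M G, Complex.normSq ((χ : G → ℂ) x) = ∑ᶠ ψ ∈ Cfsg.principalBlock M (G ⧸ Cfsg.pPrimeCore p G), Complex.normSq ((ψ : G ⧸ Cfsg.pPrimeCore p G → ℂ) (QuotientGroup.mk x)) ∧ ∑ᶠ χ ∈ Cfsg.principalBlock M G, Complex.normSq ((χ : G → ℂ) x) ≤ (Nat.card ↥(Subgroup.centralizer ({(QuotientGroup.mk x : G ⧸ Cfsg.pPrimeCore p G)} : Set (G ⧸ Cfsg.pPrimeCore p G))) : ℝ) ∧ ((∑ᶠ χ ∈ Cfsg.principalBlock M G, Cfsg.charDegree (χ : G → ℂ) ^ 2) = (Cfsg.pPrimeCore p G).index ↔ ∀ B : Set (Cfsg.IrrCharacter (G ⧸ Cfsg.pPrimeCore p G)), Cfsg.IsPBlock M B → B = Cfsg.principalBlock M (G ⧸ Cfsg.pPrimeCore p G)) := by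
  classical
  haveI := Fintype.ofFinite G
  haveI : M.IsPrime := hM.2.1.isPrime
  haveI : Fact p.Prime := ⟨hM.1⟩
  set N := Cfsg.pPrimeCore p G with hNdef
  have hNp : ¬ p ∣ Nat.card N :=
    hM.1.coprime_iff_not_dvd.mp (Cfsg.Agent.Basics.pPrimeCore_coprime (G := G) p).symm
  haveI := Fintype.ofFinite (G ⧸ N)
  have htriv : Cfsg.Agent.Blocks.inflIrr (N := N) (Cfsg.Agent.CT.trivIrr (G ⧸ N)) =
      Cfsg.Agent.CT.trivIrr G := Subtype.ext (funext fun g => by simp)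
  have hbij : Set.BijOn (Cfsg.Agent.Blocks.inflIrr (N := N))
      (Cfsg.principalBlock M (G ⧸ N)) (Cfsg.principalBlock M G) := by
    refine ⟨fun ψ hψ => ?_, fun a _ c _ h => ?_, fun χ hχ => ?_⟩
    · have := Cfsg.Agent.Blocks.sameBlock_inflIrr (M := M)
        (χ := Cfsg.Agent.CT.trivIrr (G ⧸ N)) (ψ := ψ) hψ
      rwa [htriv] at this
    · refine Subtype.ext (funext fun q => ?_)
      obtain ⟨g, rfl⟩ := QuotientGroup.mk_surjective q
      exact congrFun (congrArg Subtype.val h) g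
    · obtain ⟨η, hη, hc⟩ := Cfsg.Agent.CT.exists_quotient_irr χ.2 N fun n hn =>
        Cfsg.Agent.Blocks.apply_eq_one_of_mem_principalBlock hM hNp hχ hn
      have he : Cfsg.Agent.Blocks.inflIrr (N := N) ⟨η, hη⟩ = χ := Subtype.ext (funext fun g => hc g)
      refine ⟨⟨η, hη⟩, Cfsg.Agent.Blocks.sameBlock_of_inflIrr_of_not_dvd hM hNp
        (χ := Cfsg.Agent.CT.trivIrr (G ⧸ N)) (ψ := ⟨η, hη⟩) ?_, he⟩
      rw [htriv, he]
      exact hχ
  have hsum : ∑ᶠ χ ∈ Cfsg.principalBlock M G, Complex.normSq ((χ : G → ℂ) x) =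
      ∑ᶠ ψ ∈ Cfsg.principalBlock M (G ⧸ N),
        Complex.normSq ((ψ : G ⧸ N → ℂ) (QuotientGroup.mk x)) :=
    (finsum_mem_eq_of_bijOn _ hbij fun ψ _ => by simp).symm
  refine ⟨?_, hsum, ?_, ?_⟩
  · -- rationality
    obtain ⟨K, hfd, hgal, hK⟩ := Cfsg.Agent.ClassSum.exists_galois_data G
    haveI := hfd
    haveI := hgal
    have hc : ∀ χ : Cfsg.IrrCharacter G, Cfsg.IsCharacter G (χ : G → ℂ) :=
      fun χ => Cfsg.Agent.CT.isCharacter_of_isIrr χ.2
    have hmem : ∀ (χ : Cfsg.IrrCharacter G) (g : G), (χ : G → ℂ) g ∈ K := fun χ g =>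
      (hK _ (hc χ)).1 g
    let t : Cfsg.IrrCharacter G → G → K := fun χ g => ⟨_, hmem χ g⟩
    let S : G → K := fun g =>
      ∑ χ ∈ Finset.univ.filter (· ∈ Cfsg.principalBlock M G), t χ g * t χ g⁻¹
    have hS : ∀ g, ((S g : K) : ℂ) =
        ((∑ᶠ χ ∈ Cfsg.principalBlock M G, Complex.normSq ((χ : G → ℂ) g) : ℝ) : ℂ) := by
      intro g
      rw [finsum_mem_eq_toFinset_sum, Complex.ofReal_sum, AddSubmonoidClass.coe_finsetSum]
      refine Finset.sum_congr (by ext; simp) fun χ _ => ?_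
      show (χ : G → ℂ) g * (χ : G → ℂ) g⁻¹ = _
      rw [Cfsg.Agent.CT.char_inv_eq_conj (hc χ), Complex.mul_conj]
    have hfix : ∀ σ : Gal(K/ℚ), σ (S x) = S x := by
      intro σ
      obtain ⟨k, hk, hσ⟩ := (hK _ (hc (Cfsg.Agent.CT.trivIrr G))).2 σ
      refine Subtype.ext ?_
      have e : ∀ χ g, ((σ (t χ g) : K) : ℂ) = (χ : G → ℂ) (g ^ k) := fun χ g =>
        hσ _ (hc χ) g (hmem χ g)
      simp only [S, map_sum, map_mul, AddSubmonoidClass.coe_finsetSum, MulMemClass.coe_mul, e]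
      refine Finset.sum_bij (fun χ _ => Cfsg.Agent.Blocks.powIrr hk χ) ?_ ?_ ?_ ?_
      · intro χ hχ
        refine Finset.mem_filter.mpr ⟨Finset.mem_univ _, ?_⟩
        have h1 := Cfsg.Agent.Blocks.sameBlock_powIrr (M := M) hk
          (χ := Cfsg.Agent.CT.trivIrr G) (ψ := χ) (Finset.mem_filter.mp hχ).2
        rwa [show Cfsg.Agent.Blocks.powIrr hk (Cfsg.Agent.CT.trivIrr G) = Cfsg.Agent.CT.trivIrr G
          from Subtype.ext rfl] at h1
      · exact fun a _ b _ h => Cfsg.Agent.Blocks.powIrr_injective hk h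
      · intro χ hχ
        obtain ⟨ψ, rfl⟩ :=
          (Finite.injective_iff_surjective.mp (Cfsg.Agent.Blocks.powIrr_injective hk)) χ
        refine ⟨ψ, Finset.mem_filter.mpr ⟨Finset.mem_univ _, ?_⟩, rfl⟩
        refine (Cfsg.Agent.Blocks.sameBlock_powIrr_iff (M := M) hk
          (χ := Cfsg.Agent.CT.trivIrr G) (ψ := ψ)).mp ?_
        rw [show Cfsg.Agent.Blocks.powIrr hk (Cfsg.Agent.CT.trivIrr G) = Cfsg.Agent.CT.trivIrr G
          from Subtype.ext rfl]
        exact (Finset.mem_filter.mp hχ).2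
      · intro χ _
        rfl
    obtain ⟨q, hq⟩ := IntermediateField.mem_bot.mp ((IsGalois.mem_bot_iff_fixed (S x)).mpr hfix)
    set V : ℝ := ∑ᶠ χ ∈ Cfsg.principalBlock M G, Complex.normSq ((χ : G → ℂ) x) with hV
    have hqV : (q : ℂ) = (V : ℂ) := by
      rw [← hS x, ← hq]
      simp
    have hint : IsIntegral ℤ (q : ℂ) := by
      rw [hqV, ← hS x]
      simp only [S, AddSubmonoidClass.coe_finsetSum, MulMemClass.coe_mul]
      exact IsIntegral.sum _ fun χ _ => (Cfsg.Agent.Blocks.isIntegral_irr χ.2 x).mul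
        (Cfsg.Agent.Blocks.isIntegral_irr χ.2 x⁻¹)
    have hintq : IsIntegral ℤ q := (isIntegral_algebraMap_iff (A := ℚ) (B := ℂ)
      (algebraMap ℚ ℂ).injective).mp (by simpa using hint)
    obtain ⟨z, hz⟩ := IsIntegrallyClosed.isIntegral_iff.mp hintq
    have hzV : (z : ℝ) = V := by
      have h1 : ((z : ℚ) : ℂ) = (V : ℂ) := by rw [← hqV, ← hz]; simp
      exact_mod_cast h1
    have hpos : (1 : ℝ) ≤ V := by
      rw [hV, finsum_mem_eq_toFinset_sum]
      refine le_trans ?_ (Finset.single_le_sum (f := fun χ : Cfsg.IrrCharacter G =>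
        Complex.normSq ((χ : G → ℂ) x)) (fun _ _ => Complex.normSq_nonneg _)
        (Set.mem_toFinset.mpr
          (Cfsg.Agent.Blocks.trivIrr_mem_principalBlock : Cfsg.Agent.CT.trivIrr G ∈ _)))
      simp
    rw [← hzV] at hpos
    have hz1 : 1 ≤ z := by exact_mod_cast hpos
    exact ⟨z.toNat, by omega, by
      rw [← hzV]
      exact_mod_cast (Int.toNat_of_nonneg (by omega : 0 ≤ z)).symm⟩
  · rw [hsum, finsum_mem_eq_toFinset_sum]
    refine le_trans (Finset.sum_le_sum_of_subset_of_nonneg (Finset.subset_univ _)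
      fun _ _ _ => Complex.normSq_nonneg _) (le_of_eq ?_)
    have h := Cfsg.Agent.CT.column_orthogonality (QuotientGroup.mk x : G ⧸ N) (QuotientGroup.mk x)
    rw [if_pos (IsConj.refl _)] at h
    simp only [Complex.mul_conj] at h
    exact_mod_cast h
  · have hsumdeg : ∑ᶠ χ ∈ Cfsg.principalBlock M G, Cfsg.charDegree (χ : G → ℂ) ^ 2 =
        ∑ᶠ ψ ∈ Cfsg.principalBlock M (G ⧸ N), Cfsg.charDegree (ψ : G ⧸ N → ℂ) ^ 2 :=
      (finsum_mem_eq_of_bijOn _ hbij fun ψ _ => by simp [Cfsg.charDegree]).symm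
    have htot : N.index = ∑ ψ : Cfsg.IrrCharacter (G ⧸ N), Cfsg.charDegree (ψ : G ⧸ N → ℂ) ^ 2 := by
      have h := Cfsg.Agent.CT.sum_degree_sq (G := G ⧸ N)
      simp only [Cfsg.Agent.Blocks.charDegree_cast] at h
      rw [Subgroup.index_eq_card]
      exact_mod_cast h.symm
    rw [hsumdeg, finsum_mem_eq_toFinset_sum, htot]
    constructor
    · intro h B hB
      obtain ⟨ψ, hψ⟩ := Cfsg.Agent.Blocks.block_nonempty hB
      refine Cfsg.Agent.Blocks.block_eq_of_mem hB Cfsg.Agent.Blocks.isPBlock_principalBlock hψ ?_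
      by_contra hne
      have := Finset.sum_lt_sum_of_subset (f := fun ψ : Cfsg.IrrCharacter (G ⧸ N) =>
          Cfsg.charDegree (ψ : G ⧸ N → ℂ) ^ 2) (Finset.subset_univ _) (Finset.mem_univ ψ)
        (s := (Cfsg.principalBlock M (G ⧸ N)).toFinset) (by simpa using hne)
        (pow_pos (Cfsg.Agent.Blocks.charDegree_pos ψ) 2) fun _ _ _ => Nat.zero_le _
      omega
    · intro h
      refine Finset.sum_congr (Finset.eq_univ_iff_forall.mpr fun ψ => ?_) fun _ _ => rfl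
      rw [Set.mem_toFinset, ← h _ (Cfsg.Agent.Blocks.isPBlock_blockOf ψ)]
      exact Cfsg.Agent.Blocks.self_mem_blockOf ψ

end Cfsg.Agent.S4735
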