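import Cfsg.Statements.S4736
import Cfsg.Agent.Lib.CT.ItoMichlerPSolv
import Cfsg.Agent.Lib.Blocks.PrincipalHeight
import Cfsg.Agent.Lib.Blocks.OneBlock
import Cfsg.Agent.Lib.Blocks.Inflation
import Cfsg.Agent.Lib.Blocks.Normal
import Cfsg.Agent.Lib.Transfer.Constrained
import Cfsg.Agent.Lib.Transfer.SL2Props

set_option autoImplicit false
set_option linter.all false
open Cfsg

namespace Cfsg.Agent.S4736

/-- Let p be a prime, M a maximal ideal of the algebraic integers containing p, and G a finite p-solvable group with Sylow p-subgroup P. Then P is abelian if and only if every irreducible character in the principal p-block of G has height zero. -/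
theorem result {G : Type*} [Group G] [Finite G] (p : ℕ) [Fact p.Prime] (M : Ideal Cfsg.AlgInt) (hM : Cfsg.IsPModular p M) (hsolv : Cfsg.IsPSolvable p G) (P : Sylow p G) : IsMulCommutative P ↔ ∀ χ ∈ Cfsg.principalBlock M G, Cfsg.blockHeight p (Cfsg.principalBlock M G) (χ : G → ℂ) = 0 := by
  classical
  haveI := Cfsg.Agent.Blocks.isPrime_of_modular hM
  haveI := Fintype.ofFinite G
  haveI : (Cfsg.pPrimeCore p G).Normal := Cfsg.Agent.Basics.pPrimeCore_normal p
  let mk := QuotientGroup.mk' (Cfsg.pPrimeCore p G)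
  have hmk : Function.Surjective mk := QuotientGroup.mk'_surjective _
  haveI := Fintype.ofFinite (G ⧸ Cfsg.pPrimeCore p G)
  let Pb : Sylow p (G ⧸ Cfsg.pPrimeCore p G) := P.mapSurjective hmk
  have hs : Cfsg.IsPSolvable p (G ⧸ Cfsg.pPrimeCore p G) :=
    Cfsg.Agent.Coprime23.isPSolvable_map mk hmk hsolv
  have hC : Subgroup.centralizer
      ((Cfsg.pCore p (G ⧸ Cfsg.pPrimeCore p G) : Subgroup (G ⧸ Cfsg.pPrimeCore p G)) : Set (G ⧸ Cfsg.pPrimeCore p G)) ≤
      Cfsg.pCore p (G ⧸ Cfsg.pPrimeCore p G) :=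
    Cfsg.Agent.Transfer.centralizer_pCore_le_of_pSolvable
      (Cfsg.Agent.Basics.pPrimeCore_quotient_eq_bot p)
      (Cfsg.Agent.Transfer.isPSolvable_subgroup' hs _)
  constructor
  · intro hab χ hχ
    rw [Cfsg.Agent.Blocks.blockHeight_principal_eq_zero hM]
    obtain ⟨ψ, hψ, hval⟩ := Cfsg.Agent.CT.exists_quotient_irr χ.2 (Cfsg.pPrimeCore p G)
      fun n hn => Cfsg.Agent.Blocks.apply_eq_one_of_mem_principalBlock hM
        (Cfsg.Agent.Basics.not_dvd_card_pPrimeCore p) hχ hn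
    have habb : IsMulCommutative ↥(Pb : Subgroup (G ⧸ Cfsg.pPrimeCore p G)) := by
      refine ⟨⟨?_⟩⟩
      rintro ⟨_, a, ha, rfl⟩ ⟨_, b, hb, rfl⟩
      apply Subtype.ext
      show mk a * mk b = mk b * mk a
      rw [← map_mul, ← map_mul]
      exact congrArg mk (congrArg Subtype.val (hab.is_comm.comm (⟨a, ha⟩ : P) ⟨b, hb⟩))
    have heq : (Pb : Subgroup (G ⧸ Cfsg.pPrimeCore p G)) = Cfsg.pCore p _ := by
      refine le_antisymm ?_ (Cfsg.Agent.Basics.pCore_le_sylow p Pb)
      intro x hx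
      refine hC (Subgroup.mem_centralizer_iff.mpr fun y hy => ?_)
      exact congrArg Subtype.val
        (habb.is_comm.comm ⟨y, Cfsg.Agent.Basics.pCore_le_sylow p Pb hy⟩ ⟨x, hx⟩)
    haveI : (Pb : Subgroup (G ⧸ Cfsg.pPrimeCore p G)).Normal := by
      rw [heq]; exact Cfsg.Agent.Basics.pCore_normal p
    have h := Cfsg.Agent.ItoMichler.not_dvd_deg Pb habb ⟨ψ, hψ⟩
    have e : Cfsg.charDegree (χ : G → ℂ) = Cfsg.Agent.CT.deg ψ := by
      unfold Cfsg.charDegree Cfsg.Agent.CT.deg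
      rw [← hval 1]
      rfl
    rw [e]
    exact h
  · intro h
    have hdeg : ∀ ψ : Cfsg.IrrCharacter (G ⧸ Cfsg.pPrimeCore p G),
        ¬ p ∣ Cfsg.Agent.CT.deg (ψ : G ⧸ Cfsg.pPrimeCore p G → ℂ) := by
      intro ψ
      have h1 := Cfsg.Agent.Blocks.sameBlock_inflIrr (G := G)
        (Cfsg.Agent.Blocks.sameBlock_of_centralizer_le hM _
          (Cfsg.Agent.Basics.pCore_isPGroup p) hC (Cfsg.Agent.CT.trivIrr _) ψ)
      have h2 := (Cfsg.Agent.Blocks.blockHeight_principal_eq_zero hM _).mp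
        (h (Cfsg.Agent.Blocks.inflIrr ψ) h1)
      exact h2
    haveI := Cfsg.Agent.ItoMichler.sylow_normal _ _ rfl hs hdeg Pb
    have habb := Cfsg.Agent.ItoMichler.sylow_comm Pb hdeg
    refine ⟨⟨fun a b => ?_⟩⟩
    have h1 := congrArg Subtype.val
      (habb.is_comm.comm ⟨mk a, a, a.2, rfl⟩ ⟨mk b, b, b.2, rfl⟩)
    simp only [Subgroup.coe_mul, ← map_mul] at h1
    have h2 := QuotientGroup.eq.mp h1
    let z : P := (a * b)⁻¹ * (b * a)
    have hz : (z : G) ∈ Cfsg.pPrimeCore p G := by simpa [z] using h2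
    have hz1 : z = 1 := by
      obtain ⟨n, hn⟩ := IsPGroup.iff_orderOf.mp P.2 z
      rcases Nat.eq_zero_or_pos n with rfl | hpos
      · simpa using hn
      · refine absurd ?_ (Cfsg.Agent.Basics.not_dvd_card_pPrimeCore (G := G) p)
        refine ((dvd_pow_self p hpos.ne').trans (dvd_of_eq hn.symm)).trans ?_
        rw [← Subgroup.orderOf_coe]
        exact Subgroup.orderOf_dvd_natCard _ hz
    exact inv_mul_eq_one.mp hz1

end Cfsg.Agent.S4736
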