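import Cfsg.Statements.S4737
import Cfsg.Agent.Lib.ClassSum.DefectZero
import Mathlib.LinearAlgebra.Dimension.Constructions

set_option autoImplicit false
open Cfsg

namespace Cfsg.Agent.S4737

theorem no_two_sub {G : Type*} [Group G] [Finite G] {a z : G} (ha : orderOf a = 3)
    (hn : ∀ Q : Subgroup G, IsPGroup 2 ↥Q → a ∈ Subgroup.normalizer (Q : Set G) → Q = ⊥)
    (hz : z * z = 1) (haz : (a * z) ^ 3 = 1) : z = 1 := by
  have ha3 : a ^ 3 = 1 := by rw [← ha]; exact pow_orderOf_eq_one a
  have hainv : a⁻¹ = a ^ 2 := inv_eq_of_mul_eq_one_left (by rw [← pow_succ, ha3])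
  set z1 := z
  set z2 := a * z * a⁻¹ with hz2
  set z3 := a ^ 2 * z * (a ^ 2)⁻¹ with hz3
  have h2 : z2 * z2 = 1 := by
    rw [hz2, show a * z * a⁻¹ * (a * z * a⁻¹) = a * (z * z) * a⁻¹ by group, hz]; simp
  have h3 : z3 * z3 = 1 := by
    rw [hz3, show a ^ 2 * z * (a ^ 2)⁻¹ * (a ^ 2 * z * (a ^ 2)⁻¹) = a ^ 2 * (z * z) * (a ^ 2)⁻¹ by
      group, hz]
    simp
  have hprod : z2 * z3 * z1 = 1 := by
    calc z2 * z3 * z1 = a * z * (a * z) * (a ^ 2)⁻¹ * z := by
          rw [hz2, hz3]; show _ * z = _; group
      _ = a * z * (a * z) * (a ^ 2)⁻¹ * (a⁻¹ * (a * z)) := by group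
      _ = a * z * (a * z) * (a ^ 3)⁻¹ * (a * z) := by group
      _ = (a * z) ^ 3 := by rw [ha3, pow_succ (a * z), pow_two (a * z)]; group
      _ = 1 := haz
  have hz3eq : z3 = z2 * z1 := by
    calc z3 = z2⁻¹ * (z2 * z3 * z1) * z1⁻¹ := by group
      _ = z2 * z1 := by
        rw [hprod, mul_one, inv_eq_of_mul_eq_one_left h2, inv_eq_of_mul_eq_one_left hz]
  have hcomm : z1 * z2 = z2 * z1 := by
    have h4 : (z2 * z1)⁻¹ = z2 * z1 := by rw [← hz3eq]; exact inv_eq_of_mul_eq_one_left h3
    rw [mul_inv_rev, inv_eq_of_mul_eq_one_left h2, inv_eq_of_mul_eq_one_left hz] at h4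
    exact h4
  set Q := Subgroup.closure ({z1, z2} : Set G) with hQ
  have hc : ∀ x ∈ ({z1, z2} : Set G), ∀ y ∈ ({z1, z2} : Set G), x * y = y * x := by
    rintro x (rfl | rfl) y (rfl | rfl)
    · rfl
    · exact hcomm
    · exact hcomm.symm
    · rfl
  haveI : IsMulCommutative Q := Subgroup.isMulCommutative_closure hc
  have hsq : ∀ x ∈ Q, x * x = 1 := by
    intro x hx
    induction hx using Subgroup.closure_induction with
    | mem x hx => rcases hx with rfl | rfl <;> assumption
    | one => simp
    | mul x y hx hy ihx ihy =>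
      have h5 : x * y = y * x := congrArg Subtype.val
        (mul_comm' (⟨x, hx⟩ : Q) ⟨y, hy⟩)
      calc x * y * (x * y) = x * (y * x) * y := by group
        _ = x * x * (y * y) := by rw [← h5]; group
        _ = 1 := by rw [ihx, ihy, one_mul]
    | inv x _ ihx => rw [← mul_inv_rev, ihx, inv_one]
  have hQp : IsPGroup 2 Q := fun x => ⟨1, Subtype.ext (by
    simpa [pow_two] using hsq x x.2)⟩
  have haQ : a ∈ Subgroup.normalizer (Q : Set G) := by
    have hle : Q.map (MulAut.conj a).toMonoidHom ≤ Q := by
      rw [hQ, MonoidHom.map_closure, Subgroup.closure_le]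
      rintro x ⟨y, rfl | rfl, rfl⟩
      · exact Subgroup.subset_closure (Or.inr rfl)
      · have e : (MulAut.conj a).toMonoidHom z2 = z2 * z1 := by
          rw [← hz3eq, hz2, hz3, pow_two]
          simp [mul_assoc]
        rw [e]
        exact Q.mul_mem (Subgroup.subset_closure (Or.inr rfl)) (Subgroup.subset_closure (Or.inl rfl))
    have heq : Q.map (MulAut.conj a).toMonoidHom = Q :=
      Subgroup.eq_of_le_of_card_ge hle (le_of_eq
        (Nat.card_congr (Q.equivMapOfInjective _ (MulAut.conj a).injective).toEquiv))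
    rw [Subgroup.mem_normalizer_iff]
    intro x
    refine ⟨fun hx => heq ▸ ⟨x, hx, rfl⟩, fun hx => ?_⟩
    obtain ⟨y, hy, e⟩ := heq.symm ▸ hx
    exact (MulAut.conj a).injective (a₁ := y) (a₂ := x) e ▸ hy
  have := hn Q hQp haQ
  exact (Subgroup.mem_bot).mp (this ▸ Subgroup.subset_closure (Or.inl rfl))

theorem odd_centralizer {G : Type*} [Group G] [Finite G] {a : G}
    (hn : ∀ Q : Subgroup G, IsPGroup 2 ↥Q → a ∈ Subgroup.normalizer (Q : Set G) → Q = ⊥) :
    ¬ 2 ∣ Nat.card (Subgroup.centralizer ({a} : Set G)) := by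
  intro h
  obtain ⟨t, ht⟩ := exists_prime_orderOf_dvd_card' 2 h
  have ht' : orderOf (t : G) = 2 := (Subgroup.orderOf_coe t).trans ht
  have hQ : IsPGroup 2 (Subgroup.zpowers (t : G)) :=
    IsPGroup.of_card (n := 1) (by rw [Nat.card_zpowers, ht', pow_one])
  have := hn _ hQ (Subgroup.centralizer_le_normalizer _ (Subgroup.mem_centralizer_iff.mpr ?_))
  · rw [Subgroup.zpowers_eq_bot] at this
    rw [this, orderOf_one] at ht'
    omega
  · rintro x ⟨i, rfl⟩
    exact (Commute.zpow_left (Subgroup.mem_centralizer_singleton_iff.mp t.2) i).eq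

/-- Let G be a finite group of order divisible by 6. Then the number of irreducible characters of G whose degree has the same 2-part as the order of G (the characters of 2-defect zero, each forming a 2-block of defect zero on its own) is at least the number of conjugacy classes of elements of order 3 that normalize no nontrivial 2-subgroup of G. In particular G has a 2-block of defect zero as soon as some element of order 3 normalizes no nontrivial 2-subgroup. -/
theorem result {G : Type*} [Group G] [Finite G] (h6 : 6 ∣ Nat.card G) : Nat.card {C : ConjClasses G // ∃ g ∈ C.carrier, orderOf g = 3 ∧ ∀ Q : Subgroup G, IsPGroup 2 ↥Q → g ∈ Subgroup.normalizer (Q : Set G) → Q = ⊥} ≤ Nat.card {χ : Cfsg.IrrCharacter G // (Cfsg.charDegree (χ : G → ℂ)).factorization 2 = (Nat.card G).factorization 2} := by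
  classical
  haveI := Fintype.ofFinite G
  obtain ⟨M, hM⟩ := ClassSum.exists_modular 2 Nat.prime_two
  haveI : M.IsMaximal := hM.2.1
  let k := AlgInt ⧸ M
  letI : Field k := Ideal.Quotient.field M
  let π : AlgInt →+* k := Ideal.Quotient.mk M
  let X := {C : ConjClasses G // ∃ g ∈ C.carrier, orderOf g = 3 ∧
    ∀ Q : Subgroup G, IsPGroup 2 ↥Q → g ∈ Subgroup.normalizer (Q : Set G) → Q = ⊥}
  have hrep : ∀ C : X, ∃ g, ConjClasses.mk g = C.1 ∧ orderOf g = 3 ∧
      ∀ Q : Subgroup G, IsPGroup 2 ↥Q → g ∈ Subgroup.normalizer (Q : Set G) → Q = ⊥ :=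
    fun C => by
      obtain ⟨g, h1, h2⟩ := C.2
      exact ⟨g, ConjClasses.mem_carrier_iff_mk_eq.mp h1, h2⟩
  choose g hg using hrep
  haveI : Finite (ConjClasses G) := Finite.of_surjective _ ConjClasses.mk_surjective
  haveI : Fintype X := Fintype.ofFinite X
  let S := {χ : Cfsg.IrrCharacter G //
    ¬ ClassSum.InM M (ClassSum.omega (χ : G → ℂ) (ClassSum.sqOne G))}
  have hS : Nat.card S ≤ Nat.card {χ : Cfsg.IrrCharacter G //
      (Cfsg.charDegree (χ : G → ℂ)).factorization 2 = (Nat.card G).factorization 2} := by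
    refine Nat.card_le_card_of_injective (Subtype.map id fun χ hχ => ?_)
      (Subtype.map_injective _ Function.injective_id)
    by_contra h
    exact hχ (ClassSum.omega_sqOne_inM hM χ
      (fun h' => h ((ClassSum.isDefZero_iff Nat.prime_two χ).mpr h')))
  refine le_trans ?_ hS
  let v : X → S → k := fun C χ =>
    π ⟨(χ.1 : G → ℂ) (g C), CT.isIntegral_isCharacter (CT.isCharacter_of_isIrr χ.1.2) _⟩
  have hli : LinearIndependent k v := by
    rw [Fintype.linearIndependent_iff]
    intro l hl D
    let w : Cfsg.IrrCharacter G → AlgInt := fun χ =>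
      ⟨ClassSum.omega (χ : G → ℂ) (ClassSum.sqOne G) * (χ : G → ℂ) (g D)⁻¹,
        (ClassSum.omega_isIntegral χ.2 ClassSum.sqOne_isClassWeight).mul
          (CT.isIntegral_isCharacter (CT.isCharacter_of_isIrr χ.2) _)⟩
    let val : X → Cfsg.IrrCharacter G → AlgInt := fun C χ =>
      ⟨(χ : G → ℂ) (g C), CT.isIntegral_isCharacter (CT.isCharacter_of_isIrr χ.2) _⟩
    have hzero : ∑ C, l C * ∑ χ, π (val C χ) * π (w χ) = 0 := by
      simp only [Finset.mul_sum]
      rw [Finset.sum_comm]
      refine Finset.sum_eq_zero fun χ _ => ?_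
      by_cases hχ : ClassSum.InM M (ClassSum.omega (χ : G → ℂ) (ClassSum.sqOne G))
      · have : π (w χ) = 0 := by
          obtain ⟨m, hm, e⟩ := hχ.mul_right
            (CT.isIntegral_isCharacter (CT.isCharacter_of_isIrr χ.2) (g D)⁻¹)
          rw [show w χ = m from Subtype.ext e.symm]
          exact Ideal.Quotient.eq_zero_iff_mem.mpr hm
        simp [this]
      · have := congrFun hl ⟨χ, hχ⟩
        simp only [Finset.sum_apply, Pi.smul_apply, smul_eq_mul, Pi.zero_apply, v] at this
        simp only [← mul_assoc, ← Finset.sum_mul]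
        exact mul_eq_zero_of_left this _
    have hQ : ∀ C, ∑ χ, π (val C χ) * π (w χ) =
        if C = D then π (Nat.card (Subgroup.centralizer ({g D} : Set G)) : AlgInt) else 0 := by
      intro C
      have hsum : ((∑ χ, val C χ * w χ : AlgInt) : ℂ) =
          if C = D then (Nat.card (Subgroup.centralizer ({g D} : Set G)) : ℂ) else 0 := by
        push_cast
        have h := ClassSum.sum_char_omega_conj (ClassSum.sqOne_isClassWeight (G := G)) (g C) (g D)
        refine Eq.trans (Eq.trans (Finset.sum_congr rfl fun χ _ => ?_) h) ?_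
        · show _ = (χ : G → ℂ) (g C) * ClassSum.omega (χ : G → ℂ) (ClassSum.sqOne G) *
            (starRingEnd ℂ) ((χ : G → ℂ) (g D))
          rw [← CT.char_inv_eq_conj (CT.isCharacter_of_isIrr χ.2), mul_assoc]
        have hterm : ∀ z : G, (ClassSum.sqOne G z : ℂ) * (ClassSum.classInd (g D) (g C * z) : ℂ) =
            if z = 1 ∧ C = D then 1 else 0 := by
          intro z
          by_cases h1 : z * z = 1 ∧ IsConj (g D) (g C * z)
          · have hz3 : (g C * z) ^ 3 = 1 := by
              obtain ⟨c, hc⟩ := isConj_iff.mp h1.2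
              rw [← hc, conj_pow, ← (hg D).2.1, pow_orderOf_eq_one]
              group
            have hz := no_two_sub (hg C).2.1 (hg C).2.2 h1.1 hz3
            subst hz
            have hCD : C = D := by
              refine Subtype.ext ?_
              rw [← (hg C).1, ← (hg D).1]
              have h' := h1.2
              rw [mul_one] at h'
              exact (ConjClasses.mk_eq_mk_iff_isConj.mpr h').symm
            rw [if_pos ⟨rfl, hCD⟩, ClassSum.classInd_pos h1.2]
            simp [ClassSum.sqOne]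
          · rw [if_neg]
            · by_cases h2 : z * z = 1
              · rw [ClassSum.classInd_neg fun h => h1 ⟨h2, h⟩]; simp
              · simp [ClassSum.sqOne, h2]
            · rintro ⟨rfl, rfl⟩
              exact h1 ⟨one_mul 1, by rw [mul_one]⟩
        rw [Finset.sum_congr rfl fun z _ => hterm z]
        by_cases hCD : C = D <;> simp [hCD]
      rw [← Finset.sum_congr rfl fun χ _ => map_mul π (val C χ) (w χ), ← map_sum]
      split_ifs with hCD
      · rw [if_pos hCD] at hsum
        exact congrArg π (Subtype.ext (by simpa using hsum))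
      · rw [if_neg hCD] at hsum
        rw [show (∑ χ, val C χ * w χ : AlgInt) = 0 from Subtype.ext (by simpa using hsum), map_zero]
    rw [Finset.sum_congr rfl fun C _ => by rw [hQ C]] at hzero
    rw [Finset.sum_eq_single D (fun C _ h => by rw [if_neg h, mul_zero])
      (fun h => absurd (Finset.mem_univ D) h), if_pos rfl] at hzero
    refine (mul_eq_zero.mp hzero).resolve_right fun h0 => ?_
    exact odd_centralizer (hg D).2.2
      ((ClassSum.natCast_mem_iff hM _).mp (Ideal.Quotient.eq_zero_iff_mem.mp h0))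
  haveI := Fintype.ofFinite S
  have := hli.fintype_card_le_finrank
  rw [Module.finrank_fintype_fun_eq_card] at this
  simpa [← Nat.card_eq_fintype_card] using this

end Cfsg.Agent.S4737
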