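import Cfsg.Statements.S4738
import Cfsg.Agent.Lib.ClassSum.DefectZero

set_option autoImplicit false
open Cfsg

namespace Cfsg.Agent.S4738

/-- Let p be an odd prime and G a finite group of even order containing no element of order 2p. Then either G has an irreducible character of p-defect zero (its degree has the same p-part as the order of G), or every Sylow p-subgroup of G is abelian and all involutions of G are conjugate. -/
theorem result {G : Type*} [Group G] [Finite G] (p : ℕ) [Fact p.Prime] (hp2 : p ≠ 2) (hG : Even (Nat.card G)) (h2p : ∀ g : G, orderOf g ≠ 2 * p) : (∃ χ : Cfsg.IrrCharacter G, (Cfsg.charDegree (χ : G → ℂ)).factorization p = (Nat.card G).factorization p) ∨ ((∀ P : Sylow p G, IsMulCommutative ↥(P : Subgroup G)) ∧ ∀ s t : G, orderOf s = 2 → orderOf t = 2 → IsConj s t) := by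
  have hp : p.Prime := Fact.out
  by_cases h0 : ∃ χ : Cfsg.IrrCharacter G, ClassSum.IsDefZero p χ
  · exact Or.inl h0
  push Not at h0
  have hinv := fun (a : G) (ha : orderOf a = 2) =>
    ClassSum.exists_inverted_sylow hp2 h2p h0 ha
  have h2 : ∀ a : G, orderOf a = 2 → a * a = 1 := fun a ha => by
    rw [← pow_two, ← ha]; exact pow_orderOf_eq_one a
  refine Or.inr ⟨fun Q => ?_, fun s t hs ht => ?_⟩
  · obtain ⟨a, ha⟩ := exists_prime_orderOf_dvd_card' 2 (even_iff_two_dvd.mp hG)
    obtain ⟨P, _, hP⟩ := hinv a ha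
    exact ClassSum.sylow_commutative (h2 a ha) hP Q
  · obtain ⟨P, hP1, hP⟩ := hinv s hs
    obtain ⟨R, _, hR⟩ := hinv t ht
    obtain ⟨g, hg⟩ := MulAction.exists_smul_eq G R P
    set t' := g * t * g⁻¹ with ht'
    have htc : IsConj t t' := isConj_iff.mpr ⟨g, rfl⟩
    refine IsConj.trans ?_ htc.symm
    have hti : ∀ x ∈ (P : Subgroup G), t' * x * t' = x⁻¹ := by
      intro x hx
      rw [← hg, Sylow.coe_subgroup_smul, Subgroup.mem_pointwise_smul_iff_inv_smul_mem] at hx
      simp only [MulAut.smul_def, ← map_inv, MulAut.conj_apply, inv_inv] at hx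
      have h := hR _ hx
      calc t' * x * t' = g * (t * (g⁻¹ * x * g) * t) * g⁻¹ := by rw [ht']; group
        _ = x⁻¹ := by rw [h]; group
    have ht2 : t' * t' = 1 := by
      rw [ht', show g * t * g⁻¹ * (g * t * g⁻¹) = g * (t * t) * g⁻¹ by group, h2 t ht]
      simp
    have hs2 := h2 s hs
    set d := s * t' with hd
    have hdC : d ∈ Subgroup.centralizer ((P : Subgroup G) : Set G) := by
      refine Subgroup.mem_centralizer_iff.mpr fun x hx => ?_
      have h3 : s * x⁻¹ * s = x := by rw [hP _ ((P : Subgroup G).inv_mem hx), inv_inv]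
      calc x * d = (s * x⁻¹ * s) * s * t' := by rw [h3, hd]; group
        _ = s * x⁻¹ * (s * s) * t' := by group
        _ = s * (t' * x * t') * t' := by rw [hs2, mul_one, hti x hx]
        _ = d * x * (t' * t') := by rw [hd]; group
        _ = d * x := by rw [ht2, mul_one]
    have hodd : Odd (orderOf d) :=
      (ClassSum.odd_centralizer_of_no_two_p hp2 h2p P.2 hP1).of_dvd_nat
        (Subgroup.orderOf_dvd_natCard _ hdC)
    have hdi : s * d * s = d⁻¹ := by
      rw [hd, ← mul_assoc, hs2, one_mul, mul_inv_rev, inv_eq_of_mul_eq_one_left ht2,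
        inv_eq_of_mul_eq_one_left hs2]
    obtain ⟨k, hk⟩ := ClassSum.conj_of_inverted hs2 hodd hdi
    have e : s * d = t' := by rw [hd, ← mul_assoc, hs2, one_mul]
    exact isConj_iff.mpr ⟨(d ^ k)⁻¹, by rw [inv_inv, hk, e]⟩

end Cfsg.Agent.S4738
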