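import Cfsg.Statements.S4740
import Cfsg.Agent.Lib.ClassSum.Basic
import Cfsg.Agent.Lib.CT.Induced
import Cfsg.Agent.Lib.CT.Integral

set_option autoImplicit false
open Cfsg
open scoped ComplexConjugate

namespace Cfsg.Agent.S4740

/-- Let p be an odd prime, G a finite group of even order, x an involution of G and P a subgroup of G of order p ^ c such that no conjugate of x inverts a non-identity element of P. If p ^ a is the p-part of the order of C_G(x), then some irreducible character of G has degree divisible by p ^ (c - a). -/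
theorem result {G : Type*} [Group G] [Finite G] (p : ℕ) [Fact p.Prime] (hp2 : p ≠ 2) (hG : Even (Nat.card G)) (x : G) (hx : orderOf x = 2) (P : Subgroup G) (c : ℕ) (hP : Nat.card ↥P = p ^ c) (hinv : ∀ g : G, IsConj x g → ∀ z ∈ P, z ≠ 1 → g * z * g⁻¹ ≠ z⁻¹) (a : ℕ) (ha : (Nat.card ↥(Subgroup.centralizer ({x} : Set G))).factorization p = a) : ∃ χ : Cfsg.IrrCharacter G, p ^ (c - a) ∣ Cfsg.charDegree (χ : G → ℂ) := by
  classical
  haveI := Fintype.ofFinite G
  have hp : p.Prime := Fact.out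
  by_contra hcon
  push Not at hcon
  have hca : a < c := by
    by_contra h
    exact hcon (CT.trivIrr G) (by rw [Nat.sub_eq_zero_of_le (not_lt.mp h), pow_zero]; exact one_dvd _)
  set n' := Nat.card G / p ^ (Nat.card G).factorization p with hn'
  have hn'p : ¬ p ∣ n' := Nat.not_dvd_ordCompl hp Nat.card_pos.ne'
  -- the multiplicity of the principal character of P
  have hm : ∀ χ : Cfsg.IrrCharacter G, ∃ m : ℕ,
      ∑ z : P, (χ : G → ℂ) z = (p : ℂ) ^ c * m := by
    intro χ
    obtain ⟨m, hm⟩ := CT.classInner_character_nat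
      (CT.isCharacter_restrict P (CT.isCharacter_of_isIrr χ.2)) (CT.isCharacter_one (G := P))
    refine ⟨m, ?_⟩
    rw [← hm, classInner, hP, Nat.cast_pow, mul_inv_cancel_left₀]
    · simp
    · exact pow_ne_zero _ (Nat.cast_ne_zero.mpr hp.ne_zero)
  choose m hm using hm
  have hk : ∀ χ : Cfsg.IrrCharacter G, ∃ k : ℕ,
      p ^ c * (m χ * n') = CT.deg (χ : G → ℂ) * (p ^ (a + 1) * k) := by
    intro χ
    set d := CT.deg (χ : G → ℂ) with hd
    have hd0 : d ≠ 0 := (CT.deg_pos χ.2).ne'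
    set v := d.factorization p with hv
    have hvlt : v < c - a := by
      by_contra h
      exact hcon χ ((pow_dvd_pow p (not_lt.mp h)).trans (Nat.ordProj_dvd d p))
    have hdvd : d / p ^ v ∣ n' :=
      Nat.ordCompl_dvd_ordCompl_of_dvd (ClassSum.degree_dvd_card χ) p
    obtain ⟨r, hr⟩ := hdvd
    refine ⟨p ^ (c - a - 1 - v) * (m χ * r), ?_⟩
    rw [hr]
    conv_rhs => rw [← Nat.ordProj_mul_ordCompl_eq_self d p, ← hv]
    have he : c = v + (a + 1) + (c - a - 1 - v) := by omega
    conv_lhs => rw [he]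
    rw [pow_add, pow_add]
    ring
  choose k hk using hk
  -- only the identity of P contributes
  have hxi : x⁻¹ = x := by
    refine inv_eq_of_mul_eq_one_left ?_
    rw [← sq, ← hx, pow_orderOf_eq_one]
  have hzero : ∀ z : P, z ≠ 1 → ∑ χ : Cfsg.IrrCharacter G,
      (χ : G → ℂ) x * conj ((χ : G → ℂ) x) * (χ : G → ℂ) z / (χ : G → ℂ) 1 = 0 := by
    intro z hz
    have h := ClassSum.sum_char_omega_conj (ClassSum.classInd_isClassWeight (z : G)) x x
    have h0 : ∑ g, (ClassSum.classInd (z : G) g : ℂ) * (ClassSum.classInd x (x * g) : ℂ) = 0 := by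
      refine Finset.sum_eq_zero fun g _ => ?_
      by_cases h1 : IsConj (z : G) g
      · by_cases h2 : IsConj x (x * g)
        · exfalso
          obtain ⟨e, he⟩ := isConj_iff.mp h1
          obtain ⟨d, hd⟩ := isConj_iff.mp h2
          have hxx : x * x = 1 := by nth_rw 1 [← hxi]; exact inv_mul_cancel x
          have hsq : x * g * (x * g) = 1 := by
            rw [← hd, conj_mul, hxx, mul_one, mul_inv_cancel]
          refine hinv (e⁻¹ * x * e) (isConj_iff.mpr ⟨e⁻¹, by rw [inv_inv]⟩) z z.2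
            (fun h => hz (Subtype.ext h)) ?_
          have hxg : x * g * x = g⁻¹ := eq_inv_of_mul_eq_one_left (by rw [← hsq]; group)
          calc e⁻¹ * x * e * (z : G) * (e⁻¹ * x * e)⁻¹ = e⁻¹ * (x * (e * z * e⁻¹) * x⁻¹) * e := by
                group
            _ = e⁻¹ * g⁻¹ * e := by rw [he, hxi, hxg]
            _ = (z : G)⁻¹ := by rw [← he]; group
        · rw [ClassSum.classInd_neg h2]; simp
      · rw [ClassSum.classInd_neg h1]; simp
    rw [h0, mul_zero] at h
    have hN : (Nat.card {g : G // IsConj (z : G) g} : ℂ) ≠ 0 := by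
      haveI : Nonempty {g : G // IsConj (z : G) g} := ⟨⟨z, IsConj.refl _⟩⟩
      exact Nat.cast_ne_zero.mpr Nat.card_pos.ne'
    refine (mul_eq_zero.mp ?_).resolve_left hN
    rw [Finset.mul_sum, ← h]
    refine Finset.sum_congr rfl fun χ _ => ?_
    rw [ClassSum.omega_classInd _ (CT.isClassFunction_of_isIrr χ.2)]
    ring
  have key : (Nat.card (Subgroup.centralizer ({x} : Set G)) : ℂ) =
      ∑ χ : Cfsg.IrrCharacter G, (χ : G → ℂ) x * conj ((χ : G → ℂ) x) *
        ((p : ℂ) ^ c * m χ) / (χ : G → ℂ) 1 := by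
    simp only [← hm, Finset.mul_sum, Finset.sum_div]
    rw [Finset.sum_comm, Finset.sum_eq_single (1 : P)]
    · rw [← (if_pos (IsConj.refl x) : (if IsConj x x then
        (Nat.card (Subgroup.centralizer ({x} : Set G)) : ℂ) else 0) = _),
        ← CT.column_orthogonality x x]
      refine Finset.sum_congr rfl fun χ _ => ?_
      rw [OneMemClass.coe_one, mul_div_cancel_right₀ _ (CT.irr_one_ne_zero χ.2)]
    · exact fun z _ hz => hzero z hz
    · exact fun h => absurd (Finset.mem_univ _) h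
  have hint : IsIntegral ℤ (∑ χ : Cfsg.IrrCharacter G,
      (χ : G → ℂ) x * conj ((χ : G → ℂ) x) * (k χ : ℂ)) :=
    IsIntegral.sum _ fun χ _ => ((CT.isIntegral_isCharacter (CT.isCharacter_of_isIrr χ.2) x).mul
      (CT.isIntegral_conj (CT.isIntegral_isCharacter (CT.isCharacter_of_isIrr χ.2) x))).mul
      (CT.isIntegral_natCast _)
  set C := Nat.card (Subgroup.centralizer ({x} : Set G)) with hC
  have hCp : C = p ^ a * (C / p ^ a) := by
    rw [← ha]; exact (Nat.ordProj_mul_ordCompl_eq_self C p).symm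
  have heq : ((C / p ^ a * n' : ℕ) : ℂ) =
      (p : ℂ) * ∑ χ : Cfsg.IrrCharacter G, (χ : G → ℂ) x * conj ((χ : G → ℂ) x) * (k χ : ℂ) := by
    have hp0 : (p : ℂ) ^ a ≠ 0 := pow_ne_zero _ (Nat.cast_ne_zero.mpr hp.ne_zero)
    refine mul_left_cancel₀ hp0 ?_
    rw [← mul_assoc, ← pow_succ, Finset.mul_sum]
    have : (p : ℂ) ^ a * ((C / p ^ a * n' : ℕ) : ℂ) = (C : ℂ) * (n' : ℂ) := by
      conv_rhs => rw [hCp]
      push_cast
      ring
    rw [this, key, Finset.sum_mul]
    refine Finset.sum_congr rfl fun χ _ => ?_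
    have hd : (CT.deg (χ : G → ℂ) : ℂ) ≠ 0 := Nat.cast_ne_zero.mpr (CT.deg_pos χ.2).ne'
    have hk' : (p : ℂ) ^ c * ((m χ : ℂ) * (n' : ℂ)) =
        (CT.deg (χ : G → ℂ) : ℂ) * ((p : ℂ) ^ (a + 1) * (k χ : ℂ)) := by exact_mod_cast hk χ
    rw [CT.deg_eq (CT.isCharacter_of_isIrr χ.2), div_mul_eq_mul_div, div_eq_iff hd]
    linear_combination ((χ : G → ℂ) x * conj ((χ : G → ℂ) x)) * hk'
  have hdvd : p ∣ C / p ^ a * n' := by
    refine CT.dvd_of_isIntegral_div hp.ne_zero ?_
    rw [heq, mul_div_cancel_left₀ _ (Nat.cast_ne_zero.mpr hp.ne_zero)]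
    exact hint
  rcases hp.dvd_mul.mp hdvd with h | h
  · rw [← ha] at h
    exact Nat.not_dvd_ordCompl hp Nat.card_pos.ne' h
  · exact hn'p h

end Cfsg.Agent.S4740
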