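import Cfsg.Statements.S4741
import Cfsg.Agent.Lib.ClassSum.PEltGen
import Cfsg.Agent.Lib.Blocks.Regular
import Mathlib.LinearAlgebra.Matrix.NonsingularInverse
import Mathlib.LinearAlgebra.Dimension.StrongRankCondition

set_option autoImplicit false
open Cfsg

namespace Cfsg.Agent.S4741

open scoped ComplexConjugate
open Cfsg.Agent Cfsg.Agent.Blocks

universe u

/-- The weight `χ ↦ |G|⁻¹ ∑ χ(u)` over the p-elements. -/
noncomputable def pWeight {G : Type u} [Group G] [Fintype G] (p : ℕ) (χ : IrrCharacter G) : ℂ :=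
  (∑ g, (ClassSum.pElt p G g : ℂ) * (χ : G → ℂ) g) / (Nat.card G : ℂ)

theorem pWeight_mem_loc {G : Type u} [Group G] [Fintype G] {p : ℕ} [Fact p.Prime]
    {M : Ideal AlgInt} [M.IsPrime] (hM : IsPModular p M) (χ : IrrCharacter G) :
    pWeight p χ ∈ Loc M := by
  obtain ⟨n, hn⟩ := ClassSum.exists_sum_pElt p χ
  set m := Nat.card G / p ^ (Nat.card G).factorization p
  have hm : ¬ p ∣ m := Nat.not_dvd_ordCompl hM.1 Nat.card_pos.ne'
  have hI : ¬ MemLocalIdeal M (m : ℂ) := mt (memLocalIdeal_natCast hM m).mp hm
  have hm0 : (m : ℂ) ≠ 0 := Nat.cast_ne_zero.mpr fun h => hm (h ▸ dvd_zero p)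
  have e : pWeight p χ = (m : ℂ)⁻¹ * (n : ℂ) := by
    rw [← hn, pWeight, inv_mul_cancel_left₀ hm0]
  rw [e]
  exact mul_mem (inv_mem_loc (natCast_mem _ m) hI) (intCast_mem _ n)

theorem class_card {G : Type u} [Group G] [Fintype G] (g : G) :
    Nat.card {h : G // IsConj g h} = (Subgroup.centralizer ({g} : Set G)).index := by
  have h1 := CT.card_conj_class_mul_centralizer g
  have h2 := (Subgroup.centralizer ({g} : Set G)).index_mul_card
  exact Nat.eq_of_mul_eq_mul_right Nat.card_pos (h1.trans h2.symm)

theorem centralChar_eq_classOmega {G : Type u} [Group G] [Fintype G] (χ : IrrCharacter G) (g : G) :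
    centralChar (χ : G → ℂ) g = ClassSum.omega (χ : G → ℂ) (ClassSum.classInd g) := by
  rw [ClassSum.omega_classInd _ (CT.isClassFunction_of_isIrr χ.2), class_card, centralChar]

theorem pair_sum {G : Type u} [Group G] [Fintype G] {p : ℕ} (hp : p.Prime) {r : ℕ} (x : Fin r → G)
    (hx : ∀ i j : Fin r, IsConj (x i) (x j) → i = j)
    (hsep : ∀ i j : Fin r, ∀ g h : G, IsConj (x i) g → IsConj (x j) h → ∀ k : ℕ, 0 < k →
      orderOf (g * h⁻¹) ≠ p ^ k) (i j : Fin r) :
    ∑ χ : IrrCharacter G, pWeight p χ * conj ((χ : G → ℂ) (x i)) *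
      centralChar (χ : G → ℂ) (x j) = if i = j then 1 else 0 := by
  classical
  have h1 : ∀ u : G, (ClassSum.pElt p G u : ℂ) *
      ((Nat.card (Subgroup.centralizer ({x i} : Set G)) : ℂ) *
        ∑ g, (ClassSum.classInd (x j) g : ℂ) * (ClassSum.classInd (x i) (u * g) : ℂ)) =
      if u = 1 then (if i = j then (Nat.card G : ℂ) else 0) else 0 := by
    intro u
    by_cases hu : u = 1
    · subst hu
      have hp1 : ClassSum.pElt p G (1 : G) = 1 := by
        rw [ClassSum.pElt, if_pos ⟨0, by simp⟩]
      rw [if_pos rfl, hp1, Int.cast_one, one_mul]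
      by_cases hij : i = j
      · subst hij
        rw [if_pos rfl]
        have : ∀ g, (ClassSum.classInd (x i) g : ℂ) * (ClassSum.classInd (x i) (1 * g) : ℂ) =
            if IsConj (x i) g then 1 else 0 := by
          intro g
          by_cases hg : IsConj (x i) g
          · rw [ClassSum.classInd_pos hg, ClassSum.classInd_pos (by rwa [one_mul]), if_pos hg]
            simp
          · rw [ClassSum.classInd_neg hg, if_neg hg]
            simp
        rw [Finset.sum_congr rfl fun g _ => this g, Finset.sum_boole, ← Fintype.card_subtype,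
          ← Nat.card_eq_fintype_card, ← Nat.cast_mul, mul_comm,
          CT.card_conj_class_mul_centralizer]
      · rw [if_neg hij]
        refine mul_eq_zero_of_right _ (Finset.sum_eq_zero fun g _ => ?_)
        by_cases hg : IsConj (x j) g
        · rw [ClassSum.classInd_neg (x := x i) (g := 1 * g) (fun hc => hij (hx i j
            ((one_mul g ▸ hc).trans hg.symm)))]
          simp
        · simp [ClassSum.classInd_neg hg]
    · rw [if_neg hu]
      by_cases hup : ∃ k : ℕ, orderOf u = p ^ k
      · obtain ⟨k, hk⟩ := hup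
        refine mul_eq_zero_of_right _ (mul_eq_zero_of_right _ (Finset.sum_eq_zero fun g _ => ?_))
        by_cases hg : IsConj (x j) g
        · by_cases hug : IsConj (x i) (u * g)
          · refine absurd ?_ (hsep i j _ _ hug hg k (Nat.pos_of_ne_zero fun h0 => hu
              (orderOf_eq_one_iff.mp (by rw [hk, h0, pow_zero]))))
            simpa using hk
          · simp [ClassSum.classInd_neg hug]
        · simp [ClassSum.classInd_neg hg]
      · rw [ClassSum.pElt, if_neg hup]
        simp
  have h2 : ∑ u : G, (ClassSum.pElt p G u : ℂ) *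
      (∑ χ : IrrCharacter G, (χ : G → ℂ) u * ClassSum.omega (χ : G → ℂ) (ClassSum.classInd (x j)) *
        conj ((χ : G → ℂ) (x i))) = if i = j then (Nat.card G : ℂ) else 0 := by
    simp only [ClassSum.sum_char_omega_conj (ClassSum.classInd_isClassWeight (x j))]
    rw [Finset.sum_congr rfl fun u _ => h1 u, Finset.sum_ite_eq' Finset.univ (1 : G) _]
    simp
  simp only [Finset.mul_sum] at h2
  rw [Finset.sum_comm] at h2
  have h3 : ∀ χ : IrrCharacter G, pWeight p χ * conj ((χ : G → ℂ) (x i)) *
      centralChar (χ : G → ℂ) (x j) = (Nat.card G : ℂ)⁻¹ *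
      ∑ u : G, (ClassSum.pElt p G u : ℂ) * ((χ : G → ℂ) u *
        ClassSum.omega (χ : G → ℂ) (ClassSum.classInd (x j)) * conj ((χ : G → ℂ) (x i))) := by
    intro χ
    rw [← centralChar_eq_classOmega χ (x j), pWeight, div_eq_mul_inv, mul_comm _ (Nat.card G : ℂ)⁻¹]
    simp only [Finset.sum_mul, Finset.mul_sum]
    exact Finset.sum_congr rfl fun u _ => by ring
  rw [Finset.sum_congr rfl fun χ _ => h3 χ, ← Finset.mul_sum, h2]
  split_ifs with h
  · exact inv_mul_cancel₀ CT.card_ne_zero
  · exact mul_zero _

theorem exists_rows {K : Type*} [Field K] {ι β : Type*} [Fintype ι] {r : ℕ}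
    (A : Fin r → ι → K) (W : ι → Fin r → K) (f : ι → β) (hf : ∀ a b, f a = f b → W a = W b)
    (hI : ∀ i j, ∑ a, A i a * W a j = if i = j then 1 else 0) :
    ∃ s : Fin r → ι, Function.Injective (f ∘ s) ∧ IsUnit (Matrix.of fun k => W (s k)).det ∧
      ∀ k, (∃ i a, f a = f (s k) ∧ A i a ≠ 0) ∧ ∃ j, W (s k) j ≠ 0 := by
  classical
  let S : Set (Fin r → K) := W '' {a | ∃ i b, f b = f a ∧ A i b ≠ 0}
  have hspan : ⊤ ≤ Submodule.span K S := by
    intro v _
    have hv : v = ∑ a, (∑ i, v i * A i a) • W a := by
      funext j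
      simp only [Finset.sum_apply, Pi.smul_apply, smul_eq_mul, Finset.sum_mul]
      rw [Finset.sum_comm]
      simp only [mul_assoc, ← Finset.mul_sum, hI]
      simp
    rw [hv]
    refine Submodule.sum_mem _ fun a _ => ?_
    by_cases ha : ∀ i, A i a = 0
    · simp [ha]
    · push Not at ha
      obtain ⟨i, hi⟩ := ha
      exact Submodule.smul_mem _ _ (Submodule.subset_span ⟨a, ⟨i, a, rfl, hi⟩, rfl⟩)
  obtain ⟨b, hbS, hbspan, hbli⟩ := exists_linearIndependent K S
  haveI : Fintype b := ((Set.toFinite _).image W |>.subset hbS).fintype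
  have hcard : Fintype.card b = r := by
    have e := Module.finrank_eq_card_basis (Module.Basis.mk hbli (by
      rw [Subtype.range_coe, hbspan]; exact hspan))
    rw [← e, Module.finrank_fin_fun]
  let e : Fin r ≃ b := (Fintype.equivFinOfCardEq hcard).symm
  choose s hs1 hs2 using fun k => hbS (e k).2
  refine ⟨s, fun k k' h => e.injective (Subtype.ext ?_), ?_, fun k => ⟨?_, ?_⟩⟩
  · rw [← hs2 k, ← hs2 k']
    exact hf _ _ h
  · rw [← Matrix.isUnit_iff_isUnit_det, ← Matrix.linearIndependent_rows_iff_isUnit]
    have : (Matrix.of fun k => W (s k)).row = fun k => ((e k : b) : Fin r → K) := by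
      funext k j
      simp [Matrix.row, hs2 k]
    rw [this]
    exact hbli.comp e e.injective
  · exact hs1 k
  · by_contra h
    push Not at h
    exact hbli.ne_zero (e k) (funext fun j => by simp [← hs2 k, h j])

/-- Let p be a prime, M a maximal ideal of the algebraic integers containing p, and D a subgroup of the finite group G. Let x₁, …, x_r be pairwise non-conjugate elements of G such that D is a Sylow p-subgroup of the centralizer of each xᵢ, and such that for any conjugates g of some xᵢ and h of some xⱼ the element g h⁻¹ is never a non-identity p-element. Then there are r distinct p-blocks B₁, …, B_r of G, each having D as a defect group, such that for every choice of characters χᵢ ∈ Bᵢ of height zero the determinant of the r × r matrix (χᵢ(xⱼ)) does not lie in the local ideal at M. -/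
theorem result {G : Type*} [Group G] [Finite G] (p : ℕ) [Fact p.Prime] (M : Ideal Cfsg.AlgInt) (hM : Cfsg.IsPModular p M) (D : Subgroup G) {r : ℕ} (x : Fin r → G) (hx : ∀ i j : Fin r, IsConj (x i) (x j) → i = j) (hD : ∀ i : Fin r, ∃ S : Sylow p ↥(Subgroup.centralizer ({x i} : Set G)), (S : Subgroup ↥(Subgroup.centralizer ({x i} : Set G))).map (Subgroup.centralizer ({x i} : Set G)).subtype = D) (hsep : ∀ i j : Fin r, ∀ g h : G, IsConj (x i) g → IsConj (x j) h → ∀ k : ℕ, 0 < k → orderOf (g * h⁻¹) ≠ p ^ k) : ∃ B : Fin r → Set (Cfsg.IrrCharacter G), Function.Injective B ∧ (∀ i : Fin r, Cfsg.IsPBlock M (B i) ∧ Cfsg.IsDefectGroup p M (B i) D) ∧ ∀ χ : Fin r → Cfsg.IrrCharacter G, (∀ i : Fin r, χ i ∈ B i ∧ Cfsg.blockHeight p (B i) (χ i : G → ℂ) = 0) → ¬ Cfsg.MemLocalIdeal M (Matrix.det (Matrix.of fun i j : Fin r => (χ i : G → ℂ) (x j))) := by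
  classical
  haveI := Fintype.ofFinite G
  haveI := isPrime_of_modular hM
  have hp : p.Prime := hM.1
  have hpc := pair_sum hp x hx hsep
  let A : Fin r → IrrCharacter G → Res M := fun i χ =>
    red M ⟨pWeight p χ * (starRingEnd ℂ) ((χ : G → ℂ) (x i)), mul_mem (pWeight_mem_loc hM χ)
      (integral_mem_loc (CT.isIntegral_conj (isIntegral_irr χ.2 _)))⟩
  let W : IrrCharacter G → Fin r → Res M := fun χ j => red M (centralCharL M χ (x j))
  obtain ⟨s, hsinj, hdet, hsk⟩ := exists_rows A W (fun χ => blockOf M (χ : G → ℂ))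
    (fun a b h => funext fun j => sameBlock_iff_red.mp
      (show SameBlock M (a : G → ℂ) (b : G → ℂ) by
        have h' := self_mem_blockOf (M := M) b
        rw [← show blockOf M (a : G → ℂ) = blockOf M (b : G → ℂ) from h] at h'
        exact h') (x j))
    (fun i j => by
      simp only [A, W, ← map_mul, ← map_sum]
      rw [show (if i = j then (1 : Res M) else 0) = red M (if i = j then 1 else 0) by
        split_ifs <;> simp]
      congr 1
      apply Subtype.ext
      rw [AddSubmonoidClass.coe_finset_sum]
      simp only [Subring.coe_mul, coe_centralCharL]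
      rw [hpc i j]
      split_ifs <;> simp)
  set d : ℕ → ℕ := fun n => n.factorization p
  have hDc : ∀ i, D ≤ Subgroup.centralizer ({x i} : Set G) ∧
      Nat.card D = p ^ (Nat.card (Subgroup.centralizer ({x i} : Set G))).factorization p := by
    intro i
    obtain ⟨S, hS⟩ := hD i
    subst hS
    exact ⟨Subgroup.map_subtype_le _, card_sylow_map S⟩
  let B : Fin r → Set (IrrCharacter G) := fun k => blockOf M (s k : G → ℂ)
  have hB : ∀ k, IsPBlock M (B k) := fun k => isPBlock_blockOf (s k)
  have hdg : ∀ k, IsDefectGroup p M (B k) D := by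
    intro k
    obtain ⟨⟨i, χ, hχ, hA⟩, j, hj⟩ := hsk k
    have hχB : χ ∈ B k := by
      show χ ∈ blockOf M (s k : G → ℂ)
      exact (show blockOf M (χ : G → ℂ) = blockOf M (s k : G → ℂ) from hχ) ▸ self_mem_blockOf χ
    obtain ⟨E, hE⟩ := exists_defectGroup (p := p) (hB k)
    obtain ⟨g, hg, -, hEp, hEcard⟩ := defectGroup_spec hE
    obtain ⟨z, hz⟩ := defect_conj_le_centralizer hM (hB k) hE (self_mem_blockOf (s k))
      (h := x j) (fun h => hj (red_eq_zero_iff.mpr (by rw [coe_centralCharL]; exact h)))
    obtain ⟨y, hy⟩ := conj_le_of_le_centralizer (hDc j).1 (hDc j).2 (isPGroup_map_conj hEp z) hz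
    rw [map_conj_map_conj] at hy
    have hval : red M (charL M χ (x i)⁻¹) ≠ 0 := by
      intro h0
      apply hA
      show red M _ = 0
      rw [red_eq_zero_iff] at h0 ⊢
      refine memLocalIdeal_mul_left (pWeight_mem_loc hM χ) ?_
      rw [← CT.char_inv_eq_conj (CT.isCharacter_of_isIrr χ.2)]
      rwa [coe_charL] at h0
    have hci : Nat.card (Subgroup.centralizer ({(x i)⁻¹} : Set G)) =
        Nat.card (Subgroup.centralizer ({x i} : Set G)) := by
      refine congrArg (fun H : Subgroup G => Nat.card H) ?_
      ext c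
      simp only [Subgroup.mem_centralizer_singleton_iff]
      exact ⟨fun h => (Commute.inv_right_iff (G := G)).mp h, fun h => Commute.inv_right h⟩
    have hle : (Nat.card (Subgroup.centralizer ({x i} : Set G))).factorization p +
        (charDegree (χ : G → ℂ)).factorization p ≤ (Nat.card G).factorization p := by
      by_contra hlt
      push Not at hlt
      apply hval
      rw [red_eq_zero_iff, coe_charL]
      set y := (x i)⁻¹
      rw [← hci] at hlt
      set a := (Nat.card G).factorization p
      set n1 := Nat.card G / p ^ a with hn1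
      obtain ⟨t, ht⟩ : p ^ (a + 1) ∣
          Nat.card (Subgroup.centralizer ({y} : Set G)) * charDegree (χ : G → ℂ) := by
        refine (Nat.Prime.pow_dvd_iff_le_factorization hp ?_).mpr ?_
        · exact (Nat.mul_pos Nat.card_pos (charDegree_pos χ)).ne'
        · rw [Nat.factorization_mul Nat.card_pos.ne' (charDegree_pos χ).ne', Finsupp.coe_add,
            Pi.add_apply]
          omega
      have h := centralChar_mul χ y
      rw [charDegree_cast, ← Nat.cast_mul, ht, ← Nat.ordProj_mul_ordCompl_eq_self (Nat.card G) p]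
        at h
      push_cast at h
      have hp0 : (p : ℂ) ≠ 0 := Nat.cast_ne_zero.mpr hp.ne_zero
      have h2 : (p : ℂ) * ((t : ℂ) * centralChar (χ : G → ℂ) y) = (n1 : ℂ) * (χ : G → ℂ) y := by
        apply mul_left_cancel₀ (pow_ne_zero a hp0)
        rw [hn1]
        linear_combination h
      refine memLocalIdeal_of_mul (b := (n1 : ℂ)) (integral_mem_loc (isIntegral_irr χ.2 y))
        (natCast_mem _ _) (fun hI => Nat.not_dvd_ordCompl hp Nat.card_pos.ne'
          ((memLocalIdeal_natCast hM n1).mp hI)) ?_
      rw [← h2, mul_comm]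
      exact memLocalIdeal_mul_left (mul_mem (natCast_mem _ _)
        (integral_mem_loc (isIntegral_centralChar χ.2 y))) ((memLocalIdeal_natCast hM p).mpr dvd_rfl)
    have hge := le_factorization_of_defectClass hM hg hχB
    have heq : E.map (MulAut.conj (y * z)).toMonoidHom = D := by
      refine Subgroup.eq_of_le_of_card_ge hy ?_
      rw [card_map_conj, hEcard, (hDc i).2]
      exact Nat.pow_le_pow_right hp.pos (by omega)
    exact heq ▸ isDefectGroup_conj hE _
  refine ⟨B, hsinj, fun k => ⟨hB k, hdg k⟩, fun χ hχ hI => ?_⟩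
  have hzero : ∀ k, ∃ g, IsDefectClass M (B k) g ∧
      (Nat.card (Subgroup.centralizer ({g} : Set G))).factorization p +
        (charDegree (χ k : G → ℂ)).factorization p = (Nat.card G).factorization p ∧
      ∀ j, (Nat.card (Subgroup.centralizer ({x j} : Set G))).factorization p =
        (Nat.card (Subgroup.centralizer ({g} : Set G))).factorization p := by
    intro k
    obtain ⟨g, hg, -, -, hcard⟩ := defectGroup_spec (hdg k)
    exact ⟨g, hg, factorization_of_height_zero hM (hB k) hg (hχ k).1 (hχ k).2,
      fun j => Nat.pow_right_injective hp.two_le ((hDc j).2.symm.trans hcard)⟩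
  set n1 := Nat.card G / p ^ (Nat.card G).factorization p
  let a : Fin r → ℕ := fun k =>
    charDegree (χ k : G → ℂ) / p ^ (charDegree (χ k : G → ℂ)).factorization p
  let b : Fin r → ℕ := fun j => Nat.card (Subgroup.centralizer ({x j} : Set G)) /
    p ^ (Nat.card (Subgroup.centralizer ({x j} : Set G))).factorization p
  have hunit : ∀ n : ℕ, ¬ p ∣ n → IsUnit (n : Res M) := by
    intro n hn
    haveI := charP_res (M := M) hM
    exact isUnit_iff_ne_zero.mpr (mt (CharP.cast_eq_zero_iff (Res M) p n).mp hn)
  have hent : ∀ k j, (n1 : Res M) * red M (charL M (χ k) (x j)) =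
      (a k : Res M) * W (s k) j * (b j : Res M) := by
    intro k j
    obtain ⟨g, -, h1, h2⟩ := hzero k
    have hW : W (s k) j = red M (centralCharL M (χ k) (x j)) := sameBlock_iff_red.mp (hχ k).1 (x j)
    rw [hW, ← map_natCast (red M), ← map_natCast (red M), ← map_natCast (red M), ← map_mul,
      ← map_mul, ← map_mul]
    congr 1
    apply Subtype.ext
    simp only [Subring.coe_mul, coe_charL, coe_centralCharL, SubringClass.coe_natCast]
    have h := centralChar_mul (χ k) (x j)
    rw [charDegree_cast, ← Nat.ordProj_mul_ordCompl_eq_self (Nat.card G) p,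
      ← Nat.ordProj_mul_ordCompl_eq_self (Nat.card (Subgroup.centralizer ({x j} : Set G))) p,
      ← Nat.ordProj_mul_ordCompl_eq_self (charDegree (χ k : G → ℂ)) p] at h
    push_cast at h
    have hp0 : (p : ℂ) ≠ 0 := Nat.cast_ne_zero.mpr hp.ne_zero
    apply mul_left_cancel₀ (pow_ne_zero ((Nat.card G).factorization p) hp0)
    simp only [n1, a, b]
    rw [← h1, ← h2 j, pow_add] at h ⊢
    linear_combination -h
  have hmat : (Matrix.of fun k j => (n1 : Res M) * red M (charL M (χ k) (x j))) =
      Matrix.diagonal (fun k => (a k : Res M)) * (Matrix.of fun k => W (s k)) *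
        Matrix.diagonal (fun j => (b j : Res M)) := by
    ext k j
    simp [Matrix.mul_diagonal, Matrix.diagonal_mul, hent]
  have hu : IsUnit (Matrix.of fun k j => (n1 : Res M) * red M (charL M (χ k) (x j))).det := by
    rw [hmat, Matrix.det_mul, Matrix.det_mul, Matrix.det_diagonal, Matrix.det_diagonal]
    refine ((IsUnit.mul ?_ hdet).mul ?_) <;>
      exact IsUnit.prod_univ_iff.mpr fun k => hunit _ (Nat.not_dvd_ordCompl hp
        (by first | exact (charDegree_pos _).ne' | exact Nat.card_pos.ne'))
  have hz : (Matrix.of fun k j => red M (charL M (χ k) (x j))).det = 0 := by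
    have := RingHom.map_det (red M) (Matrix.of fun k j => charL M (χ k) (x j))
    rw [show (Matrix.of fun k j => red M (charL M (χ k) (x j))) =
      (red M).mapMatrix (Matrix.of fun k j => charL M (χ k) (x j)) from rfl, ← this, red_eq_zero_iff]
    have h2 := RingHom.map_det (Loc M).subtype (Matrix.of fun k j => charL M (χ k) (x j))
    simp only [Subring.coe_subtype] at h2
    rw [h2]
    exact hI
  rw [show (Matrix.of fun k j => (n1 : Res M) * red M (charL M (χ k) (x j))) =
    (n1 : Res M) • (Matrix.of fun k j => red M (charL M (χ k) (x j))) from rfl, Matrix.det_smul,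
    hz, mul_zero] at hu
  exact not_isUnit_zero hu

end Cfsg.Agent.S4741
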