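import Cfsg.Statements.S4742
import Cfsg.Agent.Lib.ClassSum.DefectZero

set_option autoImplicit false
open Cfsg

namespace Cfsg.Agent.S4742

/-- Let p ≠ q be primes dividing the order of the finite group G, and suppose the centralizer of every non-identity p-element of G has order prime to q. Then either G has an irreducible character of p-defect zero, or for every non-identity q-element z of G there are conjugates g, h of z such that g h⁻¹ is a non-identity p-element. -/
theorem result {G : Type*} [Group G] [Finite G] (p q : ℕ) [Fact p.Prime] [Fact q.Prime] (hppq : p ≠ q) (hpG : p ∣ Nat.card G) (hqG : q ∣ Nat.card G) (hC : ∀ g : G, g ≠ 1 → (∃ k : ℕ, orderOf g = p ^ k) → ¬ q ∣ Nat.card ↥(Subgroup.centralizer ({g} : Set G))) : (∃ χ : Cfsg.IrrCharacter G, (Cfsg.charDegree (χ : G → ℂ)).factorization p = (Nat.card G).factorization p) ∨ ∀ z : G, z ≠ 1 → (∃ k : ℕ, orderOf z = q ^ k) → ∃ g h : G, IsConj z g ∧ IsConj z h ∧ g * h⁻¹ ≠ 1 ∧ ∃ k : ℕ, orderOf (g * h⁻¹) = p ^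 k := by
  have hp : p.Prime := Fact.out
  have hq : q.Prime := Fact.out
  by_cases h0 : ∃ χ : Cfsg.IrrCharacter G, ClassSum.IsDefZero p χ
  · exact Or.inl h0
  push Not at h0
  refine Or.inr fun z hz1 hzq => ?_
  obtain ⟨k, hk⟩ := hzq
  -- the centralizer of z has order prime to p
  have hCz : ¬ p ∣ Nat.card (Subgroup.centralizer ({z} : Set G)) := by
    intro h
    obtain ⟨x, hx⟩ := exists_prime_orderOf_dvd_card' p h
    have hx1 : (x : G) ≠ 1 := fun e => by
      rw [← Subgroup.orderOf_coe, e, orderOf_one] at hx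
      exact hp.one_lt.ne hx
    refine hC x hx1 ⟨1, by rw [Subgroup.orderOf_coe, hx, pow_one]⟩ ?_
    have hk0 : k ≠ 0 := fun e => hz1 (orderOf_eq_one_iff.mp (by rw [hk, e, pow_zero]))
    exact (dvd_pow_self q hk0).trans (hk ▸ Subgroup.orderOf_dvd_natCard _
      (Subgroup.mem_centralizer_singleton_iff.mpr
        (Subgroup.mem_centralizer_singleton_iff.mp x.2).symm))
  have h := ClassSum.dvd_count_pElt hp h0 z z hCz
  let T := {w : G // (∃ k : ℕ, orderOf w = p ^ k) ∧ IsConj z (z * w)}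
  let one : T := ⟨1, ⟨0, by simp⟩, by rw [mul_one]⟩
  have hlt : 1 < Nat.card T := lt_of_lt_of_le hp.one_lt (Nat.le_of_dvd
    (Nat.card_pos_iff.mpr ⟨⟨one⟩, inferInstance⟩) h)
  haveI : Nontrivial T := Finite.one_lt_card_iff_nontrivial.mp hlt
  obtain ⟨w, hw⟩ := exists_ne one
  refine ⟨z * w.1, z, w.2.2, IsConj.refl z, ?_, ?_⟩
  · intro e
    exact hw (Subtype.ext (conj_eq_one_iff.mp e))
  · obtain ⟨j, hj⟩ := w.2.1
    refine ⟨j, ?_⟩
    rw [show z * w.1 * z⁻¹ = MulAut.conj z w.1 from rfl, MulEquiv.orderOf_eq, hj]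

end Cfsg.Agent.S4742
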