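import Cfsg.Statements.S4743
import Cfsg.Agent.S4742

set_option autoImplicit false
open Cfsg

namespace Cfsg.Agent.S4743

theorem key {G : Type*} [Group G] [Finite G] {p q : ℕ} (hp : p.Prime) (hq : q.Prime) (hpq : p ≠ q)
    (hpG : p ∣ Nat.card G) (hqG : q ∣ Nat.card G)
    (hC : ∀ g : G, g ≠ 1 → (∃ k : ℕ, orderOf g = p ^ k) →
      ¬ q ∣ Nat.card ↥(Subgroup.centralizer ({g} : Set G)))
    (hsolv : Cfsg.IsPSolvable p G) :
    (∃ χ : Cfsg.IrrCharacter G,
      (Cfsg.charDegree (χ : G → ℂ)).factorization p = (Nat.card G).factorization p) ∨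
    (∃ χ : Cfsg.IrrCharacter G,
      (Cfsg.charDegree (χ : G → ℂ)).factorization q = (Nat.card G).factorization q) := by
  haveI := Fact.mk hp
  haveI := Fact.mk hq
  have hC' : ∀ g : G, g ≠ 1 → (∃ k : ℕ, orderOf g = q ^ k) →
      ¬ p ∣ Nat.card ↥(Subgroup.centralizer ({g} : Set G)) := by
    intro g hg ⟨k, hk⟩ h
    obtain ⟨x, hx⟩ := exists_prime_orderOf_dvd_card' p h
    have hk0 : k ≠ 0 := fun e => hg (orderOf_eq_one_iff.mp (by rw [hk, e, pow_zero]))
    refine hC x (fun e => hp.one_lt.ne ?_) ⟨1, by rw [Subgroup.orderOf_coe, hx, pow_one]⟩ ?_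
    · rw [← hx, ← Subgroup.orderOf_coe, e, orderOf_one]
    · exact (dvd_pow_self q hk0).trans (hk ▸ Subgroup.orderOf_dvd_natCard _
        (Subgroup.mem_centralizer_singleton_iff.mpr
          (Subgroup.mem_centralizer_singleton_iff.mp x.2).symm))
  obtain ⟨n, H, h0, hlast, hmono, hnorm, hfac⟩ := hsolv
  have hex : ∃ i : Fin (n + 1), p ∣ Nat.card (H i) :=
    ⟨Fin.last n, by rw [hlast, Subgroup.card_top]; exact hpG⟩
  obtain ⟨j, hj, hmin⟩ := WellFounded.has_min (wellFounded_lt (α := Fin (n + 1)))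
    {i | p ∣ Nat.card (H i)} hex
  obtain ⟨i, rfl⟩ : ∃ i : Fin n, i.succ = j := by
    rcases Fin.eq_zero_or_eq_succ j with rfl | ⟨i, rfl⟩
    · exact absurd hj (by simp [h0, hp.ne_one])
    · exact ⟨i, rfl⟩
  have hlo : ¬ p ∣ Nat.card (H i.castSucc) := fun h => hmin _ h (Fin.castSucc_lt_succ (i := i))
  have hle : H i.castSucc ≤ H i.succ := hmono (Fin.castSucc_lt_succ (i := i)).le
  have hprod := Subgroup.relIndex_mul_relIndex ⊥ (H i.castSucc) (H i.succ) bot_le hle
  rw [Subgroup.relIndex_bot_left, Subgroup.relIndex_bot_left] at hprod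
  obtain ⟨m, hm⟩ : ∃ m : ℕ, (H i.castSucc).relIndex (H i.succ) = p ^ m := by
    rcases hfac i with h | h
    · exact h
    · have hj' : p ∣ Nat.card (H i.succ) := hj
      rw [← hprod] at hj'
      rcases (Nat.Prime.dvd_mul hp).mp hj' with h1 | h1
      · exact absurd h1 hlo
      · exact absurd h1 (hp.coprime_iff_not_dvd.mp h.symm)
  -- no conjugates in a normal subgroup N can differ by an r-element when r does not divide |N|
  have aux : ∀ (N : Subgroup G), N.Normal → ∀ r : ℕ, r.Prime → ¬ r ∣ Nat.card N → ∀ z ∈ N,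
      ¬ ∃ g h : G, IsConj z g ∧ IsConj z h ∧ g * h⁻¹ ≠ 1 ∧ ∃ k : ℕ, orderOf (g * h⁻¹) = r ^ k := by
    rintro N hN r hr hrN z hz ⟨g, h, hg, hh, hne, k, hk⟩
    obtain ⟨c, rfl⟩ := isConj_iff.mp hg
    obtain ⟨d, rfl⟩ := isConj_iff.mp hh
    have hmem := N.mul_mem (hN.conj_mem z hz c) (N.inv_mem (hN.conj_mem z hz d))
    have hk0 : k ≠ 0 := fun e => hne (orderOf_eq_one_iff.mp (by rw [hk, e, pow_zero]))
    exact hrN ((dvd_pow_self r hk0).trans (hk ▸ Subgroup.orderOf_dvd_natCard N hmem))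
  by_cases hqK : q ∣ Nat.card (H i.castSucc)
  · rcases S4742.result p q hpq hpG hqG hC with h | h
    · exact Or.inl h
    · obtain ⟨x, hx⟩ := exists_prime_orderOf_dvd_card' q hqK
      have hx' : orderOf (x : G) = q := (Subgroup.orderOf_coe x).trans hx
      have hx1 : (x : G) ≠ 1 := fun e => hq.one_lt.ne (by rw [← hx', e, orderOf_one])
      exact absurd (h _ hx1 ⟨1, by rw [hx', pow_one]⟩) (aux _ (hnorm _) p hp hlo _ x.2)
  · rcases S4742.result q p hpq.symm hqG hpG hC' with h | h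
    · exact Or.inr h
    · have hqR : ¬ q ∣ Nat.card (H i.succ) := by
        rw [← hprod, hm, hq.dvd_mul, not_or]
        exact ⟨hqK, fun e => hpq ((Nat.prime_dvd_prime_iff_eq hq hp).mp (hq.dvd_of_dvd_pow e)).symm⟩
      obtain ⟨x, hx⟩ := exists_prime_orderOf_dvd_card' p hj
      have hx' : orderOf (x : G) = p := (Subgroup.orderOf_coe x).trans hx
      have hx1 : (x : G) ≠ 1 := fun e => hp.one_lt.ne (by rw [← hx', e, orderOf_one])
      exact absurd (h _ hx1 ⟨1, by rw [hx', pow_one]⟩) (aux _ (hnorm _) q hq hqR _ x.2)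

/-- Let p ≠ q be primes dividing the order of the finite group G, suppose the centralizer of every non-identity p-element has order prime to q, and suppose G is p-solvable or q-solvable. Then G has an irreducible character of p-defect zero or an irreducible character of q-defect zero. -/
theorem result {G : Type*} [Group G] [Finite G] (p q : ℕ) [Fact p.Prime] [Fact q.Prime] (hppq : p ≠ q) (hpG : p ∣ Nat.card G) (hqG : q ∣ Nat.card G) (hC : ∀ g : G, g ≠ 1 → (∃ k : ℕ, orderOf g = p ^ k) → ¬ q ∣ Nat.card ↥(Subgroup.centralizer ({g} : Set G))) (hsolv : Cfsg.IsPSolvable p G ∨ Cfsg.IsPSolvable q G) : (∃ χ : Cfsg.IrrCharacter G, (Cfsg.charDegree (χ : G → ℂ)).factorization p = (Nat.card G).factorization p) ∨ (∃ χ : Cfsg.IrrCharacter G, (Cfsg.charDegree (χ : G → ℂ)).factorization q = (Nat.card G).factorization q) := by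
  rcases hsolv with h | h
  · exact key Fact.out Fact.out hppq hpG hqG hC h
  · refine (key (p := q) (q := p) Fact.out Fact.out hppq.symm hqG hpG ?_ h).symm
    intro g hg hgo hdvd
    obtain ⟨k, hk⟩ := hgo
    obtain ⟨x, hx⟩ := exists_prime_orderOf_dvd_card' p hdvd
    have hk0 : k ≠ 0 := fun e => hg (orderOf_eq_one_iff.mp (by rw [hk, e, pow_zero]))
    refine hC x (fun e => (Fact.out : p.Prime).one_lt.ne ?_)
      ⟨1, by rw [Subgroup.orderOf_coe, hx, pow_one]⟩ ?_
    · rw [← hx, ← Subgroup.orderOf_coe, e, orderOf_one]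
    · exact (dvd_pow_self q hk0).trans (hk ▸ Subgroup.orderOf_dvd_natCard _
        (Subgroup.mem_centralizer_singleton_iff.mpr
          (Subgroup.mem_centralizer_singleton_iff.mp x.2).symm))

end Cfsg.Agent.S4743
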