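import Cfsg.Statements.S4744
import Cfsg.Agent.Lib.ClassSum.DefectZero

set_option autoImplicit false
open Cfsg

namespace Cfsg.Agent.S4744

/-- Let p be an odd prime and G a finite group of even order divisible by p in which the centralizer of every non-identity p-element has odd order. Then either G has an irreducible character of p-defect zero, or the normalizer of every Sylow p-subgroup P of G has even order and P is abelian. -/
theorem result {G : Type*} [Group G] [Finite G] (p : ℕ) [Fact p.Prime] (hp2 : p ≠ 2) (hpG : p ∣ Nat.card G) (h2G : 2 ∣ Nat.card G) (hC : ∀ g : G, g ≠ 1 → (∃ k : ℕ, orderOf g = p ^ k) → Odd (Nat.card ↥(Subgroup.centralizer ({g} : Set G)))) : (∃ χ : Cfsg.IrrCharacter G, (Cfsg.charDegree (χ : G → ℂ)).factorization p = (Nat.card G).factorization p) ∨ ∀ P : Sylow p G, Even (Nat.card ↥(Subgroup.normalizer ((P : Subgroup G) : Set G))) ∧ IsMulCommutative ↥(P : Subgroup G) := by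
  by_cases h0 : ∃ χ : Cfsg.IrrCharacter G, ClassSum.IsDefZero p χ
  · exact Or.inl h0
  push Not at h0
  have hp : p.Prime := Fact.out
  have h2p : ∀ g : G, orderOf g ≠ 2 * p := by
    intro g hg
    have h1 : orderOf (g ^ 2) = p := by
      rw [orderOf_pow' _ two_ne_zero, hg, Nat.gcd_eq_right (dvd_mul_right 2 p)]
      exact Nat.mul_div_cancel_left p (by norm_num)
    have h3 : orderOf (g ^ p) = 2 := by
      rw [orderOf_pow' _ hp.ne_zero, hg, Nat.gcd_eq_right (dvd_mul_left p 2)]
      exact Nat.mul_div_cancel 2 hp.pos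
    have hne : g ^ 2 ≠ 1 := fun e => hp.one_lt.ne (by rw [← h1, e, orderOf_one])
    have hdvd := Subgroup.orderOf_dvd_natCard (Subgroup.centralizer ({g ^ 2} : Set G))
      (Subgroup.mem_centralizer_singleton_iff.mpr ((Commute.refl g).pow_pow p 2).eq)
    rw [h3] at hdvd
    exact (Nat.not_even_iff_odd.mpr (hC _ hne ⟨1, by rw [h1, pow_one]⟩)) (even_iff_two_dvd.mpr hdvd)
  refine Or.inr fun P => ?_
  obtain ⟨a, ha⟩ := exists_prime_orderOf_dvd_card' 2 h2G
  obtain ⟨R, hR1, hR⟩ := ClassSum.exists_inverted_sylow hp2 h2p h0 ha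
  have ha2 : a * a = 1 := by rw [← pow_two, ← ha]; exact pow_orderOf_eq_one a
  refine ⟨?_, ClassSum.sylow_commutative ha2 hR P⟩
  have haN : a ∈ Subgroup.normalizer ((R : Subgroup G) : Set G) := by
    rw [Subgroup.mem_normalizer_iff, inv_eq_of_mul_eq_one_left ha2]
    intro x
    refine ⟨fun hx => by rw [hR x hx]; exact (R : Subgroup G).inv_mem hx, fun hx => ?_⟩
    have : a * (a * x * a) * a = x := by
      calc a * (a * x * a) * a = (a * a) * x * (a * a) := by group
        _ = x := by rw [ha2]; group
    rw [← this, hR _ hx]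
    exact (R : Subgroup G).inv_mem hx
  have hcard : Nat.card (Subgroup.normalizer ((P : Subgroup G) : Set G)) =
      Nat.card (Subgroup.normalizer ((R : Subgroup G) : Set G)) := by
    refine Nat.eq_of_mul_eq_mul_right (m := Nat.card (Sylow p G)) Nat.card_pos ?_
    calc Nat.card (Subgroup.normalizer ((P : Subgroup G) : Set G)) * Nat.card (Sylow p G)
        = Nat.card G := by
          rw [P.card_eq_index_normalizer]; exact Subgroup.card_mul_index _
      _ = _ := by rw [R.card_eq_index_normalizer]; exact (Subgroup.card_mul_index _).symm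
  rw [hcard, even_iff_two_dvd, ← ha]
  exact Subgroup.orderOf_dvd_natCard _ haN

end Cfsg.Agent.S4744
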