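import Cfsg.Statements.S4746
import Cfsg.Agent.Lib.ClassSum.DefectZero
import Mathlib.Algebra.CharP.Two

set_option autoImplicit false
open Cfsg

namespace Cfsg.Agent.S4746

/-- If `z` is real with centralizer of odd order and is not `1`, some degree is even. -/
theorem exists_even_degree {G : Type*} [Group G] [Finite G] (z : G) (hz1 : z ≠ 1)
    (hreal : IsConj z z⁻¹) (hC : Odd (Nat.card (Subgroup.centralizer ({z} : Set G)))) :
    ∃ χ : Cfsg.IrrCharacter G, Even (Cfsg.charDegree (χ : G → ℂ)) := by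
  classical
  haveI := Fintype.ofFinite G
  by_contra hne
  push Not at hne
  obtain ⟨M, hM⟩ := ClassSum.exists_modular 2 Nat.prime_two
  haveI : M.IsMaximal := hM.2.1
  let π := Ideal.Quotient.mk M
  have h2 : π (2 : AlgInt) = 0 := Ideal.Quotient.eq_zero_iff_mem.mpr (by exact_mod_cast hM.2.2)
  haveI : CharP (AlgInt ⧸ M) 2 := by
    haveI := Ideal.Quotient.field M
    exact CharTwo.of_one_ne_zero_of_two_eq_zero one_ne_zero (by rw [← map_ofNat π]; exact h2)
  let v : Cfsg.IrrCharacter G → AlgInt := fun χ =>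
    ⟨(χ : G → ℂ) z, CT.isIntegral_isCharacter (CT.isCharacter_of_isIrr χ.2) z⟩
  have hone : ∀ χ : Cfsg.IrrCharacter G, π (CT.deg (χ : G → ℂ) : AlgInt) = 1 := fun χ => by
    obtain ⟨m, hm⟩ := Nat.not_even_iff_odd.mp (hne χ)
    have hm' : CT.deg (χ : G → ℂ) = 2 * m + 1 := hm
    rw [hm']
    push_cast
    rw [map_add, map_mul, h2, zero_mul, zero_add, map_one]
  have h0 : ∑ χ, π (v χ) = 0 := by
    have hsum : ∑ χ : Cfsg.IrrCharacter G, (CT.deg (χ : G → ℂ) : AlgInt) * v χ = 0 := by
      refine Subtype.ext ?_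
      push_cast
      rw [← (CT.regular_eq_sum z).trans (if_neg hz1)]
      exact Finset.sum_congr rfl fun χ _ => by rw [CT.deg_eq (CT.isCharacter_of_isIrr χ.2)]
    have := congrArg π hsum
    rw [map_sum, map_zero] at this
    rw [← this]
    exact Finset.sum_congr rfl fun χ _ => by rw [map_mul, hone, one_mul]
  have h1 : ∑ χ, π (v χ) ^ 2 = 1 := by
    have hsum : ∑ χ : Cfsg.IrrCharacter G, v χ * v χ =
        (Nat.card (Subgroup.centralizer ({z} : Set G)) : AlgInt) := by
      refine Subtype.ext ?_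
      push_cast
      have h := CT.column_orthogonality z z
      rw [if_pos (IsConj.refl z)] at h
      rw [← h]
      refine Finset.sum_congr rfl fun χ _ => ?_
      rw [← CT.char_inv_eq_conj (CT.isCharacter_of_isIrr χ.2),
        ← CT.isClassFunction_isConj (CT.isClassFunction_of_isIrr χ.2) hreal]
    obtain ⟨m, hm⟩ := hC
    have := congrArg π hsum
    rw [map_sum, hm] at this
    push_cast at this
    rw [map_add, map_mul, h2, zero_mul, zero_add, map_one] at this
    rw [← this]
    exact Finset.sum_congr rfl fun χ _ => by rw [map_mul, pow_two]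
  rw [← CharTwo.sum_sq, h0] at h1
  haveI := Ideal.Quotient.field M
  exact one_ne_zero (h1.symm.trans (zero_pow two_ne_zero))

/-- Let p be an odd prime and G a finite group of even order divisible by p in which the centralizer of every non-identity p-element has odd order. Then G has an irreducible character of p-defect zero or an irreducible character of even degree. -/
theorem result {G : Type*} [Group G] [Finite G] (p : ℕ) [Fact p.Prime] (hp2 : p ≠ 2) (hpG : p ∣ Nat.card G) (h2G : 2 ∣ Nat.card G) (hC : ∀ g : G, g ≠ 1 → (∃ k : ℕ, orderOf g = p ^ k) → Odd (Nat.card ↥(Subgroup.centralizer ({g} : Set G)))) : (∃ χ : Cfsg.IrrCharacter G, (Cfsg.charDegree (χ : G → ℂ)).factorization p = (Nat.card G).factorization p) ∨ ∃ χ : Cfsg.IrrCharacter G, Even (Cfsg.charDegree (χ : G → ℂ)) := by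
  by_cases h0 : ∃ χ : Cfsg.IrrCharacter G, ClassSum.IsDefZero p χ
  · exact Or.inl h0
  push Not at h0
  have hp : p.Prime := Fact.out
  obtain ⟨a, ha⟩ := exists_prime_orderOf_dvd_card' 2 h2G
  have ha2 : a * a = 1 := by rw [← pow_two, ← ha]; exact pow_orderOf_eq_one a
  have haC : ¬ p ∣ Nat.card (Subgroup.centralizer ({a} : Set G)) := by
    intro h
    obtain ⟨x, hx⟩ := exists_prime_orderOf_dvd_card' p h
    have hx1 : (x : G) ≠ 1 := fun e => hp.one_lt.ne (by rw [← hx, ← Subgroup.orderOf_coe, e, orderOf_one])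
    refine Nat.not_even_iff_odd.mpr (hC x hx1 ⟨1, by rw [Subgroup.orderOf_coe, hx, pow_one]⟩) ?_
    rw [even_iff_two_dvd, ← ha]
    exact Subgroup.orderOf_dvd_natCard _ (Subgroup.mem_centralizer_singleton_iff.mpr
      (Subgroup.mem_centralizer_singleton_iff.mp x.2).symm)
  obtain ⟨z, hz1, hzp, hz⟩ := ClassSum.exists_inverted hp h0 ha2 haC
  exact Or.inr (exists_even_degree z hz1
    (isConj_iff.mpr ⟨a, by rw [inv_eq_of_mul_eq_one_left ha2, hz]⟩) (hC z hz1 hzp))

end Cfsg.Agent.S4746
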