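import Cfsg.Statements.S4748
import Cfsg.Agent.Lib.Basics.CoprimeAction
import Cfsg.Agent.Lib.Basics.Frattini
import Cfsg.Agent.Lib.Basics.Cores
import Cfsg.Agent.Lib.Coprime23.PSolv
import Cfsg.Agent.Lib.Transfer.Constrained
import Cfsg.Agent.Lib.Blocks.Covering
import Cfsg.Agent.Lib.Blocks.Defect
import Cfsg.Agent.Lib.CT.Kernel
import Cfsg.Agent.Lib.Transfer.SL2Props

set_option autoImplicit false
set_option linter.all false
open scoped Pointwise
open Cfsg

namespace Cfsg.Agent.S4748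

open scoped commutatorElement ComplexConjugate
open Cfsg.Agent

universe u

theorem deg_bound {T : Type u} [Group T] [Finite T] (Q P : Subgroup T) [Q.Normal] {q : ℕ}
    [hq : Fact q.Prime] (hQ : IsPGroup q Q) (hcop : (Nat.card P).Coprime (Nat.card Q))
    (hfix : ∀ y ∈ P, y ≠ 1 → ∀ c ∈ Q, c * y = y * c → c ∈ Subgroup.centralizer (P : Set T))
    (hmin : ∀ U : Subgroup T, U ≤ Q → U ≠ Q → P ≤ Subgroup.normalizer (U : Set T) →
      U ≤ Subgroup.centralizer (P : Set T))
    (hne : ¬ Q ≤ Subgroup.centralizer (P : Set T)) {χ : T → ℂ} (hχ : IsCharacter T χ)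
    (hf : ∀ u ∈ Q, χ u = χ 1 → u = 1) : Nat.card P < charDegree χ ^ 2 := by
  classical
  haveI := Fintype.ofFinite T
  haveI := Fintype.ofFinite Q
  haveI := Fintype.ofFinite P
  haveI hQnil : Group.IsNilpotent Q := hQ.isNilpotent
  have hQsolv : ∀ (A : Subgroup T), Group.IsSolvable A ∨ Group.IsSolvable Q := fun A =>
    Or.inr inferInstance
  have hPQ : P ≤ Subgroup.normalizer (Q : Set T) := by
    rw [Subgroup.normalizer_eq_top]; exact le_top
  have hQP : ⁅Q, P⁆ = Q := by
    have hle : ⁅Q, P⁆ ≤ Q := Subgroup.le_normalizer_iff_commutator_le_left.mp hPQ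
    by_contra h
    have h2 := hmin _ hle h (Subgroup.normalizer_commutator_ge_right _ _)
    refine hne ?_
    have := Basics.le_centralizer_of_commutator_commutator_eq_bot P Q hPQ hcop (hQsolv P)
      (Subgroup.commutator_eq_bot_iff_le_centralizer.mpr h2)
    exact fun u hu => Subgroup.mem_centralizer_iff.mpr fun v hv =>
      (Subgroup.mem_centralizer_iff.mp (this hv) u hu).symm
  have hQ1 : Q ≠ ⊥ := fun h => hne (h ▸ bot_le)
  haveI : Nontrivial Q := (Subgroup.nontrivial_iff_ne_bot Q).mpr hQ1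
  set Φ := (frattini Q).map Q.subtype with hΦdef
  haveI hΦn : Φ.Normal := inferInstance
  have hΦQ : Φ ≤ Q := Subgroup.map_subtype_le _
  have hmemΦ : ∀ u : Q, (u : T) ∈ Φ ↔ u ∈ frattini Q := fun u =>
    Subgroup.mem_map_iff_mem Q.subtype_injective
  have hfr : frattini Q ≠ ⊤ := fun h => by
    have h1 := frattini_nongenerating (G := Q) (K := ⊥) (by rw [h, sup_top_eq])
    exact bot_ne_top h1
  have hΦne : Φ ≠ Q := fun h => hfr (eq_top_iff.mpr fun u _ => (hmemΦ u).mp (h.symm ▸ u.2))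
  have hΦC : Φ ≤ Subgroup.centralizer (P : Set T) :=
    hmin _ hΦQ hΦne (by rw [Subgroup.normalizer_eq_top]; exact le_top)
  have hΦP : ⁅Φ, P⁆ = ⊥ := Subgroup.commutator_eq_bot_iff_le_centralizer.mpr hΦC
  have hΦcent : Q ≤ Subgroup.centralizer (Φ : Set T) := by
    refine Subgroup.commutator_eq_bot_iff_le_centralizer.mp ?_
    rw [← hQP, Subgroup.commutator_comm Q P]
    refine Subgroup.commutator_commutator_eq_bot_of_rotate ?_ ?_
    · refine le_bot_iff.mp ((Subgroup.commutator_mono ?_ le_rfl).trans hΦP.le)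
      exact Subgroup.commutator_le_right Q Φ
    · rw [hΦP]; exact Subgroup.commutator_bot_left _
  have hQΦ : ⁅Q, Q⁆ ≤ Φ := by
    rw [Subgroup.commutator_le]
    intro a ha c hc
    exact (hmemΦ ⟨_, Q.mul_mem (Q.mul_mem (Q.mul_mem ha hc) (Q.inv_mem ha)) (Q.inv_mem hc)⟩).mpr
      (Basics.commutator_le_frattini (G := Q) (Subgroup.commutator_mem_commutator
        (Subgroup.mem_top (⟨a, ha⟩ : Q)) (Subgroup.mem_top (⟨c, hc⟩ : Q))))
  have hCΦ : ∀ c ∈ Q, c ∈ Subgroup.centralizer (P : Set T) → c ∈ Φ := by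
    intro c hc hcP
    set π := QuotientGroup.mk' Φ
    haveI : IsMulCommutative (Q.map π) := ⟨⟨by
      rintro ⟨_, a, ha, rfl⟩ ⟨_, d, hd, rfl⟩
      refine Subtype.ext ?_
      show π a * π d = π d * π a
      rw [← commutatorElement_eq_one_iff_mul_comm, ← map_commutatorElement]
      exact (QuotientGroup.eq_one_iff _).mpr (hQΦ (Subgroup.commutator_mem_commutator ha hd))⟩⟩
    have hcop' : (Nat.card (P.map π)).Coprime (Nat.card (Q.map π)) :=
      (hcop.coprime_dvd_left (Subgroup.card_map_dvd _ π)).coprime_dvd_right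
        (Subgroup.card_map_dvd _ π)
    have hn : P.map π ≤ Subgroup.normalizer ((Q.map π : Subgroup (T ⧸ Φ)) : Set (T ⧸ Φ)) := by
      haveI : (Q.map π).Normal := ‹Q.Normal›.map π (QuotientGroup.mk'_surjective Φ)
      rw [Subgroup.normalizer_eq_top]; exact le_top
    have h := Basics.inf_centralizer_inf_commutator_eq_bot (P.map π) (Q.map π) hn hcop'
    have hmem : π c ∈ (Q.map π ⊓ Subgroup.centralizer ((P.map π : Subgroup (T ⧸ Φ)) : Set (T ⧸ Φ))) ⊓
        ⁅Q.map π, P.map π⁆ := by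
      refine ⟨⟨⟨c, hc, rfl⟩, ?_⟩, ?_⟩
      · rintro _ ⟨a, ha, rfl⟩
        rw [← map_mul, ← map_mul, Subgroup.mem_centralizer_iff.mp hcP a ha]
      · rw [← Subgroup.map_commutator, hQP]; exact ⟨c, hc, rfl⟩
    rw [h, Subgroup.mem_bot] at hmem
    exact (QuotientGroup.eq_one_iff c).mp hmem
  have hcoset : ∀ (Z : Subgroup T), Φ ≤ Z → Z ≤ Q → Q ≤ Subgroup.normalizer (Z : Set T) →
      ∀ y ∈ P, y ≠ 1 → y ∈ Subgroup.normalizer (Z : Set T) → ∀ k ∈ Q,
        y * k * y⁻¹ * k⁻¹ ∈ Z → k ∈ Z := by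
    intro Z hΦZ hZQ hQZ y hy hy1 hyZ k hk hfixk
    have hQc : ∀ a ∈ Q, ∀ c ∈ Q, a * c * a⁻¹ * c⁻¹ ∈ Z := fun a ha c hc =>
      hΦZ (hQΦ (Subgroup.commutator_mem_commutator ha hc))
    let S : Subgroup T := Subgroup.zpowers y
    have hS : S ≤ P := Subgroup.zpowers_le.mpr hy
    let W : Subgroup T :=
      { carrier := {a | a ∈ Subgroup.normalizer (Z : Set T) ∧ a * k * a⁻¹ * k⁻¹ ∈ Z}
        one_mem' := ⟨one_mem _, by simp⟩
        mul_mem' := fun {a c} ha hc => ⟨mul_mem ha.1 hc.1, by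
          have := Z.mul_mem ((Subgroup.mem_normalizer_iff.mp ha.1 _).mp hc.2) ha.2
          rw [show a * c * k * (a * c)⁻¹ * k⁻¹ =
            a * (c * k * c⁻¹ * k⁻¹) * a⁻¹ * (a * k * a⁻¹ * k⁻¹) by group]
          exact this⟩
        inv_mem' := fun {a} ha => ⟨inv_mem ha.1, by
          have := (Subgroup.mem_normalizer_iff.mp (inv_mem ha.1) _).mp (Z.inv_mem ha.2)
          rw [show a⁻¹ * k * a⁻¹⁻¹ * k⁻¹ = a⁻¹ * (a * k * a⁻¹ * k⁻¹)⁻¹ * a⁻¹⁻¹ by group]
          exact this⟩ }
    have hSW : S ≤ W := Subgroup.zpowers_le.mpr ⟨hyZ, hfixk⟩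
    obtain ⟨c, hc, hcZ⟩ := Basics.exists_inf_centralizer_mem_coset S Q Z hZQ hQZ
      (fun a ha => (hSW ha).1) (hcop.coprime_dvd_left (Subgroup.card_dvd_of_le hS)) (hQsolv S) k hk
      fun a ha => (hSW ha).2
    have hcP := hfix y hy hy1 c hc.1
      (Subgroup.mem_centralizer_iff.mp hc.2 y (Subgroup.mem_zpowers y)).symm
    have := Z.mul_mem (hΦZ (hCΦ c hc.1 hcP)) (Z.inv_mem hcZ)
    simpa using this
  -- a nontrivial constituent
  have hres := CT.character_eq_sum (CT.isCharacter_restrict Q hχ)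
  obtain ⟨θ, hθm, hθ⟩ : ∃ θ : IrrCharacter Q, CT.mult (fun u : Q => χ u) (θ : Q → ℂ) ≠ 0 ∧
      ∃ u : Q, (θ : Q → ℂ) u ≠ (θ : Q → ℂ) 1 := by
    by_contra h
    push Not at h
    obtain ⟨u, hu⟩ := exists_ne (1 : Q)
    refine hu (Subtype.ext (hf u u.2 ?_))
    have h1 := congrFun hres u
    have h2 := congrFun hres 1
    simp only [Finset.sum_apply, Pi.smul_apply, smul_eq_mul, OneMemClass.coe_one] at h1 h2
    rw [h1, h2]
    refine Finset.sum_congr rfl fun η _ => ?_
    by_cases hm : CT.mult (fun u : Q => χ u) (η : Q → ℂ) = 0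
    · simp [hm]
    · rw [h η hm u]
  set t := charDegree (θ : Q → ℂ)
  have ht1 : (θ : Q → ℂ) 1 = (t : ℂ) := Blocks.charDegree_cast θ
  -- the orbit
  let F : P → IrrCharacter Q := fun y => Blocks.conjIrr (y : T) θ
  let R : Subgroup P :=
    { carrier := {y | F y = θ}
      one_mem' := Blocks.conjIrr_one θ
      mul_mem' := fun {a c} ha hc => by
        show Blocks.conjIrr ((a : T) * (c : T)) θ = θ
        rw [Blocks.conjIrr_mul, show Blocks.conjIrr (a : T) θ = θ from ha]
        exact hc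
      inv_mem' := fun {a} ha => by
        show Blocks.conjIrr ((a : T)⁻¹) θ = θ
        conv_lhs => rw [← show Blocks.conjIrr (a : T) θ = θ from ha]
        rw [← Blocks.conjIrr_mul, mul_inv_cancel, Blocks.conjIrr_one] }
  set O := Finset.univ.image F
  have hOR : Nat.card P = O.card * Nat.card R := by
    rw [Nat.card_eq_fintype_card, ← Finset.card_univ,
      Finset.card_eq_sum_card_image F Finset.univ, ← smul_eq_mul, ← Finset.sum_const]
    refine Finset.sum_congr rfl fun o ho => ?_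
    obtain ⟨a, -, rfl⟩ := Finset.mem_image.mp ho
    rw [← Fintype.card_subtype, ← Nat.card_eq_fintype_card]
    exact Nat.card_congr
      { toFun := fun b => ⟨b.1 * a⁻¹, by
          show Blocks.conjIrr ((b.1 : T) * (a : T)⁻¹) θ = θ
          rw [Blocks.conjIrr_mul, show Blocks.conjIrr (b.1 : T) θ = Blocks.conjIrr (a : T) θ from b.2,
            ← Blocks.conjIrr_mul, mul_inv_cancel, Blocks.conjIrr_one]⟩
        invFun := fun c => ⟨c.1 * a, by
          show Blocks.conjIrr ((c.1 : T) * (a : T)) θ = Blocks.conjIrr (a : T) θ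
          rw [Blocks.conjIrr_mul, show Blocks.conjIrr (c.1 : T) θ = θ from c.2]⟩
        left_inv := fun b => Subtype.ext (by simp)
        right_inv := fun c => Subtype.ext (by simp) }
  have hd : O.card * t ≤ charDegree χ := by
    have h1 := congrFun hres 1
    simp only [Finset.sum_apply, Pi.smul_apply, smul_eq_mul, OneMemClass.coe_one,
      Blocks.charDegree_cast] at h1
    have hchi : χ 1 = (charDegree χ : ℂ) := by
      rw [CT.deg_eq hχ]
      simp [charDegree, CT.deg_eq hχ]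
    rw [hchi] at h1
    have h2 : charDegree χ =
        ∑ η : IrrCharacter Q, CT.mult (fun u : Q => χ u) (η : Q → ℂ) * charDegree (η : Q → ℂ) := by
      exact_mod_cast h1
    rw [h2, ← smul_eq_mul, ← Finset.sum_const]
    refine le_trans (Finset.sum_le_sum fun η hη => ?_)
      (Finset.sum_le_sum_of_subset_of_nonneg (Finset.subset_univ O) fun _ _ _ => Nat.zero_le _)
    obtain ⟨a, -, rfl⟩ := Finset.mem_image.mp hη
    have hdeg : charDegree (F a : Q → ℂ) = t := by
      simp only [charDegree, F, Blocks.coe_conjIrr, CT.conjFun, t]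
      congr 4
      exact congrArg _ (Subtype.ext (by simp))
    rw [hdeg]
    refine Nat.le_mul_of_pos_left _ (Nat.pos_of_ne_zero ?_)
    intro h0
    apply hθm
    have h3 := CT.mult_spec (CT.isCharacter_restrict Q hχ) (CT.isCharacter_of_isIrr (F a).2)
    rw [h0, Blocks.classInner_conjIrr (CT.isClassFunction_of_isCharacter hχ),
      CT.mult_spec (CT.isCharacter_restrict Q hχ) (CT.isCharacter_of_isIrr θ.2)] at h3
    exact_mod_cast h3
  have hO : 0 < O.card := Finset.card_pos.mpr ⟨F 1, Finset.mem_image_of_mem _ (Finset.mem_univ _)⟩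
  suffices hRt : Nat.card R = 1 ∨ Nat.card R < t ^ 2 by
    have hP1 : 1 < Nat.card P := by
      refine Finite.one_lt_card_iff_nontrivial.mpr ((Subgroup.nontrivial_iff_ne_bot P).mpr fun h => hne ?_)
      intro u _
      rw [h, Subgroup.mem_centralizer_iff]
      intro v hv
      rw [Subgroup.coe_bot, Set.mem_singleton_iff] at hv
      simp [hv]
    have ht : 0 < t := Blocks.charDegree_pos θ
    rcases hRt with hR | hR
    · rw [hR, mul_one] at hOR
      calc Nat.card P < Nat.card P ^ 2 := by rw [pow_two]; exact lt_mul_self hP1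
        _ ≤ charDegree χ ^ 2 := Nat.pow_le_pow_left (by
            rw [hOR]; exact (Nat.le_mul_of_pos_right _ ht).trans hd) 2
    · calc Nat.card P = O.card * Nat.card R := hOR
        _ < O.card * t ^ 2 := Nat.mul_lt_mul_of_pos_left hR hO
        _ ≤ O.card ^ 2 * t ^ 2 := Nat.mul_le_mul_right _ (Nat.le_self_pow two_ne_zero _)
        _ = (O.card * t) ^ 2 := (mul_pow _ _ _).symm
        _ ≤ charDegree χ ^ 2 := Nat.pow_le_pow_left hd 2
  rcases eq_or_ne R ⊥ with hR | hR
  · exact Or.inl (by rw [hR, Subgroup.card_bot])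
  right
  obtain ⟨y₀, hy₀, hy₀1⟩ := R.bot_or_exists_ne_one.resolve_left hR
  have hyfix : ∀ y ∈ R, ∀ (u : Q) (hu : (y : T) * u * (y : T)⁻¹ ∈ Q),
      (θ : Q → ℂ) ⟨_, hu⟩ = (θ : Q → ℂ) u := fun y hy u hu => by
    have := congrFun (congrArg Subtype.val (show Blocks.conjIrr (y : T) θ = θ from hy)) u
    simpa [CT.conjFun] using this
  obtain ⟨nd, ρ, hρ, hθρ⟩ := θ.2
  haveI := hρ
  have hchar : ∀ u, (θ : Q → ℂ) u = ρ.character u := fun u => (congrFun hθρ u).symm
  -- the scalar elements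
  let Z₀ : Subgroup Q :=
    { carrier := {k | ∀ h, ρ k * ρ h = ρ h * ρ k}
      one_mem' := fun h => by simp
      mul_mem' := fun {a c} ha hc h => by rw [map_mul, mul_assoc, hc, ← mul_assoc, ha, mul_assoc]
      inv_mem' := fun {a} ha h => by
        have h1 : ρ a⁻¹ * ρ a = 1 := by rw [← map_mul, inv_mul_cancel, map_one]
        have h2 : ρ a * ρ a⁻¹ = 1 := by rw [← map_mul, mul_inv_cancel, map_one]
        calc ρ a⁻¹ * ρ h = ρ a⁻¹ * (ρ h * ρ a) * ρ a⁻¹ := by rw [mul_assoc, mul_assoc, h2, mul_one]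
          _ = ρ a⁻¹ * (ρ a * ρ h) * ρ a⁻¹ := by rw [ha h]
          _ = ρ h * ρ a⁻¹ := by rw [← mul_assoc (ρ a⁻¹), h1, one_mul] }
  have hscal : ∀ k ∈ Z₀, ∃ ω : ℂ, ρ k = ω • LinearMap.id ∧ ‖ω‖ = 1 := by
    intro k hk
    obtain ⟨ω, hω⟩ : ∃ ω : ℂ, ρ k = ω • LinearMap.id :=
      ⟨_, CT.eq_scalar_of_commute ρ (ρ k) fun g => hk g⟩
    refine ⟨ω, hω, ?_⟩
    have hn : ω ^ orderOf k = 1 := by
      have h1 : ρ (k ^ orderOf k) = ω ^ orderOf k • (1 : Module.End ℂ _) := by
        rw [map_pow, hω, ← Module.End.one_eq_id, smul_pow, one_pow]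
      rw [pow_orderOf_eq_one, map_one] at h1
      have h2 := congrArg (LinearMap.trace ℂ _) h1
      rw [map_smul, smul_eq_mul] at h2
      have hne : LinearMap.trace ℂ (Fin nd → ℂ) 1 ≠ 0 := by
        have := CT.irr_one_ne_zero θ.2
        rwa [hchar, Representation.character, map_one] at this
      exact (mul_eq_right₀ hne).mp h2.symm
    exact Complex.norm_eq_one_of_pow_eq_one hn (orderOf_pos k).ne'
  have hvanish : ∀ k, (θ : Q → ℂ) k ≠ 0 → k ∈ Z₀ := by
    intro k hk h
    set c := h * k * h⁻¹ * k⁻¹ with hc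
    have hcΦ : (c : T) ∈ Φ := hQΦ (Subgroup.commutator_mem_commutator h.2 k.2)
    have hcz : c ∈ Subgroup.center Q := Subgroup.mem_center_iff.mpr fun v =>
      Subtype.ext (Subgroup.mem_centralizer_iff.mp (hΦcent v.2) _ hcΦ).symm
    obtain ⟨ω, hω, -⟩ := CT.central_scalar ρ hcz
    have h1 : (θ : Q → ℂ) (h * k * h⁻¹) = ω * (θ : Q → ℂ) k := by
      rw [show h * k * h⁻¹ = c * k by simp [hc], hchar, hchar, Representation.character, map_mul, hω]
      simp [Representation.character, Module.End.mul_eq_comp]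
    rw [Blocks.isClassFn_irr θ k h] at h1
    have hω1 : ω = 1 := (mul_eq_right₀ hk).mp h1.symm
    have hkh : h * k = c * (k * h) := by simp [hc, mul_assoc]
    conv_rhs => rw [← map_mul, hkh, map_mul, hω, hω1, one_smul, ← Module.End.one_eq_id, one_mul, map_mul]
  have hZval : ∀ k ∈ Z₀, ‖(θ : Q → ℂ) k‖ = (t : ℝ) := by
    intro k hk
    obtain ⟨ω, hω, hn⟩ := hscal k hk
    have : (θ : Q → ℂ) k = ω * (θ : Q → ℂ) 1 := by
      rw [hchar, hchar, Representation.character, hω, map_smul, smul_eq_mul,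
        Representation.character, map_one, Module.End.one_eq_id]
    rw [this, norm_mul, hn, one_mul, ht1, Complex.norm_natCast]
  have hZiff : ∀ k, k ∈ Z₀ ↔ (θ : Q → ℂ) k ≠ 0 := fun k => ⟨fun hk h0 => by
    have := hZval k hk
    rw [h0, norm_zero] at this
    exact (Blocks.charDegree_pos θ).ne' (by exact_mod_cast this.symm), hvanish k⟩
  have hcardQ : Nat.card Q = Nat.card Z₀ * t ^ 2 := by
    have h := CT.irr_inner_self θ.2
    rw [classInner, inv_mul_eq_iff_eq_mul₀ CT.card_ne_zero, mul_one] at h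
    have h' : ∑ k : Q, (θ : Q → ℂ) k * conj ((θ : Q → ℂ) k) =
        ∑ k ∈ Finset.univ.filter (fun k => k ∈ Z₀), ((t : ℂ) ^ 2) := by
      rw [Finset.sum_filter]
      refine Finset.sum_congr rfl fun k _ => ?_
      by_cases hk : k ∈ Z₀
      · rw [if_pos hk, Complex.mul_conj', hZval k hk, Complex.ofReal_natCast]
      · rw [if_neg hk, not_not.mp (mt (hZiff k).mpr hk), zero_mul]
    rw [h', Finset.sum_const, ← Fintype.card_subtype, ← Nat.card_eq_fintype_card, nsmul_eq_mul] at h
    exact_mod_cast h.symm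
  set Z := Z₀.map Q.subtype
  have hmemZ : ∀ u : Q, (u : T) ∈ Z ↔ u ∈ Z₀ := fun u => Subgroup.mem_map_iff_mem Q.subtype_injective
  have hΦZ : Φ ≤ Z := by
    intro u hu
    refine (hmemZ ⟨u, hΦQ hu⟩).mpr fun h => ?_
    rw [← map_mul, ← map_mul]
    exact congrArg _ (Subtype.ext (Subgroup.mem_centralizer_iff.mp (hΦcent h.2) u hu))
  have hQZ : Q ≤ Subgroup.normalizer (Z : Set T) := by
    intro a ha
    have key : ∀ a ∈ Q, ∀ u ∈ Z, a * u * a⁻¹ ∈ Z := fun a ha u hu => by
      have hu' : u ∈ Q := Subgroup.map_subtype_le _ hu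
      have := Z.mul_mem (hΦZ (hQΦ (Subgroup.commutator_mem_commutator ha hu'))) hu
      rwa [commutatorElement_def, inv_mul_cancel_right] at this
    refine Subgroup.mem_normalizer_iff.mpr fun u => ⟨key a ha u, fun hu => ?_⟩
    simpa [mul_assoc] using key a⁻¹ (Q.inv_mem ha) _ hu
  have hRZ : ∀ y ∈ R, (y : T) ∈ Subgroup.normalizer (Z : Set T) := by
    have key : ∀ y ∈ R, ∀ u ∈ Z, (y : T) * u * (y : T)⁻¹ ∈ Z := fun y hy u hu => by
      have hu' : u ∈ Q := Subgroup.map_subtype_le _ hu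
      have hc : (y : T) * u * (y : T)⁻¹ ∈ Q := ‹Q.Normal›.conj_mem u hu' _
      refine (hmemZ ⟨_, hc⟩).mpr ((hZiff _).mpr ?_)
      rw [hyfix y hy ⟨u, hu'⟩ hc]
      exact (hZiff _).mp ((hmemZ ⟨u, hu'⟩).mp hu)
    intro y hy
    refine Subgroup.mem_normalizer_iff.mpr fun u => ⟨key y hy u, fun hu => ?_⟩
    simpa [mul_assoc] using key y⁻¹ (R.inv_mem hy) _ hu
  have hne1 : (y₀ : T) ≠ 1 := fun h => hy₀1 (Subtype.ext h)
  -- `θ` is not linear
  obtain ⟨k₀, hk₀⟩ : ∃ k₀ : Q, k₀ ∉ Z₀ := by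
    by_contra hall
    push Not at hall
    obtain ⟨u, hu⟩ := hθ
    apply hu
    have hlin : t = 1 := by
      have h := hcardQ
      rw [show Nat.card Z₀ = Nat.card Q from by
        rw [show Z₀ = ⊤ from eq_top_iff.mpr fun k _ => hall k, Subgroup.card_top]] at h
      have ht2 : t ^ 2 = 1 := (Nat.eq_of_mul_eq_mul_left Nat.card_pos (by rw [mul_one]; exact h.symm))
      exact (pow_eq_one_iff.mp ht2).resolve_right two_ne_zero
    have hθ1 : (θ : Q → ℂ) 1 = 1 := by rw [ht1, hlin, Nat.cast_one]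
    obtain ⟨φ, hφ⟩ := CT.exists_hom_of_degree_one (CT.isCharacter_of_isIrr θ.2) hθ1
    have hker : ⁅Q, Subgroup.zpowers (y₀ : T)⁆ ≤ φ.ker.map Q.subtype := by
      rw [Subgroup.commutator_le]
      intro k hk a ha
      obtain ⟨i, rfl⟩ := Subgroup.mem_zpowers_iff.mp ha
      have hc : ((y₀ ^ i : P) : T) * k⁻¹ * ((y₀ ^ i : P) : T)⁻¹ ∈ Q :=
        ‹Q.Normal›.conj_mem _ (Q.inv_mem hk) _
      refine ⟨⟨k, hk⟩ * ⟨_, hc⟩, ?_, ?_⟩
      · refine MonoidHom.mem_ker.mpr (Units.ext ?_)
        rw [Units.val_one, ← hθ1, map_mul, Units.val_mul, ← congrFun hφ, ← congrFun hφ,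
          hyfix _ (R.zpow_mem hy₀ i) ⟨k⁻¹, Q.inv_mem hk⟩ hc, congrFun hφ, congrFun hφ,
          ← Units.val_mul, ← map_mul,
          show (⟨k, hk⟩ : Q) * ⟨k⁻¹, Q.inv_mem hk⟩ = 1 from Subtype.ext (mul_inv_cancel k),
          map_one, Units.val_one, hθ1]
      · simp [commutatorElement_def, mul_assoc]
    have hgen : φ.ker ⊔ frattini Q = ⊤ := by
      rw [eq_top_iff]
      intro k _
      obtain ⟨n, hn, c, hc, hkc⟩ := Basics.exists_mem_commutator_mul (Subgroup.zpowers (y₀ : T)) Q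
        (by rw [Subgroup.normalizer_eq_top]; exact le_top)
        (hcop.coprime_dvd_left (Subgroup.card_dvd_of_le (Subgroup.zpowers_le.mpr y₀.2)))
        (hQsolv _) k.2
      obtain ⟨n', hn', rfl⟩ := hker hn
      have hcΦ := hCΦ c hc.1 (hfix y₀ y₀.2 hne1 c hc.1
        (Subgroup.mem_centralizer_iff.mp hc.2 _ (Subgroup.mem_zpowers _)).symm)
      rw [show k = n' * ⟨c, hc.1⟩ from Subtype.ext hkc]
      exact mul_mem (Subgroup.mem_sup_left hn') (Subgroup.mem_sup_right ((hmemΦ ⟨c, hc.1⟩).mp hcΦ))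
    have hu1 : u ∈ φ.ker := (frattini_nongenerating hgen).symm ▸ Subgroup.mem_top u
    rw [congrFun hφ, MonoidHom.mem_ker.mp hu1, Units.val_one, hθ1]
  haveI : (Z.subgroupOf Q).Normal :=
    (Subgroup.normal_subgroupOf_iff_le_normalizer (Subgroup.map_subtype_le _)).mpr hQZ
  have hidx : Nat.card (Q ⧸ Z.subgroupOf Q) = t ^ 2 := by
    have h := Subgroup.card_eq_card_quotient_mul_card_subgroup (Z.subgroupOf Q)
    rw [show Z.subgroupOf Q = Z₀ from
      Subgroup.comap_map_eq_self_of_injective Q.subtype_injective Z₀] at h ⊢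
    refine Nat.eq_of_mul_eq_mul_right (Nat.card_pos (α := Z₀)) ?_
    rw [← h, hcardQ, mul_comm]
  haveI := Fintype.ofFinite (Q ⧸ Z.subgroupOf Q)
  let g : R → Q ⧸ Z.subgroupOf Q := fun y =>
    QuotientGroup.mk (⟨((y : P) : T) * (k₀ : T) * ((y : P) : T)⁻¹,
      ‹Q.Normal›.conj_mem _ k₀.2 _⟩ : Q)
  have hinj : Function.Injective g := by
    intro a c hac
    by_contra hne'
    have hmem := (QuotientGroup.eq_iff_div_mem).mp hac
    rw [Subgroup.mem_subgroupOf, div_eq_mul_inv] at hmem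
    simp only [Subgroup.coe_mul, Subgroup.coe_inv] at hmem
    set w : P := (c : P)⁻¹ * (a : P)
    have hwR : w ∈ R := R.mul_mem (R.inv_mem c.2) a.2
    have hw1 : (w : T) ≠ 1 := fun h => hne' (Subtype.ext (by
      have : w = 1 := Subtype.ext h
      exact (inv_mul_eq_one.mp this).symm))
    have h2 := (Subgroup.mem_normalizer_iff.mp (hRZ _ (R.inv_mem c.2)) _).mp hmem
    refine hk₀ ((hmemZ k₀).mp (hcoset Z hΦZ (Subgroup.map_subtype_le _) hQZ w w.2 hw1
      (hRZ w hwR) k₀ k₀.2 ?_))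
    convert h2 using 1
    simp only [w, Subgroup.coe_mul, Subgroup.coe_inv]
    group
  have hnot1 : ∀ y, g y ≠ 1 := by
    intro y h
    rw [QuotientGroup.eq_one_iff, Subgroup.mem_subgroupOf] at h
    refine hk₀ ((hmemZ k₀).mp ?_)
    exact (Subgroup.mem_normalizer_iff.mp (hRZ _ y.2) _).mpr h
  rw [← hidx]
  haveI := Fintype.ofFinite R
  rw [Nat.card_eq_fintype_card, Nat.card_eq_fintype_card]
  exact Fintype.card_lt_of_injective_of_notMem g hinj (b := 1) (by rintro ⟨y, hy⟩; exact hnot1 y hy)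

theorem centralizer_core_le {G : Type u} [Group G] [Finite G] {p : ℕ} [hp : Fact p.Prime]
    (hsolv : IsPSolvable p G) (hO : pCore p G = ⊥) :
    Subgroup.centralizer (pPrimeCore p G : Set G) ≤ pPrimeCore p G := by
  set C := Subgroup.centralizer (pPrimeCore p G : Set G)
  haveI : C.Normal := inferInstance
  set Z := (pPrimeCore p G).subgroupOf C
  haveI : Z.Normal := inferInstance
  have hZc : Z ≤ Subgroup.center C := fun z hz =>
    Subgroup.mem_center_iff.mpr fun c =>
      Subtype.ext (Subgroup.mem_centralizer_iff.mp c.2 (z : G) hz).symm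
  have hpc : pCore p C = ⊥ := by
    rw [← Subgroup.map_eq_bot_iff_of_injective _ C.subtype_injective, ← le_bot_iff, ← hO]
    exact Basics.le_pCore ((Basics.pCore_isPGroup p).map C.subtype)
  have hpp : pPrimeCore p C ≤ Z := by
    intro x hx
    refine Basics.le_pPrimeCore (N := (pPrimeCore p C).map C.subtype) ?_ ⟨x, hx, rfl⟩
    rw [Subgroup.card_map_of_injective C.subtype_injective]
    exact Basics.pPrimeCore_coprime p
  have hZp : (Nat.card Z).Coprime p :=
    (Basics.pPrimeCore_coprime (G := G) p).coprime_dvd_left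
      (Subgroup.card_comap_dvd_of_injective _ _ C.subtype_injective)
  by_contra hne
  haveI : Nontrivial (C ⧸ Z) := by
    rw [QuotientGroup.nontrivial_iff]
    intro h
    exact hne fun c hc => (h ▸ Subgroup.mem_top (⟨c, hc⟩ : C) : (⟨c, hc⟩ : C) ∈ Z)
  rcases Coprime23.exists_core_ne_bot (Coprime23.isPSolvable_map (QuotientGroup.mk' Z)
      (QuotientGroup.mk'_surjective Z) (Transfer.isPSolvable_subgroup' hsolv C)) with h | h <;> apply h
  · rw [← le_bot_iff, ← Subgroup.map_comap_eq_self_of_surjective (QuotientGroup.mk'_surjective Z)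
      (pCore p (C ⧸ Z))]
    set M := (pCore p (C ⧸ Z)).comap (QuotientGroup.mk' Z) with hM
    haveI : M.Normal := Subgroup.Normal.comap inferInstance _
    obtain ⟨T⟩ : Nonempty (Sylow p M) := inferInstance
    set ZM := Z.subgroupOf M
    have hZM : Z ≤ M := fun z hz => by
      show QuotientGroup.mk' Z z ∈ pCore p (C ⧸ Z)
      rw [QuotientGroup.mk'_apply, (QuotientGroup.eq_one_iff z).mpr hz]
      exact one_mem _
    have hTn : (T : Subgroup M).Normal := by
      have hK : (T : Subgroup M) ⊔ ZM = ⊤ := by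
        rw [← Subgroup.index_eq_one]
        obtain ⟨k, hk⟩ := IsPGroup.iff_card.mp (Basics.pCore_isPGroup (G := C ⧸ Z) p)
        have h1 : ((T : Subgroup M) ⊔ ZM).index ∣ p ^ k := by
          refine (Subgroup.index_dvd_of_le le_sup_right).trans ?_
          have hc : ZM.index = Z.relIndex M := rfl
          rw [hc, ← hk]
          have := Subgroup.relIndex_map_map_of_injective (H := Z) (K := M) C.subtype_injective
          have hcard := Basics.card_comap_mk' (N := Z) (pCore p (C ⧸ Z))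
          have h2 := Subgroup.card_mul_index (Z.subgroupOf M)
          rw [Nat.card_congr (Subgroup.subgroupOfEquivOfLe hZM).toEquiv, hcard] at h2
          exact (Nat.eq_of_mul_eq_mul_left Nat.card_pos h2).dvd
        obtain ⟨i, -, hi⟩ := (Nat.dvd_prime_pow hp.out).mp h1
        rcases Nat.eq_zero_or_pos i with rfl | hi0
        · simpa using hi
        · exact absurd ((hi ▸ dvd_pow_self p hi0.ne').trans (Subgroup.index_dvd_of_le le_sup_left))
            T.not_dvd_index
      refine Subgroup.normalizer_eq_top_iff.mp (top_le_iff.mp (hK ▸ sup_le Subgroup.le_normalizer ?_))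
      intro z hz
      refine Subgroup.centralizer_le_normalizer _ (Subgroup.mem_centralizer_iff.mpr fun t _ => ?_)
      exact Subtype.ext (Subgroup.mem_center_iff.mp (hZc hz) t)
    have hTbot : (T : Subgroup M) = ⊥ := by
      rw [← le_bot_iff]
      refine (Basics.le_pCore T.isPGroup').trans ?_
      rw [le_bot_iff, ← Subgroup.map_eq_bot_iff_of_injective _ M.subtype_injective, ← le_bot_iff,
        ← hpc]
      exact Basics.le_pCore ((Basics.pCore_isPGroup p).map M.subtype)
    have hMp : (Nat.card M).Coprime p := by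
      have := T.not_dvd_index
      rw [hTbot, Subgroup.index_bot] at this
      exact (hp.out.coprime_iff_not_dvd.mpr this).symm
    refine (Subgroup.map_mono ((Basics.le_pPrimeCore hMp).trans hpp)).trans ?_
    rw [le_bot_iff, Subgroup.map_eq_bot_iff, QuotientGroup.ker_mk']
  · rw [← le_bot_iff, ← Subgroup.map_comap_eq_self_of_surjective (QuotientGroup.mk'_surjective Z)
      (pPrimeCore p (C ⧸ Z))]
    refine (Subgroup.map_mono ((Basics.le_pPrimeCore ?_).trans hpp)).trans ?_
    · rw [Basics.card_comap_mk']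
      exact hZp.mul_left (Basics.pPrimeCore_coprime p)
    · rw [le_bot_iff, Subgroup.map_eq_bot_iff, QuotientGroup.ker_mk']

theorem smul_le_iff {G : Type u} [Group G] {P : Subgroup G} {g x : G} :
    x ∈ MulAut.conj g • P ↔ g⁻¹ * x * g ∈ P := by
  rw [Subgroup.mem_pointwise_smul_iff_inv_smul_mem]
  simp [MulAut.smul_def, mul_assoc]

/-- Let G be a finite p-solvable group whose Sylow p-subgroup P meets each conjugate g P g⁻¹ with g outside N_G(P) trivially, and let χ be a faithful character of G (χ g = χ 1 only for g = 1) whose degree d satisfies d² ≤ |P|. Then P is normal in G. -/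
theorem result {G : Type*} [Group G] [Finite G] (p : ℕ) [Fact p.Prime] (hsolv : Cfsg.IsPSolvable p G) (P : Sylow p G) (hTI : ∀ g : G, g ∉ Subgroup.normalizer ((P : Subgroup G) : Set G) → (P : Subgroup G) ⊓ (MulAut.conj g • (P : Subgroup G)) = ⊥) (χ : G → ℂ) (hχ : Cfsg.IsCharacter G χ) (hfaith : ∀ g : G, χ g = χ 1 → g = 1) (hdeg : Cfsg.charDegree χ ^ 2 ≤ Nat.card ↥(P : Subgroup G)) : (P : Subgroup G).Normal := by
  classical
  by_contra hPn
  set N := Subgroup.normalizer ((P : Subgroup G) : Set G) with hN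
  have hout : ∃ g, g ∉ N := by
    by_contra h
    push Not at h
    exact hPn (Subgroup.normalizer_eq_top_iff.mp (eq_top_iff.mpr fun g _ => h g))
  obtain ⟨g₀, hg₀⟩ := hout
  have hO : pCore p G = ⊥ := by
    rw [← le_bot_iff, ← hTI g₀ hg₀]
    intro x hx
    refine ⟨Cfsg.Agent.Basics.pCore_le_sylow p P hx, smul_le_iff.mpr ?_⟩
    refine Cfsg.Agent.Basics.pCore_le_sylow p P ?_
    haveI : (pCore p G).Normal := inferInstance
    simpa using Subgroup.Normal.conj_mem ‹_› x hx g₀⁻¹
  set F := pPrimeCore p G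
  haveI : F.Normal := inferInstance
  have hPF : (P : Subgroup G) ≤ Subgroup.normalizer (F : Set G) := by
    rw [Subgroup.normalizer_eq_top]; exact le_top
  obtain ⟨a, ha⟩ := IsPGroup.iff_card.mp P.isPGroup'
  have hcop : (Nat.card (P : Subgroup G)).Coprime (Nat.card F) := by
    rw [ha]; exact ((Cfsg.Agent.Basics.pPrimeCore_coprime (G := G) p).pow_right a).symm
  haveI : Group.IsNilpotent (P : Subgroup G) := P.isPGroup'.isNilpotent
  have hsolvP : Group.IsSolvable (P : Subgroup G) := inferInstance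
  -- fixed points
  have hfix : ∀ y ∈ (P : Subgroup G), y ≠ 1 → ∀ c ∈ F, c * y = y * c →
      c ∈ Subgroup.centralizer ((P : Subgroup G) : Set G) := by
    intro y hy hy1 c hc hcy
    have hcN : c ∈ N := by
      by_contra h
      refine hy1 (Subgroup.mem_bot.mp (hTI c h ▸ ⟨hy, smul_le_iff.mpr ?_⟩))
      rw [mul_assoc, ← hcy, inv_mul_cancel_left]; exact hy
    exact Cfsg.Agent.Basics.mem_centralizer_of_mem_normalizer' hPF hcop hc hcN
  have hne : ¬ F ≤ Subgroup.centralizer ((P : Subgroup G) : Set G) := by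
    intro h
    have hPF' : (P : Subgroup G) ≤ F := fun y hy =>
      centralizer_core_le hsolv hO (Subgroup.mem_centralizer_iff.mpr fun c hc =>
        (Subgroup.mem_centralizer_iff.mp (h hc) y hy).symm)
    have hbot : (P : Subgroup G) = ⊥ := Subgroup.eq_bot_of_card_eq _
      (Nat.eq_one_of_dvd_coprimes hcop dvd_rfl (Subgroup.card_dvd_of_le hPF'))
    exact hPn (hbot ▸ inferInstance)
  -- an invariant Sylow subgroup which is not centralised
  obtain ⟨q, hq, S, hS, hSP, hSne⟩ : ∃ q : ℕ, q.Prime ∧ ∃ S : Subgroup G, S ≤ F ∧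
      (IsPGroup q S ∧ (P : Subgroup G) ≤ Subgroup.normalizer (S : Set G)) ∧
        ¬ S ≤ Subgroup.centralizer ((P : Subgroup G) : Set G) := by
    by_contra h
    push Not at h
    apply hne
    have hall : F ⊓ Subgroup.centralizer ((P : Subgroup G) : Set G) = F := by
      refine Subgroup.eq_of_le_of_card_ge inf_le_left (Nat.le_of_dvd Nat.card_pos ?_)
      rw [← Nat.factorization_le_iff_dvd Nat.card_pos.ne' Nat.card_pos.ne']
      intro q
      by_cases hq : q.Prime
      · haveI := Fact.mk hq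
        obtain ⟨S, hS, hSP⟩ := Cfsg.Agent.Basics.exists_invariant_isSylowIn (P : Subgroup G) F
          hPF hcop (Or.inl hsolvP) q
        have := h q hq S hS.1 ⟨hS.isPGroup, hSP⟩
        refine (hq.pow_dvd_iff_le_factorization Nat.card_pos.ne').mp ?_
        exact hS.2 ▸ Subgroup.card_dvd_of_le (le_inf hS.1 this)
      · simp [Nat.factorization_eq_zero_of_not_prime _ hq]
    exact hall ▸ inf_le_right
  haveI := Fact.mk hq
  obtain ⟨hSq, hSN⟩ := hSP
  obtain ⟨Q, -, ⟨hQS, hQN, hQne⟩, hQmin⟩ := Finite.exists_le_minimal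
    (p := fun U : Subgroup G => U ≤ S ∧ (P : Subgroup G) ≤ Subgroup.normalizer (U : Set G) ∧
      ¬ U ≤ Subgroup.centralizer ((P : Subgroup G) : Set G)) (a := S) ⟨le_rfl, hSN, hSne⟩
  set T := Subgroup.normalizer (Q : Set G)
  have hQT : Q ≤ T := Subgroup.le_normalizer
  haveI : (Q.subgroupOf T).Normal :=
    (Subgroup.normal_subgroupOf_iff_le_normalizer hQT).mpr le_rfl
  have hcardQ : Nat.card (Q.subgroupOf T) = Nat.card Q :=
    Nat.card_congr (Subgroup.subgroupOfEquivOfLe hQT).toEquiv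
  have hcardP : Nat.card ((P : Subgroup G).subgroupOf T) = Nat.card (P : Subgroup G) :=
    Nat.card_congr (Subgroup.subgroupOfEquivOfLe hQN).toEquiv
  have hcent : ∀ u : T, u ∈ Subgroup.centralizer (((P : Subgroup G).subgroupOf T : Subgroup T) : Set T) ↔
      (u : G) ∈ Subgroup.centralizer ((P : Subgroup G) : Set G) := fun u =>
    ⟨fun h => Subgroup.mem_centralizer_iff.mpr fun y hy =>
      congrArg Subtype.val (Subgroup.mem_centralizer_iff.mp h ⟨y, hQN hy⟩ hy),
     fun h => Subgroup.mem_centralizer_iff.mpr fun y hy =>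
      Subtype.ext (Subgroup.mem_centralizer_iff.mp h (y : G) hy)⟩
  have hlt := deg_bound (q := q) (Q.subgroupOf T) ((P : Subgroup G).subgroupOf T)
    ((hSq.to_le hQS).of_equiv (Subgroup.subgroupOfEquivOfLe hQT).symm)
    (by rw [hcardQ, hcardP]; exact hcop.coprime_dvd_right (Subgroup.card_dvd_of_le (hQS.trans hS)))
    (fun y hy hy1 c hc hcy => (hcent c).mpr (hfix y hy (fun h => hy1 (Subtype.ext h)) c
      (hS (hQS hc)) (congrArg Subtype.val hcy)))
    (fun U hU hUne hUN => fun u hu => (hcent u).mpr (by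
      by_contra hu'
      refine hUne (le_antisymm hU ?_)
      have hle : U.map T.subtype ≤ Q := by rintro _ ⟨v, hv, rfl⟩; exact hU hv
      have hn : (P : Subgroup G) ≤ Subgroup.normalizer ((U.map T.subtype : Subgroup G) : Set G) := by
        intro y hy
        exact Subgroup.le_normalizer_map T.subtype ⟨⟨y, hQN hy⟩, hUN hy, rfl⟩
      have := hQmin (y := U.map T.subtype) ⟨hle.trans hQS, hn, fun hc => hu' (hc ⟨u, hu, rfl⟩)⟩ hle
      intro v hv
      obtain ⟨w, hw, hwv⟩ := this hv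
      exact (Subtype.ext hwv : w = v) ▸ hw))
    (fun h => hQne fun u hu => (hcent ⟨u, hQT hu⟩).mp (h hu))
    (χ := fun u : T => χ u) (Cfsg.Agent.CT.isCharacter_restrict T hχ)
    (fun u _ hu => Subtype.ext (hfaith _ (by simpa using hu)))
  rw [hcardP] at hlt
  simp only [charDegree] at hlt hdeg
  simp only [OneMemClass.coe_one] at hlt
  omega

end Cfsg.Agent.S4748
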