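import Cfsg.Statements.S4750
import Cfsg.Agent.Lib.CT.IntegralModel
import Cfsg.Agent.Lib.CT.Tables

set_option autoImplicit false
set_option linter.all false
open scoped Pointwise
open Cfsg

namespace Cfsg.Agent.S4750

open Cfsg.Agent
open scoped ComplexConjugate Matrix

theorem norm_eq_zero {k : Type*} [Field k] {p : ℕ} [Fact p.Prime] [CharP k p] {P : Type*}
    [Group P] [Fintype P] (hP : IsPGroup p P) {n : ℕ} (hn : n < Nat.card P)
    (B : P →* Matrix (Fin n) (Fin n) k) (w : Fin n → k) : ∑ x, B x *ᵥ w = 0 := by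
  classical
  let Φ : (P → k) →ₗ[k] (Fin n → k) :=
    { toFun := fun a => ∑ x, a x • (B x *ᵥ w)
      map_add' := fun a c => by simp [add_smul, Finset.sum_add_distrib]
      map_smul' := fun r a => by simp [Finset.smul_sum, smul_smul] }
  let σ : Representation k P (P → k) :=
    { toFun := fun y => { toFun := fun a x => a (y⁻¹ * x)
                          map_add' := fun _ _ => rfl
                          map_smul' := fun _ _ => rfl }
      map_one' := by ext a x; simp
      map_mul' := fun y z => by ext a x; simp [mul_assoc] }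
  have hker : LinearMap.ker Φ ≠ ⊥ := LinearMap.ker_ne_bot_of_finrank_lt (by
    rw [Module.finrank_fintype_fun_eq_card, Module.finrank_fintype_fun_eq_card, Fintype.card_fin,
      ← Nat.card_eq_fintype_card]
    exact hn)
  obtain ⟨v, hv, hv0, hfix⟩ := PermGp.exists_fixed_vector hP σ (LinearMap.ker Φ) (fun y a ha => by
    rw [LinearMap.mem_ker] at ha ⊢
    have e : Φ (σ y a) = B y *ᵥ Φ a := by
      show ∑ x, a (y⁻¹ * x) • (B x *ᵥ w) = B y *ᵥ ∑ x, a x • (B x *ᵥ w)
      rw [Matrix.mulVec_sum]
      refine Fintype.sum_equiv (Equiv.mulLeft y⁻¹) _ _ fun x => ?_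
      simp [Matrix.mulVec_smul, Matrix.mulVec_mulVec, ← map_mul]
    rw [e, ha, Matrix.mulVec_zero]) hker
  have hconst : ∀ x, v x = v 1 := fun x => by
    have := congrFun (hfix x) x
    simp only [σ] at this
    simpa using this.symm
  have h1 : v 1 ≠ 0 := fun e => hv0 (funext fun x => by rw [hconst x, e]; rfl)
  have h2 : ∑ x, v x • (B x *ᵥ w) = 0 := hv
  simp only [hconst, ← Finset.smul_sum] at h2
  exact (smul_eq_zero.mp h2).resolve_left h1

theorem free_off_base {G : Type*} [Group G] [Finite G] {p : ℕ} [Fact p.Prime] (P : Sylow p G)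
    (hTI : ∀ g : G, g ∉ Subgroup.normalizer ((P : Subgroup G) : Set G) →
      (P : Subgroup G) ⊓ (MulAut.conj g • (P : Subgroup G)) = ⊥)
    {H : Subgroup G} (hH : Subgroup.normalizer ((P : Subgroup G) : Set G) ≤ H)
    {x g : G} (hx : x ∈ (P : Subgroup G)) (hxg : g⁻¹ * x * g ∈ H) (hg : g ∉ H) : x = 1 := by
  have hPH : (P : Subgroup G) ≤ H := (Subgroup.le_normalizer).trans hH
  let y : H := ⟨g⁻¹ * x * g, hxg⟩
  have hy : IsPGroup p (Subgroup.zpowers y) := by
    obtain ⟨k, hk⟩ := P.isPGroup' ⟨x, hx⟩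
    refine IsPGroup.of_card (n := (Nat.card (Subgroup.zpowers y)).factorization p) ?_
    rw [Nat.card_zpowers]
    have hd : orderOf y ∣ p ^ k := orderOf_dvd_of_pow_eq_one (Subtype.ext (by
      have hxk : x ^ p ^ k = 1 := congrArg Subtype.val hk
      show (g⁻¹ * x * g) ^ p ^ k = 1
      rw [show g⁻¹ * x * g = g⁻¹ * x * g⁻¹⁻¹ by rw [inv_inv], conj_pow, hxk]
      group))
    obtain ⟨j, -, hj⟩ := (Nat.dvd_prime_pow Fact.out).mp hd
    rw [hj, Nat.Prime.factorization_pow Fact.out, Finsupp.single_eq_same]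
  obtain ⟨Q, hQ⟩ := hy.exists_le_sylow
  obtain ⟨h, hh⟩ := MulAction.exists_smul_eq H (P.subtype hPH) Q
  have hyQ := hQ (Subgroup.mem_zpowers y)
  rw [← hh, Sylow.coe_subgroup_smul] at hyQ
  obtain ⟨z, hz, hzy⟩ := hyQ
  have hzP : (z : G) ∈ (P : Subgroup G) := hz
  have hxz : x = g * h * (z : G) * (g * h)⁻¹ := by
    have := congrArg Subtype.val hzy
    simp [y] at this
    rw [show g * h * (z : G) * (g * h)⁻¹ = g * ((h : G) * z * (h : G)⁻¹) * g⁻¹ by group, this]
    group
  have hgh : g * (h : G) ∉ Subgroup.normalizer ((P : Subgroup G) : Set G) := fun h' =>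
    hg (by simpa using H.mul_mem (hH h') (H.inv_mem h.2))
  have hm : x ∈ (P : Subgroup G) ⊓ (MulAut.conj (g * (h : G)) • (P : Subgroup G)) :=
    ⟨hx, ⟨z, hzP, hxz.symm⟩⟩
  rwa [hTI _ hgh, Subgroup.mem_bot] at hm

/-- Reduction of the vanishing coset sum. -/
theorem coset_contra {G : Type*} [Group G] [Fintype G] {p : ℕ} [Fact p.Prime] (P : Sylow p G)
    (hTI : ∀ g : G, g ∉ Subgroup.normalizer ((P : Subgroup G) : Set G) →
      (P : Subgroup G) ⊓ (MulAut.conj g • (P : Subgroup G)) = ⊥)
    (H : Subgroup G) [Fintype (G ⧸ H)] (hH : Subgroup.normalizer ((P : Subgroup G) : Set G) ≤ H)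
    {R k : Type*} [CommRing R] [Field k] [CharP k p] (r : R →+* k) {m : ℕ}
    (hn : m < Nat.card (P : Subgroup G))
    (A : G →* Matrix (Fin m) (Fin m) R) (f : G ⧸ H → Fin m → R)
    (hfs : ∀ (g : G) q, A g *ᵥ f q = f (g • q)) (hS : ∑ q, f q = 0) (j : Fin m)
    (hj1 : f ((1 : G) : G ⧸ H) j = 1) : False := by
  classical
  let B : G →* Matrix (Fin m) (Fin m) k := r.mapMatrix.toMonoidHom.comp A
  let F : G ⧸ H → Fin m → k := fun q i => r (f q i)
  have hFs : ∀ (g : G) q, B g *ᵥ F q = F (g • q) := fun g q => funext fun i => by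
    rw [show F (g • q) i = r (f (g • q) i) from rfl, ← hfs]
    exact (RingHom.map_mulVec r (A g) (f q) i).symm
  have hFsum : ∀ i, ∑ q, F q i = 0 := fun i => by
    have := congrArg r (congrFun hS i)
    simpa [F, Finset.sum_apply] using this
  let PP : Subgroup G := (P : Subgroup G)
  haveI := Fintype.ofFinite PP
  haveI : Fintype (Quotient (MulAction.orbitRel PP (G ⧸ H))) := Fintype.ofFinite _
  have hsum : ∑ q, F q = F ((1 : G) : G ⧸ H) := by
    rw [← Finset.sum_fiberwise Finset.univ
      (Quotient.mk (MulAction.orbitRel PP (G ⧸ H))) F]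
    rw [Finset.sum_eq_single (Quotient.mk (MulAction.orbitRel PP (G ⧸ H)) ((1 : G) : G ⧸ H))]
    · have : (Finset.univ.filter fun q => Quotient.mk (MulAction.orbitRel PP (G ⧸ H)) q =
          Quotient.mk _ ((1 : G) : G ⧸ H)) = {((1 : G) : G ⧸ H)} := by
        ext q
        simp only [Finset.mem_filter, Finset.mem_univ, true_and, Finset.mem_singleton,
          Quotient.eq]
        refine ⟨fun h => ?_, fun h => by subst h; exact MulAction.mem_orbit_self _⟩
        obtain ⟨x, rfl⟩ := MulAction.orbitRel_apply.mp h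
        show (((x : G) * 1 : G) : G ⧸ H) = _
        exact QuotientGroup.eq.mpr (by
          simpa using hH (Subgroup.le_normalizer x.2))
      rw [this, Finset.sum_singleton]
    · intro o _ ho
      induction o using Quotient.inductionOn with
      | h q =>
      induction q using QuotientGroup.induction_on with
      | H g =>
      have hg : g ∉ H := fun hg => ho (by
        congr 1
        exact QuotientGroup.eq.mpr (by simpa using hg))
      have hinjP : Function.Injective fun x : PP => x • (g : G ⧸ H) := by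
        intro x y hxy
        have hxy' : (((x : G) * g : G) : G ⧸ H) = (((y : G) * g : G) : G ⧸ H) := hxy
        rw [QuotientGroup.eq] at hxy'
        have := free_off_base P hTI hH (PP.mul_mem (PP.inv_mem x.2) y.2) (g := g)
          (by simpa [mul_assoc] using hxy') hg
        exact Subtype.ext (inv_mul_eq_one.mp this)
      have hfib : (Finset.univ.filter fun q => Quotient.mk (MulAction.orbitRel PP (G ⧸ H)) q =
          Quotient.mk _ (g : G ⧸ H)) = Finset.univ.image fun x : PP => x • (g : G ⧸ H) := by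
        ext q
        simp only [Finset.mem_filter, Finset.mem_univ, true_and, Quotient.eq, Finset.mem_image]
        exact MulAction.orbitRel_apply
      rw [hfib, Finset.sum_image fun x _ y _ h => hinjP h]
      have h0 := norm_eq_zero (p := p) P.isPGroup' hn (B.comp PP.subtype) (F g)
      rw [← h0]
      exact Finset.sum_congr rfl fun x _ => (hFs (x : G) (g : G ⧸ H)).symm
    · simp
  have hj := congrFun hsum j
  rw [Finset.sum_apply, hFsum, show F ((1 : G) : G ⧸ H) j = r (f ((1 : G) : G ⧸ H) j) from rfl,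
    hj1, map_one] at hj
  exact zero_ne_one hj

set_option maxHeartbeats 2000000 in
/-- A small character without trivial constituent has none on restriction to `H`. -/
theorem fixed_zero {G : Type*} [Group G] [Fintype G] {p : ℕ} [Fact p.Prime] (P : Sylow p G)
    (hTI : ∀ g : G, g ∉ Subgroup.normalizer ((P : Subgroup G) : Set G) →
      (P : Subgroup G) ⊓ (MulAut.conj g • (P : Subgroup G)) = ⊥)
    (H : Subgroup G) [Fintype H] (hH : Subgroup.normalizer ((P : Subgroup G) : Set G) ≤ H)
    {φ : G → ℂ} (hφ : IsCharacter G φ)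
    (hdeg : ∀ m : ℕ, φ 1 = m → m < Nat.card (P : Subgroup G))
    (h0 : classInner φ (fun _ => (1 : ℂ)) = 0) :
    classInner (fun h : H => φ h) (fun _ => (1 : ℂ)) = 0 := by
  classical
  obtain ⟨n, ρ, rfl⟩ := hφ
  obtain ⟨V, hV⟩ := CT.exists_valuation_charP p
  obtain ⟨m, A, rfl, hA⟩ := CT.exists_integral_model V ρ
  haveI := hV
  have hn : m < Nat.card (P : Subgroup G) := hdeg m (by
    rw [Representation.char_one, Module.finrank_fin_fun])
  let C : G →* Matrix (Fin m) (Fin m) ℂ := V.subtype.mapMatrix.toMonoidHom.comp A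
  have hC : ∀ g, (C g).trace = ρ.character g := hA
  have hidem : ∀ {K : Type _} [Group K] [Fintype K] (D : K →* Matrix (Fin m) (Fin m) ℂ),
      ((Nat.card K : ℂ)⁻¹ • ∑ g, D g) * ((Nat.card K : ℂ)⁻¹ • ∑ g, D g) =
        (Nat.card K : ℂ)⁻¹ • ∑ g, D g := by
    intro K _ _ D
    have e : ∀ g, D g * ∑ x, D x = ∑ x, D x := fun g => by
      rw [Finset.mul_sum]
      exact Fintype.sum_equiv (Equiv.mulLeft g) _ _ fun x => by simp
    rw [Matrix.smul_mul, Matrix.mul_smul, Finset.sum_mul, Finset.sum_congr rfl fun g _ => e g,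
      Finset.sum_const, Finset.card_univ, ← Nat.cast_smul_eq_nsmul ℂ, smul_smul, smul_smul,
      ← Nat.card_eq_fintype_card, mul_assoc, inv_mul_cancel₀ CT.card_ne_zero, mul_one]
  have hG0 : (Nat.card G : ℂ)⁻¹ • ∑ g, C g = 0 := by
    refine CT.eq_zero_of_idem_trace_zero _ (hidem C) ?_
    rw [Matrix.trace_smul, Matrix.trace_sum, smul_eq_mul, ← h0, classInner]
    simp [hC]
  by_contra hne
  let DH : H →* Matrix (Fin m) (Fin m) ℂ := C.comp H.subtype
  set E := (Nat.card H : ℂ)⁻¹ • ∑ h, DH h
  have hE : E ≠ 0 := fun e => hne (by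
    have := congrArg Matrix.trace e
    rw [Matrix.trace_smul, Matrix.trace_sum, smul_eq_mul, Matrix.trace_zero] at this
    rw [classInner]
    simpa [hC, DH] using this)
  obtain ⟨u, hu⟩ : ∃ u, E *ᵥ u ≠ 0 := by
    by_contra h
    push Not at h
    exact hE (Matrix.ext_iff_mulVec.mpr fun v => by rw [h, Matrix.zero_mulVec])
  obtain ⟨t, j, d, ht, hdj, hd⟩ := CT.exists_scaled V _ hu
  have hinj : Function.Injective (fun v : Fin m → V => fun i => (v i : ℂ)) :=
    fun a b h => funext fun i => Subtype.ext (congrFun h i)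
  have hmap : ∀ g (v : Fin m → V), (fun i => ((A g *ᵥ v) i : ℂ)) = C g *ᵥ fun i => (v i : ℂ) :=
    fun g v => funext fun i => RingHom.map_mulVec V.subtype (A g) v i
  have hdfix : ∀ h : H, A h *ᵥ d = d := by
    intro h
    apply hinj
    have hEh : DH h * E = E := by
      rw [Matrix.mul_smul, Finset.mul_sum]
      congr 1
      exact Fintype.sum_equiv (Equiv.mulLeft h) _ _ fun x => by simp
    simp only
    rw [hmap, show (fun i => (d i : ℂ)) = t • (E *ᵥ u) from funext hd, Matrix.mulVec_smul,
      Matrix.mulVec_mulVec]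
    exact congrArg (fun X => t • (X *ᵥ u)) hEh
  let f : G ⧸ H → Fin m → V := fun q => A q.out *ᵥ d
  have hf : ∀ g : G, f g = A g *ᵥ d := by
    intro g
    obtain ⟨h, hh⟩ := QuotientGroup.mk_out_eq_mul H g
    simp only [f, hh, map_mul, ← Matrix.mulVec_mulVec, hdfix]
  haveI : Fintype (G ⧸ H) := Fintype.ofFinite _
  have hfs : ∀ (g : G) q, A g *ᵥ f q = f (g • q) := by
    intro g q
    induction q using QuotientGroup.induction_on with
    | H a =>
      rw [show g • (a : G ⧸ H) = ((g * a : G) : G ⧸ H) from rfl, hf, hf, map_mul,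
        Matrix.mulVec_mulVec]
  have hS : ∑ q, f q = 0 := by
    apply hinj
    set S : Fin m → ℂ := fun i => ((∑ q, f q) i : ℂ)
    have hfix : ∀ g, C g *ᵥ S = S := fun g => by
      rw [← hmap]
      congr 1
      funext i
      congr 1
      rw [Matrix.mulVec_sum, Finset.sum_congr rfl fun q _ => hfs g q]
      exact congrFun (Fintype.sum_equiv (MulAction.toPerm g) _ _ fun q => rfl) i
    have h := congrArg (· *ᵥ S) hG0
    simp only [Matrix.smul_mulVec, Matrix.sum_mulVec, hfix, Finset.sum_const, Finset.card_univ,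
      Matrix.zero_mulVec] at h
    rw [← Nat.cast_smul_eq_nsmul ℂ, smul_smul, ← Nat.card_eq_fintype_card,
      inv_mul_cancel₀ CT.card_ne_zero, one_smul] at h
    show S = _
    rw [h]
    rfl
  exact coset_contra P hTI H hH (IsLocalRing.residue V) hn A f hfs hS j
    (by rw [hf, map_one, Matrix.one_mulVec, hdj])

/-- Let P be a Sylow p-subgroup of the finite group G that meets each conjugate g P g⁻¹ with g outside N_G(P) trivially, χ a character of G with χ(1)² ≤ |P|, and H a subgroup of G containing N_G(P). Then the inner product of χ with itself over G equals the inner product over H of the restriction of χ to H. -/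
theorem result {G : Type*} [Group G] [Fintype G] [DecidableEq G] (p : ℕ) [Fact p.Prime] (P : Sylow p G) (hTI : ∀ g : G, g ∉ Subgroup.normalizer ((P : Subgroup G) : Set G) → (P : Subgroup G) ⊓ (MulAut.conj g • (P : Subgroup G)) = ⊥) (χ : G → ℂ) (hχ : Cfsg.IsCharacter G χ) (hdeg : Cfsg.charDegree χ ^ 2 ≤ Nat.card ↥(P : Subgroup G)) (H : Subgroup G) [Fintype ↥H] (hH : Subgroup.normalizer ((P : Subgroup G) : Set G) ≤ H) : Cfsg.classInner χ χ = Cfsg.classInner (fun h : ↥H => χ h) (fun h : ↥H => χ h) := by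
  classical
  let ψ : G → ℂ := χ * fun g => conj (χ g)
  have hψ : IsCharacter G ψ := CT.isCharacter_mul hχ (CT.isCharacter_conj hχ)
  have hg : classInner χ χ = classInner ψ (fun _ => (1 : ℂ)) := by simp [classInner, ψ]
  have hh : classInner (fun h : H => χ h) (fun h : H => χ h) =
      classInner (fun h : H => ψ h) (fun _ => (1 : ℂ)) := by simp [classInner, ψ]
  obtain ⟨d, hd⟩ : ∃ d : ℕ, χ 1 = d := by
    obtain ⟨n, ρ, rfl⟩ := hχ
    exact ⟨n, by rw [Representation.char_one, Module.finrank_fin_fun]⟩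
  have hψ1 : ψ 1 = ((d ^ 2 : ℕ) : ℂ) := by simp [ψ, hd, pow_two]
  have hdd : d ^ 2 ≤ Nat.card (P : Subgroup G) := by
    have : charDegree χ = d := by simp [charDegree, hd]
    rwa [this] at hdeg
  rw [hg, hh]
  have hψH : (fun h : H => ψ h) =
      ∑ φ : IrrCharacter G, (CT.mult ψ φ : ℂ) • fun h : H => (φ : G → ℂ) h := by
    funext h
    have := congrFun (CT.character_eq_sum hψ) (h : G)
    rw [this]
    simp [Finset.sum_apply]
  conv_lhs => rw [CT.character_eq_sum hψ]
  rw [hψH, CT.classInner_sum_left, CT.classInner_sum_left]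
  refine Finset.sum_congr rfl fun φ _ => ?_
  rw [CT.classInner_smul_left, CT.classInner_smul_left]
  by_cases hφ : (φ : G → ℂ) = fun _ => 1
  · congr 1
    rw [hφ]
    simp [classInner]
  rcases Nat.eq_zero_or_pos (CT.mult ψ φ) with hm | hm
  · simp [hm]
  congr 1
  have h1 : classInner (φ : G → ℂ) (fun _ => (1 : ℂ)) = 0 := by
    have htriv : IsIrrCharacter G (fun _ : G => (1 : ℂ)) :=
      CT.isIrr_of_inner_self CT.isCharacter_one (by simp [classInner])
    exact CT.irr_inner_of_ne φ.2 htriv hφ
  rw [h1]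
  by_cases hχ0 : d = 0
  · exfalso
    have hz : ψ = 0 := CT.char_eq_zero_of_deg hψ (by rw [hψ1, hχ0]; simp)
    have := CT.mult_spec hψ (CT.isCharacter_of_isIrr φ.2)
    rw [hz] at this hm
    rw [show classInner (0 : G → ℂ) (φ : G → ℂ) = 0 by simp [classInner]] at this
    have h0' : CT.mult (0 : G → ℂ) (φ : G → ℂ) = 0 := by exact_mod_cast this.symm
    omega
  refine (fixed_zero P hTI H hH (CT.isCharacter_of_isIrr φ.2) (fun m hm1 => ?_) h1).symm
  have htriv : IsIrrCharacter G (fun _ : G => (1 : ℂ)) :=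
    CT.isIrr_of_inner_self CT.isCharacter_one (by simp [classInner])
  let one : IrrCharacter G := ⟨_, htriv⟩
  have hmt : 0 < CT.mult ψ one := by
    rcases Nat.eq_zero_or_pos (CT.mult ψ one) with h | h
    · exfalso
      have := CT.mult_spec hψ (CT.isCharacter_of_isIrr one.2)
      rw [h, Nat.cast_zero, ← hg] at this
      have h2 := CT.classInner_self_eq_zero this
      exact hχ0 (by exact_mod_cast (hd.symm.trans (show χ 1 = 0 from congrFun h2 1)))
    · exact h
  choose D hD using fun η : IrrCharacter G => (show ∃ k : ℕ, (η : G → ℂ) 1 = k by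
    obtain ⟨n, ρ, -, hρ⟩ := η.2
    exact ⟨n, by rw [← hρ, Representation.char_one, Module.finrank_fin_fun]⟩)
  have hsum : d ^ 2 = ∑ η : IrrCharacter G, CT.mult ψ η * D η := by
    have := congrFun (CT.character_eq_sum hψ) 1
    rw [hψ1, Finset.sum_apply] at this
    simp only [Pi.smul_apply, smul_eq_mul, hD] at this
    exact_mod_cast this
  have hne : φ ≠ one := fun e => hφ (congrArg Subtype.val e)
  have hle : CT.mult ψ φ * D φ + CT.mult ψ one * D one ≤ d ^ 2 := by
    rw [hsum, ← Finset.sum_pair hne (f := fun η : IrrCharacter G => CT.mult ψ η * D η)]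
    exact Finset.sum_le_sum_of_subset (Finset.subset_univ _)
  have hone : D one = 1 := by
    have := hD one
    exact_mod_cast this.symm.trans (rfl : (1 : ℂ) = 1)
  have hmD : m = D φ := by exact_mod_cast hm1.symm.trans (hD φ)
  have hmul : D φ ≤ CT.mult ψ φ * D φ := Nat.le_mul_of_pos_left _ hm
  rw [hone] at hle
  omega

end Cfsg.Agent.S4750
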