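import Cfsg.Statements.S4751
import Cfsg.Agent.Lib.CT.RootSingular.Main
import Cfsg.Agent.Lib.Basics.Cores

set_option autoImplicit false
set_option linter.style.haveILetI false
open Cfsg

namespace Cfsg.Agent.S4751

open scoped commutatorElement

/-- Let χ be a faithful, non-linear irreducible character of the finite group G (χ g = χ 1 only for g = 1, χ 1 ≠ 1) whose value at every element of order divisible by p is a root of unity, and suppose P = O_p(G) ≠ 1. Then either P is an elementary abelian Sylow p-subgroup of G, C_G(P) is the internal direct product of P and Z(G), G acts transitively by conjugation on the non-principal linear characters of P, and χ 1 = |P| − 1; or p = 2 and G is the internal direct product of a subgroup isomorphic to the symmetric group S₄ and the centre Z(G), which has odd order. -/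
theorem result {G : Type*} [Group G] [Finite G] (p : ℕ) [Fact p.Prime] (χ : Cfsg.IrrCharacter G) (hfaith : ∀ g : G, (χ : G → ℂ) g = (χ : G → ℂ) 1 → g = 1) (hnl : (χ : G → ℂ) 1 ≠ 1) (hroot : ∀ g : G, p ∣ orderOf g → ∃ n : ℕ, 0 < n ∧ ((χ : G → ℂ) g) ^ n = 1) (hP : Cfsg.pCore p G ≠ ⊥) : ((Nat.card ↥(Cfsg.pCore p G)).factorization p = (Nat.card G).factorization p ∧ Cfsg.IsElementaryAbelian p (Cfsg.pCore p G) ∧ Subgroup.centralizer ((Cfsg.pCore p G : Subgroup G) : Set G) = Cfsg.pCore p G ⊔ Subgroup.center G ∧ Cfsg.pCore p G ⊓ Subgroup.center G = ⊥ ∧ (∀ lam mu : ↥(Cfsg.pCore p G) → ℂ, Cfsg.IsCharacter ↥(Cfsg.pCore p G) lam → lam 1 = 1 → lam ≠ (fun _ => (1 : ℂ)) → Cfsg.IsCharacter ↥(Cfsg.pCore p G) mu → mu 1 = 1 → mu ≠ (fun _ => (1 : ℂ)) → ∃ g : G, ∀ (x : G) (hx : x ∈ Cfsg.pCore p G) (hgx : g * x * g⁻¹ ∈ Cfsg.pCore p G), mu ⟨x, hx⟩ = lam ⟨g * x * g⁻¹, hgx⟩) ∧ (χ : G → ℂ) 1 = (Nat.card ↥(Cfsg.pCore p G) : ℂ) - 1) ∨ (p = 2 ∧ Odd (Nat.card ↥(Subgroup.center G)) ∧ ∃ H : Subgroup G, Nonempty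 (↥H ≃* Equiv.Perm (Fin 4)) ∧ H ⊓ Subgroup.center G = ⊥ ∧ H ⊔ Subgroup.center G = ⊤) := by
  classical
  haveI := Fintype.ofFinite G
  set P := Cfsg.pCore p G with hPdef
  haveI : P.Normal := Subgroup.sSup_normal _ fun N hN => hN.1
  haveI := Fintype.ofFinite P
  have hPp : IsPGroup p P := Cfsg.Agent.Basics.pCore_isPGroup p
  have hmax : ∀ N : Subgroup G, N.Normal → IsPGroup p N → N ≤ P := fun N hN hNp => le_sSup ⟨hN, hNp⟩
  have hχ := χ.2
  have hdeg0 := CT.deg_pos hχ
  have hb : 2 ≤ CT.deg (χ : G → ℂ) := by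
    by_contra h
    apply hnl
    rw [CT.deg_eq (CT.isCharacter_of_isIrr hχ), show CT.deg (χ : G → ℂ) = 1 by omega, Nat.cast_one]
  have hr : ∀ g : G, p ∣ orderOf g → ‖(χ : G → ℂ) g‖ = 1 := fun g hg => by
    obtain ⟨n, hn, h⟩ := hroot g hg
    exact Complex.norm_eq_one_of_pow_eq_one h hn.ne'
  obtain ⟨φ, hφ, hφ1, hφc, hm, hidx, hdeg, hnt, hall, hab⟩ :=
    RootSingular.base hχ hfaith hb hr P hPp hP
  have hexp := RootSingular.pow_prime_eq_one P hall hab hPp hP
  have hcent := RootSingular.centralizer_eq hχ hfaith hb hr P hPp hP hmax hφ hφ1 hφc hm hidx hdeg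
    hall hab
  have hPZ := RootSingular.core_inf_center hχ hb hr P hPp
  obtain ⟨R⟩ := (inferInstance : Nonempty (Sylow p G))
  have hPR : P ≤ (R : Subgroup G) := hPp.le_sylow_of_normal R
  by_cases hsyl : P = (R : Subgroup G)
  · left
    refine ⟨?_, ⟨⟨⟨fun a b => hab a b⟩⟩, hexp⟩, hcent, hPZ, ?_, ?_⟩
    · have e : Nat.card P = Nat.card (R : Subgroup G) := by rw [hsyl]
      rw [e, show Nat.card (R : Subgroup G) = Nat.card R from rfl, R.card_eq_multiplicity,
        Nat.Prime.factorization_pow (Fact.out : p.Prime), Finsupp.single_eq_same]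
    · intro lam mu hlam hl1 hlne hmu hm1 hmne
      have hlin : ∀ η : P → ℂ, Cfsg.IsCharacter P η → η 1 = 1 → η ≠ (fun _ => 1) →
          η ∈ CT.conjOrbit P φ := by
        intro η hη h1 hne1
        obtain ⟨l, rfl⟩ := CT.exists_hom_of_degree_one hη h1
        exact hall _ (CT.isIrrCharacter_lin l) hne1
      obtain ⟨g1, hg1⟩ := (CT.mem_conjOrbit P).mp (hlin lam hlam hl1 hlne)
      obtain ⟨g2, hg2⟩ := (CT.mem_conjOrbit P).mp (hlin mu hmu hm1 hmne)
      have h : CT.conjFun P (g1⁻¹ * g2) lam = mu := by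
        rw [← hg1, ← CT.conjFun_mul, mul_inv_cancel_left, hg2]
      exact ⟨g1⁻¹ * g2, fun x hx hgx => (congrFun h ⟨x, hx⟩).symm⟩
    · rw [CT.deg_eq (CT.isCharacter_of_isIrr hχ), ← hdeg]
      push_cast
      ring
  · right
    obtain ⟨hp2, hq, r, hr2, -, hrP⟩ := RootSingular.four hχ hfaith hb hr P hPp hP hφ hφ1 hφc hm
      hidx hdeg hnt hall hab R.2 (lt_of_le_of_ne hPR hsyl)
    subst hp2
    have hodd : Odd (Nat.card (Subgroup.center G)) := by
      rw [← Nat.not_even_iff_odd, even_iff_two_dvd]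
      intro h
      haveI := Fact.mk Nat.prime_two
      obtain ⟨z, hz⟩ := exists_prime_orderOf_dvd_card' 2 h
      exact RootSingular.not_dvd_center hχ hb hr z.2 (by rw [Subgroup.orderOf_coe, hz])
    refine ⟨rfl, hodd, ?_⟩
    -- the action on the nontrivial characters
    let Ω := {ψ : P → ℂ // ψ ∈ CT.conjOrbit P φ}
    have hcl : ∀ (g : G) (ψ : P → ℂ), ψ ∈ CT.conjOrbit P φ →
        CT.conjFun P g ψ ∈ CT.conjOrbit P φ := by
      intro g ψ hψ
      obtain ⟨k, rfl⟩ := (CT.mem_conjOrbit P).mp hψ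
      exact (CT.mem_conjOrbit P).mpr ⟨k * g, CT.conjFun_mul P k g φ⟩
    letI : MulAction G Ω :=
      { smul := fun g ψ => ⟨CT.conjFun P g⁻¹ ψ.1, hcl _ _ ψ.2⟩
        one_smul := fun ψ => Subtype.ext (by
          show CT.conjFun P (1 : G)⁻¹ ψ.1 = ψ.1
          rw [inv_one, CT.conjFun_one])
        mul_smul := fun g h ψ => Subtype.ext (by
          show CT.conjFun P (g * h)⁻¹ ψ.1 = CT.conjFun P g⁻¹ (CT.conjFun P h⁻¹ ψ.1)
          rw [mul_inv_rev, CT.conjFun_mul]) }
    haveI : Finite Ω := Finset.finite_toSet (CT.conjOrbit P φ) |>.to_subtype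
    have hΩ : Nat.card Ω = 3 := by
      rw [Nat.card_eq_fintype_card, Fintype.card_coe, CT.card_conjOrbit]
      omega
    let f : G →* Equiv.Perm Ω := MulAction.toPermHom G Ω
    have hker : f.ker = Subgroup.centralizer (P : Set G) := by
      ext g
      constructor
      · intro hg
        have hfixinv : ∀ ψ ∈ CT.conjOrbit P φ, CT.conjFun P g⁻¹ ψ = ψ := fun ψ hψ =>
          congrArg Subtype.val (Equiv.congr_fun (MonoidHom.mem_ker.mp hg) (⟨ψ, hψ⟩ : Ω))
        have h := RootSingular.mem_centralizer_of_fix P hall hab hfixinv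
        refine (Subgroup.inv_mem_iff _).mp (Subgroup.mem_centralizer_iff.mpr fun x hx => ?_)
        exact (mul_inv_eq_iff_eq_mul.mp (h x hx)).symm
      · intro hg
        refine MonoidHom.mem_ker.mpr (Equiv.ext fun ψ => Subtype.ext (funext fun n => ?_))
        show ψ.1 _ = ψ.1 n
        refine congrArg ψ.1 (Subtype.ext ?_)
        show g⁻¹ * (n : G) * g⁻¹⁻¹ = n
        rw [inv_inv, mul_assoc, Subgroup.mem_centralizer_iff.mp hg n n.2, inv_mul_cancel_left]
    have h6 : f.ker.index = 6 := by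
      have h1 : f.ker.index ∣ 6 := by
        rw [Subgroup.index_ker]
        have := Subgroup.card_subgroup_dvd_card f.range
        rwa [Nat.card_perm, hΩ] at this
      have h3 : 3 ∣ f.ker.index := by
        have := Subgroup.index_dvd_of_le
          (RootSingular.centralizer_le_inertia P (φ := φ) hab)
        rw [hker]
        rwa [show (CT.inertia P φ).index = 3 by omega] at this
      have h2 : 2 ∣ f.ker.index := by
        rw [Subgroup.index_ker]
        have hne1 : f r ≠ 1 := by
          intro h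
          have hrC : r ∈ Subgroup.centralizer (P : Set G) := hker ▸ MonoidHom.mem_ker.mpr h
          rw [hcent] at hrC
          obtain ⟨x, hx, z, hz, hxz⟩ := Subgroup.mem_sup_of_normal_right.mp hrC
          have hz2 : z ^ 2 ∈ P ⊓ Subgroup.center G := by
            refine ⟨?_, Subgroup.pow_mem _ hz 2⟩
            have hc : Commute x z := Subgroup.mem_center_iff.mp hz x
            rw [← hxz, hc.mul_pow] at hr2
            simpa using P.mul_mem (P.inv_mem (P.pow_mem hx 2)) hr2
          rw [hPZ, Subgroup.mem_bot] at hz2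
          have hzd : orderOf z ∣ 2 := orderOf_dvd_of_pow_eq_one hz2
          rcases (Nat.dvd_prime Nat.prime_two).mp hzd with h1 | h1
          · apply hrP
            rw [← hxz, orderOf_eq_one_iff.mp h1, mul_one]
            exact hx
          · exact RootSingular.not_dvd_center hχ hb hr hz (by rw [h1])
        have hsq : f r ^ 2 = 1 := by
          rw [← map_pow, ← MonoidHom.mem_ker, hker, hcent]
          exact Subgroup.mem_sup_left hr2
        have ho : orderOf (⟨f r, MonoidHom.mem_range.mpr ⟨r, rfl⟩⟩ : f.range) = 2 := by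
          rw [← Subgroup.orderOf_coe]
          exact orderOf_eq_prime hsq hne1
        exact ho ▸ orderOf_dvd_natCard _
      have := Nat.le_of_dvd (by norm_num) h1
      interval_cases f.ker.index <;> omega
    have hPG : P ≤ commutator G := by
      by_contra hnle
      have hM := RootSingular.minimal P hall (M := P ⊓ commutator G) inf_le_left
        fun h => hnle (h ▸ inf_le_right)
      apply hP
      rw [← hPZ, eq_comm, inf_eq_left]
      intro x hx
      refine Subgroup.mem_center_iff.mpr fun g => ?_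
      have h1 : g * x * g⁻¹ * x⁻¹ ∈ P ⊓ commutator G :=
        ⟨P.mul_mem (Subgroup.Normal.conj_mem inferInstance x hx g) (P.inv_mem hx),
          commutatorElement_def g x ▸
            Subgroup.commutator_mem_commutator (Subgroup.mem_top g) (Subgroup.mem_top x)⟩
      rw [hM, Subgroup.mem_bot, mul_inv_eq_one, mul_inv_eq_iff_eq_mul] at h1
      exact h1
    exact RootSingular.exists_s4 P hq hcent hPZ hodd hPG hΩ f hker h6

end Cfsg.Agent.S4751
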