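import Cfsg.Statements.S4754
import Cfsg.Agent.Lib.ClassSum.Basic

set_option autoImplicit false
open Cfsg

namespace Cfsg.Agent.S4754

theorem char_mul_of_class {G : Type*} [Group G] [Finite G] (x y : G)
    (h : ∀ a b : G, IsConj (x * y) (a * x * a⁻¹ * (b * y * b⁻¹))) (χ : Cfsg.IrrCharacter G) :
    (χ : G → ℂ) 1 * (χ : G → ℂ) (x * y) = (χ : G → ℂ) x * (χ : G → ℂ) y := by
  classical
  haveI := Fintype.ofFinite G
  have hcf := CT.isClassFunction_of_isIrr χ.2
  have e1 := ClassSum.char_mul_omega χ.2 (ClassSum.classInd_isClassWeight y) x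
  have e2 : ∑ g, (ClassSum.classInd y g : ℂ) * (χ : G → ℂ) (x * g) =
      (Nat.card {g : G // IsConj y g} : ℂ) * (χ : G → ℂ) (x * y) := by
    rw [Nat.card_eq_fintype_card, Fintype.card_subtype, Finset.card_filter, Nat.cast_sum,
      Finset.sum_mul]
    refine Finset.sum_congr rfl fun g _ => ?_
    by_cases hg : IsConj y g
    · obtain ⟨b, rfl⟩ := isConj_iff.mp hg
      have := h 1 b
      simp only [one_mul, inv_one, mul_one] at this
      rw [ClassSum.classInd_pos hg, if_pos hg, CT.isClassFunction_isConj hcf this]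
      simp
    · rw [ClassSum.classInd_neg hg, if_neg hg]
      simp
  rw [ClassSum.omega_classInd _ hcf, e2] at e1
  have hN : (Nat.card {g : G // IsConj y g} : ℂ) ≠ 0 := by
    haveI : Nonempty {g : G // IsConj y g} := ⟨⟨y, IsConj.refl y⟩⟩
    exact Nat.cast_ne_zero.mpr Nat.card_pos.ne'
  have h1 := CT.irr_one_ne_zero χ.2
  field_simp at e1
  linear_combination -e1

/-- For elements x, y of a finite group G, the conjugacy class of x y equals the set of all products of a conjugate of x with a conjugate of y if and only if χ(1) χ(a x a⁻¹ b y b⁻¹) = χ(x) χ(y) for all a, b ∈ G and every irreducible character χ. -/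
theorem result {G : Type*} [Group G] [Finite G] (x y : G) : (∀ z : G, IsConj (x * y) z ↔ ∃ a b : G, z = a * x * a⁻¹ * (b * y * b⁻¹)) ↔ ∀ (a b : G) (χ : Cfsg.IrrCharacter G), (χ : G → ℂ) 1 * (χ : G → ℂ) (a * x * a⁻¹ * (b * y * b⁻¹)) = (χ : G → ℂ) x * (χ : G → ℂ) y := by
  classical
  haveI := Fintype.ofFinite G
  constructor
  · intro h a b χ
    have hc : ∀ a b : G, IsConj (x * y) (a * x * a⁻¹ * (b * y * b⁻¹)) :=
      fun a b => (h _).mpr ⟨a, b, rfl⟩
    rw [← CT.isClassFunction_isConj (CT.isClassFunction_of_isIrr χ.2) (hc a b)]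
    exact char_mul_of_class x y hc χ
  · intro h z
    constructor
    · intro hz
      obtain ⟨c, rfl⟩ := isConj_iff.mp hz
      exact ⟨c, c, by group⟩
    · rintro ⟨a, b, rfl⟩
      refine CT.isConj_iff_forall_irr.mpr fun χ => ?_
      have h1 := h 1 1 χ
      simp only [one_mul, inv_one, mul_one] at h1
      exact mul_left_cancel₀ (CT.irr_one_ne_zero χ.2) (h1.trans (h a b χ).symm)

end Cfsg.Agent.S4754
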