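import Cfsg.Statements.S4755
import Cfsg.Agent.S4754
import Cfsg.Agent.Lib.CT.Kernel

set_option autoImplicit false
open Cfsg

namespace Cfsg.Agent.S4755

/-- Let x, y be non-identity elements of the finite group G such that χ(x' y') = χ(x') χ(y') for all conjugates x' of x, y' of y and every irreducible character χ. Then the conjugacy class of x y is the set of all products of a conjugate of x with a conjugate of y; every irreducible character of degree greater than 1 vanishes at x y; and the conjugacy class of x y is the coset of the commutator subgroup containing x y. -/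
theorem result {G : Type*} [Group G] [Finite G] (x y : G) (hx : x ≠ 1) (hy : y ≠ 1) (h : ∀ (a b : G) (χ : Cfsg.IrrCharacter G), (χ : G → ℂ) (a * x * a⁻¹ * (b * y * b⁻¹)) = (χ : G → ℂ) (a * x * a⁻¹) * (χ : G → ℂ) (b * y * b⁻¹)) : (∀ z : G, IsConj (x * y) z ↔ ∃ a b : G, z = a * x * a⁻¹ * (b * y * b⁻¹)) ∧ (∀ χ : Cfsg.IrrCharacter G, (χ : G → ℂ) 1 ≠ 1 → (χ : G → ℂ) (x * y) = 0) ∧ (∀ z : G, IsConj (x * y) z ↔ (x * y)⁻¹ * z ∈ commutator G) := by
  classical
  haveI := Fintype.ofFinite G
  have h11 : ∀ χ : Cfsg.IrrCharacter G,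
      (χ : G → ℂ) (x * y) = (χ : G → ℂ) x * (χ : G → ℂ) y := fun χ => by
    simpa using h 1 1 χ
  have hprod : ∀ a b : G, IsConj (x * y) (a * x * a⁻¹ * (b * y * b⁻¹)) := fun a b =>
    CT.isConj_iff_forall_irr.mpr fun χ => by
      rw [h11, h a b χ, CT.isClassFunction_of_isIrr χ.2 x a, CT.isClassFunction_of_isIrr χ.2 y b]
  have hvan : ∀ χ : Cfsg.IrrCharacter G, (χ : G → ℂ) 1 ≠ 1 → (χ : G → ℂ) (x * y) = 0 := by
    intro χ hχ
    have h2 := S4754.char_mul_of_class x y hprod χ
    rw [← h11] at h2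
    by_contra h0
    exact hχ (mul_right_cancel₀ h0 (h2.trans (one_mul _).symm))
  refine ⟨fun z => ⟨fun hz => ?_, fun ⟨a, b, hz⟩ => hz ▸ hprod a b⟩, hvan, ?_⟩
  · obtain ⟨c, rfl⟩ := isConj_iff.mp hz
    exact ⟨c, c, by group⟩
  set g := x * y
  -- the class of g has as many elements as the commutator subgroup
  have hsub : ∀ z, IsConj g z → g⁻¹ * z ∈ commutator G := by
    intro z hz
    obtain ⟨c, rfl⟩ := isConj_iff.mp hz
    rw [show g⁻¹ * (c * g * c⁻¹) = g⁻¹ * c * (g⁻¹)⁻¹ * c⁻¹ by group, ← commutatorElement_def,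
      commutator_def]
    exact Subgroup.commutator_mem_commutator (Subgroup.mem_top _) (Subgroup.mem_top _)
  have hC : (Nat.card (Subgroup.centralizer ({g} : Set G)) : ℂ) = (commutator G).index := by
    have h1 := CT.column_orthogonality g g
    rw [if_pos (IsConj.refl g)] at h1
    rw [← h1, ← CT.card_linear_irr, Nat.card_eq_fintype_card, Fintype.card_subtype,
      Finset.card_filter, Nat.cast_sum]
    refine Finset.sum_congr rfl fun χ _ => ?_
    by_cases h2 : (χ : G → ℂ) 1 = 1
    · rw [if_pos h2, Complex.mul_conj']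
      obtain ⟨lam, hlam⟩ := CT.exists_hom_of_degree_one (CT.isCharacter_of_isIrr χ.2) h2
      have : ‖(χ : G → ℂ) g‖ = 1 := by
        rw [hlam]
        exact Complex.norm_eq_one_of_pow_eq_one (n := orderOf g) (by
          rw [← Units.val_pow_eq_pow_val, ← map_pow, pow_orderOf_eq_one, map_one, Units.val_one])
          (orderOf_pos g).ne'
      rw [this]; simp
    · rw [if_neg h2, hvan χ h2, zero_mul, Nat.cast_zero]
  have hcard : Nat.card {z : G // IsConj g z} = Nat.card {z : G // g⁻¹ * z ∈ commutator G} := by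
    have e : Nat.card {z : G // g⁻¹ * z ∈ commutator G} = Nat.card (commutator G) :=
      Nat.card_congr ((Equiv.mulLeft g⁻¹).subtypeEquiv fun z => Iff.rfl)
    have h1 := CT.card_conj_class_mul_centralizer g
    rw [Nat.cast_inj.mp hC, ← (commutator G).card_mul_index] at h1
    rw [e]
    exact Nat.eq_of_mul_eq_mul_right (Nat.pos_of_ne_zero (commutator G).index_ne_zero_of_finite) h1
  intro z
  refine ⟨hsub z, fun hz => ?_⟩
  have hbij := (Nat.bijective_iff_injective_and_card (fun w : {z : G // IsConj g z} =>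
    (⟨w.1, hsub _ w.2⟩ : {z : G // g⁻¹ * z ∈ commutator G}))).mpr
    ⟨fun a b hab => Subtype.ext (congrArg Subtype.val hab :), hcard⟩
  obtain ⟨w, hw⟩ := hbij.2 ⟨z, hz⟩
  have : w.1 = z := congrArg Subtype.val hw
  exact this ▸ w.2

end Cfsg.Agent.S4755
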