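import Cfsg.Statements.S4756
import Cfsg.Agent.Lib.CT.PairMult

set_option autoImplicit false
set_option linter.all false
open Cfsg

namespace Cfsg.Agent.S4756

/-- For a finite group G the following are equivalent. (1) χ(x y) = χ(x) χ(y) for every irreducible character χ and all non-identity elements x, y of prime power orders for two different primes. (2) G is a p-group for some prime p, or G is abelian, or for some prime p: G = A P with P a normal Sylow p-subgroup and A a nontrivial cyclic subgroup of order prime to p such that, with C = C_P(A) and D = [A, P], one has P = C D, C abelian, D normal in G, C ∩ D = 1, and A acts fixed-point-freely on D (no non-identity element of A centralizes a non-identity element of D). -/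
theorem result {G : Type*} [Group G] [Finite G] : (∀ (x y : G) (χ : Cfsg.IrrCharacter G), x ≠ 1 → y ≠ 1 → (∃ p q a b : ℕ, p.Prime ∧ q.Prime ∧ p ≠ q ∧ orderOf x = p ^ a ∧ orderOf y = q ^ b) → (χ : G → ℂ) (x * y) = (χ : G → ℂ) x * (χ : G → ℂ) y) ↔ ((∃ p : ℕ, p.Prime ∧ IsPGroup p G) ∨ IsMulCommutative G ∨ ∃ (p : ℕ) (_ : Fact p.Prime) (P : Sylow p G) (A : Subgroup G), (P : Subgroup G).Normal ∧ IsCyclic ↥A ∧ A ≠ ⊥ ∧ (Nat.card ↥A).Coprime p ∧ A ⊔ (P : Subgroup G) = ⊤ ∧ IsMulCommutative ↥((P : Subgroup G) ⊓ Subgroup.centralizer (A : Set G)) ∧ (⁅A, (P : Subgroup G)⁆).Normal ∧ ((P : Subgroup G) ⊓ Subgroup.centralizer (A : Set G)) ⊔ ⁅A, (P : Subgroup G)⁆ = (P : Subgroup G) ∧ ((P : Subgroup G) ⊓ Subgroup.centralizer (A : Set G)) ⊓ ⁅A, (P : Subgroup G)⁆ = ⊥ ∧ ∀ a ∈ A, a ≠ 1 → ∀ d ∈ ⁅A, (P : Subgroup G)⁆, a * d = d * a → d = 1) := by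
  classical
  constructor
  · intro h
    by_cases hnp : ∃ p : ℕ, p.Prime ∧ IsPGroup p G
    · exact Or.inl hnp
    by_cases hna : IsMulCommutative G
    · exact Or.inr (Or.inl hna)
    exact Or.inr (Or.inr (PairMult.forward h hnp hna))
  · rintro (⟨r, hr, hG⟩ | hab | ⟨r, hf, P, A, h1, h2, -, h4, h5, h6, h7, h8, -, h10⟩)
    · rintro x y χ hx hy ⟨p, q, a, b, hp, hq, hpq, ha, hb⟩
      haveI := Fact.mk hr
      exfalso
      have key : ∀ {z : G} {s c : ℕ}, s.Prime → z ≠ 1 → orderOf z = s ^ c → s = r := by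
        intro z s c hs hz hc
        obtain ⟨k, hk⟩ := IsPGroup.iff_orderOf.mp hG z
        have hc0 : c ≠ 0 := fun e => hz (orderOf_eq_one_iff.mp (by rw [hc, e, pow_zero]))
        exact (Nat.prime_dvd_prime_iff_eq hs hr).mp
          (hs.dvd_of_dvd_pow ((hc.symm.trans hk) ▸ dvd_pow_self s hc0))
      exact hpq ((key hp hx ha).trans (key hq hy hb).symm)
    · intro x y χ _ _ _
      have h1 := CT.irr_degree_one_of_comm (fun a b => hab.is_comm.comm a b) χ.2
      obtain ⟨l, hl⟩ := CT.exists_hom_of_degree_one (CT.isCharacter_of_isIrr χ.2) h1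
      simp [hl]
    · haveI := hf
      exact PairMult.backward P A h1 h2 h4 h5 h6 h7 h8 h10

end Cfsg.Agent.S4756
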