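import Cfsg.Statements.S4757
import Cfsg.Agent.Lib.CT.Kernel
import Cfsg.Agent.Lib.CT.Integral
import Cfsg.Agent.Lib.Basics.Cores
import Mathlib.GroupTheory.Transfer

set_option autoImplicit false
set_option linter.all false
open Cfsg

namespace Cfsg.Agent.S4757

open Cfsg.Agent.CT
open scoped ComplexConjugate

universe u

variable {G : Type u} [Group G] [Fintype G]

theorem const_of_imperfect {u : G} (hu : u ≠ 1) {c : ℂ}
    (hyp : ∀ χ : Cfsg.IrrCharacter G, (χ : G → ℂ) ≠ (fun _ => (1 : ℂ)) →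
      ((χ : G → ℂ) 1 - (χ : G → ℂ) u = c ∨ (χ : G → ℂ) u = 0))
    (hnp : commutator G ≠ ⊤) :
    c = 2 ∧ (commutator G).index = 2 ∧
      ∀ χ : Cfsg.IrrCharacter G, (χ : G → ℂ) 1 = 1 → (χ : G → ℂ) ≠ (fun _ => (1 : ℂ)) →
        (χ : G → ℂ) u = -1 := by
  classical
  have hlin : ∀ χ : Cfsg.IrrCharacter G, (χ : G → ℂ) 1 = 1 → (χ : G → ℂ) ≠ (fun _ => (1 : ℂ)) →
      (χ : G → ℂ) u = 1 - c := by
    intro χ h1 hne
    obtain ⟨lam, hlam⟩ := exists_hom_of_degree_one (isCharacter_of_isIrr χ.2) h1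
    have hne0 : (χ : G → ℂ) u ≠ 0 := by rw [hlam]; exact Units.ne_zero _
    rw [← (hyp χ hne).resolve_right hne0, h1]; ring
  have hidx : 2 ≤ (commutator G).index :=
    Nat.lt_of_le_of_ne (Nat.pos_of_ne_zero Subgroup.index_ne_zero_of_finite)
      (fun h => hnp (Subgroup.index_eq_one.mp h.symm))
  have hcard := card_linear_irr (G := G)
  haveI : Nontrivial {χ : Cfsg.IrrCharacter G // (χ : G → ℂ) 1 = 1} :=
    Finite.one_lt_card_iff_nontrivial.mp (by omega)
  obtain ⟨χ, hχ⟩ := exists_ne (⟨trivIrr G, rfl⟩ : {χ : Cfsg.IrrCharacter G // (χ : G → ℂ) 1 = 1})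
  have hne : (χ.1 : G → ℂ) ≠ fun _ => (1 : ℂ) := fun h => hχ (Subtype.ext (Subtype.ext h))
  obtain ⟨w, hw⟩ : ∃ w, w = 1 - c := ⟨_, rfl⟩
  have hwne : w ≠ 1 := by
    intro hw1
    have hc : c = 0 := by rw [hw] at hw1; linear_combination -hw1
    have h := column_orthogonality (G := G) u 1
    rw [if_neg (fun h => hu (isConj_one_left.mp h))] at h
    have h2 : ∀ ψ : Cfsg.IrrCharacter G, (ψ : G → ℂ) u * conj ((ψ : G → ℂ) 1) =
        ((if (ψ : G → ℂ) u = 0 then 0 else deg (ψ : G → ℂ) ^ 2 : ℕ) : ℂ) := by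
      intro ψ
      split_ifs with h0
      · simp [h0]
      · have he : (ψ : G → ℂ) u = (ψ : G → ℂ) 1 := by
          by_cases ht : (ψ : G → ℂ) = fun _ => (1 : ℂ)
          · rw [ht]
          · have := (hyp ψ ht).resolve_right h0
            rw [hc] at this
            exact (sub_eq_zero.mp this).symm
        rw [he, deg_eq (isCharacter_of_isIrr ψ.2), Complex.conj_natCast]
        push_cast; ring
    rw [Finset.sum_congr rfl fun ψ _ => h2 ψ, ← Nat.cast_sum, Nat.cast_eq_zero,
      Finset.sum_eq_zero_iff] at h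
    have h3 := h (trivIrr G) (Finset.mem_univ _)
    simp [CT.deg] at h3
  -- all non-principal linear characters agree with `lam`
  obtain ⟨lam, hlam⟩ := exists_hom_of_degree_one (isCharacter_of_isIrr χ.1.2) χ.2
  have hval : ∀ μ : G →* ℂˣ, μ ≠ 1 → (μ u : ℂ) = w := by
    intro μ hμ
    rw [hw]
    refine hlin (linIrr μ) (by show ((μ 1 : ℂˣ) : ℂ) = 1; simp) fun h => hμ ?_
    ext g
    have := congrFun h g
    simpa [linIrr] using this
  have hlam1 : lam ≠ 1 := fun h => hne (by rw [hlam, h]; funext g; simp)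
  have hl := hval lam hlam1
  have hsq : lam * lam = 1 := by
    by_contra h2
    have h := hval _ h2
    rw [MonoidHom.mul_apply, Units.val_mul, hl] at h
    exact hwne (mul_left_cancel₀ (hl ▸ Units.ne_zero (lam u)) (h.trans (mul_one w).symm))
  have hw2 : w = -1 := by
    have h := congrArg (fun ν : G →* ℂˣ => (ν u : ℂ)) hsq
    simp only [MonoidHom.mul_apply, Units.val_mul, hl, MonoidHom.one_apply, Units.val_one] at h
    exact (mul_self_eq_one_iff.mp h).resolve_left hwne
  have hc : c = 2 := by linear_combination hw - hw2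
  refine ⟨hc, ?_, fun ψ h1 hne' => by rw [hlin ψ h1 hne', ← hw, hw2]⟩
  by_contra hidx2
  obtain ⟨ψ, hψ1, hψ2⟩ : ∃ ψ : {χ : Cfsg.IrrCharacter G // (χ : G → ℂ) 1 = 1},
      ψ ≠ χ ∧ ψ ≠ (⟨trivIrr G, rfl⟩ : {χ : Cfsg.IrrCharacter G // (χ : G → ℂ) 1 = 1}) := by
    by_contra hh
    push Not at hh
    apply hidx2
    rw [← hcard, Nat.card_eq_two_iff]
    refine ⟨χ, ⟨trivIrr G, rfl⟩, hχ, ?_⟩
    ext ψ
    simp only [Set.mem_insert_iff, Set.mem_singleton_iff, Set.mem_univ, iff_true]
    by_cases h : ψ = χ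
    · exact Or.inl h
    · exact Or.inr (hh ψ h)
  obtain ⟨μ, hμ⟩ := exists_hom_of_degree_one (isCharacter_of_isIrr ψ.1.2) ψ.2
  have hμ1 : μ ≠ 1 := fun h => hψ2 (Subtype.ext (Subtype.ext (by
    rw [hμ, h]; funext g; simp)))
  have hml : μ * lam ≠ 1 := by
    intro h
    apply hψ1
    have : μ = lam := mul_right_cancel (h.trans hsq.symm)
    exact Subtype.ext (Subtype.ext (by rw [hμ, hlam, this]))
  have h := hval _ hml
  rw [MonoidHom.mul_apply, Units.val_mul, hval μ hμ1, hl, hw2] at h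
  norm_num at h

theorem imperfect_of_two {u : G} (hu : u ≠ 1)
    (hyp : ∀ χ : Cfsg.IrrCharacter G, (χ : G → ℂ) ≠ (fun _ => (1 : ℂ)) →
      ((χ : G → ℂ) 1 - (χ : G → ℂ) u = 2 ∨ (χ : G → ℂ) u = 0)) :
    commutator G ≠ ⊤ ∧ Nat.card (Subgroup.centralizer ({u} : Set G)) = 2 := by
  classical
  have hval : ∀ χ : Cfsg.IrrCharacter G, (χ : G → ℂ) ≠ (fun _ => (1 : ℂ)) →
      (χ : G → ℂ) u = 0 ∨ (χ : G → ℂ) u = (((deg (χ : G → ℂ) : ℤ) - 2 : ℤ) : ℂ) := by
    intro χ hne
    rcases hyp χ hne with h | h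
    · right
      push_cast
      rw [← deg_eq (isCharacter_of_isIrr χ.2)]
      linear_combination -h
    · exact Or.inl h
  have horth := column_orthogonality (G := G) u 1
  rw [if_neg (fun h => hu (isConj_one_left.mp h))] at horth
  let a : Cfsg.IrrCharacter G → ℤ := fun χ =>
    if (χ : G → ℂ) = (fun _ => (1 : ℂ)) then 1
    else if (χ : G → ℂ) u = 0 then 0 else (deg (χ : G → ℂ) : ℤ) - 2
  have ha : ∀ χ : Cfsg.IrrCharacter G, (χ : G → ℂ) u = (a χ : ℂ) := by
    intro χ
    simp only [a]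
    split_ifs with h1 h2
    · rw [h1]; simp
    · simp [h2]
    · exact (hval χ h1).resolve_left h2
  have h0 : ∑ χ : Cfsg.IrrCharacter G, a χ * (deg (χ : G → ℂ) : ℤ) = 0 := by
    rw [Finset.sum_congr rfl fun χ _ => by
      rw [ha χ, deg_eq (isCharacter_of_isIrr χ.2), Complex.conj_natCast, ← Int.cast_natCast,
        ← Int.cast_mul], ← Int.cast_sum, Int.cast_eq_zero] at horth
    exact horth
  have hcent := column_orthogonality (G := G) u u
  rw [if_pos (IsConj.refl u)] at hcent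
  have hsq : (Nat.card (Subgroup.centralizer ({u} : Set G)) : ℤ) =
      ∑ χ : Cfsg.IrrCharacter G, a χ * a χ := by
    rw [Finset.sum_congr rfl fun χ _ => by rw [ha χ, map_intCast, ← Int.cast_mul],
      ← Int.cast_sum] at hcent
    exact_mod_cast hcent.symm
  have hdeg : ∀ χ : Cfsg.IrrCharacter G, 1 ≤ deg (χ : G → ℂ) := by
    intro χ
    refine Nat.pos_of_ne_zero fun h => irr_one_ne_zero χ.2 ?_
    rw [deg_eq (isCharacter_of_isIrr χ.2), h, Nat.cast_zero]
  have hd1 : deg ((trivIrr G : Cfsg.IrrCharacter G) : G → ℂ) = 1 := by simp [CT.deg]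
  have ht : a (trivIrr G) = 1 := by simp [a, trivIrr]
  have hnp : commutator G ≠ ⊤ := by
    intro htop
    rw [← Finset.add_sum_erase _ _ (Finset.mem_univ (trivIrr G)), ht, hd1] at h0
    have hpos : 0 ≤ ∑ χ ∈ Finset.univ.erase (trivIrr G), a χ * (deg (χ : G → ℂ) : ℤ) := by
      refine Finset.sum_nonneg fun χ hχ => ?_
      simp only [a]
      have hne : (χ : G → ℂ) ≠ fun _ => (1 : ℂ) := fun h =>
        (Finset.mem_erase.mp hχ).1 (Subtype.ext h)
      rw [if_neg hne]
      split_ifs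
      · simp
      · refine mul_nonneg ?_ (by positivity)
        by_contra hlt
        have h1 : (χ : G → ℂ) 1 = 1 := by
          rw [deg_eq (isCharacter_of_isIrr χ.2)]
          have := hdeg χ
          exact_mod_cast (show deg (χ : G → ℂ) = 1 by omega)
        have hc := card_linear_irr (G := G)
        rw [htop, Subgroup.index_top, Nat.card_eq_one_iff_unique] at hc
        obtain ⟨hs, -⟩ := hc
        exact (Finset.mem_erase.mp hχ).1 (congrArg Subtype.val
          (@Subsingleton.elim _ hs ⟨χ, h1⟩ ⟨trivIrr G, rfl⟩))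
    push_cast at h0
    omega
  refine ⟨hnp, ?_⟩
  obtain ⟨-, hidx, -⟩ := const_of_imperfect hu hyp hnp
  have hlin := card_linear_irr (G := G)
  rw [hidx, Nat.card_eq_two_iff' (⟨trivIrr G, rfl⟩ : {χ : Cfsg.IrrCharacter G // (χ : G → ℂ) 1 = 1})] at hlin
  obtain ⟨⟨s, hs1⟩, hs, huniq⟩ := hlin
  have hsne : (s : G → ℂ) ≠ fun _ => (1 : ℂ) := fun h => hs (Subtype.ext (Subtype.ext h))
  have hst : s ≠ trivIrr G := fun h => hsne (congrArg Subtype.val h)
  have hsd : deg (s : G → ℂ) = 1 := by simp [CT.deg, hs1]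
  have has : a s = -1 := by
    simp only [a, if_neg hsne]
    rw [if_neg, hsd]
    · norm_num
    · obtain ⟨lam, hlam⟩ := exists_hom_of_degree_one (isCharacter_of_isIrr s.2) hs1
      rw [hlam]
      exact Units.ne_zero _
  have hother : ∀ χ ∈ (Finset.univ.erase (trivIrr G)).erase s, 0 ≤ a χ * (deg (χ : G → ℂ) : ℤ) ∧
      (a χ * (deg (χ : G → ℂ) : ℤ) = 0 → a χ = 0) := by
    intro χ hχ
    obtain ⟨hχs, hχ'⟩ := Finset.mem_erase.mp hχ
    have hne : (χ : G → ℂ) ≠ fun _ => (1 : ℂ) := fun h => (Finset.mem_erase.mp hχ').1 (Subtype.ext h)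
    have hd2 : 2 ≤ deg (χ : G → ℂ) := by
      by_contra hlt
      have h1 : (χ : G → ℂ) 1 = 1 := by
        rw [deg_eq (isCharacter_of_isIrr χ.2)]
        have := hdeg χ
        exact_mod_cast (show deg (χ : G → ℂ) = 1 by omega)
      exact hχs (congrArg Subtype.val (huniq ⟨χ, h1⟩ fun h => (Finset.mem_erase.mp hχ').1
        (congrArg Subtype.val h)))
    refine ⟨?_, fun h => ?_⟩
    · simp only [a, if_neg hne]
      split_ifs
      · simp
      · exact mul_nonneg (by omega) (by positivity)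
    · exact (mul_eq_zero.mp h).resolve_right (by omega)
  have hs' : s ∈ Finset.univ.erase (trivIrr G) := Finset.mem_erase.mpr ⟨hst, Finset.mem_univ _⟩
  rw [← Finset.add_sum_erase _ _ (Finset.mem_univ (trivIrr G)), ← Finset.add_sum_erase _ _ hs',
    ht, hd1, has, hsd] at h0
  simp only [Nat.cast_one, one_mul, ← add_assoc] at h0
  norm_num at h0
  have hz := (Finset.sum_eq_zero_iff_of_nonneg fun χ hχ => (hother χ hχ).1).mp h0
  rw [← Finset.add_sum_erase _ _ (Finset.mem_univ (trivIrr G)), ← Finset.add_sum_erase _ _ hs',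
    ht, has, Finset.sum_eq_zero fun χ hχ => by rw [(hother χ hχ).2 (hz χ hχ), zero_mul]] at hsq
  norm_num at hsq
  rw [Nat.card_eq_fintype_card]
  exact_mod_cast hsq

theorem structure_of_centralizer {u : G} (hu : u ≠ 1)
    (hC : Nat.card (Subgroup.centralizer ({u} : Set G)) = 2) :
    orderOf u = 2 ∧ Subgroup.zpowers u ⊔ Cfsg.oddCore G = ⊤ ∧
      Subgroup.centralizer ({u} : Set G) = Subgroup.zpowers u := by
  classical
  haveI := Fact.mk Nat.prime_two
  have humem : u ∈ Subgroup.centralizer ({u} : Set G) := Subgroup.mem_centralizer_singleton_iff.mpr rfl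
  have hord : orderOf u = 2 := by
    have h := Subgroup.orderOf_dvd_natCard _ humem
    rw [hC] at h
    exact ((Nat.dvd_prime Nat.prime_two).mp h).resolve_left fun h1 => hu (orderOf_eq_one_iff.mp h1)
  have hle : Subgroup.zpowers u ≤ Subgroup.centralizer ({u} : Set G) :=
    Subgroup.zpowers_le.mpr humem
  have hCu : Subgroup.centralizer ({u} : Set G) = Subgroup.zpowers u :=
    (Subgroup.eq_of_le_of_card_ge hle (by rw [hC, Nat.card_zpowers, hord])).symm
  refine ⟨hord, ?_, hCu⟩
  have hpg : IsPGroup 2 (Subgroup.zpowers u) :=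
    IsPGroup.of_card (n := 1) (by rw [Nat.card_zpowers, hord, pow_one])
  obtain ⟨P, hP⟩ := hpg.exists_le_sylow
  have huP : u ∈ (P : Subgroup G) := hP (Subgroup.mem_zpowers u)
  haveI : Nontrivial (P : Subgroup G) :=
    ⟨⟨⟨u, huP⟩, 1, fun h => hu (congrArg Subtype.val h)⟩⟩
  haveI := P.2.center_nontrivial
  obtain ⟨z, hz⟩ := exists_ne (1 : Subgroup.center (P : Subgroup G))
  have hzu : ((z : (P : Subgroup G)) : G) = u := by
    have h1 : ((z : (P : Subgroup G)) : G) ∈ Subgroup.zpowers u := by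
      rw [← hCu, Subgroup.mem_centralizer_singleton_iff]
      exact (congrArg Subtype.val (Subgroup.mem_center_iff.mp z.2 ⟨u, huP⟩)).symm
    obtain ⟨n, hn, e⟩ := Finset.mem_image.mp (mem_zpowers_iff_mem_range_orderOf.mp h1)
    rw [hord, Finset.mem_range] at hn
    interval_cases n
    · exact absurd (Subtype.ext (Subtype.ext (by simpa using e.symm))) hz
    · simpa using e.symm
  have hPeq : (P : Subgroup G) = Subgroup.zpowers u := by
    refine le_antisymm (fun x hx => ?_) hP
    rw [← hCu, Subgroup.mem_centralizer_singleton_iff, ← hzu]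
    exact congrArg Subtype.val (Subgroup.mem_center_iff.mp z.2 ⟨x, hx⟩)
  have hN : Subgroup.normalizer ((P : Subgroup G) : Set G) ≤
      Subgroup.centralizer ((P : Subgroup G) : Set G) := by
    intro g hg
    rw [Subgroup.mem_centralizer_iff]
    intro x hx
    rw [SetLike.mem_coe, hPeq] at hx
    obtain ⟨k, rfl⟩ := Subgroup.mem_zpowers_iff.mp hx
    have h2 : g * u * g⁻¹ ∈ Subgroup.zpowers u := hPeq ▸ (Subgroup.mem_normalizer_iff.mp hg u).mp huP
    obtain ⟨n, hn, e⟩ := Finset.mem_image.mp (mem_zpowers_iff_mem_range_orderOf.mp h2)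
    rw [hord, Finset.mem_range] at hn
    have hcomm : Commute u g := by
      interval_cases n
      · refine absurd ?_ hu
        simp only [pow_zero] at e
        have := congrArg (fun y => g⁻¹ * y * g) e.symm
        simpa [mul_assoc] using this
      · rw [pow_one] at e
        exact mul_inv_eq_iff_eq_mul.mp e.symm |>.symm
    exact hcomm.zpow_left k
  have hc := MonoidHom.ker_transferSylow_isComplement' P hN
  have hodd : (MonoidHom.transferSylow P hN).ker ≤ Cfsg.oddCore G := by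
    refine Basics.le_pPrimeCore ?_
    exact ((Nat.prime_two.coprime_iff_not_dvd).mpr
      (MonoidHom.not_dvd_card_ker_transferSylow P hN)).symm
  rw [eq_top_iff, ← hc.sup_eq_top]
  exact sup_le (hodd.trans le_sup_right) ((le_of_eq hPeq).trans le_sup_left)

/-- Let u ≠ 1 be an element of the finite group G and c a complex number such that every non-principal irreducible character χ satisfies χ(1) − χ(u) = c or χ(u) = 0. Then the following are equivalent: (a) u has order 2, G is generated by u together with O(G), the largest normal subgroup of G of odd order, and the centralizer of u is {1, u}; (b) G is not perfect; (c) c = 2. -/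
theorem result {G : Type*} [Group G] [Finite G] (u : G) (hu : u ≠ 1) (c : ℂ) (hyp : ∀ χ : Cfsg.IrrCharacter G, (χ : G → ℂ) ≠ (fun _ => (1 : ℂ)) → ((χ : G → ℂ) 1 - (χ : G → ℂ) u = c ∨ (χ : G → ℂ) u = 0)) : ((orderOf u = 2 ∧ Subgroup.zpowers u ⊔ Cfsg.oddCore G = ⊤ ∧ Subgroup.centralizer ({u} : Set G) = Subgroup.zpowers u) ↔ commutator G ≠ ⊤) ∧ (commutator G ≠ ⊤ ↔ c = 2) := by
  classical
  haveI := Fintype.ofFinite G
  have hb : commutator G ≠ ⊤ → c = 2 := fun h => (const_of_imperfect hu hyp h).1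
  have hc2 : c = 2 → commutator G ≠ ⊤ ∧ Nat.card (Subgroup.centralizer ({u} : Set G)) = 2 := by
    intro hc
    subst hc
    exact imperfect_of_two hu hyp
  refine ⟨⟨?_, fun h => structure_of_centralizer hu (hc2 (hb h)).2⟩, hb, fun h => (hc2 h).1⟩
  rintro ⟨hord, hgen, -⟩ htop
  haveI : (Cfsg.oddCore G).Normal := Cfsg.Agent.Basics.pPrimeCore_normal 2
  have hle : commutator G ≤ Cfsg.oddCore G := by
    rw [commutator_def, Subgroup.commutator_le]
    intro a _ b _
    have hmem : ∀ g : G, ∃ k : ℤ, (QuotientGroup.mk g : G ⧸ Cfsg.oddCore G) = (QuotientGroup.mk u) ^ k := by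
      intro g
      obtain ⟨x, hx, y, hy, rfl⟩ := Subgroup.mem_sup_of_normal_right.mp (hgen.symm ▸ Subgroup.mem_top g)
      obtain ⟨k, rfl⟩ := Subgroup.mem_zpowers_iff.mp hx
      exact ⟨k, by rw [QuotientGroup.mk_mul, (QuotientGroup.eq_one_iff y).mpr hy, mul_one,
        QuotientGroup.mk_zpow]⟩
    obtain ⟨i, hi⟩ := hmem a
    obtain ⟨j, hj⟩ := hmem b
    rw [← QuotientGroup.eq_one_iff, ← QuotientGroup.mk'_apply, map_commutatorElement,
      commutatorElement_eq_one_iff_mul_comm]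
    simp only [QuotientGroup.mk'_apply, hi, hj, ← zpow_add, add_comm]
  have hu' : u ∈ Cfsg.oddCore G := hle (htop ▸ Subgroup.mem_top u)
  have h2 := Subgroup.orderOf_dvd_natCard _ hu'
  rw [hord] at h2
  exact (Nat.prime_two.coprime_iff_not_dvd.mp (Cfsg.Agent.Basics.pPrimeCore_coprime 2).symm) h2

end Cfsg.Agent.S4757
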