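import Cfsg.Statements.S4762
import Cfsg.Agent.Lib.CT.Kernel
import Cfsg.Agent.Lib.CT.Degree
import Cfsg.Agent.Lib.Blocks.Knorr
import Cfsg.Agent.Lib.Basics.ThompsonFpf
import Cfsg.Agent.Lib.Basics.Frattini
import Cfsg.Agent.Lib.LocalEvenA.FrattiniP
import Cfsg.Agent.Lib.OddChar.AbelianQuotient

set_option autoImplicit false
set_option linter.all false
open Cfsg

namespace Cfsg.Agent.S4762

open Cfsg.Agent
open scoped ComplexConjugate commutatorElement

theorem deg_one_iff {G : Type*} [Group G] [Finite G] (χ : IrrCharacter G) :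
    charDegree (χ : G → ℂ) = 1 ↔ (χ : G → ℂ) 1 = 1 := by
  rw [Blocks.charDegree_cast]
  exact_mod_cast Iff.rfl

theorem p_dvd_iff {G : Type*} [Group G] [Finite G] {p : ℕ} [hp : Fact p.Prime]
    (hG : IsPGroup p G) (χ : IrrCharacter G) :
    p ∣ charDegree (χ : G → ℂ) ↔ ¬ (χ : G → ℂ) 1 = 1 := by
  rw [← deg_one_iff]
  refine ⟨fun h e => hp.out.not_dvd_one (e ▸ h), fun h => ?_⟩
  obtain ⟨n, hn⟩ := IsPGroup.iff_card.mp hG
  obtain ⟨k, -, hk⟩ := (Nat.dvd_prime_pow hp.out).mp (hn ▸ Blocks.charDegree_dvd_card χ)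
  rw [hk] at h ⊢
  exact dvd_pow_self p fun e => h (by rw [e, pow_zero])

/-- The order is the number of linear characters plus the squares of the other degrees. -/
theorem sum_split {G : Type*} [Group G] [Fintype G] :
    (Nat.card G : ℂ) = (commutator G).index +
      ∑ χ : IrrCharacter G, (if (χ : G → ℂ) 1 = 1 then 0 else (χ : G → ℂ) 1 ^ 2) := by
  classical
  rw [← CT.sum_degree_sq, ← CT.card_linear_irr, Nat.card_eq_fintype_card, Fintype.card_subtype,
    Finset.card_filter, Nat.cast_sum, ← Finset.sum_add_distrib]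
  refine Finset.sum_congr rfl fun χ _ => ?_
  split_ifs with h <;> simp [h]

theorem center_bound {G : Type*} [Group G] [Fintype G] (χ : IrrCharacter G) :
    Nat.card (Subgroup.center G) * charDegree (χ : G → ℂ) ^ 2 ≤ Nat.card G := by
  classical
  have h1 := CT.irr_inner_self χ.2
  rw [classInner, inv_mul_eq_iff_eq_mul₀ CT.card_ne_zero, mul_one] at h1
  simp only [Complex.mul_conj'] at h1
  have h2 : ∑ g : G, ‖(χ : G → ℂ) g‖ ^ 2 = (Nat.card G : ℝ) := by exact_mod_cast h1
  have hz : ∀ z : G, z ∈ Subgroup.center G → ‖(χ : G → ℂ) z‖ = charDegree (χ : G → ℂ) := by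
    intro z hz
    have hd := Blocks.charDegree_cast χ
    obtain ⟨n, ρ, hρ, hχ⟩ := χ.2
    haveI := hρ
    obtain ⟨w, hw, hw1⟩ := CT.central_scalar ρ hz
    rw [← hχ] at hd ⊢
    rw [Representation.character, hw, map_smul, smul_eq_mul, norm_mul, hw1, one_mul]
    rw [Representation.char_one] at hd
    rw [show (LinearMap.id : (Fin n → ℂ) →ₗ[ℂ] _) = 1 from rfl, LinearMap.trace_one, hd]
    simp
  have h3 : (Nat.card (Subgroup.center G) : ℝ) * (charDegree (χ : G → ℂ) : ℝ) ^ 2 ≤ Nat.card G := by
    rw [← h2]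
    calc (Nat.card (Subgroup.center G) : ℝ) * (charDegree (χ : G → ℂ) : ℝ) ^ 2
        = ∑ g ∈ Finset.univ.filter (fun g => g ∈ Subgroup.center G), ‖(χ : G → ℂ) g‖ ^ 2 := by
          rw [Finset.sum_congr rfl fun g hg => by rw [hz g (Finset.mem_filter.mp hg).2],
            Finset.sum_const, nsmul_eq_mul, Nat.card_eq_fintype_card, Fintype.card_subtype]
      _ ≤ _ := Finset.sum_le_sum_of_subset_of_nonneg (Finset.subset_univ _) fun g _ _ => sq_nonneg _
  exact_mod_cast h3

/-- An extraspecial `2`-group has exactly one non-linear irreducible character. -/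
theorem unique_of_extraspecial {G : Type*} [Group G] [Finite G] (hE : IsExtraspecial 2 G) :
    Nat.card {χ : IrrCharacter G // 2 ∣ charDegree (χ : G → ℂ)} = 1 := by
  classical
  haveI := Fintype.ofFinite G
  haveI : Fact (Nat.Prime 2) := ⟨Nat.prime_two⟩
  obtain ⟨⟨hG, -, hder⟩, hZ⟩ := hE
  have hnl : ∀ χ : IrrCharacter G, ¬ (χ : G → ℂ) 1 = 1 →
      (charDegree (χ : G → ℂ)) ^ 2 * 2 = Nat.card G := by
    intro χ hχ
    have hd := Blocks.charDegree_cast χ
    have hnk : ¬ Subgroup.center G ≤ CT.kerChar (χ : G → ℂ) := by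
      intro hle
      obtain ⟨ψ, hψ, hψe⟩ := CT.exists_quotient_irr χ.2 (Subgroup.center G) fun z hz =>
        (CT.mem_kerChar_iff (CT.isCharacter_of_isIrr χ.2)).mp (hle hz)
      refine hχ ?_
      rw [← hψe 1]
      refine CT.irr_degree_one_of_comm (fun a b => ?_) hψ
      induction a using QuotientGroup.induction_on with | _ a =>
      induction b using QuotientGroup.induction_on with | _ b =>
      rw [← QuotientGroup.mk_mul, ← QuotientGroup.mk_mul, QuotientGroup.eq, ← hder]
      rw [show (a * b)⁻¹ * (b * a) = ⁅b⁻¹, a⁻¹⁆ by rw [commutatorElement_def]; group]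
      exact Subgroup.commutator_mem_commutator trivial trivial
    obtain ⟨n, ρ, hρ, hχe⟩ := χ.2
    haveI := hρ
    have hvan : ∀ g : G, g ∉ Subgroup.center G → (χ : G → ℂ) g = 0 := by
      intro g hg
      obtain ⟨h, hh⟩ : ∃ h : G, h * g ≠ g * h := by
        by_contra hc
        push Not at hc
        exact hg (Subgroup.mem_center_iff.mpr hc)
      have hc : ⁅h, g⁆ ∈ Subgroup.center G := by
        rw [← hder]; exact Subgroup.commutator_mem_commutator trivial trivial
      obtain ⟨w, hw, -⟩ := CT.central_scalar ρ hc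
      have hc1 : ⁅h, g⁆ ≠ 1 := fun e => hh (commutatorElement_eq_one_iff_mul_comm.mp e)
      have hw1 : w ≠ 1 := by
        intro e
        refine hnk fun z hz => ?_
        have hzc : z ∈ Subgroup.zpowers ⁅h, g⁆ := by
          have : Subgroup.zpowers ⁅h, g⁆ = Subgroup.center G := by
            refine Subgroup.eq_of_le_of_card_ge ((Subgroup.zpowers_le).mpr hc) ?_
            rw [hZ, Nat.card_zpowers]
            have := orderOf_pos ⁅h, g⁆
            have : orderOf ⁅h, g⁆ ≠ 1 := fun e => hc1 (orderOf_eq_one_iff.mp e)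
            omega
          rw [this]; exact hz
        refine (Subgroup.zpowers_le.mpr ?_) hzc
        rw [← hχe]
        refine CT.mem_kerChar_of_rep ρ ?_
        rw [hw, e, one_smul]; rfl
      have h1 := CT.isClassFunction_of_isIrr χ.2 g h
      have h2 : (χ : G → ℂ) (h * g * h⁻¹) = w * (χ : G → ℂ) g := by
        rw [show h * g * h⁻¹ = ⁅h, g⁆ * g by rw [commutatorElement_def]; group, ← hχe]
        simp only [Representation.character, map_mul, hw]
        rw [show (w • LinearMap.id : (Fin n → ℂ) →ₗ[ℂ] _) * ρ g = w • ρ g from rfl, map_smul,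
          smul_eq_mul]
      rw [h1] at h2
      exact (mul_eq_zero.mp (show ((1 : ℂ) - w) * (χ : G → ℂ) g = 0 by
        rw [sub_mul, one_mul, ← h2, sub_self])).resolve_left (sub_ne_zero.mpr hw1.symm)
    have h := CT.irr_inner_self χ.2
    rw [classInner, inv_mul_eq_iff_eq_mul₀ CT.card_ne_zero, mul_one,
      ← Finset.sum_subset (Finset.subset_univ (Finset.univ.filter fun g => g ∈ Subgroup.center G))
        (fun g _ hg => by rw [hvan g (fun e => hg (Finset.mem_filter.mpr ⟨Finset.mem_univ g, e⟩)),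
          zero_mul])] at h
    have hz : ∀ z ∈ Finset.univ.filter (fun g => g ∈ Subgroup.center G),
        (χ : G → ℂ) z * conj ((χ : G → ℂ) z) = (charDegree (χ : G → ℂ) : ℂ) ^ 2 := by
      intro z hz
      obtain ⟨w, hw, hw1⟩ := CT.central_scalar ρ (Finset.mem_filter.mp hz).2
      rw [← hd, ← hχe, Representation.character, hw, map_smul, smul_eq_mul, map_mul,
        show (LinearMap.id : (Fin n → ℂ) →ₗ[ℂ] _) = 1 from rfl, LinearMap.trace_one,
        Representation.character, map_one, LinearMap.trace_one, map_natCast]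
      have : w * conj w = 1 := by rw [Complex.mul_conj', hw1]; simp
      linear_combination ((Module.finrank ℂ (Fin n → ℂ) : ℂ) ^ 2) * this
    rw [Finset.sum_congr rfl hz, Finset.sum_const, nsmul_eq_mul, ← Fintype.card_subtype,
      ← Nat.card_eq_fintype_card (α := {g // g ∈ Subgroup.center G})] at h
    have h' : Nat.card (Subgroup.center G) * charDegree (χ : G → ℂ) ^ 2 = Nat.card G := by
      exact_mod_cast h
    rw [hZ] at h'
    linarith
  have hi : (commutator G).index * 2 = Nat.card G := by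
    rw [← hZ, ← hder, Subgroup.index_mul_card]
  have hsum := sum_split (G := G)
  rw [Nat.card_congr (Equiv.subtypeEquivRight fun χ => p_dvd_iff hG χ)]
  have hterm : ∀ χ : IrrCharacter G, (if (χ : G → ℂ) 1 = 1 then (0 : ℂ) else (χ : G → ℂ) 1 ^ 2) * 2
      = if ¬ (χ : G → ℂ) 1 = 1 then (Nat.card G : ℂ) else 0 := by
    intro χ
    by_cases h : (χ : G → ℂ) 1 = 1
    · simp [h]
    · rw [if_neg h, if_pos h, Blocks.charDegree_cast χ, ← hnl χ h]
      push_cast; ring
  have h2 : (Nat.card G : ℂ) * 2 = Nat.card G +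
      (Nat.card {χ : IrrCharacter G // ¬ (χ : G → ℂ) 1 = 1} : ℂ) * Nat.card G := by
    rw [Nat.card_eq_fintype_card (α := {χ : IrrCharacter G // _}), Fintype.card_subtype,
      Finset.card_filter, Nat.cast_sum, Finset.sum_mul]
    nth_rewrite 1 [hsum]
    rw [add_mul, Finset.sum_mul, Finset.sum_congr rfl fun χ _ => hterm χ, ← hi]
    push_cast
    congr 1
    refine Finset.sum_congr rfl fun χ _ => ?_
    split_ifs <;> simp
  have h3 : Nat.card G * 2 = Nat.card G +
      Nat.card {χ : IrrCharacter G // ¬ (χ : G → ℂ) 1 = 1} * Nat.card G := by exact_mod_cast h2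
  have := Nat.card_pos (α := G)
  nlinarith

/-- A `p`-group with a single non-linear irreducible character. -/
theorem extraspecial_of_unique {G : Type*} [Group G] [Finite G] {p : ℕ} [hp : Fact p.Prime]
    (hG : IsPGroup p G) (χ : IrrCharacter G) (hχ : ¬ (χ : G → ℂ) 1 = 1)
    (huniq : ∀ ψ : IrrCharacter G, ¬ (ψ : G → ℂ) 1 = 1 → ψ = χ) :
    p = 2 ∧ IsExtraspecial 2 G := by
  classical
  haveI := Fintype.ofFinite G
  haveI := hG.isNilpotent
  set d := charDegree (χ : G → ℂ) with hd
  set c := (commutator G).index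
  set m := Nat.card (commutator G)
  have hsum : (Nat.card G : ℂ) = (c : ℂ) + (d : ℂ) ^ 2 := by
    rw [sum_split, Finset.sum_eq_single χ (fun ψ _ h => if_pos (by_contra fun e => h (huniq ψ e)))
      (by simp), if_neg hχ, Blocks.charDegree_cast χ]
  have hs : Nat.card G = c + d ^ 2 := by exact_mod_cast hsum
  have hcm : c * m = Nat.card G := Subgroup.index_mul_card _
  obtain ⟨n, hn⟩ := IsPGroup.iff_card.mp hG
  obtain ⟨i, -, hi⟩ := (Nat.dvd_prime_pow hp.out).mp (hn ▸ (hcm ▸ dvd_mul_left m c : m ∣ Nat.card G))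
  obtain ⟨e, -, he⟩ := (Nat.dvd_prime_pow hp.out).mp (hn ▸ Blocks.charDegree_dvd_card χ)
  have hdpos : 0 < d := Blocks.charDegree_pos χ
  have hm1 : m ≠ 1 := by
    intro h
    rw [h, mul_one] at hcm
    nlinarith
  have hi0 : i ≠ 0 := fun h => hm1 (by rw [hi, h, pow_zero])
  have hdvd : m - 1 ∣ d ^ 2 := ⟨c, by
    have : 1 ≤ m := Nat.card_pos
    rw [Nat.sub_mul, one_mul, mul_comm, hcm, hs]; omega⟩
  have hm2 : m = 2 := by
    have hmpos : 1 ≤ m := Nat.card_pos
    have hco : Nat.Coprime (m - 1) (d ^ 2) := by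
      rw [show d = p ^ e from he, ← pow_mul]
      refine Nat.Coprime.pow_right _ (Nat.Coprime.symm ((hp.out.coprime_iff_not_dvd).mpr fun h => ?_))
      have hpm : p ∣ m := hi ▸ dvd_pow_self p hi0
      have := Nat.dvd_sub hpm h
      rw [show m - (m - 1) = 1 by omega] at this
      exact hp.out.not_dvd_one this
    have := hco.eq_one_of_dvd hdvd
    omega
  have hp2 : p = 2 := by
    have h := hm2.symm.trans hi
    rcases Nat.lt_or_ge i 2 with h2 | h2
    · rw [show i = 1 by omega, pow_one] at h; exact h.symm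
    · have := Nat.pow_le_pow_right hp.out.pos h2
      have := hp.out.two_le
      nlinarith
  subst hp2
  have hcZ : commutator G ≤ Subgroup.center G := by
    intro x hx
    rw [Subgroup.mem_center_iff]
    intro g
    by_cases h1 : x = 1
    · simp [h1]
    have hgx : g * x * g⁻¹ ∈ commutator G := Subgroup.Normal.conj_mem inferInstance x hx g
    obtain ⟨a, b, hab, hall⟩ := Nat.card_eq_two_iff.mp hm2
    have hmem : ∀ y : commutator G, y = 1 ∨ y = ⟨x, hx⟩ := by
      intro y
      have hy : y ∈ ({a, b} : Set (commutator G)) := hall ▸ Set.mem_univ _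
      have h1' : (1 : commutator G) ∈ ({a, b} : Set (commutator G)) := hall ▸ Set.mem_univ _
      have hx' : (⟨x, hx⟩ : commutator G) ∈ ({a, b} : Set (commutator G)) := hall ▸ Set.mem_univ _
      have hne : (⟨x, hx⟩ : commutator G) ≠ 1 := fun e => h1 (congrArg Subtype.val e)
      simp only [Set.mem_insert_iff, Set.mem_singleton_iff] at hy h1' hx'
      grind
    rcases hmem ⟨_, hgx⟩ with e | e
    · exact absurd (conj_eq_one_iff.mp (congrArg Subtype.val e)) h1
    · exact mul_inv_eq_iff_eq_mul.mp (congrArg Subtype.val e)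
  have hZ : Nat.card (Subgroup.center G) ≤ 2 := by
    have h := center_bound χ
    rw [← hd] at h
    rw [hm2] at hcm
    by_contra hlt
    push Not at hlt
    have : c = d ^ 2 := by omega
    nlinarith
  have hder : commutator G = Subgroup.center G :=
    Subgroup.eq_of_le_of_card_ge hcZ (hZ.trans hm2.ge)
  refine ⟨rfl, ⟨hG, ?_, hder⟩, by rw [← hder]; exact hm2⟩
  refine le_antisymm ((LocalEvenA.frattini_le_commutator_sup_pow (p := 2)).trans
    (sup_le hder.le ?_)) (hder ▸ Basics.commutator_le_frattini)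
  rw [Subgroup.closure_le]
  rintro _ ⟨x, rfl⟩
  rw [SetLike.mem_coe, Subgroup.mem_center_iff]
  intro h
  have hc : ⁅x, h⁆ ∈ commutator G := Subgroup.commutator_mem_commutator trivial trivial
  have hsq : ⁅x, h⁆ * ⁅x, h⁆ = 1 := by
    have := orderOf_dvd_natCard (⟨_, hc⟩ : commutator G)
    rw [show Nat.card (commutator G) = 2 from hm2] at this
    have := congrArg Subtype.val (orderOf_dvd_iff_pow_eq_one.mp this)
    simpa [pow_two] using this
  have hcz := Subgroup.mem_center_iff.mp (hcZ hc)
  have e1 : x * h * x⁻¹ = ⁅x, h⁆ * h := by rw [commutatorElement_def]; group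
  have e2 : x * (x * h * x⁻¹) * x⁻¹ = h := by
    rw [e1, show x * (⁅x, h⁆ * h) * x⁻¹ = x * ⁅x, h⁆ * x⁻¹ * (x * h * x⁻¹) by group, hcz x, e1,
      mul_inv_cancel_right, ← mul_assoc, hsq, one_mul]
  simp only [pow_two]
  calc h * (x * x) = x * (x * h * x⁻¹) * x⁻¹ * (x * x) := by rw [e2]
    _ = x * x * h := by group

/-- Let p be a prime and G a finite nilpotent group. Then G has exactly one irreducible complex character of degree divisible by p if and only if p = 2 and G is an extraspecial 2-group. -/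
theorem result {G : Type*} [Group G] [Finite G] [Group.IsNilpotent G] (p : ℕ) [Fact p.Prime] : Nat.card {χ : Cfsg.IrrCharacter G // p ∣ Cfsg.charDegree (χ : G → ℂ)} = 1 ↔ (p = 2 ∧ Cfsg.IsExtraspecial 2 G) := by
  classical
  constructor
  · intro h1
    haveI := Fintype.ofFinite G
    obtain ⟨hsub, ⟨χ, hχ⟩⟩ := Nat.card_eq_one_iff_unique.mp h1
    have huniq : ∀ ψ : IrrCharacter G, p ∣ charDegree (ψ : G → ℂ) → ψ = χ := fun ψ hψ =>
      congrArg Subtype.val (@Subsingleton.elim _ hsub ⟨ψ, hψ⟩ ⟨χ, hχ⟩)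
    obtain ⟨P, N, hN, hc⟩ := Basics.hasNormalPComplement_of_nilpotent (G := G) p
    haveI := hN
    haveI : (P : Subgroup G).Normal :=
      P.normal_of_normalizerCondition Group.normalizerCondition_of_isNilpotent
    haveI := Fintype.ofFinite N
    have hQ : IsPGroup p (G ⧸ N) := by
      have e : Nat.card (G ⧸ N) = Nat.card P := by
        rw [← Subgroup.index_eq_card]
        exact Nat.eq_of_mul_eq_mul_left (Nat.card_pos (α := N)) (N.card_mul_index.trans hc.card_mul.symm)
      obtain ⟨k, hk⟩ := IsPGroup.iff_card.mp P.isPGroup'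
      exact IsPGroup.of_card (n := k) (e.trans hk)
    have hnc : ¬ ∀ a b : G ⧸ N, a * b = b * a := by
      intro hcomm
      have hPc : ∀ a b : (P : Subgroup G), a * b = b * a := fun a b => by
        refine Subtype.ext (commutatorElement_eq_one_iff_mul_comm.mp ?_)
        refine Subgroup.mem_bot.mp (hc.disjoint.le_bot ⟨?_, ?_⟩)
        · refine (QuotientGroup.eq_one_iff _).mp ?_
          rw [commutatorElement_def]
          simp only [QuotientGroup.mk_mul, QuotientGroup.mk_inv]
          rw [hcomm ((a : G) : G ⧸ N) ((b : G) : G ⧸ N)]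
          group
        · rw [commutatorElement_def]
          exact (P : Subgroup G).mul_mem ((P : Subgroup G).mul_mem ((P : Subgroup G).mul_mem a.2 b.2)
            ((P : Subgroup G).inv_mem a.2)) ((P : Subgroup G).inv_mem b.2)
      haveI := Fintype.ofFinite (P : Subgroup G)
      have hd := CT.deg_dvd_index_of_comm (P : Subgroup G) χ.2 hPc
      have hdd : CT.deg (χ : G → ℂ) = charDegree (χ : G → ℂ) := by
        have := (CT.deg_eq (CT.isCharacter_of_isIrr χ.2)).symm.trans (Blocks.charDegree_cast χ)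
        exact_mod_cast this
      exact P.not_dvd_index ((hdd ▸ hχ).trans hd)
    obtain ⟨ψ, hψ⟩ : ∃ ψ : IrrCharacter (G ⧸ N), ¬ (ψ : G ⧸ N → ℂ) 1 = 1 := by
      by_contra h
      push Not at h
      exact hnc (CT.comm_iff_all_linear.mpr h)
    have hinf : ∀ η : IrrCharacter (G ⧸ N), ¬ (η : G ⧸ N → ℂ) 1 = 1 →
        ∀ g : G, (χ : G → ℂ) g = (η : G ⧸ N → ℂ) g := by
      intro η hη g
      let η' : IrrCharacter G := ⟨fun g => (η : G ⧸ N → ℂ) (QuotientGroup.mk g),
        CT.isIrr_inflate N η.2 fun g => rfl⟩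
      have : η' = χ := huniq η' (by
        have h := (p_dvd_iff hQ η).mpr hη
        exact h)
      rw [← this]
    have hNbot : N = ⊥ := by
      by_contra hne
      have hPtop : (P : Subgroup G) ≠ ⊤ := fun e => hne (by
        simpa [e, disjoint_top] using hc.disjoint)
      obtain ⟨M, hM, hPM⟩ := (eq_top_or_exists_le_coatom (P : Subgroup G)).resolve_left hPtop
      obtain ⟨hMn, hMp⟩ := Basics.coatom_normal_prime hM
      haveI := hMn
      obtain ⟨k, hkN, hkM⟩ := SetLike.not_le_iff_exists.mp (show ¬ N ≤ M from fun h =>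
        hM.1 (top_le_iff.mp (hc.sup_eq_top ▸ sup_le h hPM)))
      haveI : Fact (M.index).Prime := ⟨hMp⟩
      haveI : IsCyclic (G ⧸ M) := isCyclic_of_prime_card (p := M.index) (Subgroup.index_eq_card M).symm
      haveI := Fintype.ofFinite (G ⧸ M)
      have hcomm : ∀ a b : G ⧸ M, a * b = b * a := fun a b =>
        (IsCyclic.isMulCommutative (α := G ⧸ M)).is_comm.comm a b
      obtain ⟨η, hη⟩ : ∃ η : IrrCharacter (G ⧸ M), (η : G ⧸ M → ℂ) k ≠ (η : G ⧸ M → ℂ) 1 := by
        by_contra h
        push Not at h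
        exact hkM ((QuotientGroup.eq_one_iff k).mp
          (isConj_one_left.mp (CT.isConj_iff_forall_irr.mpr h)))
      have hη1 := CT.irr_degree_one_of_comm hcomm η.2
      have hlin : IsCharacter G (fun g => (η : G ⧸ M → ℂ) (QuotientGroup.mk g)) :=
        CT.isCharacter_of_isIrr (CT.isIrr_inflate M η.2 fun g => rfl)
      let θ : IrrCharacter G := ⟨_, OddChar.isIrr_mul_linear χ.2 hlin hη1⟩
      have hθd : charDegree (θ : G → ℂ) = charDegree (χ : G → ℂ) := by
        simp [θ, charDegree, hη1]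
      have he := congrFun (congrArg Subtype.val (huniq θ (hθd ▸ hχ))) k
      have hk1 : (χ : G → ℂ) k = (χ : G → ℂ) 1 := by
        rw [hinf ψ hψ, hinf ψ hψ, (QuotientGroup.eq_one_iff k).mpr hkN]
        rfl
      simp only [θ, Pi.mul_apply, hk1] at he
      refine hη ?_
      rw [hη1]
      exact mul_left_cancel₀ (CT.irr_one_ne_zero χ.2) (he.trans (mul_one _).symm)
    have hG : IsPGroup p G := by
      subst hNbot
      exact hQ.of_equiv QuotientGroup.quotientBot
    exact extraspecial_of_unique hG χ ((p_dvd_iff hG χ).mp hχ)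
      fun ψ hψ => huniq ψ ((p_dvd_iff hG ψ).mpr hψ)
  · rintro ⟨rfl, hE⟩
    exact unique_of_extraspecial hE

end Cfsg.Agent.S4762
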