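import Cfsg.Statements.S4763
import Cfsg.Agent.Lib.CT.Degree
import Cfsg.Agent.Lib.Blocks.Defect
import Cfsg.Agent.Lib.CT.Kernel
import Cfsg.Agent.Lib.Glauberman.Conj
import Cfsg.Agent.Lib.CoprimeExt.Gallagher
import Cfsg.Agent.Lib.FGB.Basic
import Cfsg.Agent.Lib.Blocks.Knorr

set_option autoImplicit false
set_option linter.all false
open Cfsg

namespace Cfsg.Agent.S4763

open Cfsg.Agent
open scoped commutatorElement

theorem deg_cast {G : Type*} [Group G] (χ : IrrCharacter G) :
    CT.deg (χ : G → ℂ) = charDegree (χ : G → ℂ) := rfl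

/-- A character of degree prime to `p` restricts irreducibly to a normal subgroup of `p`-power index. -/
theorem restrict_irr {G : Type*} [Group G] [Fintype G] {p : ℕ} (hp : p.Prime) (N : Subgroup G)
    [N.Normal] [Fintype N] (hidx : ∃ k : ℕ, N.index = p ^ k) (χ : IrrCharacter G)
    (hχ : ¬ p ∣ charDegree (χ : G → ℂ)) (θ : IrrCharacter N)
    (h : classInner (fun n : N => (χ : G → ℂ) n) (θ : N → ℂ) ≠ 0) :
    ∀ n : N, (χ : G → ℂ) n = (θ : N → ℂ) n := by
  obtain ⟨k, hk, hkd⟩ := CT.deg_ratio_dvd_index N χ.2 θ.2 h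
  obtain ⟨j, hj⟩ := hidx
  obtain ⟨i, -, rfl⟩ := (Nat.dvd_prime_pow hp).mp (hj ▸ hkd)
  have hi : i = 0 := by
    by_contra hi
    exact hχ (by rw [← deg_cast, hk]; exact dvd_mul_of_dvd_left (dvd_pow_self p hi) _)
  rw [hi, pow_zero, one_mul] at hk
  have hres := CT.isCharacter_restrict N (CT.isCharacter_of_isIrr χ.2)
  have := CT.eq_of_deg_le hres θ.2 h (by
    rw [show CT.deg (fun n : N => (χ : G → ℂ) n) = CT.deg (χ : G → ℂ) by simp [CT.deg], hk])
  exact fun n => congrFun this n

/-- Let p be a prime and G a finite group that is not nilpotent and has a normal p-complement (a normal subgroup of order prime to p and index a power of p). If G has exactly one irreducible complex character of degree divisible by p, then G has exactly one conjugacy class whose size is divisible by p. -/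
theorem result {G : Type*} [Group G] [Finite G] (p : ℕ) [Fact p.Prime] (hnil : ¬ Group.IsNilpotent G) (N : Subgroup G) [N.Normal] (hN : (Nat.card N).Coprime p) (hidx : ∃ k : ℕ, N.index = p ^ k) (hone : Nat.card {χ : Cfsg.IrrCharacter G // p ∣ Cfsg.charDegree (χ : G → ℂ)} = 1) : Nat.card {C : ConjClasses G // p ∣ Nat.card C.carrier} = 1 := by
  classical
  haveI := Fintype.ofFinite G
  haveI := Fintype.ofFinite N
  have hp := (Fact.out : p.Prime)
  obtain ⟨hsub, ⟨χ, hχ⟩⟩ := Nat.card_eq_one_iff_unique.mp hone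
  have huniq : ∀ ψ : IrrCharacter G, p ∣ charDegree (ψ : G → ℂ) → ψ = χ := fun ψ hψ =>
    congrArg Subtype.val (@Subsingleton.elim _ hsub ⟨ψ, hψ⟩ ⟨χ, hχ⟩)
  let P : Sylow p G := default
  obtain ⟨k, hk⟩ := hidx
  have hcardP : Nat.card (P : Subgroup G) = p ^ k := by
    rw [P.card_eq_multiplicity]
    congr 1
    rw [← N.card_mul_index, hk, Nat.factorization_mul Nat.card_pos.ne' (pow_ne_zero _ hp.ne_zero),
      Finsupp.add_apply, hp.factorization_pow, Finsupp.single_eq_same,
      Nat.factorization_eq_zero_of_not_dvd (fun hd => hp.not_dvd_one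
        (hN ▸ Nat.dvd_gcd hd (dvd_refl p))), zero_add]
  have hco : (Nat.card (P : Subgroup G)).Coprime (Nat.card N) := by
    rw [hcardP]; exact (Nat.Coprime.pow_right k hN).symm
  have hcomp : N.IsComplement' (P : Subgroup G) := by
    apply Subgroup.isComplement'_of_coprime
    · rw [hcardP, ← hk, N.card_mul_index]
    · exact hco.symm
  have hinf : N ⊓ (P : Subgroup G) = ⊥ := hcomp.disjoint.eq_bot
  -- the Sylow subgroup is commutative
  have hPab : ∀ a b : (P : Subgroup G), a * b = b * a := by
    by_contra hna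
    have hnc : ¬ ∀ a b : G ⧸ N, a * b = b * a := by
      intro hcomm
      refine hna fun a b => Subtype.ext (commutatorElement_eq_one_iff_mul_comm.mp ?_)
      refine Subgroup.mem_bot.mp (hinf ▸ ⟨?_, ?_⟩)
      · refine (QuotientGroup.eq_one_iff _).mp ?_
        rw [commutatorElement_def]
        simp only [QuotientGroup.mk_mul, QuotientGroup.mk_inv]
        rw [hcomm ((a : G) : G ⧸ N) ((b : G) : G ⧸ N)]
        group
      · rw [commutatorElement_def]
        exact (P : Subgroup G).mul_mem ((P : Subgroup G).mul_mem ((P : Subgroup G).mul_mem a.2 b.2)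
          ((P : Subgroup G).inv_mem a.2)) ((P : Subgroup G).inv_mem b.2)
    haveI := Fintype.ofFinite (G ⧸ N)
    obtain ⟨ψ, hψ⟩ : ∃ ψ : IrrCharacter (G ⧸ N), ¬ (ψ : G ⧸ N → ℂ) 1 = 1 := by
      by_contra h
      push Not at h
      exact hnc (CT.comm_iff_all_linear.mpr h)
    let η : IrrCharacter G := ⟨fun g => (ψ : G ⧸ N → ℂ) (QuotientGroup.mk g),
      CT.isIrr_inflate N ψ.2 fun g => rfl⟩
    have hη : η = χ := huniq η (by
      have h1 := Blocks.charDegree_dvd_card ψ
      rw [← Subgroup.index_eq_card, hk] at h1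
      obtain ⟨i, -, hi⟩ := (Nat.dvd_prime_pow hp).mp h1
      show p ∣ charDegree (ψ : G ⧸ N → ℂ)
      rw [hi]
      refine dvd_pow_self p fun e => hψ ?_
      rw [Blocks.charDegree_cast, hi, e, pow_zero, Nat.cast_one])
    have hker : ∀ n : N, (χ : G → ℂ) n = (χ : G → ℂ) 1 := fun n => by
      rw [← hη]
      exact congrArg (ψ : G ⧸ N → ℂ) ((QuotientGroup.eq_one_iff _).mpr n.2)
    have hchi1 : classInner (fun n : N => (χ : G → ℂ) n) (fun _ => (1 : ℂ)) ≠ 0 := by
      rw [classInner, Finset.sum_congr rfl fun n _ => by rw [hker n, map_one, mul_one],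
        Finset.sum_const, Finset.card_univ, nsmul_eq_mul, ← Nat.card_eq_fintype_card,
        inv_mul_cancel_left₀ CT.card_ne_zero]
      exact CT.irr_one_ne_zero χ.2
    have htriv : ∀ θ : IrrCharacter N, ∀ n, (θ : N → ℂ) n = (θ : N → ℂ) 1 := by
      intro θ n
      obtain ⟨ξ, hξ⟩ := CT.exists_irr_over N θ.2
      by_cases hpd : p ∣ charDegree (ξ : G → ℂ)
      · rw [huniq ξ hpd] at hξ
        have hres := CT.isCharacter_restrict N (CT.isCharacter_of_isIrr χ.2)
        by_contra hne
        refine hξ ?_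
        rw [show (fun n : N => (χ : G → ℂ) n) = (χ : G → ℂ) 1 • (fun _ => (1 : ℂ)) from
          funext fun n => by simp [hker n], CT.classInner_smul_left,
          CT.irr_inner_of_ne CT.isIrrCharacter_one θ.2 (fun e => hne (by rw [← e])), mul_zero]
      · have hext := restrict_irr hp N ⟨k, hk⟩ ξ hpd θ hξ
        have hirr : IsIrrCharacter G ((χ : G → ℂ) * (ξ : G → ℂ)) :=
          CT.isIrr_of_inner_self (CT.isCharacter_mul (CT.isCharacter_of_isIrr χ.2)
            (CT.isCharacter_of_isIrr ξ.2))
            (by rw [CoprimeExt.inner_mul_ext N ξ θ hext χ χ hchi1 hchi1, if_pos rfl])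
        have he := huniq ⟨_, hirr⟩ (by
          show p ∣ charDegree ((χ : G → ℂ) * (ξ : G → ℂ))
          have : charDegree ((χ : G → ℂ) * (ξ : G → ℂ)) =
              charDegree (χ : G → ℂ) * charDegree (ξ : G → ℂ) := by
            show ⌊((χ : G → ℂ) 1 * (ξ : G → ℂ) 1).re⌋₊ = _
            rw [Blocks.charDegree_cast, Blocks.charDegree_cast, ← Nat.cast_mul, Complex.natCast_re,
              Nat.floor_natCast]
          rw [this]
          exact dvd_mul_of_dvd_left hχ _)
        have h0 := CT.irr_one_ne_zero χ.2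
        have e1 := congrFun (congrArg Subtype.val he) (n : G)
        have e2 := congrFun (congrArg Subtype.val he) 1
        simp only [Pi.mul_apply] at e1 e2
        rw [hker n, hext n] at e1
        rw [← OneMemClass.coe_one N, hext 1, OneMemClass.coe_one] at e2
        exact mul_left_cancel₀ h0 (e1.trans e2.symm)
    have hNbot : N = ⊥ := by
      rw [Subgroup.eq_bot_iff_forall]
      intro x hx
      exact congrArg Subtype.val
        (isConj_one_left.mp (CT.isConj_iff_forall_irr.mpr fun θ => htriv θ ⟨x, hx⟩) : (⟨x, hx⟩ : N) = 1)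
    refine hnil (IsPGroup.isNilpotent (p := p) (IsPGroup.of_card (n := k) ?_))
    rw [← hk, hNbot, Subgroup.index_bot]
  -- the conjugation action
  have hnorm : ∀ s ∈ (P : Subgroup G), ∀ g ∈ N, s * g * s⁻¹ ∈ N := fun s _ g hg =>
    ‹N.Normal›.conj_mem g hg s
  let φ := Glauberman.conjAct N (P : Subgroup G) hnorm
  haveI := P.isPGroup'.isNilpotent
  have hsolv : Group.IsSolvable (P : Subgroup G) := inferInstance
  haveI := Fintype.ofFinite (Glauberman.fixedPts φ)
  -- characters of degree prime to `p`
  let Inv' := {θ : IrrCharacter N // Glauberman.Inv φ (θ : N → ℂ)}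
  haveI := Fintype.ofFinite Inv'
  have hirr : Nat.card (IrrCharacter G) ≤
      1 + Nat.card (P : Subgroup G) * Nat.card (ConjClasses (Glauberman.fixedPts φ)) := by
    rw [← CT.card_irr_eq_card_conjClasses, ← Glauberman.card_inv_eq φ hsolv hco]
    have hc : ∀ ξ : {ξ : IrrCharacter G // ¬ p ∣ charDegree (ξ : G → ℂ)}, ∃ θ : Inv',
        ∀ n : N, (ξ.1 : G → ℂ) n = (θ.1 : N → ℂ) n := by
      intro ξ
      obtain ⟨θ, hθ⟩ := CT.exists_constituent_restrict N ξ.1.2
      have h := restrict_irr hp N ⟨k, hk⟩ ξ.1 ξ.2 θ hθ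
      refine ⟨⟨θ, fun a n => ?_⟩, h⟩
      rw [← h, ← h]
      exact CT.isClassFunction_of_isIrr ξ.1.2 (n : G) (a : G)
    choose c hc using hc
    have hfib : ∀ θ : Inv',
        (Finset.univ.filter fun ξ => c ξ = θ).card ≤ Nat.card (P : Subgroup G) := by
      intro θ
      have hind := CT.isCharacter_indFun N (CT.isCharacter_of_isIrr θ.1.2)
      have h1 := congrFun (CT.character_eq_sum hind) 1
      rw [CT.indFun_one_eval, Finset.sum_apply] at h1
      simp only [Pi.smul_apply, smul_eq_mul, Blocks.charDegree_cast] at h1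
      have h1' : N.index * charDegree (θ.1 : N → ℂ) = ∑ η : IrrCharacter G,
          CT.mult (indFun N (θ.1 : N → ℂ)) η * charDegree (η : G → ℂ) := by exact_mod_cast h1
      have hterm : ∀ ξ ∈ Finset.univ.filter (fun ξ => c ξ = θ), charDegree (θ.1 : N → ℂ) ≤
          CT.mult (indFun N (θ.1 : N → ℂ)) ξ.1 * charDegree (ξ.1 : G → ℂ) := by
        intro ξ hξ
        have hcθ := (Finset.mem_filter.mp hξ).2
        have hd : charDegree (ξ.1 : G → ℂ) = charDegree (θ.1 : N → ℂ) := by
          have := hc ξ 1
          rw [hcθ, OneMemClass.coe_one, Blocks.charDegree_cast, Blocks.charDegree_cast] at this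
          exact_mod_cast this
        have hm : CT.mult (indFun N (θ.1 : N → ℂ)) ξ.1 ≠ 0 := fun e => by
          have := CT.mult_spec hind (CT.isCharacter_of_isIrr ξ.1.2)
          rw [e, Nat.cast_zero, CT.frobenius_reciprocity N _ (CT.isClassFunction_of_isIrr ξ.1.2),
            show (fun n : N => (ξ.1 : G → ℂ) n) = (θ.1 : N → ℂ) from funext fun n => hcθ ▸ hc ξ n,
            CT.irr_inner_self θ.1.2] at this
          exact one_ne_zero this
        rw [hd]
        exact Nat.le_mul_of_pos_left _ (Nat.pos_of_ne_zero hm)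
      have hle := Finset.card_nsmul_le_sum _ _ _ hterm
      rw [smul_eq_mul] at hle
      have hsub : ∑ ξ ∈ Finset.univ.filter (fun ξ => c ξ = θ),
          CT.mult (indFun N (θ.1 : N → ℂ)) ξ.1 * charDegree (ξ.1 : G → ℂ) ≤
            N.index * charDegree (θ.1 : N → ℂ) := by
        rw [h1']
        refine le_trans (le_of_eq (Finset.sum_map (Finset.univ.filter fun ξ => c ξ = θ)
          (Function.Embedding.subtype _) (fun η : IrrCharacter G =>
          CT.mult (indFun N (θ.1 : N → ℂ)) η * charDegree (η : G → ℂ))).symm) ?_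
        exact Finset.sum_le_sum_of_subset (Finset.subset_univ _)
      rw [hcardP, ← hk]
      exact Nat.le_of_mul_le_mul_right (hle.trans hsub) (Blocks.charDegree_pos θ.1)
    have hsplit : Nat.card (IrrCharacter G) =
        Nat.card {ξ : IrrCharacter G // p ∣ charDegree (ξ : G → ℂ)} +
          Nat.card {ξ : IrrCharacter G // ¬ p ∣ charDegree (ξ : G → ℂ)} := by
      rw [← Nat.card_sum]; exact Nat.card_congr (Equiv.sumCompl _).symm
    rw [hsplit, hone, Nat.card_eq_fintype_card (α := {ξ : IrrCharacter G // _}), ← Finset.card_univ]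
    refine Nat.add_le_add_left ((Finset.card_le_mul_card_image Finset.univ _ fun θ _ => hfib θ).trans
      (Nat.mul_le_mul_left _ ?_)) 1
    rw [Nat.card_eq_fintype_card (α := Inv')]
    exact Finset.card_le_univ _
  -- classes of size prime to `p`
  have hclass : ∀ g : G, Nat.card (ConjClasses.mk g).carrier =
      (Subgroup.centralizer ({g} : Set G)).index := fun g => by
    rw [← CT.card_conj_class g]
    exact Nat.card_congr (Equiv.subtypeEquivRight fun x => by
      rw [ConjClasses.mem_carrier_iff_mk_eq, ConjClasses.mk_eq_mk_iff_isConj]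
      exact isConj_comm)
  have hlow : Nat.card (P : Subgroup G) * Nat.card (ConjClasses (Glauberman.fixedPts φ)) ≤
      Nat.card {C : ConjClasses G // ¬ p ∣ Nat.card C.carrier} := by
    rw [← Nat.card_prod]
    have hcm : ∀ (x : (P : Subgroup G)) (c : Glauberman.fixedPts φ),
        Commute (x : G) ((c : N) : G) := fun x c => by
      have h := (Glauberman.mem_fixedPts_conjAct N (P : Subgroup G) hnorm).mp c.2
      exact Subgroup.mem_centralizer_iff.mp h _ x.2
    have hnd : ∀ (x : (P : Subgroup G)) (c : Glauberman.fixedPts φ),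
        ¬ p ∣ Nat.card (ConjClasses.mk ((x : G) * ((c : N) : G))).carrier := by
      intro x c
      rw [hclass]
      have hle : (P : Subgroup G) ≤ Subgroup.centralizer ({(x : G) * ((c : N) : G)} : Set G) := by
        intro y hy
        rw [Subgroup.mem_centralizer_singleton_iff]
        have e1 : Commute y (x : G) := congrArg Subtype.val (hPab ⟨y, hy⟩ x)
        exact (e1.mul_right (hcm ⟨y, hy⟩ c)).eq
      exact fun hd => P.not_dvd_index (hd.trans (Subgroup.index_dvd_of_le hle))
    let g : ↥(P : Subgroup G) → Glauberman.fixedPts φ → G := fun x c => (x : G) * ((c : N) : G)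
    refine Nat.card_le_card_of_injective (fun xc : ↥(P : Subgroup G) × ConjClasses (Glauberman.fixedPts φ) =>
      (⟨ConjClasses.mk (g xc.1 (Quotient.out xc.2)), hnd _ _⟩ :
        {C : ConjClasses G // ¬ p ∣ Nat.card C.carrier})) ?_
    rintro ⟨x, C⟩ ⟨x', C'⟩ h
    have h' := ConjClasses.mk_eq_mk_iff_isConj.mp (congrArg Subtype.val h)
    simp only [g] at h'
    obtain ⟨u, hu⟩ := isConj_iff.mp h'
    obtain ⟨⟨⟨n, hn⟩, ⟨y, hy⟩⟩, hny, -⟩ := hcomp.existsUnique u
    simp only at hny
    have hn' : n * ((x : G) * ((Quotient.out C : Glauberman.fixedPts φ) : N).1) * n⁻¹ =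
        (x' : G) * ((Quotient.out C' : Glauberman.fixedPts φ) : N).1 := by
      have e1 : Commute y (x : G) := congrArg Subtype.val (hPab ⟨y, hy⟩ x)
      have e2 := (e1.mul_right (hcm ⟨y, hy⟩ (Quotient.out C))).eq
      rw [← hny] at hu
      rw [← hu, mul_inv_rev, mul_assoc n y, e2]
      group
    have hxx : x = x' := by
      have e := congrArg (QuotientGroup.mk (s := N)) hn'
      simp only [QuotientGroup.mk_mul, QuotientGroup.mk_inv, (QuotientGroup.eq_one_iff n).mpr hn,
        one_mul, inv_one, mul_one,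
        (QuotientGroup.eq_one_iff _).mpr ((Quotient.out C : Glauberman.fixedPts φ) : N).2,
        (QuotientGroup.eq_one_iff _).mpr ((Quotient.out C' : Glauberman.fixedPts φ) : N).2] at e
      have hm : (x : G)⁻¹ * x' ∈ N ⊓ (P : Subgroup G) :=
        ⟨QuotientGroup.eq.mp e, (P : Subgroup G).mul_mem ((P : Subgroup G).inv_mem x.2) x'.2⟩
      rw [hinf, Subgroup.mem_bot] at hm
      exact Subtype.ext (inv_mul_eq_one.mp hm)
    subst hxx
    obtain ⟨e, he1, he2⟩ := Nat.chineseRemainder hco 0 1
    have hpow : ∀ c : Glauberman.fixedPts φ, ((x : G) * ((c : N) : G)) ^ e = ((c : N) : G) := by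
      intro c
      rw [(hcm x c).mul_pow]
      have a1 : (x : G) ^ e = 1 := by
        have := pow_mod_natCard x e
        rw [show e % Nat.card (P : Subgroup G) = 0 by rw [show e % Nat.card (P : Subgroup G) = 0 % Nat.card (P : Subgroup G) from he1, Nat.zero_mod],
          pow_zero] at this
        exact congrArg Subtype.val this.symm
      have a2 : (c : N) ^ e = (c : N) := by
        rw [← pow_mod_natCard, show e % Nat.card N = 1 % Nat.card N from he2, pow_mod_natCard, pow_one]
      rw [a1, one_mul]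
      exact congrArg Subtype.val a2
    have hc := congrArg (· ^ e) hn'
    simp only [conj_pow, hpow] at hc
    refine Prod.ext rfl ?_
    rw [← Quotient.out_eq C, ← Quotient.out_eq C']
    exact ConjClasses.mk_eq_mk_iff_isConj.mpr (Glauberman.fusion_solvable φ hsolv hco
      (isConj_iff.mpr ⟨⟨n, hn⟩, Subtype.ext hc⟩))
  have hsplit : Nat.card (ConjClasses G) =
      Nat.card {C : ConjClasses G // p ∣ Nat.card C.carrier} +
        Nat.card {C : ConjClasses G // ¬ p ∣ Nat.card C.carrier} := by
    rw [← Nat.card_sum]; exact Nat.card_congr (Equiv.sumCompl _).symm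
  rw [CT.card_irr_eq_card_conjClasses, hsplit] at hirr
  -- some class has size divisible by `p`
  have hpos : 0 < Nat.card {C : ConjClasses G // p ∣ Nat.card C.carrier} := by
    by_contra h0
    have hall : ∀ g : G, ∃ x : G, x * g * x⁻¹ ∈ Subgroup.centralizer ((P : Subgroup G) : Set G) := by
      intro g
      have hnd : ¬ p ∣ (Subgroup.centralizer ({g} : Set G)).index := fun hd => h0 (by
        haveI : Nonempty {C : ConjClasses G // p ∣ Nat.card C.carrier} :=
          ⟨⟨ConjClasses.mk g, (hclass g).symm ▸ hd⟩⟩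
        exact Nat.card_pos)
      obtain ⟨Q⟩ : Nonempty (Sylow p (Subgroup.centralizer ({g} : Set G))) := inferInstance
      let Q' := (Q : Subgroup (Subgroup.centralizer ({g} : Set G))).map
        (Subgroup.centralizer ({g} : Set G)).subtype
      have hQ' : ¬ p ∣ Q'.index := by
        rw [Subgroup.index_map_subtype]
        exact Nat.Prime.not_dvd_mul hp Q.not_dvd_index hnd
      let S : Sylow p G := (Q.isPGroup'.map _ : IsPGroup p Q').toSylow hQ'
      obtain ⟨x, hx⟩ := MulAction.exists_smul_eq G S P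
      refine ⟨x, Subgroup.mem_centralizer_iff.mpr fun y hy => ?_⟩
      rw [← hx, Sylow.coe_subgroup_smul] at hy
      obtain ⟨z, hz, rfl⟩ := hy
      obtain ⟨w, -, rfl⟩ : z ∈ Q' := hz
      have hw : (w : G) * g = g * (w : G) := Subgroup.mem_centralizer_singleton_iff.mp w.2
      show x * (w : G) * x⁻¹ * (x * g * x⁻¹) = x * g * x⁻¹ * (x * (w : G) * x⁻¹)
      calc x * (w : G) * x⁻¹ * (x * g * x⁻¹) = x * ((w : G) * g) * x⁻¹ := by group
        _ = x * (g * (w : G)) * x⁻¹ := by rw [hw]
        _ = _ := by group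
    have htop := FGB.eq_top_of_conj_cover hall
    haveI : (P : Subgroup G).Normal := ⟨fun y hy g => by
      have hg : g ∈ Subgroup.centralizer ((P : Subgroup G) : Set G) := htop ▸ trivial
      rwa [← Subgroup.mem_centralizer_iff.mp hg y hy, mul_inv_cancel_right]⟩
    haveI := Fintype.ofFinite (P : Subgroup G)
    exact P.not_dvd_index ((deg_cast χ ▸ hχ).trans
      (CT.deg_dvd_index_of_comm (P : Subgroup G) χ.2 hPab))
  omega

end Cfsg.Agent.S4763
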