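import Cfsg.Statements.S4765
import Cfsg.Agent.Lib.SL2.Degrees

set_option autoImplicit false
set_option linter.all false
open Cfsg

namespace Cfsg.Agent.S4765

/-- Let F be a finite field of characteristic p with at least 4 elements. Then PSL(2,F) has exactly one irreducible complex character of degree divisible by p, and its degree is the order of F. -/
theorem result (p : ℕ) [Fact p.Prime] (F : Type*) [Field F] [Fintype F] [CharP F p] (hF : 4 ≤ Fintype.card F) : Nat.card {χ : Cfsg.IrrCharacter (Matrix.ProjectiveSpecialLinearGroup (Fin 2) F) // p ∣ Cfsg.charDegree (χ : Matrix.ProjectiveSpecialLinearGroup (Fin 2) F → ℂ)} = 1 ∧ ∀ χ : Cfsg.IrrCharacter (Matrix.ProjectiveSpecialLinearGroup (Fin 2) F), p ∣ Cfsg.charDegree (χ : Matrix.ProjectiveSpecialLinearGroup (Fin 2) F → ℂ) → Cfsg.charDegree (χ : Matrix.ProjectiveSpecialLinearGroup (Fin 2) F → ℂ) = Fintype.card F := by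
  classical
  have hp : p.Prime := Fact.out
  have hqp : p ∣ Fintype.card F := by
    obtain ⟨n, -, hn⟩ := FiniteField.card F p
    rw [hn]; exact dvd_pow_self p n.ne_zero
  obtain ⟨S0, hS0⟩ : ∃ S0 : Matrix.SpecialLinearGroup (Fin 2) F → ℂ,
      (∀ χ : Cfsg.IrrCharacter (Matrix.SpecialLinearGroup (Fin 2) F),
        p ∣ Cfsg.charDegree (χ : Matrix.SpecialLinearGroup (Fin 2) F → ℂ) →
          (χ : Matrix.SpecialLinearGroup (Fin 2) F → ℂ) = S0 ∧
            Cfsg.charDegree (χ : Matrix.SpecialLinearGroup (Fin 2) F → ℂ) = Fintype.card F) := by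
    rcases Nat.even_or_odd (Fintype.card F) with he | ho
    · have h2 : (2 : F) = 0 := by
        have hr : ringChar F = 2 := FiniteField.even_card_iff_char_two.2 (Nat.even_iff.1 he)
        haveI : CharP F 2 := hr ▸ ringChar.charP F
        exact CharTwo.two_eq_zero
      refine ⟨_, fun χ hχ => SL2.char_st_even h2 χ ?_⟩
      have hp2 : p = 2 := by
        exact ((CharP.cast_eq_zero_iff F p 2).1 (by exact_mod_cast h2)) |> (Nat.prime_dvd_prime_iff_eq hp Nat.prime_two).1
      exact even_iff_two_dvd.2 (hp2 ▸ hχ)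
    · refine ⟨SL2.st, fun χ hχ => ?_⟩
      have key : ¬ p ∣ 1 := hp.not_dvd_one
      rcases SL2.deg_cases_odd ho χ with h | h | h | h | h | h
      · exact ⟨h, by rw [h, SL2.charDegree_st]⟩
      · rw [h] at hχ; exact absurd hχ key
      · rw [h] at hχ; exact absurd ((Nat.dvd_add_right hqp).1 hχ) key
      · rw [← h] at hqp; exact absurd ((Nat.dvd_add_right hχ).1 hqp) key
      · exact absurd ((Nat.dvd_add_right hqp).1 (h ▸ hχ.mul_left 2)) key
      · rw [← h] at hqp; exact absurd ((Nat.dvd_add_right (hχ.mul_left 2)).1 hqp) key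
  have hdeg : ∀ ψ : Cfsg.IrrCharacter (Matrix.ProjectiveSpecialLinearGroup (Fin 2) F),
      p ∣ Cfsg.charDegree (ψ : Matrix.ProjectiveSpecialLinearGroup (Fin 2) F → ℂ) →
      (∀ g, (ψ : Matrix.ProjectiveSpecialLinearGroup (Fin 2) F → ℂ) (QuotientGroup.mk g) = S0 g) ∧
        Cfsg.charDegree (ψ : Matrix.ProjectiveSpecialLinearGroup (Fin 2) F → ℂ) = Fintype.card F := by
    intro ψ hψ
    obtain ⟨χ, hχ⟩ := SL2.deg_inflate ψ
    have e : Cfsg.charDegree (χ : Matrix.SpecialLinearGroup (Fin 2) F → ℂ) =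
        Cfsg.charDegree (ψ : Matrix.ProjectiveSpecialLinearGroup (Fin 2) F → ℂ) := by
      rw [hχ]; rfl
    obtain ⟨h1, h2⟩ := hS0 χ (e ▸ hψ)
    exact ⟨fun g => by rw [← h1, hχ], e ▸ h2⟩
  refine ⟨Nat.card_eq_one_iff_unique.2 ⟨⟨fun a b => ?_⟩, ?_⟩, fun ψ hψ => (hdeg ψ hψ).2⟩
  · refine Subtype.ext (Subtype.ext (funext fun x => ?_))
    obtain ⟨g, rfl⟩ := QuotientGroup.mk_surjective x
    rw [(hdeg _ a.2).1, (hdeg _ b.2).1]
  · have hmem : Fintype.card F ∈ Cfsg.charDegrees (Matrix.ProjectiveSpecialLinearGroup (Fin 2) F) := by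
      rcases Nat.even_or_odd (Fintype.card F) with he | ho
      · have hr : ringChar F = 2 := FiniteField.even_card_iff_char_two.2 (Nat.even_iff.1 he)
        haveI : CharP F 2 := hr ▸ ringChar.charP F
        exact (SL2.degrees_even CharTwo.two_eq_zero hF).2.1
      · obtain ⟨ψ, hψ, -⟩ := SL2.mem_charDegrees_psl (χ := ⟨SL2.st, SL2.isIrr_st ho⟩)
          (by show SL2.st (-1) = SL2.st 1; rw [SL2.st_neg_one, SL2.st_one])
        exact ⟨ψ, by rw [hψ, SL2.charDegree_st]⟩
    obtain ⟨ψ, hψ⟩ := hmem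
    exact ⟨⟨ψ, hψ.symm ▸ hqp⟩⟩

end Cfsg.Agent.S4765
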