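import Cfsg.Statements.S4768
import Cfsg.Agent.Lib.CT.ItoMichlerPSolv
import Cfsg.Agent.Lib.CT.GaloisTwist
import Cfsg.Agent.Lib.CT.Clifford
import Cfsg.Agent.Lib.CT.Kernel
import Cfsg.Agent.Lib.Coprime23.PSolv
import Cfsg.Agent.Lib.Transfer.SL2Props
import Cfsg.Agent.Lib.Basics.Cores
import Cfsg.Agent.Lib.Basics.Tools
import Cfsg.Agent.Lib.Basics.AbelianClassTwo
import Cfsg.Agent.Lib.CoprimeExt.CoprimeDegree

set_option autoImplicit false
set_option linter.all false
set_option maxHeartbeats 800000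
open Cfsg

namespace Cfsg.Agent.S4768

open Cfsg.Agent
open scoped Classical commutatorElement

universe u

variable {p : ℕ} [hp : Fact p.Prime]

/-- Degrees prime to `p` over every nontrivial linear character of an abelian normal `p`-subgroup
force the derived group of a Sylow subgroup into it. -/
theorem derived_le {G : Type u} [Group G] [Finite G] (hsol : IsPSolvable p G) (N : Subgroup G)
    [hN : N.Normal] (hNp : IsPGroup p N) (hNb : N ≠ ⊥) (hab : ∀ a b : N, a * b = b * a)
    (hdeg : ∀ χ : IrrCharacter G, (∃ n ∈ N, (χ : G → ℂ) n ≠ (χ : G → ℂ) 1) →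
      ¬ p ∣ CT.deg (χ : G → ℂ))
    (P : Sylow p G) : ∀ a ∈ (P : Subgroup G), ∀ b ∈ (P : Subgroup G), a * b * a⁻¹ * b⁻¹ ∈ N := by
  haveI := Fintype.ofFinite G
  haveI := Fintype.ofFinite N
  -- a nontrivial linear character
  obtain ⟨n₀, hn₀⟩ : ∃ n₀ : N, n₀ ≠ 1 := by
    haveI : Nontrivial N := (Subgroup.nontrivial_iff_ne_bot N).mpr hNb
    exact exists_ne 1
  obtain ⟨θ, -, hθn⟩ : ∃ θ : IrrCharacter N, True ∧ (θ : N → ℂ) n₀ ≠ (θ : N → ℂ) 1 := by
    by_contra hcon
    push Not at hcon
    have := (CT.isConj_iff_forall_irr (g := n₀) (h := 1)).mpr fun θ => hcon θ trivial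
    exact hn₀ (isConj_one_left.mp this)
  have hθ1 : (θ : N → ℂ) 1 = 1 := CT.irr_degree_one_of_comm hab θ.2
  obtain ⟨lam, hlam⟩ := CT.exists_hom_of_degree_one (CT.isCharacter_of_isIrr θ.2) hθ1
  have hθd : CT.deg (θ : N → ℂ) = 1 := by simp [CT.deg, hθ1]
  -- a character over it and the inertia group
  obtain ⟨χ, hχ⟩ := CT.exists_irr_over N θ.2
  have hχc := CT.isCharacter_of_isIrr χ.2
  have hkey : ∀ η : IrrCharacter G, classInner (fun n : N => (η : G → ℂ) n) (θ : N → ℂ) ≠ 0 →
      ¬ p ∣ CT.deg (η : G → ℂ) := by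
    intro η hη
    refine hdeg η ?_
    by_contra hcon
    push Not at hcon
    apply hη
    rw [show (fun n : N => (η : G → ℂ) n) =
      (η : G → ℂ) 1 • ((CT.trivIrr N : IrrCharacter N) : N → ℂ) from
      funext fun n => by simp [hcon n n.2], CT.classInner_smul_left,
      CT.irr_inner_of_ne (CT.trivIrr N).2 θ.2 (fun e => hθn (by rw [← e]; rfl)), mul_zero]
  set T := CT.inertia N (θ : N → ℂ) with hT
  have hNT : N ≤ T := CT.le_inertia N (CT.isClassFunction_of_isIrr θ.2)
  haveI := Fintype.ofFinite T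
  obtain ⟨ψ, hψ, hψind, hψres⟩ := CT.exists_correspondent N θ.2 T hT hNT χ.2 hχ
  have hψover : classInner (CT.resTo N T hNT ψ) (θ : N → ℂ) ≠ 0 := hψres ▸ hχ
  have hψc := CT.isCharacter_of_isIrr hψ
  have hχdeg : CT.deg (χ : G → ℂ) = T.index * CT.deg ψ := by
    have h := CT.deg_eq hχc
    rw [← hψind, CT.indFun_one_eval, CT.deg_eq hψc] at h
    rw [← hψind]
    exact_mod_cast h.symm
  have hTp : ¬ p ∣ T.index := fun h => hkey χ hχ (hχdeg ▸ h.mul_right _)
  have hψp : ¬ p ∣ CT.deg ψ := fun h => hkey χ hχ (hχdeg ▸ h.mul_left _)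
  -- an extension of the linear character
  have hsm := CT.resTo_eq_smul N θ.2 T hT hNT hψ hψover
  obtain ⟨d, ρ, hρirr, hρ⟩ := hψ
  have hdψ : CT.deg ψ = d := by rw [← hρ, CT.deg_eq_finrank]; simp
  have hval : ∀ n : N, ψ ⟨n, hNT n.2⟩ = (d : ℂ) * (lam n : ℂ) := by
    intro n
    have e1 := congrFun hsm n
    have e2 := congrFun hsm 1
    simp only [Pi.smul_apply, smul_eq_mul, hlam, map_one, Units.val_one, mul_one] at e1 e2
    rw [← e2] at e1
    have e3 : CT.resTo N T hNT ψ 1 = (d : ℂ) := by
      show ψ 1 = _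
      rw [CT.deg_eq hψc, hdψ]
    rw [e3] at e1
    exact e1
  let ρN : Representation ℂ N (Fin d → ℂ) := ρ.comp (Subgroup.inclusion hNT)
  let σN : Representation ℂ N (Fin d → ℂ) :=
    { toFun := fun n => (lam n : ℂ) • (1 : Module.End ℂ (Fin d → ℂ))
      map_one' := by simp
      map_mul' := fun a b => by rw [map_mul, Units.val_mul, smul_mul_smul_comm, mul_one] }
  have hdet : ∀ n : N, CoprimeExt.detHom ρ ⟨n, hNT n.2⟩ = lam n ^ d := by
    intro n
    have hchar : ρN.character = σN.character := by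
      funext m
      show ρ.character ⟨m, hNT m.2⟩ = LinearMap.trace ℂ _ ((lam m : ℂ) • (1 : Module.End ℂ (Fin d → ℂ)))
      rw [hρ, hval, map_smul, Module.End.one_eq_id, LinearMap.trace_id, Module.finrank_fin_fun,
        smul_eq_mul, mul_comm]
    have h1 := CoprimeExt.detChar_eq ρN
    rw [hchar, CoprimeExt.detChar_eq σN] at h1
    refine Units.ext ?_
    have h2 := congrFun h1 n
    rw [CoprimeExt.detHom_apply, CoprimeExt.detHom_apply] at h2
    rw [CoprimeExt.detHom_apply, Units.val_pow_eq_pow_val]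
    refine h2.symm.trans ?_
    show LinearMap.det ((lam n : ℂ) • (1 : Module.End ℂ (Fin d → ℂ))) = _
    rw [LinearMap.det_smul, Module.finrank_fin_fun, map_one, mul_one]
  obtain ⟨b, hb⟩ := hNp.exists_card_eq
  obtain ⟨e, he⟩ := Nat.exists_mul_mod_eq_one_of_coprime
    (((hp.out.coprime_iff_not_dvd.mpr (hdψ ▸ hψp)).pow_left (b + 1)).symm)
    (Nat.one_lt_pow b.succ_ne_zero hp.out.one_lt)
  let μ : T →* ℂˣ := CoprimeExt.detHom ρ ^ e
  have hμ : ∀ n : N, μ ⟨n, hNT n.2⟩ = lam n := by
    intro n
    have h1 : lam n ^ p ^ (b + 1) = 1 := by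
      rw [pow_succ, pow_mul, ← map_pow, ← hb, pow_card_eq_one', map_one, one_pow]
    show CoprimeExt.detHom ρ ⟨n, hNT n.2⟩ ^ e = lam n
    rw [hdet, ← pow_mul, pow_eq_pow_mod (d * e) h1, he.2, pow_one]
  -- the quotient of the inertia group has all degrees prime to `p`
  let NT : Subgroup T := N.subgroupOf T
  haveI : NT.Normal := Subgroup.normal_subgroupOf
  have hquot : ∀ η : IrrCharacter (T ⧸ NT), ¬ p ∣ CT.deg (η : T ⧸ NT → ℂ) := by
    intro η hd
    obtain ⟨c, τ, hτ, hτη⟩ := η.2
    let τT : Representation ℂ T (Fin c → ℂ) := τ.comp (QuotientGroup.mk' NT)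
    haveI : τT.IsIrreducible := CT.isIrreducible_of_isIrrCharacter τT
      (CT.isIrrCharacter_comp (QuotientGroup.mk' NT) (QuotientGroup.mk'_surjective NT)
        (CT.isIrrCharacter_character τ))
    have hirr := CT.GaloisTwist.isIrr_twist μ τT
    set ψ' := (CT.GaloisTwist.twist μ τT).character with hψ'
    have hψ'v : ∀ t : T, ψ' t = (μ t : ℂ) * (η : T ⧸ NT → ℂ) (QuotientGroup.mk t) := by
      intro t
      rw [hψ', CT.GaloisTwist.twist_char, ← hτη]
      rfl
    have hη1 : (η : T ⧸ NT → ℂ) 1 = (CT.deg (η : T ⧸ NT → ℂ) : ℂ) :=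
      CT.deg_eq (CT.isCharacter_of_isIrr η.2)
    have hres' : CT.resTo N T hNT ψ' = (CT.deg (η : T ⧸ NT → ℂ) : ℂ) • (θ : N → ℂ) := by
      funext n
      show ψ' ⟨n, hNT n.2⟩ = _
      rw [hψ'v, hμ, Pi.smul_apply, smul_eq_mul, hlam,
        (QuotientGroup.eq_one_iff (N := NT) (⟨n, hNT n.2⟩ : T)).mpr n.2, hη1, mul_comm]
    have hover : classInner (CT.resTo N T hNT ψ') (θ : N → ℂ) ≠ 0 := by
      rw [hres', CT.classInner_smul_left, CT.irr_inner_self θ.2, mul_one]
      exact_mod_cast (CT.deg_pos η.2).ne'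
    have hI := CT.isIrr_indFun_of_over N θ.2 T hT hNT hirr hover
    have hIc := CT.isCharacter_of_isIrr hI
    have hψ'c := CT.isCharacter_of_isIrr hirr
    -- the induced character lies over the linear character
    have hcon : classInner (fun n : N => indFun T ψ' n) (θ : N → ℂ) ≠ 0 := by
      have h1 : classInner (fun t : T => indFun T ψ' t) ψ' ≠ 0 := by
        rw [CT.classInner_comm_of_char (CT.isCharacter_restrict T hIc) hψ'c,
          ← CT.frobenius_reciprocity T ψ' (CT.isClassFunction_of_isIrr hI), CT.irr_inner_self hI]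
        exact one_ne_zero
      have hm : CT.mult (fun t : T => indFun T ψ' t) ψ' ≠ 0 := fun h0 => h1 (by
        rw [CT.mult_spec (CT.isCharacter_restrict T hIc) hψ'c, h0, Nat.cast_zero])
      have hm' : CT.mult (CT.resTo N T hNT ψ') (θ : N → ℂ) ≠ 0 := fun h0 => hover (by
        rw [CT.mult_spec (CT.isCharacter_resTo N T hNT hψ'c) (CT.isCharacter_of_isIrr θ.2), h0,
          Nat.cast_zero])
      rw [CT.mult_spec (CT.isCharacter_restrict N hIc) (CT.isCharacter_of_isIrr θ.2), Nat.cast_ne_zero,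
        CT.sum_mult_over N θ.2 T hNT hIc]
      refine (lt_of_lt_of_le ?_ (Finset.single_le_sum (f := fun c : IrrCharacter T =>
        CT.mult (fun t : T => indFun T ψ' t) c * CT.mult (CT.resTo N T hNT c) (θ : N → ℂ))
        (fun _ _ => Nat.zero_le _) (Finset.mem_univ (⟨ψ', hirr⟩ : IrrCharacter T)))).ne'
      exact Nat.pos_of_ne_zero (mul_ne_zero hm hm')
    refine hkey ⟨_, hI⟩ hcon ?_
    have e1 : CT.deg (indFun T ψ') = T.index * CT.deg (η : T ⧸ NT → ℂ) := by
      have h := CT.deg_eq hIc
      rw [CT.indFun_one_eval, hψ'v, map_one, Units.val_one, one_mul, QuotientGroup.mk_one, hη1] at h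
      exact_mod_cast h.symm
    show p ∣ CT.deg (indFun T ψ')
    rw [e1]
    exact hd.mul_left _
  -- a Sylow subgroup inside the inertia group
  obtain ⟨Q⟩ : Nonempty (Sylow p T) := inferInstance
  have hsolT := Coprime23.isPSolvable_map (QuotientGroup.mk' NT) (QuotientGroup.mk'_surjective NT)
    (Transfer.isPSolvable_subgroup' hsol T)
  let Qb := Q.mapSurjective (QuotientGroup.mk'_surjective NT)
  haveI := ItoMichler.sylow_normal _ (T ⧸ NT) rfl hsolT hquot Qb
  have hQab := ItoMichler.sylow_comm Qb hquot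
  have hcQ : ∀ a ∈ (Q : Subgroup T), ∀ c ∈ (Q : Subgroup T), a * c * a⁻¹ * c⁻¹ ∈ NT := by
    intro a ha c hc
    rw [← QuotientGroup.eq_one_iff]
    have hcomm : QuotientGroup.mk' NT a * QuotientGroup.mk' NT c =
        QuotientGroup.mk' NT c * QuotientGroup.mk' NT a :=
      congrArg Subtype.val (hQab.is_comm.comm
        (⟨_, Subgroup.mem_map_of_mem _ ha⟩ : (Qb : Subgroup (T ⧸ NT)))
        ⟨_, Subgroup.mem_map_of_mem _ hc⟩)
    show QuotientGroup.mk' NT (a * c * a⁻¹ * c⁻¹) = 1
    rw [map_mul, map_mul, map_mul, hcomm, map_inv, map_inv, mul_inv_cancel_right, mul_inv_cancel]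
  obtain ⟨Q', hQ'⟩ := (Q.isPGroup'.map T.subtype).exists_le_sylow
  have hQQ' : (Q : Subgroup T).map T.subtype = (Q' : Subgroup G) := by
    refine Subgroup.eq_of_le_of_card_ge hQ' ?_
    rw [Subgroup.card_map_of_injective T.subtype_injective, Q.card_eq_multiplicity,
      Q'.card_eq_multiplicity]
    refine Nat.pow_le_pow_right hp.out.pos ?_
    rw [← T.card_mul_index, Nat.factorization_mul Nat.card_pos.ne' Subgroup.index_ne_zero_of_finite,
      Finsupp.add_apply, Nat.factorization_eq_zero_of_not_dvd hTp, add_zero]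
  obtain ⟨g, hg⟩ := MulAction.exists_smul_eq G Q' P
  intro a ha c hc
  have hmem : ∀ z ∈ (P : Subgroup G), g⁻¹ * z * g ∈ (Q' : Subgroup G) := by
    intro z hz
    rw [← hg, Sylow.coe_subgroup_smul] at hz
    obtain ⟨w, hw, rfl⟩ := hz
    show g⁻¹ * (g * w * g⁻¹) * g ∈ (Q' : Subgroup G)
    rw [show g⁻¹ * (g * w * g⁻¹) * g = w by group]
    exact hw
  have ha' := hmem a ha
  have hc' := hmem c hc
  rw [← hQQ'] at ha' hc'
  obtain ⟨a', ha'', hae⟩ := ha'
  obtain ⟨c', hc'', hce⟩ := hc'
  have h1 : (a' : G) * c' * (a' : G)⁻¹ * (c' : G)⁻¹ ∈ N := hcQ a' ha'' c' hc''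
  have h2 := hN.conj_mem _ h1 g
  rw [show (a' : G) = g⁻¹ * a * g from hae, show (c' : G) = g⁻¹ * c * g from hce] at h2
  simpa [mul_assoc] using h2

/-- The derived series of a subgroup maps into that of its image. -/
theorem derived_le_ker {G H : Type u} [Group G] [Group H] (f : G →* H) (S : Subgroup G) (k : ℕ)
    (h : derivedSeries ↥(S.map f) k = ⊥) : ∀ x ∈ derivedSeries ↥S k, f x = 1 := by
  intro x hx
  have h1 := map_derivedSeries_le_derivedSeries (f.subgroupMap S) k ⟨x, hx, rfl⟩
  rw [h, Subgroup.mem_bot] at h1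
  exact congrArg Subtype.val h1

theorem main_thm (m : ℕ) : ∀ (G : Type u) [Group G] [Finite G], Nat.card G < m → IsPSolvable p G →
    ∀ P : Sylow p G, derivedSeries ↥(P : Subgroup G)
      (Nat.card {χ : IrrCharacter G // p ∣ CT.deg (χ : G → ℂ)} + 1) = ⊥ := by
  induction m with
  | zero => intro G _ _ h; exact absurd h (Nat.not_lt_zero _)
  | succ m ih =>
    intro G _ _ hcard hsol P
    haveI := Fintype.ofFinite G
    set n := Nat.card {χ : IrrCharacter G // p ∣ CT.deg (χ : G → ℂ)} with hn
    rcases subsingleton_or_nontrivial G with hG | hG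
    · exact eq_bot_iff.mpr fun x _ => Subgroup.mem_bot.mpr (Subsingleton.elim _ _)
    have hstep : ∀ (N : Subgroup G) [N.Normal], N ≠ ⊥ → ∃ n', n' ≤ n ∧
        (n' = n → ∀ χ : IrrCharacter G, (∃ z ∈ N, (χ : G → ℂ) z ≠ (χ : G → ℂ) 1) →
          ¬ p ∣ CT.deg (χ : G → ℂ)) ∧
        ∀ x ∈ derivedSeries ↥(P : Subgroup G) (n' + 1), (x : G) ∈ N := by
      intro N _ hNb
      have hlt : Nat.card (G ⧸ N) < m := by
        have : Nat.card (G ⧸ N) < Nat.card G := by
          haveI : Nontrivial N := (Subgroup.nontrivial_iff_ne_bot N).mpr hNb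
          rw [N.card_eq_card_quotient_mul_card_subgroup]
          exact lt_mul_of_one_lt_right Nat.card_pos Finite.one_lt_card
        omega
      have hs := QuotientGroup.mk'_surjective N
      have hI := ih (G ⧸ N) hlt (Coprime23.isPSolvable_map _ hs hsol) (P.mapSurjective hs)
      let F : {η : IrrCharacter (G ⧸ N) // p ∣ CT.deg (η : G ⧸ N → ℂ)} →
          {χ : IrrCharacter G // p ∣ CT.deg (χ : G → ℂ)} := fun η =>
        ⟨⟨fun g => (η.1 : G ⧸ N → ℂ) (QuotientGroup.mk g), CT.isIrr_inflate N η.1.2 (fun g => rfl)⟩,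
          by simpa [CT.deg] using η.2⟩
      have hF : Function.Injective F := by
        intro η η' hh
        refine Subtype.ext (Subtype.ext (funext fun q => ?_))
        induction q using QuotientGroup.induction_on with
        | _ g => exact congrFun (congrArg (fun c => ((c.1 : IrrCharacter G) : G → ℂ)) hh) g
      refine ⟨_, Nat.card_le_card_of_injective F hF, ?_, ?_⟩
      · intro heq χ ⟨z, hz, hzne⟩ hd
        obtain ⟨η, hη⟩ := (hF.bijective_of_nat_card_le heq.ge).2 ⟨χ, hd⟩
        have h1 : (χ : G → ℂ) = fun g => (η.1 : G ⧸ N → ℂ) (QuotientGroup.mk g) :=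
          (congrArg (fun c => ((c.1 : IrrCharacter G) : G → ℂ)) hη).symm
        refine hzne ?_
        rw [h1]
        show (η.1 : G ⧸ N → ℂ) _ = (η.1 : G ⧸ N → ℂ) _
        rw [(QuotientGroup.eq_one_iff z).mpr hz, QuotientGroup.mk_one]
      · intro x hx
        exact (QuotientGroup.eq_one_iff (x : G)).mp
          (derived_le_ker (QuotientGroup.mk' N) (P : Subgroup G) _ hI x hx)
    rcases Coprime23.exists_core_ne_bot hsol with hp' | hp'
    swap
    · obtain ⟨n', hn', -, hle⟩ := hstep (pPrimeCore p G) hp'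
      refine eq_bot_iff.mpr fun x hx => Subgroup.mem_bot.mpr ?_
      have h1 := hle x (derivedSeries_antitone _ (by omega) hx)
      have h2 : (P : Subgroup G) ⊓ pPrimeCore p G = ⊥ := by
        refine Subgroup.inf_eq_bot_of_coprime ?_
        obtain ⟨k, hk⟩ := P.isPGroup'.exists_card_eq
        rw [hk]
        exact (Basics.pPrimeCore_coprime p).symm.pow_left k
      have h3 : (x : G) ∈ (P : Subgroup G) ⊓ pPrimeCore p G := ⟨x.2, h1⟩
      rw [h2, Subgroup.mem_bot] at h3
      exact Subtype.ext h3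
    · haveI : (pCore p G).Normal := Basics.pCore_normal p
      have hR : IsPGroup p (pCore p G) := Basics.pCore_isPGroup p
      set N := (Subgroup.center (pCore p G)).map (pCore p G).subtype with hN
      haveI hNn : N.Normal := ConjAct.normal_of_characteristic_of_normal
      have hNb : N ≠ ⊥ := by
        intro hb
        haveI : Nontrivial (pCore p G) := (Subgroup.nontrivial_iff_ne_bot _).mpr hp'
        haveI := hR.center_nontrivial
        exact (Subgroup.nontrivial_iff_ne_bot _).mp (inferInstance : Nontrivial (Subgroup.center (pCore p G)))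
          ((Subgroup.map_eq_bot_iff_of_injective _ (pCore p G).subtype_injective).mp hb)
      have hNp : IsPGroup p N := (hR.to_subgroup _).map _
      have hab : ∀ a b : N, a * b = b * a := by
        rintro ⟨_, a, ha, rfl⟩ ⟨_, c, hc, rfl⟩
        have h0 : (a : G) * (c : G) = (c : G) * (a : G) :=
          congrArg (fun t : ↥(pCore p G) => (t : G)) (Subgroup.mem_center_iff.mp hc a)
        exact Subtype.ext h0
      have hcNP : ∀ x ∈ derivedSeries ↥(P : Subgroup G) n, ∀ y ∈ derivedSeries ↥(P : Subgroup G) n,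
          (x : G) ∈ N → (y : G) ∈ N → ⁅x, y⁆ = 1 := by
        intro x _ y _ hx hy
        rw [commutatorElement_eq_one_iff_mul_comm]
        have h0 : ((x : G)) * (y : G) = (y : G) * (x : G) :=
          congrArg (fun t : N => (t : G)) (hab ⟨x, hx⟩ ⟨y, hy⟩)
        exact Subtype.ext h0
      obtain ⟨n', hn', heq, hle⟩ := hstep N hNb
      have hfin : (∀ x ∈ derivedSeries ↥(P : Subgroup G) n, (x : G) ∈ N) →
          derivedSeries ↥(P : Subgroup G) (n + 1) = ⊥ := by
        intro h
        rw [derivedSeries_succ, Subgroup.commutator_eq_bot_iff_le_centralizer]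
        intro x hx y hy
        exact (commutatorElement_eq_one_iff_mul_comm.mp (hcNP y hy x hx (h y hy) (h x hx)))
      rcases Nat.lt_or_ge n' n with hlt | hge
      · exact hfin fun x hx => hle x (derivedSeries_antitone _ (by omega) hx)
      · have hdeg := heq (by omega)
        rcases Nat.eq_zero_or_pos n with h0 | hpos
        · have hall : ∀ χ : IrrCharacter G, ¬ p ∣ CT.deg (χ : G → ℂ) := by
            intro χ hd
            haveI : Nonempty {χ : IrrCharacter G // p ∣ CT.deg (χ : G → ℂ)} := ⟨⟨χ, hd⟩⟩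
            exact Nat.card_pos.ne' (hn.symm.trans h0)
          haveI := ItoMichler.sylow_normal _ G rfl hsol hall P
          have hc := ItoMichler.sylow_comm P hall
          rw [h0, zero_add, derivedSeries_one, _root_.commutator_def,
            Subgroup.commutator_eq_bot_iff_le_centralizer]
          intro x _ y _
          exact hc.is_comm.comm y x
        · refine hfin fun x hx => ?_
          have h1 := derived_le hsol N hNp hNb hab hdeg P
          have hP1 : _root_.commutator ↥(P : Subgroup G) ≤ N.comap (P : Subgroup G).subtype := by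
            rw [_root_.commutator_def, Subgroup.commutator_le]
            intro a _ c _
            rw [Subgroup.mem_comap, commutatorElement_def]
            exact h1 a a.2 c c.2
          refine hP1 ?_
          rw [← derivedSeries_one]
          exact derivedSeries_antitone _ hpos hx

/-- Let p be a prime, G a finite p-solvable group and P a Sylow p-subgroup of G. If n is the number of irreducible complex characters of G whose degree is divisible by p, then the (n+1)-st term of the derived series of P is trivial. (The p-solvable case has a direct inductive proof.) -/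
theorem result {G : Type*} [Group G] [Finite G] (p : ℕ) [Fact p.Prime] (hG : Cfsg.IsPSolvable p G) (P : Sylow p G) : derivedSeries ↥(P : Subgroup G) (Nat.card {χ : Cfsg.IrrCharacter G // p ∣ Cfsg.charDegree (χ : G → ℂ)} + 1) = ⊥ := by
  exact main_thm (p := p) (Nat.card G + 1) G (Nat.lt_succ_self _) hG P

end Cfsg.Agent.S4768
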