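import Cfsg.Statements.S4774
import Cfsg.Agent.Lib.SL2.Degrees

set_option autoImplicit false
set_option linter.all false
open Cfsg

namespace Cfsg.Agent.S4774

/-- Let F be a finite field of odd characteristic t with q > 5 elements and let S be isomorphic to PSL(2,F) or to SL(2,F). Then the vertices of the character degree graph of S are the primes dividing q(q²−1); the prime t is adjacent to no vertex; two distinct primes dividing q² − 1 are adjacent exactly when one of them is 2, or both divide q + 1, or both divide q − 1. -/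
theorem result (F : Type*) [Field F] [Fintype F] (t : ℕ) [Fact t.Prime] [CharP F t] (ht : t ≠ 2) (q : ℕ) (hq : Fintype.card F = q) (h5 : 5 < q) {S : Type*} [Group S] [Finite S] (hS : Nonempty (S ≃* Matrix.ProjectiveSpecialLinearGroup (Fin 2) F) ∨ Nonempty (S ≃* Matrix.SpecialLinearGroup (Fin 2) F)) : Cfsg.degreePrimes S = {r : ℕ | r.Prime ∧ r ∣ q * (q ^ 2 - 1)} ∧ ∀ r s : ℕ, (Cfsg.degreeGraph S).Adj r s ↔ (r ≠ s ∧ r.Prime ∧ s.Prime ∧ r ∣ q ^ 2 - 1 ∧ s ∣ q ^ 2 - 1 ∧ (r = 2 ∨ s = 2 ∨ (r ∣ q + 1 ∧ s ∣ q + 1) ∨ (r ∣ q - 1 ∧ s ∣ q - 1))) := by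
  classical
  subst hq
  obtain ⟨n, hp, hn⟩ := FiniteField.card F t
  have hodd : Odd (Fintype.card F) := by rw [hn]; exact (hp.odd_of_ne_two ht).pow
  obtain ⟨hd, m1, m2, m3⟩ := SL2.degrees_odd (F := F) hodd h5
  have hsub := SL2.charDegrees_psl_subset (F := F)
  have key : ∀ {D : Set ℕ}, (D = Cfsg.charDegrees S) →
      Cfsg.charDegrees (Matrix.ProjectiveSpecialLinearGroup (Fin 2) F) ⊆ D →
      D ⊆ Cfsg.charDegrees (Matrix.SpecialLinearGroup (Fin 2) F) → _ := fun {D} hD h1 h2' =>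
    SL2.graph_of_degrees (S := S) (m := Fintype.card F) hp hn (by omega)
      (fun d hdS => hd d (h2' (hD ▸ hdS))) (hD ▸ h1 m1) (hD ▸ h1 m2) (hD ▸ h1 m3)
  obtain ⟨hV, hA⟩ : Cfsg.degreePrimes S = {r : ℕ | r.Prime ∧ r ∣ Fintype.card F * (Fintype.card F ^ 2 - 1)} ∧
      ∀ r s : ℕ, (Cfsg.degreeGraph S).Adj r s ↔ (r ≠ s ∧ r.Prime ∧ s.Prime ∧
        ((r ∣ Fintype.card F + 1 ∧ s ∣ Fintype.card F + 1) ∨
          (r ∣ Fintype.card F - 1 ∧ s ∣ Fintype.card F - 1))) := by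
    rcases hS with ⟨⟨e⟩⟩ | ⟨⟨e⟩⟩
    · exact key (SL2.charDegrees_congr e).symm Set.Subset.rfl hsub
    · exact key (SL2.charDegrees_congr e).symm hsub Set.Subset.rfl
  refine ⟨hV, fun r s => (hA r s).trans ?_⟩
  set m := Fintype.card F with hm
  have hsq : m ^ 2 - 1 = (m + 1) * (m - 1) := by rw [← one_pow 2, Nat.sq_sub_sq, one_pow]
  obtain ⟨k, hk⟩ := hodd
  have two1 : 2 ∣ m + 1 := ⟨k + 1, by omega⟩
  have two2 : 2 ∣ m - 1 := ⟨k, by omega⟩
  constructor
  · rintro ⟨hne, hr, hs, h⟩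
    refine ⟨hne, hr, hs, ?_, ?_, Or.inr (Or.inr h)⟩
    all_goals rcases h with h | h
    · exact hsq ▸ h.1.mul_right _
    · exact hsq ▸ h.1.mul_left _
    · exact hsq ▸ h.2.mul_right _
    · exact hsq ▸ h.2.mul_left _
  · rintro ⟨hne, hr, hs, hr', hs', h⟩
    refine ⟨hne, hr, hs, ?_⟩
    rw [hsq] at hr' hs'
    rcases h with h | h | h
    · subst h
      rcases hs.dvd_mul.1 hs' with h' | h'
      · exact Or.inl ⟨two1, h'⟩
      · exact Or.inr ⟨two2, h'⟩
    · subst h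
      rcases hr.dvd_mul.1 hr' with h' | h'
      · exact Or.inl ⟨h', two1⟩
      · exact Or.inr ⟨h', two2⟩
    · exact h

end Cfsg.Agent.S4774
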