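import Cfsg.Statements.S4775
import Cfsg.Agent.Lib.Suzuki.CharDeg
import Cfsg.Agent.Lib.Suzuki.LieIso
-- import your own Cfsg.Agent.* helpers here

set_option autoImplicit false
open Cfsg

namespace Cfsg.Agent.S4775

/-- Let F be a finite field with q = 2^(2m+1) ≥ 8 elements and let S be isomorphic to the Suzuki group over F. Then the vertices of the character degree graph of S are 2 and the primes dividing (q − 1)(q² + 1); the primes dividing (q − 1)(q² + 1) are pairwise adjacent, and 2 is adjacent exactly to the primes dividing q − 1. -/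
theorem result (F : Type*) [Field F] [Fintype F] (m : ℕ) (hm : 1 ≤ m) (q : ℕ) (hq : Fintype.card F = q) (hqm : q = 2 ^ (2 * m + 1)) {S : Type*} [Group S] [Finite S] (hS : Nonempty (S ≃* ↥(Cfsg.Lie.Sz F (2 ^ (m + 1))))) : Cfsg.degreePrimes S = {r : ℕ | r.Prime ∧ (r = 2 ∨ r ∣ (q - 1) * (q ^ 2 + 1))} ∧ ∀ r s : ℕ, (Cfsg.degreeGraph S).Adj r s ↔ (r ≠ s ∧ r.Prime ∧ s.Prime ∧ ((r ∣ (q - 1) * (q ^ 2 + 1) ∧ s ∣ (q - 1) * (q ^ 2 + 1)) ∨ (r = 2 ∧ s ∣ q - 1) ∨ (s = 2 ∧ r ∣ q - 1))) := by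
  open Cfsg.Agent.Suzuki Cfsg.Agent.CT in
  classical
  obtain ⟨D⟩ := exists_dat (F := F) hm (hq.trans hqm)
  have hF : Fintype.card F = 2 ^ (2 * m + 1) := hq.trans hqm
  subst hq
  haveI : Fintype (Cfsg.Sz F m) := Fintype.ofFinite _
  obtain ⟨e⟩ := hS
  let f : Cfsg.Sz F m ≃* S := (lieEquiv D hF).trans e.symm
  obtain ⟨t, htm, ht, hq2, hr⟩ := q_facts D hF
  set q := Fintype.card F with hqdef
  set νp := q + 2 ^ (m + 1) + 1 with hνp
  set νm := q - 2 ^ (m + 1) + 1 with hνm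
  have hmem : ∀ d, d ∈ Cfsg.charDegrees S ↔
      (d = 1 ∨ d = q ^ 2 ∨ d = q ^ 2 + 1 ∨ d = (q - 1) * νm ∨ d = (q - 1) * νp ∨ d = (q - 1) * 2 ^ m) := by
    intro d
    rw [← mem_degrees D hF d]
    constructor
    · rintro ⟨χ, rfl⟩
      refine ⟨⟨_, isIrrCharacter_comp f.toMonoidHom f.surjective χ.2⟩, ?_⟩
      simp only [deg, charDegree, map_one]
    · rintro ⟨χ, rfl⟩
      refine ⟨⟨_, isIrrCharacter_comp f.symm.toMonoidHom f.symm.surjective χ.2⟩, ?_⟩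
      simp only [deg, charDegree, map_one]
  have hprod : νp * νm = q ^ 2 + 1 := by
    have h4 : 4 ≤ q := by rw [hq2]; nlinarith
    have hle : 2 * t ≤ q := by rw [hq2]; nlinarith
    rw [hνp, hνm, hr]
    zify [hle]
    have : (q : ℤ) = 2 * t * t := by exact_mod_cast hq2
    linear_combination 2 * this
  have htwo : ∀ r : ℕ, r.Prime → ∀ k, r ∣ 2 ^ k → r = 2 := fun r hr k h =>
    (Nat.prime_dvd_prime_iff_eq hr Nat.prime_two).1 (hr.dvd_of_dvd_pow h)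
  have hq2pow : ∀ r : ℕ, r.Prime → r ∣ q ^ 2 → r = 2 := fun r hr h => by
    rw [hF] at h; exact htwo r hr _ (hr.dvd_of_dvd_pow h)
  have hdiv : ∀ r : ℕ, r.Prime → ∀ ν, ν ∣ q ^ 2 + 1 → r ∣ (q - 1) * ν → r ∣ (q - 1) * (q ^ 2 + 1) :=
    fun r _ ν hν h => h.trans (Nat.mul_dvd_mul_left _ hν)
  have hνm' : νm ∣ q ^ 2 + 1 := ⟨νp, by rw [mul_comm]; exact hprod.symm⟩
  have hνp' : νp ∣ q ^ 2 + 1 := ⟨νm, hprod.symm⟩
  refine ⟨Set.ext fun r => ⟨?_, ?_⟩, fun r s => ⟨?_, ?_⟩⟩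
  · rintro ⟨hr, d, hd, hrd⟩
    refine ⟨hr, ?_⟩
    rcases (hmem d).1 hd with rfl | rfl | rfl | rfl | rfl | rfl
    · exact absurd hrd hr.not_dvd_one
    · exact Or.inl (hq2pow r hr hrd)
    · exact Or.inr (hrd.mul_left _)
    · exact Or.inr (hdiv r hr _ hνm' hrd)
    · exact Or.inr (hdiv r hr _ hνp' hrd)
    · rcases hr.dvd_mul.1 hrd with h | h
      · exact Or.inr (h.mul_right _)
      · exact Or.inl (htwo r hr _ h)
  · rintro ⟨hr, h⟩
    refine ⟨hr, ?_⟩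
    rcases h with rfl | h
    · refine ⟨q ^ 2, (hmem _).2 (by tauto), ?_⟩
      rw [hF]; exact dvd_pow (dvd_pow_self 2 (by omega)) two_ne_zero
    · rcases hr.dvd_mul.1 h with h | h
      · exact ⟨(q - 1) * νm, (hmem _).2 (by tauto), h.mul_right _⟩
      · exact ⟨q ^ 2 + 1, (hmem _).2 (by tauto), h⟩
  · rintro ⟨hrs, hr, hs, d, hd, hdd⟩
    refine ⟨hrs, hr, hs, ?_⟩
    have h1 : r ∣ d := (dvd_mul_right r s).trans hdd
    have h2 : s ∣ d := (dvd_mul_left s r).trans hdd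
    rcases (hmem d).1 hd with rfl | rfl | rfl | rfl | rfl | rfl
    · exact absurd h1 hr.not_dvd_one
    · exact absurd ((hq2pow r hr h1).trans (hq2pow s hs h2).symm) hrs
    · exact Or.inl ⟨h1.mul_left _, h2.mul_left _⟩
    · exact Or.inl ⟨hdiv r hr _ hνm' h1, hdiv s hs _ hνm' h2⟩
    · exact Or.inl ⟨hdiv r hr _ hνp' h1, hdiv s hs _ hνp' h2⟩
    · rcases hr.dvd_mul.1 h1 with a | a <;> rcases hs.dvd_mul.1 h2 with b | b
      · exact Or.inl ⟨a.mul_right _, b.mul_right _⟩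
      · exact Or.inr (Or.inr ⟨htwo s hs _ b, a⟩)
      · exact Or.inr (Or.inl ⟨htwo r hr _ a, b⟩)
      · exact absurd ((htwo r hr _ a).trans (htwo s hs _ b).symm) hrs
  · rintro ⟨hrs, hr, hs, h⟩
    refine ⟨hrs, hr, hs, ?_⟩
    have hco := (Nat.coprime_primes hr hs).2 hrs
    have h2m : 2 ∣ 2 ^ m := dvd_pow_self 2 (by omega)
    rcases h with ⟨a, b⟩ | ⟨rfl, b⟩ | ⟨rfl, a⟩
    · rcases hr.dvd_mul.1 a with a | a <;> rcases hs.dvd_mul.1 b with b | b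
      · exact ⟨(q - 1) * νm, (hmem _).2 (by tauto), hco.mul_dvd_of_dvd_of_dvd (a.mul_right _) (b.mul_right _)⟩
      · rw [← hprod] at b
        rcases hs.dvd_mul.1 b with b | b
        · exact ⟨(q - 1) * νp, (hmem _).2 (by tauto), Nat.mul_dvd_mul a b⟩
        · exact ⟨(q - 1) * νm, (hmem _).2 (by tauto), Nat.mul_dvd_mul a b⟩
      · rw [← hprod] at a
        rw [mul_comm r s]
        rcases hr.dvd_mul.1 a with a | a
        · exact ⟨(q - 1) * νp, (hmem _).2 (by tauto), Nat.mul_dvd_mul b a⟩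
        · exact ⟨(q - 1) * νm, (hmem _).2 (by tauto), Nat.mul_dvd_mul b a⟩
      · exact ⟨q ^ 2 + 1, (hmem _).2 (by tauto), hco.mul_dvd_of_dvd_of_dvd a b⟩
    · refine ⟨(q - 1) * 2 ^ m, (hmem _).2 (by tauto), ?_⟩
      rw [mul_comm 2 s]; exact Nat.mul_dvd_mul b h2m
    · exact ⟨(q - 1) * 2 ^ m, (hmem _).2 (by tauto), Nat.mul_dvd_mul a h2m⟩

end Cfsg.Agent.S4775
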