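import Cfsg.Statements.S4776
import Cfsg.Agent.Lib.RelGraph23.Main
-- import your own Cfsg.Agent.* helpers here

set_option autoImplicit false
open Cfsg

namespace Cfsg.Agent.S4776

/-- Let N be a normal subgroup of the finite group G that is not perfect and is contained in the derived subgroup of G. Consider the common-divisor graph on the relative degree set cd(G|N) (the degrees of the irreducible complex characters of G whose kernel does not contain N; two distinct degrees adjacent when they have a common divisor greater than one). Then this graph has at most two connected components; and if a, b ∈ cd(G|N) lie in different components, then one of a, b is coprime to the index m of the derived subgroup of N in N while the other is divisible by every prime divisor of m. -/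
theorem result {G : Type*} [Group G] [Finite G] (N : Subgroup G) [N.Normal] (hN : ⁅N, N⁆ < N) (hNG : N ≤ commutator G) : Nat.card (Cfsg.commonDivisorGraph.induce (Cfsg.relCharDegrees N)).ConnectedComponent ≤ 2 ∧ ∀ (a b : ℕ) (ha : a ∈ Cfsg.relCharDegrees N) (hb : b ∈ Cfsg.relCharDegrees N), ¬ (Cfsg.commonDivisorGraph.induce (Cfsg.relCharDegrees N)).Reachable ⟨a, ha⟩ ⟨b, hb⟩ → (Nat.Coprime a (⁅N, N⁆.relIndex N) ∧ ∀ r : ℕ, r.Prime → r ∣ ⁅N, N⁆.relIndex N → r ∣ b) ∨ (Nat.Coprime b (⁅N, N⁆.relIndex N) ∧ ∀ r : ℕ, r.Prime → r ∣ ⁅N, N⁆.relIndex N → r ∣ a) := by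
  classical
  set m := ⁅N, N⁆.relIndex N
  let X := Cfsg.relCharDegrees N
  let Gr := Cfsg.commonDivisorGraph.induce X
  let full : X → Prop := fun x => ∀ r : ℕ, r.Prime → r ∣ m → r ∣ (x : ℕ)
  obtain ⟨p, hp, hpm⟩ : ∃ p : ℕ, p.Prime ∧ p ∣ m := by
    refine Nat.exists_prime_and_dvd fun h => hN.not_ge ?_
    exact Subgroup.relIndex_eq_one.mp h
  have hsame : ∀ x y : X, (full x ↔ full y) → Gr.Reachable x y := by
    intro x y hxy
    by_cases hx : full x
    · exact RelGraph23.reach_of_dvd' N hp.one_lt (hx p hp hpm) (hxy.mp hx p hp hpm)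
    · have hy : ¬ full y := fun h => hx (hxy.mpr h)
      simp only [full, not_forall] at hx hy
      obtain ⟨r, hr, hrm, hrx⟩ := hx
      obtain ⟨s, hs, hsm, hsy⟩ := hy
      exact RelGraph23.reach_of_not_full N hNG x y hr hrm hrx hs hsm hsy
  refine ⟨?_, ?_⟩
  · let f : Gr.ConnectedComponent → Bool := fun c => decide (full c.exists_rep.choose)
    have hf : Function.Injective f := by
      intro c d hcd
      have h1 := c.exists_rep.choose_spec
      have h2 := d.exists_rep.choose_spec
      rw [← h1, ← h2]
      refine SimpleGraph.ConnectedComponent.sound (hsame _ _ ?_)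
      simpa [f] using hcd
    refine (Nat.card_le_card_of_injective f hf).trans ?_
    simp
  · intro a b ha hb hab
    have hiff : ¬ (full ⟨a, ha⟩ ↔ full ⟨b, hb⟩) := fun h => hab (hsame _ _ h)
    have key : ∀ (u v : X), ¬ Gr.Reachable u v → full v → Nat.Coprime (u : ℕ) m := by
      intro u v huv hv
      refine Nat.coprime_of_dvd fun r hr hru hrm => huv ?_
      exact RelGraph23.reach_of_dvd' N hr.one_lt hru (hv r hr hrm)
    by_cases hfa : full ⟨a, ha⟩
    · exact Or.inr ⟨key ⟨b, hb⟩ ⟨a, ha⟩ (fun h => hab h.symm) hfa, hfa⟩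
    · have hfb : full ⟨b, hb⟩ := by
        by_contra hfb
        exact hiff ⟨fun h => absurd h hfa, fun h => absurd h hfb⟩
      exact Or.inl ⟨key ⟨a, ha⟩ ⟨b, hb⟩ hab hfb, hfb⟩

end Cfsg.Agent.S4776
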