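import Cfsg.Statements.S4784
import Cfsg.Agent.Lib.CharFS.Basic
import Cfsg.Agent.Lib.CT.Induced
import Cfsg.Agent.Lib.CT.Kernel

set_option autoImplicit false
open Cfsg
open scoped ComplexConjugate

namespace Cfsg.Agent.S4784

open scoped ComplexConjugate in
theorem ne_triv_of_ind {G : Type*} [Group G] [Fintype G] (K : Subgroup G) [K.Normal]
    (hodd : Odd K.index) (χ : Cfsg.IrrCharacter G)
    (hker : ∀ k ∈ K, (χ : G → ℂ) k = (χ : G → ℂ) 1) (hind : CharFS.ind (χ : G → ℂ) = 1) :
    χ = CT.trivIrr G := by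
  classical
  haveI := Fintype.ofFinite (G ⧸ K)
  obtain ⟨ψ, hψ, he⟩ := CT.exists_quotient_irr χ.2 K hker
  have hsum : ∀ f : G ⧸ K → ℂ,
      ∑ g : G, f (QuotientGroup.mk g) = (Nat.card K : ℂ) * ∑ q, f q := by
    intro f
    rw [← Finset.sum_fiberwise Finset.univ (fun g : G => (QuotientGroup.mk g : G ⧸ K)),
      Finset.mul_sum]
    refine Finset.sum_congr rfl fun q _ => ?_
    rw [Finset.sum_congr rfl fun g hg => by rw [(Finset.mem_filter.mp hg).2], Finset.sum_const,
      nsmul_eq_mul]
    congr 2
    obtain ⟨g₀, rfl⟩ := QuotientGroup.mk_surjective q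
    rw [← Fintype.card_subtype, ← Nat.card_eq_fintype_card]
    refine Nat.card_congr ((Equiv.mulLeft g₀⁻¹).subtypeEquiv fun g => ?_)
    rw [Equiv.coe_mulLeft]
    exact ⟨fun h => QuotientGroup.eq.mp h.symm, fun h => (QuotientGroup.eq.mpr h).symm⟩
  have hbij : Function.Bijective (fun q : G ⧸ K => q * q) := by
    have hco : Nat.Coprime (Nat.card (G ⧸ K)) 2 :=
      Nat.coprime_two_right.mpr (by rwa [← Subgroup.index_eq_card])
    simpa [sq] using (powCoprime hco).bijective
  have hne : classInner (χ : G → ℂ) (CT.trivIrr G : G → ℂ) ≠ 0 := by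
    intro h0
    have e : CharFS.ind (χ : G → ℂ) = classInner (χ : G → ℂ) (CT.trivIrr G : G → ℂ) := by
      simp only [CharFS.ind, classInner, CT.trivIrr_apply, map_one, mul_one]
      congr 1
      simp only [← he, QuotientGroup.mk_mul]
      rw [hsum (fun q => ψ (q * q)), hsum ψ]
      congr 1
      exact hbij.sum_comp ψ
    rw [hind, h0] at e
    exact one_ne_zero e
  exact Subtype.ext (CT.eq_of_inner_ne_zero χ.2 (CT.trivIrr G).2 hne)

/-- Let H be a subgroup of the finite group G and consider the permutation character of G on the cosets of H (the function induced from the principal character of H). Then exactly one irreducible constituent of it is real-valued with Frobenius–Schur indicator +1 (namely the principal character) if and only if the normal core of H has odd index in G. -/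
theorem result {G : Type*} [Group G] [Fintype G] (H : Subgroup G) : Nat.card {χ : Cfsg.IrrCharacter G // Cfsg.classInner (Cfsg.indFun H (fun _ : H => (1 : ℂ))) (χ : G → ℂ) ≠ 0 ∧ (∀ g : G, (starRingEnd ℂ) ((χ : G → ℂ) g) = (χ : G → ℂ) g) ∧ (Nat.card G : ℂ)⁻¹ * ∑ g : G, (χ : G → ℂ) (g * g) = 1} = 1 ↔ Odd H.normalCore.index := by
  classical
  haveI := Fintype.ofFinite H
  let π : G → ℂ := indFun H (fun _ : H => (1 : ℂ))
  let T := {χ : Cfsg.IrrCharacter G // classInner π (χ : G → ℂ) ≠ 0 ∧
    (∀ g : G, conj ((χ : G → ℂ) g) = (χ : G → ℂ) g) ∧ CharFS.ind (χ : G → ℂ) = 1}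
  show Nat.card T = 1 ↔ _
  have hπ : IsCharacter G π := CT.isCharacter_indFun H CT.isCharacter_one
  have hm : ∀ χ : Cfsg.IrrCharacter G,
      classInner π (χ : G → ℂ) = (Nat.card H : ℂ)⁻¹ * ∑ h : H, (χ : G → ℂ) (h : G)⁻¹ := by
    intro χ
    rw [CT.frobenius_reciprocity H _ (CT.isClassFunction_of_isIrr χ.2), classInner]
    simp [CT.char_inv_eq_conj (CT.isCharacter_of_isIrr χ.2)]
  have htriv : classInner π (CT.trivIrr G : G → ℂ) = 1 := by
    rw [hm]
    simp
  have hind1 : CharFS.ind (CT.trivIrr G : G → ℂ) = 1 := by simp [CharFS.ind]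
  have ht : Nat.card T = 1 ↔ ∀ χ : Cfsg.IrrCharacter G, classInner π (χ : G → ℂ) ≠ 0 →
      CharFS.ind (χ : G → ℂ) = 1 → χ = CT.trivIrr G := by
    let t0 : T := ⟨CT.trivIrr G, by rw [htriv]; exact one_ne_zero, fun g => by simp, hind1⟩
    constructor
    · intro h χ h1 h2
      haveI : Subsingleton T := (Nat.card_eq_one_iff_unique.mp h).1
      have := Subsingleton.elim (⟨χ, h1, fun g => CharFS.real_of_ind_ne_zero χ.2
        (by rw [h2]; exact one_ne_zero) g, h2⟩ : T) t0
      exact congrArg Subtype.val this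
    · intro h
      refine Nat.card_eq_one_iff_unique.mpr ⟨⟨fun a b => Subtype.ext ?_⟩, ⟨t0⟩⟩
      rw [h a.1 a.2.1 a.2.2.2, h b.1 b.2.1 b.2.2.2]
  rw [ht]
  constructor
  · intro h
    by_contra hev
    rw [Nat.not_odd_iff_even, even_iff_two_dvd, Subgroup.index_eq_card] at hev
    obtain ⟨q, hq⟩ := exists_prime_orderOf_dvd_card' (G := G ⧸ H.normalCore) 2 hev
    obtain ⟨g, rfl⟩ := QuotientGroup.mk_surjective q
    have hg : g ∉ H.normalCore := fun hg => by
      rw [(QuotientGroup.eq_one_iff g).mpr hg, orderOf_one] at hq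
      exact absurd hq (by norm_num)
    have hg2 : g * g ∈ H.normalCore := by
      rw [← QuotientGroup.eq_one_iff, QuotientGroup.mk_mul, ← sq, ← hq, pow_orderOf_eq_one]
    obtain ⟨x, hx⟩ : ∃ x : G, x * g * x⁻¹ ∉ H := by
      by_contra hcon
      push Not at hcon
      exact hg hcon
    set s := x * g * x⁻¹ with hs
    have hs2 : s * s ∈ H := by
      have := H.normalCore_le (H.normalCore_normal.conj_mem _ hg2 x)
      convert this using 1
      rw [hs]; group
    -- more than |H| elements square into H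
    let S := {u : G // u * u ∈ H}
    have hlt : Nat.card H < Nat.card S := by
      haveI := Fintype.ofFinite S
      rw [Nat.card_eq_fintype_card, Nat.card_eq_fintype_card]
      refine Fintype.card_lt_of_injective_of_notMem
        (fun h : H => (⟨h, H.mul_mem h.2 h.2⟩ : S))
        (fun a b hab => Subtype.ext (congrArg (fun z : S => (z : G)) hab :)) (b := ⟨s, hs2⟩) ?_
      rintro ⟨a, ha⟩
      have e : (a : G) = s := congrArg Subtype.val ha
      exact hx (e ▸ a.2)
    have hcount : ∑ χ : Cfsg.IrrCharacter G, classInner π (χ : G → ℂ) * CharFS.ind (χ : G → ℂ) =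
        (Nat.card H : ℂ)⁻¹ * (Nat.card S : ℂ) := by
      have e : S ≃ Σ h : H, {u : G // u * u = (h : G)⁻¹} :=
        { toFun := fun u => ⟨⟨(u.1 * u.1)⁻¹, H.inv_mem u.2⟩, u.1, (inv_inv _).symm⟩
          invFun := fun a => ⟨a.2.1, by rw [a.2.2]; exact H.inv_mem a.1.2⟩
          left_inv := fun _ => rfl
          right_inv := fun a => by
            obtain ⟨⟨h, hh⟩, u, hu⟩ := a
            have : h = (u * u)⁻¹ := by rw [hu]; exact (inv_inv h).symm
            subst this
            rfl }
      rw [Nat.card_congr e, Nat.card_sigma, Nat.cast_sum]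
      simp only [CharFS.card_sqrt, hm, Finset.mul_sum, Finset.sum_mul]
      rw [Finset.sum_comm]
      refine Finset.sum_congr rfl fun h' _ => Finset.sum_congr rfl fun χ _ => ?_
      ring
    have hre : ∀ χ : Cfsg.IrrCharacter G,
        (classInner π (χ : G → ℂ) * CharFS.ind (χ : G → ℂ)).re ≤
          if χ = CT.trivIrr G then 1 else 0 := by
      intro χ
      split_ifs with hc
      · rw [hc, htriv, hind1, mul_one, Complex.one_re]
      · by_cases hc0 : classInner π (χ : G → ℂ) = 0
        · rw [hc0, zero_mul, Complex.zero_re]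
        obtain ⟨m, hm'⟩ := CT.classInner_character_nat hπ (CT.isCharacter_of_isIrr χ.2)
        rcases CharFS.ind_cases χ.2 with ⟨e, -⟩ | ⟨e | e, -⟩
        · rw [e, mul_zero, Complex.zero_re]
        · exact absurd (h χ hc0 e) hc
        · rw [hm', e, mul_neg, mul_one, Complex.neg_re, Complex.natCast_re, neg_nonpos]
          exact Nat.cast_nonneg m
    have hle := Finset.sum_le_sum fun χ (_ : χ ∈ Finset.univ) => hre χ
    rw [← Complex.re_sum, hcount, Finset.sum_ite_eq', if_pos (Finset.mem_univ _)] at hle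
    rw [← Complex.ofReal_natCast, ← Complex.ofReal_natCast, ← Complex.ofReal_inv,
      ← Complex.ofReal_mul, Complex.ofReal_re] at hle
    have hH : (0 : ℝ) < Nat.card H := Nat.cast_pos.mpr Nat.card_pos
    rw [inv_mul_le_iff₀ hH, mul_one, Nat.cast_le] at hle
    omega
  · intro hodd χ hc0 hind
    refine ne_triv_of_ind H.normalCore hodd χ (fun k hk => ?_) hind
    -- k acts trivially on the cosets of H
    have hπk : π k = π 1 := by
      show indFun H _ k = indFun H _ 1
      unfold indFun
      congr 1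
      refine Finset.sum_congr rfl fun y _ => ?_
      have : y⁻¹ * k * y ∈ H := H.normalCore_le (by
        simpa using H.normalCore_normal.conj_mem k hk y⁻¹)
      rw [CT.extendByZero_mem H _ this,
        CT.extendByZero_mem H _ (show y⁻¹ * 1 * y ∈ H by simp)]
    obtain ⟨m, hm'⟩ := CT.classInner_character_nat hπ (CT.isCharacter_of_isIrr χ.2)
    have hsum := congrArg Complex.re hπk
    rw [CT.character_eq_sum hπ] at hsum
    simp only [Finset.sum_apply, Pi.smul_apply, smul_eq_mul, Complex.re_sum,
      Complex.mul_re, Complex.natCast_re, Complex.natCast_im, zero_mul, sub_zero] at hsum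
    have hall := (Finset.sum_eq_sum_iff_of_le fun ψ _ => mul_le_mul_of_nonneg_left
      ((Complex.re_le_norm _).trans (CT.norm_isCharacter_le (CT.isCharacter_of_isIrr ψ.2) k))
      (Nat.cast_nonneg _)).mp hsum χ (Finset.mem_univ _)
    have hmult : (CT.mult π (χ : G → ℂ) : ℝ) ≠ 0 := by
      intro e
      refine hc0 ?_
      rw [CT.mult_spec hπ (CT.isCharacter_of_isIrr χ.2), Nat.cast_eq_zero]
      exact_mod_cast e
    have hre := mul_left_cancel₀ hmult hall
    have hd := CT.deg_eq (CT.isCharacter_of_isIrr χ.2)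
    have hn := CT.norm_isCharacter_le (CT.isCharacter_of_isIrr χ.2) k
    rw [← hre] at hn
    have him : ((χ : G → ℂ) k).im = 0 :=
      Complex.abs_re_eq_norm.mp (le_antisymm (Complex.abs_re_le_norm _) (hn.trans (le_abs_self _)))
    refine Complex.ext hre ?_
    rw [him, hd, Complex.natCast_im]

end Cfsg.Agent.S4784
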