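import Cfsg.Statements.S4796
import Cfsg.Agent.Lib.ClassSum.Codegree
import Cfsg.Agent.Lib.ClassSum.Vanish
import Cfsg.Agent.Lib.CT.Clifford
import Cfsg.Agent.S0035
import Mathlib.GroupTheory.SchurZassenhaus

set_option autoImplicit false
open Cfsg

namespace Cfsg.Agent.S4796

open CT in
/-- The centralizer of the normal subgroup of order `p` is itself. -/
theorem centralizer_eq {G : Type*} [Group G] [Finite G] {p : ℕ} (hp : p.Prime)
    (χ : Cfsg.IrrCharacter G) (hcard : Nat.card G = p * CT.deg (χ : G → ℂ))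
    (hlt : CT.deg (χ : G → ℂ) < p) (P : Subgroup G) [P.Normal] (hP : Nat.card P = p)
    {y : G} (hy : ∀ z ∈ P, y * z = z * y) : y ∈ P := by
  classical
  haveI := Fintype.ofFinite G
  haveI := Fact.mk hp
  set d := CT.deg (χ : G → ℂ) with hd
  have hd0 : 0 < d := CT.deg_pos χ.2
  have hpd : ¬ p ∣ d := fun h => absurd (Nat.le_of_dvd hd0 h) (not_le.mpr hlt)
  have hcop : Nat.Coprime p d := hp.coprime_iff_not_dvd.mpr hpd
  have hidx : P.index = d := by
    have h := P.card_mul_index
    rw [hP, hcard] at h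
    exact Nat.eq_of_mul_eq_mul_left hp.pos h
  have hsupp : ∀ g : G, g ∉ P → (χ : G → ℂ) g = 0 := by
    intro g hg
    obtain ⟨q, hq, hqg, hqp⟩ : ∃ q : ℕ, q.Prime ∧ q ∣ orderOf g ∧ q ≠ p := by
      by_contra hcon
      push Not at hcon
      have h1 : orderOf g ∣ p := by
        have h2 := orderOf_dvd_natCard g
        rw [hcard] at h2
        refine Nat.Coprime.dvd_of_dvd_mul_right ?_ h2
        exact Nat.coprime_of_dvd fun q hq hqg hqd => hpd (hcon q hq hqg ▸ hqd)
      have h2 : orderOf (QuotientGroup.mk g : G ⧸ P) ∣ Nat.gcd p d :=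
        Nat.dvd_gcd ((orderOf_map_dvd (QuotientGroup.mk' P) g).trans h1)
          (hidx ▸ P.index_eq_card ▸ orderOf_dvd_natCard _)
      rw [hcop.gcd_eq_one, Nat.dvd_one, orderOf_eq_one_iff, QuotientGroup.eq_one_iff] at h2
      exact hg h2
    refine ClassSum.char_eq_zero_of_defZero hq χ ?_ hqg
    rw [hcard, Nat.factorization_mul hp.ne_zero hd0.ne', Finsupp.add_apply,
      Nat.factorization_eq_zero_of_not_dvd fun h => hqp ((Nat.prime_dvd_prime_iff_eq hq hp).mp h),
      zero_add, ← hd]
    exact Nat.ordProj_dvd d q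
  obtain ⟨φ, hφ⟩ := CT.exists_constituent_restrict P χ.2
  have hclif := CT.clifford (N := P) χ.2 φ.2 hφ
  obtain ⟨m, hm⟩ := CT.classInner_character_nat
    (CT.isCharacter_restrict P (CT.isCharacter_of_isIrr χ.2)) (CT.isCharacter_of_isIrr φ.2)
  set O := CT.conjOrbit P (φ : P → ℂ) with hO
  have hOirr : ∀ ψ ∈ O, IsIrrCharacter P ψ := by
    intro ψ hψ
    obtain ⟨g, rfl⟩ := (CT.mem_conjOrbit P).mp hψ
    exact CT.isIrrCharacter_conjFun P g φ.2
  have hcomm : ∀ a b : P, a * b = b * a := by
    haveI : IsCyclic P := isCyclic_of_prime_card hP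
    exact fun a b => (IsCyclic.commutative (α := P)).is_comm.comm a b
  have h1 : (d : ℂ) = (m : ℂ) * (O.card : ℂ) := by
    have h := congrFun hclif 1
    simp only [hm, Pi.smul_apply, Finset.sum_apply, smul_eq_mul, OneMemClass.coe_one] at h
    rw [hd, ← CT.deg_eq (CT.isCharacter_of_isIrr χ.2), h,
      Finset.sum_congr rfl fun ψ hψ => CT.irr_degree_one_of_comm hcomm (hOirr ψ hψ)]
    simp
  have h2 : (d : ℂ) = (m : ℂ) * (m : ℂ) * (O.card : ℂ) := by
    have hin : classInner (fun n : P => (χ : G → ℂ) n) (fun n : P => (χ : G → ℂ) n) = (d : ℂ) := by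
      have h := CT.irr_inner_self χ.2
      rw [classInner, inv_mul_eq_one₀ CT.card_ne_zero, ← Finset.sum_subset
        (Finset.subset_univ (Finset.univ.filter fun g => g ∈ P)) (fun g _ hg => by
          rw [hsupp g (by simpa using hg), zero_mul])] at h
      rw [classInner, Finset.sum_subtype (p := fun g => g ∈ P) _ (fun g => by simp)] at *
      rw [← h, hP, hcard]
      push_cast
      rw [inv_mul_cancel_left₀ (Nat.cast_ne_zero.mpr hp.ne_zero)]
    rw [← hin, hclif, hm, CT.classInner_smul_left, CT.classInner_smul_right, CT.classInner_sum_left,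
      Complex.conj_natCast, ← mul_assoc]
    congr 1
    rw [Finset.card_eq_sum_ones, Nat.cast_sum]
    refine Finset.sum_congr rfl fun ψ hψ => ?_
    rw [CT.classInner_sum_right, Finset.sum_eq_single ψ
      (fun ψ' hψ' hne => CT.irr_inner_of_ne (hOirr ψ hψ) (hOirr ψ' hψ') hne.symm)
      (fun h => absurd hψ h), CT.irr_inner_self (hOirr ψ hψ), Nat.cast_one]
  have h1' : d = m * O.card := by exact_mod_cast h1
  have h2' : d = m * m * O.card := by exact_mod_cast h2
  have hm1 : m = 1 := by
    have h3 : m * O.card * m = m * O.card * 1 := by rw [mul_one, mul_right_comm, ← h2', ← h1']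
    exact Nat.eq_of_mul_eq_mul_left (by omega) h3
  have hI : (CT.inertia P (φ : P → ℂ)).index = d := by
    rw [← CT.card_conjOrbit, h1', hm1, one_mul]
  have hle : P ≤ CT.inertia P (φ : P → ℂ) := CT.le_inertia P (CT.isClassFunction_of_isIrr φ.2)
  have heq : P = CT.inertia P (φ : P → ℂ) :=
    Subgroup.eq_of_le_of_card_ge hle <| le_of_eq <| by
      have e1 := (CT.inertia P (φ : P → ℂ)).card_mul_index
      rw [hI, hcard] at e1
      rw [hP]
      exact Nat.eq_of_mul_eq_mul_right hd0 e1
  rw [heq, CT.mem_inertia]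
  funext n
  exact congrArg (φ : P → ℂ) (Subtype.ext (by
    show y * (n : G) * y⁻¹ = n
    rw [hy n n.2, mul_inv_cancel_right]))

/-- Let G be a finite group with a faithful irreducible complex character χ whose codegree #G / χ(1) is a prime p (for a faithful character the kernel is trivial, so the codegree is #G / χ(1)). Then either G is cyclic of order p, or G is a Frobenius group whose Frobenius kernel has order p: some proper non-trivial subgroup H satisfies H ∩ gHg⁻¹ = 1 for every element g outside H, and the set of elements lying in no conjugate of H, together with the identity, has exactly p elements. -/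
theorem result {G : Type*} [Group G] [Finite G] (χ : Cfsg.IrrCharacter G) (hfaith : ∀ g : G, (χ : G → ℂ) g = (χ : G → ℂ) 1 → g = 1) (p : ℕ) (hp : p.Prime) (hcod : Nat.card G = p * Cfsg.charDegree (χ : G → ℂ)) : (IsCyclic G ∧ Nat.card G = p) ∨ ∃ H : Subgroup G, Cfsg.IsFrobeniusComplement H ∧ Nat.card ↥(Cfsg.frobeniusKernel H) = p := by
  classical
  haveI := Fintype.ofFinite G
  haveI := Fact.mk hp
  obtain ⟨hlt, P, hPn, hP⟩ := ClassSum.exists_normal_of_card_eq_prime_mul hp χ hfaith hcod
  haveI := hPn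
  set d := CT.deg (χ : G → ℂ) with hd
  change Nat.card G = p * d at hcod
  have hd0 : 0 < d := CT.deg_pos χ.2
  rcases Nat.lt_or_ge 1 d with hd1 | hd1
  swap
  · have : Nat.card G = p := by rw [hcod, show d = 1 by omega, mul_one]
    exact Or.inl ⟨isCyclic_of_prime_card this, this⟩
  right
  have hidx : P.index = d := by
    have h := P.card_mul_index
    rw [hP, hcod] at h
    exact Nat.eq_of_mul_eq_mul_left hp.pos h
  obtain ⟨H, hH⟩ := Subgroup.exists_right_complement'_of_coprime (N := P) (by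
    rw [hP, hidx]
    exact hp.coprime_iff_not_dvd.mpr fun h => absurd (Nat.le_of_dvd hd0 h) (not_le.mpr hlt))
  have hHc : Nat.card H = d := by
    have h := hH.card_mul
    rw [hP, hcod] at h
    exact Nat.eq_of_mul_eq_mul_left hp.pos h
  have hFC : Cfsg.IsFrobeniusComplement H := by
    refine ⟨fun e => ?_, fun e => ?_, fun g hg => (Subgroup.eq_bot_iff_forall _).mpr fun x hx => ?_⟩
    · rw [e, Subgroup.card_bot] at hHc; omega
    · rw [e, Subgroup.card_top, hcod] at hHc
      exact absurd hHc (by nlinarith [hp.two_le])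
    obtain ⟨hxH, hxg⟩ := hx
    obtain ⟨w, hw, rfl⟩ := Subgroup.mem_map.mp hxg
    change g * w * g⁻¹ ∈ H at hxH
    change g * w * g⁻¹ = 1
    obtain ⟨⟨⟨z, hz⟩, ⟨h, hh⟩⟩, hg'⟩ := hH.2 g
    change z * h = g at hg'
    set y := h * w * h⁻¹ with hy
    have hyH : y ∈ H := H.mul_mem (H.mul_mem hh hw) (H.inv_mem hh)
    have hzy : z * y * z⁻¹ ∈ H := by
      convert hxH using 1
      rw [← hg', hy]; group
    have hc : z * y * z⁻¹ * y⁻¹ = 1 := by
      refine Subgroup.mem_bot.mp (hH.disjoint.le_bot ⟨?_, H.mul_mem hzy (H.inv_mem hyH)⟩)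
      have h2 := hPn.conj_mem z⁻¹ (P.inv_mem hz) y
      have h3 := P.mul_mem hz h2
      rw [show z * y * z⁻¹ * y⁻¹ = z * (y * z⁻¹ * y⁻¹) by group]
      exact h3
    have hz1 : z ≠ 1 := fun e => hg (by rw [← hg', e, one_mul]; exact hh)
    have hyz : y * z = z * y := by
      rw [mul_inv_eq_one, mul_inv_eq_iff_eq_mul] at hc
      exact hc.symm
    have hyP : y ∈ P := centralizer_eq hp χ hcod hlt P hP fun u hu => by
      have hu' : (⟨u, hu⟩ : P) ∈ Subgroup.zpowers (⟨z, hz⟩ : P) :=
        mem_zpowers_of_prime_card hP (fun e => hz1 (congrArg Subtype.val e))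
      obtain ⟨k, hk⟩ := Subgroup.mem_zpowers_iff.mp hu'
      rw [show u = z ^ k from congrArg Subtype.val hk.symm]
      exact (Commute.zpow_right hyz k).eq
    have hy1 : y = 1 := Subgroup.mem_bot.mp (hH.disjoint.le_bot ⟨hyP, hyH⟩)
    have hw1 : w = 1 := conj_eq_one_iff.mp hy1
    rw [hw1, mul_one, mul_inv_cancel]
  refine ⟨H, hFC, ?_⟩
  obtain ⟨N, hN, -, hNc⟩ := S0035.result H hFC
  rw [← hN]
  show Nat.card N = p
  have h := hNc.card_mul
  rw [hHc, hcod] at h
  exact Nat.eq_of_mul_eq_mul_right hd0 h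

end Cfsg.Agent.S4796
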