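import Cfsg.Statements.S4797
import Cfsg.Agent.Lib.ClassSum.Codegree

set_option autoImplicit false
open Cfsg

namespace Cfsg.Agent.S4797

theorem perfect_no_prime {H : Type*} [Group H] [Finite H] (hH : commutator H = ⊤) {p : ℕ}
    (hp : p.Prime) (χ : Cfsg.IrrCharacter H)
    (hfaith : ∀ g : H, (χ : H → ℂ) g = (χ : H → ℂ) 1 → g = 1)
    (hcard : Nat.card H = p * CT.deg (χ : H → ℂ)) : False := by
  classical
  haveI := Fintype.ofFinite H
  haveI := Fact.mk hp
  obtain ⟨hlt, P, hPn, hP⟩ := ClassSum.exists_normal_of_card_eq_prime_mul hp χ hfaith hcard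
  haveI := hPn
  haveI : IsCyclic P := isCyclic_of_prime_card hP
  have htriv : ∀ {A : Type} [CommGroup A] (f : H →* A) (h : H), f h = 1 := fun f h =>
    MonoidHom.mem_ker.mp (Abelianization.commutator_subset_ker f (hH ▸ Subgroup.mem_top h))
  have hcent : ∀ (h : H) (z : P), h * z * h⁻¹ = z := by
    intro h z
    have e := htriv ((IsCyclic.mulAutMulEquiv P).toMonoidHom.comp
      (MulAut.conjNormal (H := P))) h
    rw [MonoidHom.comp_apply, MulEquiv.coe_toMonoidHom, MulEquiv.map_eq_one_iff] at e
    have := congrArg (fun f : MulAut P => ((f z : P) : H)) e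
    simpa using this
  haveI : Nontrivial P := Finite.one_lt_card_iff_nontrivial.mp (hP ▸ hp.one_lt)
  obtain ⟨z, hz⟩ := exists_ne (1 : P)
  obtain ⟨m, ρ, hρ, hchar⟩ := χ.2
  haveI := hρ
  have hsc := CT.eq_scalar_of_commute ρ (ρ z) fun h => by
    rw [← map_mul, ← map_mul]
    conv_lhs => rw [← hcent h z]
    simp [mul_assoc]
  set ω := LinearMap.trace ℂ (Fin m → ℂ) (ρ z) / (Module.finrank ℂ (Fin m → ℂ) : ℂ)
  have hmd : m = CT.deg (χ : H → ℂ) := by
    rw [← hchar, CT.deg_eq_finrank]
    simp
  have h1 : ω ^ m = 1 := by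
    have e := congrArg Units.val (htriv ((LinearMap.det : Module.End ℂ (Fin m → ℂ) →* ℂ).comp
      ρ).toHomUnits (z : H))
    simp only [MonoidHom.coe_toHomUnits, MonoidHom.coe_comp, Function.comp_apply, Units.val_one] at e
    rw [hsc, LinearMap.det_smul, LinearMap.det_id, mul_one, Module.finrank_fin_fun] at e
    exact e
  have h2 : ω ^ p = 1 := by
    have e : ρ z ^ p = 1 := by
      rw [← map_pow, ← Subgroup.coe_pow]
      have : z ^ p = 1 := by rw [← hP, pow_card_eq_one']
      rw [this, Subgroup.coe_one, map_one]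
    rw [hsc, smul_pow, ← Module.End.one_eq_id, one_pow] at e
    have hm0 : 0 < m := hmd ▸ CT.deg_pos χ.2
    have := congrFun (LinearMap.congr_fun e (fun _ => 1)) (⟨0, hm0⟩ : Fin m)
    simpa using this
  have hω : ω = 1 := by
    have hco : Nat.Coprime m p := by
      rw [Nat.coprime_comm, hp.coprime_iff_not_dvd, hmd]
      exact fun h => absurd (Nat.le_of_dvd (CT.deg_pos χ.2) h) (not_le.mpr hlt)
    simpa [hco.gcd_eq_one] using (pow_gcd_eq_one (a := ω) (m := m) (n := p)).mpr ⟨h1, h2⟩
  refine hz (Subtype.ext (hfaith z ?_))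
  rw [← hchar]
  exact (CT.rep_eq_one_iff ρ _).mp (by rw [hsc, hω, one_smul, Module.End.one_eq_id])

/-- The codegree of an irreducible complex character χ of a finite group G is [G : ker χ] / χ(1), where ker χ is the set of elements at which χ takes the value χ(1). A non-trivial finite group is perfect if and only if no irreducible complex character of it has prime codegree. -/
theorem result {G : Type*} [Group G] [Finite G] [Nontrivial G] : commutator G = ⊤ ↔ ∀ χ : Cfsg.IrrCharacter G, ¬ ((Nat.card G / (Nat.card {g : G // (χ : G → ℂ) g = (χ : G → ℂ) 1} * Cfsg.charDegree (χ : G → ℂ)))).Prime := by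
  classical
  haveI := Fintype.ofFinite G
  show _ ↔ ∀ χ : Cfsg.IrrCharacter G, ¬ (ClassSum.codeg (χ : G → ℂ)).Prime
  refine ⟨fun hperf χ hprime => ?_, fun h => ?_⟩
  · have hc := CT.isCharacter_of_isIrr χ.2
    haveI := ClassSum.kerChar_normal hc
    obtain ⟨ψ, hψ, he⟩ := CT.exists_quotient_irr χ.2 (CT.kerChar (χ : G → ℂ))
      fun n hn => (CT.mem_kerChar_iff hc).mp hn
    haveI := Fintype.ofFinite (G ⧸ CT.kerChar (χ : G → ℂ))
    have hd : CT.deg ψ = CT.deg (χ : G → ℂ) := by
      unfold CT.deg
      rw [← he 1, QuotientGroup.mk_one]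
    refine perfect_no_prime ?_ hprime ⟨ψ, hψ⟩ (fun q hq => ?_) ?_
    · rw [← top_le_iff]
      intro q _
      induction q using QuotientGroup.induction_on with | _ g =>
      have hg : g ∈ commutator G := hperf ▸ Subgroup.mem_top g
      have := Subgroup.mem_map_of_mem (QuotientGroup.mk' (CT.kerChar (χ : G → ℂ))) hg
      rw [map_commutator_eq, MonoidHom.range_eq_top.mpr (QuotientGroup.mk'_surjective _)] at this
      simpa [commutator_def] using this
    · induction q using QuotientGroup.induction_on with | _ g =>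
      change ψ _ = ψ _ at hq
      rw [← QuotientGroup.mk_one, he g, he 1] at hq
      exact (QuotientGroup.eq_one_iff g).mpr ((CT.mem_kerChar_iff hc).mpr hq)
    · show _ = _ * CT.deg ψ
      rw [hd, ← Subgroup.index_eq_card, ClassSum.codeg_mul_deg χ]
  · by_contra hne
    have hidx : 1 < (commutator G).index := by
      have h0 := (commutator G).index_ne_zero_of_finite
      have h1 : (commutator G).index ≠ 1 := fun e => hne (Subgroup.index_eq_one.mp e)
      omega
    rw [← CT.card_linear_irr] at hidx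
    haveI : Nontrivial {χ : Cfsg.IrrCharacter G // (χ : G → ℂ) 1 = 1} :=
      Finite.one_lt_card_iff_nontrivial.mp hidx
    obtain ⟨⟨χ, h1⟩, hχne⟩ := exists_ne
      (⟨CT.trivIrr G, rfl⟩ : {χ : Cfsg.IrrCharacter G // (χ : G → ℂ) 1 = 1})
    obtain ⟨lam, hlam⟩ := CT.exists_hom_of_degree_one (CT.isCharacter_of_isIrr χ.2) h1
    have hr : Nat.card lam.range ≠ 1 := by
      intro e
      refine hχne (Subtype.ext (Subtype.ext (funext fun g => ?_)))
      haveI : Subsingleton lam.range := (Nat.card_eq_one_iff_unique.mp e).1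
      have : (⟨lam g, g, rfl⟩ : lam.range) = 1 := Subsingleton.elim _ _
      simp [hlam, show lam g = 1 from congrArg Subtype.val this]
    obtain ⟨q, hq, hqd⟩ := Nat.exists_prime_and_dvd hr
    set n := Nat.card lam.range with hn
    haveI : IsCyclic lam.range := inferInstance
    obtain ⟨⟨_, g, rfl⟩, hgen⟩ := IsCyclic.exists_generator (α := lam.range)
    have hord : orderOf (lam g) = n := by
      rw [hn, ← orderOf_eq_card_of_forall_mem_zpowers hgen]
      exact Subgroup.orderOf_coe (⟨lam g, g, rfl⟩ : lam.range)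
    let mu : G →* ℂˣ := (powMonoidHom (n / q)).comp lam
    have hmu : Nat.card mu.range = q := by
      have hrange : mu.range = Subgroup.zpowers (mu g) := by
        refine le_antisymm ?_ (Subgroup.zpowers_le.mpr ⟨g, rfl⟩)
        rintro _ ⟨x, rfl⟩
        obtain ⟨k, hk⟩ := Subgroup.mem_zpowers_iff.mp (hgen ⟨lam x, x, rfl⟩)
        refine Subgroup.mem_zpowers_iff.mpr ⟨k, ?_⟩
        have hk' : lam g ^ k = lam x := congrArg Subtype.val hk
        simp only [mu, MonoidHom.comp_apply, powMonoidHom_apply, ← hk']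
        rw [← zpow_natCast, ← zpow_natCast, ← zpow_mul, ← zpow_mul, mul_comm]
      rw [hrange, Nat.card_zpowers]
      show orderOf (lam g ^ (n / q)) = q
      rw [← hord]
      exact orderOf_pow_orderOf_div (by rw [hord]; exact Nat.card_pos.ne') (hord.symm ▸ hqd)
    refine h (CT.linIrr mu) ?_
    have hdeg : CT.deg (CT.linIrr mu : G → ℂ) = 1 := by simp [CT.deg, CT.linIrr]
    have hker : CT.kerChar (CT.linIrr mu : G → ℂ) = mu.ker := by
      ext x
      rw [CT.mem_kerChar_iff (CT.isCharacter_of_isIrr (CT.linIrr mu).2)]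
      simp [CT.linIrr]
    rw [ClassSum.codeg_eq, hdeg, Nat.div_one, hker, Subgroup.index_ker, hmu]
    exact hq

end Cfsg.Agent.S4797
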