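import Cfsg.Statements.S4798
import Cfsg.Agent.Lib.ClassSum.Basic
import Cfsg.Agent.Lib.CT.Clifford
import Cfsg.Agent.Lib.CT.Induced

set_option autoImplicit false
open Cfsg

namespace Cfsg.Agent.S4798

/-- Let p be a prime and χ a faithful irreducible complex character of the finite group G (χ(g) = χ(1) only for g = 1), so that its codegree is #G / χ(1). Then #G / χ(1) is a power of p if and only if χ is induced from a character of a Sylow p-subgroup of G. -/
theorem result {G : Type*} [Group G] [Fintype G] (p : ℕ) [Fact p.Prime] (χ : Cfsg.IrrCharacter G) (hfaith : ∀ g : G, (χ : G → ℂ) g = (χ : G → ℂ) 1 → g = 1) : (∃ k : ℕ, Nat.card G = p ^ k * Cfsg.charDegree (χ : G → ℂ)) ↔ ∃ (P : Sylow p G) (θ : ↥(P : Subgroup G) → ℂ), Cfsg.IsCharacter ↥(P : Subgroup G) θ ∧ (χ : G → ℂ) = Cfsg.indFun (P : Subgroup G) θ := by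
  classical
  have hp : p.Prime := Fact.out
  set d := CT.deg (χ : G → ℂ) with hd
  show (∃ k : ℕ, Nat.card G = p ^ k * d) ↔ _
  have hd0 : 0 < d := CT.deg_pos χ.2
  have hdC : (χ : G → ℂ) 1 = (d : ℂ) := CT.deg_eq (CT.isCharacter_of_isIrr χ.2)
  constructor
  · rintro ⟨k, hk⟩
    obtain ⟨P⟩ := (inferInstance : Nonempty (Sylow p G))
    haveI := Fintype.ofFinite (P : Subgroup G)
    obtain ⟨a, ha⟩ := P.2.exists_card_eq
    have hndvd : ¬ p ∣ (P : Subgroup G).index := P.not_dvd_index
    set n := (P : Subgroup G).index with hn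
    have hn0 : 0 < n := Nat.pos_of_ne_zero (P : Subgroup G).index_ne_zero_of_finite
    have hnd : n ∣ d := by
      refine (Nat.Coprime.pow_right k
        ((hp.coprime_iff_not_dvd.mpr hndvd).symm)).dvd_of_dvd_mul_left ?_
      rw [← hk]
      exact Subgroup.index_dvd_card _
    obtain ⟨c, hc⟩ := hnd
    obtain ⟨v, hv⟩ : ∃ v : ℕ, c = p ^ v := by
      have h1 : c ∣ Nat.card (P : Subgroup G) := by
        refine Nat.dvd_of_mul_dvd_mul_left hn0 ?_
        rw [← hc, mul_comm n, (P : Subgroup G).card_mul_index, hd]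
        exact ClassSum.degree_dvd_card χ
      rw [ha] at h1
      obtain ⟨v, -, hv⟩ := (Nat.dvd_prime_pow hp).mp h1
      exact ⟨v, hv⟩
    have hres : IsCharacter ↥(P : Subgroup G) (fun x : (P : Subgroup G) => (χ : G → ℂ) x) :=
      CT.isCharacter_restrict _ (CT.isCharacter_of_isIrr χ.2)
    obtain ⟨θ, hθ, hθle⟩ : ∃ θ : Cfsg.IrrCharacter ↥(P : Subgroup G),
        classInner (fun x : (P : Subgroup G) => (χ : G → ℂ) x) θ ≠ 0 ∧
          CT.deg (θ : ↥(P : Subgroup G) → ℂ) ≤ c := by
      by_contra hcon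
      push Not at hcon
      have hall : ∀ θ : Cfsg.IrrCharacter ↥(P : Subgroup G),
          p * c ∣ CT.mult (fun x : (P : Subgroup G) => (χ : G → ℂ) x) θ *
            CT.deg (θ : ↥(P : Subgroup G) → ℂ) := by
        intro θ
        by_cases h0 : classInner (fun x : (P : Subgroup G) => (χ : G → ℂ) x) θ = 0
        · rw [CT.mult_spec hres (CT.isCharacter_of_isIrr θ.2), Nat.cast_eq_zero] at h0
          simp [h0]
        · refine Dvd.dvd.mul_left ?_ _
          have h1 := hcon θ h0
          have h2 := ClassSum.degree_dvd_card θ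
          rw [ha] at h2
          obtain ⟨j, -, hj⟩ := (Nat.dvd_prime_pow hp).mp h2
          rw [hj, hv] at h1
          rw [hj, hv, ← pow_succ']
          exact pow_dvd_pow p ((Nat.pow_lt_pow_iff_right hp.one_lt).mp h1)
      have hsum : d = ∑ θ : Cfsg.IrrCharacter ↥(P : Subgroup G),
          CT.mult (fun x : (P : Subgroup G) => (χ : G → ℂ) x) θ *
            CT.deg (θ : ↥(P : Subgroup G) → ℂ) := by
        have h := congrFun (CT.character_eq_sum hres) 1
        simp only [Finset.sum_apply, Pi.smul_apply, smul_eq_mul, OneMemClass.coe_one, hdC,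
          fun θ : Cfsg.IrrCharacter ↥(P : Subgroup G) =>
            CT.deg_eq (CT.isCharacter_of_isIrr θ.2)] at h
        exact_mod_cast h
      have h3 : p * c ∣ d := hsum ▸ Finset.dvd_sum fun θ _ => hall θ
      rw [hc] at h3
      have hc0 : 0 < c := hv ▸ pow_pos hp.pos v
      exact hndvd (Nat.dvd_of_mul_dvd_mul_right hc0 h3)
    refine ⟨P, θ, CT.isCharacter_of_isIrr θ.2,
      (CT.eq_of_deg_le (CT.isCharacter_indFun _ (CT.isCharacter_of_isIrr θ.2)) χ.2 ?_ ?_).symm⟩
    · rw [CT.frobenius_reciprocity _ _ (CT.isClassFunction_of_isIrr χ.2),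
        CT.classInner_comm_of_char (CT.isCharacter_of_isIrr θ.2) hres]
      exact hθ
    · have : CT.deg (indFun (P : Subgroup G) (θ : ↥(P : Subgroup G) → ℂ)) =
          n * CT.deg (θ : ↥(P : Subgroup G) → ℂ) := by
        have h1 := CT.indFun_one_eval (P : Subgroup G) (θ : ↥(P : Subgroup G) → ℂ)
        rw [CT.deg_eq (CT.isCharacter_indFun _ (CT.isCharacter_of_isIrr θ.2)),
          CT.deg_eq (CT.isCharacter_of_isIrr θ.2)] at h1
        exact_mod_cast h1
      rw [this, ← hd, hc]
      exact Nat.mul_le_mul_left n hθle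
  · rintro ⟨P, θ, hθ, heq⟩
    haveI := Fintype.ofFinite (P : Subgroup G)
    have hdn : d = (P : Subgroup G).index * CT.deg θ := by
      have h1 := CT.indFun_one_eval (P : Subgroup G) θ
      rw [← heq, hdC, CT.deg_eq hθ] at h1
      exact_mod_cast h1
    have h2 := ClassSum.degree_dvd_card χ
    rw [← hd, hdn, ← (P : Subgroup G).card_mul_index, mul_comm (Nat.card _)] at h2
    obtain ⟨a, ha⟩ := P.2.exists_card_eq
    have h3 := Nat.dvd_of_mul_dvd_mul_left
      (Nat.pos_of_ne_zero (P : Subgroup G).index_ne_zero_of_finite) h2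
    rw [ha] at h3
    obtain ⟨j, hj, hj'⟩ := (Nat.dvd_prime_pow hp).mp h3
    refine ⟨a - j, ?_⟩
    rw [← (P : Subgroup G).card_mul_index, ha, hdn, hj', ← mul_assoc, mul_right_comm,
      ← pow_add, Nat.sub_add_cancel hj]

end Cfsg.Agent.S4798
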