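import Cfsg.Statements.S4801
import Cfsg.Agent.Lib.ClassSum.Codegree

set_option autoImplicit false
open Cfsg

namespace Cfsg.Agent.S4801

/-- The codegree of an irreducible complex character χ of a finite group G is [G : ker χ] / χ(1), where ker χ is the set of elements at which χ takes the value χ(1). Let S be a finite simple group and G a finite group such that every codegree of an irreducible character of S is a codegree of an irreducible character of G. Then the order of S divides the order of G. -/
theorem result {S : Type*} [Group S] [Finite S] (hS : IsSimpleGroup S) {G : Type*} [Group G] [Finite G] (hsub : ∀ χ : Cfsg.IrrCharacter S, ∃ ψ : Cfsg.IrrCharacter G, (Nat.card S / (Nat.card {g : S // (χ : S → ℂ) g = (χ : S → ℂ) 1} * Cfsg.charDegree (χ : S → ℂ))) = (Nat.card G / (Nat.card {g : G // (ψ : G → ℂ) g = (ψ : G → ℂ) 1} * Cfsg.charDegree (ψ : G → ℂ)))) : Nat.card S ∣ Nat.card G := by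
  classical
  haveI := hS
  refine (Nat.factorization_le_iff_dvd Nat.card_pos.ne' Nat.card_pos.ne').mp fun p => ?_
  by_cases hp : p.Prime; swap
  · simp [Nat.factorization_eq_zero_of_not_prime _ hp]
  by_cases hpS : p ∣ Nat.card S; swap
  · simp [Nat.factorization_eq_zero_of_not_dvd hpS]
  obtain ⟨χ, hχ1, hχp⟩ := ClassSum.exists_ne_triv_not_dvd_deg hp hpS
  have hc := CT.isCharacter_of_isIrr χ.2
  haveI := ClassSum.kerChar_normal hc
  have hker : CT.kerChar (χ : S → ℂ) = ⊥ := by
    refine (Subgroup.Normal.eq_bot_or_eq_top (‹(CT.kerChar (χ : S → ℂ)).Normal›)).resolve_right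
      fun htop => hχ1 ?_
    haveI := Fintype.ofFinite S
    have hconst : ∀ g, (χ : S → ℂ) g = (χ : S → ℂ) 1 := fun g =>
      (CT.mem_kerChar_iff hc).mp (htop ▸ Subgroup.mem_top g)
    refine Subtype.ext (CT.eq_of_inner_ne_zero χ.2 (CT.trivIrr S).2 ?_)
    simp only [classInner, CT.trivIrr_apply, map_one, mul_one, hconst, Finset.sum_const,
      Finset.card_univ, nsmul_eq_mul, Nat.card_eq_fintype_card]
    rw [inv_mul_cancel_left₀ (Nat.cast_ne_zero.mpr Fintype.card_ne_zero)]
    exact CT.irr_one_ne_zero χ.2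
  have hm := ClassSum.codeg_mul_deg χ
  rw [hker, Subgroup.index_bot] at hm
  obtain ⟨ψ, hψ⟩ := hsub χ
  have h1 : ClassSum.codeg (χ : S → ℂ) ∣ Nat.card G := by
    rw [show ClassSum.codeg (χ : S → ℂ) = ClassSum.codeg (ψ : G → ℂ) from hψ]
    exact ClassSum.codeg_dvd_card ψ
  calc (Nat.card S).factorization p = (ClassSum.codeg (χ : S → ℂ)).factorization p := by
        rw [← hm, Nat.factorization_mul (ClassSum.codeg_pos χ).ne' (CT.deg_pos χ.2).ne',
          Finsupp.add_apply, Nat.factorization_eq_zero_of_not_dvd hχp, add_zero]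
    _ ≤ _ := (Nat.factorization_le_iff_dvd (ClassSum.codeg_pos χ).ne' Nat.card_pos.ne').mpr h1 p

end Cfsg.Agent.S4801
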