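import Cfsg.Statements.S4802
import Cfsg.Agent.Lib.CT.Kernel

set_option autoImplicit false
open Cfsg

namespace Cfsg.Agent.S4802

/-- Let N < M be normal subgroups of the finite group G and g ∈ M ∖ N. Then the conjugacy class of g is exactly M ∖ N if and only if every irreducible complex character of G whose kernel contains N takes the same value at all elements of M ∖ N, and every irreducible complex character of G whose kernel does not contain N vanishes at g. -/
theorem result {G : Type*} [Group G] [Finite G] (N M : Subgroup G) [N.Normal] [M.Normal] (hNM : N < M) (g : G) (hgM : g ∈ M) (hgN : g ∉ N) : {h : G | IsConj g h} = (M : Set G) \ (N : Set G) ↔ ((∀ χ : Cfsg.IrrCharacter G, (∀ x ∈ N, (χ : G → ℂ) x = (χ : G → ℂ) 1) → ∀ x ∈ M, x ∉ N → ∀ y ∈ M, y ∉ N → (χ : G → ℂ) x = (χ : G → ℂ) y) ∧ (∀ χ : Cfsg.IrrCharacter G, (∃ x ∈ N, (χ : G → ℂ) x ≠ (χ : G → ℂ) 1) → (χ : G → ℂ) g = 0)) := by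
  classical
  haveI := Fintype.ofFinite G
  constructor
  · intro heq
    have hconj : ∀ x ∈ M, x ∉ N → IsConj g x := fun x hx hxN => by
      have : x ∈ (M : Set G) \ (N : Set G) := ⟨hx, hxN⟩
      rwa [← heq] at this
    refine ⟨fun χ _ x hx hxN y hy hyN => ?_, fun χ hχ => ?_⟩
    · exact CT.isClassFunction_isConj (CT.isClassFunction_of_isIrr χ.2)
        ((hconj x hx hxN).symm.trans (hconj y hy hyN))
    · obtain ⟨m, ρ, hρ, hchar⟩ := χ.2
      obtain ⟨x, hxN, hx⟩ := hχ
      -- the sum over N kills the representation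
      let T : Module.End ℂ (Fin m → ℂ) := ∑ n : N, ρ n
      have hTN : ∀ n : N, ρ n * T = T := fun n => by
        simp only [T, Finset.mul_sum, ← map_mul]
        exact Fintype.sum_equiv (Equiv.mulLeft n) _ _ fun k => rfl
      have hT : ∀ c, T * ρ c = ρ c * T := fun c => by
        simp only [T, Finset.mul_sum, Finset.sum_mul, ← map_mul]
        refine Fintype.sum_equiv (MulAut.conjNormal (H := N) c⁻¹).toEquiv _ _ fun k => ?_
        congr 1
        simp [mul_assoc]
      have hT0 : T = 0 := by
        rw [CT.eq_scalar_of_commute ρ T hT]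
        by_contra hne
        set s := LinearMap.trace ℂ (Fin m → ℂ) T / (Module.finrank ℂ (Fin m → ℂ) : ℂ) with hs
        have hs0 : s ≠ 0 := fun h => hne (by rw [h, zero_smul])
        have h1 : ρ x * T = T := hTN ⟨x, hxN⟩
        rw [CT.eq_scalar_of_commute ρ T hT, ← hs] at h1
        have h2 : ρ x = 1 := by
          refine LinearMap.ext fun v => ?_
          have := LinearMap.congr_fun h1 (s⁻¹ • v)
          simpa [hs0] using this
        exact hx (by rw [← hchar]; simp [Representation.character, h2])
      have h0 : ∑ n : N, (χ : G → ℂ) (g * n) = 0 := by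
        have := congrArg (fun S => LinearMap.trace ℂ (Fin m → ℂ) (ρ g * S)) hT0
        simp only [T, Finset.mul_sum, map_sum, ← map_mul, mul_zero, map_zero] at this
        rw [← hchar]
        exact this
      have h1 : ∀ n : N, (χ : G → ℂ) (g * n) = (χ : G → ℂ) g := fun n => by
        refine (CT.isClassFunction_isConj (CT.isClassFunction_of_isIrr χ.2) (hconj _ ?_ ?_)).symm
        · exact M.mul_mem hgM (hNM.le n.2)
        · exact fun h => hgN (by simpa using N.mul_mem h (N.inv_mem n.2))
      rw [Finset.sum_congr rfl fun n _ => h1 n, Finset.sum_const, nsmul_eq_mul, mul_eq_zero,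
        Nat.cast_eq_zero] at h0
      exact h0.resolve_left (Finset.card_ne_zero.mpr ⟨1, Finset.mem_univ _⟩)
  · rintro ⟨hin, hout⟩
    refine Set.ext fun y => ⟨fun hy => ?_, fun hy => ?_⟩
    · obtain ⟨c, rfl⟩ := isConj_iff.mp hy
      refine ⟨‹M.Normal›.conj_mem g hgM c, fun h => hgN ?_⟩
      have := ‹N.Normal›.conj_mem _ h c⁻¹
      simpa [mul_assoc] using this
    · by_contra hne
      have h1 := CT.column_orthogonality g y
      have hne' : ¬ IsConj g y := hne
      rw [if_neg hne'] at h1
      have h2 : ∀ χ : Cfsg.IrrCharacter G, (χ : G → ℂ) g * (starRingEnd ℂ) ((χ : G → ℂ) y) =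
          ((‖(χ : G → ℂ) g‖ ^ 2 : ℝ) : ℂ) := by
        intro χ
        by_cases h : ∀ x ∈ N, (χ : G → ℂ) x = (χ : G → ℂ) 1
        · rw [← hin χ h g hgM hgN y hy.1 hy.2, Complex.mul_conj']
          push_cast
          rfl
        · push Not at h
          rw [hout χ h]
          simp
      rw [Finset.sum_congr rfl fun χ _ => h2 χ, ← Complex.ofReal_sum, Complex.ofReal_eq_zero,
        Finset.sum_eq_zero_iff_of_nonneg fun χ _ => sq_nonneg _] at h1
      have := h1 (CT.trivIrr G) (Finset.mem_univ _)
      simp at this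

end Cfsg.Agent.S4802
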