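import Cfsg.Statements.S4808
import Cfsg.Agent.Lib.ClassSum.Codegree
import Cfsg.Agent.Lib.ClassSum.Vanish

set_option autoImplicit false
open Cfsg

namespace Cfsg.Agent.S4808

/-- The codegree of an irreducible complex character χ of a finite group G is [G : ker χ] / χ(1), where ker χ is the set of elements at which χ takes the value χ(1). A prime divides the order of G if and only if it divides the codegree of some irreducible complex character of G. -/
theorem result {G : Type*} [Group G] [Finite G] (p : ℕ) (hp : p.Prime) : p ∣ Nat.card G ↔ ∃ χ : Cfsg.IrrCharacter G, p ∣ (Nat.card G / (Nat.card {g : G // (χ : G → ℂ) g = (χ : G → ℂ) 1} * Cfsg.charDegree (χ : G → ℂ))) := by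
  classical
  haveI := Fintype.ofFinite G
  haveI := Fact.mk hp
  show _ ↔ ∃ χ : Cfsg.IrrCharacter G, p ∣ ClassSum.codeg (χ : G → ℂ)
  refine ⟨fun h => ?_, fun ⟨χ, h⟩ => h.trans (ClassSum.codeg_dvd_card χ)⟩
  by_contra hcon
  push Not at hcon
  obtain ⟨g, hg⟩ := exists_prime_orderOf_dvd_card' (G := G) p h
  have hg1 : g ≠ 1 := fun e => by
    rw [e, orderOf_one] at hg
    exact hp.one_lt.ne hg
  have hval : ∀ χ : Cfsg.IrrCharacter G,
      (χ : G → ℂ) g = (χ : G → ℂ) 1 ∨ (χ : G → ℂ) g = 0 := by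
    intro χ
    have hc := CT.isCharacter_of_isIrr χ.2
    by_cases hK : g ∈ CT.kerChar (χ : G → ℂ)
    · exact Or.inl ((CT.mem_kerChar_iff hc).mp hK)
    right
    haveI := ClassSum.kerChar_normal hc
    obtain ⟨ψ, hψ, he⟩ := CT.exists_quotient_irr χ.2 (CT.kerChar (χ : G → ℂ))
      fun n hn => (CT.mem_kerChar_iff hc).mp hn
    rw [← he g]
    refine ClassSum.char_eq_zero_of_defZero hp (⟨ψ, hψ⟩ : Cfsg.IrrCharacter _) ?_ ?_
    · have hd : CT.deg ψ = CT.deg (χ : G → ℂ) := by
        unfold CT.deg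
        rw [← he 1, QuotientGroup.mk_one]
      show p ^ _ ∣ CT.deg ψ
      rw [hd, ← Subgroup.index_eq_card]
      exact (Nat.Coprime.pow_left _ (hp.coprime_iff_not_dvd.mpr (hcon χ))).dvd_of_dvd_mul_left
        ((ClassSum.codeg_mul_deg χ).symm ▸ Nat.ordProj_dvd _ p)
    · have hne : (QuotientGroup.mk g : G ⧸ CT.kerChar (χ : G → ℂ)) ≠ 1 := fun e =>
        hK ((QuotientGroup.eq_one_iff g).mp e)
      rw [orderOf_eq_prime (p := p) (by rw [← QuotientGroup.mk_pow, ← hg, pow_orderOf_eq_one,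
        QuotientGroup.mk_one]) hne]
  have hsum := (CT.regular_eq_sum g).trans (if_neg hg1)
  let t : Cfsg.IrrCharacter G → ℕ := fun χ =>
    if (χ : G → ℂ) g = (χ : G → ℂ) 1 then CT.deg (χ : G → ℂ) ^ 2 else 0
  have ht : ((∑ χ, t χ : ℕ) : ℂ) = 0 := by
    rw [← hsum, Nat.cast_sum]
    refine Finset.sum_congr rfl fun χ _ => ?_
    simp only [t]
    split_ifs with h1
    · rw [h1, CT.deg_eq (CT.isCharacter_of_isIrr χ.2)]
      push_cast
      ring
    · rw [(hval χ).resolve_left h1, mul_zero, Nat.cast_zero]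
  have h0 := Finset.sum_eq_zero_iff.mp (Nat.cast_eq_zero.mp ht) (CT.trivIrr G) (Finset.mem_univ _)
  simp [t, CT.deg] at h0

end Cfsg.Agent.S4808
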