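import Cfsg.Statements.S4811
import Cfsg.Agent.Lib.CT.PalfyThree

set_option autoImplicit false
open Cfsg

namespace Cfsg.Agent.S4811

/-- For every finite solvable group G the character degree graph of G (vertices: the primes dividing some irreducible complex character degree; edges: distinct primes whose product divides some degree) has at most two connected components. -/
theorem result {G : Type*} [Group G] [Finite G] [Group.IsSolvable G] : Nat.card ((Cfsg.degreeGraph G).induce (Cfsg.degreePrimes G)).ConnectedComponent ≤ 2 := by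
  classical
  by_contra hno
  push Not at hno
  set Γ := (Cfsg.degreeGraph G).induce (Cfsg.degreePrimes G)
  haveI : Finite Γ.ConnectedComponent := Nat.finite_of_card_ne_zero (by omega)
  haveI := Fintype.ofFinite Γ.ConnectedComponent
  rw [Nat.card_eq_fintype_card, ← Finset.card_univ, Finset.two_lt_card] at hno
  obtain ⟨A, -, B, -, C, -, hAB, hAC, hBC⟩ := hno
  obtain ⟨a, rfl⟩ := Quot.exists_rep A
  obtain ⟨b, rfl⟩ := Quot.exists_rep B
  obtain ⟨c, rfl⟩ := Quot.exists_rep C
  have rho : ∀ x : Cfsg.degreePrimes G, Cfsg.Agent.CT.Palfy.InRho G (x : ℕ) := fun x => by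
    obtain ⟨d, ⟨χ, hχ⟩, hd⟩ := x.2.2
    exact ⟨χ, hχ.symm ▸ hd⟩
  have key : ∀ x y : Cfsg.degreePrimes G, Γ.connectedComponentMk x ≠ Γ.connectedComponentMk y →
      Cfsg.Agent.CT.Palfy.NAdj G (x : ℕ) (y : ℕ) := fun x y hne χ hd => by
    refine hne (SimpleGraph.ConnectedComponent.sound (SimpleGraph.Adj.reachable ?_))
    exact ⟨fun e => hne (congrArg _ (Subtype.ext e)), x.2.1, y.2.1, _, ⟨χ, rfl⟩, hd⟩
  have ne : ∀ x y : Cfsg.degreePrimes G, Γ.connectedComponentMk x ≠ Γ.connectedComponentMk y →
      (x : ℕ) ≠ (y : ℕ) := fun x y h e => h (congrArg _ (Subtype.ext e))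
  exact Cfsg.Agent.CT.Palfy.three _ G le_rfl a b c a.2.1 b.2.1 c.2.1 (ne a b hAB) (ne b c hBC)
    (ne a c hAC) (rho a) (rho b) (rho c) (key a b hAB) (key a c hAC) (key b c hBC)

end Cfsg.Agent.S4811
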