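import Cfsg.Statements.S4812
import Cfsg.Agent.Lib.SL2.Degrees

set_option autoImplicit false
set_option linter.all false
open Cfsg

namespace Cfsg.Agent.S4812

/-- Let F be a finite field of characteristic 2 with q ≥ 4 elements and let S be isomorphic to PSL(2,F) or to SL(2,F). Then the vertices of the character degree graph of S are the primes dividing q(q²−1), and two distinct primes are adjacent exactly when both divide q + 1 or both divide q − 1; so the graph has the three connected components {2}, the primes dividing q + 1 and the primes dividing q − 1, each complete. -/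
theorem result (F : Type*) [Field F] [Fintype F] [CharP F 2] (q : ℕ) (hq : Fintype.card F = q) (h4 : 4 ≤ q) {S : Type*} [Group S] [Finite S] (hS : Nonempty (S ≃* Matrix.ProjectiveSpecialLinearGroup (Fin 2) F) ∨ Nonempty (S ≃* Matrix.SpecialLinearGroup (Fin 2) F)) : Cfsg.degreePrimes S = {r : ℕ | r.Prime ∧ r ∣ q * (q ^ 2 - 1)} ∧ ∀ r s : ℕ, (Cfsg.degreeGraph S).Adj r s ↔ (r ≠ s ∧ r.Prime ∧ s.Prime ∧ ((r ∣ q + 1 ∧ s ∣ q + 1) ∨ (r ∣ q - 1 ∧ s ∣ q - 1))) := by
  classical
  have h2 : (2 : F) = 0 := CharTwo.two_eq_zero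
  subst hq
  obtain ⟨hd, m1, m2, m3⟩ := SL2.degrees_even (F := F) h2 h4
  obtain ⟨n, hp, hn⟩ := FiniteField.card F 2
  have hsub := SL2.charDegrees_psl_subset (F := F)
  have key : ∀ {D : Set ℕ}, (D = Cfsg.charDegrees S) →
      Cfsg.charDegrees (Matrix.ProjectiveSpecialLinearGroup (Fin 2) F) ⊆ D →
      D ⊆ Cfsg.charDegrees (Matrix.SpecialLinearGroup (Fin 2) F) → _ := fun {D} hD h1 h2' =>
    SL2.graph_of_degrees (S := S) (m := Fintype.card F) hp hn (by omega)
      (fun d hdS => by
        rcases hd d (h2' (hD ▸ hdS)) with h | h | h | h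
        · exact Or.inl (h ▸ one_dvd _)
        · exact Or.inl (h ▸ dvd_rfl)
        · exact Or.inr (Or.inl (h ▸ dvd_rfl))
        · exact Or.inr (Or.inr (h ▸ dvd_rfl)))
      (hD ▸ h1 m1) (hD ▸ h1 m2) (hD ▸ h1 m3)
  rcases hS with ⟨⟨e⟩⟩ | ⟨⟨e⟩⟩
  · exact key (SL2.charDegrees_congr e).symm Set.Subset.rfl hsub
  · exact key (SL2.charDegrees_congr e).symm hsub Set.Subset.rfl

end Cfsg.Agent.S4812
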