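import Cfsg.Statements.S4814
import Cfsg.Agent.Lib.ClassSum.Commutator

set_option autoImplicit false
open Cfsg
open scoped ComplexConjugate

namespace Cfsg.Agent.S4814

/-- Let G be a finite group such that the sum, over the irreducible complex characters χ of G, of 1/χ(1)² is less than 2. Then every element of G is a product of two commutators. -/
theorem result {G : Type*} [Group G] [Finite G]
    (h : ∑ᶠ χ : Cfsg.IrrCharacter G, 1 / ‖(χ : G → ℂ) 1‖ ^ 2 < (2 : ℝ)) (g : G) :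
    ∃ a b c d : G, (a * b * a⁻¹ * b⁻¹) * (c * d * c⁻¹ * d⁻¹) = g := by
  classical
  haveI := Fintype.ofFinite G
  rw [finsum_eq_sum_of_fintype] at h
  by_contra hcon
  push Not at hcon
  let N : G → ℂ := fun w =>
    (Nat.card {xy : G × G // xy.1 * xy.2 * xy.1⁻¹ * xy.2⁻¹ = w} : ℂ)
  have hzero : ∑ w : G, conj (N w) * N (w⁻¹ * g) = 0 := by
    refine Finset.sum_eq_zero fun w _ => ?_
    by_contra hne
    obtain ⟨h1, h2⟩ := mul_ne_zero_iff.mp hne
    have h1' : Nat.card {xy : G × G // xy.1 * xy.2 * xy.1⁻¹ * xy.2⁻¹ = w} ≠ 0 := fun e => h1 (by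
      simp only [N, e, Nat.cast_zero, map_zero])
    have h2' : Nat.card {xy : G × G // xy.1 * xy.2 * xy.1⁻¹ * xy.2⁻¹ = w⁻¹ * g} ≠ 0 := fun e =>
      h2 (by simp only [N, e, Nat.cast_zero, map_zero])
    obtain ⟨⟨⟨a, b⟩, hab⟩⟩ := (Nat.card_ne_zero.mp h1').1
    obtain ⟨⟨⟨c, d⟩, hcd⟩⟩ := (Nat.card_ne_zero.mp h2').1
    change a * b * a⁻¹ * b⁻¹ = w at hab
    change c * d * c⁻¹ * d⁻¹ = w⁻¹ * g at hcd
    exact hcon a b c d (by rw [hab, hcd, mul_inv_cancel_left])
  have hsum : ∑ w : G, conj (N w) * N (w⁻¹ * g) =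
      (Nat.card G : ℂ) ^ 3 *
        ∑ χ : Cfsg.IrrCharacter G, (χ : G → ℂ) g / (χ : G → ℂ) 1 ^ 3 := by
    simp only [N, ClassSum.card_commutator, map_mul, Complex.conj_natCast, map_sum, map_div₀,
      Finset.mul_sum, Finset.sum_mul]
    rw [Finset.sum_comm]
    refine Finset.sum_congr rfl fun χ _ => ?_
    rw [Finset.sum_comm]
    have hone : ∀ φ : Cfsg.IrrCharacter G, conj ((φ : G → ℂ) 1) = (φ : G → ℂ) 1 := fun φ => by
      rw [CT.deg_eq (CT.isCharacter_of_isIrr φ.2), Complex.conj_natCast]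
    calc (∑ ψ : Cfsg.IrrCharacter G, ∑ w : G, (Nat.card G : ℂ) *
          (conj ((ψ : G → ℂ) w) / conj ((ψ : G → ℂ) 1)) *
          ((Nat.card G : ℂ) * ((χ : G → ℂ) (w⁻¹ * g) / (χ : G → ℂ) 1)))
        = ∑ ψ : Cfsg.IrrCharacter G, (Nat.card G : ℂ) ^ 2 / ((ψ : G → ℂ) 1 * (χ : G → ℂ) 1) *
            ∑ v : G, (ψ : G → ℂ) v * (χ : G → ℂ) (v * g) := by
          refine Finset.sum_congr rfl fun ψ _ => ?_
          rw [Finset.mul_sum]
          refine Fintype.sum_equiv (Equiv.inv G) _ _ fun w => ?_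
          simp only [Equiv.inv_apply, hone,
            ← CT.char_inv_eq_conj (CT.isCharacter_of_isIrr ψ.2)]
          ring
      _ = _ := by
          have hval : ∀ ψ : Cfsg.IrrCharacter G,
              ∑ v : G, (ψ : G → ℂ) v * (χ : G → ℂ) (v * g) = if (fun x => conj ((ψ : G → ℂ) x)) =
                (χ : G → ℂ) then (Nat.card G : ℂ) * (χ : G → ℂ) g / (χ : G → ℂ) 1 else 0 := by
            intro ψ
            have hψ' : IsIrrCharacter G (fun x => conj ((ψ : G → ℂ) x)) := by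
              refine CT.isIrr_of_inner_self
                (CT.isCharacter_conj (CT.isCharacter_of_isIrr ψ.2)) ?_
              have := congrArg conj (CT.irr_inner_self ψ.2)
              simpa [classInner] using this
            have h1 := ClassSum.sum_conj_mul_shift (⟨_, hψ'⟩ : Cfsg.IrrCharacter G) χ g
            simp only [Complex.conj_conj, Subtype.ext_iff] at h1
            exact h1
          let ψ₀ : Cfsg.IrrCharacter G := ⟨fun x => conj ((χ : G → ℂ) x), by
            refine CT.isIrr_of_inner_self (CT.isCharacter_conj (CT.isCharacter_of_isIrr χ.2)) ?_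
            have := congrArg conj (CT.irr_inner_self χ.2)
            simpa [classInner] using this⟩
          rw [Finset.sum_eq_single ψ₀ (fun ψ _ hne => by
              rw [hval, if_neg, mul_zero]
              intro e
              refine hne (Subtype.ext (funext fun x => ?_))
              show _ = conj ((χ : G → ℂ) x)
              rw [← e, Complex.conj_conj])
            (fun hh => absurd (Finset.mem_univ _) hh), hval,
            if_pos (funext fun x => Complex.conj_conj _)]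
          simp only [ψ₀, hone]
          ring
  have hG : (Nat.card G : ℂ) ^ 3 ≠ 0 := pow_ne_zero _ (Nat.cast_ne_zero.mpr Nat.card_pos.ne')
  have hS := (mul_eq_zero.mp (hsum.symm.trans hzero)).resolve_left hG
  rw [← Finset.add_sum_erase _ _ (Finset.mem_univ (CT.trivIrr G))] at hS h
  simp only [CT.trivIrr_apply, one_pow, div_one, norm_one] at hS h
  have hb : ‖∑ χ ∈ Finset.univ.erase (CT.trivIrr G), (χ : G → ℂ) g / (χ : G → ℂ) 1 ^ 3‖ ≤
      ∑ χ ∈ Finset.univ.erase (CT.trivIrr G), 1 / ‖(χ : G → ℂ) 1‖ ^ 2 := by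
    refine (norm_sum_le _ _).trans (Finset.sum_le_sum fun χ _ => ?_)
    have hd : (χ : G → ℂ) 1 = (CT.deg (χ : G → ℂ) : ℂ) := CT.deg_eq (CT.isCharacter_of_isIrr χ.2)
    have hn : ‖(χ : G → ℂ) g‖ ≤ ‖(χ : G → ℂ) 1‖ := by
      refine (CT.norm_isCharacter_le (CT.isCharacter_of_isIrr χ.2) g).trans ?_
      rw [hd]; simp
    have hpos : 0 < ‖(χ : G → ℂ) 1‖ := norm_pos_iff.mpr (CT.irr_one_ne_zero χ.2)
    rw [norm_div, norm_pow, div_le_div_iff₀ (pow_pos hpos 3) (pow_pos hpos 2), one_mul]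
    calc ‖(χ : G → ℂ) g‖ * ‖(χ : G → ℂ) 1‖ ^ 2 ≤ ‖(χ : G → ℂ) 1‖ * ‖(χ : G → ℂ) 1‖ ^ 2 := by
          gcongr
      _ = _ := by ring
  rw [eq_neg_of_add_eq_zero_right hS, norm_neg, norm_one] at hb
  linarith

end Cfsg.Agent.S4814
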