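import Cfsg.Statements.S4825
import Cfsg.Agent.Lib.Blocks.Regular
import Cfsg.Agent.Lib.Blocks.Orthogonality
import Cfsg.Agent.Lib.CT.Clifford

set_option autoImplicit false
set_option linter.all false
open Cfsg

namespace Cfsg.Agent.S4825

open Cfsg.Agent.Blocks
open scoped ComplexConjugate

theorem sq_one_two : ∀ a : ZMod 2, a ≠ 0 → a * a = 1 := by decide

theorem sq_one_three : ∀ a : ZMod 3, a ≠ 0 → a * a = 1 := by decide

/-- Let p be a prime, G a finite group with Sylow p-subgroup P, M a maximal ideal of the algebraic integers containing p, and B a p-block of G with defect group P. Let N be a normal subgroup of G not containing P and θ an irreducible character of N. Then the number of irreducible characters in B of degree prime to p lying over θ (having θ as a constituent on restriction to N) is either 0 or at least 2, and when p ≤ 3 it is divisible by p. -/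
theorem result {G : Type*} [Group G] [Fintype G] (p : ℕ) [Fact p.Prime] (P : Sylow p G) (M : Ideal Cfsg.AlgInt) (hM : Cfsg.IsPModular p M) (B : Set (Cfsg.IrrCharacter G)) (hB : Cfsg.IsPBlock M B) (hBP : Cfsg.IsDefectGroup p M B P) (N : Subgroup G) [N.Normal] [Fintype N] (hPN : ¬ (P : Subgroup G) ≤ N) (θ : Cfsg.IrrCharacter N) :
    (Nat.card {χ : Cfsg.IrrCharacter G // χ ∈ B ∧ ¬ p ∣ Cfsg.charDegree (χ : G → ℂ) ∧ Cfsg.classInner (fun n : N => (χ : G → ℂ) n) (θ : N → ℂ) ≠ 0} = 0 ∨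
      2 ≤ Nat.card {χ : Cfsg.IrrCharacter G // χ ∈ B ∧ ¬ p ∣ Cfsg.charDegree (χ : G → ℂ) ∧ Cfsg.classInner (fun n : N => (χ : G → ℂ) n) (θ : N → ℂ) ≠ 0}) ∧
    (p ≤ 3 → p ∣ Nat.card {χ : Cfsg.IrrCharacter G // χ ∈ B ∧ ¬ p ∣ Cfsg.charDegree (χ : G → ℂ) ∧ Cfsg.classInner (fun n : N => (χ : G → ℂ) n) (θ : N → ℂ) ≠ 0}) := by
  classical
  haveI := Cfsg.Agent.Blocks.isPrime_of_modular hM
  haveI := charP_res hM
  haveI := Cfsg.Agent.CT.irr_finite G
  obtain ⟨y, hyP, hyN⟩ := SetLike.not_le_iff_exists.mp hPN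
  have hyk : ∃ k : ℕ, y ^ p ^ k = 1 := by
    obtain ⟨k, hk⟩ := P.2 ⟨y, hyP⟩
    exact ⟨k, by simpa using congrArg Subtype.val hk⟩
  have hpp : Cfsg.IsPPart p y y := by
    have h := isPPart_mk (p := p) (Commute.one_right y) hyk (by rw [orderOf_one]; exact hM.1.not_dvd_one)
    rwa [mul_one] at h
  let d : Cfsg.IrrCharacter G → ℕ := fun χ => Cfsg.Agent.CT.deg (χ : G → ℂ)
  let m : Cfsg.IrrCharacter G → ℕ := fun χ =>
    Cfsg.Agent.CT.mult (fun n : N => (χ : G → ℂ) n) (θ : N → ℂ)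
  have hmspec : ∀ χ : Cfsg.IrrCharacter G,
      Cfsg.classInner (fun n : N => (χ : G → ℂ) n) (θ : N → ℂ) = (m χ : ℂ) := fun χ =>
    Cfsg.Agent.CT.mult_spec (Cfsg.Agent.CT.isCharacter_restrict N
      (Cfsg.Agent.CT.isCharacter_of_isIrr χ.2)) (Cfsg.Agent.CT.isCharacter_of_isIrr θ.2)
  have hind : ∀ χ : Cfsg.IrrCharacter G,
      Cfsg.classInner (Cfsg.indFun N (θ : N → ℂ)) (χ : G → ℂ) = (m χ : ℂ) := fun χ => by
    rw [Cfsg.Agent.CT.frobenius_reciprocity N _ (Cfsg.Agent.CT.isClassFunction_of_isIrr χ.2),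
      Cfsg.Agent.CT.classInner_comm_of_char (Cfsg.Agent.CT.isCharacter_of_isIrr θ.2)
        (Cfsg.Agent.CT.isCharacter_restrict N (Cfsg.Agent.CT.isCharacter_of_isIrr χ.2)), hmspec]
  let T : Finset (Cfsg.IrrCharacter G) := Finset.univ.filter (· ∈ B)
  -- the projection of the induced character to the block vanishes at `y`
  have hzero : ∑ χ ∈ T, (m χ : ℂ) * (χ : G → ℂ) y = 0 := by
    rw [Finset.sum_congr rfl fun χ _ => by rw [← hind χ, Cfsg.classInner, mul_assoc, Finset.sum_mul],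
      ← Finset.mul_sum, Finset.sum_comm, Finset.sum_eq_zero, mul_zero]
    intro g _
    by_cases hg : g ∈ N
    · obtain ⟨z, hz, -⟩ := exists_isPPart (p := p) g
      have hne : ¬ IsConj y z := by
        intro hc
        obtain ⟨c, hc'⟩ := isConj_iff.mp hc.symm
        apply hyN
        rw [← hc']
        exact ‹N.Normal›.conj_mem _ ((Subgroup.zpowers_le.mpr hg) (ppart_mem_zpowers hz)) c
      have h := block_orthogonality hM (fun u => blockCoeff_mem_loc hB u) hpp hz hne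
      rw [finsum_mem_irr, ← Finset.sum_filter] at h
      rw [Finset.sum_congr rfl (g := fun χ : Cfsg.IrrCharacter G => Cfsg.indFun N (θ : N → ℂ) g *
        ((χ : G → ℂ) y * conj ((χ : G → ℂ) g))) (fun χ _ => by ring), ← Finset.mul_sum, h, mul_zero]
    · rw [Finset.sum_eq_zero]
      intro χ _
      rw [Cfsg.Agent.CT.indFun_eq_zero_of_not_mem N _ hg]
      ring
  -- reduce modulo `M`
  have hdvd : p ∣ ∑ χ ∈ T, m χ * d χ := by
    rw [← CharP.cast_eq_zero_iff (Res M) p, Nat.cast_sum]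
    have h1 : ∑ χ ∈ T, (m χ : Loc M) * charL M χ y = 0 := by
      apply Subtype.ext
      rw [ZeroMemClass.coe_zero, AddSubmonoidClass.coe_finsetSum, ← hzero]
      exact Finset.sum_congr rfl fun χ _ => by push_cast [coe_charL]; rfl
    have h2 := congrArg (red M) h1
    rw [map_sum, map_zero] at h2
    rw [← h2]
    refine Finset.sum_congr rfl fun χ _ => ?_
    have h3 := red_charL_mul (M := M) χ (Commute.one_right y) hyk
      (by rw [orderOf_one]; exact hM.1.not_dvd_one)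
    rw [mul_one] at h3
    rw [map_mul, map_natCast, h3, Nat.cast_mul]
    congr 1
    rw [show charL M χ 1 = ((d χ : ℕ) : Loc M) from Subtype.ext (by
      rw [coe_charL, Cfsg.Agent.CT.deg_eq (Cfsg.Agent.CT.isCharacter_of_isIrr χ.2)]
      push_cast; rfl), map_natCast]
  let S : Finset (Cfsg.IrrCharacter G) := T.filter fun χ => ¬ p ∣ d χ ∧ m χ ≠ 0
  have hdvdS : p ∣ ∑ χ ∈ S, m χ * d χ := by
    rw [← Finset.sum_filter_add_sum_filter_not T (fun χ => ¬ p ∣ d χ ∧ m χ ≠ 0)] at hdvd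
    refine (Nat.dvd_add_left (Finset.dvd_sum fun χ hχ => ?_)).mp hdvd
    have h := (Finset.mem_filter.mp hχ).2
    by_cases h0 : m χ = 0
    · simp [h0]
    · exact Dvd.dvd.mul_left (not_not.mp fun h' => h ⟨h', h0⟩) _
  obtain ⟨t, ht⟩ : ∃ t, t = (Cfsg.Agent.CT.inertia N (θ : N → ℂ)).index * Cfsg.Agent.CT.deg (θ : N → ℂ) :=
    ⟨_, rfl⟩
  have hd : ∀ χ ∈ S, d χ = m χ * t ∧ ¬ p ∣ m χ ∧ ¬ p ∣ t := by
    intro χ hχ
    obtain ⟨hp', hm⟩ := (Finset.mem_filter.mp hχ).2
    have h1 : d χ = m χ * t := by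
      rw [ht, ← mul_assoc]
      exact Cfsg.Agent.CT.clifford_mult N χ.2 θ.2 (by rw [hmspec]; exact_mod_cast hm)
    rw [h1] at hp'
    exact ⟨h1, fun h => hp' (h.mul_right _), fun h => hp' (h.mul_left _)⟩
  have hcard : Nat.card {χ : Cfsg.IrrCharacter G // χ ∈ B ∧ ¬ p ∣ Cfsg.charDegree (χ : G → ℂ) ∧
      Cfsg.classInner (fun n : N => (χ : G → ℂ) n) (θ : N → ℂ) ≠ 0} = S.card := by
    rw [← Nat.card_eq_finsetCard]
    refine Nat.card_congr (Equiv.subtypeEquivRight fun χ => ?_)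
    simp only [S, T, Finset.mem_filter, Finset.mem_univ, true_and]
    rw [hmspec, Nat.cast_ne_zero]
    rfl
  rw [hcard]
  refine ⟨?_, fun hp3 => ?_⟩
  · rcases (by omega : S.card = 0 ∨ S.card = 1 ∨ 2 ≤ S.card) with h | h | h
    · exact Or.inl h
    · exfalso
      obtain ⟨χ, hχ⟩ := Finset.card_eq_one.mp h
      obtain ⟨h1, h2, h3⟩ := hd χ (hχ ▸ Finset.mem_singleton_self χ)
      rw [hχ, Finset.sum_singleton, h1] at hdvdS
      rcases hM.1.dvd_mul.mp hdvdS with h4 | h4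
      · exact h2 h4
      · exact (hM.1.dvd_mul.mp h4).elim h2 h3
    · exact Or.inr h
  · rcases S.eq_empty_or_nonempty with h | ⟨χ₀, hχ₀⟩
    · simp [h]
    have ht' := (hd χ₀ hχ₀).2.2
    rw [← CharP.cast_eq_zero_iff (ZMod p) p, Nat.cast_sum] at hdvdS
    rw [← CharP.cast_eq_zero_iff (ZMod p) p]
    have h1 : ∀ χ ∈ S, ((m χ * d χ : ℕ) : ZMod p) = (t : ZMod p) := by
      intro χ hχ
      obtain ⟨h1, h2, -⟩ := hd χ hχ
      have h3 : (m χ : ZMod p) ≠ 0 := by rwa [Ne, CharP.cast_eq_zero_iff (ZMod p) p]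
      have h4 : (m χ : ZMod p) * (m χ : ZMod p) = 1 := by
        have hp2 := hM.1.two_le
        generalize (m χ : ZMod p) = a at h3 ⊢
        interval_cases p
        · exact sq_one_two _ h3
        · exact sq_one_three _ h3
      rw [h1, Nat.cast_mul, Nat.cast_mul, ← mul_assoc, h4, one_mul]
    rw [Finset.sum_congr rfl h1, Finset.sum_const, nsmul_eq_mul] at hdvdS
    exact (mul_eq_zero.mp hdvdS).resolve_right
      (fun h => ht' ((CharP.cast_eq_zero_iff (ZMod p) p t).mp h))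

end Cfsg.Agent.S4825
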