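import Cfsg.Statements.S4828
import Cfsg.Agent.Lib.BrauerPairs.Saturation
import Cfsg.Agent.Lib.Blocks.CentralDefect
import Cfsg.Agent.Lib.Blocks.Inflation
import Cfsg.Agent.Lib.Blocks.BrauerFeit
import Cfsg.Agent.Lib.Blocks.Extended

set_option autoImplicit false
open Cfsg

namespace Cfsg.Agent.S4828

open Cfsg.Agent Cfsg.Agent.Blocks Cfsg.Agent.BPairs

universe u

variable {G : Type u} [Group G] [Finite G] {p : ℕ} [hp : Fact p.Prime] {M : Ideal AlgInt} [M.IsPrime]

theorem inf_le_center (Q : Subgroup G) :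
    (Q ⊓ Subgroup.centralizer (Q : Set G)).subgroupOf (Subgroup.centralizer (Q : Set G)) ≤
      Subgroup.center (Subgroup.centralizer (Q : Set G)) := fun z hz =>
  Subgroup.mem_center_iff.mpr fun c => Subtype.ext
    (Subgroup.mem_centralizer_iff.mp c.2 z (Subgroup.mem_subgroupOf.mp hz).1).symm

theorem forward (hM : IsPModular p M) {Q : Subgroup G} {B : Set (IrrCharacter G)}
    {e : Set (IrrCharacter (Subgroup.centralizer (Q : Set G)))}
    (hmax : IsMaximalBrauerPair p M B Q e) :
    ∃ θ ∈ e, (∀ z : Subgroup.centralizer (Q : Set G), (z : G) ∈ Q →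
        (θ : Subgroup.centralizer (Q : Set G) → ℂ) z =
          (θ : Subgroup.centralizer (Q : Set G) → ℂ) 1) ∧
      (charDegree (θ : Subgroup.centralizer (Q : Set G) → ℂ)).factorization p +
          (Nat.card ↥(Q ⊓ Subgroup.centralizer (Q : Set G))).factorization p =
        (Nat.card (Subgroup.centralizer (Q : Set G))).factorization p ∧
      (∀ g : G, g ∈ Subgroup.normalizer (Q : Set G) →
        StabilizesBlock (Subgroup.centralizer (Q : Set G)) e g → (∃ k : ℕ, orderOf g = p ^ k) →
          g ∈ Q ⊔ Subgroup.centralizer (Q : Set G)) := by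
  classical
  obtain ⟨hQ, he⟩ := hmax.1.1
  have hD : IsDefectGroup p M e ((Q ⊓ Subgroup.centralizer (Q : Set G)).subgroupOf
      (Subgroup.centralizer (Q : Set G))) := by
    refine centralizer_defect_of_fullyCentralized hM hmax Relation.ReflTransGen.refl fun g hg => ?_
    have h : Q.map (MulAut.conj g).toMonoidHom = Q :=
      Subgroup.eq_of_le_of_card_ge (subpair_le hg) (card_map_conj Q g).ge
    rw [h]
  set Z := (Q ⊓ Subgroup.centralizer (Q : Set G)).subgroupOf (Subgroup.centralizer (Q : Set G))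
    with hZ
  haveI hZn : Z.Normal := ⟨fun z hz c => by
    rw [Subgroup.mem_center_iff.mp (inf_le_center Q hz) c, mul_inv_cancel_right]; exact hz⟩
  have hZp : IsPGroup p Z := (hQ.to_le inf_le_left).comap_subtype
  have hcardZ : Nat.card Z = Nat.card ↥(Q ⊓ Subgroup.centralizer (Q : Set G)) :=
    Blocks.card_subgroupOf inf_le_right
  obtain ⟨χ, hχ⟩ := exists_trivial_on_pGroup hM hZp he
  refine ⟨inflIrr χ, hχ, fun z hz => ?_, ?_, fun g hgN hgs hgp => ?_⟩
  · rw [inflIrr_apply, inflIrr_apply,
      (QuotientGroup.eq_one_iff z).mpr (Subgroup.mem_subgroupOf.mpr (Subgroup.mem_inf.mpr ⟨hz, z.2⟩)), QuotientGroup.mk_one]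
  · letI := Fintype.ofFinite (Subgroup.centralizer (Q : Set G))
    have h1 := le_blockDefect_add (p := p) hχ
    have h2 : blockDefect p e = (Nat.card Z).factorization p := by
      rw [card_defectGroup hM he hD, hp.out.factorization_pow, Finsupp.single_eq_same]
    have h3 : (charDegree (inflIrr χ : Subgroup.centralizer (Q : Set G) → ℂ)).factorization p ≤
        Z.index.factorization p := by
      refine (Nat.factorization_le_iff_dvd (charDegree_pos _).ne'
        Subgroup.index_ne_zero_of_finite).mpr ?_ p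
      have := ClassSum.degree_dvd_card χ
      rwa [← Subgroup.index_eq_card] at this
    have h4 : (Nat.card Z).factorization p + Z.index.factorization p =
        (Nat.card (Subgroup.centralizer (Q : Set G))).factorization p := by
      rw [← Z.card_mul_index, Nat.factorization_mul Nat.card_pos.ne'
        Subgroup.index_ne_zero_of_finite, Finsupp.add_apply]
    rw [← hcardZ]
    omega
  · have hL := isLocal_stabSub (M := M) hmax.1.1
    have hg : g ∈ stabSub M Q e := (mem_stabSub he).mpr ⟨hgN, hgs⟩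
    have hlm := maximal_localMax hM hmax hL
    set H := stabSub M Q e
    obtain ⟨R, hR⟩ := exists_sylow_ge hlm.le hQ
    set R' := (R : Subgroup H).map H.subtype
    have hRle : R' ≤ Q ⊔ Subgroup.centralizer (Q : Set G) :=
      hlm.le_sup hM hL (R.isPGroup'.map _) (Subgroup.map_subtype_le _) hR
    obtain ⟨k, hk⟩ := hgp
    have hgP : IsPGroup p (Subgroup.zpowers (⟨g, hg⟩ : H)) := by
      refine IsPGroup.of_card (n := k) ?_
      rw [Nat.card_zpowers, Subgroup.orderOf_mk, hk]
    obtain ⟨S, hS⟩ := hgP.exists_le_sylow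
    obtain ⟨t, rfl⟩ := MulAction.exists_smul_eq H R S
    have hgS := hS (Subgroup.mem_zpowers (⟨g, hg⟩ : H))
    rw [Sylow.coe_subgroup_smul] at hgS
    obtain ⟨r, hr, hrg⟩ := (Subgroup.mem_smul_pointwise_iff_exists _ _ _).mp hgS
    have hrG : (t : G) * (r : G) * (t : G)⁻¹ = g := by
      have := congrArg Subtype.val hrg
      simpa using this
    rw [← hrG]
    exact (Subgroup.mem_normalizer_iff.mp (normalizer_le_normalizer_sup Q (hL.leN t.2)) r).mp
      (hRle ⟨r, hr, rfl⟩)

theorem backward (hM : IsPModular p M) {Q : Subgroup G}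
    {e : Set (IrrCharacter (Subgroup.centralizer (Q : Set G)))} (hQe : IsBrauerPair p M Q e)
    {θ : IrrCharacter (Subgroup.centralizer (Q : Set G))} (hθ : θ ∈ e)
    (hdeg : (charDegree (θ : Subgroup.centralizer (Q : Set G) → ℂ)).factorization p +
          (Nat.card ↥(Q ⊓ Subgroup.centralizer (Q : Set G))).factorization p =
        (Nat.card (Subgroup.centralizer (Q : Set G))).factorization p)
    (hstab : ∀ g : G, g ∈ Subgroup.normalizer (Q : Set G) →
        StabilizesBlock (Subgroup.centralizer (Q : Set G)) e g → (∃ k : ℕ, orderOf g = p ^ k) →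
          g ∈ Q ⊔ Subgroup.centralizer (Q : Set G)) :
    ∃ B, IsMaximalBrauerPair p M B Q e := by
  classical
  obtain ⟨hQ, he⟩ := hQe
  set Z := (Q ⊓ Subgroup.centralizer (Q : Set G)).subgroupOf (Subgroup.centralizer (Q : Set G))
    with hZ
  have hZp : IsPGroup p Z := (hQ.to_le inf_le_left).comap_subtype
  have hcardZ : Nat.card Z = Nat.card ↥(Q ⊓ Subgroup.centralizer (Q : Set G)) :=
    Blocks.card_subgroupOf inf_le_right
  have hD : IsDefectGroup p M e Z := by
    rw [block_eq_blockOf he hθ]
    refine (central_defect hM hZp (inf_le_center Q) ?_).1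
    have h4 : (Nat.card Z).factorization p + Z.index.factorization p =
        (Nat.card (Subgroup.centralizer (Q : Set G))).factorization p := by
      rw [← Z.card_mul_index, Nat.factorization_mul Nat.card_pos.ne'
        Subgroup.index_ne_zero_of_finite, Finsupp.add_apply]
    rw [← hcardZ] at hdeg
    omega
  obtain ⟨B, hB, -⟩ := existsUnique_block hM ⟨hQ, he⟩
  obtain ⟨⟨P, k⟩, hle, hmax⟩ := exists_maximal hM hB
  by_cases hQP : P ≤ Q
  · rw [← eq_of_chain_eq hM hle hQP] at hmax
    exact ⟨B, hmax⟩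
  exfalso
  have hQP' : Q ≤ P := subpair_le hle
  have hlt := exists_normalizer_gt hmax.1.1.1 hQP' fun h => hQP h.ge
  obtain ⟨h, -, hrel⟩ := exists_normalizer_pair hM hmax.1.1 hle
  obtain ⟨D, hD', hRD⟩ := exists_defect_ge hM hrel
  set R := P ⊓ Subgroup.normalizer (Q : Set G)
  refine not_le_of_gt hlt fun r hr => ?_
  have hst : StabilizesBlock (Subgroup.centralizer (Q : Set G)) e r :=
    (conjA_bel_iff_stabilizes r _ he (normalizer_le_normalizer_centralizer Q hr.2)).mpr
      ((isNormalSubpair_iff.mp hrel).2.2.2.2.1 r hr)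
  have hrp : ∃ k : ℕ, orderOf r = p ^ k := by
    obtain ⟨j, hj⟩ := exists_pow_eq_one_of_isPGroup hmax.1.1.1 hr.1
    obtain ⟨i, -, hi⟩ := (Nat.dvd_prime_pow hp.out).mp (orderOf_dvd_of_pow_eq_one hj)
    exact ⟨i, hi⟩
  have hrm := hstab r hr.2 hst hrp
  rw [← SetLike.mem_coe, Subgroup.coe_mul_of_right_le_normalizer_left _ _
    (Subgroup.centralizer_le_normalizer _)] at hrm
  obtain ⟨q, hq, c, hc, rfl⟩ := hrm
  refine Q.mul_mem hq ?_
  have hcR : c ∈ R := by
    have hqR : q ∈ R := ⟨hQP' hq, Subgroup.le_normalizer hq⟩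
    simpa using R.mul_mem (R.inv_mem hqR) hr
  have hZle : Z ≤ (R ⊓ Subgroup.centralizer (Q : Set G)).subgroupOf
      (Subgroup.centralizer (Q : Set G)) :=
    Subgroup.comap_mono (inf_le_inf_right _ (le_inf hQP' Subgroup.le_normalizer))
  have hRZ : (R ⊓ Subgroup.centralizer (Q : Set G)).subgroupOf
      (Subgroup.centralizer (Q : Set G)) = Z :=
    (Subgroup.eq_of_le_of_card_ge hZle (by
      rw [card_defect_eq hM he hD hD']; exact Subgroup.card_le_of_le hRD)).symm
  have : (⟨c, hc⟩ : Subgroup.centralizer (Q : Set G)) ∈ Z :=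
    hRZ ▸ (Subgroup.mem_subgroupOf.mpr ⟨hcR, hc⟩)
  exact (Subgroup.mem_subgroupOf.mp this).1

/-- Let p be a prime, M a maximal ideal of the algebraic integers containing p, and (Q, e) a Brauer pair of the finite group G (Q a p-subgroup, e a block of C_G(Q)). Then (Q, e) is a maximal Brauer pair of some block of G if and only if e contains an irreducible character θ such that θ takes the value θ(1) at every element of Z(Q) = Q ∩ C_G(Q), the p-part of θ(1) times the p-part of the order of Z(Q) equals the p-part of the order of C_G(Q) (θ has defect zero as a character of C_G(Q)/Z(Q)), and every element of N_G(Q) of p-power order that stabilizes e lies in Q·C_G(Q) (the stabilizer of e in N_G(Q) has index prime to p over Q·C_G(Q)). -/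
theorem result {G : Type*} [Group G] [Finite G] (p : ℕ) [Fact p.Prime] (M : Ideal Cfsg.AlgInt) (hM : Cfsg.IsPModular p M) (Q : Subgroup G) (e : Set (Cfsg.IrrCharacter (Subgroup.centralizer (Q : Set G)))) (he : Cfsg.IsBrauerPair p M Q e) :
    (∃ B : Set (Cfsg.IrrCharacter G), Cfsg.IsMaximalBrauerPair p M B Q e) ↔
      ∃ θ ∈ e, (∀ z : Subgroup.centralizer (Q : Set G), (z : G) ∈ Q → (θ : Subgroup.centralizer (Q : Set G) → ℂ) z = (θ : Subgroup.centralizer (Q : Set G) → ℂ) 1) ∧
        (Cfsg.charDegree (θ : Subgroup.centralizer (Q : Set G) → ℂ)).factorization p + (Nat.card ↥(Q ⊓ Subgroup.centralizer (Q : Set G))).factorization p = (Nat.card (Subgroup.centralizer (Q : Set G))).factorization p ∧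
        (∀ g : G, g ∈ Subgroup.normalizer (Q : Set G) → Cfsg.StabilizesBlock (Subgroup.centralizer (Q : Set G)) e g → (∃ k : ℕ, orderOf g = p ^ k) → g ∈ Q ⊔ Subgroup.centralizer (Q : Set G)) := by
  haveI : M.IsPrime := hM.2.1.isPrime
  constructor
  · rintro ⟨B, hB⟩
    exact forward hM hB
  · rintro ⟨θ, hθ, -, hdeg, hst⟩
    exact backward hM he hθ hdeg hst

end Cfsg.Agent.S4828
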