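import Cfsg.Statements.S4836
import Cfsg.Agent.Lib.CT.Kernel

set_option autoImplicit false
open Cfsg

namespace Cfsg.Agent.S4836

/-- A character with exactly two classes of nonzero values: shape of the orthogonality relations. -/
theorem two_classes {G : Type*} [Group G] [Fintype G] (hG : 2 < Nat.card G)
    (χ : Cfsg.IrrCharacter G)
    (hχ : Nat.card {C : ConjClasses G // ∃ g ∈ C.carrier, (χ : G → ℂ) g ≠ 0} = 2) :
    ∃ g : G, g ≠ 1 ∧ (χ : G → ℂ) g ≠ 0 ∧
      (∀ x : G, (χ : G → ℂ) x ≠ 0 → x = 1 ∨ IsConj g x) ∧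
      (∀ ψ : Cfsg.IrrCharacter G, ψ ≠ χ → (ψ : G → ℂ) g = (ψ : G → ℂ) 1) := by
  classical
  let T := {C : ConjClasses G // ∃ g ∈ C.carrier, (χ : G → ℂ) g ≠ 0}
  let one : T := ⟨ConjClasses.mk 1, 1, ConjClasses.mem_carrier_mk, CT.irr_one_ne_zero χ.2⟩
  haveI : Finite T := Nat.finite_of_card_ne_zero (by rw [hχ]; omega)
  haveI : Nontrivial T := Finite.one_lt_card_iff_nontrivial.mp (by rw [hχ]; omega)
  obtain ⟨⟨C, g, hgC, hg⟩, hC⟩ := exists_ne one
  have hgC' : ConjClasses.mk g = C := ConjClasses.mem_carrier_iff_mk_eq.mp hgC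
  have hg1 : g ≠ 1 := fun e => hC (Subtype.ext (hgC'.symm.trans (congrArg ConjClasses.mk e)))
  have hall : ∀ x : G, (χ : G → ℂ) x ≠ 0 → x = 1 ∨ IsConj g x := by
    intro x hx
    by_contra hne
    push Not at hne
    have hxT : ∃ y ∈ (ConjClasses.mk x).carrier, (χ : G → ℂ) y ≠ 0 :=
      ⟨x, ConjClasses.mem_carrier_mk, hx⟩
    haveI := Fintype.ofFinite T
    have hcard : ({one, ⟨C, g, hgC, hg⟩, ⟨ConjClasses.mk x, hxT⟩} : Finset T).card = 3 := by
      rw [Finset.card_insert_of_notMem, Finset.card_insert_of_notMem, Finset.card_singleton]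
      · simp only [Finset.mem_singleton]
        exact fun e => hne.2 (ConjClasses.mk_eq_mk_iff_isConj.mp
          (hgC'.trans (congrArg Subtype.val e)))
      · simp only [Finset.mem_insert, Finset.mem_singleton, not_or]
        refine ⟨Ne.symm hC, fun e => ?_⟩
        have := congrArg Subtype.val e
        exact hne.1 (isConj_one_right.mp (ConjClasses.mk_eq_mk_iff_isConj.mp this))
    have h3 := Finset.card_le_univ ({one, ⟨C, g, hgC, hg⟩, ⟨ConjClasses.mk x, hxT⟩} : Finset T)
    rw [hcard, ← Nat.card_eq_fintype_card, hχ] at h3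
    omega
  have hval : ∀ x : G, IsConj g x → (χ : G → ℂ) x = (χ : G → ℂ) g := fun x hx =>
    (CT.isClassFunction_isConj (CT.isClassFunction_of_isIrr χ.2) hx).symm
  refine ⟨g, hg1, hg, hall, fun ψ hψ => ?_⟩
  -- inner products with χ only see the two classes
  have key : ∀ θ : Cfsg.IrrCharacter G, classInner (θ : G → ℂ) (χ : G → ℂ) = (Nat.card G : ℂ)⁻¹ *
      ((θ : G → ℂ) 1 * (starRingEnd ℂ) ((χ : G → ℂ) 1) +
        (Nat.card {x : G // IsConj g x} : ℂ) *
          ((θ : G → ℂ) g * (starRingEnd ℂ) ((χ : G → ℂ) g))) := by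
    intro θ
    rw [classInner]
    congr 1
    rw [Nat.card_eq_fintype_card, Fintype.card_subtype, ← nsmul_eq_mul, ← Finset.sum_const,
      ← Finset.add_sum_erase _ _ (Finset.mem_univ (1 : G))]
    congr 1
    have hsub : Finset.univ.filter (fun x => IsConj g x) ⊆ Finset.univ.erase (1 : G) := by
      intro x hx
      refine Finset.mem_erase.mpr ⟨fun e => hg1 ?_, Finset.mem_univ _⟩
      exact isConj_one_left.mp (e ▸ (Finset.mem_filter.mp hx).2)
    rw [← Finset.sum_subset hsub]
    · refine Finset.sum_congr rfl fun x hx => ?_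
      rw [hval x (Finset.mem_filter.mp hx).2,
        CT.isClassFunction_isConj (CT.isClassFunction_of_isIrr θ.2) (Finset.mem_filter.mp hx).2]
    · intro x hx hx'
      have : (χ : G → ℂ) x = 0 := by
        by_contra h
        rcases hall x h with h1 | h1
        · exact (Finset.mem_erase.mp hx).1 h1
        · exact hx' (Finset.mem_filter.mpr ⟨Finset.mem_univ _, h1⟩)
      simp [this]
  have hG0 : (Nat.card G : ℂ)⁻¹ ≠ 0 := inv_ne_zero CT.card_ne_zero
  have hχ1 : (χ : G → ℂ) ≠ fun _ => 1 := by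
    intro e
    have hsub : ∀ x : G, x = 1 ∨ IsConj g x := fun x => hall x (by rw [e]; exact one_ne_zero)
    have h1 := CT.column_orthogonality g (1 : G)
    have h2 := CT.column_orthogonality g g
    rw [if_neg (fun h => hg1 (isConj_one_left.mp h))] at h1
    -- only two classes, hence at most two irreducible characters
    have hle : Nat.card (ConjClasses G) ≤ 2 := by
      haveI : Finite (ConjClasses G) := Finite.of_surjective _ ConjClasses.mk_surjective
      refine le_trans (Nat.card_le_card_of_surjective (fun b : Bool =>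
        if b then ConjClasses.mk g else ConjClasses.mk 1) ?_) (by simp)
      intro D
      obtain ⟨x, rfl⟩ := ConjClasses.exists_rep D
      rcases hsub x with rfl | h
      · exact ⟨false, rfl⟩
      · exact ⟨true, ConjClasses.mk_eq_mk_iff_isConj.mpr h⟩
    have hk := CT.card_irr_eq_card_conjClasses G
    have hcard : (Nat.card {x : G // IsConj g x} : ℕ) + 1 = Nat.card G := by
      rw [Nat.card_eq_fintype_card, Nat.card_eq_fintype_card, Fintype.card_subtype]
      have : Finset.univ.filter (fun x => IsConj g x) = Finset.univ.erase (1 : G) := by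
        ext x
        simp only [Finset.mem_filter, Finset.mem_univ, true_and, Finset.mem_erase, and_true]
        exact ⟨fun h e => hg1 (isConj_one_left.mp (e ▸ h)), fun h => (hsub x).resolve_left h⟩
      rw [this, Finset.card_erase_of_mem (Finset.mem_univ _), Finset.card_univ]
      have := Fintype.card_pos (α := G)
      omega
    -- the index of the centralizer divides the order
    have hdvd := CT.card_conj_class_mul_centralizer g
    have hd : Nat.card {x : G // IsConj g x} ∣ Nat.card G := Dvd.intro _ hdvd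
    rw [← hcard] at hd
    have := Nat.le_of_dvd (by norm_num) ((Nat.dvd_add_right dvd_rfl).mp hd)
    omega
  have e0 := key (CT.trivIrr G)
  rw [CT.irr_inner_of_ne (CT.trivIrr G).2 χ.2 (Ne.symm hχ1)] at e0
  have eψ := key ψ
  rw [CT.irr_inner_of_ne ψ.2 χ.2 (fun e => hψ (Subtype.ext e))] at eψ
  have e0' := (mul_eq_zero.mp e0.symm).resolve_left hG0
  have eψ' := (mul_eq_zero.mp eψ.symm).resolve_left hG0
  simp only [CT.trivIrr_apply, one_mul] at e0'
  have hK : (Nat.card {x : G // IsConj g x} : ℂ) * (starRingEnd ℂ) ((χ : G → ℂ) g) ≠ 0 := by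
    haveI : Nonempty {x : G // IsConj g x} := ⟨⟨g, IsConj.refl g⟩⟩
    refine mul_ne_zero (Nat.cast_ne_zero.mpr Nat.card_pos.ne') ?_
    simpa using hg
  refine mul_right_cancel₀ hK ?_
  linear_combination eψ' - (ψ : G → ℂ) 1 * e0'

/-- Let G be a finite group of order greater than 2 with an irreducible character χ that is nonzero on exactly two conjugacy classes. Then χ is faithful (it takes the value χ(1) only at the identity), it is the only faithful irreducible character of G, and it is the only irreducible character of G that is nonzero on exactly two conjugacy classes. -/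
theorem result {G : Type*} [Group G] [Finite G] (hG : 2 < Nat.card G) (χ : Cfsg.IrrCharacter G) (hχ : Nat.card {C : ConjClasses G // ∃ g ∈ C.carrier, (χ : G → ℂ) g ≠ 0} = 2) :
    (∀ g : G, (χ : G → ℂ) g = (χ : G → ℂ) 1 → g = 1) ∧
      (∀ ψ : Cfsg.IrrCharacter G, (∀ g : G, (ψ : G → ℂ) g = (ψ : G → ℂ) 1 → g = 1) → ψ = χ) ∧
      (∀ ψ : Cfsg.IrrCharacter G, Nat.card {C : ConjClasses G // ∃ g ∈ C.carrier, (ψ : G → ℂ) g ≠ 0} = 2 → ψ = χ) := by
  haveI := Fintype.ofFinite G
  obtain ⟨g, hg1, hg, hall, hψ⟩ := two_classes hG χ hχ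
  have hfaith : ∀ x : G, (χ : G → ℂ) x = (χ : G → ℂ) 1 → x = 1 := by
    intro x hx
    refine (hall x (hx ▸ CT.irr_one_ne_zero χ.2)).resolve_right fun hc => hg1 ?_
    -- otherwise every irreducible character is constant on g
    have h0 : ∀ θ : Cfsg.IrrCharacter G, (θ : G → ℂ) g = (θ : G → ℂ) 1 := by
      intro θ
      by_cases h : θ = χ
      · rw [h, CT.isClassFunction_isConj (CT.isClassFunction_of_isIrr χ.2) hc, hx]
      · exact hψ θ h
    exact isConj_one_left.mp (CT.isConj_iff_forall_irr.mpr h0)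
  have huniq : ∀ ψ : Cfsg.IrrCharacter G,
      (∀ x : G, (ψ : G → ℂ) x = (ψ : G → ℂ) 1 → x = 1) → ψ = χ := fun ψ hf => by
    by_contra h
    exact hg1 (hf g (hψ ψ h))
  refine ⟨hfaith, huniq, fun ψ hψ2 => huniq ψ ?_⟩
  obtain ⟨g', hg1', hg', hall', hψ'⟩ := two_classes hG ψ hψ2
  intro x hx
  refine (hall' x (hx ▸ CT.irr_one_ne_zero ψ.2)).resolve_right fun hc => hg1' ?_
  have h0 : ∀ θ : Cfsg.IrrCharacter G, (θ : G → ℂ) g' = (θ : G → ℂ) 1 := by
    intro θ
    by_cases h : θ = ψ
    · rw [h, CT.isClassFunction_isConj (CT.isClassFunction_of_isIrr ψ.2) hc, hx]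
    · exact hψ' θ h
  exact isConj_one_left.mp (CT.isConj_iff_forall_irr.mpr h0)

end Cfsg.Agent.S4836
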