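import Cfsg.Statements.S4835
import Cfsg.Agent.S4836

set_option autoImplicit false
open Cfsg

namespace Cfsg.Agent.S4835

/-- Let G be a finite group of order greater than 2 with an irreducible character χ that is nonzero on exactly two conjugacy classes. Then G has a unique minimal normal subgroup N; N is an elementary abelian p-group for some prime p; χ is nonzero exactly at the elements of N; and any two nonidentity elements of N are conjugate in G. -/
theorem result {G : Type*} [Group G] [Finite G] (hG : 2 < Nat.card G) (χ : Cfsg.IrrCharacter G) (hχ : Nat.card {C : ConjClasses G // ∃ g ∈ C.carrier, (χ : G → ℂ) g ≠ 0} = 2) :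
    ∃ N : Subgroup G, N.Normal ∧ N ≠ ⊥ ∧ (∀ K : Subgroup G, K.Normal → K ≠ ⊥ → N ≤ K) ∧
      (∃ p : ℕ, p.Prime ∧ Cfsg.IsElementaryAbelian p N) ∧
      (∀ g : G, (χ : G → ℂ) g ≠ 0 ↔ g ∈ N) ∧
      (∀ x ∈ N, ∀ y ∈ N, x ≠ 1 → y ≠ 1 → ∃ g : G, g * x * g⁻¹ = y) := by
  classical
  haveI := Fintype.ofFinite G
  obtain ⟨g, hg1, hg, hall, hψ⟩ := S4836.two_classes hG χ hχ
  obtain ⟨hfaith, -, -⟩ := S4836.result hG χ hχ
  have hcls : ∀ ψ : Cfsg.IrrCharacter G, IsClassFunction G (ψ : G → ℂ) := fun ψ =>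
    CT.isClassFunction_of_isIrr ψ.2
  let N : Subgroup G := ⨅ ψ : {ψ : Cfsg.IrrCharacter G // ψ ≠ χ}, CT.kerChar (ψ.1 : G → ℂ)
  have hmem : ∀ x : G, x ∈ N ↔
      ∀ ψ : Cfsg.IrrCharacter G, ψ ≠ χ → (ψ : G → ℂ) x = (ψ : G → ℂ) 1 := by
    intro x
    simp only [N, Subgroup.mem_iInf]
    exact ⟨fun h ψ hne => (CT.mem_kerChar_iff (CT.isCharacter_of_isIrr ψ.2)).mp (h ⟨ψ, hne⟩),
      fun h ψ => (CT.mem_kerChar_iff (CT.isCharacter_of_isIrr ψ.1.2)).mpr (h ψ.1 ψ.2)⟩
  haveI hN : N.Normal := ⟨fun x hx c => (hmem _).mpr fun ψ hne => by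
    rw [hcls ψ x c]; exact (hmem x).mp hx ψ hne⟩
  have hgN : g ∈ N := (hmem g).mpr hψ
  have htriv : CT.trivIrr G ≠ χ := by
    intro e
    refine hg1 (hfaith g ?_)
    rw [← e]
    rfl
  have hsupp : ∀ x : G, (χ : G → ℂ) x ≠ 0 ↔ x ∈ N := by
    intro x
    constructor
    · intro hx
      rcases hall x hx with rfl | h
      · exact N.one_mem
      · obtain ⟨c, rfl⟩ := isConj_iff.mp h
        exact hN.conj_mem g hgN c
    · intro hx h0
      by_cases hx1 : x = 1
      · exact CT.irr_one_ne_zero χ.2 (hx1 ▸ h0)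
      have h := (CT.regular_eq_sum x).trans (if_neg hx1)
      have h2 : ∑ ψ : Cfsg.IrrCharacter G, (ψ : G → ℂ) 1 * (ψ : G → ℂ) x =
          ((∑ ψ ∈ Finset.univ.erase χ, (CT.deg (ψ : G → ℂ)) ^ 2 : ℕ) : ℂ) := by
        rw [← Finset.add_sum_erase _ _ (Finset.mem_univ χ), h0, mul_zero, zero_add, Nat.cast_sum]
        refine Finset.sum_congr rfl fun ψ hψ' => ?_
        rw [(hmem x).mp hx ψ (Finset.ne_of_mem_erase hψ'), CT.deg_eq (CT.isCharacter_of_isIrr ψ.2)]
        push_cast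
        ring
      rw [h2, Nat.cast_eq_zero, Finset.sum_eq_zero_iff] at h
      exact absurd (pow_eq_zero_iff two_ne_zero |>.mp
        (h _ (Finset.mem_erase.mpr ⟨htriv, Finset.mem_univ _⟩))) (CT.deg_pos (CT.trivIrr G).2).ne'
  have hconj : ∀ x ∈ N, x ≠ 1 → IsConj g x := fun x hx h1 =>
    (hall x ((hsupp x).mpr hx)).resolve_left h1
  have htrans : ∀ x ∈ N, ∀ y ∈ N, x ≠ 1 → y ≠ 1 → ∃ c : G, c * x * c⁻¹ = y := fun x hx y hy h1 h2 =>
    isConj_iff.mp ((hconj x hx h1).symm.trans (hconj y hy h2))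
  have hN1 : N ≠ ⊥ := fun e => hg1 (Subgroup.mem_bot.mp (e ▸ hgN))
  have hmin : ∀ K : Subgroup G, K.Normal → K ≠ ⊥ → N ≤ K := by
    intro K hK hK1
    have hgK : g ∈ K := by
      by_contra hgK
      haveI := hK
      obtain ⟨ψ, hψne⟩ : ∃ ψ : Cfsg.IrrCharacter (G ⧸ K),
          (ψ : G ⧸ K → ℂ) (QuotientGroup.mk g) ≠ (ψ : G ⧸ K → ℂ) 1 := by
        by_contra hh
        push Not at hh
        exact hgK ((QuotientGroup.eq_one_iff g).mp
          (isConj_one_left.mp (CT.isConj_iff_forall_irr.mpr hh)))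
      let ψ' : Cfsg.IrrCharacter G := ⟨fun x => (ψ : G ⧸ K → ℂ) (QuotientGroup.mk x),
        CT.isIrr_inflate K ψ.2 fun x => rfl⟩
      have hne : ψ' ≠ χ := by
        intro e
        obtain ⟨k, hk, hk1⟩ := K.bot_or_exists_ne_one.resolve_left hK1
        refine hk1 (hfaith k ?_)
        rw [← e]
        show (ψ : G ⧸ K → ℂ) (QuotientGroup.mk k) = (ψ : G ⧸ K → ℂ) (QuotientGroup.mk 1)
        rw [(QuotientGroup.eq_one_iff k).mpr hk, QuotientGroup.mk_one]
      exact hψne (hψ ψ' hne)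
    intro x hx
    by_cases h1 : x = 1
    · exact h1 ▸ K.one_mem
    · obtain ⟨c, rfl⟩ := isConj_iff.mp (hconj x hx h1)
      exact hK.conj_mem g hgK c
  refine ⟨N, hN, hN1, hmin, ?_, hsupp, htrans⟩
  -- all nontrivial elements have the same prime order
  obtain ⟨p, hp, hpd⟩ := Nat.exists_prime_and_dvd (fun h => hg1 (orderOf_eq_one_iff.mp h))
  have hgp : orderOf g = p := by
    have h2 := orderOf_pow_orderOf_div (orderOf_pos g).ne' hpd
    have h3 : g ^ (orderOf g / p) ≠ 1 := fun e => hp.one_lt.ne (by rw [← h2, e, orderOf_one])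
    obtain ⟨c, hc⟩ := htrans g hgN _ (N.pow_mem hgN _) hg1 h3
    rw [← hc, ← MulAut.conj_apply, MulEquiv.orderOf_eq] at h2
    exact h2
  have hord : ∀ x ∈ N, x ^ p = 1 := by
    intro x hx
    by_cases h1 : x = 1
    · simp [h1]
    · obtain ⟨c, rfl⟩ := isConj_iff.mp (hconj x hx h1)
      rw [conj_pow, ← hgp, pow_orderOf_eq_one]
      group
  haveI := Fact.mk hp
  have hNp : IsPGroup p N := fun x => ⟨1, Subtype.ext (by simpa using hord x x.2)⟩
  haveI : Nontrivial N := (Subgroup.nontrivial_iff_ne_bot N).mpr hN1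
  haveI : ((Subgroup.center N).map N.subtype).Normal := ConjAct.normal_of_characteristic_of_normal
  have hle := hmin _ inferInstance fun e => by
    have h1 := hNp.center_nontrivial
    rw [Subgroup.map_eq_bot_iff_of_injective _ N.subtype_injective] at e
    exact (Subgroup.nontrivial_iff_ne_bot _).mp h1 e
  refine ⟨p, hp, ⟨⟨fun a b => ?_⟩⟩, hord⟩
  obtain ⟨z, hz, e⟩ := hle a.2
  rw [← Subtype.ext e (a1 := z) (a2 := a)]
  exact (Subgroup.mem_center_iff.mp hz b).symm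

end Cfsg.Agent.S4835
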