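import Cfsg.Statements.S4837
import Cfsg.Agent.Lib.ClassSum.TwoClasses
import Cfsg.Agent.Lib.CT.Clifford

set_option autoImplicit false
open Cfsg

namespace Cfsg.Agent.S4837

/-- Let G be a finite group of order greater than 2 with an irreducible character χ nonzero on exactly two conjugacy classes, and let N be the set of elements where χ is nonzero, given as a nontrivial normal p-subgroup of G for the prime p. Then for every nonidentity x in N the centralizer C_G(x) is a Sylow p-subgroup of G, and for every irreducible character λ ≠ 1 of N the stabilizer of λ in G (its inertia group) is a Sylow p-subgroup of G. -/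
theorem result {G : Type*} [Group G] [Finite G] (hG : 2 < Nat.card G) (χ : Cfsg.IrrCharacter G) (hχ : Nat.card {C : ConjClasses G // ∃ g ∈ C.carrier, (χ : G → ℂ) g ≠ 0} = 2) (p : ℕ) [Fact p.Prime] (N : Subgroup G) [N.Normal] (hN : ∀ g : G, g ∈ N ↔ (χ : G → ℂ) g ≠ 0) (hNp : IsPGroup p N) (hN1 : N ≠ ⊥) :
    (∀ x ∈ N, x ≠ 1 → ∃ P : Sylow p G, Subgroup.centralizer ({x} : Set G) = P) ∧
      (∀ μ : Cfsg.IrrCharacter N, (μ : N → ℂ) ≠ (fun _ => (1 : ℂ)) → ∃ P : Sylow p G, ∀ g : G, g ∈ (P : Subgroup G) ↔ ∀ n n' : N, (n' : G) = g * n * g⁻¹ → (μ : N → ℂ) n' = (μ : N → ℂ) n) := by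
  classical
  haveI := Fintype.ofFinite G
  haveI := Fintype.ofFinite N
  have hp : p.Prime := Fact.out
  have S : TwoClasses.Setup χ p N := ⟨hG, hχ, hN, hNp, hN1⟩
  refine ⟨fun x hx hx1 => S.centralizer_sylow hx hx1, fun μ hμ => ?_⟩
  obtain ⟨g, hg, hg1⟩ := N.bot_or_exists_ne_one.resolve_left hN1
  obtain ⟨-, hcomm, -, htrans, -⟩ := S.facts
  have hcomm' : ∀ a b : N, a * b = b * a := fun a b => Subtype.ext (hcomm a a.2 b b.2)
  obtain ⟨lam, hlam⟩ := CT.exists_hom_of_comm hcomm' μ.2
  let res : N → ℂ := fun n => (χ : G → ℂ) n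
  have hres : IsCharacter N res := CT.isCharacter_restrict N (CT.isCharacter_of_isIrr χ.2)
  have hval : ∀ n : N, n ≠ 1 → res n = (χ : G → ℂ) g := fun n hn =>
    (CT.isClassFunction_isConj (CT.isClassFunction_of_isIrr χ.2)
      (htrans g hg n n.2 hg1 fun h => hn (Subtype.ext h))).symm
  -- every irreducible character of N is a constituent
  have hcon : ∀ ν : Cfsg.IrrCharacter N, ν ≠ CT.trivIrr N → classInner res (ν : N → ℂ) ≠ 0 := by
    intro ν hν h0
    have h1 : classInner (CT.trivIrr N : N → ℂ) (ν : N → ℂ) = 0 :=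
      CT.irr_inner_of_ne (CT.trivIrr N).2 ν.2 fun e => hν (Subtype.ext e).symm
    have hne : (χ : G → ℂ) 1 ≠ (χ : G → ℂ) g := by
      intro e
      exact hg1 ((S4836.result hG χ hχ).1 g e.symm)
    have e : res = (fun n : N => if n = 1 then (χ : G → ℂ) 1 - (χ : G → ℂ) g else 0) +
        (χ : G → ℂ) g • (CT.trivIrr N : N → ℂ) := by
      funext n
      by_cases hn : n = 1
      · subst hn; simp [res]
      · simp [hn, hval n hn]
    rw [e, CT.classInner_add_left, CT.classInner_smul_left, h1, mul_zero, add_zero, classInner,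
      Finset.sum_eq_single (1 : N) (fun b _ hb => by rw [if_neg hb, zero_mul])
        (fun h => absurd (Finset.mem_univ _) h), if_pos rfl] at h0
    simp [sub_eq_zero, hne, CT.irr_one_ne_zero ν.2] at h0
  have hμ' : μ ≠ CT.trivIrr N := fun e => hμ (by rw [e]; rfl)
  have horbit : CT.conjOrbit N (μ : N → ℂ) =
      (Finset.univ.erase (CT.trivIrr N)).image fun ν : Cfsg.IrrCharacter N => (ν : N → ℂ) := by
    ext ψ
    rw [CT.mem_conjOrbit, Finset.mem_image]
    constructor
    · rintro ⟨c, rfl⟩
      refine ⟨⟨_, CT.isIrrCharacter_conjFun N c μ.2⟩, Finset.mem_erase.mpr ⟨fun e => hμ ?_,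
        Finset.mem_univ _⟩, rfl⟩
      have h := congrArg (fun f : Cfsg.IrrCharacter N => CT.conjFun N c⁻¹ (f : N → ℂ)) e
      simp only at h
      rw [← CT.conjFun_mul, mul_inv_cancel, CT.conjFun_one] at h
      rw [h]
      funext n
      simp [CT.conjFun]
    · rintro ⟨ν, hν, rfl⟩
      exact CT.exists_conj_of_constituent N χ.2 μ.2 ν.2 (hcon μ hμ')
        (hcon ν (Finset.ne_of_mem_erase hν))
  have hidx : (CT.inertia N (μ : N → ℂ)).index + 1 = Nat.card N := by
    have hirr : Nat.card (Cfsg.IrrCharacter N) = Nat.card N := by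
      rw [CT.card_irr_eq_card_conjClasses]
      refine (Nat.card_eq_of_bijective ConjClasses.mk ⟨fun a b h => ?_, ConjClasses.mk_surjective⟩).symm
      obtain ⟨c, hc⟩ := isConj_iff.mp (ConjClasses.mk_eq_mk_iff_isConj.mp h)
      rw [← hc, hcomm' c a, mul_inv_cancel_right]
    rw [← CT.card_conjOrbit, horbit, Finset.card_image_of_injective _ Subtype.val_injective,
      Finset.card_erase_of_mem (Finset.mem_univ _), Finset.card_univ, ← Nat.card_eq_fintype_card,
      hirr]
    have : 0 < Nat.card N := Nat.card_pos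
    omega
  have hT : Nat.card (CT.inertia N (μ : N → ℂ)) =
      Nat.card (Subgroup.centralizer ({g} : Set G)) := by
    have h1 := (CT.inertia N (μ : N → ℂ)).card_mul_index
    have h2 := (Subgroup.centralizer ({g} : Set G)).card_mul_index
    have h3 := S.centralizer_index hg hg1
    rw [← h2, show (CT.inertia N (μ : N → ℂ)).index =
      (Subgroup.centralizer ({g} : Set G)).index by omega] at h1
    exact Nat.eq_of_mul_eq_mul_right
      (Nat.pos_of_ne_zero (Subgroup.index_ne_zero_of_finite)) h1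
  have hTp : IsPGroup p (CT.inertia N (μ : N → ℂ)) := by
    obtain ⟨k, hk⟩ := (S.centralizer_pgroup hg hg1).exists_card_eq
    exact IsPGroup.of_card (n := k) (hT.trans hk)
  have hnd : ¬ p ∣ (CT.inertia N (μ : N → ℂ)).index := by
    have h3 := S.centralizer_index hg hg1
    rw [show (CT.inertia N (μ : N → ℂ)).index =
      (Subgroup.centralizer ({g} : Set G)).index by omega]
    exact S.not_dvd_index hg hg1
  refine ⟨hTp.toSylow hnd, fun c => ?_⟩
  show c ∈ CT.inertia N (μ : N → ℂ) ↔ _
  rw [CT.mem_inertia]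
  constructor
  · intro h n n' hn'
    rw [← congrFun h n]
    exact congrArg (μ : N → ℂ) (Subtype.ext hn')
  · intro h
    funext n
    exact h n _ rfl

end Cfsg.Agent.S4837
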