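import Cfsg.Statements.S4838
import Cfsg.Agent.Lib.ClassSum.TwoClasses

set_option autoImplicit false
open Cfsg

namespace Cfsg.Agent.S4838

/-- Let G be a finite group of order greater than 2 with an irreducible character χ nonzero on exactly two conjugacy classes, N the normal p-subgroup of elements where χ is nonzero, and P a Sylow p-subgroup of G. Then (a) for every x outside N the centralizer of x in G has the same order as the centralizer of xN in G/N; (b) the centre of P lies in N, and equals N exactly when P is normal in G; (c) N, viewed inside P, is a term of the upper central series of P. -/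
theorem result {G : Type*} [Group G] [Finite G] (hG : 2 < Nat.card G) (χ : Cfsg.IrrCharacter G) (hχ : Nat.card {C : ConjClasses G // ∃ g ∈ C.carrier, (χ : G → ℂ) g ≠ 0} = 2) (p : ℕ) [Fact p.Prime] (N : Subgroup G) [N.Normal] (hN : ∀ g : G, g ∈ N ↔ (χ : G → ℂ) g ≠ 0) (hNp : IsPGroup p N) (hN1 : N ≠ ⊥) (P : Sylow p G) :
    (∀ x : G, x ∉ N → Nat.card (Subgroup.centralizer ({x} : Set G)) = Nat.card (Subgroup.centralizer ({(x : G ⧸ N)} : Set (G ⧸ N)))) ∧
      ((Subgroup.center ↥(P : Subgroup G)).map (P : Subgroup G).subtype ≤ N ∧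
        ((Subgroup.center ↥(P : Subgroup G)).map (P : Subgroup G).subtype = N ↔ (P : Subgroup G).Normal)) ∧
      (∃ i : ℕ, Subgroup.upperCentralSeries ↥(P : Subgroup G) i = N.subgroupOf (P : Subgroup G)) := by
  classical
  haveI := Fintype.ofFinite G
  have hp : p.Prime := Fact.out
  have S : TwoClasses.Setup χ p N := ⟨hG, hχ, hN, hNp, hN1⟩
  have hcent : ∀ x : G, x ∉ N → Nat.card (Subgroup.centralizer ({x} : Set G)) =
      Nat.card (Subgroup.centralizer ({(x : G ⧸ N)} : Set (G ⧸ N))) := by
    intro x hx
    have h1 := CT.card_conj_class_mul_centralizer x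
    have h2 := CT.card_conj_class_mul_centralizer (x : G ⧸ N)
    have e : Nat.card {y : G // IsConj x y} =
        Nat.card N * Nat.card {q : G ⧸ N // IsConj (x : G ⧸ N) q} := by
      refine Eq.trans (Nat.card_congr ?_)
        (QuotientGroup.card_preimage_mk N {q : G ⧸ N | IsConj (x : G ⧸ N) q})
      refine Equiv.subtypeEquivRight fun y => ⟨fun h => ?_, fun h => ?_⟩
      · obtain ⟨c, rfl⟩ := isConj_iff.mp h
        exact isConj_iff.mpr ⟨(c : G ⧸ N), rfl⟩
      · obtain ⟨q, hq⟩ := isConj_iff.mp (show IsConj (x : G ⧸ N) (y : G ⧸ N) from h)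
        obtain ⟨c, rfl⟩ := QuotientGroup.mk_surjective q
        rw [← QuotientGroup.mk_inv, ← QuotientGroup.mk_mul, ← QuotientGroup.mk_mul,
          QuotientGroup.eq] at hq
        set n := (c * x * c⁻¹)⁻¹ * y with hn
        have hn' : (c * x * c⁻¹) * n * (c * x * c⁻¹)⁻¹ ∈ N :=
          Subgroup.Normal.conj_mem inferInstance n hq _
        have hm : c⁻¹ * ((c * x * c⁻¹) * n * (c * x * c⁻¹)⁻¹) * c ∈ N := by
          simpa using Subgroup.Normal.conj_mem inferInstance _ hn' c⁻¹
        refine (S.coset_conj hx hm).trans (isConj_iff.mpr ⟨c, ?_⟩)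
        rw [hn]; group
    rw [e, ← N.card_mul_index, N.index_eq_card, ← h2, mul_assoc] at h1
    haveI : Nonempty {q : G ⧸ N // IsConj (x : G ⧸ N) q} := ⟨⟨_, IsConj.refl _⟩⟩
    exact Nat.eq_of_mul_eq_mul_left Nat.card_pos (Nat.eq_of_mul_eq_mul_left Nat.card_pos h1)
  have hNP : N ≤ (P : Subgroup G) := hNp.le_sylow_of_normal P
  obtain ⟨hmin, -, -, -, -⟩ := S.facts
  let Z : ℕ → Subgroup G := fun i =>
    (Subgroup.upperCentralSeries ↥(P : Subgroup G) i).map (P : Subgroup G).subtype
  have step : ∀ i, Z i ≤ N → Z i ≠ N → Z (i + 1) ≤ N := by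
    intro i hle hne
    rintro _ ⟨z, hz, rfl⟩
    by_contra hzN
    have hlt : Nat.card (Z i) < Nat.card N := by
      refine lt_of_le_of_ne (Nat.le_of_dvd Nat.card_pos (Subgroup.card_dvd_of_le hle)) fun h => hne ?_
      exact Subgroup.eq_of_le_of_card_ge hle h.ge
    haveI := Fintype.ofFinite (P : Subgroup G)
    have hclass : Nat.card {w : (P : Subgroup G) // IsConj z w} ≤ Nat.card (Z i) := by
      refine Nat.card_le_card_of_injective (fun w : {w : (P : Subgroup G) // IsConj z w} => (⟨((w.1 * z⁻¹ : (P : Subgroup G)) : G), ?_⟩ : Z i))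
        fun a b hab => ?_
      · obtain ⟨u, hu⟩ := isConj_iff.mp w.2
        show ((w.1 * z⁻¹ : (P : Subgroup G)) : G) ∈
          (Subgroup.upperCentralSeries ↥(P : Subgroup G) i).map (P : Subgroup G).subtype
        refine Subgroup.mem_map_of_mem (P : Subgroup G).subtype
          (x := (w.1 * z⁻¹ : (P : Subgroup G))) ?_
        rw [← hu]
        have h := Subgroup.inv_mem _ (Subgroup.mem_upperCentralSeries_succ_iff.mp hz u)
        rwa [commutatorElement_inv, commutatorElement_def] at h
      · have h : (a.1 * z⁻¹ : (P : Subgroup G)) = b.1 * z⁻¹ :=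
          Subtype.ext (congrArg Subtype.val hab :)
        exact Subtype.ext (mul_right_cancel h)
    set C := Subgroup.centralizer ({z} : Set (P : Subgroup G)) with hC
    have hCP : Nat.card {w : (P : Subgroup G) // IsConj z w} * Nat.card C =
        Nat.card (P : Subgroup G) := CT.card_conj_class_mul_centralizer z
    obtain ⟨j, hj⟩ := (P.2.to_subgroup C).exists_card_eq
    have hdvd : Nat.card C ∣ N.index := by
      refine dvd_trans ?_ (N.index_eq_card ▸
        Subgroup.card_subgroup_dvd_card (Subgroup.centralizer ({((z : G) : G ⧸ N)} : Set (G ⧸ N))))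
      rw [← hcent z hzN,
        ← Subgroup.card_map_of_injective (K := C) (P : Subgroup G).subtype_injective]
      refine Subgroup.card_dvd_of_le ?_
      rintro _ ⟨w, hw, rfl⟩
      exact Subgroup.mem_centralizer_singleton_iff.mpr
        (congrArg Subtype.val (Subgroup.mem_centralizer_singleton_iff.mp hw) :)
    obtain ⟨e, he⟩ := hNp.exists_card_eq
    have hPc := P.card_eq_multiplicity
    have hle2 : Nat.card C * Nat.card N ≤ Nat.card (P : Subgroup G) := by
      rw [hj, he, ← pow_add, hPc]
      refine Nat.pow_le_pow_right hp.pos ((hp.pow_dvd_iff_le_factorization Nat.card_pos.ne').mp ?_)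
      rw [pow_add, ← hj, ← he, mul_comm, ← N.card_mul_index]
      exact Nat.mul_dvd_mul_left _ hdvd
    rw [← hCP] at hle2
    have hpos : 0 < Nat.card C := Nat.card_pos
    nlinarith
  have hzero : Z 0 = ⊥ := by simp [Z, Subgroup.upperCentralSeries_zero]
  have h1 : Z 1 ≤ N := step 0 (by rw [hzero]; exact bot_le) (by rw [hzero]; exact Ne.symm hN1)
  have hZ1 : Z 1 = (Subgroup.center ↥(P : Subgroup G)).map (P : Subgroup G).subtype := by
    simp [Z, Subgroup.upperCentralSeries_one]
  rw [hZ1] at h1
  refine ⟨hcent, ⟨h1, ?_, ?_⟩, ?_⟩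
  · intro heq
    obtain ⟨g, hg, hg1⟩ := N.bot_or_exists_ne_one.resolve_left hN1
    have hPC : ∀ a ∈ N, (P : Subgroup G) ≤ Subgroup.centralizer ({a} : Set G) := by
      intro a ha w hw
      rw [← heq] at ha
      obtain ⟨a', ha', rfl⟩ := ha
      exact Subgroup.mem_centralizer_singleton_iff.mpr
        (congrArg Subtype.val (Subgroup.mem_center_iff.mp ha' ⟨w, hw⟩) :)
    have hPN : (P : Subgroup G) = Subgroup.centralizer (N : Set G) := by
      refine le_antisymm (fun w hw => Subgroup.mem_centralizer_iff.mpr fun a ha =>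
        (Subgroup.mem_centralizer_singleton_iff.mp (hPC a ha hw)).symm) ?_
      obtain ⟨Q, hQ⟩ := S.centralizer_sylow hg hg1
      have := P.3 Q.2 (hQ ▸ hPC g hg)
      rw [← this, ← hQ]
      exact Subgroup.centralizer_le (Set.singleton_subset_iff.mpr hg)
    rw [hPN]
    exact Subgroup.normal_centralizer
  · intro hPn
    refine le_antisymm h1 (hmin _ ?_ ?_)
    · haveI := hPn
      exact ConjAct.normal_of_characteristic_of_normal
    · intro e
      haveI : Nontrivial (P : Subgroup G) := by
        obtain ⟨g, hg, hg1⟩ := N.bot_or_exists_ne_one.resolve_left hN1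
        exact ⟨⟨g, hNP hg⟩, 1, fun h => hg1 (congrArg Subtype.val h)⟩
      have h := P.2.center_nontrivial
      rw [Subgroup.map_eq_bot_iff_of_injective _ (P : Subgroup G).subtype_injective] at e
      exact (Subgroup.nontrivial_iff_ne_bot _).mp h e
  · by_contra hcon
    push Not at hcon
    have hne : ∀ i, Z i ≠ N := fun i h => hcon i (by
      rw [← h, Subgroup.subgroupOf, Subgroup.comap_map_eq_self_of_injective]
      exact (P : Subgroup G).subtype_injective)
    have hall : ∀ i, Z i ≤ N := by
      intro i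
      induction i with
      | zero => rw [hzero]; exact bot_le
      | succ i ih => exact step i ih (hne i)
    haveI := P.2.isNilpotent
    obtain ⟨n, hn⟩ := Group.IsNilpotent.nilpotent ↥(P : Subgroup G)
    refine hne n (le_antisymm (hall n) ?_)
    simp only [Z, hn, ← MonoidHom.range_eq_map, Subgroup.range_subtype]
    exact hNP

end Cfsg.Agent.S4838
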