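import Cfsg.Statements.S4839
import Cfsg.Agent.Lib.ClassSum.TwoClasses
import Cfsg.Agent.S0035
import Mathlib.GroupTheory.SchurZassenhaus

set_option autoImplicit false
open Cfsg

namespace Cfsg.Agent.S4839

/-- Let G be a finite group of order greater than 2 with an irreducible character χ nonzero on exactly two conjugacy classes, and let N be the normal p-subgroup of elements where χ is nonzero. Then N is the whole p-core O_p(G) if and only if G is a doubly transitive Frobenius group with kernel N: G has a Frobenius complement H whose Frobenius kernel is N and whose order is one less than that of N. -/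
theorem result {G : Type*} [Group G] [Finite G] (hG : 2 < Nat.card G) (χ : Cfsg.IrrCharacter G) (hχ : Nat.card {C : ConjClasses G // ∃ g ∈ C.carrier, (χ : G → ℂ) g ≠ 0} = 2) (p : ℕ) [Fact p.Prime] (N : Subgroup G) [N.Normal] (hN : ∀ g : G, g ∈ N ↔ (χ : G → ℂ) g ≠ 0) (hNp : IsPGroup p N) (hN1 : N ≠ ⊥) :
    N = Cfsg.pCore p G ↔ ∃ H : Subgroup G, Cfsg.IsFrobeniusComplement H ∧ Cfsg.frobeniusKernel H = (N : Set G) ∧ Nat.card H + 1 = Nat.card N := by
  classical
  have hp : p.Prime := Fact.out
  have S : TwoClasses.Setup χ p N := ⟨hG, hχ, hN, hNp, hN1⟩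
  obtain ⟨g, hg, hg1⟩ := N.bot_or_exists_ne_one.resolve_left hN1
  obtain ⟨-, hcomm, -, -, -⟩ := S.facts
  constructor
  · intro hO
    have hnd : ¬ p ∣ N.index := S.card_eq hO
    have hCN : ∀ a ∈ N, a ≠ 1 → Subgroup.centralizer ({a} : Set G) = N := by
      intro a ha ha1
      have h := (hNp.toSylow hnd).3 (S.centralizer_pgroup ha ha1) fun b hb =>
        Subgroup.mem_centralizer_singleton_iff.mpr (hcomm b hb a ha)
      exact h
    obtain ⟨H, hH⟩ := Subgroup.exists_right_complement'_of_coprime (N := N) (by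
      obtain ⟨k, hk⟩ := hNp.exists_card_eq
      rw [hk]
      exact Nat.Coprime.pow_left _ (hp.coprime_iff_not_dvd.mpr hnd))
    have hHc : Nat.card H + 1 = Nat.card N := by
      have h1 := S.centralizer_index hg hg1
      rw [hCN g hg hg1] at h1
      have h2 := hH.card_mul
      rw [← N.card_mul_index] at h2
      rw [Nat.eq_of_mul_eq_mul_left Nat.card_pos h2]
      exact h1
    have hH1 : H ≠ ⊥ := by
      intro e
      have h2 := hH.card_mul
      rw [e, Subgroup.card_bot] at hHc h2
      rw [← hHc] at h2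
      omega
    have hFC : Cfsg.IsFrobeniusComplement H := by
      refine ⟨hH1, fun e => ?_, fun c hc => (Subgroup.eq_bot_iff_forall _).mpr fun x hx => ?_⟩
      · exact hg1 (Subgroup.mem_bot.mp (hH.disjoint.le_bot ⟨hg, e ▸ Subgroup.mem_top g⟩))
      obtain ⟨hxH, hxg⟩ := hx
      obtain ⟨w, hw, rfl⟩ := Subgroup.mem_map.mp hxg
      change c * w * c⁻¹ ∈ H at hxH
      change c * w * c⁻¹ = 1
      obtain ⟨⟨⟨z, hz⟩, ⟨h, hh⟩⟩, hc'⟩ := hH.2 c
      change z * h = c at hc'
      set y := h * w * h⁻¹ with hy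
      have hyH : y ∈ H := H.mul_mem (H.mul_mem hh hw) (H.inv_mem hh)
      have hzy : z * y * z⁻¹ ∈ H := by
        rw [show z * y * z⁻¹ = c * w * c⁻¹ by rw [← hc', hy]; group]
        exact hxH
      have hcm : z * y * z⁻¹ * y⁻¹ = 1 := by
        refine Subgroup.mem_bot.mp (hH.disjoint.le_bot ⟨?_, H.mul_mem hzy (H.inv_mem hyH)⟩)
        rw [show z * y * z⁻¹ * y⁻¹ = z * (y * z⁻¹ * y⁻¹) by group]
        exact N.mul_mem hz (Subgroup.Normal.conj_mem inferInstance _ (N.inv_mem hz) y)
      have hz1 : z ≠ 1 := fun e => hc (by rw [← hc', e, one_mul]; exact hh)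
      have hyN : y ∈ N := by
        rw [← hCN z hz hz1, Subgroup.mem_centralizer_singleton_iff]
        rw [mul_inv_eq_one, mul_inv_eq_iff_eq_mul] at hcm
        exact hcm.symm
      have hy1 : y = 1 := Subgroup.mem_bot.mp (hH.disjoint.le_bot ⟨hyN, hyH⟩)
      rw [conj_eq_one_iff.mp hy1, mul_one, mul_inv_cancel]
    refine ⟨H, hFC, ?_, hHc⟩
    obtain ⟨K, hK, hKn, hKc⟩ := S0035.result H hFC
    haveI := hKn
    rw [← hK]
    have hKcard : Nat.card K = Nat.card N := by
      have h := hKc.card_mul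
      rw [← hH.card_mul] at h
      exact Nat.eq_of_mul_eq_mul_right Nat.card_pos h
    obtain ⟨k, hk⟩ := hNp.exists_card_eq
    have hKp : IsPGroup p K := IsPGroup.of_card (hKcard.trans hk)
    rw [Subgroup.eq_of_le_of_card_ge (hKp.le_sylow_of_normal (hNp.toSylow hnd))
      hKcard.ge]
    rfl
  · rintro ⟨H, hFC, hker, hHc⟩
    refine le_antisymm (Basics.le_pCore hNp) ?_
    obtain ⟨K, hK, -, hKc⟩ := S0035.result H hFC
    have hKN : K = N := SetLike.coe_injective (hK.trans hker)
    subst hKN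
    have hO := Basics.pCore_isPGroup (G := G) p
    obtain ⟨k, hk⟩ := hO.exists_card_eq
    refine (Subgroup.eq_of_le_of_card_ge (Basics.le_pCore hNp) (Nat.le_of_dvd Nat.card_pos ?_)).ge
    have h1 : Nat.card (Cfsg.pCore p G) ∣ Nat.card K * Nat.card H :=
      hKc.card_mul ▸ Subgroup.card_subgroup_dvd_card _
    refine Nat.Coprime.dvd_of_dvd_mul_right ?_ h1
    rw [hk]
    refine Nat.Coprime.pow_left _ (hp.coprime_iff_not_dvd.mpr fun h => ?_)
    obtain ⟨j, hj⟩ := hNp.exists_card_eq
    have h2 : p ∣ Nat.card K := by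
      rcases Nat.eq_zero_or_pos j with rfl | hj'
      · exact absurd (Subgroup.eq_bot_of_card_eq _ (by rw [hj, pow_zero])) hN1
      · exact hj ▸ dvd_pow_self p hj'.ne'
    rw [← hHc] at h2
    exact hp.not_dvd_one ((Nat.dvd_add_right h).mp h2)

end Cfsg.Agent.S4839
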