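import Cfsg.Statements.S4840
import Cfsg.Agent.Lib.CT.TwoClassLinear
import Cfsg.Agent.Lib.CT.Clifford
import Cfsg.Agent.Lib.CT.Kernel
import Cfsg.Agent.Lib.CT.Chief
import Cfsg.Agent.Lib.CoprimeExt.Basic
import Cfsg.Agent.Lib.Basics.Tools
-- import your own Cfsg.Agent.* helpers here

set_option autoImplicit false
set_option linter.all false
set_option maxHeartbeats 1000000
open Cfsg

namespace Cfsg.Agent.S4840

open Cfsg.Agent in
open scoped ComplexConjugate in
theorem main {G : Type*} [Group G] [Fintype G] [hs : Group.IsSolvable G] {χ : Cfsg.IrrCharacter G}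
    (x : G) (hx1 : x ≠ 1) (hxne : (χ : G → ℂ) x ≠ 0)
    (honly : ∀ g : G, (χ : G → ℂ) g ≠ 0 → g = 1 ∨ IsConj x g) (hntriv : (χ : G → ℂ) ≠ fun _ => 1) :
    ∃ p : ℕ, p.Prime ∧ (∀ q : ℕ, q.Prime → (Cfsg.pCore q G ≠ ⊥ ↔ q = p)) ∧
      Cfsg.HasNormalPComplement p (G ⧸ Cfsg.pCore p G) ∧
      ∀ Q : Sylow p (G ⧸ Cfsg.pCore p G), IsMulCommutative (Q : Subgroup (G ⧸ Cfsg.pCore p G)) := by
  classical
  have hχc := CT.isCharacter_of_isIrr χ.2
  have hχcf := CT.isClassFunction_of_isIrr χ.2
  set b := CT.deg (χ : G → ℂ) with hb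
  have hb1 : (χ : G → ℂ) 1 = (b : ℂ) := CT.deg_eq hχc
  have hb0 : (b : ℂ) ≠ 0 := hb1 ▸ CT.irr_one_ne_zero χ.2
  set S : Finset G := Finset.univ.filter fun g => IsConj x g with hS
  have hxS : x ∈ S := Finset.mem_filter.mpr ⟨Finset.mem_univ _, IsConj.refl _⟩
  have hSval : ∀ g ∈ S, (χ : G → ℂ) g = (χ : G → ℂ) x := fun g hg =>
    (CT.isClassFunction_isConj hχcf (Finset.mem_filter.mp hg).2).symm
  have h1S : (1 : G) ∉ S := fun h => hx1 (isConj_one_left.mp (Finset.mem_filter.mp h).2)
  have hsupp : ∀ (f : G → ℂ), ∑ g, (χ : G → ℂ) g * f g =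
      (b : ℂ) * f 1 + (χ : G → ℂ) x * ∑ g ∈ S, f g := by
    intro f
    rw [Finset.mul_sum, ← hb1, ← Finset.sum_congr rfl fun g hg => congrArg (· * f g) (hSval g hg),
      ← Finset.sum_insert (s := S) (a := 1) (f := fun g => (χ : G → ℂ) g * f g) h1S]
    refine (Finset.sum_subset (Finset.subset_univ _) fun g _ hg => ?_).symm
    by_contra h0
    rcases honly g (fun e => h0 (by rw [e, zero_mul])) with h | h
    · exact hg (Finset.mem_insert.mpr (Or.inl h))
    · exact hg (Finset.mem_insert.mpr (Or.inr (Finset.mem_filter.mpr ⟨Finset.mem_univ _, h⟩)))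
  -- the value at `x`
  have hax : (b : ℂ) + (χ : G → ℂ) x * (S.card : ℂ) = 0 := by
    have h0 : classInner (χ : G → ℂ) (fun _ => 1) = 0 :=
      CT.irr_inner_of_ne χ.2 CT.isIrrCharacter_one hntriv
    rw [classInner, hsupp fun _ => conj (1 : ℂ)] at h0
    simpa [Nat.card_pos.ne'] using h0
  have hScard : (S.card : ℂ) ≠ 0 := Nat.cast_ne_zero.mpr (Finset.card_ne_zero_of_mem hxS)
  have hxb : (χ : G → ℂ) x ≠ (b : ℂ) := by
    intro e
    rw [e] at hax
    have h : (b : ℂ) * ((S.card + 1 : ℕ) : ℂ) = 0 := by push_cast; linear_combination hax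
    exact (mul_ne_zero hb0 (Nat.cast_ne_zero.mpr (by omega))) h
  -- every nontrivial normal subgroup contains `x`
  have hmem : ∀ L : Subgroup G, L.Normal → L ≠ ⊥ → x ∈ L := by
    intro L hL hLb
    by_contra hxL
    haveI := hL
    haveI := Fintype.ofFinite L
    have hzero : ∀ l : L, l ≠ 1 → (χ : G → ℂ) l = 0 := fun l hl => by
      by_contra h0
      rcases honly l h0 with h | h
      · exact hl (Subtype.ext h)
      · obtain ⟨c, hc⟩ := isConj_iff.mp h.symm
        exact hxL (hc ▸ hL.conj_mem (l : G) l.2 c)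
    have hin : classInner (fun l : L => (χ : G → ℂ) l) (fun _ : L => (1 : ℂ)) ≠ 0 := by
      rw [classInner, Finset.sum_eq_single (1 : L) (fun l _ hl => by rw [hzero l hl, zero_mul])
        (fun h => absurd (Finset.mem_univ _) h), OneMemClass.coe_one, hb1, map_one, mul_one]
      exact mul_ne_zero (inv_ne_zero CT.card_ne_zero) hb0
    have hres := CT.restrict_eq_smul_of_invariant L χ.2 CT.isIrrCharacter_one hin fun g => rfl
    obtain ⟨l, hl, hl1⟩ := (Subgroup.bot_or_exists_ne_one L).resolve_left hLb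
    have e1 := congrFun hres ⟨l, hl⟩
    have e2 := congrFun hres 1
    simp only [Pi.smul_apply, smul_eq_mul, OneMemClass.coe_one] at e1 e2
    rw [hb1] at e2
    exact hb0 (e2.trans (e1.symm.trans (hzero ⟨l, hl⟩ fun e => hl1 (congrArg Subtype.val e))))
  -- the minimal normal subgroup
  haveI : Nontrivial G := ⟨⟨x, 1, hx1⟩⟩
  obtain ⟨p, E, hp, hEn, -, hEb, hEab, hEexp⟩ :=
    Basics.exists_elementary_normal (N := (⊤ : Subgroup G)) top_ne_bot inferInstance
  haveI := Fact.mk hp
  set M := Subgroup.normalClosure ({x} : Set G) with hMdef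
  haveI hMn : M.Normal := Subgroup.normalClosure_normal
  have hxM : x ∈ M := Subgroup.subset_normalClosure rfl
  have hMb : M ≠ ⊥ := fun h => hx1 (Subgroup.mem_bot.mp (h ▸ hxM))
  have hMle : ∀ L : Subgroup G, L.Normal → L ≠ ⊥ → M ≤ L := fun L hL hLb => by
    haveI := hL
    exact Subgroup.normalClosure_le_normal (Set.singleton_subset_iff.mpr (hmem L hL hLb))
  have hME : M ≤ E := hMle E hEn hEb
  have hexp : ∀ m : M, m ^ p = 1 := fun m => Subtype.ext (hEexp m (hME m.2))
  have hMc : ∀ a c : M, a * c = c * a := fun a c =>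
    Subtype.ext (congrArg (fun y : E => (y : G)) (mul_comm' (⟨a, hME a.2⟩ : E) ⟨c, hME c.2⟩))
  letI : CommGroup M := { (inferInstance : Group M) with mul_comm := hMc }
  haveI : Nontrivial M := M.nontrivial_iff_ne_bot.mpr hMb
  haveI := Fintype.ofFinite M
  have hMp : IsPGroup p M := fun m => ⟨1, by simpa using hexp m⟩
  have hSM : ∀ g ∈ S, g ∈ M := fun g hg => by
    obtain ⟨c, hc⟩ := isConj_iff.mp (Finset.mem_filter.mp hg).2
    exact hc ▸ hMn.conj_mem x hxM c
  -- every nontrivial character of `M` is a constituent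
  let res : M → ℂ := fun m => (χ : G → ℂ) m
  have hin : ∀ μ : IrrCharacter M, (μ : M → ℂ) ≠ (fun _ => 1) → classInner res (μ : M → ℂ) ≠ 0 := by
    intro μ hμ h0
    obtain ⟨lam, hlam⟩ := CT.exists_hom_of_comm hMc μ.2
    let f : G → ℂ := fun g => if hg : g ∈ M then conj ((μ : M → ℂ) ⟨g, hg⟩) else 0
    have hsum : ∑ g, (χ : G → ℂ) g * f g = ∑ m : M, res m * conj ((μ : M → ℂ) m) := by
      rw [← Finset.sum_subtype (Finset.univ.filter (· ∈ M)) (fun g => by simp) (fun g => (χ : G → ℂ) g * f g) |>.trans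
        (Finset.sum_congr rfl fun m _ => by simp [f, res])]
      refine (Finset.sum_subset (Finset.subset_univ _) fun g _ hg => ?_).symm
      have : g ∉ M := fun h => hg (Finset.mem_filter.mpr ⟨Finset.mem_univ _, h⟩)
      simp [f, dif_neg this]
    have h1 : ∑ m : M, res m * conj ((μ : M → ℂ) m) = 0 := by
      rw [classInner] at h0
      exact (mul_eq_zero.mp h0).resolve_left (inv_ne_zero CT.card_ne_zero)
    rw [← hsum, hsupp] at h1
    have hf1 : f 1 = 1 := by
      have : (μ : M → ℂ) 1 = 1 := CT.irr_degree_one_of_comm hMc μ.2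
      simp [f, M.one_mem, this, show (⟨1, M.one_mem⟩ : M) = 1 from rfl]
    rw [hf1, mul_one] at h1
    have h2 : ∑ g ∈ S, f g = (S.card : ℂ) := by
      refine mul_left_cancel₀ hxne ?_
      linear_combination h1 - hax
    have hnorm : ∀ g ∈ S, ‖f g‖ = 1 := fun g hg => by
      simp only [f, dif_pos (hSM g hg), Complex.norm_conj, hlam]
      refine Complex.norm_eq_one_of_pow_eq_one (n := Nat.card M) ?_ Nat.card_pos.ne'
      rw [← Units.val_pow_eq_pow_val, ← map_pow, pow_card_eq_one', map_one, Units.val_one]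
    have hre : ∀ g ∈ S, (f g).re = 1 := by
      have h3 : ∑ g ∈ S, (1 - (f g).re) = 0 := by
        rw [Finset.sum_sub_distrib, ← Complex.re_sum, h2]
        simp
      intro g hg
      have h4 := (Finset.sum_eq_zero_iff_of_nonneg fun g hg => sub_nonneg.mpr
        ((Complex.re_le_norm _).trans_eq (hnorm g hg))).mp h3 g hg
      linarith
    refine hμ ?_
    have htriv : ∀ g (hg : g ∈ S), lam ⟨g, hSM g hg⟩ = 1 := fun g hg => by
      have h5 : f g = 1 := by
        have h6 := hnorm g hg
        have h7 : (f g).im = 0 := by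
          have h8 : (f g).re ^ 2 + (f g).im ^ 2 = 1 := by
            rw [← one_pow 2, ← h6, ← Complex.normSq_eq_norm_sq, Complex.normSq_apply]; ring
          rw [hre g hg] at h8
          exact pow_eq_zero_iff two_ne_zero |>.mp (by linarith)
        exact Complex.ext (by rw [hre g hg, Complex.one_re]) (by rw [h7, Complex.one_im])
      refine Units.ext ?_
      simp only [f, dif_pos (hSM g hg), hlam] at h5
      exact (starRingEnd ℂ).injective (h5.trans (map_one _).symm)
    funext m
    rw [hlam]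
    have hker : M ≤ (lam.ker).map M.subtype := by
      show Subgroup.closure (Group.conjugatesOfSet {x}) ≤ _
      rw [Subgroup.closure_le]
      intro g hg
      rw [Group.mem_conjugatesOfSet_iff] at hg
      obtain ⟨_, rfl, hg⟩ := hg
      have hgS : g ∈ S := Finset.mem_filter.mpr ⟨Finset.mem_univ _, hg⟩
      exact ⟨⟨g, hSM g hgS⟩, htriv g hgS, rfl⟩
    obtain ⟨m', hm', he⟩ := hker m.2
    obtain rfl : m' = m := Subtype.ext he
    simp [MonoidHom.mem_ker.mp hm']
  have hnot1 : classInner res (fun _ => 1) = 0 := by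
    by_contra h
    have hres := CT.restrict_eq_smul_of_invariant M χ.2 CT.isIrrCharacter_one h fun g => rfl
    have e1 := congrFun hres ⟨x, hxM⟩
    have e2 := congrFun hres 1
    simp only [Pi.smul_apply, smul_eq_mul, OneMemClass.coe_one] at e1 e2
    exact hxb (e1.trans (e2.symm.trans hb1))
  have hcardIrr : Fintype.card (IrrCharacter M) = Fintype.card M := by
    have h := CT.sum_degree_sq (G := M)
    simp only [CT.irr_degree_one_of_comm hMc (Subtype.prop _), one_pow, Finset.sum_const,
      Finset.card_univ, nsmul_eq_mul, mul_one] at h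
    rw [← Nat.card_eq_fintype_card (α := M)]
    exact_mod_cast h
  obtain ⟨μ, hμ⟩ : ∃ μ : IrrCharacter M, (μ : M → ℂ) ≠ (fun _ => 1) := by
    by_contra hcon
    push Not at hcon
    have : Subsingleton (IrrCharacter M) := ⟨fun a c => Subtype.ext ((hcon a).trans (hcon c).symm)⟩
    have h1 : Fintype.card (IrrCharacter M) ≤ 1 := Fintype.card_le_one_iff_subsingleton.mpr this
    have h2 : 1 < Fintype.card M := Fintype.one_lt_card
    omega
  set e := CT.mult res (μ : M → ℂ) with he
  have hspec : classInner res (μ : M → ℂ) = (e : ℂ) :=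
    CT.mult_spec (CT.isCharacter_restrict M hχc) (CT.isCharacter_of_isIrr μ.2)
  have he0 : e ≠ 0 := fun h => hin μ hμ (by rw [hspec, h, Nat.cast_zero])
  have hall : ∀ ν : IrrCharacter M, classInner res (ν : M → ℂ) =
      if (ν : M → ℂ) = (fun _ => 1) then 0 else (e : ℂ) := fun ν => by
    split_ifs with h
    · rw [h]; exact hnot1
    · obtain ⟨g, hg⟩ := CT.exists_conj_of_constituent M χ.2 μ.2 ν.2 (hin μ hμ) (hin ν h)
      rw [← hg, CT.classInner_restrict_conjFun M hχcf, hspec]
  -- the values on `M`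
  have hres : ∀ m : M, res m = (if m = 1 then (e : ℂ) * (Fintype.card M : ℂ) else 0) - (e : ℂ) := by
    intro m
    have h1 := congrFun (CT.classFunction_eq_sum
      (CT.isClassFunction_of_isCharacter (CT.isCharacter_restrict M hχc))) m
    show (χ : G → ℂ) m = _
    rw [h1, Finset.sum_apply]
    have h2 : ∀ ν : IrrCharacter M, (classInner (fun h : M => (χ : G → ℂ) h) (ν : M → ℂ) • (ν : M → ℂ)) m =
        (e : ℂ) * (ν : M → ℂ) m - (if (ν : M → ℂ) = (fun _ => 1) then (e : ℂ) else 0) := fun ν => by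
      rw [Pi.smul_apply, smul_eq_mul, show classInner (fun h : M => (χ : G → ℂ) h) (ν : M → ℂ) = _ from hall ν]
      split_ifs with h
      · rw [h]; ring
      · ring
    rw [Finset.sum_congr rfl fun ν _ => h2 ν, Finset.sum_sub_distrib, ← Finset.mul_sum]
    have h3 : ∑ ν : IrrCharacter M, (if (ν : M → ℂ) = (fun _ => 1) then (e : ℂ) else 0) = e := by
      rw [Finset.sum_eq_single (CT.trivIrr M) (fun ν _ hne => if_neg fun h : (ν : M → ℂ) = (fun _ => 1) => hne (Subtype.ext h))
        (fun h => absurd (Finset.mem_univ _) h)]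
      exact if_pos rfl
    have h4 := CT.column_orthogonality m (1 : M)
    simp only [CT.irr_degree_one_of_comm hMc (Subtype.prop _), map_one, mul_one] at h4
    rw [h3, h4]
    by_cases hm : m = 1
    · subst hm
      rw [if_pos (IsConj.refl _), if_pos rfl]
      congr 2
      rw [← Nat.card_eq_fintype_card]
      exact_mod_cast congrArg (fun T : Subgroup M => Nat.card T)
        (eq_top_iff.mpr fun a _ => Subgroup.mem_centralizer_singleton_iff.mpr (by simp) :
          Subgroup.centralizer ({(1 : M)} : Set M) = ⊤) |>.trans Subgroup.card_top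
    · rw [if_neg (fun h => hm (isConj_one_left.mp h)), if_neg hm, mul_zero]
  have hconjM : ∀ m : M, m ≠ 1 → IsConj x (m : G) := fun m hm =>
    (honly m (by
      show res m ≠ 0
      rw [hres m, if_neg hm, zero_sub, neg_ne_zero]
      exact_mod_cast he0)).resolve_left fun h => hm (Subtype.ext h)
  -- orders
  set Q := Nat.card M with hQ
  have hQ2 : 2 ≤ Q := Finite.one_lt_card
  have hScardM : S.card + 1 = Q := by
    rw [hQ, Nat.card_eq_fintype_card, ← Finset.card_insert_of_notMem h1S, ← Finset.card_univ]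
    refine (Finset.card_bij (fun (m : M) _ => (m : G)) (fun m _ => ?_) (fun a _ c _ h => Subtype.ext h)
      (fun g hg => ?_)).symm
    · rcases eq_or_ne m 1 with rfl | hm
      · exact Finset.mem_insert_self _ _
      · exact Finset.mem_insert_of_mem (Finset.mem_filter.mpr ⟨Finset.mem_univ _, hconjM m hm⟩)
    · rcases Finset.mem_insert.mp hg with rfl | hg
      · exact ⟨1, Finset.mem_univ _, rfl⟩
      · exact ⟨⟨g, hSM g hg⟩, Finset.mem_univ _, rfl⟩
  have hbe : b = e * (Q - 1) := by
    have h := hres 1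
    rw [if_pos rfl, ← Nat.card_eq_fintype_card, ← hQ] at h
    have h' : (b : ℂ) = (e : ℂ) * Q - e := by rw [← hb1]; exact h
    have h'' : ((b + e : ℕ) : ℂ) = ((e * Q : ℕ) : ℂ) := by push_cast; linear_combination h'
    have h3 : b + e = e * Q := by exact_mod_cast h''
    rw [Nat.mul_sub, mul_one, ← h3, Nat.add_sub_cancel]
  have hGcard : Nat.card G = e ^ 2 * (Q - 1) * Q := by
    have h1 := CT.classInner_self_eq_sum (χ : G → ℂ)
    rw [CT.irr_inner_self χ.2, mul_one, hsupp fun g => conj ((χ : G → ℂ) g),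
      Finset.sum_congr rfl fun g hg => congrArg conj (hSval g hg), Finset.sum_const, nsmul_eq_mul, hb1,
      show (χ : G → ℂ) x = -(e : ℂ) by
        have := hres ⟨x, hxM⟩
        rw [if_neg (fun h => hx1 (congrArg Subtype.val h)), zero_sub] at this
        exact this] at h1
    simp only [map_neg, map_natCast] at h1
    have h2 : Nat.card G = b * b + S.card * (e * e) := by
      have : ((Nat.card G : ℕ) : ℂ) = ((b * b + S.card * (e * e) : ℕ) : ℂ) := by
        push_cast; linear_combination h1
      exact_mod_cast this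
    obtain ⟨Q', hQ'⟩ : ∃ Q', Q = Q' + 1 := ⟨Q - 1, by omega⟩
    rw [h2, hbe, hQ', Nat.add_sub_cancel, show S.card = Q' by omega]
    ring
  have he2 : 0 < e := Nat.pos_of_ne_zero he0
  -- `e` is a power of `p`
  have hTidx : (CT.inertia M (μ : M → ℂ)).index = Q - 1 := by
    have h := CT.clifford_mult M χ.2 μ.2 (hin μ hμ)
    have hd : CT.deg (μ : M → ℂ) = 1 := by
      have h1 := CT.deg_eq (CT.isCharacter_of_isIrr μ.2)
      rw [CT.irr_degree_one_of_comm hMc μ.2] at h1
      exact_mod_cast h1.symm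
    rw [hd, mul_one, ← hb, hbe] at h
    exact (Nat.eq_of_mul_eq_mul_left he2 h).symm
  set T := CT.inertia M (μ : M → ℂ) with hTdef
  have hTcard : Nat.card T = e ^ 2 * Q := by
    have h := T.card_mul_index
    rw [hTidx, hGcard] at h
    refine Nat.eq_of_mul_eq_mul_right (show 0 < Q - 1 by omega) ?_
    rw [h]; ring
  obtain ⟨a, ha⟩ := IsPGroup.iff_card.mp hMp
  have hep : ∀ r : ℕ, r.Prime → r ∣ e → r = p := by
    intro r hr hre
    by_contra hrp
    haveI := Fact.mk hr
    obtain ⟨R⟩ : Nonempty (Sylow r T) := inferInstance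
    set R' := (R : Subgroup T).map T.subtype with hR'
    set k := (Nat.card T).factorization r with hk
    have hRcard : Nat.card R' = r ^ k := by
      rw [hR', Subgroup.card_map_of_injective T.subtype_injective]
      exact R.card_eq_multiplicity
    have hcopMR : (Nat.card M).Coprime (Nat.card R') := by
      rw [hRcard, ha]; exact Nat.coprime_pow_primes _ _ hp hr (Ne.symm hrp)
    set S' := M ⊔ R' with hS'
    have hS'card : Nat.card S' = Q * r ^ k := by
      rw [hS', Basics.card_sup_of_coprime Subgroup.le_normalizer_of_normal hcopMR, hRcard]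
    haveI := Fintype.ofFinite S'
    set N := M.subgroupOf S' with hN
    haveI : N.Normal := inferInstance
    let eN : N ≃* M := Subgroup.subgroupOfEquivOfLe le_sup_left
    obtain ⟨lam, hlam⟩ := CT.exists_hom_of_comm hMc μ.2
    have hindex : N.index = r ^ k := by
      have h := N.card_mul_index
      rw [Nat.card_congr eN.toEquiv, hS'card] at h
      exact Nat.eq_of_mul_eq_mul_left Nat.card_pos h
    have hTinv : ∀ g ∈ T, ∀ m : M, lam ⟨g * m * g⁻¹, hMn.conj_mem m m.2 g⟩ = lam m := fun g hg m => by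
      have h := (CT.mem_inertia_iff M).mp hg m
      rw [hlam] at h
      exact Units.ext h
    have hS'T : S' ≤ T := sup_le (CT.le_inertia M (CT.isClassFunction_of_isIrr μ.2)) (Subgroup.map_subtype_le _)
    obtain ⟨nu, hnu, -⟩ := CoprimeExt.exists_lin_ext N (lam.comp eN.toMonoidHom)
      (fun g n => hTinv (g : G) (hS'T g.2) (eN n)) (by
        rw [hindex]
        refine Nat.Coprime.pow_left _ ?_
        refine Nat.Coprime.coprime_dvd_right (orderOf_dvd_of_pow_eq_one ?_)
          ((Nat.coprime_primes hr hp).mpr hrp)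
        ext n
        simp only [MonoidHom.pow_apply, MonoidHom.comp_apply, MonoidHom.one_apply, ← map_pow]
        rw [show eN.toMonoidHom (n ^ p) = 1 by rw [map_pow]; exact hexp _, map_one])
    obtain ⟨n, hn⟩ := CT.classInner_character_nat (CT.isCharacter_restrict S' hχc) (CT.isCharacter_lin nu)
    have hsum : ∑ g : S', (χ : G → ℂ) g * conj (nu g : ℂ) = (Q : ℂ) * e := by
      rw [← hspec, hQ, classInner, ← mul_assoc, mul_inv_cancel₀ CT.card_ne_zero, one_mul]
      let ι : M → S' := fun m => ⟨m, le_sup_left (a := M) m.2⟩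
      rw [← Finset.sum_image (f := fun g : S' => (χ : G → ℂ) g * conj (nu g : ℂ)) (g := ι)
        (fun a _ c _ h => Subtype.ext (congrArg (fun g : S' => (g : G)) h)) |>.trans
        (Finset.sum_congr rfl fun m _ => ?_)]
      · refine (Finset.sum_subset (Finset.subset_univ _) fun g _ hg => ?_).symm
        have hgM : (g : G) ∉ M := fun h => hg (Finset.mem_image.mpr ⟨⟨g, h⟩, Finset.mem_univ _, rfl⟩)
        have h0 : (χ : G → ℂ) g = 0 := by
          by_contra h0
          rcases honly g h0 with h | h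
          · exact hgM (h ▸ M.one_mem)
          · exact hgM (hSM g (Finset.mem_filter.mpr ⟨Finset.mem_univ _, h⟩))
        rw [h0, zero_mul]
      · have hm := hnu ⟨ι m, Subgroup.mem_subgroupOf.mpr m.2⟩
        show (χ : G → ℂ) m * conj (nu (ι m) : ℂ) = res m * conj ((μ : M → ℂ) m)
        rw [hlam, show nu (ι m) = lam m from hm]
    have h3 : (Nat.card S' : ℂ) * n = (Q : ℂ) * e := by
      rw [← hn, classInner, ← mul_assoc, mul_inv_cancel₀ CT.card_ne_zero, one_mul, hsum]
    have h4 : r ^ k * n = e := by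
      refine Nat.eq_of_mul_eq_mul_left (show 0 < Q by omega) ?_
      rw [hS'card] at h3
      rw [← mul_assoc]
      exact_mod_cast h3
    have hk2 : k = 2 * e.factorization r := by
      rw [hk, hTcard, Nat.factorization_mul (pow_ne_zero _ he0) (by omega), Nat.factorization_pow,
        Finsupp.add_apply, Finsupp.smul_apply, hQ, ha, hp.factorization_pow,
        Finsupp.single_eq_of_ne hrp, add_zero, smul_eq_mul]
    have h5 : k ≤ e.factorization r :=
      (hr.pow_dvd_iff_le_factorization he0).mp (Dvd.intro n h4)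
    have h6 : 0 < e.factorization r := hr.factorization_pos_of_dvd he0 hre
    omega
  have hTpow : ∃ c : ℕ, e ^ 2 * Q = p ^ c := by
    refine ⟨_, Nat.eq_prime_pow_of_unique_prime_dvd (Nat.mul_ne_zero (pow_ne_zero _ he0) (by omega))
      fun {r} hr hd => ?_⟩
    rcases hr.dvd_mul.mp hd with h | h
    · exact hep r hr (hr.dvd_of_dvd_pow h)
    · rw [hQ, ha] at h
      exact (Nat.prime_dvd_prime_iff_eq hr hp).mp (hr.dvd_of_dvd_pow h)
  -- centralisers of elements of `M`
  have hcent : ∀ m : M, m ≠ 1 → IsPGroup p (Subgroup.centralizer ({(m : G)} : Set G)) := by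
    intro m hm
    obtain ⟨c, hc⟩ := hTpow
    refine IsPGroup.of_card (n := c) ?_
    rw [← hc]
    have h := CT.card_conj_class_mul_centralizer (m : G)
    have hcl : Nat.card {g : G // IsConj (m : G) g} = Q - 1 := by
      rw [← hScardM, Nat.add_sub_cancel, Nat.card_eq_fintype_card, Fintype.card_subtype, hS]
      congr 1
      ext g
      simp only [Finset.mem_filter, Finset.mem_univ, true_and]
      exact ⟨(hconjM m hm).trans, (hconjM m hm).symm.trans⟩
    rw [hcl, hGcard] at h
    refine Nat.eq_of_mul_eq_mul_left (show 0 < Q - 1 by omega) ?_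
    rw [h]; ring
  refine ⟨p, hp, fun q hq => ?_, ?_⟩
  · constructor
    · intro hne
      haveI := Fact.mk hq
      by_contra hqp
      have hle : M ≤ Cfsg.pCore q G := hMle _ (Subgroup.normal_of_characteristic _) hne
      have hd : Disjoint M (Cfsg.pCore q G) := IsPGroup.disjoint_of_ne p q (Ne.symm hqp) (H₁ := M)
        (H₂ := Cfsg.pCore q G) hMp (Cfsg.Agent.Basics.pCore_isPGroup q)
      exact hMb (disjoint_self.mp (hd.mono_right hle))
    · rintro rfl hbot
      exact hMb (le_bot_iff.mp (hbot ▸ Basics.le_pCore hMp))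
  -- the action of `G / O_p(G)` on `M`
  set P := Cfsg.pCore p G with hP
  haveI hPn : P.Normal := Subgroup.normal_of_characteristic _
  let β : G →* MulAut M := MulAut.conjNormal
  have hβ : ∀ (g : G) (m : M), ((β g m : M) : G) = g * m * g⁻¹ := fun g m => MulAut.conjNormal_apply g m
  have hPker : P ≤ β.ker := by
    let F : Subgroup G := M ⊓ Subgroup.centralizer (P : Set G)
    have hFb : F ≠ ⊥ := by
      letI : MulAction P M := MulAction.compHom M (β.comp P.subtype)
      have hPp : IsPGroup p P := Basics.pCore_isPGroup p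
      have hd : p ∣ Nat.card M := by
        rw [ha]; exact dvd_pow_self p fun h => by rw [h, pow_zero] at ha; omega
      obtain ⟨m, hm, hm1⟩ := hPp.exists_fixed_point_of_prime_dvd_card_of_fixed_point M hd
        (a := (1 : M)) (fun g => map_one (β (g : G)))
      refine fun h => hm1 (Subtype.ext (Subgroup.mem_bot.mp (h.le ⟨m.2, ?_⟩))).symm
      refine Subgroup.mem_centralizer_iff.mpr fun g hg => ?_
      have h1 : ((β g m : M) : G) = m := congrArg Subtype.val (hm ⟨g, hg⟩)
      rw [hβ] at h1
      exact mul_inv_eq_iff_eq_mul.mp h1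
    have hFn : F.Normal := inferInstance
    have hle := (hMle F hFn hFb).trans inf_le_right
    intro g hg
    refine MonoidHom.mem_ker.mpr (MulEquiv.ext fun m => Subtype.ext ?_)
    rw [hβ, MulAut.one_apply, Subgroup.mem_centralizer_iff.mp (hle m.2) g hg, mul_inv_cancel_right]
  let α : G ⧸ P →* MulAut M := QuotientGroup.lift P β hPker
  have hkerP : β.ker ≤ P := by
    haveI : (β.ker).Normal := inferInstance
    refine Basics.le_pCore ((hcent ⟨x, hxM⟩ fun h => hx1 (congrArg Subtype.val h)).to_le fun g hg => ?_)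
    refine Subgroup.mem_centralizer_singleton_iff.mpr ?_
    have h1 : ((β g ⟨x, hxM⟩ : M) : G) = x := by rw [MonoidHom.mem_ker.mp hg]; rfl
    rw [hβ] at h1
    exact mul_inv_eq_iff_eq_mul.mp h1
  have hinj : Function.Injective α := by
    rw [← MonoidHom.ker_eq_bot_iff, eq_bot_iff]
    intro q hq
    induction q using QuotientGroup.induction_on with | _ g =>
    exact Subgroup.mem_bot.mpr ((QuotientGroup.eq_one_iff g).mpr (hkerP hq))
  have htrans : ∀ v w : M, v ≠ 1 → w ≠ 1 → ∃ g, α g v = w := fun v w hv hw => by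
    obtain ⟨g, hg⟩ := isConj_iff.mp ((hconjM v hv).symm.trans (hconjM w hw))
    exact ⟨(g : G ⧸ P), Subtype.ext ((hβ g v).trans hg)⟩
  have hstab : ∀ (g : G ⧸ P) (v : M), v ≠ 1 → α g v = v → ∃ k : ℕ, g ^ p ^ k = 1 := by
    intro q v hv hq
    induction q using QuotientGroup.induction_on with | _ g =>
    have h1 : ((β g v : M) : G) = v := congrArg Subtype.val hq
    rw [hβ] at h1
    obtain ⟨k, hk⟩ := hcent v hv ⟨g, Subgroup.mem_centralizer_singleton_iff.mpr
      (mul_inv_eq_iff_eq_mul.mp h1)⟩
    exact ⟨k, by rw [← QuotientGroup.mk_pow, show g ^ p ^ k = 1 from congrArg Subtype.val hk,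
      QuotientGroup.mk_one]⟩
  have hcore : Cfsg.pCore p (G ⧸ P) = ⊥ := Basics.pCore_quotient_eq_bot p
  exact ⟨CT.TwoClassLinear.complement hexp α hinj htrans hstab hcore,
    fun R => CT.TwoClassLinear.sylow_commutative hexp α hstab hcore R⟩

/-- Let G be a finite solvable group of order greater than 2 with an irreducible character nonzero on exactly two conjugacy classes. Then there is exactly one prime p with O_p(G) ≠ 1, and the quotient G/O_p(G) has a normal p-complement and commutative Sylow p-subgroups. -/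
theorem result {G : Type*} [Group G] [Finite G] [hs : Group.IsSolvable G] (hG : 2 < Nat.card G) (χ : Cfsg.IrrCharacter G) (hχ : Nat.card {C : ConjClasses G // ∃ g ∈ C.carrier, (χ : G → ℂ) g ≠ 0} = 2) :
    ∃ p : ℕ, p.Prime ∧ (∀ q : ℕ, q.Prime → (Cfsg.pCore q G ≠ ⊥ ↔ q = p)) ∧
      Cfsg.HasNormalPComplement p (G ⧸ Cfsg.pCore p G) ∧ ∀ Q : Sylow p (G ⧸ Cfsg.pCore p G), IsMulCommutative (Q : Subgroup (G ⧸ Cfsg.pCore p G)) := by
  classical
  haveI := Fintype.ofFinite G
  haveI : Nontrivial G := Finite.one_lt_card_iff_nontrivial.mp (by omega)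
  -- the second class
  obtain ⟨C1, C2, hne12, huniv⟩ := Nat.card_eq_two_iff.mp hχ
  have hcar : ∀ (g h : G), g ∈ (ConjClasses.mk h).carrier ↔ IsConj h g := fun g h => by
    rw [ConjClasses.mem_carrier_iff_mk_eq, ConjClasses.mk_eq_mk_iff_isConj]
    exact ⟨IsConj.symm, IsConj.symm⟩
  have hcls : ∀ g : G, (χ : G → ℂ) g ≠ 0 → ∃ hg : (∃ g' ∈ (ConjClasses.mk g).carrier, (χ : G → ℂ) g' ≠ 0),
      (⟨ConjClasses.mk g, hg⟩ : {C : ConjClasses G // ∃ g ∈ C.carrier, (χ : G → ℂ) g ≠ 0}) ∈
        ({C1, C2} : Set _) := fun g hg =>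
    ⟨⟨g, ConjClasses.mem_carrier_mk, hg⟩, huniv.symm ▸ Set.mem_univ _⟩
  obtain ⟨x, hx1, hxne, honly⟩ : ∃ x : G, x ≠ 1 ∧ (χ : G → ℂ) x ≠ 0 ∧
      ∀ g : G, (χ : G → ℂ) g ≠ 0 → g = 1 ∨ IsConj x g := by
    have hone := Cfsg.Agent.CT.irr_one_ne_zero χ.2
    obtain ⟨h1, hC1⟩ := hcls 1 hone
    set D := if (⟨ConjClasses.mk 1, h1⟩ : {C : ConjClasses G // ∃ g ∈ C.carrier, (χ : G → ℂ) g ≠ 0}) = C1
      then C2 else C1 with hD
    obtain ⟨x, hxC, hx⟩ := D.2
    have hxmk : ConjClasses.mk x = D.1 := ConjClasses.mem_carrier_iff_mk_eq.mp hxC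
    have hD1 : D.1 ≠ ConjClasses.mk 1 := by
      intro e
      rw [hD] at e
      split_ifs at e with h
      · exact hne12 (h.symm.trans (Subtype.ext e.symm))
      · exact h (Subtype.ext e.symm)
    refine ⟨x, fun e => hD1 (by rw [← hxmk, e]), hx, fun g hg => ?_⟩
    obtain ⟨hg', hgC⟩ := hcls g hg
    rcases eq_or_ne (ConjClasses.mk g) (ConjClasses.mk 1) with h | h
    · exact Or.inl (isConj_one_left.mp (ConjClasses.mk_eq_mk_iff_isConj.mp h))
    · right
      rw [← ConjClasses.mk_eq_mk_iff_isConj, hxmk]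
      rcases Set.mem_insert_iff.mp hC1 with a | a <;> rcases Set.mem_insert_iff.mp hgC with c | c
      · exact absurd (congrArg Subtype.val (c.trans a.symm)) h
      · rw [hD, if_pos a]; exact (congrArg Subtype.val (Set.mem_singleton_iff.mp c)).symm
      · rw [hD, if_neg (fun e => hne12 (e.symm.trans (Set.mem_singleton_iff.mp a)))]
        exact (congrArg Subtype.val c).symm
      · exact absurd (congrArg Subtype.val
          ((Set.mem_singleton_iff.mp c).trans (Set.mem_singleton_iff.mp a).symm)) h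
  -- the character is not trivial
  have hntriv : (χ : G → ℂ) ≠ fun _ => 1 := by
    intro e
    have hall : ∀ g : G, g ≠ 1 → IsConj x g := fun g hg =>
      (honly g (by rw [e]; exact one_ne_zero)).resolve_left hg
    obtain ⟨q, E, hq, hEn, -, hE, hEab, -⟩ :=
      Cfsg.Agent.Basics.exists_elementary_normal (N := (⊤ : Subgroup G)) top_ne_bot inferInstance
    have hxE : x ∈ E := by
      obtain ⟨y, hy, hy1⟩ := (Subgroup.bot_or_exists_ne_one E).resolve_left hE
      obtain ⟨c, hc⟩ := isConj_iff.mp (hall y hy1).symm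
      exact hc ▸ hEn.conj_mem y hy c
    have htop : ∀ g : G, g ∈ E := fun g => by
      rcases eq_or_ne g 1 with rfl | hg
      · exact E.one_mem
      · obtain ⟨c, hc⟩ := isConj_iff.mp (hall g hg)
        exact hc ▸ hEn.conj_mem x hxE c
    have hsub : ∀ g : G, g = 1 ∨ g = x := fun g => by
      rcases eq_or_ne g 1 with rfl | hg
      · exact Or.inl rfl
      · obtain ⟨c, hc⟩ := isConj_iff.mp (hall g hg)
        refine Or.inr (hc.symm.trans ?_)
        have h := congrArg (fun y : E => (y : G)) (mul_comm' (⟨c, htop c⟩ : E) ⟨x, htop x⟩)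
        simp only [Subgroup.coe_mul] at h
        rw [h, mul_inv_cancel_right]
    have : Fintype.card G ≤ ({1, x} : Finset G).card :=
      Finset.card_le_card fun g _ => by
        rcases hsub g with rfl | rfl <;> simp
    have h2 : ({1, x} : Finset G).card ≤ 2 := Finset.card_le_two
    rw [Nat.card_eq_fintype_card] at hG
    omega
  exact main x hx1 hxne honly hntriv

end Cfsg.Agent.S4840
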