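import Cfsg.Statements.S4843
import Cfsg.Agent.Lib.CT.Integral
import Cfsg.Agent.Lib.OddChar.GaloisChar
import Cfsg.Agent.Lib.Basics.Cores
import Mathlib.LinearAlgebra.Trace

set_option autoImplicit false
set_option linter.all false
open Cfsg

namespace Cfsg.Agent.S4843

open Cfsg.Agent.CT Module TensorProduct
open scoped ComplexConjugate commutatorElement

universe u

variable {G : Type u} [Group G] [Finite G]

/-- For a family of elements `f`, invariant under conjugation, the sum of `ρ (f x) ⊗ ρ' (f x ^ m)`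
is the scalar given by its trace. -/
theorem sum_map_eq_scalar {n n' : ℕ} (ρ : Representation ℂ G (Fin n → ℂ))
    (ρ' : Representation ℂ G (Fin n' → ℂ)) [(ρ.tprod ρ').IsIrreducible]
    (N : Subgroup G) [N.Normal] [Fintype N] (m : ℕ) :
    ∃ c : ℂ, (∑ x : N, TensorProduct.map (ρ (x : G)) (ρ' ((x : G) ^ m))) = c • LinearMap.id ∧
      c * (n * n' : ℕ) = ∑ x : N, ρ.character (x : G) * ρ'.character ((x : G) ^ m) := by
  set T : Module.End ℂ ((Fin n → ℂ) ⊗[ℂ] (Fin n' → ℂ)) :=
    ∑ x : N, TensorProduct.map (ρ (x : G)) (ρ' ((x : G) ^ m)) with hT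
  have hcomm : ∀ g, T * (ρ.tprod ρ') g = (ρ.tprod ρ') g * T := by
    intro g
    rw [hT, Finset.sum_mul, Finset.mul_sum]
    refine Fintype.sum_equiv (MulAut.conjNormal g⁻¹ : N ≃* N).toEquiv _ _ fun x => ?_
    simp only [Representation.tprod_apply, MulEquiv.toEquiv_eq_coe, EquivLike.coe_coe,
      MulAut.conjNormal_apply, inv_inv, ← TensorProduct.map_mul, ← map_mul]
    congr 2
    · group
    · rw [show (g⁻¹ * (x : G) * g) ^ m = g⁻¹ * (x : G) ^ m * g by
        simpa using (conj_pow (a := g⁻¹) (b := (x : G)) (i := m))]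
      group
  haveI := Fintype.ofFinite G
  have h := eq_scalar_of_commute (ρ.tprod ρ') T hcomm
  have htr : LinearMap.trace ℂ _ T = ∑ x : N, ρ.character (x : G) * ρ'.character ((x : G) ^ m) := by
    rw [hT, map_sum]
    exact Finset.sum_congr rfl fun x _ => LinearMap.trace_tensorProduct' _ _
  refine ⟨_, h, ?_⟩
  rw [← htr]
  have hn : (finrank ℂ ((Fin n → ℂ) ⊗[ℂ] (Fin n' → ℂ)) : ℂ) ≠ 0 :=
    Nat.cast_ne_zero.mpr (finrank_pos_of_irreducible (ρ.tprod ρ')).ne'
  rw [Module.finrank_tensorProduct, Module.finrank_fin_fun, Module.finrank_fin_fun] at hn ⊢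
  field_simp

theorem fitting_eq_center {χ : G → ℂ} (hχ : Cfsg.IsIrrCharacter G χ)
    (hfaith : ∀ g : G, χ g = χ 1 → g = 1) {k : ℕ} (hk : Nat.Coprime k (Nat.card G))
    (hirr : Cfsg.IsIrrCharacter G (fun g => χ g * χ (g ^ k))) :
    Cfsg.fittingSubgroup G = Subgroup.center G := by
  classical
  haveI := Fintype.ofFinite G
  obtain ⟨n, ρ, hρ, hρχ⟩ := hχ
  obtain ⟨n', ρ', hρ'χ⟩ := OddChar.isCharacter_map_pow
    (show Cfsg.IsCharacter G χ from ⟨n, ρ, hρχ⟩) hk
  have hirr' : (ρ.tprod ρ').IsIrreducible := by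
    refine isIrreducible_of_isIrrCharacter _ ?_
    rw [Representation.char_tensor]
    convert hirr using 1
    funext g
    rw [Pi.mul_apply, hρ'χ, hρχ]
  -- `m * k ≡ -1`
  obtain ⟨m, hm⟩ : ∃ m : ℕ, ∀ g : G, (g ^ m) ^ k = g⁻¹ := by
    obtain ⟨k', hk'⟩ : ∃ k', k * k' ≡ 1 [MOD Nat.card G] :=
      ⟨k ^ ((Nat.card G).totient - 1), by
        rw [← pow_succ', Nat.sub_add_cancel (Nat.totient_pos.mpr Nat.card_pos)]
        exact Nat.ModEq.pow_totient hk⟩
    refine ⟨k' * (Nat.card G - 1), fun g => ?_⟩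
    have h1 : g ^ (k * k') = g := by
      conv_rhs => rw [← pow_one g]
      exact pow_eq_pow_iff_modEq.mpr (hk'.of_dvd (orderOf_dvd_natCard g))
    rw [← pow_mul, show k' * (Nat.card G - 1) * k = k * k' * (Nat.card G - 1) by ring, pow_mul, h1]
    refine eq_inv_of_mul_eq_one_left ?_
    rw [← pow_succ, Nat.sub_add_cancel Nat.card_pos, pow_card_eq_one']
  have hval : ∀ g : G, ρ'.character (g ^ m) = conj (ρ.character g) := by
    intro g
    rw [hρ'χ, hρχ]
    show χ ((g ^ m) ^ k) = _
    rw [hm, char_inv_eq_conj (show Cfsg.IsCharacter G χ from ⟨n, ρ, hρχ⟩)]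
  have hn0 : 0 < n := by
    have := finrank_pos_of_irreducible ρ
    rwa [Module.finrank_fin_fun] at this
  have hχ1 : ρ.character 1 = (n : ℂ) := by
    rw [Representation.char_one, Module.finrank_fin_fun]
  have hn' : n' = n := by
    have h1 : ρ'.character 1 = (n' : ℂ) := by
      rw [Representation.char_one, Module.finrank_fin_fun]
    have h2 := hval 1
    rw [one_pow, h1, hχ1, map_natCast] at h2
    exact_mod_cast h2
  -- elements of full norm are central
  have hcen : ∀ b : G, ‖ρ.character b‖ = (n : ℝ) → b ∈ Subgroup.center G := by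
    intro b hb
    have hs := scalar_of_norm_eq ρ (g := b) (by rw [Module.finrank_fin_fun]; exact hb)
    rw [Subgroup.mem_center_iff]
    intro g
    have h1 : ρ (b⁻¹ * g⁻¹ * b * g) = 1 := by
      have h2 : ρ b * ρ g = ρ g * ρ b := by
        rw [hs]; ext v; simp
      calc ρ (b⁻¹ * g⁻¹ * b * g) = ρ (b⁻¹ * g⁻¹) * (ρ b * ρ g) := by
            rw [← map_mul, ← map_mul]; congr 1; group
        _ = ρ (b⁻¹ * g⁻¹) * (ρ g * ρ b) := by rw [h2]
        _ = 1 := by
            rw [← map_mul, ← map_mul]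
            convert map_one ρ using 2
            group
    have h2 : χ (b⁻¹ * g⁻¹ * b * g) = χ 1 := by
      rw [← hρχ]
      simp only [Representation.character, h1, map_one]
    have h3 := hfaith _ h2
    calc g * b = g * b * (b⁻¹ * g⁻¹ * b * g) := by rw [h3, mul_one]
      _ = b * g := by group
  -- abelian normal subgroups are central
  have habel : ∀ A : Subgroup G, A.Normal → (∀ a ∈ A, ∀ b ∈ A, a * b = b * a) →
      A ≤ Subgroup.center G := by
    intro A hA hab b hb
    haveI := hA
    haveI := Fintype.ofFinite A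
    obtain ⟨c, hc, hctr⟩ := sum_map_eq_scalar ρ ρ' A m
    have hc0 : c ≠ 0 := by
      intro h0
      rw [h0, zero_mul, Finset.sum_congr rfl fun x _ => by rw [hval, Complex.mul_conj]] at hctr
      have h5 : (0 : ℝ) = ∑ x : A, Complex.normSq (ρ.character (x : G)) := by exact_mod_cast hctr
      have h6 := (Finset.sum_eq_zero_iff_of_nonneg fun x _ => Complex.normSq_nonneg _).mp h5.symm
        1 (Finset.mem_univ _)
      rw [Subgroup.coe_one, hχ1, Complex.normSq_natCast] at h6
      have : (0 : ℝ) < n := Nat.cast_pos.mpr hn0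
      nlinarith
    have hshift : (∑ x : A, TensorProduct.map (ρ (x : G)) (ρ' ((x : G) ^ m))) *
        TensorProduct.map (ρ b) (ρ' (b ^ m)) =
        ∑ x : A, TensorProduct.map (ρ (x : G)) (ρ' ((x : G) ^ m)) := by
      rw [Finset.sum_mul]
      refine Fintype.sum_equiv (Equiv.mulRight (⟨b, hb⟩ : A)) _ _ fun x => ?_
      rw [Equiv.coe_mulRight, Subgroup.coe_mul, (show Commute (x : G) b from hab _ x.2 _ hb).mul_pow,
        map_mul, map_mul, TensorProduct.map_mul]
    rw [hc] at hshift
    have h1 : TensorProduct.map (ρ b) (ρ' (b ^ m)) = LinearMap.id := by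
      have h2 : c • TensorProduct.map (ρ b) (ρ' (b ^ m)) = c • LinearMap.id := by
        rw [← hshift]; ext x y; rfl
      exact smul_right_injective _ hc0 h2
    have h3 := congrArg (LinearMap.trace ℂ _) h1
    rw [LinearMap.trace_tensorProduct', LinearMap.trace_id, Module.finrank_tensorProduct,
      Module.finrank_fin_fun, Module.finrank_fin_fun] at h3
    change ρ.character b * ρ'.character (b ^ m) = _ at h3
    rw [hval, Complex.mul_conj, hn'] at h3
    refine hcen b ?_
    have h4 : Complex.normSq (ρ.character b) = (n : ℝ) * n := by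
      push_cast at h3
      exact_mod_cast h3
    rw [Complex.normSq_eq_norm_sq] at h4
    nlinarith [norm_nonneg (ρ.character b), (Nat.cast_nonneg n : (0 : ℝ) ≤ n)]
  haveI hFn : (Cfsg.fittingSubgroup G).Normal := Basics.fittingSubgroup_normal
  haveI hFnil : Group.IsNilpotent ↥(Cfsg.fittingSubgroup G) := Basics.fittingSubgroup_isNilpotent
  refine le_antisymm ?_ ?_
  swap
  · refine Basics.le_fittingSubgroup (hN := inferInstance) ?_
    exact @CommGroup.isNilpotent _ { (Subgroup.center G).toGroup with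
      mul_comm := fun a b => Subtype.ext (Subgroup.mem_center_iff.mp b.2 a) }
  let F := Cfsg.fittingSubgroup G
  have hZ : ∀ z : F, z ∈ Subgroup.center F → (z : G) ∈ Subgroup.center G := by
    intro z hz
    refine habel ((Subgroup.center F).map F.subtype) inferInstance ?_ ⟨z, hz, rfl⟩
    rintro _ ⟨a, ha, rfl⟩ _ ⟨b, hb, rfl⟩
    exact congrArg Subtype.val (Subgroup.mem_center_iff.mp hb a)
  -- the derived subgroup of `F` is central
  have hF' : ∀ z : F, z ∈ commutator F → z ∈ Subgroup.center F := by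
    by_contra hcon
    push Not at hcon
    obtain ⟨z, hz, hzc⟩ := hcon
    obtain ⟨w, hw, hwc, hw2⟩ : ∃ w : F, w ∈ commutator F ∧ w ∉ Subgroup.center F ∧
        ∀ x : F, w * x * w⁻¹ * x⁻¹ ∈ Subgroup.center F := by
      obtain ⟨c, hc⟩ := Group.IsNilpotent.nilpotent (G := F)
      have hex : ∃ i, ∃ y ∈ commutator F, y ∈ Subgroup.upperCentralSeries F i ∧ y ∉ Subgroup.center F :=
        ⟨c, z, hz, by rw [hc]; trivial, hzc⟩
      obtain ⟨y, hy, hyi, hyc⟩ := Nat.find_spec hex
      obtain ⟨j, hj⟩ : ∃ j, Nat.find hex = j + 1 := by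
        refine Nat.exists_eq_succ_of_ne_zero fun h0 => hyc ?_
        rw [h0, Subgroup.upperCentralSeries_zero, Subgroup.mem_bot] at hyi
        rw [hyi]; exact one_mem _
      rw [hj, Subgroup.mem_upperCentralSeries_succ_iff] at hyi
      refine ⟨y, hy, hyc, fun x => by_contra fun hx => Nat.find_min hex (m := j) (by omega)
        ⟨_, ?_, hyi x, hx⟩⟩
      exact Subgroup.commutator_mem_commutator (Subgroup.mem_top y) (Subgroup.mem_top x)
    have hhom : ∀ v : F, v ∈ Subgroup.upperCentralSeries F 2 → ∀ d ∈ commutator F, v * d = d * v := by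
      intro v hv d hd
      have hv' : ∀ x : F, v * x * v⁻¹ * x⁻¹ ∈ Subgroup.center F := fun x => by
        have := (Subgroup.mem_upperCentralSeries_succ_iff (n := 1)).mp hv x
        rwa [Subgroup.upperCentralSeries_one] at this
      let f : F →* Subgroup.center F :=
        { toFun := fun x => ⟨_, hv' x⟩
          map_one' := Subtype.ext (by simp)
          map_mul' := fun x y => Subtype.ext (by
            show v * (x * y) * v⁻¹ * (x * y)⁻¹ = (v * x * v⁻¹ * x⁻¹) * (v * y * v⁻¹ * y⁻¹)
            have hc := Subgroup.mem_center_iff.mp (hv' y) x⁻¹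
            calc v * (x * y) * v⁻¹ * (x * y)⁻¹
                = v * x * v⁻¹ * ((v * y * v⁻¹ * y⁻¹) * x⁻¹) := by group
              _ = v * x * v⁻¹ * (x⁻¹ * (v * y * v⁻¹ * y⁻¹)) := by rw [hc]
              _ = _ := by group) }
      have h1 : commutator F ≤ f.ker := by
        rw [commutator_def, Subgroup.commutator_le]
        intro a _ b _
        rw [MonoidHom.mem_ker, map_commutatorElement]
        exact commutatorElement_eq_one_iff_mul_comm.mpr (Subtype.ext
          (Subgroup.mem_center_iff.mp (f b).2 (f a).1))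
      have h2 := congrArg Subtype.val (MonoidHom.mem_ker.mp (h1 hd))
      have h3 : v * d * v⁻¹ * d⁻¹ = 1 := h2
      exact mul_inv_eq_iff_eq_mul.mp (mul_inv_eq_one.mp h3)
    have hw3 : w ∈ Subgroup.upperCentralSeries F 2 := by
      refine (Subgroup.mem_upperCentralSeries_succ_iff (n := 1)).mpr fun x => ?_
      rw [Subgroup.upperCentralSeries_one]
      exact hw2 x
    have hmem : (w : G) ∈ Subgroup.center G := by
      refine habel ((commutator F).map F.subtype ⊓ (Subgroup.upperCentralSeries F 2).map F.subtype)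
        inferInstance ?_ ⟨⟨w, hw, rfl⟩, w, hw3, rfl⟩
      rintro _ ⟨⟨a, ha, rfl⟩, -⟩ _ ⟨-, b, hb, rfl⟩
      exact congrArg Subtype.val (hhom b hb a ha).symm
    exact hwc (Subgroup.mem_center_iff.mpr fun x =>
      Subtype.ext (Subgroup.mem_center_iff.mp hmem (x : G)))
  -- characters vanish off the centre
  have hvanish : ∀ y : F, (y : G) ∉ Subgroup.center G → ρ.character (y : G) = 0 := by
    intro y hy
    obtain ⟨x, hx⟩ : ∃ x : F, x * y ≠ y * x := by
      by_contra hh
      push Not at hh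
      exact hy (hZ y (Subgroup.mem_center_iff.mpr hh))
    have hzc : ((⁅x, y⁆ : F) : G) ∈ Subgroup.center G :=
      hZ _ (hF' _ (Subgroup.commutator_mem_commutator (Subgroup.mem_top x) (Subgroup.mem_top y)))
    obtain ⟨ω, hω, -⟩ := central_scalar ρ hzc
    have h1 : ρ.character ((x : G) * y * (x : G)⁻¹) = ρ.character (y : G) := ρ.char_conj _ _
    have h2 : ρ.character ((x : G) * y * (x : G)⁻¹) = ω * ρ.character (y : G) := by
      have e : (x : G) * y * (x : G)⁻¹ = ((⁅x, y⁆ : F) : G) * y := by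
        simp [commutatorElement_def]
      rw [e]
      simp only [Representation.character, map_mul, hω]
      rw [show (ω • LinearMap.id : Module.End ℂ (Fin n → ℂ)) * ρ (y : G) = ω • ρ (y : G) from by
        ext v; simp, map_smul, smul_eq_mul]
    by_contra h0
    have hω1 : ω = 1 := by
      rw [h1] at h2
      exact mul_right_cancel₀ h0 (by rw [one_mul]; exact h2.symm)
    apply hx
    have h3 : ((⁅x, y⁆ : F) : G) = 1 := by
      apply hfaith
      rw [← hρχ]
      simp only [Representation.character, hω, hω1, one_smul, map_one]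
      rfl
    exact commutatorElement_eq_one_iff_mul_comm.mp (Subtype.ext h3)
  intro y hy
  by_contra hyc
  haveI := Fintype.ofFinite F
  obtain ⟨c, hc, hctr⟩ := sum_map_eq_scalar ρ ρ' F m
  have h1 := congrArg (fun T => LinearMap.trace ℂ _
    (T * TensorProduct.map (ρ y⁻¹) (ρ' (y ^ m)⁻¹))) hc
  simp only [Finset.sum_mul, map_sum, ← TensorProduct.map_mul, ← map_mul,
    LinearMap.trace_tensorProduct'] at h1
  rw [show (c • (LinearMap.id : Module.End ℂ ((Fin n → ℂ) ⊗[ℂ] (Fin n' → ℂ)))) *
      TensorProduct.map (ρ y⁻¹) (ρ' (y ^ m)⁻¹) =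
      c • TensorProduct.map (ρ y⁻¹) (ρ' (y ^ m)⁻¹) from by ext a b; simp,
    map_smul, LinearMap.trace_tensorProduct'] at h1
  change _ = c • (ρ.character y⁻¹ * ρ'.character (y ^ m)⁻¹) at h1
  rw [show ρ.character y⁻¹ = 0 from
    hvanish ⟨y⁻¹, inv_mem hy⟩ (fun h => hyc (by simpa using inv_mem h)), zero_mul, smul_zero] at h1
  have h2 : ∀ x : F, ρ.character ((x : G) * y⁻¹) * ρ'.character ((x : G) ^ m * (y ^ m)⁻¹) =
      ((if (x : G) * y⁻¹ ∈ Subgroup.center G then (n : ℝ) * n else 0 : ℝ) : ℂ) := by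
    intro x
    split_ifs with hx
    · have hcm : (x : G) ^ m * (y ^ m)⁻¹ = ((x : G) * y⁻¹) ^ m := by
        have hcy : Commute ((x : G) * y⁻¹) y := (Subgroup.mem_center_iff.mp hx y).symm
        conv_lhs => rw [show (x : G) = ((x : G) * y⁻¹) * y by group, hcy.mul_pow]
        group
      rw [hcm, hval, Complex.mul_conj]
      obtain ⟨ω, hω⟩ := central_scalar ρ hx
      have hnorm := (norm_eq_iff_scalar ρ _).mpr ⟨ω, hω.1⟩
      rw [Complex.normSq_eq_norm_sq, hnorm, Module.finrank_fin_fun, pow_two]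
    · rw [show (x : G) * y⁻¹ = ((x * (⟨y, hy⟩ : F)⁻¹ : F) : G) from rfl, hvanish _ hx, zero_mul]
      simp
  change ∑ x : F, ρ.character ((x : G) * y⁻¹) * ρ'.character ((x : G) ^ m * (y ^ m)⁻¹) = 0 at h1
  rw [Finset.sum_congr rfl fun x _ => h2 x, ← Complex.ofReal_sum, Complex.ofReal_eq_zero] at h1
  have h3 := (Finset.sum_eq_zero_iff_of_nonneg fun x _ => by split_ifs <;> positivity).mp h1
    ⟨y, hy⟩ (Finset.mem_univ _)
  rw [if_pos (by rw [mul_inv_cancel]; exact one_mem _)] at h3
  have : (0 : ℝ) < n := Nat.cast_pos.mpr hn0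
  nlinarith

/-- Let G be a finite group with a faithful irreducible character χ (taking the value χ(1) only at the identity) and let k be prime to the order of G, so that g ↦ χ(g^k) is a Galois conjugate of χ. If the pointwise product g ↦ χ(g)·χ(g^k) is again an irreducible character, then the Fitting subgroup of G equals its centre. -/
theorem result {G : Type*} [Group G] [Finite G] (χ : Cfsg.IrrCharacter G) (hfaith : ∀ g : G, (χ : G → ℂ) g = (χ : G → ℂ) 1 → g = 1) (k : ℕ) (hk : Nat.Coprime k (Nat.card G)) (hirr : Cfsg.IsIrrCharacter G (fun g => (χ : G → ℂ) g * (χ : G → ℂ) (g ^ k))) : Cfsg.fittingSubgroup G = Subgroup.center G := by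
  exact fitting_eq_center χ.2 hfaith hk hirr

end Cfsg.Agent.S4843
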