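import Cfsg.Statements.S4845
import Cfsg.Agent.Lib.CT.Kernel
import Cfsg.Agent.Lib.Blocks.Knorr
import Cfsg.Agent.Lib.PGroup23.NormalSq
import Cfsg.Agent.Lib.OddChar.AbelianQuotient
import Cfsg.Agent.Lib.CT.Integral
import Cfsg.Agent.Lib.LocalEvenB.HyperCyclic

set_option autoImplicit false
set_option linter.all false
open Cfsg

namespace Cfsg.Agent.S4845

open Cfsg.Agent
open scoped ComplexConjugate commutatorElement

/-- The hypothesis: equal non-linear degree implies Galois conjugate. -/
def GalUniq (P : Type*) [Group P] : Prop :=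
  ∀ χ ψ : IrrCharacter P, charDegree (χ : P → ℂ) ≠ 1 →
    charDegree (χ : P → ℂ) = charDegree (ψ : P → ℂ) →
      ∃ k : ℕ, Nat.Coprime k (Nat.card P) ∧ ∀ g : P, (ψ : P → ℂ) g = (χ : P → ℂ) (g ^ k)

section basics
variable {P : Type*} [Group P] [Finite P]

theorem deg_one_iff (χ : IrrCharacter P) :
    charDegree (χ : P → ℂ) = 1 ↔ (χ : P → ℂ) 1 = 1 := by
  rw [Blocks.charDegree_cast]
  exact_mod_cast Iff.rfl

theorem ker_conj (χ : IrrCharacter P) {g : P} (hg : g ∈ CT.kerChar (χ : P → ℂ)) (x : P) :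
    x * g * x⁻¹ ∈ CT.kerChar (χ : P → ℂ) := by
  rw [CT.mem_kerChar_iff (CT.isCharacter_of_isIrr χ.2)] at hg ⊢
  rw [CT.isClassFunction_of_isIrr χ.2 g x, hg]

theorem same_ker (h : GalUniq P) {χ ψ : IrrCharacter P} (h1 : charDegree (χ : P → ℂ) ≠ 1)
    (he : charDegree (χ : P → ℂ) = charDegree (ψ : P → ℂ)) :
    CT.kerChar (χ : P → ℂ) = CT.kerChar (ψ : P → ℂ) := by
  obtain ⟨k, hk, hkψ⟩ := h χ ψ h1 he
  ext g
  have hd : (ψ : P → ℂ) 1 = (χ : P → ℂ) 1 := by rw [Blocks.charDegree_cast, Blocks.charDegree_cast, he]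
  rw [CT.mem_kerChar_iff (CT.isCharacter_of_isIrr ψ.2), hkψ g, hd,
    ← CT.mem_kerChar_iff (CT.isCharacter_of_isIrr χ.2)]
  refine ⟨fun hg => pow_mem hg k, fun hg => ?_⟩
  obtain ⟨m, hm⟩ := exists_pow_eq_self_of_coprime (hk.coprime_dvd_right (orderOf_dvd_natCard g))
  exact hm ▸ pow_mem hg m

theorem galUniq_quot (h : GalUniq P) (N : Subgroup P) [N.Normal] : GalUniq (P ⧸ N) := by
  intro χ ψ h1 he
  let χ' : IrrCharacter P := ⟨fun g => (χ : P ⧸ N → ℂ) (QuotientGroup.mk g),
    CT.isIrr_inflate N χ.2 fun g => rfl⟩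
  let ψ' : IrrCharacter P := ⟨fun g => (ψ : P ⧸ N → ℂ) (QuotientGroup.mk g),
    CT.isIrr_inflate N ψ.2 fun g => rfl⟩
  obtain ⟨k, hk, hkψ⟩ := h χ' ψ' h1 he
  refine ⟨k, hk.coprime_dvd_right ?_, fun q => ?_⟩
  · rw [← Subgroup.index_eq_card]; exact N.index_dvd_card
  · induction q using QuotientGroup.induction_on with
    | _ g => exact hkψ g

theorem exists_nonlinear {a : P} (ha : a ∈ commutator P) (h1 : a ≠ 1) :
    ∃ χ : IrrCharacter P, (χ : P → ℂ) 1 ≠ 1 ∧ a ∉ CT.kerChar (χ : P → ℂ) := by
  haveI := Fintype.ofFinite P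
  by_contra hc
  push Not at hc
  refine h1 (isConj_one_left.mp (CT.isConj_iff_forall_irr.mpr fun χ => ?_))
  by_cases hl : (χ : P → ℂ) 1 = 1
  · exact CT.linear_trivial_on_commutator (CT.isCharacter_of_isIrr χ.2) hl a ha
  · exact (CT.mem_kerChar_iff (CT.isCharacter_of_isIrr χ.2)).mp (hc χ hl)

theorem not_commutator_le_ker (χ : IrrCharacter P) (h : (χ : P → ℂ) 1 ≠ 1) :
    ¬ commutator P ≤ CT.kerChar (χ : P → ℂ) := by
  intro hle
  obtain ⟨ψ, hψ, hψe⟩ := CT.exists_quotient_irr χ.2 (commutator P) fun z hz =>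
    (CT.mem_kerChar_iff (CT.isCharacter_of_isIrr χ.2)).mp (hle hz)
  refine h ?_
  rw [← hψe 1]
  exact CT.irr_degree_one_of_comm (fun a b =>
    (inferInstance : CommGroup (Abelianization P)).mul_comm a b) hψ

theorem central_hom (χ : IrrCharacter P) :
    ∃ w : Subgroup.center P →* ℂ,
      (∀ (z : Subgroup.center P) g, (χ : P → ℂ) ((z : P) * g) = w z * (χ : P → ℂ) g) ∧
      (∀ z, w z = 1 → (z : P) ∈ CT.kerChar (χ : P → ℂ)) ∧ ∀ z, ‖w z‖ = 1 := by
  haveI := Fintype.ofFinite P
  obtain ⟨n, ρ, hρ, hχ⟩ := χ.2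
  haveI := hρ
  choose w hw hw1 using fun z : Subgroup.center P => CT.central_scalar ρ z.2
  have key : ∀ (z : Subgroup.center P) g, (χ : P → ℂ) ((z : P) * g) = w z * (χ : P → ℂ) g := by
    intro z g
    rw [← hχ]
    simp only [Representation.character, map_mul, hw]
    rw [show (w z • LinearMap.id : (Fin n → ℂ) →ₗ[ℂ] _) * ρ g = w z • ρ g from rfl, map_smul,
      smul_eq_mul]
  have h0 : (χ : P → ℂ) 1 ≠ 0 := CT.irr_one_ne_zero χ.2
  have e1 : ∀ z : Subgroup.center P, (χ : P → ℂ) (z : P) = w z * (χ : P → ℂ) 1 := fun z => by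
    have := key z 1; rwa [mul_one] at this
  refine ⟨{ toFun := w, map_one' := mul_right_cancel₀ h0 ((e1 1).symm.trans (one_mul _).symm),
            map_mul' := fun a b => ?_ }, key, fun z hz => ?_, hw1⟩
  · apply mul_right_cancel₀ h0
    rw [← e1, mul_assoc, ← e1, Subgroup.coe_mul, key]
  · rw [CT.mem_kerChar_iff (CT.isCharacter_of_isIrr χ.2), e1, show w z = 1 from hz, one_mul]

theorem norm_sq_sum [Fintype P] (χ : IrrCharacter P) :
    ∑ g : P, ‖(χ : P → ℂ) g‖ ^ 2 = (Nat.card P : ℝ) := by
  have h1 := CT.irr_inner_self χ.2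
  rw [classInner, inv_mul_eq_iff_eq_mul₀ CT.card_ne_zero, mul_one] at h1
  simp only [Complex.mul_conj'] at h1
  exact_mod_cast h1

theorem center_bound (χ : IrrCharacter P) :
    Nat.card (Subgroup.center P) * charDegree (χ : P → ℂ) ^ 2 ≤ Nat.card P := by
  classical
  haveI := Fintype.ofFinite P
  obtain ⟨w, hw, -, hw1⟩ := central_hom χ
  have hz : ∀ g ∈ Finset.univ.filter (fun g => g ∈ Subgroup.center P),
      ‖(χ : P → ℂ) g‖ ^ 2 = (charDegree (χ : P → ℂ) : ℝ) ^ 2 := by
    intro g hg
    have := hw ⟨g, (Finset.mem_filter.mp hg).2⟩ 1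
    rw [mul_one] at this
    rw [this, norm_mul, hw1, one_mul, Blocks.charDegree_cast, Complex.norm_natCast]
  have h3 : (Nat.card (Subgroup.center P) : ℝ) * (charDegree (χ : P → ℂ) : ℝ) ^ 2 ≤ Nat.card P := by
    rw [← norm_sq_sum χ]
    calc (Nat.card (Subgroup.center P) : ℝ) * (charDegree (χ : P → ℂ) : ℝ) ^ 2
        = ∑ g ∈ Finset.univ.filter (fun g => g ∈ Subgroup.center P), ‖(χ : P → ℂ) g‖ ^ 2 := by
          rw [Finset.sum_congr rfl hz, Finset.sum_const, nsmul_eq_mul, Nat.card_eq_fintype_card,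
            Fintype.card_subtype]
      _ ≤ _ := Finset.sum_le_sum_of_subset_of_nonneg (Finset.subset_univ _) fun g _ _ => sq_nonneg _
  exact_mod_cast h3

/-- The support bounds the order. -/
theorem support_bound (χ : IrrCharacter P) (W : Subgroup P)
    (hW : ∀ g, (χ : P → ℂ) g ≠ 0 → g ∈ W) :
    Nat.card P ≤ Nat.card W * charDegree (χ : P → ℂ) ^ 2 := by
  classical
  haveI := Fintype.ofFinite P
  have hle : ∀ g, ‖(χ : P → ℂ) g‖ ≤ (charDegree (χ : P → ℂ) : ℝ) := by
    intro g
    have hd := Blocks.charDegree_cast χ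
    obtain ⟨n, ρ, -, hχ⟩ := χ.2
    rw [← hχ] at hd ⊢
    rw [Representation.char_one] at hd
    have : Module.finrank ℂ (Fin n → ℂ) = charDegree ρ.character := by exact_mod_cast hd
    exact this ▸ CT.norm_char_le ρ g
  have h3 : (Nat.card P : ℝ) ≤ (Nat.card W : ℝ) * (charDegree (χ : P → ℂ) : ℝ) ^ 2 := by
    rw [← norm_sq_sum χ, ← Finset.sum_subset (Finset.subset_univ (Finset.univ.filter fun g => g ∈ W))
      (fun g _ hg => by
        rw [not_not.mp fun hne => hg (Finset.mem_filter.mpr ⟨Finset.mem_univ g, hW g hne⟩)]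
        simp)]
    refine (Finset.sum_le_sum fun g _ => pow_le_pow_left₀ (norm_nonneg _) (hle g) 2).trans_eq ?_
    rw [Finset.sum_const, nsmul_eq_mul, Nat.card_eq_fintype_card, Fintype.card_subtype]
  exact_mod_cast h3

end basics

section small
variable {P : Type*} [Group P] [Finite P] {p : ℕ} [hp : Fact p.Prime]

theorem central_of_order_p (hP : IsPGroup p P) {N : Subgroup P} [N.Normal] (hN : Nat.card N = p) :
    N ≤ Subgroup.center P := by
  obtain ⟨c, hcN, hcZ, hc1⟩ := InvChar.exists_mem_center_of_normal hP N (fun e => by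
    rw [e, Subgroup.card_bot] at hN; exact hp.out.one_lt.ne hN)
  intro x hx
  have : Subgroup.zpowers c = N := by
    refine Subgroup.eq_of_le_of_card_ge (Subgroup.zpowers_le.mpr hcN) ?_
    rw [hN, Nat.card_zpowers]
    have hd : orderOf c ∣ p := hN ▸ Subgroup.orderOf_dvd_natCard N hcN
    rcases (Nat.dvd_prime hp.out).mp hd with h | h
    · exact absurd (orderOf_eq_one_iff.mp h) hc1
    · omega
  exact (Subgroup.zpowers_le.mpr hcZ) (this ▸ hx)

theorem inf_eq_bot_of_prime {A K : Subgroup P} (hA : Nat.card A = p) (h : ¬ A ≤ K) : A ⊓ K = ⊥ := by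
  refine Subgroup.card_eq_one.mp ?_
  rcases (Nat.dvd_prime hp.out).mp (hA ▸ Subgroup.card_dvd_of_le (inf_le_left : A ⊓ K ≤ A)) with e | e
  · exact e
  · exact absurd ((Subgroup.eq_of_le_of_card_ge inf_le_left (by omega)).ge.trans inf_le_right) h

/-- With derived subgroup of order `p`, non-linear characters live on the centre. -/
theorem vanish_off_center (hP : IsPGroup p P) (hc : Nat.card (commutator P) = p)
    (χ : IrrCharacter P) (hχ : (χ : P → ℂ) 1 ≠ 1) :
    (∀ g, g ∉ Subgroup.center P → (χ : P → ℂ) g = 0) ∧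
      Nat.card (Subgroup.center P) * charDegree (χ : P → ℂ) ^ 2 = Nat.card P ∧
      commutator P ⊓ CT.kerChar (χ : P → ℂ) = ⊥ := by
  have hb := inf_eq_bot_of_prime hc (not_commutator_le_ker χ hχ)
  obtain ⟨w, hw, hwk, -⟩ := central_hom χ
  have hv : ∀ g, g ∉ Subgroup.center P → (χ : P → ℂ) g = 0 := by
    intro g hg
    obtain ⟨h, hh⟩ : ∃ h : P, h * g ≠ g * h := by
      by_contra hc
      push Not at hc
      exact hg (Subgroup.mem_center_iff.mpr hc)
    have hm : ⁅h, g⁆ ∈ commutator P := Subgroup.commutator_mem_commutator trivial trivial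
    let z : Subgroup.center P := ⟨_, central_of_order_p hP hc hm⟩
    have h2 := hw z g
    rw [show (z : P) * g = h * g * h⁻¹ by simp [z, commutatorElement_def, mul_assoc],
      CT.isClassFunction_of_isIrr χ.2 g h] at h2
    have hne : w z ≠ 1 := fun e => hh (commutatorElement_eq_one_iff_mul_comm.mp
      (Subgroup.mem_bot.mp (hb ▸ ⟨hm, hwk z e⟩)))
    exact (mul_eq_zero.mp (show ((1 : ℂ) - w z) * (χ : P → ℂ) g = 0 by
      rw [sub_mul, one_mul, ← h2, sub_self])).resolve_left (sub_ne_zero.mpr hne.symm)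
  refine ⟨hv, le_antisymm (center_bound χ) (support_bound χ _ fun g hg => ?_), hb⟩
  by_contra h
  exact hg (hv g h)

theorem faithful_of_galUniq (hP : IsPGroup p P) (hc : Nat.card (commutator P) = p) (h : GalUniq P)
    (χ : IrrCharacter P) (hχ : (χ : P → ℂ) 1 ≠ 1) : CT.kerChar (χ : P → ℂ) = ⊥ := by
  haveI := Fintype.ofFinite P
  have hχd : charDegree (χ : P → ℂ) ≠ 1 := fun e => hχ ((deg_one_iff χ).mp e)
  have hall : ∀ ψ : IrrCharacter P, (ψ : P → ℂ) 1 ≠ 1 →
      CT.kerChar (χ : P → ℂ) = CT.kerChar (ψ : P → ℂ) := by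
    intro ψ hψ
    refine same_ker h hχd ?_
    have e1 := (vanish_off_center hP hc χ hχ).2.1
    have e2 := (vanish_off_center hP hc ψ hψ).2.1
    exact Nat.pow_left_injective two_ne_zero (Nat.eq_of_mul_eq_mul_left Nat.card_pos (e1.trans e2.symm))
  rw [Subgroup.eq_bot_iff_forall]
  intro x hx
  refine isConj_one_left.mp (CT.isConj_iff_forall_irr.mpr fun η => ?_)
  by_cases hη : (η : P → ℂ) 1 = 1
  · let θ : IrrCharacter P := ⟨_, OddChar.isIrr_mul_linear χ.2 (CT.isCharacter_of_isIrr η.2) hη⟩
    have hθ : (θ : P → ℂ) 1 ≠ 1 := by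
      show (χ : P → ℂ) 1 * (η : P → ℂ) 1 ≠ 1
      rwa [hη, mul_one]
    have e1 : (χ : P → ℂ) x = (χ : P → ℂ) 1 :=
      (CT.mem_kerChar_iff (CT.isCharacter_of_isIrr χ.2)).mp hx
    have e2 : (θ : P → ℂ) x = (θ : P → ℂ) 1 :=
      (CT.mem_kerChar_iff (CT.isCharacter_of_isIrr θ.2)).mp (hall θ hθ ▸ hx)
    simp only [θ, Pi.mul_apply, e1] at e2
    exact mul_left_cancel₀ (CT.irr_one_ne_zero χ.2) e2
  · exact (CT.mem_kerChar_iff (CT.isCharacter_of_isIrr η.2)).mp (hall η hη ▸ hx)

theorem center_cyclic (hP : IsPGroup p P) (hc : Nat.card (commutator P) = p) (h : GalUniq P) :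
    IsCyclic (Subgroup.center P) := by
  obtain ⟨a, ha, ha1⟩ : ∃ a ∈ commutator P, a ≠ 1 := by
    by_contra hh
    push Not at hh
    have : commutator P = ⊥ := (Subgroup.eq_bot_iff_forall _).mpr hh
    rw [this, Subgroup.card_bot] at hc
    exact hp.out.one_lt.ne hc
  obtain ⟨χ, hχ, -⟩ := exists_nonlinear ha ha1
  have hker := faithful_of_galUniq hP hc h χ hχ
  obtain ⟨w, -, hwk, -⟩ := central_hom χ
  have hinj : Function.Injective w := by
    intro a b e
    have : w (a⁻¹ * b) = 1 := by
      rw [map_mul, ← e, ← map_mul, inv_mul_cancel, map_one]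
    have := hwk _ this
    rw [hker, Subgroup.mem_bot] at this
    exact inv_mul_eq_one.mp (Subtype.ext this)
  exact isCyclic_of_subgroup_isDomain w hinj

/-- The converse direction. -/
theorem galUniq_of_cyclic (hP : IsPGroup p P) (hc : Nat.card (commutator P) = p)
    (hcyc : IsCyclic (Subgroup.center P)) : GalUniq P := by
  intro χ ψ h1 he
  have hcz := central_of_order_p hP hc
  have hinj : ∀ η : IrrCharacter P, (η : P → ℂ) 1 ≠ 1 →
      ∃ w : Subgroup.center P →* ℂ, Function.Injective w ∧
        ∀ (z : Subgroup.center P), (η : P → ℂ) z = w z * (η : P → ℂ) 1 := by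
    intro η hη
    obtain ⟨w, hw, hwk, -⟩ := central_hom η
    refine ⟨w, fun a b e => ?_, fun z => by simpa using hw z 1⟩
    have h' : w (a⁻¹ * b) = 1 := by rw [map_mul, ← e, ← map_mul, inv_mul_cancel, map_one]
    set u := a⁻¹ * b with hu
    by_contra hab
    have hu1 : u ≠ 1 := fun e => hab (inv_mul_eq_one.mp (hu ▸ e))
    -- some power of `u` generates the derived subgroup
    obtain ⟨k, hk⟩ := IsPGroup.iff_orderOf.mp hP (u : P)
    have hk0 : k ≠ 0 := fun e => hu1 (Subtype.ext (orderOf_eq_one_iff.mp (by rw [hk, e, pow_zero])))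
    let K := (CT.kerChar (η : P → ℂ) ⊓ Subgroup.center P).subgroupOf (Subgroup.center P)
    let D := (commutator P).subgroupOf (Subgroup.center P)
    have hd : p ∣ Nat.card K := by
      have hmem : u ∈ K := Subgroup.mem_subgroupOf.mpr ⟨hwk u h', u.2⟩
      refine (dvd_pow_self p hk0).trans ?_
      rw [← hk, Subgroup.orderOf_coe]
      exact Subgroup.orderOf_dvd_natCard K hmem
    obtain ⟨v, hv⟩ := exists_prime_orderOf_dvd_card' (G := K) p hd
    have hD : Nat.card D = p := by
      rw [← hc]; exact Nat.card_congr (Subgroup.subgroupOfEquivOfLe hcz).toEquiv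
    have hvo : orderOf (v : Subgroup.center P) = p := by rw [Subgroup.orderOf_coe]; exact hv
    have hDv : D = Subgroup.zpowers (v : Subgroup.center P) := by
      refine LocalEvenB.eq_of_card_eq_of_isCyclic ?_
      rw [hD, Nat.card_zpowers, hvo]
    have hb := inf_eq_bot_of_prime hc (not_commutator_le_ker η hη)
    have hvD : (v : Subgroup.center P) ∈ D := hDv ▸ Subgroup.mem_zpowers _
    have : ((v : Subgroup.center P) : P) ∈ (⊥ : Subgroup P) :=
      hb ▸ ⟨Subgroup.mem_subgroupOf.mp hvD, (Subgroup.mem_subgroupOf.mp v.2).1⟩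
    rw [show (v : Subgroup.center P) = 1 from Subtype.ext (Subgroup.mem_bot.mp this), orderOf_one] at hvo
    exact hp.out.one_lt.ne hvo
  have hχ : (χ : P → ℂ) 1 ≠ 1 := fun e => h1 ((deg_one_iff χ).mpr e)
  have hψ : (ψ : P → ℂ) 1 ≠ 1 := fun e => h1 (he ▸ (deg_one_iff ψ).mpr e)
  obtain ⟨w, hwi, hw⟩ := hinj χ hχ
  obtain ⟨v, hvi, hv⟩ := hinj ψ hψ
  obtain ⟨z₀, hz₀⟩ := hcyc.exists_generator
  have hn : 0 < Nat.card (Subgroup.center P) := Nat.card_pos
  have ho : orderOf z₀ = Nat.card (Subgroup.center P) := orderOf_eq_card_of_forall_mem_zpowers hz₀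
  have hr1 : IsPrimitiveRoot (w z₀) (Nat.card (Subgroup.center P)) := by
    rw [← ho, ← orderOf_injective w hwi]; exact IsPrimitiveRoot.orderOf _
  have hr2 : IsPrimitiveRoot (v z₀) (Nat.card (Subgroup.center P)) := by
    rw [← ho, ← orderOf_injective v hvi]; exact IsPrimitiveRoot.orderOf _
  haveI : NeZero (Nat.card (Subgroup.center P)) := ⟨hn.ne'⟩
  obtain ⟨k, -, hk, hkv⟩ := hr1.isPrimitiveRoot_iff.mp hr2
  obtain ⟨n, hnP⟩ := IsPGroup.iff_card.mp hP
  have hkP : Nat.Coprime k (Nat.card P) := by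
    rw [hnP]
    refine Nat.Coprime.pow_right _ (hk.coprime_dvd_right ?_)
    rw [← hc]
    exact Subgroup.card_dvd_of_le hcz
  refine ⟨k, hkP, fun g => ?_⟩
  have hd : (ψ : P → ℂ) 1 = (χ : P → ℂ) 1 := by rw [Blocks.charDegree_cast, Blocks.charDegree_cast, he]
  by_cases hg : g ∈ Subgroup.center P
  · have hall : ∀ z : Subgroup.center P, v z = w (z ^ k) := by
      intro z
      obtain ⟨j, rfl⟩ := mem_powers_iff_mem_zpowers.mpr (hz₀ z)
      simp only [map_pow]
      rw [← hkv, pow_right_comm]
    have h2 := hw (⟨g, hg⟩ ^ k)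
    rw [SubmonoidClass.coe_pow] at h2
    rw [hv ⟨g, hg⟩, hd, hall, ← h2]
  · rw [(vanish_off_center hP hc ψ hψ).1 g hg, (vanish_off_center hP hc χ hχ).1 _ ?_]
    intro hgk
    obtain ⟨m, hm⟩ := exists_pow_eq_self_of_coprime (hkP.coprime_dvd_right (orderOf_dvd_natCard g))
    exact hg (hm ▸ pow_mem hgk m)

/-- The derived subgroup cannot have order `p ^ 2`. -/
theorem not_order_sq (hP : IsPGroup p P) (h : GalUniq P)
    (hc : Nat.card (commutator P) = p * p) : False := by
  haveI := Fintype.ofFinite P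
  have h2 := hp.out.two_le
  obtain ⟨L, hLn, hLc, hL⟩ := PGroup23.exists_normal_index_prime hP (commutator P) (fun e => by
    rw [e, Subgroup.card_bot] at hc; nlinarith)
  have hLp : Nat.card L = p := Nat.eq_of_mul_eq_mul_left hp.out.pos (hL.symm.trans hc)
  -- facts about an arbitrary normal subgroup of order `p` in the derived subgroup
  have facts : ∀ (N : Subgroup P), N.Normal → N ≤ commutator P → Nat.card N = p →
      ∃ (χ : IrrCharacter P) (Z₁ : ℕ), (χ : P → ℂ) 1 ≠ 1 ∧ N ≤ CT.kerChar (χ : P → ℂ) ∧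
        charDegree (χ : P → ℂ) ^ 2 * Z₁ = Nat.card P ∧
        (Z₁ = Nat.card (Subgroup.center P) ∨ Z₁ = p * Nat.card (Subgroup.center P)) ∧
        ((∃ x ∈ commutator P, x ∉ Subgroup.center P) → Z₁ = p * Nat.card (Subgroup.center P)) := by
    intro N hN hNc hNp
    haveI := hN
    haveI := Fintype.ofFinite (P ⧸ N)
    have hQ : IsPGroup p (P ⧸ N) := hP.to_quotient N
    have hker : (QuotientGroup.mk' N).ker = N := QuotientGroup.ker_mk' N
    have hQc : Nat.card (commutator (P ⧸ N)) = p := by
      have e : commutator (P ⧸ N) = (commutator P).map (QuotientGroup.mk' N) := by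
        rw [commutator_def, commutator_def, Subgroup.map_commutator,
          Subgroup.map_top_of_surjective _ (QuotientGroup.mk'_surjective N)]
      have h2 := Basics.card_comap_mk' (N := N) ((commutator P).map (QuotientGroup.mk' N))
      rw [Subgroup.comap_map_eq, hker, sup_eq_left.mpr hNc, hc, hNp] at h2
      rw [e]
      exact Nat.eq_of_mul_eq_mul_left hp.out.pos h2.symm
    have hQh := galUniq_quot h N
    haveI hQcyc := center_cyclic hQ hQc hQh
    obtain ⟨ψ, hψ⟩ : ∃ ψ : IrrCharacter (P ⧸ N), (ψ : P ⧸ N → ℂ) 1 ≠ 1 := by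
      obtain ⟨a, ha, ha1⟩ : ∃ a ∈ commutator (P ⧸ N), a ≠ 1 := by
        by_contra hh
        push Not at hh
        rw [(Subgroup.eq_bot_iff_forall _).mpr hh, Subgroup.card_bot] at hQc
        exact hp.out.one_lt.ne hQc
      obtain ⟨ψ, hψ, -⟩ := exists_nonlinear ha ha1
      exact ⟨ψ, hψ⟩
    let χ : IrrCharacter P := ⟨fun g => (ψ : P ⧸ N → ℂ) (QuotientGroup.mk g),
      CT.isIrr_inflate N ψ.2 fun g => rfl⟩
    let Z' := (Subgroup.center (P ⧸ N)).comap (QuotientGroup.mk' N)
    have hZ' : Nat.card Z' = Nat.card (Subgroup.center (P ⧸ N)) * p := by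
      rw [← hNp, mul_comm]; exact Basics.card_comap_mk' (N := N) _
    have hZle : Subgroup.center P ≤ Z' := by
      intro z hz
      rw [Subgroup.mem_comap, Subgroup.mem_center_iff]
      intro q
      induction q using QuotientGroup.induction_on with
      | _ g => exact congrArg (QuotientGroup.mk (s := N)) (Subgroup.mem_center_iff.mp hz g)
    refine ⟨χ, Nat.card Z', hψ, fun x hx => ?_, ?_, ?_⟩
    · rw [CT.mem_kerChar_iff (CT.isCharacter_of_isIrr χ.2)]
      exact congrArg (ψ : P ⧸ N → ℂ) ((QuotientGroup.eq_one_iff x).mpr hx)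
    · have e1 := (vanish_off_center hQ hQc ψ hψ).2.1
      have e2 : Nat.card P = Nat.card (P ⧸ N) * p := by
        rw [← Subgroup.index_eq_card, ← hNp, Subgroup.index_mul_card]
      rw [hZ', e2, ← e1]
      show charDegree (ψ : P ⧸ N → ℂ) ^ 2 * _ = _
      ring
    -- the preimage of the centre is at most `p` times larger than the centre
    obtain ⟨q₀, hq₀⟩ := hQcyc.exists_generator
    obtain ⟨x₀, hx₀⟩ := QuotientGroup.mk'_surjective N (q₀ : P ⧸ N)
    have hNZ := central_of_order_p hP hNp
    have hcomm : ∀ x ∈ Z', ∀ g : P, ⁅g, x⁆ ∈ N := by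
      intro x hx g
      rw [← QuotientGroup.eq_one_iff, ← QuotientGroup.mk'_apply, map_commutatorElement,
        commutatorElement_eq_one_iff_mul_comm]
      exact Subgroup.mem_center_iff.mp hx _
    have hx₀Z : x₀ ∈ Z' := by rw [Subgroup.mem_comap, hx₀]; exact q₀.2
    have hpow : x₀ ^ p ∈ Subgroup.center P := by
      rw [Subgroup.mem_center_iff]
      intro g
      have hz := hNZ (hcomm x₀ hx₀Z g)
      have e1 : g * x₀ * g⁻¹ = ⁅g, x₀⁆ * x₀ := by rw [commutatorElement_def]; group
      have hco : Commute ⁅g, x₀⁆ x₀ := (Subgroup.mem_center_iff.mp hz x₀).symm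
      have hn1 : ⁅g, x₀⁆ ^ p = 1 := by
        have := pow_card_eq_one' (x := (⟨_, hcomm x₀ hx₀Z g⟩ : N))
        rw [hNp] at this
        exact congrArg Subtype.val this
      have : g * x₀ ^ p * g⁻¹ = x₀ ^ p := by
        rw [← conj_pow, e1, hco.mul_pow, hn1, one_mul]
      exact mul_inv_eq_iff_eq_mul.mp this
    have hsurj : ∀ y ∈ Z', ∃ i : Fin p, ∃ z ∈ Subgroup.center P, y = x₀ ^ (i : ℕ) * z := by
      intro y hy
      obtain ⟨j, hj⟩ := mem_powers_iff_mem_zpowers.mpr (hq₀ ⟨_, hy⟩)
      have hj' : (QuotientGroup.mk' N x₀) ^ j = QuotientGroup.mk' N y := by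
        rw [hx₀]; exact congrArg Subtype.val hj
      rw [← map_pow] at hj'
      have hn : (x₀ ^ j)⁻¹ * y ∈ N := QuotientGroup.eq.mp hj'
      refine ⟨⟨j % p, Nat.mod_lt _ hp.out.pos⟩, (x₀ ^ p) ^ (j / p) * ((x₀ ^ j)⁻¹ * y),
        mul_mem (pow_mem hpow _) (hNZ hn), ?_⟩
      rw [← mul_assoc, ← pow_mul, ← pow_add, Nat.mod_add_div, mul_inv_cancel_left]
    have hle : Nat.card Z' ≤ p * Nat.card (Subgroup.center P) := by
      let F : Fin p × Subgroup.center P → Z' := fun iz =>
        ⟨x₀ ^ (iz.1 : ℕ) * (iz.2 : P), Z'.mul_mem (Z'.pow_mem hx₀Z _) (hZle iz.2.2)⟩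
      have := Nat.card_le_card_of_surjective F (by
        rintro ⟨y, hy⟩
        obtain ⟨i, z, hz, rfl⟩ := hsurj y hy
        exact ⟨(i, ⟨z, hz⟩), rfl⟩)
      rwa [Nat.card_prod, Nat.card_fin] at this
    obtain ⟨i, hi⟩ := IsPGroup.iff_card.mp (hP.to_subgroup Z')
    obtain ⟨j, hj⟩ := IsPGroup.iff_card.mp (hP.to_subgroup (Subgroup.center P))
    have hdvd := Subgroup.card_dvd_of_le hZle
    rw [hi, hj] at hdvd hle
    have hji : j ≤ i := (Nat.pow_dvd_pow_iff_le_right hp.out.one_lt).mp hdvd
    have hij : i ≤ j + 1 := (Nat.pow_le_pow_iff_right hp.out.one_lt).mp (by rwa [pow_succ'])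
    refine ⟨?_, ?_⟩
    · rw [hi, hj]
      rcases Nat.lt_or_ge j i with h | h
      · right; rw [show i = j + 1 by omega, pow_succ']
      · left; rw [show i = j by omega]
    · rintro ⟨x, hx, hxz⟩
      rw [hi, hj]
      rcases Nat.lt_or_ge j i with h' | h'
      · rw [show i = j + 1 by omega, pow_succ']
      · exfalso
        have : Subgroup.center P = Z' := Subgroup.eq_of_le_of_card_ge hZle (by
          rw [hi, hj]; exact Nat.pow_le_pow_right hp.out.pos h')
        refine hxz (this ▸ ?_)
        rw [Subgroup.mem_comap]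
        refine central_of_order_p hQ hQc ?_
        rw [commutator_def]
        rw [commutator_def] at hx
        have hm := Subgroup.mem_map_of_mem (QuotientGroup.mk' N) hx
        rw [Subgroup.map_commutator] at hm
        exact Subgroup.commutator_mono le_top le_top hm
  have hpexp : ∀ χ : IrrCharacter P, ∃ a, charDegree (χ : P → ℂ) = p ^ a := fun χ => by
    obtain ⟨n, hn⟩ := IsPGroup.iff_card.mp hP
    obtain ⟨a, -, ha⟩ := (Nat.dvd_prime_pow hp.out).mp (hn ▸ Blocks.charDegree_dvd_card χ)
    exact ⟨a, ha⟩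
  obtain ⟨nP, hnP⟩ := IsPGroup.iff_card.mp hP
  obtain ⟨j, hj⟩ := IsPGroup.iff_card.mp (hP.to_subgroup (Subgroup.center P))
  -- there is a unique normal subgroup of order `p` in the derived subgroup
  have uniq : ∀ N : Subgroup P, N.Normal → N ≤ commutator P → Nat.card N = p → N = L := by
    intro N hN hNc hNp
    haveI := hN; haveI := hLn
    by_contra hne
    obtain ⟨χ, Z1, hχ, hk, he, hZ, -⟩ := facts N hN hNc hNp
    obtain ⟨ψ, Z2, hψ, hk', he', hZ2, -⟩ := facts L hLn hLc hLp
    obtain ⟨a, ha⟩ := hpexp χ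
    obtain ⟨b, hb⟩ := hpexp ψ
    have hab : a = b := by
      rw [ha, ← pow_mul, hnP] at he
      rw [hb, ← pow_mul, hnP] at he'
      have inj : ∀ {x y : ℕ}, p ^ x = p ^ y → x = y := fun e => Nat.pow_right_injective h2 e
      rcases hZ with rfl | rfl <;> rcases hZ2 with rfl | rfl <;>
        simp only [hj, ← pow_add, ← pow_succ'] at he he' <;>
        have := inj he <;> have := inj he' <;> omega
    have hkk := same_ker h (fun e => hχ ((deg_one_iff χ).mp e)) (show charDegree (χ : P → ℂ) =
      charDegree (ψ : P → ℂ) by rw [ha, hab, ← hb])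
    apply not_commutator_le_ker χ hχ
    have hsup : N ⊔ L = commutator P := by
      refine Subgroup.eq_of_le_of_card_ge (sup_le hNc hLc) ?_
      obtain ⟨i, hi⟩ := IsPGroup.iff_card.mp (hP.to_subgroup (N ⊔ L))
      have hd := Subgroup.card_dvd_of_le (sup_le hNc hLc)
      have hlt : p < Nat.card ↥(N ⊔ L) := by
        rcases Nat.lt_or_ge p (Nat.card ↥(N ⊔ L)) with h | h
        · exact h
        · exact absurd ((Subgroup.eq_of_le_of_card_ge le_sup_left (by omega)).trans
            (Subgroup.eq_of_le_of_card_ge le_sup_right (by omega)).symm) hne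
      rw [hc, hi]
      rw [hi] at hlt
      have : 1 < i := (Nat.pow_lt_pow_iff_right hp.out.one_lt).mp (by simpa using hlt)
      calc p * p = p ^ 2 := (pow_two p).symm
        _ ≤ p ^ i := Nat.pow_le_pow_right hp.out.pos this
    rw [← hsup]
    exact sup_le hk (hk'.trans hkk.ge)
  obtain ⟨χ₁, Z1, hχ₁, hk₁, he₁, hZ1, hZ1'⟩ := facts L hLn hLc hLp
  obtain ⟨n, hnL, hn1⟩ : ∃ n ∈ L, n ≠ (1 : P) := by
    by_contra hh
    push Not at hh
    rw [(Subgroup.eq_bot_iff_forall _).mpr hh, Subgroup.card_bot] at hLp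
    exact hp.out.one_lt.ne hLp
  obtain ⟨χ, hχ, hnk⟩ := exists_nonlinear (hLc hnL) hn1
  have hLk : L ⊓ CT.kerChar (χ : P → ℂ) = ⊥ := inf_eq_bot_of_prime hLp fun hle => hnk (hle hnL)
  haveI := hLn
  have hLZ := central_of_order_p hP hLp
  obtain ⟨w, hw, hwk, -⟩ := central_hom χ
  -- the support
  have hU : ∀ g, (χ : P → ℂ) g ≠ 0 → ∀ y : P, ⁅y, g⁆ ∈ L → ⁅y, g⁆ = 1 := by
    intro g hg y hy
    by_contra hne
    have h' := hw ⟨_, hLZ hy⟩ g
    rw [show ⁅y, g⁆ * g = y * g * y⁻¹ by rw [commutatorElement_def]; group,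
      CT.isClassFunction_of_isIrr χ.2 g y] at h'
    have hne' : w ⟨_, hLZ hy⟩ ≠ 1 := fun e => hne (Subgroup.mem_bot.mp (hLk ▸ ⟨hy, hwk _ e⟩))
    exact hg ((mul_eq_zero.mp (show ((1 : ℂ) - w ⟨_, hLZ hy⟩) * (χ : P → ℂ) g = 0 by
      rw [sub_mul, one_mul, ← h', sub_self])).resolve_left (sub_ne_zero.mpr hne'.symm))
  -- degrees differ
  obtain ⟨a, ha⟩ := hpexp χ
  obtain ⟨b, hb⟩ := hpexp χ₁
  have hab : a ≠ b := fun e => hnk (same_ker h (fun e' => hχ₁ ((deg_one_iff χ₁).mp e'))
    (show charDegree (χ₁ : P → ℂ) = charDegree (χ : P → ℂ) by rw [ha, hb, e]) ▸ hk₁ hnL)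
  have hcb := center_bound χ
  rw [ha, ← pow_mul, hnP] at hcb
  rw [hb, ← pow_mul, hnP] at he₁
  have le_iff : ∀ {x y : ℕ}, p ^ x ≤ p ^ y ↔ x ≤ y := Nat.pow_le_pow_iff_right hp.out.one_lt
  -- the commutator map modulo `L`
  have hcmodL : ∀ x ∈ commutator P, ∀ g : P, ⁅g, x⁆ ∈ L := by
    intro x hx g
    let π := QuotientGroup.mk' L
    have hQc : Nat.card ((commutator P).map π) = p := by
      have h2 := Basics.card_comap_mk' (N := L) ((commutator P).map π)
      rw [Subgroup.comap_map_eq, QuotientGroup.ker_mk', sup_eq_left.mpr hLc, hc, hLp] at h2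
      exact Nat.eq_of_mul_eq_mul_left hp.out.pos h2.symm
    haveI : ((commutator P).map π).Normal :=
      Subgroup.Normal.map inferInstance π (QuotientGroup.mk'_surjective L)
    have := central_of_order_p (hP.to_quotient L) hQc (Subgroup.mem_map_of_mem π hx)
    rw [← QuotientGroup.eq_one_iff, ← QuotientGroup.mk'_apply, map_commutatorElement,
      commutatorElement_eq_one_iff_mul_comm]
    exact Subgroup.mem_center_iff.mp this _
  have hgU : ∀ g, (χ : P → ℂ) g ≠ 0 → g ∉ Subgroup.center P →
      (Subgroup.centralizer ({g} : Set P)).index = p ∧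
        g ∈ Subgroup.centralizer (commutator P : Set P) ∧
        ∀ y, y ∉ Subgroup.centralizer ({g} : Set P) → ⁅y, g⁆ ∉ L := by
    intro g hg hgz
    have hcg : g ∈ Subgroup.centralizer (commutator P : Set P) := by
      rw [Subgroup.mem_centralizer_iff]
      intro x hx
      have hin : ⁅x, g⁆ ∈ L := by
        have := hcmodL x hx g
        rw [← commutatorElement_inv]
        exact L.inv_mem this
      exact commutatorElement_eq_one_iff_mul_comm.mp (hU g hg x hin)
    have hiff : ∀ y, ⁅y, g⁆ ∈ L → y ∈ Subgroup.centralizer ({g} : Set P) := fun y hy => by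
      rw [Subgroup.mem_centralizer_singleton_iff]
      exact (commutatorElement_eq_one_iff_mul_comm.mp (hU g hg y hy))
    refine ⟨?_, hcg, fun y hy hy' => hy (hiff y hy')⟩
    let C := Subgroup.centralizer ({g} : Set P)
    let π := QuotientGroup.mk' L
    have hQc : Nat.card ((commutator P).map π) = p := by
      have h2 := Basics.card_comap_mk' (N := L) ((commutator P).map π)
      rw [Subgroup.comap_map_eq, QuotientGroup.ker_mk', sup_eq_left.mpr hLc, hc, hLp] at h2
      exact Nat.eq_of_mul_eq_mul_left hp.out.pos h2.symm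
    let F : P ⧸ C → (commutator P).map π := fun q =>
      ⟨π ⁅q.out, g⁆, Subgroup.mem_map_of_mem π (Subgroup.commutator_mem_commutator trivial trivial)⟩
    have hF : Function.Injective F := by
      intro q r e
      have e' : π ⁅q.out, g⁆ = π ⁅r.out, g⁆ := congrArg Subtype.val e
      rw [← q.out_eq', ← r.out_eq']
      refine QuotientGroup.eq.mpr (hiff _ ?_)
      rw [← QuotientGroup.eq_one_iff, ← QuotientGroup.mk'_apply, map_commutatorElement,
        commutatorElement_eq_one_iff_mul_comm]
      rw [map_commutatorElement, map_commutatorElement, commutatorElement_def,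
        commutatorElement_def, mul_left_inj] at e'
      have key : (π r.out)⁻¹ * (π q.out * π g * (π q.out)⁻¹) * π r.out = π g := by
        rw [e']; group
      simp only [map_mul, map_inv]
      have key2 : π g = (π q.out)⁻¹ * π r.out * π g * ((π q.out)⁻¹ * π r.out)⁻¹ := by
        rw [mul_inv_rev, inv_inv]
        calc π g = (π q.out)⁻¹ * (π q.out * π g * (π q.out)⁻¹) * π q.out := by group
          _ = _ := by rw [e']; group
      calc (π q.out)⁻¹ * π r.out * π g
          = ((π q.out)⁻¹ * π r.out * π g * ((π q.out)⁻¹ * π r.out)⁻¹) * ((π q.out)⁻¹ * π r.out) := by group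
        _ = π g * ((π q.out)⁻¹ * π r.out) := by rw [← key2]
    have hle : C.index ≤ p := by
      rw [Subgroup.index_eq_card, ← hQc]
      exact Nat.card_le_card_of_injective F hF
    obtain ⟨i, hi⟩ := hP.index C
    rcases Nat.eq_zero_or_pos i with h0 | h0
    · exfalso
      rw [h0, pow_zero, Subgroup.index_eq_one] at hi
      exact hgz (Subgroup.mem_center_iff.mpr fun y => Subgroup.mem_centralizer_singleton_iff.mp
        (show y ∈ C from hi ▸ Subgroup.mem_top y))
    · refine le_antisymm hle (hi ▸ ?_)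
      exact Nat.le_self_pow (by omega) p
  by_cases hcz : commutator P ≤ Subgroup.center P
  · -- class two: the support is central
    have hsup : ∀ g, (χ : P → ℂ) g ≠ 0 → g ∈ Subgroup.center P := by
      intro g hg
      by_contra hgz
      obtain ⟨hidx, -, hy⟩ := hgU g hg hgz
      let C := Subgroup.centralizer ({g} : Set P)
      obtain ⟨y, hyC⟩ : ∃ y, y ∉ C := by
        by_contra hh
        push Not at hh
        have : C.index = 1 := Subgroup.index_eq_one.mpr (eq_top_iff.mpr fun x _ => hh x)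
        exact hp.out.one_lt.ne (this.symm.trans hidx)
      have hmem : ⁅y, g⁆ ∈ commutator P := Subgroup.commutator_mem_commutator trivial trivial
      have hCn : C.Normal := by
        haveI := hP.isNilpotent
        refine ⟨fun u hu v => ?_⟩
        have hnt : Subgroup.normalizer (C : Set P) = ⊤ := by
          have hlt : C < Subgroup.normalizer (C : Set P) :=
            Group.normalizerCondition_of_isNilpotent C (lt_top_iff_ne_top.mpr fun e => hyC (e ▸ trivial))
          have h1 := Subgroup.relIndex_mul_index hlt.le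
          rw [hidx] at h1
          rcases (Nat.dvd_prime hp.out).mp (h1 ▸ dvd_mul_left _ _ :
            (Subgroup.normalizer (C : Set P)).index ∣ p) with e | e
          · exact Subgroup.index_eq_one.mp e
          · rw [e] at h1
            exact absurd (Subgroup.relIndex_eq_one.mp (Nat.eq_of_mul_eq_mul_right hp.out.pos
              (h1.trans (one_mul p).symm))) hlt.not_ge
        exact (Subgroup.mem_normalizer_iff.mp (hnt ▸ Subgroup.mem_top v) u).mp hu
      haveI := hCn
      have hyp : y ^ p ∈ C := hidx ▸ C.pow_index_mem y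
      have hz := Subgroup.mem_center_iff.mp (hcz hmem)
      have hap : ⁅y, g⁆ ^ p = 1 := by
        have e1 : g * y * g⁻¹ = ⁅y, g⁆⁻¹ * y := by
          rw [commutatorElement_inv, commutatorElement_def]; group
        have hco : Commute ⁅y, g⁆⁻¹ y := Commute.inv_left (hz y).symm
        have e2 : g * y ^ p * g⁻¹ = y ^ p := by
          rw [← Subgroup.mem_centralizer_singleton_iff.mp hyp, mul_inv_cancel_right]
        rw [← conj_pow, e1, hco.mul_pow, inv_pow] at e2
        exact inv_eq_one.mp (mul_eq_right.mp e2)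
      have hne : ⁅y, g⁆ ≠ 1 := fun e => hy y hyC (e ▸ L.one_mem)
      haveI hzn : (Subgroup.zpowers ⁅y, g⁆).Normal := ⟨fun u hu x => by
        rwa [Subgroup.mem_center_iff.mp (hcz ((Subgroup.zpowers_le.mpr hmem) hu)) x,
          mul_inv_cancel_right]⟩
      have := uniq _ hzn (Subgroup.zpowers_le.mpr hmem)
        (by rw [Nat.card_zpowers]; exact orderOf_eq_prime hap hne)
      exact hy y hyC (this ▸ Subgroup.mem_zpowers _)
    have hsb := support_bound χ _ hsup
    rw [ha, ← pow_mul, hj, hnP] at hsb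
    rcases hZ1 with rfl | rfl <;> simp only [hj, ← pow_add, ← pow_succ'] at he₁ hcb hsb <;>
      have e1 := Nat.pow_right_injective h2 he₁ <;> have e2 := le_iff.mp hcb <;>
      have e3 := le_iff.mp hsb <;> omega
  · -- class three
    obtain ⟨x, hx, hxz⟩ := SetLike.not_le_iff_exists.mp hcz
    have hZ1e := hZ1' ⟨x, hx, hxz⟩
    let M := Subgroup.centralizer (commutator P : Set P)
    obtain ⟨W, hWc, hWsup⟩ : ∃ W : Subgroup P,
        Nat.card W ≤ p * p * Nat.card (Subgroup.center P) ∧ ∀ g, (χ : P → ℂ) g ≠ 0 → g ∈ W := by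
      by_cases hex : ∃ g, (χ : P → ℂ) g ≠ 0 ∧ g ∉ Subgroup.center P
      swap
      · push Not at hex
        exact ⟨_, Nat.le_mul_of_pos_left _ (Nat.mul_pos hp.out.pos hp.out.pos), hex⟩
      have hCM : ∀ g, (χ : P → ℂ) g ≠ 0 → g ∉ Subgroup.center P →
          Subgroup.centralizer ({g} : Set P) = M ∧ M.index = p := by
        intro g hg hgz
        obtain ⟨hidx, hgM, hy⟩ := hgU g hg hgz
        have hMne : M ≠ ⊤ := fun e => hxz (Subgroup.mem_center_iff.mpr fun u =>
          ((Subgroup.mem_centralizer_iff.mp (show u ∈ M from e ▸ Subgroup.mem_top u)) x hx).symm)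
        obtain ⟨y, hyC⟩ : ∃ y, y ∉ Subgroup.centralizer ({g} : Set P) := by
          by_contra hh
          push Not at hh
          rw [Subgroup.index_eq_one.mpr (eq_top_iff.mpr fun x _ => hh x)] at hidx
          exact hp.out.one_lt.ne hidx
        have hmem : ⁅y, g⁆ ∈ commutator P := Subgroup.commutator_mem_commutator trivial trivial
        have hgen : L ⊔ Subgroup.zpowers ⁅y, g⁆ = commutator P := by
          refine Subgroup.eq_of_le_of_card_ge (sup_le hLc (Subgroup.zpowers_le.mpr hmem)) ?_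
          obtain ⟨i, hi⟩ := IsPGroup.iff_card.mp (hP.to_subgroup (L ⊔ Subgroup.zpowers ⁅y, g⁆))
          have hlt : p < Nat.card ↥(L ⊔ Subgroup.zpowers ⁅y, g⁆) := by
            rcases Nat.lt_or_ge p (Nat.card ↥(L ⊔ Subgroup.zpowers ⁅y, g⁆)) with h | h
            · exact h
            · refine absurd ?_ (hy y hyC)
              have := Subgroup.eq_of_le_of_card_ge (le_sup_left (a := L) (b := Subgroup.zpowers ⁅y, g⁆))
                (by omega)
              exact this ▸ Subgroup.mem_sup_right (Subgroup.mem_zpowers _)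
          rw [hc, hi]
          rw [hi] at hlt
          have : 1 < i := (Nat.pow_lt_pow_iff_right hp.out.one_lt).mp (by simpa using hlt)
          calc p * p = p ^ 2 := (pow_two p).symm
            _ ≤ p ^ i := Nat.pow_le_pow_right hp.out.pos this
        have hle : Subgroup.centralizer ({g} : Set P) ≤ M := by
          intro u hu
          have hug : u * g = g * u := Subgroup.mem_centralizer_singleton_iff.mp hu
          have hua : u * ⁅y, g⁆ * u⁻¹ = ⁅y, g⁆ := by
            rw [show u * ⁅y, g⁆ * u⁻¹ = ⁅u * y * u⁻¹, u * g * u⁻¹⁆ from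
              map_commutatorElement (MulAut.conj u).toMonoidHom y g, hug, mul_inv_cancel_right]
            rw [show u * y * u⁻¹ = ⁅u, y⁆ * y by rw [commutatorElement_def]; group,
              commutatorElement_def, commutatorElement_def]
            have hcm : g * ⁅u, y⁆ = ⁅u, y⁆ * g :=
              (Subgroup.mem_centralizer_iff.mp hgM _
                (Subgroup.commutator_mem_commutator trivial trivial)).symm
            have hz : (y * g * y⁻¹) * ⁅u, y⁆ = ⁅u, y⁆ * (y * g * y⁻¹) := by
              have hgM' : y * g * y⁻¹ ∈ M := by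
                haveI : M.Normal := Subgroup.normal_centralizer
                exact ‹M.Normal›.conj_mem g hgM y
              exact (Subgroup.mem_centralizer_iff.mp hgM' _
                (Subgroup.commutator_mem_commutator trivial trivial)).symm
            calc ⁅u, y⁆ * y * g * (⁅u, y⁆ * y)⁻¹ * g⁻¹
                = ⁅u, y⁆ * (y * g * y⁻¹) * ⁅u, y⁆⁻¹ * g⁻¹ := by group
              _ = y * g * y⁻¹ * g⁻¹ := by rw [← hz]; group
          rw [Subgroup.mem_centralizer_iff]
          intro v hv
          have hle' : commutator P ≤ Subgroup.centralizer ({u} : Set P) := by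
            rw [← hgen, sup_le_iff, Subgroup.zpowers_le]
            refine ⟨fun l hl => ?_, ?_⟩
            · rw [Subgroup.mem_centralizer_singleton_iff]
              exact (Subgroup.mem_center_iff.mp (hLZ hl) u).symm
            · rw [Subgroup.mem_centralizer_singleton_iff]
              exact (mul_inv_eq_iff_eq_mul.mp hua).symm
          exact Subgroup.mem_centralizer_singleton_iff.mp (hle' hv)
        have heq : Subgroup.centralizer ({g} : Set P) = M := by
          refine hle.antisymm ?_
          have h1 := Subgroup.relIndex_mul_index hle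
          rw [hidx] at h1
          rcases (Nat.dvd_prime hp.out).mp (h1 ▸ dvd_mul_left M.index _ : M.index ∣ p) with e | e
          · exact absurd (Subgroup.index_eq_one.mp e) hMne
          · rw [e] at h1
            exact Subgroup.relIndex_eq_one.mp (Nat.eq_of_mul_eq_mul_right hp.out.pos
              (h1.trans (one_mul p).symm))
        exact ⟨heq, heq ▸ hidx⟩
      obtain ⟨g₀, hg₀, hg₀z⟩ := hex
      obtain ⟨-, hMp⟩ := hCM g₀ hg₀ hg₀z
      refine ⟨Subgroup.centralizer (M : Set P), ?_, fun g hg => ?_⟩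
      · obtain ⟨y₀, hy₀⟩ : ∃ y, y ∉ M := by
          by_contra hh
          push Not at hh
          rw [Subgroup.index_eq_one.mpr (eq_top_iff.mpr fun x _ => hh x)] at hMp
          exact hp.out.one_lt.ne hMp
        have htop : M ⊔ Subgroup.zpowers y₀ = ⊤ := by
          rw [← Subgroup.index_eq_one]
          rcases (Nat.dvd_prime hp.out).mp (hMp ▸ Subgroup.index_dvd_of_le
            (le_sup_left (a := M) (b := Subgroup.zpowers y₀))) with e | e
          · exact e
          · exfalso
            have h1 := Subgroup.relIndex_mul_index (le_sup_left (a := M) (b := Subgroup.zpowers y₀))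
            rw [e, hMp] at h1
            exact hy₀ (Subgroup.relIndex_eq_one.mp (Nat.eq_of_mul_eq_mul_right hp.out.pos
              (h1.trans (one_mul p).symm)) (Subgroup.mem_sup_right (Subgroup.mem_zpowers y₀)))
        let W := Subgroup.centralizer (M : Set P)
        let f : W → commutator P := fun g =>
          ⟨⁅(g : P), y₀⁆, Subgroup.commutator_mem_commutator trivial trivial⟩
        have hff : ∀ a b : W, f a = f b → (a : P)⁻¹ * b ∈ Subgroup.center P := by
          intro a b e
          have e' : (a : P) * y₀ * (a : P)⁻¹ = (b : P) * y₀ * (b : P)⁻¹ := by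
            have := congrArg Subtype.val e
            simp only [f, commutatorElement_def, mul_left_inj] at this
            exact this
          have hmem : (a : P)⁻¹ * b ∈ W := W.mul_mem (W.inv_mem a.2) b.2
          have hall : (⊤ : Subgroup P) ≤ Subgroup.centralizer ({(a : P)⁻¹ * b} : Set P) := by
            rw [← htop, sup_le_iff, Subgroup.zpowers_le]
            refine ⟨fun m hm => ?_, ?_⟩
            · rw [Subgroup.mem_centralizer_singleton_iff]
              exact Subgroup.mem_centralizer_iff.mp hmem m hm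
            · rw [Subgroup.mem_centralizer_singleton_iff]
              calc y₀ * ((a : P)⁻¹ * b) = (a : P)⁻¹ * ((a : P) * y₀ * (a : P)⁻¹) * b := by group
                _ = (a : P)⁻¹ * b * y₀ := by rw [e']; group
          rw [Subgroup.mem_center_iff]
          exact fun u => Subgroup.mem_centralizer_singleton_iff.mp (hall trivial)
        let G' : W → commutator P × Subgroup.center P := fun a =>
          (f a, ⟨((Function.invFun f (f a) : W) : P)⁻¹ * a, hff _ _ (Function.invFun_eq ⟨a, rfl⟩)⟩)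
        have hG' : Function.Injective G' := by
          intro a b e
          have e1 := congrArg Prod.fst e
          have e2 := congrArg (fun t => ((Prod.snd t : Subgroup.center P) : P)) e
          simp only [G'] at e1 e2
          rw [e1] at e2
          exact Subtype.ext (mul_left_cancel e2)
        refine (Nat.card_le_card_of_injective G' hG').trans_eq ?_
        rw [Nat.card_prod, hc]
      · rw [Subgroup.mem_centralizer_iff]
        intro m hm
        by_cases hgz : g ∈ Subgroup.center P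
        · exact Subgroup.mem_center_iff.mp hgz m
        · exact Subgroup.mem_centralizer_singleton_iff.mp ((hCM g hg hgz).1 ▸ hm)
    have hsb := (support_bound χ W hWsup).trans (Nat.mul_le_mul_right _ hWc)
    rw [ha, ← pow_mul, hj, hnP] at hsb
    rw [hZ1e] at he₁
    rw [show p * p * p ^ j = p ^ (j + 2) by ring] at hsb
    simp only [hj, ← pow_add, ← pow_succ'] at he₁ hcb hsb
    have e1 := Nat.pow_right_injective h2 he₁
    have e2 := le_iff.mp hcb
    have e3 := le_iff.mp hsb
    omega

end small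

/-- Let p be a prime and P a finite non-commutative p-group. Then every two irreducible characters of P of the same degree greater than 1 are Galois conjugate (one is obtained from the other by composing with g ↦ g^k for some k prime to the order of P) if and only if the centre of P is cyclic and the derived subgroup of P has order p. -/
theorem result {P : Type*} [Group P] [Finite P] (p : ℕ) [Fact p.Prime] (hP : IsPGroup p P) (hna : ¬ IsMulCommutative P) :
    (∀ χ ψ : Cfsg.IrrCharacter P, Cfsg.charDegree (χ : P → ℂ) ≠ 1 → Cfsg.charDegree (χ : P → ℂ) = Cfsg.charDegree (ψ : P → ℂ) → ∃ k : ℕ, Nat.Coprime k (Nat.card P) ∧ ∀ g : P, (ψ : P → ℂ) g = (χ : P → ℂ) (g ^ k)) ↔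
      (IsCyclic (Subgroup.center P) ∧ Nat.card (commutator P) = p) := by
  classical
  constructor
  · intro h
    have h' : GalUniq P := h
    have hne : commutator P ≠ ⊥ := fun e => hna ⟨⟨fun a b => commutatorElement_eq_one_iff_mul_comm.mp
      (Subgroup.mem_bot.mp (e ▸ Subgroup.commutator_mem_commutator trivial trivial))⟩⟩
    obtain ⟨M, hMn, hMle, hM⟩ := PGroup23.exists_normal_index_prime hP (commutator P) hne
    haveI := hMn
    have hMbot : M = ⊥ := by
      by_contra hM1
      obtain ⟨M', hM'n, hM'le, hM'⟩ := PGroup23.exists_normal_index_prime hP M hM1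
      haveI := hM'n
      refine not_order_sq (hP.to_quotient M') (galUniq_quot h' M') ?_
      have e : commutator (P ⧸ M') = (commutator P).map (QuotientGroup.mk' M') := by
        rw [commutator_def, commutator_def, Subgroup.map_commutator,
          Subgroup.map_top_of_surjective _ (QuotientGroup.mk'_surjective M')]
      have h2 := Basics.card_comap_mk' (N := M') ((commutator P).map (QuotientGroup.mk' M'))
      rw [Subgroup.comap_map_eq, QuotientGroup.ker_mk', sup_eq_left.mpr (hM'le.trans hMle), hM,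
        hM'] at h2
      rw [e]
      exact Nat.eq_of_mul_eq_mul_left Nat.card_pos (h2.symm.trans ((mul_assoc _ _ _).symm.trans (mul_comm _ _)))
    rw [hMbot, Subgroup.card_bot, mul_one] at hM
    exact ⟨center_cyclic hP hM h', hM⟩
  · rintro ⟨hcyc, hc⟩
    exact galUniq_of_cyclic hP hc hcyc

end Cfsg.Agent.S4845
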