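import Cfsg.Statements.S4850
import Cfsg.Agent.Lib.CT.SingularOrder.Main

set_option autoImplicit false
set_option linter.style.haveILetI false
open Cfsg

namespace Cfsg.Agent.S4850

open scoped commutatorElement

/-- Let p be a prime and G a finite solvable group whose vanishing elements (elements at which some irreducible character is zero) of order divisible by p all have the same order, with at least one such element. Let P be a Sylow p-subgroup of G. Then the derived subgroup of P is subnormal in G and the image of P in G/O_p(G) is cyclic. -/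
theorem result {G : Type*} [Group G] [Finite G] [hs : Group.IsSolvable G] (p : ℕ) [Fact p.Prime] (b : ℕ) (hvo : {n : ℕ | p ∣ n ∧ ∃ (g : G) (χ : Cfsg.IrrCharacter G), orderOf g = n ∧ (χ : G → ℂ) g = 0} = {b}) (P : Sylow p G) :
    ((commutator ↥(P : Subgroup G)).map (P : Subgroup G).subtype).IsSubnormal ∧ IsCyclic ↥((P : Subgroup G).map (QuotientGroup.mk' (Cfsg.pCore p G))) := by
  have hb : ∀ g : G, p ∣ orderOf g → SingularOrder.Van g → orderOf g = b := fun g hg hv => by
    obtain ⟨χ, hχ⟩ := hv
    have h : orderOf g ∈ ({b} : Set ℕ) := hvo ▸ ⟨hg, g, χ, rfl, hχ⟩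
    exact h
  set K := Cfsg.pCore p G with hK
  set Pb := (P : Subgroup G).map (QuotientGroup.mk' K) with hPb
  have hle : Nat.card Pb ≤ p := SingularOrder.card_sylow_map_le hb P
  obtain ⟨k, hk⟩ := (P.2.map (QuotientGroup.mk' K)).exists_card_eq
  have hk1 : k ≤ 1 := by
    rw [← hPb] at hk
    rw [hk] at hle
    exact (Nat.pow_le_pow_iff_right (Fact.out : p.Prime).one_lt).mp (hle.trans_eq (pow_one p).symm)
  have hcyc : IsCyclic Pb := by
    rcases Nat.le_one_iff_eq_zero_or_eq_one.mp hk1 with h | h
    · rw [h, pow_zero] at hk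
      haveI : Subsingleton Pb := (Nat.card_eq_one_iff_unique.mp hk).1
      infer_instance
    · rw [h, pow_one] at hk
      exact isCyclic_of_prime_card hk
  refine ⟨?_, hcyc⟩
  set D := (commutator ↥(P : Subgroup G)).map (P : Subgroup G).subtype with hD
  have hKP : K ≤ (P : Subgroup G) := Basics.pCore_le_sylow p P
  have hDK : D ≤ K := by
    rw [hD, Subgroup.map_subtype_commutator, Subgroup.commutator_le]
    intro a ha b hb'
    rw [← QuotientGroup.eq_one_iff, ← QuotientGroup.mk'_apply, map_commutatorElement,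
      commutatorElement_eq_one_iff_commute]
    haveI := hcyc
    exact congrArg Subtype.val (IsCyclic.commGroup.mul_comm
      (⟨_, Subgroup.mem_map_of_mem _ ha⟩ : Pb) ⟨_, Subgroup.mem_map_of_mem _ hb'⟩)
  refine Subgroup.IsSubnormal.trans hDK (Subgroup.Normal.isSubnormal ?_)
    (Subgroup.Normal.isSubnormal (Subgroup.sSup_normal _ fun N hN => hN.1))
  refine ⟨fun x hx g => Subgroup.mem_subgroupOf.mpr ?_⟩
  obtain ⟨c, hc, hcx⟩ := Subgroup.mem_subgroupOf.mp hx
  refine ⟨⟨g, hKP g.2⟩ * c * (⟨g, hKP g.2⟩ : (P : Subgroup G))⁻¹,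
    (inferInstance : (commutator ↥(P : Subgroup G)).Normal).conj_mem c hc _, ?_⟩
  simp only [map_mul, map_inv, hcx]
  rfl

end Cfsg.Agent.S4850
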