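import Cfsg.Statements.S4859
import Cfsg.Agent.Lib.CharFS.Basic

set_option autoImplicit false
open Cfsg

namespace Cfsg.Agent.S4859

/-- Let p be an odd prime, G a finite group and x an element of G whose order is a power of p (possibly 1) and whose centralizer has even order. Let y be a 2-element of the centralizer of x whose order is largest among the 2-elements of that centralizer. Then x * y is not a square in G, and some non-principal real-valued irreducible character of G does not vanish at x * y. -/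
theorem result {G : Type*} [Group G] [Finite G] (p : ℕ) [Fact p.Prime] (hp : p ≠ 2) (x : G) (hx : ∃ k : ℕ, orderOf x = p ^ k) (heven : Even (Nat.card (Subgroup.centralizer ({x} : Set G)))) (y : G) (hy : y ∈ Subgroup.centralizer ({x} : Set G)) (hy2 : ∃ k : ℕ, orderOf y = 2 ^ k) (hmax : ∀ z ∈ Subgroup.centralizer ({x} : Set G), (∃ k : ℕ, orderOf z = 2 ^ k) → orderOf z ≤ orderOf y) : (¬ ∃ u : G, u * u = x * y) ∧ ∃ χ : Cfsg.IrrCharacter G, ¬ ((χ : G → ℂ) = fun _ => (1 : ℂ)) ∧ (∀ g : G, ((χ : G → ℂ) g).im = 0) ∧ (χ : G → ℂ) (x * y) ≠ 0 := by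
  classical
  haveI := Fintype.ofFinite G
  obtain ⟨a, hxa⟩ := hx
  obtain ⟨b, hyb⟩ := hy2
  have hcomm : Commute x y := (Subgroup.mem_centralizer_singleton_iff.mp hy).symm
  have hb : b ≠ 0 := by
    intro e
    obtain ⟨t, ht⟩ := exists_prime_orderOf_dvd_card' 2 (even_iff_two_dvd.mp heven)
    have h := hmax (t : G) t.2 ⟨1, by rw [Subgroup.orderOf_coe, ht, pow_one]⟩
    rw [Subgroup.orderOf_coe, ht, hyb, e, pow_zero] at h
    omega
  have hpp : p.Prime := Fact.out
  have hcop : (orderOf x).Coprime (orderOf y) := by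
    rw [hxa, hyb]
    exact Nat.Coprime.pow a b ((Nat.coprime_primes hpp Nat.prime_two).mpr hp)
  have hnot : ¬ ∃ u : G, u * u = x * y := by
    rintro ⟨u, hu⟩
    -- u centralizes x
    have hu1 : Commute u (x * y) := by rw [← hu]; exact (Commute.refl u).mul_right (Commute.refl u)
    obtain ⟨m, hm⟩ := exists_pow_eq_self_of_coprime
      (show (2 ^ b).Coprime (orderOf x) by rw [← hyb]; exact hcop.symm)
    have hxy2 : (x * y) ^ 2 ^ b = x ^ 2 ^ b := by
      rw [hcomm.mul_pow, show y ^ 2 ^ b = 1 by rw [← hyb]; exact pow_orderOf_eq_one y, mul_one]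
    have hux : Commute u x := by
      rw [← hm, ← hxy2, ← pow_mul]
      exact hu1.pow_right _
    have ho : orderOf (x * y) = p ^ a * 2 ^ b := by
      rw [hcomm.orderOf_mul_eq_mul_orderOf_of_coprime hcop, hxa, hyb]
    have hu2 : orderOf (u ^ 2) = p ^ a * 2 ^ b := by rw [pow_two, hu, ho]
    have hev : 2 ∣ orderOf u :=
      (Dvd.dvd.mul_left (dvd_pow_self 2 hb) (p ^ a)).trans (hu2 ▸ orderOf_pow_dvd 2)
    have hou : orderOf u = p ^ a * 2 ^ (b + 1) := by
      have h := hu2
      rw [orderOf_pow' u two_ne_zero, Nat.gcd_eq_right hev] at h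
      rw [← Nat.div_mul_cancel hev, h, pow_succ, mul_assoc]
    have hz : orderOf (u ^ p ^ a) = 2 ^ (b + 1) := by
      rw [orderOf_pow' u (pow_ne_zero _ hpp.ne_zero), hou,
        Nat.gcd_eq_right (dvd_mul_right _ _), Nat.mul_div_cancel_left _ (pow_pos hpp.pos a)]
    have := hmax (u ^ p ^ a)
      (Subgroup.pow_mem _ (Subgroup.mem_centralizer_singleton_iff.mpr hux.eq) _) ⟨_, hz⟩
    rw [hz, hyb, pow_succ] at this
    have := Nat.two_pow_pos b
    omega
  refine ⟨hnot, ?_⟩
  have h := CharFS.card_sqrt (x * y)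
  haveI : IsEmpty {u : G // u * u = x * y} := ⟨fun u => hnot ⟨u, u.2⟩⟩
  rw [Nat.card_of_isEmpty, Nat.cast_zero, ← Finset.add_sum_erase _ _ (Finset.mem_univ (CT.trivIrr G))] at h
  obtain ⟨χ, hχ, hne⟩ : ∃ χ ∈ Finset.univ.erase (CT.trivIrr G),
      CharFS.ind (χ : G → ℂ) * (χ : G → ℂ) (x * y) ≠ 0 := by
    by_contra hh
    push Not at hh
    rw [Finset.sum_eq_zero hh, add_zero, CT.trivIrr_apply, mul_one] at h
    simp [CharFS.ind, Nat.card_eq_fintype_card] at h
  refine ⟨χ, fun e => Finset.ne_of_mem_erase hχ (Subtype.ext e),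
    CharFS.im_eq_zero_of_ind_ne_zero χ.2 (left_ne_zero_of_mul hne), right_ne_zero_of_mul hne⟩

end Cfsg.Agent.S4859
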