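import Cfsg.Statements.S4872
import Cfsg.Agent.Lib.CT.FixedParity
import Cfsg.Agent.Lib.CT.Degree
import Cfsg.Agent.Lib.CT.Clifford
import Cfsg.Agent.Lib.ClassSum.Vanish

set_option autoImplicit false
set_option linter.all false
open Cfsg

namespace Cfsg.Agent.S4872

open scoped ComplexConjugate
open Cfsg.Agent

universe u

theorem key {G : Type u} [Group G] [Fintype G] (N : Subgroup G) [N.Normal] [Fintype N]
    (h2 : IsPGroup 2 (G ⧸ N)) (φ : IrrCharacter N)
    (hdef : 2 ^ (Nat.card N).factorization 2 ∣ CT.deg (φ : N → ℂ))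
    (hconj : ∃ g : G, ∀ n n' : N, (n' : G) = g * (n : G) * g⁻¹ → (φ : N → ℂ) n' = conj ((φ : N → ℂ) n)) :
    ∃ χ : IrrCharacter G, CT.fsInd (χ : G → ℂ) = 1 ∧
      classInner (fun n : N => (χ : G → ℂ) n) (φ : N → ℂ) = 1 := by
  classical
  haveI : Fact (Nat.Prime 2) := ⟨Nat.prime_two⟩
  set φf : N → ℂ := (φ : N → ℂ) with hφf
  have hφ : IsIrrCharacter N φf := φ.2
  have hφc := CT.isCharacter_of_isIrr hφ
  obtain ⟨k, hk⟩ := h2.exists_card_eq
  rw [← Subgroup.index_eq_card] at hk
  obtain ⟨P⟩ : Nonempty (Sylow 2 G) := inferInstance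
  haveI := Fintype.ofFinite ↥(P : Subgroup G)
  set a := (Nat.card N).factorization 2
  obtain ⟨m, hm⟩ := hdef
  have hmodd : Odd m := by
    rw [Nat.odd_iff, ← Nat.two_dvd_ne_zero]
    intro h2m
    have h1 : 2 ^ (a + 1) ∣ Nat.card N := by
      refine dvd_trans ?_ (ClassSum.degree_dvd_card φ)
      rw [hm, pow_succ]
      exact mul_dvd_mul_left _ h2m
    have := (Nat.prime_two.pow_dvd_iff_le_factorization Nat.card_pos.ne').mp h1
    omega
  have hPcard : Nat.card P = 2 ^ a * 2 ^ k := by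
    rw [P.card_eq_multiplicity, ← pow_add, ← N.card_mul_index, hk,
      Nat.factorization_mul Nat.card_pos.ne' (pow_ne_zero _ two_ne_zero), Finsupp.add_apply,
      Nat.prime_two.factorization_pow, Finsupp.single_eq_same]
  have hzero : ∀ s : ↥(P : Subgroup G), s ≠ 1 → indFun N φf (s : G) = 0 := by
    intro s hs
    by_cases hsN : (s : G) ∈ N
    · rw [show (s : G) = ((⟨(s : G), hsN⟩ : N) : G) from rfl, CT.indFun_apply_normal]
      refine mul_eq_zero_of_right _ (Finset.sum_eq_zero fun g _ => ?_)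
      refine ClassSum.char_eq_zero_of_defZero Nat.prime_two φ (hd := ⟨m, hm⟩) ?_
      obtain ⟨j, hj⟩ := (IsPGroup.iff_orderOf.mp P.isPGroup') s
      have h2s : 2 ∣ orderOf (s : G) := by
        rw [Subgroup.orderOf_coe, hj]
        exact dvd_pow_self 2 fun h0 => hs (orderOf_eq_one_iff.mp (by rw [hj, h0, pow_zero]))
      rw [← Subgroup.orderOf_coe]
      first
        | exact h2s.trans (dvd_of_eq (orderOf_injective (MulAut.conj g).toMonoidHom (MulAut.conj g).injective (s : G)).symm)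
        | exact h2s.trans (dvd_of_eq ((orderOf_injective (MulAut.conj g⁻¹).toMonoidHom (MulAut.conj g⁻¹).injective (s : G)).symm.trans (congrArg orderOf (by simp))))
    · exact CT.indFun_eq_zero_of_not_mem N φf hsN
  have hIc : IsCharacter G (indFun N φf) := CT.isCharacter_indFun N hφc
  have he : ∀ χ : IrrCharacter G, ∃ e : ℕ, classInner (fun n : N => (χ : G → ℂ) n) φf = e := fun χ =>
    CT.classInner_character_nat (CT.isCharacter_restrict N (CT.isCharacter_of_isIrr χ.2)) hφc
  choose e he using he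
  have hd : ∀ χ : IrrCharacter G, ∃ d : ℕ,
      (Nat.card P : ℂ)⁻¹ * ∑ s : ↥(P : Subgroup G), (χ : G → ℂ) s = d := fun χ => by
    obtain ⟨d, hd⟩ := CT.classInner_character_nat
      (CT.isCharacter_restrict (P : Subgroup G) (CT.isCharacter_of_isIrr χ.2)) CT.isCharacter_one
    exact ⟨d, by rw [← hd]; simp [classInner]⟩
  choose d hd using hd
  have hsum : ∑ χ : IrrCharacter G, e χ * d χ = m := by
    have h0 : (Nat.card P : ℂ)⁻¹ * ∑ s : ↥(P : Subgroup G), indFun N φf s = (m : ℂ) := by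
      rw [Finset.sum_eq_single (1 : ↥(P : Subgroup G)) (fun s _ hs => hzero s hs) (by simp),
        OneMemClass.coe_one, CT.indFun_one_eval, CT.deg_eq hφc, hm, hk, hPcard]
      push_cast
      field_simp
    have h1 := CT.classFunction_eq_sum (CT.isClassFunction_of_isCharacter hIc)
    have h3 : ∀ χ : IrrCharacter G, classInner (indFun N φf) (χ : G → ℂ) = (e χ : ℂ) := fun χ => by
      rw [CT.frobenius_reciprocity N φf (CT.isClassFunction_of_isIrr χ.2), ← CT.classInner_conj_symm,
        he, map_natCast]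
    simp only [h3] at h1
    have h4 : (∑ χ : IrrCharacter G, (e χ : ℂ) * (d χ : ℂ)) = (m : ℂ) := by
      rw [← h0, h1, Finset.sum_congr rfl fun χ _ => by rw [← hd χ]]
      simp only [Finset.sum_apply, Pi.smul_apply, smul_eq_mul]
      rw [Finset.sum_comm, Finset.mul_sum]
      refine Finset.sum_congr rfl fun χ _ => ?_
      rw [← Finset.mul_sum]
      ring
    exact_mod_cast h4
  let inv : IrrCharacter G → IrrCharacter G := fun χ => ⟨fun g => conj ((χ : G → ℂ) g), CT.conj_irr χ.2⟩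
  have heinv : ∀ χ, e (inv χ) = e χ := by
    intro χ
    obtain ⟨g, hg⟩ := hconj
    have h1 : classInner (fun n : N => conj ((χ : G → ℂ) n)) φf =
        conj (classInner (fun n : N => (χ : G → ℂ) n) φf) := by
      rw [classInner, classInner, map_mul, map_inv₀, map_natCast, map_sum]
      congr 1
      refine Fintype.sum_equiv (MulAut.conjNormal g).toEquiv.symm _ _ fun n => ?_
      set n₀ : N := (MulAut.conjNormal g).toEquiv.symm n with hn₀
      have hn : n = MulAut.conjNormal g n₀ := ((MulAut.conjNormal g).apply_symm_apply n).symm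
      have hn' : (n : G) = g * (n₀ : G) * g⁻¹ := by rw [hn, MulAut.conjNormal_apply]
      rw [hg n₀ n hn', show (χ : G → ℂ) n = (χ : G → ℂ) n₀ by
        rw [hn']; exact CT.isClassFunction_of_isIrr χ.2 _ g, map_mul, Complex.conj_conj]
    have h2 := he (inv χ)
    change classInner (fun n : N => conj ((χ : G → ℂ) n)) φf = _ at h2
    rw [h1, he χ, map_natCast] at h2
    exact_mod_cast h2.symm
  have hdinv : ∀ χ, d (inv χ) = d χ := by
    intro χ
    have h2 := hd (inv χ)
    change (Nat.card P : ℂ)⁻¹ * ∑ s : ↥(P : Subgroup G), conj ((χ : G → ℂ) s) = _ at h2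
    rw [← map_sum] at h2
    have h3 := congrArg conj (hd χ)
    rw [map_mul, map_inv₀, map_natCast, map_natCast] at h3
    rw [h3] at h2
    exact_mod_cast h2.symm
  obtain ⟨χ, hfix, hodd⟩ : ∃ χ, inv χ = χ ∧ Odd (e χ * d χ) := by
    by_contra hcon
    push Not at hcon
    have hz : ∑ χ : IrrCharacter G, ((e χ * d χ : ℕ) : ZMod 2) = 0 := by
      refine Finset.sum_involution (fun χ _ => inv χ) (fun χ _ => ?_) (fun χ _ hne heq => hne ?_)
        (fun χ _ => Finset.mem_univ _) (fun χ _ => Subtype.ext (funext fun g => Complex.conj_conj _))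
      · rw [heinv, hdinv]
        exact CharTwo.add_self_eq_zero _
      · exact (ZMod.natCast_eq_zero_iff_even).mpr (Nat.not_odd_iff_even.mp (hcon χ heq))
    rw [← Nat.cast_sum, hsum, ZMod.natCast_eq_zero_iff_even] at hz
    exact Nat.not_odd_iff_even.mpr hz hmodd
  rw [Nat.odd_mul] at hodd
  have hreal : ∀ g, ((χ : G → ℂ) g).im = 0 := fun g =>
    Complex.conj_eq_iff_im.mp (congrFun (congrArg Subtype.val hfix) g)
  refine ⟨χ, ?_, ?_⟩
  · obtain ⟨hv, hz⟩ := CT.fsInd_irr χ.2
    rcases hv with h | h | h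
    · obtain ⟨s, hs⟩ := hz.mp h
      exact absurd (hreal s) hs
    · exact h
    · obtain ⟨d', hd', hdd⟩ := CT.even_fixed_of_fsInd_neg χ.2 h (P : Subgroup G)
      rw [hd χ] at hdd
      have : d χ = d' := by exact_mod_cast hdd
      exact absurd (this ▸ hd') (Nat.not_even_iff_odd.mpr hodd.2)
  · rw [he χ]
    have hne : classInner (fun n : N => (χ : G → ℂ) n) φf ≠ 0 := by
      rw [he χ, Nat.cast_ne_zero]
      exact Nat.pos_iff_ne_zero.mp hodd.1.pos
    obtain ⟨j, hj, hjd⟩ := CT.deg_ratio_dvd_index N χ.2 hφ hne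
    have hcl := CT.clifford_mult N χ.2 hφ hne
    have hmult : CT.mult (fun n : N => (χ : G → ℂ) n) φf = e χ := by
      have h5 := CT.mult_spec (CT.isCharacter_restrict N (CT.isCharacter_of_isIrr χ.2)) hφc
      rw [he χ] at h5
      exact_mod_cast h5.symm
    rw [hj, hmult] at hcl
    have hj' : j = e χ * (CT.inertia N φf).index := Nat.eq_of_mul_eq_mul_right (CT.deg_pos hφ) hcl
    have hdvd : e χ ∣ 2 ^ k := ((dvd_mul_right (e χ) (CT.inertia N φf).index).trans (dvd_of_eq hj'.symm)).trans (hk ▸ hjd)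
    obtain ⟨i, -, hi⟩ := (Nat.dvd_prime_pow Nat.prime_two).mp hdvd
    rcases Nat.eq_zero_or_pos i with rfl | hi0
    · rw [hi, pow_zero, Nat.cast_one]
    · exact absurd hodd.1 (Nat.not_odd_iff_even.mpr (hi ▸ (Nat.even_pow.mpr ⟨even_two, hi0.ne'⟩)))

/-- Let N be a normal subgroup of the finite group G with G/N a 2-group, and let φ be an irreducible complex character of N of 2-defect zero (the 2-part of #N divides φ(1)) whose complex conjugate is G-conjugate to φ. Then some irreducible character of G with Frobenius–Schur indicator +1 contains φ with multiplicity exactly one on restriction to N. -/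
theorem result {G : Type*} [Group G] [Finite G] (N : Subgroup G) [N.Normal] (h2 : IsPGroup 2 (G ⧸ N)) (φ : Cfsg.IrrCharacter ↥N) (hdef : 2 ^ (Nat.card ↥N).factorization 2 ∣ Cfsg.charDegree (φ : ↥N → ℂ)) (hconj : ∃ g : G, ∀ n n' : ↥N, (n' : G) = g * (n : G) * g⁻¹ → (φ : ↥N → ℂ) n' = (starRingEnd ℂ) ((φ : ↥N → ℂ) n)) : ∃ χ : Cfsg.IrrCharacter G, (Nat.card G : ℂ)⁻¹ * ∑ᶠ g : G, (χ : G → ℂ) (g * g) = 1 ∧ (Nat.card ↥N : ℂ)⁻¹ * ∑ᶠ n : ↥N, (χ : G → ℂ) n * (starRingEnd ℂ) ((φ : ↥N → ℂ) n) = 1 := by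
  classical
  haveI := Fintype.ofFinite G
  haveI := Fintype.ofFinite ↥N
  obtain ⟨χ, h1, h3⟩ := key N h2 φ hdef hconj
  refine ⟨χ, ?_, ?_⟩
  · rw [finsum_eq_sum_of_fintype]; exact h1
  · rw [finsum_eq_sum_of_fintype]; exact h3

end Cfsg.Agent.S4872
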