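import Cfsg.Statements.S4871
import Cfsg.Agent.S4872
import Cfsg.Agent.Lib.OddChar.AbelianQuotient
import Cfsg.Agent.Lib.CT.Kernel

set_option autoImplicit false
set_option linter.all false
open Cfsg

namespace Cfsg.Agent.S4871

open Cfsg.Agent
open scoped ComplexConjugate

universe u

theorem classInner_one_right {G : Type u} [Group G] [Fintype G] (f : G → ℂ) :
    classInner f (fun _ => (1 : ℂ)) = (Nat.card G : ℂ)⁻¹ * ∑ g : G, f g := by
  simp [classInner]

theorem central_inverts {G : Type u} [Group G] [Finite G] (N P : Subgroup G) [N.Normal]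
    (hN : ∀ a ∈ N, ∀ b ∈ N, a * b = b * a) (hP : IsPGroup 2 P) (hP1 : P ≠ ⊥) (hdisj : N ⊓ P = ⊥)
    (hprod : N ⊔ P = ⊤) (hmin : N ≠ ⊥ ∧ ∀ M : Subgroup G, M.Normal → M ≠ ⊥ → N ≤ M) :
    ∃ z : G, ∀ n ∈ N, z * n * z⁻¹ = n⁻¹ := by
  haveI : Fact (Nat.Prime 2) := ⟨Nat.prime_two⟩
  haveI : Nontrivial P := (Subgroup.nontrivial_iff_ne_bot P).mpr hP1
  haveI := hP.center_nontrivial
  obtain ⟨k, hk⟩ := IsPGroup.iff_card.mp (hP.to_subgroup (Subgroup.center P))
  have hk0 : k ≠ 0 := by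
    rintro rfl
    rw [pow_zero] at hk
    exact (Finite.one_lt_card (α := Subgroup.center P)).ne' hk
  obtain ⟨c, hc⟩ := exists_prime_orderOf_dvd_card' (G := Subgroup.center P) 2 (hk ▸ dvd_pow_self 2 hk0)
  set z : G := ((c : P) : G)
  have hzP : z ∈ P := (c : P).2
  have hz2 : orderOf z = 2 := by rw [← hc, Subgroup.orderOf_coe, Subgroup.orderOf_coe]
  have hzc : ∀ x ∈ P, x * z = z * x := fun x hx =>
    congrArg Subtype.val (Subgroup.mem_center_iff.mp c.2 ⟨x, hx⟩)
  -- no nontrivial element of N commutes with z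
  set C := N ⊓ Subgroup.centralizer ({z} : Set G) with hC
  haveI hCn : C.Normal := by
    refine ⟨fun n hn g => ?_⟩
    have hg : g ∈ N ⊔ P := hprod ▸ Subgroup.mem_top g
    rw [Subgroup.mem_sup_of_normal_left] at hg
    obtain ⟨m, hm, x, hx, rfl⟩ := hg
    have h1 : x * n * x⁻¹ ∈ C := by
      refine ⟨Subgroup.Normal.conj_mem inferInstance n hn.1 x, ?_⟩
      have h2 := Subgroup.mem_centralizer_singleton_iff.mp hn.2
      refine Subgroup.mem_centralizer_singleton_iff.mpr ?_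
      have h3 : Commute x z := hzc x hx
      calc x * n * x⁻¹ * z = x * (n * z) * x⁻¹ := by
            rw [mul_assoc, h3.inv_left.eq]; group
        _ = x * (z * n) * x⁻¹ := by rw [h2]
        _ = z * (x * n * x⁻¹) := by rw [← mul_assoc x z n, h3.eq]; group
    have h4 : m * x * n * (m * x)⁻¹ = x * n * x⁻¹ := by
      calc m * x * n * (m * x)⁻¹ = m * (x * n * x⁻¹) * m⁻¹ := by group
        _ = x * n * x⁻¹ := by rw [hN m hm _ h1.1, mul_inv_cancel_right]
    rw [h4]; exact h1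
  have hCbot : C = ⊥ := by
    by_contra hne
    have hle := hmin.2 C hCn hne
    set Z := Subgroup.zpowers z
    haveI : Z.Normal := ⟨fun y hy g => by
      obtain ⟨i, rfl⟩ := Subgroup.mem_zpowers_iff.mp hy
      have hg : g ∈ N ⊔ P := hprod ▸ Subgroup.mem_top g
      rw [Subgroup.mem_sup_of_normal_left] at hg
      obtain ⟨m, hm, x, hx, rfl⟩ := hg
      have h5 : Commute (m * x) z :=
        Commute.mul_left (Subgroup.mem_centralizer_singleton_iff.mp (hle hm).2) (hzc x hx)
      rw [(h5.zpow_right i).eq, mul_inv_cancel_right]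
      exact Subgroup.zpow_mem_zpowers z i⟩
    have hZ : Z ≠ ⊥ := by
      rw [Ne, Subgroup.zpowers_eq_bot]
      intro h
      rw [h, orderOf_one] at hz2
      exact absurd hz2 (by norm_num)
    have hNP : N ≤ P := (hmin.2 Z inferInstance hZ).trans (Subgroup.zpowers_le.mpr hzP)
    exact hmin.1 (by rwa [inf_eq_left.mpr hNP] at hdisj)
  refine ⟨z, fun n hn => ?_⟩
  have hzz : z * z = 1 := by rw [← sq, ← hz2]; exact pow_orderOf_eq_one z
  have hzinv : z⁻¹ = z := inv_eq_of_mul_eq_one_right hzz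
  have hcn : z * n * z⁻¹ ∈ N := Subgroup.Normal.conj_mem inferInstance n hn z
  have hmem : n * (z * n * z⁻¹) ∈ C := by
    refine ⟨N.mul_mem hn hcn, Subgroup.mem_centralizer_singleton_iff.mpr ?_⟩
    rw [hzinv] at hcn ⊢
    calc n * (z * n * z) * z = n * (z * n) * (z * z) := by group
      _ = n * (z * n) := by rw [hzz, mul_one]
      _ = (z * z) * (n * z * n) := by rw [hzz, one_mul, mul_assoc]
      _ = z * ((z * n * z) * n) := by group
      _ = z * (n * (z * n * z)) := by rw [hN _ hcn n hn]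
  rw [hCbot, Subgroup.mem_bot] at hmem
  exact eq_inv_of_mul_eq_one_right hmem

theorem fiber_le {G : Type u} [Group G] [Fintype G] (N : Subgroup G) [Fintype N] {θ : G → ℂ}
    (hθ : IsCharacter G θ) (F : Finset (IrrCharacter G))
    (hF1 : ∀ e ∈ F, classInner θ (e : G → ℂ) ≠ 0) (hF2 : ∀ e ∈ F, ∀ n : N, (e : G → ℂ) n = 1) :
    (F.card : ℝ) ≤ (classInner (fun n : N => θ n) (fun _ => (1 : ℂ))).re := by
  classical
  have hd : ∀ e : IrrCharacter G, ∃ k : ℕ, classInner (fun n : N => (e : G → ℂ) n) (fun _ => (1 : ℂ)) = k :=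
    fun e => CT.classInner_character_nat (CT.isCharacter_restrict N (CT.isCharacter_of_isIrr e.2)) CT.isCharacter_one
  choose k hk using hd
  have h1 : classInner (fun n : N => θ n) (fun _ => (1 : ℂ)) = ((∑ e : IrrCharacter G, CT.mult θ (e : G → ℂ) * k e : ℕ) : ℂ) := by
    have hdec := CT.character_eq_sum hθ
    have : (fun n : N => θ n) = ∑ e : IrrCharacter G, (CT.mult θ (e : G → ℂ) : ℂ) • fun n : N => (e : G → ℂ) n := by
      funext n
      have := congrFun hdec n
      rw [Finset.sum_apply] at this ⊢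
      exact this
    rw [this, CT.classInner_sum_left, Nat.cast_sum]
    refine Finset.sum_congr rfl fun e _ => ?_
    rw [CT.classInner_smul_left, hk, Nat.cast_mul]
  rw [h1, Complex.natCast_re, Nat.cast_le]
  refine le_trans ?_ (Finset.sum_le_sum_of_subset (f := fun e : IrrCharacter G => CT.mult θ (e : G → ℂ) * k e) (Finset.subset_univ F))
  rw [Finset.card_eq_sum_ones]
  refine Finset.sum_le_sum fun e he => Nat.one_le_iff_ne_zero.mpr (mul_ne_zero (fun h => hF1 e he ?_) ?_)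
  · rw [CT.mult_spec hθ (CT.isCharacter_of_isIrr e.2), h, Nat.cast_zero]
  · intro h0
    have h2 := hk e
    simp only [hF2 e he, h0] at h2
    rw [classInner_one_right] at h2
    simp at h2

theorem main {G : Type u} [Group G] [Fintype G] (N P : Subgroup G) [N.Normal] (q : ℕ) [Fact q.Prime]
    (hq : q ≠ 2) (hNel : IsElementaryAbelian q N) (hP : IsPGroup 2 P) (hP1 : P ≠ ⊥)
    (hdisj : N ⊓ P = ⊥) (hprod : N ⊔ P = ⊤)
    (hmin : N ≠ ⊥ ∧ ∀ M : Subgroup G, M.Normal → M ≠ ⊥ → N ≤ M) (S : Finset (IrrCharacter G))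
    (hS : ∀ χ, χ ∈ S ↔ (CT.deg (χ : G → ℂ) = 1 ∨ 2 ∣ CT.deg (χ : G → ℂ)) ∧ CT.fsInd (χ : G → ℂ) = 1) :
    4 * S.card ≤ 3 * ∑ χ ∈ S, CT.deg (χ : G → ℂ) := by
  classical
  haveI := Fintype.ofFinite N
  haveI : Fact (Nat.Prime 2) := ⟨Nat.prime_two⟩
  have hab : ∀ a ∈ N, ∀ b ∈ N, a * b = b * a := fun a ha b hb =>
    congrArg Subtype.val (hNel.1.is_comm.comm (⟨a, ha⟩ : N) ⟨b, hb⟩)
  obtain ⟨z, hz⟩ := central_inverts N P hab hP hP1 hdisj hprod hmin
  have hodd : Odd (Nat.card N) := by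
    rw [Nat.odd_iff, ← Nat.two_dvd_ne_zero]
    intro h2
    obtain ⟨x, hx⟩ := exists_prime_orderOf_dvd_card' 2 h2
    have h3 : orderOf x ∣ q := orderOf_dvd_of_pow_eq_one (Subtype.ext (by
      rw [SubmonoidClass.coe_pow, OneMemClass.coe_one]; exact hNel.2 x x.2))
    rw [hx] at h3
    exact hq ((Nat.prime_dvd_prime_iff_eq Nat.prime_two Fact.out).mp h3).symm
  have hQ : IsPGroup 2 (G ⧸ N) := by
    intro y
    obtain ⟨g, rfl⟩ := QuotientGroup.mk_surjective y
    have hg : g ∈ N ⊔ P := hprod ▸ Subgroup.mem_top g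
    rw [Subgroup.mem_sup_of_normal_left] at hg
    obtain ⟨n, hn, x, hx, rfl⟩ := hg
    obtain ⟨k, hk⟩ := hP ⟨x, hx⟩
    refine ⟨k, ?_⟩
    rw [QuotientGroup.mk_mul, (QuotientGroup.eq_one_iff n).mpr hn, one_mul, ← QuotientGroup.mk_pow,
      show x ^ 2 ^ k = 1 from congrArg Subtype.val hk, QuotientGroup.mk_one]
  haveI : Nontrivial N := (Subgroup.nontrivial_iff_ne_bot N).mpr hmin.1
  obtain ⟨φ, hφne⟩ : ∃ φ : IrrCharacter N, (φ : N → ℂ) ≠ fun _ => 1 := by
    by_contra hcon
    push Not at hcon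
    have h := CT.sum_degree_sq (G := N)
    haveI : Subsingleton (IrrCharacter N) := ⟨fun a b => Subtype.ext ((hcon a).trans (hcon b).symm)⟩
    have hle : Fintype.card (IrrCharacter N) ≤ 1 := Fintype.card_le_one_iff_subsingleton.mpr inferInstance
    simp only [hcon, one_pow, Finset.sum_const, Finset.card_univ, nsmul_eq_mul, mul_one] at h
    have h' : Fintype.card (IrrCharacter N) = Nat.card N := by exact_mod_cast h
    exact absurd (h' ▸ hle) (not_le.mpr Finite.one_lt_card)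
  have habN : ∀ a b : N, a * b = b * a := fun a b => Subtype.ext (hab a a.2 b b.2)
  have hφ1 := CT.irr_degree_one_of_comm habN φ.2
  have hφc := CT.isCharacter_of_isIrr φ.2
  have hdef : 2 ^ (Nat.card N).factorization 2 ∣ CT.deg (φ : N → ℂ) := by
    rw [Nat.factorization_eq_zero_of_not_dvd (Nat.two_dvd_ne_zero.mpr (Nat.odd_iff.mp hodd)), pow_zero]
    exact one_dvd _
  have hinv : ∀ n : N, CT.conjFun N z (φ : N → ℂ) n = conj ((φ : N → ℂ) n) := by
    intro n
    rw [← CT.char_inv_eq_conj hφc]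
    exact congrArg (φ : N → ℂ) (Subtype.ext (by rw [Subgroup.coe_inv]; exact hz n n.2))
  obtain ⟨χ, hχν, hχm⟩ := S4872.key N hQ φ hdef ⟨z, fun n n' hn => by
    rw [← hinv n]; exact congrArg (φ : N → ℂ) (Subtype.ext hn)⟩
  have hχc := CT.isCharacter_of_isIrr χ.2
  have hne : classInner (fun n : N => (χ : G → ℂ) n) (φ : N → ℂ) ≠ 0 := by rw [hχm]; exact one_ne_zero
  set d := CT.deg (χ : G → ℂ) with hd
  have hdinert : d = (CT.inertia N (φ : N → ℂ)).index := by
    have h := CT.clifford_mult N χ.2 φ.2 hne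
    have h1 : CT.mult (fun n : N => (χ : G → ℂ) n) (φ : N → ℂ) = 1 := by
      have := CT.mult_spec (CT.isCharacter_restrict N hχc) hφc
      rw [hχm] at this
      exact_mod_cast this.symm
    have h2 : CT.deg (φ : N → ℂ) = 1 := by
      have := CT.deg_eq hφc
      rw [hφ1] at this
      exact_mod_cast this.symm
    rw [hd, h, h1, h2, one_mul, mul_one]
  have hnorm : classInner (fun n : N => (χ : G → ℂ) n) (fun n : N => (χ : G → ℂ) n) = (d : ℂ) := by
    have h := CT.clifford N χ.2 φ.2 hne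
    rw [hχm, one_smul] at h
    conv_lhs => arg 2; rw [h]
    rw [CT.classInner_sum_right, hdinert, ← CT.card_conjOrbit, Finset.card_eq_sum_ones, Nat.cast_sum]
    refine Finset.sum_congr rfl fun ψ hψ => ?_
    obtain ⟨g, rfl⟩ := (CT.mem_conjOrbit N).mp hψ
    rw [CT.classInner_restrict_conjFun N (CT.isClassFunction_of_isIrr χ.2), hχm, Nat.cast_one]
  have hd2 : 2 ∣ d ∧ 2 ≤ d := by
    have h1 : d ≠ 1 := by
      rw [hdinert, Ne, Subgroup.index_eq_one]
      intro htop
      have hzi : CT.conjFun N z (φ : N → ℂ) = (φ : N → ℂ) :=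
        CT.mem_inertia N |>.mp (htop ▸ Subgroup.mem_top z)
      obtain ⟨lam, hlam⟩ := CT.exists_hom_of_degree_one hφc hφ1
      refine hφne (funext fun n => ?_)
      have h2 : lam n⁻¹ = lam n := Units.ext (by
        have := hinv n
        rw [hzi, ← CT.char_inv_eq_conj hφc, hlam] at this
        exact this.symm)
      rw [map_inv, inv_eq_iff_mul_eq_one] at h2
      have h3 : lam n ^ 2 = 1 := by rw [sq]; exact h2
      have h4 : lam n ^ Nat.card N = 1 := by rw [← map_pow, pow_card_eq_one', map_one]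
      obtain ⟨j, hj⟩ := hodd
      rw [hj, pow_succ, pow_mul, h3, one_pow, one_mul] at h4
      rw [hlam]; simp [h4]
    have h5 : d ∣ N.index := hdinert ▸ Subgroup.index_dvd_of_le (CT.le_inertia N (CT.isClassFunction_of_isIrr φ.2))
    obtain ⟨k, hk⟩ := hQ.exists_card_eq
    rw [← Subgroup.index_eq_card] at hk
    obtain ⟨i, -, hi⟩ := (Nat.dvd_prime_pow Nat.prime_two).mp (hk ▸ h5)
    have hi0 : i ≠ 0 := fun h => h1 (by rw [hi, h, pow_zero])
    rw [hi]
    exact ⟨dvd_pow_self 2 hi0, Nat.le_self_pow hi0 2⟩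
  -- the real linear characters
  let E : Finset (IrrCharacter G) := Finset.univ.filter fun e =>
    (e : G → ℂ) 1 = 1 ∧ ∀ g, (e : G → ℂ) g * (e : G → ℂ) g = 1
  let mulE : IrrCharacter G → IrrCharacter G := fun e =>
    if h : (e : G → ℂ) 1 = 1 then ⟨(χ : G → ℂ) * (e : G → ℂ),
      OddChar.isIrr_mul_linear χ.2 (CT.isCharacter_of_isIrr e.2) h⟩ else χ
  have hmulE : ∀ e ∈ E, (mulE e : G → ℂ) = (χ : G → ℂ) * (e : G → ℂ) := fun e he => by
    simp only [E, Finset.mem_filter] at he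
    simp only [mulE, dif_pos he.2.1]
  have heN : ∀ e ∈ E, ∀ n : N, (e : G → ℂ) n = 1 := by
    intro e he n
    simp only [E, Finset.mem_filter] at he
    obtain ⟨lam, hlam⟩ := CT.exists_hom_of_degree_one (CT.isCharacter_of_isIrr e.2) he.2.1
    rw [hlam]
    have h3 : lam (n : G) ^ 2 = 1 := Units.ext (by
      have := he.2.2 (n : G)
      rw [hlam] at this
      rw [Units.val_pow_eq_pow_val, sq]; exact this)
    have h4 : lam (n : G) ^ Nat.card N = 1 := by
      rw [← map_pow, ← SubmonoidClass.coe_pow, pow_card_eq_one', OneMemClass.coe_one, map_one]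
    obtain ⟨j, hj⟩ := hodd
    rw [hj, pow_succ, pow_mul, h3, one_pow, one_mul] at h4
    simp [h4]
  have hreal : ∀ g, conj ((χ : G → ℂ) g) = (χ : G → ℂ) g := fun g => by
    refine Complex.conj_eq_iff_im.mpr ?_
    by_contra hne'
    have := (CT.fsInd_irr χ.2).2.mpr ⟨g, hne'⟩
    rw [hχν] at this
    exact one_ne_zero this
  set O := E.image mulE with hO
  have hcard : E.card ≤ d * O.card := by
    refine Finset.card_le_mul_card_image E d fun ψ hψ => ?_
    obtain ⟨e0, he0, rfl⟩ := Finset.mem_image.mp hψ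
    have hθc : IsCharacter G ((mulE e0 : G → ℂ) * (χ : G → ℂ)) :=
      CT.isCharacter_mul (CT.isCharacter_of_isIrr (mulE e0).2) hχc
    have h := fiber_le N hθc (E.filter fun e => mulE e = mulE e0) (fun e he => ?_)
      (fun e he => heN e (Finset.mem_filter.mp he).1)
    · have h2 : classInner (fun n : N => ((mulE e0 : G → ℂ) * (χ : G → ℂ)) n) (fun _ => (1 : ℂ)) = (d : ℂ) := by
        rw [← hnorm]
        simp only [classInner, Pi.mul_apply, hmulE e0 he0, heN e0 he0, mul_one, map_one, hreal]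
      rw [h2, Complex.natCast_re, Nat.cast_le] at h
      exact h
    · obtain ⟨he, hee⟩ := Finset.mem_filter.mp he
      rw [← hee]
      have h2 : classInner ((mulE e : G → ℂ) * (χ : G → ℂ)) (e : G → ℂ) = 1 := by
        rw [← CT.irr_inner_self χ.2]
        simp only [classInner, Pi.mul_apply, hmulE e he, hreal]
        congr 1
        refine Finset.sum_congr rfl fun g _ => ?_
        have h3 : (e : G → ℂ) g * (e : G → ℂ) g = 1 := by
          simp only [E, Finset.mem_filter] at he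
          exact he.2.2 g
        have h4 : conj ((e : G → ℂ) g) = (e : G → ℂ) g := by
          rcases mul_self_eq_one_iff.mp h3 with h | h <;> simp [h]
        rw [h4]
        linear_combination ((χ : G → ℂ) g * (χ : G → ℂ) g) * h3
      rw [h2]; exact one_ne_zero
  have hOS : ∀ ψ ∈ O, ψ ∈ S ∧ CT.deg (ψ : G → ℂ) = d := by
    intro ψ hψ
    obtain ⟨e, he, rfl⟩ := Finset.mem_image.mp hψ
    have he' := he
    simp only [E, Finset.mem_filter] at he'
    have hdeg : CT.deg (mulE e : G → ℂ) = d := by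
      rw [hd]
      have h1 := CT.deg_eq (CT.isCharacter_of_isIrr (mulE e).2)
      rw [hmulE e he, Pi.mul_apply, he'.2.1, mul_one, CT.deg_eq hχc] at h1
      rw [hmulE e he]
      exact_mod_cast h1.symm
    refine ⟨(hS _).mpr ⟨Or.inr (hdeg ▸ hd2.1), ?_⟩, hdeg⟩
    rw [← hχν]
    simp only [CT.fsInd, hmulE e he, Pi.mul_apply]
    congr 1
    refine Finset.sum_congr rfl fun g _ => ?_
    obtain ⟨lam, hlam⟩ := CT.exists_hom_of_degree_one (CT.isCharacter_of_isIrr e.2) he'.2.1
    have h2 := he'.2.2 g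
    rw [hlam] at h2 ⊢
    simp only [map_mul, Units.val_mul]
    rw [h2, mul_one]
  -- split by degree
  set A := S.filter fun ψ : IrrCharacter G => CT.deg (ψ : G → ℂ) = 1
  set B := S.filter fun ψ : IrrCharacter G => ¬ CT.deg (ψ : G → ℂ) = 1
  have hA : A.card ≤ E.card := by
    refine Finset.card_le_card fun ψ hψ => ?_
    obtain ⟨hψS, hψ1⟩ := Finset.mem_filter.mp hψ
    have hψc := CT.isCharacter_of_isIrr ψ.2
    have h1 : (ψ : G → ℂ) 1 = 1 := by rw [CT.deg_eq hψc, hψ1, Nat.cast_one]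
    simp only [E, Finset.mem_filter, Finset.mem_univ, true_and]
    refine ⟨h1, ?_⟩
    have hsq := OddChar.isIrr_mul_linear ψ.2 hψc h1
    have h2 : classInner ((ψ : G → ℂ) * (ψ : G → ℂ)) (fun _ => (1 : ℂ)) = 1 := by
      rw [classInner_one_right, ← ((hS ψ).mp hψS).2]
      obtain ⟨lam, hlam⟩ := CT.exists_hom_of_degree_one hψc h1
      simp only [CT.fsInd, Pi.mul_apply, hlam, map_mul, Units.val_mul]
    intro g
    by_contra hne'
    rw [CT.irr_inner_of_ne hsq CT.isIrrCharacter_one (fun h => hne' (congrFun h g))] at h2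
    exact zero_ne_one h2
  have hOB : O ⊆ B := fun ψ hψ => Finset.mem_filter.mpr ⟨(hOS ψ hψ).1, by
    rw [(hOS ψ hψ).2]; omega⟩
  have hsum : ∑ ψ ∈ S, CT.deg (ψ : G → ℂ) = A.card + ∑ ψ ∈ B, CT.deg (ψ : G → ℂ) := by
    rw [← Finset.sum_filter_add_sum_filter_not S (fun ψ => CT.deg (ψ : G → ℂ) = 1),
      Finset.sum_congr rfl fun ψ hψ => (Finset.mem_filter.mp hψ).2, Finset.card_eq_sum_ones]
  have hcardS : S.card = A.card + B.card := (Finset.card_filter_add_card_filter_not _).symm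
  have hBsum : 4 * B.card + (d * O.card) ≤ 3 * ∑ ψ ∈ B, CT.deg (ψ : G → ℂ) := by
    rw [← Finset.sum_sdiff hOB, Finset.sum_congr rfl fun ψ hψ => (hOS ψ hψ).2, Finset.sum_const, smul_eq_mul,
      ← Finset.card_sdiff_add_card_eq_card hOB]
    have h1 : 2 * (B \ O).card ≤ ∑ ψ ∈ B \ O, CT.deg (ψ : G → ℂ) := by
      rw [mul_comm, ← smul_eq_mul, ← Finset.sum_const]
      refine Finset.sum_le_sum fun ψ hψ => ?_
      have hψ' := Finset.mem_filter.mp (Finset.mem_sdiff.mp hψ).1
      rcases ((hS ψ).mp hψ'.1).1 with h | h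
      · exact absurd h hψ'.2
      · exact Nat.le_of_dvd (CT.deg_pos ψ.2) h
    have h2 : 2 * O.card ≤ d * O.card := Nat.mul_le_mul_right _ hd2.2
    rw [mul_comm O.card d]
    omega
  rw [hcardS, hsum]
  omega

/-- Let G be a finite group that is the semidirect product of a normal elementary abelian subgroup N of odd order by a non-trivial 2-subgroup P, with N the unique minimal normal subgroup of G. Consider the strongly real irreducible complex characters of G (Frobenius–Schur indicator +1) whose degree is 1 or even. Then their average degree is at least 4/3: four times their number is at most three times the sum of their degrees. -/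
theorem result {G : Type*} [Group G] [Finite G] (N P : Subgroup G) (hN : N.Normal) (q : ℕ) [Fact q.Prime] (hq : q ≠ 2) (hNel : Cfsg.IsElementaryAbelian q N) (hP : IsPGroup 2 ↥P) (hP1 : P ≠ ⊥) (hdisj : N ⊓ P = ⊥) (hprod : N ⊔ P = ⊤) (hmin : N ≠ ⊥ ∧ ∀ M : Subgroup G, M.Normal → M ≠ ⊥ → N ≤ M) : 4 * Nat.card {χ : Cfsg.IrrCharacter G // (Cfsg.charDegree (χ : G → ℂ) = 1 ∨ 2 ∣ Cfsg.charDegree (χ : G → ℂ)) ∧ (Nat.card G : ℂ)⁻¹ * ∑ᶠ g : G, (χ : G → ℂ) (g * g) = 1} ≤ 3 * (∑ᶠ χ : {χ : Cfsg.IrrCharacter G // (Cfsg.charDegree (χ : G → ℂ) = 1 ∨ 2 ∣ Cfsg.charDegree (χ : G → ℂ)) ∧ (Nat.card G : ℂ)⁻¹ * ∑ᶠ g : G, (χ : G → ℂ) (g * g) = 1}, Cfsg.charDegree (χ.1 : G → ℂ)) := by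
  classical
  haveI := Fintype.ofFinite G
  haveI := hN
  let p : Cfsg.IrrCharacter G → Prop := fun χ => (Cfsg.charDegree (χ : G → ℂ) = 1 ∨ 2 ∣ Cfsg.charDegree (χ : G → ℂ)) ∧
    (Nat.card G : ℂ)⁻¹ * ∑ᶠ g : G, (χ : G → ℂ) (g * g) = 1
  have h := main N P q hq hNel hP hP1 hdisj hprod hmin (Finset.univ.filter p) (fun χ => by
    simp only [Finset.mem_filter, Finset.mem_univ, true_and, p, finsum_eq_sum_of_fintype]
    rfl)
  change 4 * Nat.card {χ // p χ} ≤ 3 * ∑ᶠ χ : {χ // p χ}, Cfsg.charDegree (χ.1 : G → ℂ)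
  rw [Nat.card_eq_fintype_card, Fintype.card_subtype, finsum_eq_sum_of_fintype,
    ← Finset.sum_subtype (Finset.univ.filter p) (fun χ => by simp) (fun χ => Cfsg.charDegree (χ : G → ℂ))]
  exact h

end Cfsg.Agent.S4871
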