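import Cfsg.Statements.S4873
import Cfsg.Agent.Lib.CT.Tables
import Cfsg.Agent.Lib.Blocks.Covering
import Cfsg.Agent.S4866

set_option autoImplicit false
set_option linter.all false
open Cfsg

namespace Cfsg.Agent.S4873

open Cfsg.Agent Cfsg.Agent.Blocks
open scoped ComplexConjugate

theorem mem_of_sq_mem {G : Type*} [Group G] {N : Subgroup G} [N.Normal] (hodd : Odd N.index)
    {x : G} (h : x * x ∈ N) : x ∈ N := by
  obtain ⟨k, hk⟩ := hodd
  have h1 : x ^ N.index ∈ N := N.pow_index_mem x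
  rw [hk, pow_succ, pow_mul, pow_two] at h1
  exact (N.mul_mem_cancel_left (N.pow_mem h k)).mp h1

/-- Indicators of the constituents of an induced character add up to the indicator. -/
theorem sum_ind {G : Type*} [Group G] [Fintype G] (N : Subgroup G) [N.Normal] [Fintype N]
    (hodd : Odd N.index) (φ : IrrCharacter N) :
    ∑ χ : IrrCharacter G, classInner (fun n : N => (χ : G → ℂ) n) (φ : N → ℂ) *
      CT.fsInd (χ : G → ℂ) = CT.fsInd (φ : N → ℂ) := by
  classical
  have hφc := CT.isCharacter_of_isIrr φ.2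
  have e : ∀ χ : IrrCharacter G, classInner (fun n : N => (χ : G → ℂ) n) (φ : N → ℂ) =
      classInner (indFun N (φ : N → ℂ)) (χ : G → ℂ) := fun χ => by
    rw [CT.frobenius_reciprocity N _ (CT.isClassFunction_of_isIrr χ.2),
      CT.classInner_comm_of_char hφc (CT.isCharacter_restrict N (CT.isCharacter_of_isIrr χ.2))]
  have h1 : CT.fsInd (indFun N (φ : N → ℂ)) = ∑ χ : IrrCharacter G,
      classInner (indFun N (φ : N → ℂ)) (χ : G → ℂ) * CT.fsInd (χ : G → ℂ) := by
    conv_lhs => rw [CT.classFunction_eq_sum (CT.isClassFunction_indFun N (φ : N → ℂ))]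
    simp only [CT.fsInd, Finset.sum_apply, Pi.smul_apply, smul_eq_mul, Finset.mul_sum]
    rw [Finset.sum_comm]
    exact Finset.sum_congr rfl fun χ _ => Finset.sum_congr rfl fun x _ => by ring
  simp only [e]
  rw [← h1]
  simp only [CT.fsInd, indFun, ← Finset.mul_sum]
  rw [Finset.sum_comm]
  have h2 : ∀ g : G, ∑ x : G, extendByZero N (φ : N → ℂ) (g⁻¹ * (x * x) * g) =
      ∑ n : N, (φ : N → ℂ) (n * n) := by
    intro g
    rw [← Equiv.sum_comp (MulAut.conj g).toEquiv]
    simp only [MulEquiv.toEquiv_eq_coe, EquivLike.coe_coe, MulAut.conj_apply]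
    rw [← Finset.sum_subset (Finset.subset_univ (Finset.univ.filter fun x => x ∈ N))
      (fun x _ hx => CT.extendByZero_not_mem N _ fun h => hx (Finset.mem_filter.mpr
        ⟨Finset.mem_univ x, mem_of_sq_mem hodd (by simpa [mul_assoc] using h)⟩)),
      Finset.sum_subtype (Finset.univ.filter fun x => x ∈ N) (p := fun x => x ∈ N) (by simp)]
    refine Finset.sum_congr rfl fun n _ => ?_
    rw [← CT.extendByZero_coe N (φ : N → ℂ) (n * n)]
    congr 1
    simp [mul_assoc]
  rw [Finset.sum_congr rfl fun g _ => h2 g, Finset.sum_const, Finset.card_univ, nsmul_eq_mul,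
    ← Nat.card_eq_fintype_card]
  rw [mul_left_comm ((Nat.card N : ℂ)⁻¹), inv_mul_cancel_left₀ CT.card_ne_zero]

theorem card_real_irr {G : Type*} [Group G] [Fintype G] :
    Nat.card {χ : IrrCharacter G // ∀ g, ((χ : G → ℂ) g).im = 0} =
      Nat.card {C : ConjClasses G // S4866.invCls C = C} := by
  let cj : Equiv.Perm (IrrCharacter G) :=
    Function.Involutive.toPerm (fun χ => ⟨fun k => conj ((χ : G → ℂ) k), CT.conj_irr χ.2⟩)
      (fun χ => Subtype.ext (funext fun k => Complex.conj_conj _))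
  rw [← CT.brauer_permutation cj S4866.invCls fun χ g g' h => ?_]
  · refine Nat.card_congr (Equiv.subtypeEquivRight fun χ => ⟨fun h => ?_, fun h k => ?_⟩)
    · exact Subtype.ext (funext fun k => Complex.conj_eq_iff_im.mpr (h k))
    · exact Complex.conj_eq_iff_im.mp (congrFun (congrArg Subtype.val h) k)
  · rw [CT.isClassFunction_isConj (CT.isClassFunction_of_isIrr (cj χ).2)
      (ConjClasses.mk_eq_mk_iff_isConj.mp h)]
    show conj ((χ : G → ℂ) g⁻¹) = _
    rw [← CT.char_inv_eq_conj (CT.isCharacter_of_isIrr χ.2), inv_inv]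

theorem card_real_classes {G : Type*} [Group G] [Finite G] (N : Subgroup G) [N.Normal]
    (hodd : Odd N.index) :
    Nat.card (Quot (fun x y : {x : N // IsConj x x⁻¹} => ∃ g : G, (y.1 : G) = g * x.1 * g⁻¹)) =
      Nat.card {C : ConjClasses G // S4866.invCls C = C} := by
  refine Nat.card_eq_of_bijective (Quot.lift (fun x : {x : N // IsConj x x⁻¹} =>
    (⟨ConjClasses.mk (x.1 : G), ?_⟩ : {C : ConjClasses G // S4866.invCls C = C})) ?_) ⟨?_, ?_⟩
  · exact ConjClasses.mk_eq_mk_iff_isConj.mpr (N.subtype.map_isConj x.2).symm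
  · rintro x y ⟨g, hg⟩
    exact Subtype.ext (ConjClasses.mk_eq_mk_iff_isConj.mpr (isConj_iff.mpr ⟨g, hg.symm⟩))
  · intro a b
    induction a using Quot.ind with
    | mk x =>
      induction b using Quot.ind with
      | mk y =>
        intro h
        obtain ⟨g, hg⟩ := isConj_iff.mp
          (ConjClasses.mk_eq_mk_iff_isConj.mp (congrArg Subtype.val h))
        exact Quot.sound ⟨g, hg.symm⟩
  · intro C
    obtain ⟨z, hz⟩ := ConjClasses.mk_surjective C.1
    have hr : IsConj z z⁻¹ := by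
      have h := C.2
      rw [← hz] at h
      exact (ConjClasses.mk_eq_mk_iff_isConj.mp h).symm
    obtain ⟨g, hg⟩ := isConj_iff.mp hr
    obtain ⟨k, hk⟩ := hodd
    have hgg : g * g * z * (g * g)⁻¹ = z := by
      rw [show g * g * z * (g * g)⁻¹ = g * (g * z * g⁻¹) * g⁻¹ by group, hg, ← conj_inv, hg, inv_inv]
    have hpow : ∀ j : ℕ, g ^ (2 * j + 1) * z * (g ^ (2 * j + 1))⁻¹ = z⁻¹ := by
      intro j
      induction j with
      | zero => simpa using hg
      | succ j ih =>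
        rw [show 2 * (j + 1) + 1 = 2 * j + 1 + 2 by ring, pow_add, pow_two,
          show g ^ (2 * j + 1) * (g * g) * z * (g ^ (2 * j + 1) * (g * g))⁻¹ =
            g ^ (2 * j + 1) * (g * g * z * (g * g)⁻¹) * (g ^ (2 * j + 1))⁻¹ by group, hgg, ih]
    have hu : g ^ N.index ∈ N := N.pow_index_mem g
    have hinv : g ^ N.index * z * (g ^ N.index)⁻¹ = z⁻¹ := by rw [hk]; exact hpow k
    have hzN : z ∈ N := by
      refine mem_of_sq_mem ⟨k, hk⟩ ?_
      rw [show z * z = (z * g ^ N.index * z⁻¹) * (g ^ N.index)⁻¹ by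
        have := congrArg (fun t => t⁻¹) hinv
        simp only [mul_inv_rev, inv_inv] at this
        rw [mul_assoc _ z⁻¹]
        nth_rewrite 2 [← this]
        group]
      exact N.mul_mem (‹N.Normal›.conj_mem _ hu z) (N.inv_mem hu)
    refine ⟨Quot.mk _ ⟨⟨z, hzN⟩, isConj_iff.mpr ⟨⟨_, hu⟩, Subtype.ext hinv⟩⟩, Subtype.ext hz⟩

/-- Over each real irreducible character of an odd index normal subgroup lies at most one real one. -/
theorem real_over_unique {G : Type*} [Group G] [Fintype G] (N : Subgroup G) [N.Normal] [Fintype N]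
    (hodd : Odd N.index) (φ : IrrCharacter N) (hφ : ∀ n, ((φ : N → ℂ) n).im = 0)
    (χ χ' : IrrCharacter G) (h : ∀ g, ((χ : G → ℂ) g).im = 0) (h' : ∀ g, ((χ' : G → ℂ) g).im = 0)
    (hc : classInner (fun n : N => (χ : G → ℂ) n) (φ : N → ℂ) ≠ 0)
    (hc' : classInner (fun n : N => (χ' : G → ℂ) n) (φ : N → ℂ) ≠ 0) : χ = χ' := by
  classical
  let A := {χ : IrrCharacter G // ∀ g, ((χ : G → ℂ) g).im = 0}
  let X := {θ : IrrCharacter N // ∀ n, ((θ : N → ℂ) n).im = 0}
  let r : X → X → Prop := fun θ η => ∃ g : G, ∀ k k' : N, (k' : G) = g * (k : G) * g⁻¹ →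
      (η.1 : N → ℂ) k' = (θ.1 : N → ℂ) k
  have hrel : ∀ (ξ : IrrCharacter G) (θ η : X),
      classInner (fun n : N => (ξ : G → ℂ) n) (θ.1 : N → ℂ) ≠ 0 →
      classInner (fun n : N => (ξ : G → ℂ) n) (η.1 : N → ℂ) ≠ 0 →
      Quot.mk r θ = Quot.mk r η := by
    intro ξ θ η h1 h2
    obtain ⟨g, hg⟩ := CT.exists_conj_of_constituent N ξ.2 θ.1.2 η.1.2 h1 h2
    refine Quot.sound ⟨g⁻¹, fun k k' hk => ?_⟩
    rw [← hg, CT.conjFun]
    refine congrArg _ (Subtype.ext ?_)
    show g * (k' : G) * g⁻¹ = k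
    rw [hk]; group
  have hex : ∀ θ : X, ∃ ξ : A, classInner (fun n : N => (ξ.1 : G → ℂ) n) (θ.1 : N → ℂ) ≠ 0 := by
    intro θ
    have hne : CT.fsInd (θ.1 : N → ℂ) ≠ 0 := fun e => by
      obtain ⟨s, hs⟩ := (CT.fsInd_irr θ.1.2).2.mp e
      exact hs (θ.2 s)
    rw [← sum_ind N hodd θ.1] at hne
    obtain ⟨ξ, -, hξ⟩ := Finset.exists_ne_zero_of_sum_ne_zero hne
    refine ⟨⟨ξ, fun g => ?_⟩, left_ne_zero_of_mul hξ⟩
    by_contra hg
    exact right_ne_zero_of_mul hξ ((CT.fsInd_irr ξ.2).2.mpr ⟨g, hg⟩)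
  choose s hs using hex
  have hinj : Function.Injective fun q : Quot r => s q.out := by
    intro q q' e
    simp only at e
    have := hrel (s q.out).1 q.out q'.out (hs _) (by rw [e]; exact hs _)
    rwa [Quot.out_eq, Quot.out_eq] at this
  have hcard : Nat.card A ≤ Nat.card (Quot r) := by
    rw [card_real_irr, ← card_real_classes N hodd, ← S4866.result N hodd]
  have hsurj := (hinj.bijective_of_nat_card_le hcard).2
  have key : ∀ ξ : A, classInner (fun n : N => (ξ.1 : G → ℂ) n) (φ : N → ℂ) ≠ 0 →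
      ξ = s (Quot.mk r ⟨φ, hφ⟩).out := by
    intro ξ hξ
    obtain ⟨q, rfl⟩ := hsurj ξ
    have := hrel (s q.out).1 q.out ⟨φ, hφ⟩ (hs _) hξ
    rw [Quot.out_eq] at this
    simp only [this]
  exact congrArg Subtype.val ((key ⟨χ, h⟩ hc).trans (key ⟨χ', h'⟩ hc').symm)

/-- Let N be a normal subgroup of odd index in the finite group G. Then every irreducible complex character of N with Frobenius–Schur indicator +1 lies under exactly one irreducible character of G with Frobenius–Schur indicator +1. -/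
theorem result {G : Type*} [Group G] [Finite G] (N : Subgroup G) [N.Normal] (hodd : Odd N.index) (φ : Cfsg.IrrCharacter ↥N) (hφ : (Nat.card ↥N : ℂ)⁻¹ * ∑ᶠ g : ↥N, (φ : ↥N → ℂ) (g * g) = 1) : ∃! χ : Cfsg.IrrCharacter G, (Nat.card G : ℂ)⁻¹ * ∑ᶠ g : G, (χ : G → ℂ) (g * g) = 1 ∧ (∑ᶠ n : ↥N, (χ : G → ℂ) n * (starRingEnd ℂ) ((φ : ↥N → ℂ) n)) ≠ 0 := by
  classical
  haveI := Fintype.ofFinite G
  haveI := Fintype.ofFinite N
  have hfin : ∀ χ : IrrCharacter G, (∑ᶠ n : N, (χ : G → ℂ) n * conj ((φ : N → ℂ) n)) ≠ 0 ↔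
      classInner (fun n : N => (χ : G → ℂ) n) (φ : N → ℂ) ≠ 0 := by
    intro χ
    rw [finsum_eq_sum_of_fintype, classInner]
    simp [CT.card_ne_zero]
  have hind : CT.fsInd (φ : N → ℂ) = 1 := by
    rw [CT.fsInd, ← finsum_eq_sum_of_fintype]
    exact hφ
  have hreal : ∀ n, ((φ : N → ℂ) n).im = 0 := by
    by_contra hn
    push Not at hn
    rw [(CT.fsInd_irr φ.2).2.mpr hn] at hind
    exact zero_ne_one hind
  have hs := sum_ind N hodd φ
  rw [hind] at hs
  have hne : ∑ χ : IrrCharacter G, classInner (fun n : N => (χ : G → ℂ) n) (φ : N → ℂ) *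
      CT.fsInd (χ : G → ℂ) ≠ 0 := by rw [hs]; exact one_ne_zero
  obtain ⟨χ₀, -, h₀⟩ := Finset.exists_ne_zero_of_sum_ne_zero hne
  have hr0 : ∀ g, ((χ₀ : G → ℂ) g).im = 0 := fun g => by
    by_contra hg
    exact right_ne_zero_of_mul h₀ ((CT.fsInd_irr χ₀.2).2.mpr ⟨g, hg⟩)
  rw [Finset.sum_eq_single χ₀ (fun χ _ hχ => ?_) (by simp)] at hs
  · obtain ⟨m, hm⟩ := CT.classInner_character_nat
      (CT.isCharacter_restrict N (CT.isCharacter_of_isIrr χ₀.2)) (CT.isCharacter_of_isIrr φ.2)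
    have h1 : CT.fsInd (χ₀ : G → ℂ) = 1 := by
      rcases (CT.fsInd_irr χ₀.2).1 with h | h | h
      · exact absurd h (right_ne_zero_of_mul h₀)
      · exact h
      · exfalso
        rw [hm, h] at hs
        have := congrArg Complex.re hs
        simp at this
        linarith [Nat.cast_nonneg (α := ℝ) m]
    refine ⟨χ₀, ⟨?_, (hfin χ₀).mpr (left_ne_zero_of_mul h₀)⟩, fun χ hχ => ?_⟩
    · rw [finsum_eq_sum_of_fintype]; exact h1
    · refine real_over_unique N hodd φ hreal χ χ₀ (fun g => ?_) hr0 ((hfin χ).mp hχ.2)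
        (left_ne_zero_of_mul h₀)
      by_contra hg
      have h2 := hχ.1
      rw [finsum_eq_sum_of_fintype] at h2
      exact one_ne_zero (h2.symm.trans ((CT.fsInd_irr χ.2).2.mpr ⟨g, hg⟩))
  · by_contra hne'
    refine hχ (real_over_unique N hodd φ hreal χ χ₀ (fun g => ?_) hr0 (left_ne_zero_of_mul hne')
      (left_ne_zero_of_mul h₀))
    by_contra hg
    exact right_ne_zero_of_mul hne' ((CT.fsInd_irr χ.2).2.mpr ⟨g, hg⟩)

end Cfsg.Agent.S4873
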