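import Cfsg.Statements.S4885
import Cfsg.Agent.Lib.CT.ItoMichlerPSolv
import Cfsg.Agent.Lib.Blocks.PrincipalHeight
import Cfsg.Agent.Lib.Blocks.OneBlock
import Cfsg.Agent.Lib.Blocks.Inflation
import Cfsg.Agent.Lib.Blocks.Normal
import Cfsg.Agent.Lib.Transfer.Constrained
import Cfsg.Agent.Lib.Transfer.SL2Props
import Cfsg.Agent.Lib.Transfer.Tate
import Cfsg.Agent.Lib.Basics.Frattini

set_option autoImplicit false
set_option linter.all false
open Cfsg

namespace Cfsg.Agent.S4885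

open Cfsg.Agent.CT
open scoped commutatorElement

universe u

variable {G : Type u} [Group G] [Finite G] {p : ℕ} [Fact p.Prime]

/-- A normal subgroup killed by the characters of degree prime to `p` in the principal block meets
a Sylow subgroup inside its derived subgroup. -/
theorem inf_le_derived {M : Ideal Cfsg.AlgInt} (hM : Cfsg.IsPModular p M)
    (hps : Cfsg.IsPSolvable p G) (P : Sylow p G) (K : Subgroup G)
    (hK : ∀ χ : Cfsg.IrrCharacter G, χ ∈ Cfsg.principalBlock M G →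
      ¬ p ∣ Cfsg.charDegree (χ : G → ℂ) → ∀ k ∈ K, (χ : G → ℂ) k = (χ : G → ℂ) 1) :
    (P : Subgroup G) ⊓ K ≤ (commutator ↥(P : Subgroup G)).map (P : Subgroup G).subtype := by
  classical
  haveI := Cfsg.Agent.Blocks.isPrime_of_modular hM
  haveI := Fintype.ofFinite G
  haveI : (Cfsg.pPrimeCore p G).Normal := Cfsg.Agent.Basics.pPrimeCore_normal p
  let mk := QuotientGroup.mk' (Cfsg.pPrimeCore p G)
  have hmk : Function.Surjective mk := QuotientGroup.mk'_surjective _
  haveI := Fintype.ofFinite (G ⧸ Cfsg.pPrimeCore p G)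
  let Pb : Sylow p (G ⧸ Cfsg.pPrimeCore p G) := P.mapSurjective hmk
  haveI := Fintype.ofFinite (Pb : Subgroup (G ⧸ Cfsg.pPrimeCore p G))
  have hs : Cfsg.IsPSolvable p (G ⧸ Cfsg.pPrimeCore p G) :=
    Cfsg.Agent.Coprime23.isPSolvable_map mk hmk hps
  have hC := Cfsg.Agent.Transfer.centralizer_pCore_le_of_pSolvable
      (Cfsg.Agent.Basics.pPrimeCore_quotient_eq_bot p)
      (Cfsg.Agent.Transfer.isPSolvable_subgroup' hs _)
  rintro x ⟨hxP, hxK⟩
  by_contra hnot
  let xb : ↥(Pb : Subgroup (G ⧸ Cfsg.pPrimeCore p G)) := ⟨mk x, x, hxP, rfl⟩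
  have hxb : xb ∉ commutator ↥(Pb : Subgroup (G ⧸ Cfsg.pPrimeCore p G)) := by
    intro hmem
    let f : ↥(P : Subgroup G) →* ↥(Pb : Subgroup (G ⧸ Cfsg.pPrimeCore p G)) :=
      mk.subgroupMap (P : Subgroup G)
    have hf : Function.Surjective f := mk.subgroupMap_surjective _
    have hinj : Function.Injective f := by
      rw [injective_iff_map_eq_one]
      intro a ha
      have h1 : (a : G) ∈ Cfsg.pPrimeCore p G := (QuotientGroup.eq_one_iff _).mp (congrArg Subtype.val ha)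
      obtain ⟨n, hn⟩ := IsPGroup.iff_orderOf.mp P.2 a
      rcases Nat.eq_zero_or_pos n with rfl | hpos
      · simpa using hn
      · refine absurd ?_ (Cfsg.Agent.Basics.not_dvd_card_pPrimeCore (G := G) p)
        refine ((dvd_pow_self p hpos.ne').trans (dvd_of_eq hn.symm)).trans ?_
        rw [← Subgroup.orderOf_coe]
        exact Subgroup.orderOf_dvd_natCard _ h1
    have himg : (commutator ↥(P : Subgroup G)).map f =
        commutator ↥(Pb : Subgroup (G ⧸ Cfsg.pPrimeCore p G)) := by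
      rw [commutator_def, commutator_def, Subgroup.map_commutator,
        Subgroup.map_top_of_surjective f hf]
    rw [← himg] at hmem
    obtain ⟨y, hy, hyx⟩ := hmem
    have e : y = ⟨x, hxP⟩ := hinj hyx
    exact hnot ⟨y, hy, congrArg Subtype.val e⟩
  let A := ↥(Pb : Subgroup (G ⧸ Cfsg.pPrimeCore p G)) ⧸
    commutator ↥(Pb : Subgroup (G ⧸ Cfsg.pPrimeCore p G))
  have h1 : ¬ IsConj (QuotientGroup.mk xb : A) 1 := by
    rw [isConj_one_left, QuotientGroup.eq_one_iff]
    exact hxb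
  haveI := Fintype.ofFinite A
  rw [isConj_iff_forall_irr] at h1
  push Not at h1
  obtain ⟨ψ, hψ⟩ := h1
  have hψ1 : (ψ : A → ℂ) 1 = 1 := irr_degree_one_of_comm (fun a b => by
    obtain ⟨a, rfl⟩ := QuotientGroup.mk_surjective a
    obtain ⟨b, rfl⟩ := QuotientGroup.mk_surjective b
    refine QuotientGroup.eq.mpr ?_
    have hc : ⁅b⁻¹, a⁻¹⁆ ∈ commutator ↥(Pb : Subgroup (G ⧸ Cfsg.pPrimeCore p G)) :=
      Subgroup.commutator_mem_commutator (Subgroup.mem_top _) (Subgroup.mem_top _)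
    simpa [commutatorElement_def, mul_assoc] using hc) ψ.2
  have hlin : Cfsg.IsIrrCharacter ↥(Pb : Subgroup (G ⧸ Cfsg.pPrimeCore p G))
      (fun y => (ψ : A → ℂ) (QuotientGroup.mk y)) := isIrr_inflate _ ψ.2 (fun g => rfl)
  obtain ⟨lam, hlam⟩ := exists_hom_of_degree_one (isCharacter_of_isIrr hlin) hψ1
  -- a constituent of degree prime to `p` of the induced character
  have hi := isCharacter_indFun (Pb : Subgroup (G ⧸ Cfsg.pPrimeCore p G)) (isCharacter_of_isIrr hlin)
  have h := congrFun (character_eq_sum hi) 1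
  rw [indFun_one_eval, show (ψ : A → ℂ) (QuotientGroup.mk 1) = 1 from hψ1,
    mul_one, Finset.sum_apply] at h
  simp only [Pi.smul_apply, smul_eq_mul] at h
  rw [Finset.sum_congr rfl fun c _ => by rw [deg_eq (isCharacter_of_isIrr c.2)]] at h
  simp only [← Nat.cast_mul, ← Nat.cast_sum] at h
  have h' := Nat.cast_injective h
  obtain ⟨χ, -, hχ⟩ : ∃ χ ∈ (Finset.univ : Finset (Cfsg.IrrCharacter (G ⧸ Cfsg.pPrimeCore p G))),
      ¬ p ∣ mult (Cfsg.indFun (Pb : Subgroup (G ⧸ Cfsg.pPrimeCore p G))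
        (fun y => (ψ : A → ℂ) (QuotientGroup.mk y))) χ * deg (χ : G ⧸ Cfsg.pPrimeCore p G → ℂ) := by
    by_contra hh
    push Not at hh
    exact Pb.not_dvd_index (h' ▸ Finset.dvd_sum hh)
  have hdeg : ¬ p ∣ deg (χ : G ⧸ Cfsg.pPrimeCore p G → ℂ) := fun hd => hχ (hd.mul_left _)
  have hin : Cfsg.classInner (fun y : ↥(Pb : Subgroup (G ⧸ Cfsg.pPrimeCore p G)) =>
      (χ : G ⧸ Cfsg.pPrimeCore p G → ℂ) y)
      (fun y => (ψ : A → ℂ) (QuotientGroup.mk y)) ≠ 0 := by
    intro h0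
    apply hχ
    have h1 := mult_spec hi (isCharacter_of_isIrr χ.2)
    rw [frobenius_reciprocity _ _ (isClassFunction_of_isIrr χ.2),
      classInner_comm_of_char (isCharacter_of_isIrr hlin)
        (isCharacter_restrict _ (isCharacter_of_isIrr χ.2)), h0] at h1
    rw [show mult _ _ = 0 by exact_mod_cast h1.symm, zero_mul]
    exact dvd_zero p
  have hker : (χ : G ⧸ Cfsg.pPrimeCore p G → ℂ) (mk x) = (χ : G ⧸ Cfsg.pPrimeCore p G → ℂ) 1 := by
    have hmem := Cfsg.Agent.Blocks.sameBlock_inflIrr (G := G)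
      (Cfsg.Agent.Blocks.sameBlock_of_centralizer_le hM _
        (Cfsg.Agent.Basics.pCore_isPGroup p) hC (trivIrr _) χ)
    exact hK (Cfsg.Agent.Blocks.inflIrr χ) hmem hdeg x hxK
  have hmul : ∀ y, (χ : G ⧸ Cfsg.pPrimeCore p G → ℂ) (y * mk x) =
      (χ : G ⧸ Cfsg.pPrimeCore p G → ℂ) y := by
    obtain ⟨n, ρ, hρ, hρχ⟩ := χ.2
    rw [← hρχ] at hker ⊢
    intro y
    simp only [Representation.character, map_mul, (rep_eq_one_iff ρ _).mpr hker, mul_one]
  apply hψ
  show (ψ : A → ℂ) (QuotientGroup.mk xb) = (ψ : A → ℂ) 1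
  rw [hψ1]
  set F := fun y : ↥(Pb : Subgroup (G ⧸ Cfsg.pPrimeCore p G)) =>
    (χ : G ⧸ Cfsg.pPrimeCore p G → ℂ) y with hF
  have hshift : Cfsg.classInner F (fun y => (ψ : A → ℂ) (QuotientGroup.mk y)) =
      (starRingEnd ℂ) ((lam xb : ℂˣ) : ℂ) *
        Cfsg.classInner F (fun y => (ψ : A → ℂ) (QuotientGroup.mk y)) := by
    simp only [Cfsg.classInner]
    rw [mul_left_comm ((starRingEnd ℂ) ((lam xb : ℂˣ) : ℂ))]
    congr 1
    rw [Finset.mul_sum]
    refine (Equiv.sum_comp (Equiv.mulRight xb) _).symm.trans (Finset.sum_congr rfl fun y _ => ?_)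
    simp only [Equiv.coe_mulRight, hF]
    rw [show (((y * xb : _) : G ⧸ Cfsg.pPrimeCore p G)) = (y : G ⧸ Cfsg.pPrimeCore p G) * mk x
      from rfl, hmul]
    have e := fun z => congrFun hlam z
    rw [e, e, map_mul, Units.val_mul, map_mul]
    ring
  have h3 : (starRingEnd ℂ) ((lam xb : ℂˣ) : ℂ) = 1 :=
    mul_right_cancel₀ hin (by rw [one_mul]; exact hshift.symm)
  have h4 := congrArg (starRingEnd ℂ) h3
  rw [Complex.conj_conj, map_one] at h4
  rw [← h4]
  exact congrFun hlam xb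

/-- A normal subgroup whose Sylow subgroups lie in the derived group of a Sylow subgroup of `G`
has a normal complement in `O_{p'}(G)`. -/
theorem normal_le_sup (P : Sylow p G) (Y : Subgroup G) [Y.Normal]
    (hY : Y ⊓ (P : Subgroup G) ≤ (commutator ↥(P : Subgroup G)).map (P : Subgroup G).subtype) :
    ∀ y ∈ Y, ¬ p ∣ orderOf y → y ∈ Cfsg.pPrimeCore p G := by
  intro y hy hyp
  haveI : Group.IsNilpotent ↥(P : Subgroup G) := P.2.isNilpotent
  obtain ⟨P1, L1, hL1n, hL1c⟩ := Cfsg.Agent.Transfer.hasNormalPComplement_of_le_frattini P Y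
    (hY.trans (Subgroup.map_mono Cfsg.Agent.Basics.commutator_le_frattini))
  haveI := hL1n
  have hL1p : ¬ p ∣ Nat.card L1 := by
    rw [← hL1c.index_eq_card]
    exact P1.not_dvd_index
  have hmem : ∀ h : Y, ¬ p ∣ orderOf h → h ∈ L1 := by
    intro h hh
    obtain ⟨m, hm⟩ := IsPGroup.iff_card.mp P1.2
    have h1 : orderOf (QuotientGroup.mk' L1 h) ∣ orderOf h := orderOf_map_dvd _ h
    have h2 : orderOf (QuotientGroup.mk' L1 h) ∣ p ^ m := by
      refine (orderOf_dvd_natCard _).trans ?_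
      rw [← Subgroup.index_eq_card, hL1c.symm.index_eq_card, hm]
    obtain ⟨n, -, hn⟩ := (Nat.dvd_prime_pow Fact.out).mp h2
    rw [← QuotientGroup.eq_one_iff (N := L1), ← orderOf_eq_one_iff]
    rw [hn] at h1
    rcases Nat.eq_zero_or_pos n with rfl | hpos
    · simpa using hn
    · exact absurd ((dvd_pow_self p hpos.ne').trans h1) hh
  haveI : (L1.map Y.subtype).Normal := by
    constructor
    rintro _ ⟨z, hz, rfl⟩ g
    refine ⟨⟨g * z * g⁻¹, (inferInstance : Y.Normal).conj_mem _ z.2 g⟩, hmem _ ?_, rfl⟩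
    rw [← Subgroup.orderOf_coe]
    show ¬ p ∣ orderOf (g * (z : G) * g⁻¹)
    rw [← MulAut.conj_apply, MulEquiv.orderOf_eq, Subgroup.orderOf_coe]
    intro hd
    exact hL1p (hd.trans (Subgroup.orderOf_dvd_natCard L1 hz))
  refine Cfsg.Agent.Basics.le_pPrimeCore (N := L1.map Y.subtype) ?_ ⟨⟨y, hy⟩, hmem _ ?_, rfl⟩
  · rw [Subgroup.card_map_of_injective Y.subtype_injective]
    exact ((Fact.out : p.Prime).coprime_iff_not_dvd.mpr hL1p).symm
  · rwa [← Subgroup.orderOf_coe]

/-- The two principal blocks are compatible only if `G` has no nontrivial quotient beyond. -/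
theorem core_quotient {M : Ideal Cfsg.AlgInt} (hM : Cfsg.IsPModular p M)
    (hps : Cfsg.IsPSolvable p G) (P : Sylow p G) (K X : Subgroup G) [X.Normal]
    (hX : X = Cfsg.pPrimeCore p G ⊔ K) (hKn : K.Normal)
    (hK : ∀ χ : Cfsg.IrrCharacter G, χ ∈ Cfsg.principalBlock M G →
      ¬ p ∣ Cfsg.charDegree (χ : G → ℂ) → ∀ k ∈ K, (χ : G → ℂ) k = (χ : G → ℂ) 1) :
    X ⊓ (P : Subgroup G) ≤ (commutator ↥(P : Subgroup G)).map (P : Subgroup G).subtype ∧
      Cfsg.pPrimeCore p (G ⧸ X) = ⊥ := by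
  haveI := hKn
  haveI : (Cfsg.pPrimeCore p G).Normal := Cfsg.Agent.Basics.pPrimeCore_normal p
  have h1 := inf_le_derived hM hps P K hK
  have hle : ∀ (Y : Subgroup G) [Y.Normal], X ≤ Y → ¬ p ∣ X.relIndex Y →
      Y ⊓ (P : Subgroup G) ≤ (commutator ↥(P : Subgroup G)).map (P : Subgroup G).subtype := by
    intro Y _ hXY hidx
    -- `P ∩ Y` maps into a group of order prime to `p`
    rintro y ⟨hy, hyP⟩
    have hq : ¬ p ∣ K.relIndex Y := by
      have hKX : K ≤ X := hX ▸ le_sup_right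
      rw [← Subgroup.relIndex_mul_relIndex K X Y hKX hXY]
      intro hd
      rcases (Nat.Prime.dvd_mul Fact.out).mp hd with h | h
      · apply Cfsg.Agent.Basics.not_dvd_card_pPrimeCore (G := G) p
        refine h.trans ?_
        rw [hX, Subgroup.relIndex_sup_right]
        exact Subgroup.relIndex_dvd_card K _
      · exact hidx h
    obtain ⟨n, hn⟩ := IsPGroup.iff_orderOf.mp P.2 ⟨y, hyP⟩
    have h2 : y ^ (K.relIndex Y) ∈ K :=
      K.pow_relIndex_mem (K := Y) hy
    have hcop : (orderOf y).Coprime (K.relIndex Y) := by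
      rw [← Subgroup.orderOf_mk y hyP, hn]
      exact ((Fact.out : p.Prime).coprime_iff_not_dvd.mpr hq).pow_left n
    obtain ⟨m, hm⟩ := exists_pow_eq_self_of_coprime hcop.symm
    have h3 : y ∈ K := by
      rw [← hm]
      exact K.pow_mem h2 m
    exact h1 ⟨hyP, h3⟩
  refine ⟨hle X le_rfl (by rw [Subgroup.relIndex_self]; exact (Fact.out : p.Prime).not_dvd_one), ?_⟩
  haveI : (Cfsg.pPrimeCore p (G ⧸ X)).Normal := Cfsg.Agent.Basics.pPrimeCore_normal p
  set Y := (Cfsg.pPrimeCore p (G ⧸ X)).comap (QuotientGroup.mk' X) with hYdef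
  haveI : Y.Normal := Subgroup.Normal.comap inferInstance _
  have hXY : X ≤ Y := fun x hx => by
    rw [hYdef]
    show QuotientGroup.mk' X x ∈ Cfsg.pPrimeCore p (G ⧸ X)
    rw [QuotientGroup.mk'_apply, (QuotientGroup.eq_one_iff x).mpr hx]
    exact one_mem _
  have hidx : ¬ p ∣ X.relIndex Y := by
    have e : X.relIndex Y = Nat.card (Cfsg.pPrimeCore p (G ⧸ X)) := by
      have h0 : (⊥ : Subgroup (G ⧸ X)).comap (QuotientGroup.mk' X) = X := by
        rw [MonoidHom.comap_bot, QuotientGroup.ker_mk']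
      have h1 := Subgroup.relIndex_comap (⊥ : Subgroup (G ⧸ X)) (QuotientGroup.mk' X) Y
      rw [h0, hYdef, Subgroup.map_comap_eq_self_of_surjective
        (QuotientGroup.mk'_surjective X), Subgroup.relIndex_bot_left] at h1
      exact h1
    rw [e]
    exact Cfsg.Agent.Basics.not_dvd_card_pPrimeCore p
  have h4 := normal_le_sup P Y (hle Y hXY hidx)
  rw [eq_bot_iff]
  intro z hz
  obtain ⟨y, rfl⟩ := QuotientGroup.mk'_surjective X z
  have hyY : y ∈ Y := hz
  -- the `p'`-part of `y`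
  obtain ⟨a, b, hab⟩ : ∃ a b : ℤ, a * (X.relIndex Y : ℤ) + b * ((p : ℤ) ^ (orderOf y).factorization p) = 1 :=
    Int.isCoprime_iff_nat_coprime.mpr (by
      simpa using ((Fact.out : p.Prime).coprime_iff_not_dvd.mpr hidx).symm.pow_right _)
  have h5 : y ^ (p ^ (orderOf y).factorization p) ∈ Cfsg.pPrimeCore p G := by
    refine h4 _ (Y.pow_mem hyY _) ?_
    rw [orderOf_pow_of_dvd (pow_ne_zero _ (Nat.Prime.ne_zero Fact.out)) (Nat.ordProj_dvd _ p)]
    exact Nat.not_dvd_ordCompl Fact.out (orderOf_pos y).ne'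
  have h6 : y ^ X.relIndex Y ∈ X := X.pow_relIndex_mem (K := Y) hyY
  have h7 : y ∈ X := by
    have e : y = (y ^ X.relIndex Y) ^ a * (y ^ (p ^ (orderOf y).factorization p)) ^ b := by
      rw [← zpow_natCast, ← zpow_natCast y (p ^ _), ← zpow_mul, ← zpow_mul, ← zpow_add]
      push_cast
      rw [mul_comm (X.relIndex Y : ℤ) a, mul_comm ((p : ℤ) ^ _) b, hab, zpow_one]
    rw [e]
    exact X.mul_mem (X.zpow_mem h6 a) (X.zpow_mem (hX ▸ Subgroup.mem_sup_left h5) b)
  exact Subgroup.mem_bot.mpr ((QuotientGroup.eq_one_iff y).mpr h7)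

/-- Let p and q be primes dividing the order of the finite group G, and suppose G is p-solvable and q-solvable. Fix maximal ideals of the algebraic integers containing p and q, defining the principal p-block and the principal q-block. If the irreducible characters of degree prime to p in the principal p-block are exactly the irreducible characters of degree prime to q in the principal q-block, then p = q. -/
theorem result {G : Type*} [Group G] [Finite G] (p q : ℕ) [Fact p.Prime] [Fact q.Prime] (hp : p ∣ Nat.card G) (hq : q ∣ Nat.card G) (hps : Cfsg.IsPSolvable p G) (hqs : Cfsg.IsPSolvable q G) (Mp Mq : Ideal Cfsg.AlgInt) (hMp : Cfsg.IsPModular p Mp) (hMq : Cfsg.IsPModular q Mq) (h : ∀ χ : Cfsg.IrrCharacter G, (χ ∈ Cfsg.principalBlock Mp G ∧ ¬ p ∣ Cfsg.charDegree (χ : G → ℂ)) ↔ (χ ∈ Cfsg.principalBlock Mq G ∧ ¬ q ∣ Cfsg.charDegree (χ : G → ℂ))) : p = q := by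
  classical
  haveI := Fintype.ofFinite G
  by_contra hne
  haveI := Cfsg.Agent.Blocks.isPrime_of_modular hMp
  haveI := Cfsg.Agent.Blocks.isPrime_of_modular hMq
  haveI : (Cfsg.pPrimeCore p G).Normal := Cfsg.Agent.Basics.pPrimeCore_normal p
  haveI : (Cfsg.pPrimeCore q G).Normal := Cfsg.Agent.Basics.pPrimeCore_normal q
  obtain ⟨P⟩ : Nonempty (Sylow p G) := inferInstance
  obtain ⟨Q⟩ : Nonempty (Sylow q G) := inferInstance
  obtain ⟨X, hX⟩ : ∃ X, X = Cfsg.pPrimeCore p G ⊔ Cfsg.pPrimeCore q G := ⟨_, rfl⟩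
  haveI : X.Normal := hX ▸ Subgroup.sup_normal _ _
  have hp1 := core_quotient hMp hps P (Cfsg.pPrimeCore q G) X hX inferInstance fun χ hχ hd k hk =>
    Cfsg.Agent.Blocks.apply_eq_one_of_mem_principalBlock hMq
      (Cfsg.Agent.Basics.not_dvd_card_pPrimeCore q) ((h χ).mp ⟨hχ, hd⟩).1 hk
  have hq1 := core_quotient hMq hqs Q (Cfsg.pPrimeCore p G) X (hX.trans (sup_comm _ _)) inferInstance
    fun χ hχ hd k hk =>
      Cfsg.Agent.Blocks.apply_eq_one_of_mem_principalBlock hMp
        (Cfsg.Agent.Basics.not_dvd_card_pPrimeCore p) ((h χ).mpr ⟨hχ, hd⟩).1 hk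
  have htop : X = ⊤ := by
    by_contra hXt
    haveI : Nontrivial (G ⧸ X) := QuotientGroup.nontrivial_iff.mpr hXt
    rcases Cfsg.Agent.Coprime23.exists_core_ne_bot
      (Cfsg.Agent.Coprime23.isPSolvable_map (QuotientGroup.mk' X) (QuotientGroup.mk'_surjective X) hps)
      with h1 | h1
    · apply h1
      rw [eq_bot_iff, ← hq1.2]
      refine Cfsg.Agent.Basics.le_pPrimeCore ?_
      obtain ⟨n, hn⟩ := IsPGroup.iff_card.mp (Cfsg.Agent.Basics.pCore_isPGroup (G := G ⧸ X) p)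
      rw [hn]
      exact ((Nat.coprime_primes Fact.out Fact.out).mpr hne).pow_left n
    · exact h1 hp1.2
  have hlt := hp1.1
  rw [htop, top_inf_eq] at hlt
  haveI : Nontrivial (P : Subgroup G) := by
    rw [Subgroup.nontrivial_iff_ne_bot]
    exact Sylow.ne_bot_of_dvd_card P hp
  haveI : Group.IsNilpotent ↥(P : Subgroup G) := P.2.isNilpotent
  obtain ⟨C, hC⟩ : ∃ C : Subgroup ↥(P : Subgroup G), IsCoatom C :=
    (IsCoatomic.eq_top_or_exists_le_coatom (⊥ : Subgroup ↥(P : Subgroup G))).resolve_left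
      bot_ne_top |>.imp fun _ h => h.1
  refine hC.1 (top_le_iff.mp ?_)
  refine le_trans ?_ (Cfsg.Agent.Basics.commutator_le_frattini.trans (frattini_le_coatom hC))
  intro x _
  obtain ⟨y, hy, hyx⟩ := hlt x.2
  rwa [← Subtype.ext (hyx : (y : G) = x)]

end Cfsg.Agent.S4885
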