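import Cfsg.Statements.S4886
import Cfsg.Agent.Lib.Blocks.CommutingSylows.Main
import Cfsg.Agent.Lib.Blocks.Inflation
import Cfsg.Agent.Lib.Blocks.SingleBlock
import Cfsg.Agent.S4487

set_option autoImplicit false
open Cfsg

namespace Cfsg.Agent.S4886

open Cfsg.Agent

theorem mem_principal_iff {G : Type*} [Group G] [Finite G] {p : ℕ} [Fact p.Prime]
    {M : Ideal Cfsg.AlgInt} (hM : Cfsg.IsPModular p M) (hs : Cfsg.IsPSolvable p G)
    (χ : Cfsg.IrrCharacter G) :
    χ ∈ Cfsg.principalBlock M G ↔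
      ∀ x ∈ Cfsg.pPrimeCore p G, (χ : G → ℂ) x = (χ : G → ℂ) 1 := by
  haveI := Blocks.isPrime_of_modular hM
  refine ⟨fun h x hx => Blocks.apply_eq_one_of_mem_principalBlock hM
    (Basics.not_dvd_card_pPrimeCore p) h hx, fun h => ?_⟩
  obtain ⟨ψ, hψ, hval⟩ := CT.exists_quotient_irr χ.2 (Cfsg.pPrimeCore p G) h
  have hs' : Cfsg.IsPSolvable p (G ⧸ Cfsg.pPrimeCore p G) :=
    Coprime23.isPSolvable_map (QuotientGroup.mk' _) (QuotientGroup.mk'_surjective _) hs
  have hsame := Blocks.sameBlock_inflIrr (M := M)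
    (S4487.result p M hM (Basics.pPrimeCore_quotient_eq_bot p)
      (Transfer.centralizer_pCore_le_of_pSolvable (Basics.pPrimeCore_quotient_eq_bot p)
        (Blocks.isPSolvable_subgroup hs' _))
      (CT.trivIrr (G ⧸ Cfsg.pPrimeCore p G)) ⟨ψ, hψ⟩)
  show Cfsg.SameBlock M (fun _ : G => (1 : ℂ)) (χ : G → ℂ)
  have e1 : ((Blocks.inflIrr (⟨ψ, hψ⟩ : Cfsg.IrrCharacter (G ⧸ Cfsg.pPrimeCore p G))) : G → ℂ) =
      (χ : G → ℂ) := funext hval
  rw [← e1]
  exact hsame

/-- Let p ≠ q be primes and G a finite group that is p-solvable and q-solvable. Fix maximal ideals of the algebraic integers containing p and q, defining the principal p-block and the principal q-block. Then every irreducible character of degree prime to p in the principal p-block has degree prime to q and every irreducible character of degree prime to q in the principal q-block has degree prime to p, if and only if some Sylow p-subgroup of G commutes elementwise with some Sylow q-subgroup. -/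
theorem result {G : Type*} [Group G] [Finite G] (p q : ℕ) [Fact p.Prime] [Fact q.Prime] (hpq : p ≠ q) (Mp Mq : Ideal Cfsg.AlgInt) (hMp : Cfsg.IsPModular p Mp) (hMq : Cfsg.IsPModular q Mq) (hps : Cfsg.IsPSolvable p G) (hqs : Cfsg.IsPSolvable q G) : ((∀ χ : Cfsg.IrrCharacter G, χ ∈ Cfsg.principalBlock Mp G → ¬ p ∣ Cfsg.charDegree (χ : G → ℂ) → ¬ q ∣ Cfsg.charDegree (χ : G → ℂ)) ∧ (∀ χ : Cfsg.IrrCharacter G, χ ∈ Cfsg.principalBlock Mq G → ¬ q ∣ Cfsg.charDegree (χ : G → ℂ) → ¬ p ∣ Cfsg.charDegree (χ : G → ℂ))) ↔ ∃ (P : Sylow p G) (Q : Sylow q G), ∀ x ∈ (P : Subgroup G), ∀ y ∈ (Q : Subgroup G), x * y = y * x := by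
  constructor
  · rintro ⟨h1, h2⟩
    exact Blocks.CommutingSylows.exists_commute hpq hps hqs
      (fun χ hχ => h1 χ ((mem_principal_iff hMp hps χ).mpr hχ))
      (fun χ hχ => h2 χ ((mem_principal_iff hMq hqs χ).mpr hχ))
  · rintro ⟨P, Q, hc⟩
    exact ⟨fun χ hχ => Blocks.CommutingSylows.hyp_of_commute hpq hps P Q hc χ
        ((mem_principal_iff hMp hps χ).mp hχ),
      fun χ hχ => Blocks.CommutingSylows.hyp_of_commute (Ne.symm hpq) hqs Q P
        (fun y hy x hx => (hc x hx y hy).symm) χ ((mem_principal_iff hMq hqs χ).mp hχ)⟩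

end Cfsg.Agent.S4886
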