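import Cfsg.Statements.S4888
import Cfsg.Agent.Lib.Blocks.PrincipalHeight

set_option autoImplicit false
open Cfsg

namespace Cfsg.Agent.S4888

/-- Let G be a finite group, p a prime and M a maximal ideal of the algebraic integers containing p. Then all height-zero irreducible characters of the principal p-block of G (equivalently, all its characters of degree prime to p) have the same degree if and only if G has a normal p-complement. -/
theorem result {G : Type*} [Group G] [Finite G] (p : ℕ) [Fact p.Prime] (M : Ideal Cfsg.AlgInt) (hM : Cfsg.IsPModular p M) : (∃ d : ℕ, ∀ χ : Cfsg.IrrCharacter G, χ ∈ (Cfsg.principalBlock M G) → Cfsg.blockHeight p (Cfsg.principalBlock M G) (χ : G → ℂ) = 0 → Cfsg.charDegree (χ : G → ℂ) = d) ↔ Cfsg.HasNormalPComplement p G := by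
  classical
  haveI := Fintype.ofFinite G
  haveI : M.IsPrime := hM.2.1.isPrime
  constructor
  · rintro ⟨d, hd⟩
    have hd1 : d = 1 := by
      rw [← hd (Cfsg.Agent.CT.trivIrr G) Cfsg.Agent.Blocks.trivIrr_mem_principalBlock
        ((Cfsg.Agent.Blocks.blockHeight_principal_eq_zero hM _).mpr (by
          rw [Cfsg.Agent.Blocks.charDegree_trivIrr]; exact hM.1.not_dvd_one)),
        Cfsg.Agent.Blocks.charDegree_trivIrr]
    have hnd := Cfsg.Agent.Blocks.not_dvd_card_residual hM (G := G) fun χ hχ hp =>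
      (hd χ hχ ((Cfsg.Agent.Blocks.blockHeight_principal_eq_zero hM χ).mpr hp)).trans hd1
    obtain ⟨k, hk⟩ := Cfsg.Agent.Transfer.exists_index_pResidual_eq_pow (G := G) (p := p)
    haveI : (Cfsg.pResidual p G).Characteristic :=
      Cfsg.Agent.Transfer.pResidual_characteristic G p
    obtain ⟨P⟩ : Nonempty (Sylow p G) := inferInstance
    refine ⟨P, Cfsg.pResidual p G, inferInstance, ?_⟩
    obtain ⟨a, ha⟩ := IsPGroup.iff_card.mp P.isPGroup'
    refine Subgroup.isComplement'_of_coprime ?_ ?_
    · have hmul := Subgroup.card_mul_index (Cfsg.pResidual p G)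
      rw [← hmul, hk]
      congr 1
      rw [ha]
      congr 1
      have h1 := P.card_eq_multiplicity
      rw [ha, ← hmul, hk, Nat.factorization_mul Nat.card_pos.ne'
        (pow_ne_zero _ hM.1.ne_zero), Finsupp.add_apply,
        Nat.factorization_eq_zero_of_not_dvd hnd, hM.1.factorization_pow, Finsupp.single_eq_same,
        zero_add] at h1
      exact (Nat.pow_right_injective hM.1.two_le h1)
    · rw [ha]
      exact Nat.Coprime.pow_right a ((hM.1.coprime_iff_not_dvd.mpr hnd).symm)
  · rintro ⟨P, N, hN, hc⟩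
    refine ⟨1, fun χ hχ h0 => ?_⟩
    have hp := (Cfsg.Agent.Blocks.blockHeight_principal_eq_zero hM χ).mp h0
    obtain ⟨a, ha⟩ := IsPGroup.iff_card.mp P.isPGroup'
    have hidx : N.index = p ^ a := by rw [← ha]; exact hc.symm.index_eq_card
    have hNp : ¬ p ∣ Nat.card N := by
      rw [← hc.index_eq_card]
      exact P.not_dvd_index
    obtain ⟨η, hη, hcomp⟩ := Cfsg.Agent.CT.exists_quotient_irr χ.2 N fun n hn =>
      Cfsg.Agent.Blocks.apply_eq_one_of_mem_principalBlock hM hNp hχ hn
    haveI := Fintype.ofFinite (G ⧸ N)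
    have hdvd := Cfsg.Agent.Glauberman.deg_dvd_card (G := G ⧸ N) ⟨η, hη⟩
    rw [← Subgroup.index_eq_card, hidx] at hdvd
    have hd : Cfsg.Agent.CT.deg η = Cfsg.charDegree (χ : G → ℂ) := by
      have h1 := hcomp 1
      rw [QuotientGroup.mk_one, Cfsg.Agent.Blocks.charDegree_cast,
        Cfsg.Agent.CT.deg_eq (Cfsg.Agent.CT.isCharacter_of_isIrr hη)] at h1
      first | exact_mod_cast h1 | exact_mod_cast h1.symm
    have hdvd' : Cfsg.charDegree (χ : G → ℂ) ∣ p ^ a := hd ▸ hdvd
    obtain ⟨j, -, hj⟩ := (Nat.dvd_prime_pow hM.1).mp hdvd'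
    rcases Nat.eq_zero_or_pos j with h | h
    · rw [hj, h, pow_zero]
    · exact absurd (hj ▸ dvd_pow_self p h.ne') hp

end Cfsg.Agent.S4888
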