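import Cfsg.Statements.S4892
import Cfsg.Agent.Lib.Blocks.PrincipalExtend
import Cfsg.Agent.Lib.CT.GaloisTwist

set_option autoImplicit false
set_option linter.all false
open Cfsg

namespace Cfsg.Agent.S4892

open Cfsg.Agent Cfsg.Agent.Blocks Cfsg.Agent.Blocks.CosetRegular Cfsg.Agent.Blocks.PrincipalExtend
open Cfsg.Agent.CT.GaloisTwist

theorem root_fix {f : ℂ ≃+* ℂ} {j NN m : ℕ} {ξ : ℂ} (hξ : ξ ^ m = 1) (hmN : m ∣ NN)
    (hf : ∀ w : ℂ, w ^ NN = 1 → f w = w ^ j) (hj : j ≡ 1 [MOD m]) : f ξ = ξ := by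
  rw [hf ξ (by obtain ⟨t, ht⟩ := hmN; rw [ht, pow_mul, hξ, one_pow]), pow_eq_pow_mod j hξ, hj,
    ← pow_eq_pow_mod 1 hξ, pow_one]

theorem main {G : Type*} [Group G] [Fintype G] {p : ℕ} [Fact p.Prime] (hp : p ≠ 2)
    {M : Ideal Cfsg.AlgInt} [M.IsPrime] (hM : Cfsg.IsPModular p M) (N : Subgroup G) [N.Normal]
    [Fintype N] (θ : Cfsg.IrrCharacter ↥N)
    (hinv : ∀ (g : G) (n : N), (θ : N → ℂ) (MulAut.conjNormal g n) = (θ : N → ℂ) n)
    (hdeg : ¬ p ∣ Cfsg.charDegree (θ : ↥N → ℂ))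
    (m : ℕ) (hm : ¬ p ∣ m) (hrat : ∀ n : ↥N, (θ : ↥N → ℂ) n ∈
      IntermediateField.adjoin ℚ ({Complex.exp (2 * Real.pi * Complex.I / m)} : Set ℂ))
    (hθ : θ ∈ Cfsg.principalBlock M ↥N) (Q : Sylow p ↥N) {a : ℕ}
    (hidx : (covered N Q).index = p ^ a) :
    ∃ χ : Cfsg.IrrCharacter G, χ ∈ (Cfsg.principalBlock M G) ∧ (∃ n : ℕ, ¬ p ∣ n ∧ ∀ g : G,
        (χ : G → ℂ) g ∈ IntermediateField.adjoin ℚ ({Complex.exp (2 * Real.pi * Complex.I / n)} : Set ℂ)) ∧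
      ∀ n : ↥N, (χ : G → ℂ) n = (θ : ↥N → ℂ) n := by
  classical
  haveI := Fintype.ofFinite (G ⧸ N)
  have hp1 := (Fact.out : p.Prime)
  have hG0 : Nat.card G ≠ 0 := Nat.card_pos.ne'
  obtain ⟨v, hv⟩ : ∃ v, v = (Nat.card G).factorization p := ⟨_, rfl⟩
  obtain ⟨n0, hn0⟩ : ∃ n0, n0 = Nat.card G / p ^ v := ⟨_, rfl⟩
  have hnv : n0 * p ^ v = Nat.card G := by rw [hn0, hv]; exact Nat.div_mul_cancel (Nat.ordProj_dvd _ p)
  have hn0p : ¬ p ∣ n0 := by rw [hn0, hv]; exact Nat.not_dvd_ordCompl hp1 hG0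
  have hm0 : m ≠ 0 := fun e => hm (e ▸ dvd_zero p)
  have hn00 : n0 ≠ 0 := fun e => hn0p (e ▸ dvd_zero p)
  obtain ⟨nn, hnn⟩ : ∃ nn, nn = m * n0 := ⟨_, rfl⟩
  have hnnp : ¬ p ∣ nn := fun h => (hp1.dvd_mul.mp (hnn ▸ h)).elim hm hn0p
  have hnn0 : nn ≠ 0 := fun e => hnnp (e ▸ dvd_zero p)
  obtain ⟨NN, hNN⟩ : ∃ NN, NN = nn * p ^ v := ⟨_, rfl⟩
  have hNN0 : NN ≠ 0 := by rw [hNN]; exact mul_ne_zero hnn0 (pow_ne_zero _ hp1.ne_zero)
  haveI : NeZero NN := ⟨hNN0⟩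
  have hGNN : Nat.card G ∣ NN := ⟨m, by rw [hNN, hnn, ← hnv]; ring⟩
  have hnNN : nn ∣ NN := Dvd.intro (p ^ v) hNN.symm
  have hcopv : Nat.Coprime nn (p ^ v) := Nat.Coprime.pow_right _ ((hp1.coprime_iff_not_dvd.mpr hnnp).symm)
  obtain ⟨d, τ, hτ, hθτ0⟩ := θ.2
  have hθτ := hθτ0.symm
  haveI := hτ
  have hd : Cfsg.charDegree (θ : N → ℂ) = d := by
    rw [Cfsg.charDegree, hθτ, Representation.char_one]
    simp
  -- the determinant of the character of the normal subgroup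
  have hdetN : ∀ n : N, CoprimeExt.detHom τ n ^ n0 = 1 := by
    obtain ⟨j, hj1, hjm⟩ := Nat.chineseRemainder hcopv 1 (p ^ v - 1)
    have hjcop : j.Coprime NN := by
      rw [hNN]
      refine Nat.Coprime.mul_right ?_ ?_
      · rw [Nat.coprime_comm, Nat.coprime_iff_gcd_eq_one, Nat.gcd_comm, Nat.ModEq.gcd_eq hj1, Nat.gcd_one_left]
      · rcases Nat.eq_zero_or_pos v with rfl | hv0
        · simp
        · refine Nat.Coprime.pow_right _ ((hp1.coprime_iff_not_dvd.mpr fun h => ?_).symm)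
          have h1 : p ∣ p ^ v - 1 := ((Nat.ModEq.of_dvd (dvd_pow_self p hv0.ne') hjm).dvd_iff dvd_rfl).mp h
          have h2 : p ∣ p ^ v := dvd_pow_self p hv0.ne'
          have h3 := Nat.dvd_sub h2 h1
          rw [Nat.sub_sub_self (Nat.one_le_pow _ _ hp1.pos)] at h3
          exact hp1.not_dvd_one h3
    obtain ⟨f, hf⟩ := OddChar.exists_ringEquiv_pow (NeZero.pos NN) hjcop
    intro n
    have hfix : ∀ x, f (τ.character x) = τ.character x := fun x => by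
      rw [← hθτ]
      refine fixed_of_mem (n := m) f ?_ (hrat x)
      exact root_fix (Complex.isPrimitiveRoot_exp m hm0).pow_eq_one
        (Dvd.intro (n0 * p ^ v) (by rw [hNN, hnn, mul_assoc])) hf (Nat.ModEq.of_dvd (Dvd.intro n0 hnn.symm) hj1)
    have hw : ((CoprimeExt.detHom τ n : ℂ)) ^ Nat.card G = 1 := by
      rw [← Units.val_pow_eq_pow_val, ← map_pow, show n ^ Nat.card G = 1 from
        Subtype.ext (by rw [SubmonoidClass.coe_pow, pow_card_eq_one', OneMemClass.coe_one]), map_one, Units.val_one]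
    have h1 := map_det_eq_of_fixed f τ hfix n
    rw [hf _ (by obtain ⟨t, ht⟩ := hGNN; rw [ht, pow_mul, hw, one_pow]), ← Units.val_pow_eq_pow_val] at h1
    set w := CoprimeExt.detHom τ n
    have h2 : w ^ j = w ^ 1 := by rw [pow_one]; exact Units.ext h1
    have h3 : orderOf w ∣ n0 * p ^ v := hnv.symm ▸ orderOf_dvd_of_pow_eq_one
      (Units.ext (by rw [Units.val_pow_eq_pow_val, hw, Units.val_one]))
    refine orderOf_dvd_iff_pow_eq_one.mp (Nat.Coprime.dvd_of_dvd_mul_right ?_ h3)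
    refine Nat.Coprime.pow_right _ ((hp1.coprime_iff_not_dvd.mpr fun h => ?_).symm)
    have h4 : j ≡ 1 [MOD p] := Nat.ModEq.of_dvd h (pow_eq_pow_iff_modEq.mp h2)
    have hv0 : 0 < v := Nat.pos_of_ne_zero fun e => by
      rw [e, pow_zero, mul_one] at h3
      exact hn0p (h.trans h3)
    have h5 : p ^ v - 1 ≡ 1 [MOD p] := ((Nat.ModEq.of_dvd (dvd_pow_self p hv0.ne') hjm).symm.trans h4)
    have h6 := h5.add_right 1
    rw [Nat.sub_add_cancel (Nat.one_le_pow _ _ hp1.pos)] at h6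
    have h7 : p ∣ 2 := (h6.dvd_iff dvd_rfl).mp (dvd_pow_self p hv0.ne')
    exact hp ((Nat.prime_dvd_prime_iff_eq hp1 Nat.prime_two).mp h7)
  have hdet : ¬ p ∣ Cfsg.detOrder (θ : N → ℂ) := by
    rw [hθτ, CoprimeExt.detOrder_eq]
    refine fun h => hn0p (h.trans (orderOf_dvd_of_pow_eq_one (MonoidHom.ext fun n => ?_)))
    rw [MonoidHom.pow_apply, hdetN]; rfl
  have hdeg' : ¬ p ∣ CT.deg (θ : N → ℂ) := by
    rw [hθτ, CT.deg_eq_finrank, Module.finrank_fin_fun, ← hd]; exact hdeg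
  obtain ⟨E, hE⟩ := exists_ext N Q θ hM hθ hinv hdeg' hdet hidx
  obtain ⟨F, hF⟩ := exists_twist N Q θ hM hθ hidx E hE
  obtain ⟨d', ρ, hρ, hEρ0⟩ := E.2
  have hEρ := hEρ0.symm
  haveI := hρ
  have hdd : d' = d := by
    have h1 := hE 1
    rw [OneMemClass.coe_one, hEρ, hθτ, Representation.char_one, Representation.char_one] at h1
    simpa using h1
  subst d'
  -- normalising the determinant
  set μ1 : G →* ℂˣ := (F⁻¹).comp (QuotientGroup.mk' N) with hμ1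
  have hF1 : ∀ n : N, μ1 n = 1 := fun n => by
    show (F ((n : G) : G ⧸ N))⁻¹ = 1
    rw [(QuotientGroup.eq_one_iff (n : G)).mpr n.2, map_one, inv_one]
  set δ := CoprimeExt.detHom (twist μ1 ρ) with hδ
  obtain ⟨k, hk0, hk1⟩ := Nat.chineseRemainder
    (Nat.Coprime.pow_right v ((hp1.coprime_iff_not_dvd.mpr hn0p).symm)) 0 1
  rw [Nat.modEq_zero_iff_dvd] at hk0
  obtain ⟨d2, hd2⟩ : ∃ d2 : ℕ, d * d2 ≡ 1 [MOD p ^ v] := by
    rcases Nat.eq_zero_or_pos v with rfl | hv0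
    · exact ⟨0, by rw [pow_zero]; exact Nat.modEq_one⟩
    · have hc : Nat.Coprime d (p ^ v) := Nat.Coprime.pow_right _
        ((hp1.coprime_iff_not_dvd.mpr (hd ▸ hdeg)).symm)
      obtain ⟨b, hb⟩ := Nat.exists_mul_mod_eq_one_of_coprime hc (Nat.one_lt_pow hv0.ne' hp1.one_lt)
      exact ⟨b, by rw [Nat.ModEq, hb.2, Nat.one_mod_eq_one.mpr (Nat.one_lt_pow hv0.ne' hp1.one_lt).ne']⟩
  set μ2 : G →* ℂˣ := (δ ^ (k * d2))⁻¹ with hμ2
  have hδG : ∀ g, δ g ^ Nat.card G = 1 := fun g => by rw [← map_pow, pow_card_eq_one', map_one]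
  have hμ2N : ∀ n : N, μ2 n = 1 := fun n => by
    show (δ (n : G) ^ (k * d2))⁻¹ = 1
    have e : δ (n : G) = CoprimeExt.detHom τ n := by
      have e1 : (CoprimeExt.pullRep (twist μ1 ρ) N.subtype).character = τ.character := funext fun x => by
        show (twist μ1 ρ).character (x : G) = _
        rw [twist_char, hF1, Units.val_one, one_mul, ← hEρ, hE, hθτ]
      have e2 := CoprimeExt.detChar_eq (CoprimeExt.pullRep (twist μ1 ρ) N.subtype)
      rw [e1, CoprimeExt.detChar_eq] at e2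
      exact (Units.ext (congrFun e2 n)).symm
    rw [e]
    obtain ⟨t, ht⟩ := hk0
    rw [ht, mul_assoc, pow_mul, hdetN, one_pow, inv_one]
  have hμ2reg : ∀ g : G, ¬ p ∣ orderOf (g : G ⧸ N) → μ2 g = 1 := fun g hg => by
    set o := orderOf (g : G ⧸ N) with ho
    have hmem : g ^ o ∈ N := by
      rw [← QuotientGroup.eq_one_iff, QuotientGroup.mk_pow, ho, pow_orderOf_eq_one]
    have h1 : μ2 g ^ o = 1 := by rw [← map_pow]; exact hμ2N ⟨_, hmem⟩
    have h2 : μ2 g ^ p ^ v = 1 := by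
      show ((δ g ^ (k * d2))⁻¹) ^ p ^ v = 1
      obtain ⟨t, ht⟩ := hk0
      rw [inv_pow, ← pow_mul, show k * d2 * p ^ v = (n0 * p ^ v) * (t * d2) by rw [ht]; ring,
        hnv, pow_mul, hδG, one_pow, inv_one]
    have h3 := Nat.dvd_gcd (orderOf_dvd_of_pow_eq_one h1) (orderOf_dvd_of_pow_eq_one h2)
    rw [show Nat.gcd o (p ^ v) = 1 from
      Nat.Coprime.pow_right _ ((hp1.coprime_iff_not_dvd.mpr hg).symm)] at h3
    exact orderOf_eq_one_iff.mp (Nat.dvd_one.mp h3)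
  set μ := μ2 * μ1 with hμ
  let χ : Cfsg.IrrCharacter G := ⟨_, isIrr_twist μ ρ⟩
  have hχ : ∀ g, (χ : G → ℂ) g = (μ g : ℂ) * (E : G → ℂ) g := fun g => by
    rw [hEρ]; exact twist_char μ ρ g
  have hdetχ : ∀ g, CoprimeExt.detHom (twist μ ρ) g ^ n0 = 1 := fun g => by
    have e : CoprimeExt.detHom (twist μ ρ) g = μ2 g ^ d * δ g := by
      rw [twist_det, hδ, twist_det, ← mul_assoc, ← mul_pow]
      rfl
    rw [e, show μ2 g = (δ g ^ (k * d2))⁻¹ from rfl, inv_pow, ← pow_mul, mul_pow, inv_pow, ← pow_mul,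
      inv_mul_eq_one, pow_eq_pow_iff_modEq]
    refine Nat.ModEq.of_dvd (orderOf_dvd_of_pow_eq_one (hδG g)) ?_
    rw [← hnv]
    have h1 : k * d2 * d ≡ 1 [MOD p ^ v] := by
      have := hk1.mul hd2
      rwa [mul_one, mul_comm d d2, ← mul_assoc] at this
    have h2 := h1.mul_left' n0
    rwa [mul_one, mul_comm n0 (k * d2 * d)] at h2
  have hχN : ∀ n : N, (χ : G → ℂ) n = (θ : N → ℂ) n := fun n => by
    rw [hχ, hE, show μ (n : G) = μ2 n * μ1 n from rfl, hF1, hμ2N, one_mul, Units.val_one, one_mul]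
  let β : G ⧸ N →* ℂˣ := QuotientGroup.lift N μ fun x hx => by
    show μ2 x * μ1 x = 1
    rw [hF1 ⟨x, hx⟩, hμ2N ⟨x, hx⟩, one_mul]
  have hz : ∀ c : G ⧸ N, ¬ p ∣ orderOf c → ∃ z : Blocks.Loc M,
      (z : ℂ) = cosetS N p (χ : G → ℂ) c ∧
      Blocks.red M z = Blocks.red M (Blocks.regS M p θ (CT.trivIrr N)) := by
    intro c hc
    obtain ⟨z, hz, hzr⟩ := hF c hc
    refine ⟨z, ?_, hzr⟩
    rw [show (χ : G → ℂ) = fun g : G => ((β (g : G ⧸ N) : ℂˣ) : ℂ) * (E : G → ℂ) g from funext hχ,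
      cosetS_mul N (E : G → ℂ) (fun c => ((β c : ℂˣ) : ℂ)), ← hz, map_one, Units.val_one, div_one]
    obtain ⟨g, rfl⟩ := QuotientGroup.mk_surjective c
    show _ = ((μ2 g * μ1 g : ℂˣ) : ℂ) * _
    rw [hμ2reg g hc, one_mul, show μ1 g = (F (g : G ⧸ N))⁻¹ from rfl, Units.val_inv_eq_inv_val]
    field_simp
  refine ⟨χ, mem_principal_of_cosetS N θ hM hθ χ hz, ⟨nn, hnnp, fun g => ?_⟩, hχN⟩
  obtain ⟨ζ, hζ⟩ : ∃ ζ : ℂ, IsPrimitiveRoot ζ (Nat.card G) := ⟨_, Complex.isPrimitiveRoot_exp _ hG0⟩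
  have hZ := Complex.isPrimitiveRoot_exp NN hNN0
  have hmem : (χ : G → ℂ) g ∈ IntermediateField.adjoin ℚ
      ({Complex.exp (2 * Real.pi * Complex.I / NN)} : Set ℂ) := by
    haveI : NeZero (Nat.card G) := ⟨hG0⟩
    refine (IntermediateField.adjoin_simple_le_iff.mpr ?_)
      (CT.GaloisFixed.mem_adjoin hζ rfl (CT.isCharacter_of_isIrr χ.2) g)
    obtain ⟨i, -, hi⟩ := hZ.eq_pow_of_pow_eq_one (ξ := ζ) (by
      obtain ⟨t, ht⟩ := hGNN; rw [ht, pow_mul, hζ.pow_eq_one, one_pow])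
    rw [← hi]
    exact IntermediateField.pow_mem _ (IntermediateField.mem_adjoin_simple_self ℚ _) i
  refine mem_of_fixed hnNN hZ (Complex.isPrimitiveRoot_exp nn hnn0) hmem fun j hj hj1 f hf => ?_
  have hfG : ∀ w : ℂ, w ^ Nat.card G = 1 → f w = w ^ j := fun w hw => hf w (by
    obtain ⟨t, ht⟩ := hGNN; rw [ht, pow_mul, hw, one_pow])
  have hjG : j.Coprime (Nat.card G) := Nat.Coprime.of_dvd_right hGNN hj
  have hmap : ∀ x, f ((χ : G → ℂ) x) = (χ : G → ℂ) (x ^ j) :=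
    CT.GaloisFixed.map_char (CT.isCharacter_of_isIrr χ.2) f hfG
  let χ' : Cfsg.IrrCharacter G := ⟨_, OddChar.isIrr_map_pow χ.2 hjG⟩
  have hχ'N : ∀ n : N, (χ' : G → ℂ) n = (θ : N → ℂ) n := fun n => by
    show (χ : G → ℂ) ((n : G) ^ j) = _
    rw [← hmap, hχN]
    refine fixed_of_mem (n := m) f ?_ (hrat n)
    exact root_fix (Complex.isPrimitiveRoot_exp m hm0).pow_eq_one
      (Dvd.intro (n0 * p ^ v) (by rw [hNN, hnn, mul_assoc])) hf (Nat.ModEq.of_dvd (Dvd.intro n0 hnn.symm) hj1)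
  obtain ⟨η, hηN, hη⟩ := CoprimeExt.exists_eq_mul_of_over N χ θ hχN χ' (by
    rw [funext hχ'N, CT.irr_inner_self θ.2]; exact one_ne_zero)
  have hη1 : (η : G → ℂ) 1 = 1 := by
    have h := congrFun hη 1
    rw [Pi.mul_apply, show (χ' : G → ℂ) 1 = (θ : N → ℂ) 1 from hχ'N 1,
      show (χ : G → ℂ) 1 = (θ : N → ℂ) 1 from hχN 1] at h
    exact (mul_eq_right₀ (CT.irr_one_ne_zero θ.2)).mp h.symm
  obtain ⟨L, hL⟩ := exists_lin_of_deg_one η.2 hη1
  have hLN : ∀ x ∈ N, L x = 1 := fun x hx => Units.ext (by rw [hL, hηN x hx, hη1]; rfl)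
  have hrep : (mapRep f (twist μ ρ)).character = (twist L (twist μ ρ)).character := funext fun x => by
    rw [mapRep_char, twist_char L, hL]
    exact (hmap x).trans (congrFun hη x)
  have hLd : ∀ x, L x ^ d = 1 := fun x => by
    have h := CoprimeExt.detChar_eq (mapRep f (twist μ ρ))
    rw [hrep, CoprimeExt.detChar_eq] at h
    have h1 := congrFun h x
    rw [mapRep_det, twist_det, Units.val_mul] at h1
    have h2 : f (CoprimeExt.detHom (twist μ ρ) x : ℂ) = (CoprimeExt.detHom (twist μ ρ) x : ℂ) := by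
      have hw : (CoprimeExt.detHom (twist μ ρ) x : ℂ) ^ n0 = 1 := by
        rw [← Units.val_pow_eq_pow_val, hdetχ, Units.val_one]
      rw [hfG _ (by rw [← hnv, pow_mul, hw, one_pow]), pow_eq_pow_mod j hw,
        Nat.ModEq.of_dvd (Dvd.intro_left m hnn.symm) hj1, ← pow_eq_pow_mod 1 hw, pow_one]
    rw [h2] at h1
    exact Units.ext ((mul_eq_right₀ (Units.ne_zero _)).mp h1)
  have hLreg : ∀ x : G, ¬ p ∣ orderOf (x : G ⧸ N) → L x = 1 := by
    intro x hx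
    obtain ⟨z, hz1, hz2⟩ := hz (x : G ⧸ N) hx
    have hne : cosetS N p (χ : G → ℂ) (x : G ⧸ N) ≠ 0 := fun h0 => by
      have : z = 0 := Subtype.ext (by rw [hz1, h0]; rfl)
      rw [this, map_zero] at hz2
      exact (principal_iff hM θ).mp hθ hz2.symm
    simp only [cosetS] at hne
    obtain ⟨y, -, hy⟩ := Finset.exists_ne_zero_of_sum_ne_zero (left_ne_zero_of_mul hne)
    split_ifs at hy with hy'
    · have hyj : y ^ j = y := by
        have h1 : orderOf y ∣ n0 := Nat.Coprime.dvd_of_dvd_mul_right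
          (Nat.Coprime.pow_right _ ((hp1.coprime_iff_not_dvd.mpr hy'.2).symm))
          (hnv.symm ▸ orderOf_dvd_natCard y)
        rw [← pow_mod_orderOf, Nat.ModEq.of_dvd (h1.trans (Dvd.intro_left m hnn.symm)) hj1,
          pow_mod_orderOf, pow_one]
      have h2 := congrFun hη y
      rw [show (χ' : G → ℂ) y = (χ : G → ℂ) (y ^ j) from rfl, hyj, Pi.mul_apply, ← hL] at h2
      have h3 : L y = 1 := Units.ext ((mul_eq_right₀ hy).mp h2.symm)
      have h4 : y⁻¹ * x ∈ N := QuotientGroup.eq.mp hy'.1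
      calc L x = L (y * (y⁻¹ * x)) := by rw [mul_inv_cancel_left]
        _ = 1 := by rw [map_mul, h3, hLN _ h4, one_mul]
    · exact absurd rfl hy
  have hL1 : L g = 1 := by
    have h1 : L g ^ p ^ v = 1 := by
      rw [← map_pow]
      refine hLreg _ fun h => hn0p (h.trans (orderOf_dvd_of_pow_eq_one ?_))
      rw [← QuotientGroup.mk_pow, ← pow_mul, mul_comm, hnv, pow_card_eq_one', QuotientGroup.mk_one]
    have h3 := Nat.dvd_gcd (orderOf_dvd_of_pow_eq_one (hLd g)) (orderOf_dvd_of_pow_eq_one h1)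
    rw [show Nat.gcd d (p ^ v) = 1 from
      Nat.Coprime.pow_right _ ((hp1.coprime_iff_not_dvd.mpr (hd ▸ hdeg)).symm)] at h3
    exact orderOf_eq_one_iff.mp (Nat.dvd_one.mp h3)
  rw [hmap]
  show (χ' : G → ℂ) g = _
  rw [congrFun hη g, Pi.mul_apply, ← hL, hL1, Units.val_one, one_mul]

/-- Let p be an odd prime, M a maximal ideal of the algebraic integers containing p, N a normal subgroup of the finite group G, and θ an irreducible character of N that is G-invariant, of degree prime to p, p-rational (values in the field generated over ℚ by a root of unity of order prime to p) and lies in the principal p-block of N. Let Q be a Sylow p-subgroup of N and suppose the index of N·C_G(Q) in G is a power of p. Then θ extends to a p-rational irreducible character of G lying in the principal p-block of G. -/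
theorem result {G : Type*} [Group G] [Finite G] (p : ℕ) [Fact p.Prime] (hp : p ≠ 2) (M : Ideal Cfsg.AlgInt) (hM : Cfsg.IsPModular p M) (N : Subgroup G) [N.Normal] (θ : Cfsg.IrrCharacter ↥N) (hinv : ∀ g : G, ∀ n n' : ↥N, (n' : G) = g * (n : G) * g⁻¹ → (θ : ↥N → ℂ) n' = (θ : ↥N → ℂ) n) (hdeg : ¬ p ∣ Cfsg.charDegree (θ : ↥N → ℂ)) (hrat : ∃ m : ℕ, ¬ p ∣ m ∧ ∀ n : ↥N, (θ : ↥N → ℂ) n ∈ IntermediateField.adjoin ℚ ({Complex.exp (2 * Real.pi * Complex.I / m)} : Set ℂ)) (hB : θ ∈ Cfsg.principalBlock M ↥N) (Q : Sylow p ↥N) (hidx : ∃ a : ℕ, (N ⊔ Subgroup.centralizer (((Q : Subgroup ↥N).map N.subtype : Subgroup G) : Set G)).index = p ^ a) : ∃ χ : Cfsg.IrrCharacter G, χ ∈ (Cfsg.principalBlock M G) ∧ (∃ n : ℕ, ¬ p ∣ n ∧ ∀ g : G, (χ : G → ℂ) g ∈ IntermediateField.adjoin ℚ ({Complex.exp (2 * Real.pi * Complex.I / n)} : Set ℂ)) ∧ ∀ n : ↥N, (χ : G → ℂ) n = (θ : ↥N → ℂ) n := by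
  classical
  obtain ⟨m, hm, hrat⟩ := hrat
  obtain ⟨a, hidx⟩ := hidx
  haveI := Fintype.ofFinite G
  haveI := Fintype.ofFinite N
  haveI : M.IsPrime := hM.2.1.isPrime
  exact main hp hM N θ (fun g n => hinv g n _ (MulAut.conjNormal_apply g n)) hdeg m hm hrat hB Q hidx

end Cfsg.Agent.S4892
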