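import Cfsg.Statements.S4911
import Cfsg.Agent.Lib.CT.Tables
import Cfsg.Agent.Lib.Glauberman.Corr
import Cfsg.Agent.Lib.Glauberman.Solvable
import Mathlib.GroupTheory.Nilpotent

set_option autoImplicit false
set_option linter.all false
open Cfsg

namespace Cfsg.Agent.S4911

open Cfsg.Agent.CT Cfsg.Agent.Glauberman
open scoped ComplexConjugate

universe u v

variable {K : Type u} [Group K] [Fintype K] {A : Type v} [Group A] [Finite A] (φ : A →* MulAut K)
  {p : ℕ} [Fact p.Prime]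

theorem main (hA : IsPGroup p A) (hK : ¬ p ∣ Nat.card K) :
    Nat.card {θ : Cfsg.IrrCharacter K //
        (∀ k, ((θ : K → ℂ) k).im = 0) ∧ Inv φ (θ : K → ℂ)} =
      Nat.card {c : ConjClasses K // (∀ k, ConjClasses.mk k = c → IsConj k k⁻¹) ∧
        ∀ a k, ConjClasses.mk k = c → ConjClasses.mk (φ a k) = c} := by
  classical
  haveI := Fintype.ofFinite (fixedPts φ)
  haveI : Group.IsNilpotent A := hA.isNilpotent
  have hsolv : Group.IsSolvable A := inferInstance
  have hcop : (Nat.card A).Coprime (Nat.card K) := by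
    obtain ⟨m, hm⟩ := IsPGroup.iff_card.mp hA
    rw [hm]
    exact ((Fact.out : p.Prime).coprime_iff_not_dvd.mpr hK).pow_left m
  obtain ⟨Φ, hΦ⟩ := corr hA hK (fixedPts φ).subtype_injective (range_fixedPts φ)
  let cI : {χ : Cfsg.IrrCharacter K // Inv φ (χ : K → ℂ)} →
      {χ : Cfsg.IrrCharacter K // Inv φ (χ : K → ℂ)} :=
    fun χ => ⟨conjEquiv χ.1, fun a g => by
      rw [conjEquiv_apply, conjEquiv_apply, χ.2 a g]⟩
  have hcomm : ∀ χ, Φ (cI χ) = conjEquiv (Φ χ) := by
    intro χ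
    have hres : ∀ ψ : {χ : Cfsg.IrrCharacter K // Inv φ (χ : K → ℂ)},
        Cfsg.IsCharacter (fixedPts φ) (fun c => (ψ.1 : K → ℂ) ((fixedPts φ).subtype c)) :=
      fun ψ => isCharacter_restrict (fixedPts φ) (isCharacter_of_isIrr ψ.1.2)
    have h1 := hΦ χ (Φ χ) _ (mult_spec (hres χ) (isCharacter_of_isIrr (Φ χ).2))
    have h2 := (h1.1.mpr rfl)
    have h3 : Cfsg.classInner (fun c => ((cI χ).1 : K → ℂ) ((fixedPts φ).subtype c))
        (conjEquiv (Φ χ) : fixedPts φ → ℂ) =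
        ((mult (fun c => (χ.1 : K → ℂ) ((fixedPts φ).subtype c)) (Φ χ : fixedPts φ → ℂ) : ℕ) : ℂ) := by
      rw [← Complex.conj_natCast, ← mult_spec (hres χ) (isCharacter_of_isIrr (Φ χ).2)]
      simp only [Cfsg.classInner, map_mul, map_sum, map_inv₀, map_natCast, cI, conjEquiv_apply]
    exact ((hΦ (cI χ) _ _ h3).1.mp h2).symm
  have e1 : Nat.card {θ : Cfsg.IrrCharacter K //
      (∀ k, ((θ : K → ℂ) k).im = 0) ∧ Inv φ (θ : K → ℂ)} =
      Nat.card {δ : Cfsg.IrrCharacter (fixedPts φ) //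
        ∀ c, ((δ : fixedPts φ → ℂ) c).im = 0} := by
    have hr : ∀ {H : Type u} [Group H] [Fintype H] (χ : Cfsg.IrrCharacter H),
        (∀ g, ((χ : H → ℂ) g).im = 0) ↔ conjEquiv χ = χ := by
      intro H _ _ χ
      rw [Subtype.ext_iff, funext_iff]
      exact forall_congr' fun g => by rw [conjEquiv_apply, Complex.conj_eq_iff_im]
    refine Nat.card_congr (Equiv.trans (Equiv.trans
      (Equiv.subtypeEquivRight (fun θ => and_comm))
      (Equiv.subtypeSubtypeEquivSubtypeInter _ _).symm)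
      (Φ.subtypeEquiv fun χ => ?_))
    rw [hr, hr]
    constructor
    · intro h
      rw [← hcomm χ]
      exact congrArg Φ (Subtype.ext h)
    · intro h
      rw [← hcomm χ] at h
      exact congrArg Subtype.val (Φ.injective h)
  rw [e1, card_real_irr]
  let F : {C : ConjClasses (fixedPts φ) // ∀ g, ConjClasses.mk g = C → IsConj g g⁻¹} →
      {c : ConjClasses K // (∀ k, ConjClasses.mk k = c → IsConj k k⁻¹) ∧
        ∀ a k, ConjClasses.mk k = c → ConjClasses.mk (φ a k) = c} :=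
    fun C => ⟨ConjClasses.map (fixedPts φ).subtype C.1, by
      obtain ⟨c, hc⟩ := ConjClasses.mk_surjective C.1
      have hc' : ConjClasses.map (fixedPts φ).subtype C.1 = ConjClasses.mk (c : K) := by
        rw [← hc]; rfl
      rw [hc']
      refine ⟨fun k hk => ?_, fun a k hk => ?_⟩
      · have h1 := ConjClasses.mk_eq_mk_iff_isConj.mp hk
        have h2 : IsConj (c : K) (c : K)⁻¹ :=
          MonoidHom.map_isConj (fixedPts φ).subtype (C.2 c hc)
        obtain ⟨d, hd⟩ := isConj_iff.mp h1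
        exact h1.trans (h2.trans (isConj_iff.mpr ⟨d, by rw [← conj_inv, hd]⟩ :
          IsConj k⁻¹ (c : K)⁻¹).symm)
      · have h1 := ConjClasses.mk_eq_mk_iff_isConj.mp hk
        have h2 := MonoidHom.map_isConj (φ a).toMonoidHom h1
        refine ConjClasses.mk_eq_mk_iff_isConj.mpr (h2.trans ?_)
        show IsConj (φ a c.1) c.1
        rw [c.2 a]⟩
  refine Nat.card_eq_of_bijective F ⟨?_, ?_⟩
  · intro C D h
    apply Subtype.ext
    obtain ⟨c, hc⟩ := ConjClasses.mk_surjective C.1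
    obtain ⟨d, hd⟩ := ConjClasses.mk_surjective D.1
    have h' := congrArg Subtype.val h
    simp only [F, ← hc, ← hd] at h'
    rw [← hc, ← hd]
    exact ConjClasses.mk_eq_mk_iff_isConj.mpr (fusion_solvable φ hsolv hcop
      (ConjClasses.mk_eq_mk_iff_isConj.mp h'))
  · rintro ⟨C, hC1, hC2⟩
    obtain ⟨g, rfl⟩ := ConjClasses.mk_surjective C
    obtain ⟨c, hc, hgc⟩ := exists_fixed_of_class φ hsolv hcop g fun a =>
      ConjClasses.mk_eq_mk_iff_isConj.mp (hC2 a g rfl)
    refine ⟨⟨ConjClasses.mk ⟨c, hc⟩, fun x hx => ?_⟩,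
      Subtype.ext (ConjClasses.mk_eq_mk_iff_isConj.mpr hgc.symm)⟩
    have h1 : IsConj (x : K) c :=
      MonoidHom.map_isConj (fixedPts φ).subtype (ConjClasses.mk_eq_mk_iff_isConj.mp hx)
    have h2 : IsConj (x : K) (x : K)⁻¹ :=
      hC1 x (ConjClasses.mk_eq_mk_iff_isConj.mpr (h1.trans hgc.symm))
    exact fusion_solvable φ hsolv hcop (c := x) (c' := x⁻¹) h2

/-- Let P and K be subgroups of a finite group with P a p-group normalizing K and K of order prime to p. Then the number of P-invariant real-valued irreducible complex characters of K equals the number of conjugacy classes of K that are real (closed under inversion) and P-invariant. Moreover, if every real-valued irreducible character of K is P-invariant, then every real element of K (one conjugate in K to its inverse) is conjugate in K to an element centralized by P. -/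
theorem result {G : Type*} [Group G] [Finite G] (p : ℕ) [Fact p.Prime] (P K : Subgroup G) (hP : IsPGroup p ↥P) (hK : ¬ p ∣ Nat.card ↥K) (hPK : P ≤ Subgroup.normalizer (K : Set G)) : Nat.card {θ : Cfsg.IrrCharacter ↥K // (∀ k : ↥K, ((θ : ↥K → ℂ) k).im = 0) ∧ (∀ x ∈ P, ∀ k k' : ↥K, (k' : G) = x * (k : G) * x⁻¹ → (θ : ↥K → ℂ) k' = (θ : ↥K → ℂ) k)} = Nat.card {c : ConjClasses ↥K // (∀ k : ↥K, ConjClasses.mk k = c → IsConj k k⁻¹) ∧ ∀ k : ↥K, ConjClasses.mk k = c → ∀ x ∈ P, ∀ k' : ↥K, (k' : G) = x * (k : G) * x⁻¹ → ConjClasses.mk k' = c} ∧ ((∀ θ : Cfsg.IrrCharacter ↥K, (∀ k : ↥K, ((θ : ↥K → ℂ) k).im = 0) → (∀ x ∈ P, ∀ k k' : ↥K, (k' : G) = x * (k : G) * x⁻¹ → (θ : ↥K → ℂ) k' = (θ : ↥K → ℂ) k)) → ∀ k : ↥K, IsConj k k⁻¹ → ∃ k' : ↥K, IsConj k k' ∧ ∀ x ∈ P, x * (k' : G) * x⁻¹ = (k' : G)) := by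
  classical
  haveI := Fintype.ofFinite K
  let φ : ↥P →* MulAut K := K.normalizerMonoidHom.comp (Subgroup.inclusion hPK)
  have hφ : ∀ (a : P) (k : K), ((φ a k : K) : G) = (a : G) * k * (a : G)⁻¹ := fun a k => rfl
  have hiff : ∀ θ : Cfsg.IrrCharacter K,
      (∀ x ∈ P, ∀ k k' : ↥K, (k' : G) = x * (k : G) * x⁻¹ →
        (θ : ↥K → ℂ) k' = (θ : ↥K → ℂ) k) ↔
      Cfsg.Agent.Glauberman.Inv φ (θ : K → ℂ) := by
    intro θ
    refine ⟨fun h a k => h a a.2 k (φ a k) (hφ a k), fun h x hx k k' e => ?_⟩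
    rw [show k' = φ ⟨x, hx⟩ k from Subtype.ext e]
    exact h _ _
  have hiff2 : ∀ c : ConjClasses K,
      (∀ k : ↥K, ConjClasses.mk k = c → ∀ x ∈ P, ∀ k' : ↥K, (k' : G) = x * (k : G) * x⁻¹ →
        ConjClasses.mk k' = c) ↔
      ∀ a k, ConjClasses.mk k = c → ConjClasses.mk (φ a k) = c := by
    intro c
    refine ⟨fun h a k hk => h k hk a a.2 _ (hφ a k), fun h k hk x hx k' e => ?_⟩
    rw [show k' = φ ⟨x, hx⟩ k from Subtype.ext e]
    exact h _ k hk
  have hmain := main φ hP hK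
  refine ⟨?_, fun hall k hk => ?_⟩
  · refine ((Nat.card_congr (Equiv.subtypeEquivRight fun θ => and_congr_right fun _ => hiff θ)).trans
      hmain).trans (Nat.card_congr (Equiv.subtypeEquivRight fun c =>
        and_congr_right fun _ => (hiff2 c).symm))
  -- every real class is invariant
  haveI : Finite (ConjClasses K) := Finite.of_surjective _ ConjClasses.mk_surjective
  have hcard : Nat.card {c : ConjClasses K // (∀ k, ConjClasses.mk k = c → IsConj k k⁻¹)} ≤
      Nat.card {c : ConjClasses K // (∀ k, ConjClasses.mk k = c → IsConj k k⁻¹) ∧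
        ∀ a k, ConjClasses.mk k = c → ConjClasses.mk (φ a k) = c} := by
    rw [← hmain, ← Cfsg.Agent.CT.card_real_irr]
    exact le_of_eq (Nat.card_congr (Equiv.subtypeEquivRight fun θ =>
      ⟨fun h => ⟨h, (hiff θ).mp (hall θ h)⟩, fun h => h.1⟩))
  let ι : {c : ConjClasses K // (∀ k, ConjClasses.mk k = c → IsConj k k⁻¹) ∧
        ∀ a k, ConjClasses.mk k = c → ConjClasses.mk (φ a k) = c} →
      {c : ConjClasses K // (∀ k, ConjClasses.mk k = c → IsConj k k⁻¹)} := fun c => ⟨c.1, c.2.1⟩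
  have hinj : Function.Injective ι := fun a b h => Subtype.ext (congrArg (fun z => z.1) h)
  have hbij := (Nat.bijective_iff_injective_and_card ι).mpr
    ⟨hinj, le_antisymm (Nat.card_le_card_of_injective ι hinj) hcard⟩
  have hreal : ∀ k', ConjClasses.mk k' = ConjClasses.mk k → IsConj k' k'⁻¹ := by
    intro k' e
    have h1 := ConjClasses.mk_eq_mk_iff_isConj.mp e
    obtain ⟨d, hd⟩ := isConj_iff.mp h1
    exact h1.trans (hk.trans (isConj_iff.mpr ⟨d, by rw [← conj_inv, hd]⟩ : IsConj k'⁻¹ k⁻¹).symm)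
  obtain ⟨c, hc⟩ := hbij.2 ⟨ConjClasses.mk k, hreal⟩
  have hc' : c.1 = ConjClasses.mk k := congrArg Subtype.val hc
  have hcop : (Nat.card P).Coprime (Nat.card K) := by
    obtain ⟨m, hm⟩ := IsPGroup.iff_card.mp hP
    rw [hm]
    exact ((Fact.out : p.Prime).coprime_iff_not_dvd.mpr hK).pow_left m
  haveI : Group.IsNilpotent P := hP.isNilpotent
  obtain ⟨k', hk', hkk⟩ := Cfsg.Agent.Glauberman.exists_fixed_of_class φ inferInstance hcop k fun a =>
    ConjClasses.mk_eq_mk_iff_isConj.mp ((c.2.2 a k hc'.symm).trans hc')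
  exact ⟨k', hkk, fun x hx => congrArg Subtype.val (hk' ⟨x, hx⟩)⟩

end Cfsg.Agent.S4911
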