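import Cfsg.Statements.S4912
import Cfsg.Agent.Lib.CT.LinearTwist
import Cfsg.Agent.Lib.CT.FsInduced

set_option autoImplicit false
open Cfsg

namespace Cfsg.Agent.S4912

/-- Let G be a finite group with a non-abelian minimal normal subgroup N, and let φ be an irreducible complex character of N with stabilizer I in G such that φ extends to an irreducible character of I with Frobenius–Schur indicator +1. Put d = φ(1)·[G : I]. Then the number of linear characters of G with Frobenius–Schur indicator +1 is at most [G : I] times the number of irreducible characters of G of degree d with Frobenius–Schur indicator +1. -/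
theorem result {G : Type*} [Group G] [Finite G] (N : Subgroup G) (hN : N.Normal) (hN1 : N ≠ ⊥) (hmin : ∀ M : Subgroup G, M.Normal → M ≤ N → M = ⊥ ∨ M = N) (hna : ¬ IsMulCommutative ↥N) (φ : Cfsg.IrrCharacter ↥N) (I : Subgroup G) (hI : ∀ g : G, g ∈ I ↔ ∀ n n' : ↥N, (n' : G) = g * (n : G) * g⁻¹ → (φ : ↥N → ℂ) n' = (φ : ↥N → ℂ) n) (hNI : N ≤ I) (hext : ∃ ψ : Cfsg.IrrCharacter ↥I, (Nat.card ↥I : ℂ)⁻¹ * ∑ᶠ g : ↥I, (ψ : ↥I → ℂ) (g * g) = 1 ∧ ∀ n : ↥N, (ψ : ↥I → ℂ) (Subgroup.inclusion hNI n) = (φ : ↥N → ℂ) n) : Nat.card {χ : Cfsg.IrrCharacter G // Cfsg.charDegree (χ : G → ℂ) = 1 ∧ (Nat.card G : ℂ)⁻¹ * ∑ᶠ g : G, (χ : G → ℂ) (g * g) = 1} ≤ I.index * Nat.card {χ : Cfsg.IrrCharacter G // Cfsg.charDegree (χ : G → ℂ) = Cfsg.charDegree (φ : ↥N → ℂ) * I.index ∧ (Nat.card G : ℂ)⁻¹ * ∑ᶠ g : G, (χ : G → ℂ) (g * g) = 1} := by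
  classical
  haveI := Fintype.ofFinite G
  haveI := Fintype.ofFinite I
  haveI := Fintype.ofFinite N
  haveI := hN
  obtain ⟨ψ, hψ1, hψ⟩ := hext
  rw [finsum_eq_sum_of_fintype] at hψ1
  refine Cfsg.Agent.CT.card_linear_le N
    (Cfsg.Agent.CT.le_commutator_of_minimal N hN hmin hna) φ I hI hNI ψ hψ _ _ ?_
  intro lam χ hlam hlam1 hχ
  obtain ⟨f, hf⟩ := Cfsg.Agent.CT.exists_hom_of_degree_one
    (Cfsg.Agent.CT.isCharacter_of_isIrr lam.2)
    (by rw [Cfsg.Agent.Blocks.charDegree_cast, hlam, Nat.cast_one])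
  have hsq : ∀ g, f (g * g) = 1 := by
    by_contra h
    push Not at h
    obtain ⟨g₀, hg₀⟩ := h
    rw [finsum_eq_sum_of_fintype] at hlam1
    have h2 : (Units.coeHom ℂ).comp (f * f) ≠ 1 := fun h => hg₀ (by
      have := DFunLike.congr_fun h g₀
      rw [map_mul]
      exact Units.ext (by simpa using this))
    have h0 := sum_hom_units_eq_zero _ h2
    rw [hf] at hlam1
    simp only [MonoidHom.comp_apply, MonoidHom.mul_apply, Units.coeHom_apply] at h0
    simp only [map_mul] at hlam1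
    rw [h0, mul_zero] at hlam1
    exact zero_ne_one hlam1
  have hirr : Cfsg.IsIrrCharacter G (indFun I (ψ : I → ℂ)) := by
    refine (Cfsg.Agent.CT.isIrr_indFun_of_over_le N φ.2 I ?_ hNI ψ.2 ?_).1
    · intro g hg
      rw [hI]
      intro n n' h
      have := congrFun ((Cfsg.Agent.CT.mem_inertia N).mp hg) n
      rw [← this]
      exact congrArg _ (Subtype.ext (by simp [h]))
    · rw [show Cfsg.Agent.CT.resTo N I hNI (ψ : I → ℂ) = (φ : N → ℂ) from funext fun n => hψ n,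
        Cfsg.Agent.CT.irr_inner_self φ.2]
      exact one_ne_zero
  have h1 := Cfsg.Agent.CT.fsInd_indFun_eq_one I (Cfsg.Agent.CT.isCharacter_of_isIrr ψ.2) hψ1 hirr
  rw [Cfsg.Agent.CT.fsInd] at h1
  rw [finsum_eq_sum_of_fintype, hχ]
  simp only [Pi.mul_apply, hf, hsq, Units.val_one, mul_one]
  exact h1

end Cfsg.Agent.S4912
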