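import Cfsg.Statements.S4914
import Cfsg.Agent.Lib.CT.RelCorrMain
import Cfsg.Agent.Lib.Glauberman.Conj

set_option autoImplicit false
set_option linter.all false
open Cfsg

namespace Cfsg.Agent.S4914

/-- Let P and K be subgroups of a finite group G with P a p-group normalizing K, and suppose K has a normal Sylow p-subgroup Q. Let C be the subgroup of those k ∈ K whose commutator with every element of P lies in Q (so that C/Q is the fixed-point subgroup of P on K/Q). Then there is a bijection f from the P-invariant irreducible complex characters of K onto the P-invariant irreducible complex characters of C such that, for every P-invariant irreducible character χ of K, the multiplicity of f(χ) in the restriction of χ to C is a natural number congruent to 1 or to −1 modulo p, every other P-invariant irreducible character of C occurs in that restriction with multiplicity divisible by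 p, and the degrees of χ and f(χ) are congruent modulo p up to sign. -/
theorem result {G : Type*} [Group G] [Finite G] (p : ℕ) [Fact p.Prime] (P K Q C : Subgroup G) (hP : IsPGroup p ↥P) (hPK : P ≤ Subgroup.normalizer (K : Set G)) (hQK : Q ≤ K) (hQn : ∀ k ∈ K, ∀ q ∈ Q, k * q * k⁻¹ ∈ Q) (hQp : ∃ a : ℕ, Nat.card ↥Q = p ^ a) (hQsyl : ¬ p ∣ Q.relIndex K) (hCK : C ≤ K) (hC : ∀ k : G, k ∈ C ↔ (k ∈ K ∧ ∀ x ∈ P, x * k * x⁻¹ * k⁻¹ ∈ Q)) : ∃ f : {χ : Cfsg.IrrCharacter ↥K // (∀ x ∈ P, ∀ k k' : ↥K, (k' : G) = x * (k : G) * x⁻¹ → (χ : ↥K → ℂ) k' = (χ : ↥K → ℂ) k)} → {ξ : Cfsg.IrrCharacter ↥C // (∀ x ∈ P, ∀ k k' : ↥C, (k' : G) = x * (k : G) * x⁻¹ → (ξ : ↥C → ℂ) k' = (ξ : ↥C → ℂ) k)}, Function.Bijective f ∧ ∀ χ, (∀ ξ : {ξ : Cfsg.IrrCharacter ↥C // (∀ x ∈ P, ∀ k k' : ↥C, (k' : G) = x * (k : G) * x⁻¹ → (ξ : ↥C → ℂ) k' = (ξ : ↥C → ℂ) k)}, ∃ m : ℕ, (Nat.card ↥C : ℂ)⁻¹ * ∑ᶠ c : ↥C, (χ.1 : ↥K → ℂ) (Subgroup.inclusion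 hCK c) * (starRingEnd ℂ) ((ξ.1 : ↥C → ℂ) c) = (m : ℂ) ∧ (ξ = f χ → ((m : ZMod p) = 1 ∨ (m : ZMod p) = -1)) ∧ (ξ ≠ f χ → p ∣ m)) ∧ ((Cfsg.charDegree ((f χ).1 : ↥C → ℂ) : ZMod p) = (Cfsg.charDegree (χ.1 : ↥K → ℂ) : ZMod p) ∨ (Cfsg.charDegree ((f χ).1 : ↥C → ℂ) : ZMod p) = -(Cfsg.charDegree (χ.1 : ↥K → ℂ) : ZMod p)) := by
  classical
  have hp := (Fact.out : p.Prime)
  haveI := Fintype.ofFinite G
  haveI := Fintype.ofFinite K
  haveI := Fintype.ofFinite C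
  haveI := Fintype.ofFinite P
  set Q' : Subgroup K := Q.subgroupOf K with hQ'
  haveI : Q'.Normal := ⟨fun n hn g => hQn g.1 g.2 n.1 hn⟩
  haveI := Fintype.ofFinite Q'
  have hQp' : IsPGroup p Q' := by
    obtain ⟨a, ha⟩ := hQp
    exact (IsPGroup.of_card ha).of_equiv (Subgroup.subgroupOfEquivOfLe hQK).symm
  have hidx : ¬ p ∣ Q'.index := hQsyl
  have hnormK : ∀ x ∈ P, ∀ k ∈ K, x * k * x⁻¹ ∈ K := fun x hx k hk =>
    (Subgroup.mem_normalizer_iff.mp (hPK hx) k).mp hk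
  have hQst : ∀ x ∈ P, ∀ q ∈ Q, x * q * x⁻¹ ∈ Q := by
    intro x hx q hq
    have hk := hnormK x hx q (hQK hq)
    obtain ⟨a, ha⟩ := hQp
    obtain ⟨b, hb⟩ := (IsPGroup.of_card ha) ⟨q, hq⟩
    have hb' : q ^ p ^ b = 1 := congrArg Subtype.val hb
    have h1 : (⟨x * q * x⁻¹, hk⟩ : K) ^ p ^ b = 1 := Subtype.ext (by simp [conj_pow, hb'])
    have h2 : ((⟨x * q * x⁻¹, hk⟩ : K) : K ⧸ Q') = 1 := by
      refine orderOf_eq_one_iff.mp (Nat.eq_one_of_dvd_coprimes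
        (RelCorr.coprime_of_dvd_pow hp hidx (dvd_refl (p ^ b))) (orderOf_dvd_natCard _) ?_)
      exact orderOf_dvd_of_pow_eq_one (by rw [← QuotientGroup.mk_pow, h1, QuotientGroup.mk_one])
    exact (QuotientGroup.eq_one_iff (⟨x * q * x⁻¹, hk⟩ : K)).mp h2
  have hnormC : ∀ x ∈ P, ∀ k ∈ C, x * k * x⁻¹ ∈ C := by
    intro x hx k hk
    obtain ⟨hkK, hkP⟩ := (hC k).mp hk
    refine (hC _).mpr ⟨hnormK x hx k hkK, fun y hy => ?_⟩
    have h := hQst x hx _ (hkP (x⁻¹ * y * x) (P.mul_mem (P.mul_mem (P.inv_mem hx) hy) hx))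
    simpa [mul_assoc] using h
  set φ := Glauberman.conjAct K P hnormK with hφ
  set φC := Glauberman.conjAct C P hnormC with hφC
  have hrange : ∀ k : K, k ∈ (Subgroup.inclusion hCK).range ↔ ∀ a, φ a k * k⁻¹ ∈ Q' := by
    intro k
    constructor
    · rintro ⟨c, rfl⟩ a
      exact ((hC c).mp c.2).2 a.1 a.2
    · intro h
      exact ⟨⟨k, (hC k).mpr ⟨k.2, fun x hx => h ⟨x, hx⟩⟩⟩, rfl⟩
  obtain ⟨f, hf, hspec⟩ := RelCorr.main φ φC (Subgroup.inclusion hCK) (Subgroup.inclusion_injective hCK)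
    (fun a c => rfl) Q' (fun a q hq => hQst a.1 a.2 _ hq) hrange hP hQp' hidx
  have eK : ∀ χ : IrrCharacter K, (∀ x ∈ P, ∀ k k' : ↥K, (k' : G) = x * (k : G) * x⁻¹ →
      (χ : ↥K → ℂ) k' = (χ : ↥K → ℂ) k) ↔ Glauberman.Inv φ (χ : ↥K → ℂ) :=
    fun χ => Glauberman.inv_conjAct_iff K P hnormK _
  have eC : ∀ χ : IrrCharacter C, (∀ x ∈ P, ∀ k k' : ↥C, (k' : G) = x * (k : G) * x⁻¹ →
      (χ : ↥C → ℂ) k' = (χ : ↥C → ℂ) k) ↔ Glauberman.Inv φC (χ : ↥C → ℂ) :=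
    fun χ => Glauberman.inv_conjAct_iff C P hnormC _
  let eKe := Equiv.subtypeEquivRight eK
  let eCe := Equiv.subtypeEquivRight eC
  refine ⟨fun χ => eCe.symm (f (eKe χ)), (eCe.symm.bijective.comp hf).comp eKe.bijective, fun χ =>
    ⟨fun ξ => ?_, ?_⟩⟩
  · obtain ⟨h1, h2⟩ := (hspec (eKe χ)).1 (eCe ξ)
    refine ⟨_, ?_, fun e => h1 (by rw [e, Equiv.apply_symm_apply]), fun hne => h2 (fun e => hne ?_)⟩
    · rw [finsum_eq_sum_of_fintype]
      exact CT.mult_spec (CT.isCharacter_comp _ (CT.isCharacter_of_isIrr χ.1.2))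
        (CT.isCharacter_of_isIrr ξ.1.2)
    · exact eCe.injective (e.trans (Equiv.apply_symm_apply _ _).symm)
  · exact (hspec (eKe χ)).2

end Cfsg.Agent.S4914
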