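import Cfsg.Statements.S4916
import Cfsg.Agent.Lib.Blocks.PrincipalHeight

set_option autoImplicit false
open Cfsg

namespace Cfsg.Agent.S4916

/-- Let G be a finite group, p a prime and M a maximal ideal of the algebraic integers containing p. Then the principal character is the only irreducible character of degree prime to p in the principal p-block of G if and only if p does not divide the order of G. -/
theorem result {G : Type*} [Group G] [Finite G] (p : ℕ) [Fact p.Prime] (M : Ideal Cfsg.AlgInt) (hM : Cfsg.IsPModular p M) : (∀ χ : Cfsg.IrrCharacter G, χ ∈ Cfsg.principalBlock M G → ¬ p ∣ Cfsg.charDegree (χ : G → ℂ) → (χ : G → ℂ) = fun _ => (1 : ℂ)) ↔ ¬ p ∣ Nat.card G := by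
  classical
  haveI := Fintype.ofFinite G
  haveI : M.IsPrime := hM.2.1.isPrime
  constructor
  · intro h hd
    obtain ⟨χ, hχ, hne, hpd⟩ := Cfsg.Agent.Blocks.exists_ne_triv_of_dvd hM hd
    exact hne (Subtype.ext (h χ hχ hpd))
  · intro hd χ hχ _
    have htriv : ∀ g : G, (χ : G → ℂ) g = (χ : G → ℂ) 1 := fun g =>
      Cfsg.Agent.Blocks.apply_eq_one_of_mem_principalBlock (N := ⊤) hM
        (by rwa [Subgroup.card_top]) hχ (Subgroup.mem_top g)
    have h1 := Cfsg.Agent.CT.irr_inner_self χ.2
    have hconst : (χ : G → ℂ) = fun _ => (Cfsg.charDegree (χ : G → ℂ) : ℂ) := funext fun g => by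
      rw [htriv g, Cfsg.Agent.Blocks.charDegree_cast]
    rw [hconst, Cfsg.classInner] at h1
    simp only [Complex.conj_natCast, Finset.sum_const, Finset.card_univ, nsmul_eq_mul,
      ← Nat.card_eq_fintype_card] at h1
    rw [inv_mul_cancel_left₀ Cfsg.Agent.CT.card_ne_zero] at h1
    have : Cfsg.charDegree (χ : G → ℂ) = 1 := by
      have : Cfsg.charDegree (χ : G → ℂ) * Cfsg.charDegree (χ : G → ℂ) = 1 := by exact_mod_cast h1
      exact Nat.eq_one_of_mul_eq_one_right this
    rw [hconst, this, Nat.cast_one]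

end Cfsg.Agent.S4916
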