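import Cfsg.Statements.S4923
import Cfsg.Agent.Lib.CT.ValueField
import Cfsg.Agent.Lib.CT.PSqAbel
import Cfsg.Agent.Lib.Invol.MaxClassTwo

set_option autoImplicit false
set_option linter.all false
open Cfsg

namespace Cfsg.Agent.S4923

open scoped commutatorElement IntermediateField
open Cfsg.Agent
open Cfsg.Agent.CT

universe u

theorem exp_facts {M j : ℕ} {e : ℕ} (hM : M = 2 ^ (e + 2)) (hj : j + 1 = M ∨ (1 ≤ e ∧ j + 1 = 2 ^ (e + 1))) :
    j.Coprime M ∧ j * j ≡ 1 [MOD M] ∧ 1 ≤ j ∧ (j - 1).gcd M = 2 ∧ (M - (j - 1) % M).gcd M = 2 := by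
  have hpe : 1 ≤ 2 ^ e := Nat.one_le_two_pow
  have hM4 : M = 4 * 2 ^ e := by rw [hM, pow_add]; ring
  have hgcd2 : (j - 1).gcd M = 2 := by
    rcases hj with hj | ⟨he, hj⟩
    · have h1 : j - 1 = 2 * (2 * 2 ^ e - 1) := by omega
      have h2 : M = 2 * 2 ^ (e + 1) := by rw [hM, pow_succ']
      rw [h1, h2, Nat.gcd_mul_left, Nat.Coprime.gcd_eq_one, mul_one]
      exact Nat.Coprime.pow_right _ ((Nat.prime_two.coprime_iff_not_dvd.mpr (by omega)).symm)
    · obtain ⟨e', rfl⟩ : ∃ e', e = e' + 1 := ⟨e - 1, by omega⟩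
      have hpe' : 1 ≤ 2 ^ e' := Nat.one_le_two_pow
      have h1 : j - 1 = 2 * (2 * 2 ^ e' - 1) := by rw [pow_add] at hj; omega
      have h2 : M = 2 * 2 ^ (e' + 2) := by rw [hM, pow_succ']
      rw [h1, h2, Nat.gcd_mul_left, Nat.Coprime.gcd_eq_one, mul_one]
      exact Nat.Coprime.pow_right _ ((Nat.prime_two.coprime_iff_not_dvd.mpr (by omega)).symm)
  refine ⟨?_, ?_, ?_, hgcd2, ?_⟩
  · rw [hM]
    refine Nat.Coprime.pow_right _ ((Nat.prime_two.coprime_iff_not_dvd.mpr ?_).symm)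
    rcases hj with hj | ⟨he, hj⟩
    · omega
    · rw [pow_succ] at hj; omega
  · rcases hj with hj | ⟨he, hj⟩
    · refine ((Nat.modEq_iff_dvd).mpr ⟨-((j : ℤ) - 1), ?_⟩)
      push_cast [← hj]
      ring
    · obtain ⟨e', rfl⟩ : ∃ e', e = e' + 1 := ⟨e - 1, by omega⟩
      refine ((Nat.modEq_iff_dvd).mpr ⟨-((2 : ℤ) ^ (e' + 1) - 1), ?_⟩)
      have hjz : (j : ℤ) = 2 ^ (e' + 2) - 1 := by
        have : ((j + 1 : ℕ) : ℤ) = 2 ^ (e' + 2) := by rw [hj]; push_cast; rfl
        push_cast at this; linarith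
      rw [hM]
      push_cast
      rw [hjz]
      ring
  · rcases hj with hj | ⟨he, hj⟩
    · omega
    · have : 2 ≤ 2 ^ (e + 1) := Nat.le_self_pow (by omega) 2
      omega
  · have hMpos : 0 < M := by omega
    have hd : M - (j - 1) % M ≡ M - (j - 1) % M [MOD M] := rfl
    rw [Nat.gcd_comm, Nat.gcd_self_sub_right (Nat.mod_lt _ hMpos).le, Nat.gcd_comm, ← Nat.gcd_rec,
      Nat.gcd_comm, hgcd2]

theorem conj_pow_of_eq {G : Type u} [Group G] {h g : G} {k : ℕ} (hh : h * g * h⁻¹ = g ^ k) (i : ℕ) :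
    h ^ i * g * (h ^ i)⁻¹ = g ^ (k ^ i) := by
  induction i with
  | zero => simp
  | succ i ih =>
    calc h ^ (i + 1) * g * (h ^ (i + 1))⁻¹ = h * (h ^ i * g * (h ^ i)⁻¹) * h⁻¹ := by
          rw [pow_succ']; group
      _ = (h * g * h⁻¹) ^ (k ^ i) := by rw [ih, conj_pow]
      _ = g ^ (k ^ (i + 1)) := by rw [hh, ← pow_mul, ← pow_succ']

theorem mem_normalizer_of_conj {G : Type u} [Group G] [Finite G] {h g : G} {k : ℕ} (hh : h * g * h⁻¹ = g ^ k) :
    h ∈ Subgroup.normalizer (Subgroup.zpowers g : Set G) := by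
  have h1 : (Subgroup.zpowers g).map (MulAut.conj h).toMonoidHom = Subgroup.zpowers g := by
    refine Subgroup.eq_of_le_of_card_ge ?_ ?_
    · rw [MonoidHom.map_zpowers, Subgroup.zpowers_le]
      show h * g * h⁻¹ ∈ _
      rw [hh]
      exact Subgroup.pow_mem _ (Subgroup.mem_zpowers g) k
    · rw [Subgroup.card_map_of_injective (MulAut.conj h).injective]
  rw [Subgroup.mem_normalizer_iff]
  intro y
  constructor
  · intro hy
    rw [← h1]
    exact ⟨y, hy, rfl⟩
  · intro hy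
    rw [← h1] at hy
    obtain ⟨z, hz, hze⟩ := hy
    rw [show y = z from ((MulAut.conj h).injective hze).symm]
    exact hz

theorem fix_iff {M j : ℕ} [NeZero M] {ζ : ℂ} (hζ : IsPrimitiveRoot ζ M) {ε : ℂ} (hε : ε = 1 ∨ ε = -1)
    (hjε : ζ ^ j = ε * ζ⁻¹) {k : ℕ} (hk : k.Coprime M) (hjj : j * j ≡ 1 [MOD M]) {f : ℂ ≃+* ℂ}
    (hf : ∀ z : ℂ, z ^ M = 1 → f z = z ^ k) :
    f (ζ + ζ ^ j) = ζ + ζ ^ j ↔ k ≡ 1 [MOD M] ∨ k ≡ j [MOD M] := by
  have hpow : ∀ a b : ℕ, a ≡ b [MOD M] ↔ ζ ^ a = ζ ^ b := fun a b => by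
    set w := Units.mk0 ζ (hζ.ne_zero (NeZero.ne M)) with hw
    have ho : orderOf w = M := by rw [← orderOf_units, Units.val_mk0, ← hζ.eq_orderOf]
    rw [← ho, ← pow_eq_pow_iff_modEq, Units.ext_iff, Units.val_pow_eq_pow_val, Units.val_pow_eq_pow_val,
      Units.val_mk0]
  rw [map_add, map_pow, hf ζ hζ.pow_eq_one]
  constructor
  · intro h
    set u := ζ ^ k with hu
    have hζ0 : ζ ≠ 0 := hζ.ne_zero (NeZero.ne M)
    have hu0 : u ≠ 0 := pow_ne_zero _ hζ0
    have huj : u ^ j = ε * u⁻¹ := by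
      rw [hu, ← pow_mul, mul_comm, pow_mul, hjε, mul_pow, inv_pow]
      rcases hε with rfl | rfl
      · rw [one_pow]
      · rcases Nat.even_or_odd M with hM | hM
        · rw [Odd.neg_one_pow]
          exact Nat.coprime_two_right.mp (Nat.Coprime.coprime_dvd_right hM.two_dvd hk)
        · exfalso
          have h1 : (ζ ^ j) ^ M = 1 := by rw [← pow_mul, mul_comm, pow_mul, hζ.pow_eq_one, one_pow]
          rw [hjε, mul_pow, inv_pow, hζ.pow_eq_one, inv_one, mul_one, hM.neg_one_pow] at h1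
          norm_num at h1
    rw [huj, hjε] at h
    have h2 : (u - ζ) * (u * ζ - ε) = 0 := by
      field_simp at h
      linear_combination h
    rcases mul_eq_zero.mp h2 with h3 | h3
    · refine Or.inl ((hpow _ _).mpr ?_)
      rw [← hu, pow_one]
      exact sub_eq_zero.mp h3
    · refine Or.inr ((hpow _ _).mpr ?_)
      rw [← hu, hjε, ← sub_eq_zero.mp h3, mul_inv_cancel_right₀ hζ0]
  · rintro (h | h)
    · rw [(hpow _ _).mp h, pow_one]
    · rw [(hpow _ _).mp h, ← pow_mul, ← (hpow 1 (j * j)).mp hjj.symm, pow_one, add_comm]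

theorem isCommutator_index_four {G : Type u} [Group G] [Finite G] (R : Subgroup G) (hR : IsPGroup 2 R)
    {g h : G} (hg : g ∈ R) (hh : h ∈ R) {e j : ℕ} (ho : orderOf g = 2 ^ (e + 2))
    (hgcd : (j - 1).gcd (2 ^ (e + 2)) = 2) (hj1 : 1 ≤ j) (hconj : h * g * h⁻¹ = g ^ j)
    (hcard : Nat.card R = 2 ^ (e + 3)) : (_root_.commutator R).index = 4 := by
  haveI : Fact (Nat.Prime 2) := ⟨Nat.prime_two⟩
  have hne : g ^ (j - 1) ≠ 1 := by
    intro h1
    have h2 := orderOf_dvd_of_pow_eq_one h1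
    rw [ho] at h2
    rw [Nat.gcd_eq_right h2] at hgcd
    have : 4 ≤ 2 ^ (e + 2) := by rw [pow_add]; have := Nat.one_le_two_pow (n := e); omega
    omega
  have hc : ⁅(⟨h, hh⟩ : R), (⟨g, hg⟩ : R)⁆ = (⟨g ^ (j - 1), R.pow_mem hg _⟩ : R) := by
    refine Subtype.ext ?_
    show h * g * h⁻¹ * g⁻¹ = g ^ (j - 1)
    rw [hconj, mul_inv_eq_iff_eq_mul, ← pow_succ, Nat.sub_add_cancel hj1]
  have hmem : (⟨g ^ (j - 1), R.pow_mem hg _⟩ : R) ∈ _root_.commutator R := by
    rw [← hc]
    exact Subgroup.commutator_mem_commutator (Subgroup.mem_top _) (Subgroup.mem_top _)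
  have hord : orderOf (⟨g ^ (j - 1), R.pow_mem hg _⟩ : R) = 2 ^ (e + 1) := by
    rw [← Subgroup.orderOf_coe, orderOf_pow, ho, Nat.gcd_comm, hgcd, pow_succ 2 (e + 1),
      Nat.mul_div_cancel _ (by norm_num)]
  have hle : 2 ^ (e + 1) ≤ Nat.card (_root_.commutator R) := by
    rw [← hord, ← Nat.card_zpowers]
    exact Subgroup.card_le_of_le (Subgroup.zpowers_le.mpr hmem)
  have hmul := Subgroup.card_mul_index (_root_.commutator R)
  rw [hcard] at hmul
  obtain ⟨i, hi⟩ := hR.index (_root_.commutator R)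
  have hup : (_root_.commutator R).index ≤ 4 := by
    refine Nat.le_of_mul_le_mul_left (c := 2 ^ (e + 1)) ?_ (by positivity)
    calc 2 ^ (e + 1) * (_root_.commutator R).index
        ≤ Nat.card (_root_.commutator R) * (_root_.commutator R).index := Nat.mul_le_mul_right _ hle
      _ = 2 ^ (e + 1) * 4 := by rw [hmul, pow_add 2 (e + 1) 2]; norm_num
  by_contra hne4
  have hi1 : i ≤ 1 := by
    by_contra hgt
    have : 4 ≤ 2 ^ i := le_trans (by norm_num) (Nat.pow_le_pow_right two_pos (show 2 ≤ i by omega))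
    omega
  have hcomm := PSq.comm_of_card_abelianization_le hR (by
    show Nat.card (R ⧸ _root_.commutator R) ≤ 2
    rw [← Subgroup.index_eq_card, hi]
    exact (Nat.pow_le_pow_right two_pos hi1).trans (le_of_eq (pow_one 2))) ⟨h, hh⟩ ⟨g, hg⟩
  rw [← commutatorElement_eq_one_iff_mul_comm, hc] at hcomm
  exact hne (congrArg Subtype.val hcomm)

theorem not_contains_sylow {G : Type u} [Group G] [Finite G] {g : G}
    (h : 2 ∣ (Subgroup.centralizer ({g} : Set G)).index) (S : Sylow 2 G) :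
    ¬ (S : Subgroup G) ≤ Subgroup.centralizer ({g} : Set G) := fun hle => by
  haveI : Fact (Nat.Prime 2) := ⟨Nat.prime_two⟩
  exact S.not_dvd_index (h.trans (Subgroup.index_dvd_of_le hle))

theorem backward {G : Type u} [Group G] [Finite G] (P : Sylow 2 G) (n : ℕ) (hn : 3 ≤ n)
    (hP : Nat.card P = 2 ^ n) (ζ : ℂ) (hζ : IsPrimitiveRoot ζ (2 ^ (n - 1))) {g : G}
    (hgP : g ∈ (P : Subgroup G)) (h2 : 2 ∣ (Subgroup.centralizer ({g} : Set G)).index)
    (hF : IntermediateField.adjoin ℚ {z : ℂ | ∃ χ : Cfsg.IrrCharacter G, (χ : G → ℂ) g = z} =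
        IntermediateField.adjoin ℚ ({ζ + ζ⁻¹} : Set ℂ) ∨
      IntermediateField.adjoin ℚ {z : ℂ | ∃ χ : Cfsg.IrrCharacter G, (χ : G → ℂ) g = z} =
        IntermediateField.adjoin ℚ ({ζ - ζ⁻¹} : Set ℂ)) :
    (commutator ↥(P : Subgroup G)).index = 4 := by
  classical
  haveI : Fact (Nat.Prime 2) := ⟨Nat.prime_two⟩
  have hnc : ∃ a b : ↥(P : Subgroup G), a * b ≠ b * a := by
    by_contra hcon
    push Not at hcon
    refine not_contains_sylow h2 P fun y hy => Subgroup.mem_centralizer_singleton_iff.mpr ?_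
    exact congrArg Subtype.val (hcon ⟨y, hy⟩ ⟨g, hgP⟩)
  obtain ⟨a0, b0, hab⟩ := hnc
  obtain ⟨i, hi⟩ := P.isPGroup'.index (commutator ↥(P : Subgroup G))
  have hi2 : 2 ≤ i := by
    by_contra hlt
    refine hab (PSq.comm_of_card_abelianization_le P.isPGroup' ?_ a0 b0)
    show Nat.card (_ ⧸ commutator ↥(P : Subgroup G)) ≤ 2
    rw [← Subgroup.index_eq_card, hi]
    exact (Nat.pow_le_pow_right two_pos (show i ≤ 1 by omega)).trans (le_of_eq (pow_one 2))
  rcases Nat.lt_or_ge n 4 with hn4 | hn4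
  · obtain rfl : n = 3 := by omega
    rw [hi]
    have hC : commutator ↥(P : Subgroup G) ≠ ⊥ := fun h => hab (by
      rw [← commutatorElement_eq_one_iff_mul_comm, ← Subgroup.mem_bot, ← h]
      exact Subgroup.commutator_mem_commutator (Subgroup.mem_top _) (Subgroup.mem_top _))
    have hmul := Subgroup.card_mul_index (commutator ↥(P : Subgroup G))
    rw [hi, hP] at hmul
    have hc2 : 2 ≤ Nat.card (commutator ↥(P : Subgroup G)) := by
      by_contra hlt
      refine hC (Subgroup.card_eq_one.mp ?_)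
      have := Nat.card_pos (α := commutator ↥(P : Subgroup G))
      omega
    have h4 : 4 ≤ 2 ^ i := le_trans (by norm_num) (Nat.pow_le_pow_right two_pos hi2)
    have h5 : 2 * 2 ^ i ≤ 2 ^ 3 := by rw [← hmul]; exact Nat.mul_le_mul_right _ hc2
    omega
  obtain ⟨e, rfl⟩ : ∃ e, n = e + 4 := ⟨n - 4, by omega⟩
  rw [show e + 4 - 1 = e + 3 by omega] at hζ
  set M := 2 ^ (e + 3) with hM
  haveI : NeZero M := ⟨by positivity⟩
  -- a common shape for both fields
  obtain ⟨j, hj, ε, hε, hjε, hFj⟩ : ∃ j, (j + 1 = M ∨ (1 ≤ e + 1 ∧ j + 1 = 2 ^ (e + 1 + 1))) ∧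
      ∃ ε : ℂ, (ε = 1 ∨ ε = -1) ∧ ζ ^ j = ε * ζ⁻¹ ∧
      IntermediateField.adjoin ℚ {z : ℂ | ∃ χ : Cfsg.IrrCharacter G, (χ : G → ℂ) g = z} =
        IntermediateField.adjoin ℚ ({ζ + ζ ^ j} : Set ℂ) := by
    have hζ0 : ζ ≠ 0 := hζ.ne_zero (NeZero.ne M)
    rcases hF with h | h
    · refine ⟨M - 1, Or.inl (Nat.sub_add_cancel (NeZero.pos M)), 1, Or.inl rfl, ?_⟩
      have hjε : ζ ^ (M - 1) = 1 * ζ⁻¹ := by
        rw [one_mul]
        refine eq_inv_of_mul_eq_one_left ?_
        rw [← pow_succ, Nat.sub_add_cancel (NeZero.pos M), hζ.pow_eq_one]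
      exact ⟨hjε, by rw [hjε, one_mul]; exact h⟩
    · refine ⟨2 ^ (e + 2) - 1, Or.inr ⟨by omega, Nat.sub_add_cancel Nat.one_le_two_pow⟩, -1, Or.inr rfl, ?_⟩
      have hhalf : ζ ^ (2 ^ (e + 2)) = -1 := by
        have h1 : (ζ ^ (2 ^ (e + 2))) ^ 2 = 1 := by rw [← pow_mul, ← pow_succ]; exact hζ.pow_eq_one
        rcases sq_eq_one_iff.mp h1 with h2 | h2
        · exfalso
          have := Nat.le_of_dvd (by positivity) (hζ.dvd_of_pow_eq_one _ h2)
          exact absurd this (not_le.mpr (Nat.pow_lt_pow_right one_lt_two (by omega)))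
        · exact h2
      have hjε : ζ ^ (2 ^ (e + 2) - 1) = -1 * ζ⁻¹ := by
        rw [← hhalf]
        calc ζ ^ (2 ^ (e + 2) - 1) = ζ ^ (2 ^ (e + 2) - 1) * (ζ * ζ⁻¹) := by
              rw [mul_inv_cancel₀ hζ0, mul_one]
          _ = ζ ^ (2 ^ (e + 2)) * ζ⁻¹ := by
              rw [← mul_assoc, ← pow_succ, Nat.sub_add_cancel Nat.one_le_two_pow]
      exact ⟨hjε, by rw [hjε, neg_one_mul, ← sub_eq_add_neg]; exact h⟩
  obtain ⟨hjc, hjj, hj1, hgcd, -⟩ := exp_facts (e := e + 1) (M := M) rfl hj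
  have hwK : ζ + ζ ^ j ∈ (ℚ⟮ζ⟯ : IntermediateField ℚ ℂ) :=
    add_mem (IntermediateField.mem_adjoin_simple_self ℚ ζ)
      (IntermediateField.pow_mem _ (IntermediateField.mem_adjoin_simple_self ℚ ζ) j)
  obtain ⟨a, ha⟩ := (IsPGroup.iff_orderOf.mp P.isPGroup') ⟨g, hgP⟩
  rw [← Subgroup.orderOf_coe] at ha
  change orderOf g = 2 ^ a at ha
  have hale : a ≤ e + 4 := by
    have h1 : orderOf (⟨g, hgP⟩ : ↥(P : Subgroup G)) ∣ 2 ^ (e + 4) := hP ▸ orderOf_dvd_natCard _
    rw [← Subgroup.orderOf_coe, ha, Nat.pow_dvd_pow_iff_le_right (by norm_num)] at h1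
    exact h1
  have hane : a ≠ e + 4 := by
    rintro rfl
    refine not_contains_sylow h2 P fun y hy => Subgroup.mem_centralizer_singleton_iff.mpr ?_
    have hz : Subgroup.zpowers g = (P : Subgroup G) := Subgroup.eq_of_le_of_card_ge
      (Subgroup.zpowers_le.mpr hgP) (by rw [Nat.card_zpowers, ha, ← hP])
    rw [← hz] at hy
    obtain ⟨i, rfl⟩ := hy
    exact ((Commute.refl g).zpow_left i).eq
  have haM : a = e + 3 := by
    by_contra hne
    have hle : a ≤ e + 2 := by omega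
    have hg2 : g ^ 2 ^ (e + 2) = 1 := orderOf_dvd_iff_pow_eq_one.mp (ha ▸ pow_dvd_pow 2 hle)
    have hgM : g ^ M = 1 := orderOf_dvd_iff_pow_eq_one.mp (ha ▸ pow_dvd_pow 2 (by omega))
    set k := 2 ^ (e + 2) + 1
    have hk : k.Coprime M := Nat.Coprime.pow_right _ ((Nat.prime_two.coprime_iff_not_dvd.mpr (by
      have : 2 ∣ 2 ^ (e + 2) := dvd_pow_self 2 (by omega)
      omega)).symm)
    obtain ⟨f, hf⟩ := OddChar.exists_ringEquiv_pow (NeZero.pos M) hk
    have hw : f (ζ + ζ ^ j) = ζ + ζ ^ j := by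
      have hmem : ζ + ζ ^ j ∈ IntermediateField.adjoin ℚ
          {z : ℂ | ∃ χ : Cfsg.IrrCharacter G, (χ : G → ℂ) g = z} :=
        hFj ▸ IntermediateField.mem_adjoin_simple_self ℚ _
      generalize ζ + ζ ^ j = z at hmem
      induction hmem using IntermediateField.adjoin_induction with
      | mem y hy =>
        obtain ⟨χ, rfl⟩ := hy
        rw [ValueField.map_value (CT.isCharacter_of_isIrr χ.2) f hf hgM, pow_succ, hg2, one_mul]
      | algebraMap q => exact map_ratCast f q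
      | add x y _ _ hx hy => rw [map_add, hx, hy]
      | inv x _ hx => rw [map_inv₀, hx]
      | mul x y _ _ hx hy => rw [map_mul, hx, hy]
    rcases (fix_iff hζ hε hjε hk hjj hf).mp hw with h | h
    · have h' : 2 ^ (e + 2) + 1 ≡ 0 + 1 [MOD M] := by rw [zero_add]; exact h
      have := Nat.le_of_dvd (by positivity) (Nat.modEq_zero_iff_dvd.mp (Nat.ModEq.add_right_cancel' 1 h'))
      exact absurd this (not_le.mpr (Nat.pow_lt_pow_right one_lt_two (by omega)))
    · have hlt1 : k < M := by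
        have : 2 ^ (e + 2) + 1 < 2 * 2 ^ (e + 2) := by
          have : 4 ≤ 2 ^ (e + 2) := le_trans (by norm_num) (Nat.pow_le_pow_right two_pos (show 2 ≤ e + 2 by omega))
          omega
        rw [hM, pow_succ']; exact this
      have hjlt : j < M := by
        rcases hj with hj | ⟨-, hj⟩
        · omega
        · have := Nat.pow_lt_pow_right one_lt_two (show e + 1 + 1 < e + 3 by omega); omega
      have hkj := Nat.ModEq.eq_of_lt_of_lt h hlt1 hjlt
      rcases hj with hj | ⟨-, hj⟩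
      · have : 4 ≤ 2 ^ (e + 2) := le_trans (by norm_num) (Nat.pow_le_pow_right two_pos (show 2 ≤ e + 2 by omega))
        rw [hM, pow_succ'] at hj
        omega
      · rw [show e + 1 + 1 = e + 2 by omega] at hj
        omega
  subst haM
  have hgM : g ^ M = 1 := by rw [hM, ← ha]; exact pow_orderOf_eq_one g
  obtain ⟨f, hf⟩ := OddChar.exists_ringEquiv_pow (NeZero.pos M) hjc
  have hconj : IsConj g (g ^ j) := by
    refine (ValueField.forall_fixed_iff f hf hgM).mp fun χ => ?_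
    have hmem : (χ : G → ℂ) g ∈ IntermediateField.adjoin ℚ ({ζ + ζ ^ j} : Set ℂ) :=
      hFj ▸ IntermediateField.subset_adjoin ℚ _ ⟨χ, rfl⟩
    have hw : f (ζ + ζ ^ j) = ζ + ζ ^ j := (fix_iff hζ hε hjε hjc hjj hf).mpr (Or.inr (Nat.ModEq.refl _))
    generalize (χ : G → ℂ) g = z at hmem
    induction hmem using IntermediateField.adjoin_induction with
    | mem y hy => rw [Set.mem_singleton_iff] at hy; subst hy; exact hw
    | algebraMap q => exact map_ratCast f q
    | add x y _ _ hx hy => rw [map_add, hx, hy]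
    | inv x _ hx => rw [map_inv₀, hx]
    | mul x y _ _ hx hy => rw [map_mul, hx, hy]
  obtain ⟨h, hh⟩ := isConj_iff.mp hconj
  -- pass to the 2-part of the conjugating element
  set v := (orderOf h).factorization 2
  set q := orderOf h / 2 ^ v
  have hq : Odd q := by
    rw [Nat.odd_iff, ← Nat.two_dvd_ne_zero]
    exact Nat.not_dvd_ordCompl Nat.prime_two (orderOf_pos h).ne'
  obtain ⟨q', hq'⟩ := hq
  have hh' : h ^ q * g * (h ^ q)⁻¹ = g ^ j := by
    rw [conj_pow_of_eq hh q]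
    refine pow_eq_pow_iff_modEq.mpr ?_
    rw [ha, hq', show j ^ (2 * q' + 1) = (j ^ 2) ^ q' * j by ring]
    calc (j ^ 2) ^ q' * j ≡ 1 ^ q' * j [MOD M] := by
          refine Nat.ModEq.mul_right _ (Nat.ModEq.pow _ ?_)
          rw [sq]; exact hjj
      _ = j := by rw [one_pow, one_mul]
  set R := Subgroup.zpowers g ⊔ Subgroup.zpowers (h ^ q)
  have hR : IsPGroup 2 R := by
    refine IsPGroup.to_sup_of_normal_left' (IsPGroup.of_card (n := e + 3) ?_) (IsPGroup.of_card (n := v) ?_)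
      (Subgroup.zpowers_le.mpr (mem_normalizer_of_conj hh'))
    · rw [Nat.card_zpowers, ha]
    · rw [Nat.card_zpowers]
      exact orderOf_pow_orderOf_div (orderOf_pos h).ne' (Nat.ordProj_dvd _ _)
  have hhR : h ^ q ∈ R := Subgroup.mem_sup_right (Subgroup.mem_zpowers _)
  have hgR : g ∈ R := Subgroup.mem_sup_left (Subgroup.mem_zpowers _)
  obtain ⟨b, hb⟩ := IsPGroup.iff_card.mp hR
  obtain ⟨S, hS⟩ := hR.exists_le_sylow
  have hScard : Nat.card S = 2 ^ (e + 4) := by rw [S.card_eq_multiplicity, ← P.card_eq_multiplicity, hP]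
  have hRcard : Nat.card R = 2 ^ (e + 4) := by
    have h1 : 2 ^ b ≤ 2 ^ (e + 4) := by rw [← hb, ← hScard]; exact Subgroup.card_le_of_le hS
    have h3 : 2 ^ (e + 3) < 2 ^ b := by
      rw [← hb, ← ha, ← Nat.card_zpowers]
      refine lt_of_le_of_ne (Subgroup.card_le_of_le le_sup_left) fun heq => ?_
      have hzR : Subgroup.zpowers g = R := Subgroup.eq_of_le_of_card_ge le_sup_left heq.ge
      have hcomm : h ^ q * g = g * h ^ q := by
        obtain ⟨i, hi⟩ : h ^ q ∈ Subgroup.zpowers g := by rw [hzR]; exact hhR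
        rw [← hi]
        exact ((Commute.refl g).zpow_left i).eq
      rw [hcomm, mul_inv_cancel_right] at hh'
      have h5 : 1 ≡ j [MOD M] := by
        have := (pow_eq_pow_iff_modEq (x := g) (n := 1) (m := j)).mp (by rw [pow_one]; exact hh')
        rwa [ha] at this
      have h6 : M ∣ j - 1 := (Nat.modEq_iff_dvd' hj1).mp h5
      rw [Nat.gcd_eq_right h6] at hgcd
      have : 8 ≤ M := le_trans (by norm_num) (Nat.pow_le_pow_right two_pos (show 3 ≤ e + 3 by omega))
      omega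
    have hb1 := (Nat.pow_le_pow_iff_right one_lt_two).mp h1
    have hb2 := (Nat.pow_lt_pow_iff_right one_lt_two).mp h3
    rw [hb, show b = e + 4 by omega]
  have hSR : R = (S : Subgroup G) := Subgroup.eq_of_le_of_card_ge hS (by rw [hRcard, hScard])
  have h4 := isCommutator_index_four (e := e + 1) R hR hgR hhR ha hgcd hj1 hh' hRcard
  clear_value R
  subst hSR
  obtain ⟨c, rfl⟩ := MulAction.exists_smul_eq G P S
  rw [← PSq.relIndex_commutator_eq, Sylow.coe_subgroup_smul] at h4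
  rw [← PSq.relIndex_commutator_eq]
  rw [← h4]
  show _ = Subgroup.relIndex ⁅((P : Subgroup G).map (MulAut.conj c).toMonoidHom), ((P : Subgroup G).map (MulAut.conj c).toMonoidHom)⁆ ((P : Subgroup G).map (MulAut.conj c).toMonoidHom)
  rw [← Subgroup.map_commutator, Subgroup.relIndex_map_map_of_injective _ _ (MulAut.conj c).injective]

theorem forward {G : Type u} [Group G] [Finite G] (P : Sylow 2 G) (n : ℕ) (hn : 3 ≤ n)
    (hP : Nat.card P = 2 ^ n) (ζ : ℂ) (hζ : IsPrimitiveRoot ζ (2 ^ (n - 1)))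
    (h4 : (commutator ↥(P : Subgroup G)).index = 4) :
    ∃ g : G, g ∈ (P : Subgroup G) ∧ 2 ∣ (Subgroup.centralizer ({g} : Set G)).index ∧
      (IntermediateField.adjoin ℚ {z : ℂ | ∃ χ : Cfsg.IrrCharacter G, (χ : G → ℂ) g = z} =
          IntermediateField.adjoin ℚ ({ζ + ζ⁻¹} : Set ℂ) ∨
        IntermediateField.adjoin ℚ {z : ℂ | ∃ χ : Cfsg.IrrCharacter G, (χ : G → ℂ) g = z} =
          IntermediateField.adjoin ℚ ({ζ - ζ⁻¹} : Set ℂ)) := by
  classical
  haveI : Fact (Nat.Prime 2) := ⟨Nat.prime_two⟩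
  have hna : ¬ IsMulCommutative ↥(P : Subgroup G) := by
    intro hc
    have hbot : commutator ↥(P : Subgroup G) = ⊥ := by
      rw [_root_.commutator_def, eq_bot_iff, Subgroup.commutator_le]
      intro a _ b _
      rw [Subgroup.mem_bot, commutatorElement_eq_one_iff_mul_comm]
      exact hc.is_comm.comm a b
    rw [hbot, Subgroup.index_bot, hP] at h4
    have : 2 ^ 3 ≤ 2 ^ n := Nat.pow_le_pow_right two_pos hn
    omega
  obtain ⟨D⟩ := Invol.MaxClassTwo.exists_mcData P.isPGroup' hna h4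
  have hmn : D.m + 1 = n := Nat.pow_right_injective le_rfl (D.card.symm.trans hP)
  obtain ⟨e, he⟩ : ∃ e, D.m = e + 2 := ⟨D.m - 2, by have := D.two_le; omega⟩
  subst hmn
  rw [he] at hζ
  rw [show e + 2 + 1 - 1 = e + 2 by omega] at hζ
  set M := 2 ^ (e + 2) with hM
  haveI : NeZero M := ⟨by positivity⟩
  set g : G := (D.a : G) with hg
  set y : G := (D.y : G)
  have hog : orderOf g = M := by rw [hg, Subgroup.orderOf_coe, D.orda, he]
  have hgM : g ^ M = 1 := hog ▸ pow_orderOf_eq_one g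
  have hpos : 1 ≤ M := NeZero.pos M
  obtain ⟨j, hj, hconjP⟩ : ∃ j, (j + 1 = M ∨ (1 ≤ e ∧ j + 1 = 2 ^ (e + 1))) ∧
      D.y * D.a * D.y⁻¹ = D.a ^ j := by
    have hinv : D.a⁻¹ = D.a ^ (M - 1) := by
      refine inv_eq_of_mul_eq_one_right ?_
      rw [← pow_succ', Nat.sub_add_cancel hpos, hM, ← he, ← D.orda, pow_orderOf_eq_one]
    rcases D.shape with ⟨-, h⟩ | ⟨-, h⟩ | ⟨h3, -, h⟩
    · exact ⟨M - 1, Or.inl (Nat.sub_add_cancel hpos), h.trans hinv⟩
    · exact ⟨M - 1, Or.inl (Nat.sub_add_cancel hpos), h.trans hinv⟩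
    · refine ⟨2 ^ (e + 1) - 1, Or.inr ⟨by omega, Nat.sub_add_cancel Nat.one_le_two_pow⟩, h.trans ?_⟩
      rw [he, show e + 2 - 1 = e + 1 by omega]
  obtain ⟨hjc, hjj, hj1, hgcd, -⟩ := exp_facts hM hj
  have hyg : y * g * y⁻¹ = g ^ j := by
    have := congrArg Subtype.val hconjP
    simpa using this
  have hjne : ¬ 1 ≡ j [MOD M] := by
    intro h5
    have h6 : M ∣ j - 1 := (Nat.modEq_iff_dvd' hj1).mp h5
    rw [Nat.gcd_eq_right h6] at hgcd
    have : 4 ≤ M := le_trans (by norm_num) (Nat.pow_le_pow_right two_pos (show 2 ≤ e + 2 by omega))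
    omega
  have hyng : D.a * D.y ≠ D.y * D.a := by
    intro h
    refine hjne ?_
    rw [← h, mul_inv_cancel_right] at hconjP
    have h5 := (pow_eq_pow_iff_modEq (x := D.a) (n := 1) (m := j)).mp (by rw [pow_one]; exact hconjP)
    rwa [D.orda, he] at h5
  -- every central element of P squares to 1
  have hcent : ∀ z : ↥(P : Subgroup G), (∀ w, z * w = w * z) → z ^ 2 = 1 := by
    intro z hz
    have hai : (Subgroup.zpowers D.a).index = 2 :=
      Invol.MaxClassTwo.index_zpowers (by rw [D.orda, D.card, pow_succ']; )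
    have hzmem : z ∈ Subgroup.zpowers D.a := by
      by_contra hzn
      have h1 : z⁻¹ * D.y ∈ Subgroup.zpowers D.a :=
        (Subgroup.mul_mem_iff_of_index_two hai).mpr
          (iff_of_false (fun h => hzn (by simpa using Subgroup.inv_mem _ h)) D.hy)
      obtain ⟨i, hi⟩ := Subgroup.mem_zpowers_iff.mp h1
      refine hyng ?_
      have hy' : D.y = z * D.a ^ i := by rw [hi, mul_inv_cancel_left]
      rw [hy', ← mul_assoc, ← hz D.a, mul_assoc, ((Commute.refl D.a).zpow_right i).eq, ← mul_assoc]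
    obtain ⟨i, rfl⟩ := (Subgroup.mem_zpowers_iff.mp hzmem)
    have h1 : (D.a ^ i) ^ j = D.a ^ i := by
      have h2 : D.y * D.a ^ i * D.y⁻¹ = D.a ^ i := by rw [← hz D.y, mul_inv_cancel_right]
      rw [← conj_zpow, hconjP, ← zpow_natCast, ← zpow_mul, mul_comm, zpow_mul, zpow_natCast] at h2
      exact h2
    set w := D.a ^ i
    have h3 : w ^ (j - 1) = 1 := by
      have : w ^ (j - 1) * w = 1 * w := by rw [← pow_succ, Nat.sub_add_cancel hj1, one_mul, h1]
      exact mul_right_cancel this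
    have h4' : w ^ M = 1 := by
      show (D.a ^ i) ^ M = 1
      rw [← zpow_natCast, ← zpow_mul, mul_comm, zpow_mul, zpow_natCast, hM, ← he, ← D.orda,
        pow_orderOf_eq_one, one_zpow]
    have h5 := pow_gcd_eq_one.mpr ⟨h3, h4'⟩
    rwa [hgcd] at h5
  have hodd : 2 ∣ (Subgroup.centralizer ({g} : Set G)).index := by
    by_contra hnd
    set C := Subgroup.centralizer ({g} : Set G)
    obtain ⟨S⟩ : Nonempty (Sylow 2 C) := inferInstance
    have hgC : g ∈ C := Subgroup.mem_centralizer_singleton_iff.mpr rfl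
    haveI : (Subgroup.zpowers (⟨g, hgC⟩ : C)).Normal := ⟨fun z hz w => by
      obtain ⟨i, rfl⟩ := Subgroup.mem_zpowers_iff.mp hz
      have hw : Commute w (⟨g, hgC⟩ : C) := Subtype.ext (Subgroup.mem_centralizer_singleton_iff.mp w.2)
      rw [(hw.zpow_right i).eq, mul_inv_cancel_right]
      exact Subgroup.zpow_mem_zpowers _ i⟩
    have hgS : (⟨g, hgC⟩ : C) ∈ S := (IsPGroup.of_card (G := Subgroup.zpowers (⟨g, hgC⟩ : C)) (n := e + 2)
      (by rw [Nat.card_zpowers, ← Subgroup.orderOf_coe]; exact hog)).le_sylow_of_normal S (Subgroup.mem_zpowers _)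
    set S' := (S : Subgroup C).map C.subtype
    obtain ⟨S1, hS1⟩ := (S.isPGroup'.map C.subtype).exists_le_sylow
    have hcard : Nat.card S' = Nat.card S1 := by
      rw [Subgroup.card_map_of_injective C.subtype_injective, S.card_eq_multiplicity, S1.card_eq_multiplicity,
        ← Subgroup.card_mul_index C, Nat.factorization_mul Nat.card_pos.ne' Subgroup.index_ne_zero_of_finite,
        Finsupp.add_apply, Nat.factorization_eq_zero_of_not_dvd hnd, add_zero]
    have hS'eq : S' = (S1 : Subgroup G) := Subgroup.eq_of_le_of_card_ge hS1 hcard.ge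
    obtain ⟨c, hc⟩ := MulAction.exists_smul_eq G P S1
    have hgS1 : g ∈ (S1 : Subgroup G) := hS'eq ▸ ⟨_, hgS, rfl⟩
    have hmemc : ∀ w ∈ (P : Subgroup G), c * w * c⁻¹ ∈ C := by
      intro w hw
      have : c * w * c⁻¹ ∈ (S1 : Subgroup G) := by
        rw [← hc, Sylow.coe_subgroup_smul]
        exact ⟨w, hw, rfl⟩
      rw [← hS'eq] at this
      obtain ⟨w', -, hw'⟩ := this
      exact hw' ▸ w'.2
    have hzP : c⁻¹ * g * c ∈ (P : Subgroup G) := by
      rw [← hc, Sylow.coe_subgroup_smul] at hgS1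
      obtain ⟨w, hw, hwe⟩ := hgS1
      change c * w * c⁻¹ = g at hwe
      rw [← hwe]
      have e1 : c⁻¹ * (c * w * c⁻¹) * c = w := by group
      rw [e1]; exact hw
    have hz2 := hcent ⟨c⁻¹ * g * c, hzP⟩ fun w => Subtype.ext (by
      have h1 := Subgroup.mem_centralizer_singleton_iff.mp (hmemc w w.2)
      show c⁻¹ * g * c * (w : G) = (w : G) * (c⁻¹ * g * c)
      calc c⁻¹ * g * c * (w : G) = c⁻¹ * (g * (c * w * c⁻¹)) * c := by group
        _ = c⁻¹ * ((c * w * c⁻¹) * g) * c := by rw [h1]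
        _ = (w : G) * (c⁻¹ * g * c) := by group)
    have hg2 : g ^ 2 = 1 := by
      have h2 := congrArg Subtype.val hz2
      simp only [SubmonoidClass.coe_pow, OneMemClass.coe_one] at h2
      have h3 : (c⁻¹ * g * c⁻¹⁻¹) ^ 2 = 1 := by rw [inv_inv]; exact h2
      rwa [conj_pow, inv_inv, mul_eq_one_iff_eq_inv, mul_eq_left] at h3
    have := Nat.le_of_dvd two_pos (hog ▸ orderOf_dvd_of_pow_eq_one hg2)
    have : 4 ≤ M := le_trans (by norm_num) (Nat.pow_le_pow_right two_pos (show 2 ≤ e + 2 by omega))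
    omega
  -- fusion of powers of g
  have hfus : ∀ k : ℕ, k.Coprime M → (IsConj g (g ^ k) ↔ k ≡ 1 [MOD M] ∨ k ≡ j [MOD M]) := by
    intro k hk
    have hmod : ∀ l : ℕ, k ≡ l [MOD M] → g ^ k = g ^ l := fun l h => pow_eq_pow_iff_modEq.mpr (hog ▸ h)
    refine ⟨fun hconj => ?_, ?_⟩
    swap
    · rintro (h | h)
      · rw [hmod 1 h, pow_one]
      · rw [hmod j h]
        exact isConj_iff.mpr ⟨y, hyg⟩
    obtain ⟨h, hh⟩ := isConj_iff.mp hconj
    set C := Subgroup.centralizer ({g} : Set G)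
    set N := Subgroup.normalizer (Subgroup.zpowers g : Set G)
    have hCN : C ≤ N := fun w hw => mem_normalizer_of_conj (k := 1) (by
      rw [pow_one, Subgroup.mem_centralizer_singleton_iff.mp hw, mul_inv_cancel_right])
    have hNpow : ∀ w ∈ N, ∃ l : ℕ, w * g * w⁻¹ = g ^ l := by
      intro w hw
      have h1 := (Subgroup.mem_normalizer_iff.mp hw g).mp (Subgroup.mem_zpowers g)
      rw [← mem_powers_iff_mem_zpowers] at h1
      obtain ⟨l, hl⟩ := h1
      exact ⟨l, hl.symm⟩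
    haveI : (C.subgroupOf N).Normal := ⟨fun z hz w => by
      obtain ⟨l, hl⟩ := hNpow (w⁻¹ : N) (w⁻¹ : N).2
      rw [Subgroup.mem_subgroupOf] at hz ⊢
      rw [Subgroup.mem_centralizer_singleton_iff] at hz ⊢
      simp only [Subgroup.coe_mul, Subgroup.coe_inv, inv_inv] at hl ⊢
      have hzg : Commute (z : G) (g ^ l) := Commute.pow_right (show Commute (z : G) g from hz) l
      rw [← hl] at hzg
      calc (w : G) * z * (w : G)⁻¹ * g = (w : G) * (z * ((w : G)⁻¹ * g * w)) * (w : G)⁻¹ := by group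
        _ = (w : G) * (((w : G)⁻¹ * g * w) * z) * (w : G)⁻¹ := by rw [hzg.eq]
        _ = g * ((w : G) * z * (w : G)⁻¹) := by group⟩
    have hpg : IsPGroup 2 (N ⧸ C.subgroupOf N) := by
      intro q
      obtain ⟨w, rfl⟩ := QuotientGroup.mk_surjective q
      refine ⟨e + 1, ?_⟩
      rw [← QuotientGroup.mk_pow, QuotientGroup.eq_one_iff, Subgroup.mem_subgroupOf,
        Subgroup.mem_centralizer_singleton_iff, SubmonoidClass.coe_pow]
      obtain ⟨l, hl⟩ := hNpow w w.2
      have h1 := conj_pow_of_eq hl (2 ^ (e + 1))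
      have hlc : l.Coprime M := by
        have h2 : orderOf (g ^ l) = M := by
          rw [← hl]
          exact ((MulEquiv.orderOf_eq (MulAut.conj (w : G)) g)).trans hog
        rw [orderOf_pow, hog] at h2
        rcases Nat.div_eq_self.mp h2 with h3 | h3
        · exact absurd h3 (NeZero.ne M)
        · rw [Nat.gcd_comm] at h3; exact h3
      have h3 : l ^ 2 ^ (e + 1) ≡ 1 [MOD M] := by
        have := Nat.ModEq.pow_totient hlc
        rwa [hM, Nat.totient_prime_pow Nat.prime_two (by omega), show e + 2 - 1 = e + 1 by omega,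
          Nat.add_one_sub_one, mul_one, ← hM] at this
      rw [pow_eq_pow_iff_modEq.mpr (show l ^ 2 ^ (e + 1) ≡ 1 [MOD orderOf g] from hog.symm ▸ h3), pow_one,
        mul_inv_eq_iff_eq_mul] at h1
      exact h1
    obtain ⟨r, hr⟩ := hpg.exists_card_eq
    rw [← Subgroup.index_eq_card] at hr
    change C.relIndex N = 2 ^ r at hr
    have hr1 : r ≤ 1 := by
      have hgC : g ∈ C := Subgroup.mem_centralizer_singleton_iff.mpr rfl
      have h1 : 2 ^ (e + 2 + r) ∣ Nat.card N := by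
        rw [← Nat.card_congr (Subgroup.subgroupOfEquivOfLe (le_refl N)).toEquiv, pow_add, ← hr]
        have h2 := Subgroup.card_mul_index (C.subgroupOf N)
        rw [Nat.card_congr (Subgroup.subgroupOfEquivOfLe hCN).toEquiv, ← Subgroup.relIndex] at h2
        rw [Nat.card_congr (Subgroup.subgroupOfEquivOfLe (le_refl N)).toEquiv, ← h2]
        refine mul_dvd_mul_right ?_ _
        rw [← hM, ← hog, ← Nat.card_zpowers]
        exact Subgroup.card_dvd_of_le (Subgroup.zpowers_le.mpr hgC)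
      have h2 := h1.trans (Subgroup.card_subgroup_dvd_card N)
      have h3 := (Nat.prime_two.pow_dvd_iff_le_factorization Nat.card_pos.ne').mp h2
      have h4 : D.m + 1 = (Nat.card G).factorization 2 :=
        Nat.pow_right_injective le_rfl (hP.symm.trans P.card_eq_multiplicity)
      omega
    have hhN : h ∈ N := mem_normalizer_of_conj hh
    by_cases hhC : h ∈ C
    · rw [Subgroup.mem_centralizer_singleton_iff.mp hhC, mul_inv_cancel_right] at hh
      exact Or.inl ((hog ▸ (pow_eq_pow_iff_modEq.mp (by rw [pow_one]; exact hh) : 1 ≡ k [MOD orderOf g])).symm)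
    · have hyN : y ∈ N := mem_normalizer_of_conj hyg
      have hyC : y ∉ C := fun hc => hjne (by
        rw [Subgroup.mem_centralizer_singleton_iff.mp hc, mul_inv_cancel_right] at hyg
        exact hog ▸ (pow_eq_pow_iff_modEq.mp (by rw [pow_one]; exact hyg) : 1 ≡ j [MOD orderOf g]))
      have hidx : (C.subgroupOf N).index = 2 := by
        rcases (by omega : r = 0 ∨ r = 1) with rfl | rfl
        · exfalso
          rw [pow_zero, Subgroup.relIndex_eq_one] at hr
          exact hhC (hr hhN)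
        · exact hr.trans (pow_one 2)
      have hm := (Subgroup.mul_mem_iff_of_index_two hidx (a := (⟨y, hyN⟩⁻¹ : N)) (b := ⟨h, hhN⟩)).mpr
        (iff_of_false (fun hc => hyC (by
          have := Subgroup.inv_mem _ hc
          rwa [inv_inv] at this)) hhC)
      rw [Subgroup.mem_subgroupOf, Subgroup.mem_centralizer_singleton_iff] at hm
      change y⁻¹ * h * g = g * (y⁻¹ * h) at hm
      refine Or.inr (hog ▸ (pow_eq_pow_iff_modEq.mp ?_ : k ≡ j [MOD orderOf g]))
      rw [← hh, ← hyg]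
      calc h * g * h⁻¹ = y * (y⁻¹ * h * g) * h⁻¹ := by group
        _ = y * (g * (y⁻¹ * h)) * h⁻¹ := by rw [hm]
        _ = y * g * y⁻¹ := by group
  have hζ0 : ζ ≠ 0 := hζ.ne_zero (NeZero.ne M)
  obtain ⟨ε, hε, hjε⟩ : ∃ ε : ℂ, (ε = 1 ∨ ε = -1) ∧ ζ ^ j = ε * ζ⁻¹ := by
    rcases hj with hj | ⟨-, hj⟩
    · refine ⟨1, Or.inl rfl, ?_⟩
      rw [one_mul]
      refine eq_inv_of_mul_eq_one_left ?_
      rw [← pow_succ, hj, hζ.pow_eq_one]
    · refine ⟨-1, Or.inr rfl, ?_⟩
      have h1 : (ζ ^ (2 ^ (e + 1))) ^ 2 = 1 := by rw [← pow_mul, ← pow_succ]; exact hζ.pow_eq_one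
      have hhalf : ζ ^ (2 ^ (e + 1)) = -1 := by
        rcases sq_eq_one_iff.mp h1 with h2 | h2
        · exfalso
          have := Nat.le_of_dvd (by positivity) (hζ.dvd_of_pow_eq_one _ h2)
          exact absurd this (not_le.mpr (Nat.pow_lt_pow_right one_lt_two (by omega)))
        · exact h2
      rw [← hhalf, ← hj, pow_succ, mul_inv_cancel_right₀ hζ0]
  have hF := ValueField.adjoin_values_eq (G := G) hζ hgM (w := ζ + ζ ^ j)
    (add_mem (IntermediateField.mem_adjoin_simple_self ℚ ζ)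
      (IntermediateField.pow_mem _ (IntermediateField.mem_adjoin_simple_self ℚ ζ) j))
    (fun k hk f hf => (fix_iff hζ hε hjε hk hjj hf).trans (hfus k hk).symm)
  refine ⟨g, D.a.2, hodd, ?_⟩
  rw [hjε] at hF
  rcases hε with rfl | rfl
  · rw [one_mul] at hF; exact Or.inl hF
  · rw [neg_one_mul, ← sub_eq_add_neg] at hF; exact Or.inr hF

/-- Let G be a finite group with Sylow 2-subgroup P of order 2^n ≥ 8, and let ζ be a primitive 2^(n−1)-th root of unity in ℂ. Then the commutator subgroup of P has index 4 in P if and only if there is an element g of P whose conjugacy class in G has even size and such that the field generated over ℚ by the values at g of all irreducible complex characters of G equals ℚ(ζ + ζ⁻¹) or ℚ(ζ − ζ⁻¹). -/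
theorem result {G : Type*} [Group G] [Finite G] (P : Sylow 2 G) (n : ℕ) (hn : 3 ≤ n) (hP : Nat.card P = 2 ^ n) (ζ : ℂ) (hζ : IsPrimitiveRoot ζ (2 ^ (n - 1))) :
    (commutator ↥P).index = 4 ↔
      ∃ g : G, g ∈ (P : Subgroup G) ∧ 2 ∣ (Subgroup.centralizer ({g} : Set G)).index ∧
        (IntermediateField.adjoin ℚ {z : ℂ | ∃ χ : Cfsg.IrrCharacter G, (χ : G → ℂ) g = z} = IntermediateField.adjoin ℚ ({ζ + ζ⁻¹} : Set ℂ) ∨
          IntermediateField.adjoin ℚ {z : ℂ | ∃ χ : Cfsg.IrrCharacter G, (χ : G → ℂ) g = z} = IntermediateField.adjoin ℚ ({ζ - ζ⁻¹} : Set ℂ)) := by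
  constructor
  · exact forward P n hn hP ζ hζ
  · rintro ⟨g, hgP, h2, hF⟩
    exact backward P n hn hP ζ hζ hgP h2 hF

end Cfsg.Agent.S4923
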