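import Cfsg.Statements.S4937
import Cfsg.Agent.Lib.Blocks.PrincipalExtend

set_option autoImplicit false
set_option linter.all false
open Cfsg

namespace Cfsg.Agent.S4937

open Cfsg.Agent Cfsg.Agent.Blocks Cfsg.Agent.Blocks.CosetRegular Cfsg.Agent.Blocks.PrincipalExtend

theorem main {G : Type*} [Group G] [Fintype G] {p : ℕ} [Fact p.Prime]
    {M : Ideal Cfsg.AlgInt} [M.IsPrime] (hM : Cfsg.IsPModular p M) (N : Subgroup G) [N.Normal]
    [Fintype N] (P : Sylow p ↥N) (hcov : covered N P = ⊤)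
    (θ : Cfsg.IrrCharacter ↥N) (hθ : θ ∈ Cfsg.principalBlock M ↥N)
    (ψ : Cfsg.IrrCharacter G) (hψ : ∀ x : N, (ψ : G → ℂ) x = (θ : N → ℂ) x) :
    ∃ χ : Cfsg.IrrCharacter G, χ ∈ Cfsg.principalBlock M G ∧ (∀ x : ↥N, (χ : G → ℂ) x = (θ : ↥N → ℂ) x) ∧
      ∀ J : Subgroup G, N ≤ J → ∃ ξ : Cfsg.IrrCharacter ↥J, ξ ∈ Cfsg.principalBlock M ↥J ∧
        ∀ y : ↥J, (ξ : ↥J → ℂ) y = (χ : G → ℂ) y := by
  classical
  obtain ⟨F, hF⟩ := exists_twist N P θ hM hθ (a := 0) (by rw [hcov, Subgroup.index_top, pow_zero]) ψ hψ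
  let L : G ⧸ N →* ℂˣ := F⁻¹
  have hirr : Cfsg.IsIrrCharacter G fun g : G => ((L (g : G ⧸ N) : ℂˣ) : ℂ) * (ψ : G → ℂ) g := by
    refine CT.isIrr_of_inner_self (CT.isCharacter_mul (CT.isCharacter_of_isIrr
      (CT.isIrrCharacter_lin (L.comp (QuotientGroup.mk' N)))) (CT.isCharacter_of_isIrr ψ.2)) ?_
    rw [← CT.irr_inner_self ψ.2, Cfsg.classInner, Cfsg.classInner]
    congr 1
    refine Finset.sum_congr rfl fun g _ => ?_
    show ((L (g : G ⧸ N) : ℂˣ) : ℂ) * (ψ : G → ℂ) g *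
      (starRingEnd ℂ) (((L (g : G ⧸ N) : ℂˣ) : ℂ) * (ψ : G → ℂ) g) = _
    haveI := Fintype.ofFinite (G ⧸ N)
    have hn : ‖((L (g : G ⧸ N) : ℂˣ) : ℂ)‖ = 1 :=
      Complex.norm_eq_one_of_pow_eq_one (n := Nat.card (G ⧸ N))
        (by rw [← Units.val_pow_eq_pow_val, ← map_pow, pow_card_eq_one', map_one, Units.val_one])
        Nat.card_pos.ne'
    have h1 : ((L (g : G ⧸ N) : ℂˣ) : ℂ) * (starRingEnd ℂ) ((L (g : G ⧸ N) : ℂˣ) : ℂ) = 1 := by
      rw [Complex.mul_conj', hn]; simp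
    rw [map_mul]
    linear_combination ((ψ : G → ℂ) g * (starRingEnd ℂ) ((ψ : G → ℂ) g)) * h1
  let χ : Cfsg.IrrCharacter G := ⟨_, hirr⟩
  have hχN : ∀ x : N, (χ : G → ℂ) x = (θ : N → ℂ) x := fun x => by
    show ((L ((x : G) : G ⧸ N) : ℂˣ) : ℂ) * (ψ : G → ℂ) x = _
    rw [(QuotientGroup.eq_one_iff (x : G)).mpr x.2, map_one, Units.val_one, one_mul, hψ]
  have hz : ∀ c : G ⧸ N, ¬ p ∣ orderOf c → ∃ z : Blocks.Loc M,
      (z : ℂ) = cosetS N p (χ : G → ℂ) c ∧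
      Blocks.red M z = Blocks.red M (Blocks.regS M p θ (CT.trivIrr N)) := by
    intro c hc
    obtain ⟨z, hz, hzr⟩ := hF c hc
    refine ⟨z, ?_, hzr⟩
    rw [show (χ : G → ℂ) = fun g : G => ((L (g : G ⧸ N) : ℂˣ) : ℂ) * (ψ : G → ℂ) g from rfl,
      cosetS_mul N (ψ : G → ℂ) (fun c => ((L c : ℂˣ) : ℂ)), ← hz, map_one, Units.val_one, div_one]
    show _ = (((F c)⁻¹ : ℂˣ) : ℂ) * _
    rw [Units.val_inv_eq_inv_val]
    field_simp
  refine ⟨χ, mem_principal_of_cosetS N θ hM hθ χ hz, hχN, fun J hJ => ?_⟩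
  haveI := Fintype.ofFinite J
  haveI := Fintype.ofFinite (N.subgroupOf J)
  have hNirr : Cfsg.IsIrrCharacter N fun n : N => (χ : G → ℂ) n := by rw [funext hχN]; exact θ.2
  let e := Subgroup.subgroupOfEquivOfLe hJ
  let θ' : Cfsg.IrrCharacter ↥(N.subgroupOf J) :=
    ⟨fun x => (θ : N → ℂ) (e x), CT.isIrrCharacter_comp e.toMonoidHom e.surjective θ.2⟩
  refine ⟨⟨_, isIrr_restrict_of_le hJ χ.2 hNirr⟩, mem_principal_of_cosetS (N.subgroupOf J) θ' hM
    (principal_comp e hθ) _ fun c hc => ?_, fun y => rfl⟩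
  obtain ⟨r, rfl⟩ := QuotientGroup.mk_surjective c
  have hord : orderOf (r : ↥J ⧸ N.subgroupOf J) = orderOf ((r : G) : G ⧸ N) := by
    refine orderOf_eq_orderOf_iff.mpr fun i => ?_
    rw [← QuotientGroup.mk_pow, ← QuotientGroup.mk_pow, QuotientGroup.eq_one_iff,
      QuotientGroup.eq_one_iff, Subgroup.mem_subgroupOf, SubmonoidClass.coe_pow]
  obtain ⟨z, hz1, hz2⟩ := hz ((r : G) : G ⧸ N) (hord ▸ hc)
  refine ⟨z, by rw [cosetS_subgroup N J hJ (χ : G → ℂ) r]; exact hz1, hz2.trans (congrArg _ (Subtype.ext ?_))⟩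
  rw [regS_one_eq, regS_one_eq]
  congr 1
  · refine (Fintype.sum_equiv e.toEquiv _ _ fun x => ?_).symm
    rw [show orderOf (e.toEquiv x) = orderOf x from MulEquiv.orderOf_eq e x]
    rfl

/-- Let G be a finite group, p a prime, M a maximal ideal of the algebraic integers containing p, N a normal subgroup of G and P a Sylow p-subgroup of N such that G = N·C_G(P). Let θ be an irreducible character in the principal p-block of N that is the restriction of some irreducible character of G. Then θ is the restriction of an irreducible character χ of G lying in the principal p-block of G such that, for every subgroup J of G containing N, the restriction of χ to J is an irreducible character of J lying in the principal p-block of J. -/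
theorem result {G : Type*} [Group G] [Finite G] (p : ℕ) [Fact p.Prime] (M : Ideal Cfsg.AlgInt) (hM : Cfsg.IsPModular p M) (N : Subgroup G) [N.Normal] (P : Sylow p ↥N)
    (hcov : N ⊔ Subgroup.centralizer (((P : Subgroup ↥N).map N.subtype : Subgroup G) : Set G) = ⊤)
    (θ : Cfsg.IrrCharacter ↥N) (hθ : θ ∈ Cfsg.principalBlock M ↥N)
    (hext : ∃ ψ : Cfsg.IrrCharacter G, ∀ x : ↥N, (ψ : G → ℂ) x = (θ : ↥N → ℂ) x) :
    ∃ χ : Cfsg.IrrCharacter G, χ ∈ Cfsg.principalBlock M G ∧ (∀ x : ↥N, (χ : G → ℂ) x = (θ : ↥N → ℂ) x) ∧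
      ∀ J : Subgroup G, N ≤ J → ∃ ξ : Cfsg.IrrCharacter ↥J, ξ ∈ Cfsg.principalBlock M ↥J ∧ ∀ y : ↥J, (ξ : ↥J → ℂ) y = (χ : G → ℂ) y := by
  classical
  obtain ⟨ψ, hψ⟩ := hext
  haveI := Fintype.ofFinite G
  haveI := Fintype.ofFinite N
  haveI : M.IsPrime := hM.2.1.isPrime
  exact main hM N P hcov θ hθ ψ hψ

end Cfsg.Agent.S4937
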