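import Cfsg.Statements.S4955
import Cfsg.Agent.Lib.ClassSum.GaloisMean
import Cfsg.Agent.Lib.CT.Degree
import Cfsg.Agent.Lib.CT.Kernel
import Cfsg.Agent.S4558

set_option autoImplicit false
open Cfsg

namespace Cfsg.Agent.S4955

/-- Let X be a finite group with an abelian normal Sylow p-subgroup V (a normal p-subgroup of index prime to p in which any two elements commute), and let G be a complement to V in X. Then for every v in V, writing C for the centralizer of v in G, the number k(X) of conjugacy classes of X satisfies k(X) ≤ (order of C)·(order of V) − ((order of G) − k(G)); the statement is written with the subtracted term moved to the left. In particular, if some v in V is centralized by no nonidentity element of G, then k(X) is at most the order of V. -/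
theorem result {X : Type*} [Group X] [Finite X] (p : ℕ) [Fact p.Prime] (V : Subgroup X) [V.Normal] (hVp : IsPGroup p V) (hidx : ¬ p ∣ V.index) (hab : ∀ a ∈ V, ∀ b ∈ V, a * b = b * a) (G : Subgroup X) (hGV : Subgroup.IsComplement' V G) (v : X) (hv : v ∈ V) : Nat.card (ConjClasses X) + Nat.card G ≤ Nat.card ↥(G ⊓ Subgroup.centralizer ({v} : Set X)) * Nat.card V + Nat.card (ConjClasses G) := by
  classical
  haveI := Fintype.ofFinite X
  haveI := Fintype.ofFinite V
  haveI := Fintype.ofFinite (X ⧸ V)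
  have hp : p.Prime := Fact.out
  have hV : IsPGroup p V := hVp
  let A : Finset (Cfsg.IrrCharacter X) :=
    Finset.univ.filter fun χ => ∀ a ∈ V, (χ : X → ℂ) a = (χ : X → ℂ) 1
  -- the characters trivial on V
  have hA : A.card = Nat.card (Cfsg.IrrCharacter (X ⧸ V)) := by
    rw [← Fintype.card_coe, ← Nat.card_eq_fintype_card]
    refine (Nat.card_congr (Equiv.ofBijective (fun ψ : Cfsg.IrrCharacter (X ⧸ V) =>
      (⟨⟨fun x => (ψ : X ⧸ V → ℂ) (QuotientGroup.mk x), CT.isIrr_inflate V ψ.2 fun x => rfl⟩,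
        Finset.mem_filter.mpr ⟨Finset.mem_univ _, fun a ha => by
          show (ψ : X ⧸ V → ℂ) (QuotientGroup.mk a) = (ψ : X ⧸ V → ℂ) (QuotientGroup.mk 1)
          rw [(QuotientGroup.eq_one_iff a).mpr ha, QuotientGroup.mk_one]⟩⟩ : A))
      ⟨fun ψ φ h => ?_, fun χ => ?_⟩)).symm
    · refine Subtype.ext (funext fun q => ?_)
      induction q using QuotientGroup.induction_on with | _ x =>
      exact congrFun (congrArg (fun a : A => ((a : Cfsg.IrrCharacter X) : X → ℂ)) h) x
    · obtain ⟨ψ, hψ, he⟩ := CT.exists_quotient_irr χ.1.2 V (Finset.mem_filter.mp χ.2).2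
      exact ⟨⟨ψ, hψ⟩, Subtype.ext (Subtype.ext (funext he))⟩
  have hkG : Nat.card (ConjClasses G) = A.card := by
    rw [hA, CT.card_irr_eq_card_conjClasses]
    let e : X ⧸ V ≃* G := hGV.symm.QuotientMulEquiv
    refine Nat.card_congr ⟨ConjClasses.map e.symm.toMonoidHom, ConjClasses.map e.toMonoidHom,
      fun C => ?_, fun C => ?_⟩
    · obtain ⟨x, rfl⟩ := ConjClasses.mk_surjective C
      exact congrArg ConjClasses.mk (e.apply_symm_apply x)
    · obtain ⟨x, rfl⟩ := ConjClasses.mk_surjective C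
      exact congrArg ConjClasses.mk (e.symm_apply_apply x)
  -- the sum over the quotient
  have hAsum : ∀ u ∈ V, ∑ χ ∈ A, ‖(χ : X → ℂ) u‖ ^ 2 = (Nat.card G : ℝ) := by
    intro u hu
    have h1 : ∀ χ ∈ A, ‖(χ : X → ℂ) u‖ ^ 2 = ((CT.deg (χ : X → ℂ) ^ 2 : ℕ) : ℝ) := fun χ hχ => by
      rw [(Finset.mem_filter.mp hχ).2 u hu, CT.deg_eq (CT.isCharacter_of_isIrr χ.2),
        Complex.norm_natCast, Nat.cast_pow]
    rw [Finset.sum_congr rfl h1, ← Nat.cast_sum, Nat.cast_inj]
    have hcardG : Nat.card G = Nat.card (X ⧸ V) :=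
      Nat.card_congr hGV.symm.QuotientMulEquiv.symm.toEquiv
    rw [hcardG]
    have h2 := CT.sum_degree_sq (G := X ⧸ V)
    simp only [fun ψ : Cfsg.IrrCharacter (X ⧸ V) => CT.deg_eq (CT.isCharacter_of_isIrr ψ.2)] at h2
    have h3 : ∑ ψ : Cfsg.IrrCharacter (X ⧸ V), CT.deg (ψ : X ⧸ V → ℂ) ^ 2 = Nat.card (X ⧸ V) := by
      exact_mod_cast h2
    rw [← h3]
    refine Finset.sum_bij (fun χ hχ => (⟨_, (Classical.choose_spec
      (CT.exists_quotient_irr χ.2 V (Finset.mem_filter.mp hχ).2)).1⟩ : Cfsg.IrrCharacter (X ⧸ V)))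
      (fun _ _ => Finset.mem_univ _) (fun a ha b hb hab => ?_) (fun ψ _ => ?_) (fun χ hχ => ?_)
    · refine Subtype.ext (funext fun x => ?_)
      rw [← (Classical.choose_spec (CT.exists_quotient_irr a.2 V (Finset.mem_filter.mp ha).2)).2 x,
        ← (Classical.choose_spec (CT.exists_quotient_irr b.2 V (Finset.mem_filter.mp hb).2)).2 x]
      exact congrFun (congrArg Subtype.val hab) _
    · have hi := CT.isIrr_inflate V ψ.2
        (χ := fun x => (ψ : X ⧸ V → ℂ) (QuotientGroup.mk x)) (fun x => rfl)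
      have hmem : (⟨_, hi⟩ : Cfsg.IrrCharacter X) ∈ A :=
        Finset.mem_filter.mpr ⟨Finset.mem_univ _, fun a ha => by
          show (ψ : X ⧸ V → ℂ) (QuotientGroup.mk a) = (ψ : X ⧸ V → ℂ) (QuotientGroup.mk 1)
          rw [(QuotientGroup.eq_one_iff a).mpr ha, QuotientGroup.mk_one]⟩
      refine ⟨_, hmem, Subtype.ext (funext fun q => ?_)⟩
      induction q using QuotientGroup.induction_on with | _ x =>
      exact (Classical.choose_spec (CT.exists_quotient_irr hi V (Finset.mem_filter.mp hmem).2)).2 x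
    · have he := (Classical.choose_spec
        (CT.exists_quotient_irr χ.2 V (Finset.mem_filter.mp hχ).2)).2 1
      rw [QuotientGroup.mk_one] at he
      show _ = CT.deg (Classical.choose _) ^ 2
      exact congrArg (fun z : ℂ => ⌊z.re⌋₊ ^ 2) he.symm
  -- the Galois class of v
  let S : Finset X :=
    Finset.univ.filter fun u => ∃ k : ℕ, k.Coprime (Nat.card X) ∧ u = v ^ k
  have hS : ∀ u ∈ S, ∀ k : ℕ, k.Coprime (Nat.card X) → u ^ k ∈ S := by
    intro u hu k hk
    obtain ⟨j, hj, rfl⟩ := (Finset.mem_filter.mp hu).2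
    exact Finset.mem_filter.mpr ⟨Finset.mem_univ _, j * k, hj.mul_left hk, by rw [pow_mul]⟩
  have hSV : ∀ u ∈ S, u ∈ V := fun u hu => by
    obtain ⟨j, -, rfl⟩ := (Finset.mem_filter.mp hu).2
    exact V.pow_mem hv j
  have hne : ∀ χ : Cfsg.IrrCharacter X, ∀ u ∈ S, (χ : X → ℂ) u ≠ 0 := by
    intro χ u hu h0
    obtain ⟨k, hk⟩ := hV ⟨u, hSV u hu⟩
    have h1 : u ^ p ^ k = 1 := congrArg Subtype.val hk
    obtain ⟨j, -, hj⟩ := (Nat.dvd_prime_pow hp).mp (orderOf_dvd_of_pow_eq_one h1)
    exact hidx ((S4558.result p _ (CT.isCharacter_of_isIrr χ.2) u ⟨j, hj⟩ h0).trans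
      (CT.deg_dvd_index_of_comm V χ.2 fun a b => Subtype.ext (hab a a.2 b b.2)))
  have hcol : ∀ u : X, ∑ χ : Cfsg.IrrCharacter X, ‖(χ : X → ℂ) u‖ ^ 2 =
      (Nat.card (Subgroup.centralizer ({u} : Set X)) : ℝ) := by
    intro u
    have h := CT.column_orthogonality u u
    rw [if_pos (IsConj.refl u)] at h
    simp only [Complex.mul_conj'] at h
    exact_mod_cast h
  have hCv : Nat.card (Subgroup.centralizer ({v} : Set X)) =
      Nat.card V * Nat.card ↥(G ⊓ Subgroup.centralizer ({v} : Set X)) := by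
    rw [← Nat.card_prod]
    refine (Nat.card_eq_of_bijective (fun a : V × ↥(G ⊓ Subgroup.centralizer ({v} : Set X)) =>
      (⟨(a.1 : X) * (a.2 : X), Subgroup.mul_mem _
        (Subgroup.mem_centralizer_singleton_iff.mpr (hab _ a.1.2 v hv)) a.2.2.2⟩ :
        Subgroup.centralizer ({v} : Set X))) ⟨fun a b h => ?_, fun x => ?_⟩).symm
    · have h' : (a.1 : X) * (a.2 : X) = (b.1 : X) * (b.2 : X) := congrArg Subtype.val h
      have h2 := hGV.1 (a₁ := (a.1, ⟨a.2, a.2.2.1⟩)) (a₂ := (b.1, ⟨b.2, b.2.2.1⟩)) h'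
      exact Prod.ext (congrArg Prod.fst h2 :)
        (Subtype.ext (congrArg (fun z : V × G => (z.2 : X)) h2 :))
    · obtain ⟨⟨⟨a, ha⟩, ⟨g, hg⟩⟩, he⟩ := hGV.2 (x : X)
      change a * g = (x : X) at he
      have hgC : g ∈ Subgroup.centralizer ({v} : Set X) := by
        have : g = a⁻¹ * (x : X) := by rw [← he]; group
        rw [this]
        exact Subgroup.mul_mem _ (Subgroup.inv_mem _
          (Subgroup.mem_centralizer_singleton_iff.mpr (hab a ha v hv))) x.2
      exact ⟨(⟨a, ha⟩, ⟨g, hg, hgC⟩), Subtype.ext he⟩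
  have hcentS : ∀ u ∈ S, Nat.card (Subgroup.centralizer ({u} : Set X)) =
      Nat.card (Subgroup.centralizer ({v} : Set X)) := by
    intro u hu
    obtain ⟨k, hk, rfl⟩ := (Finset.mem_filter.mp hu).2
    obtain ⟨l, hl⟩ := exists_pow_eq_self_of_coprime
      (Nat.Coprime.coprime_dvd_right (orderOf_dvd_natCard v) hk)
    congr 2
    ext x
    rw [Subgroup.mem_centralizer_singleton_iff, Subgroup.mem_centralizer_singleton_iff]
    refine ⟨fun h => ?_, fun h => (Commute.pow_right h k).eq⟩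
    rw [← hl]
    exact (Commute.pow_right h l).eq
  have hcompl : (Finset.univ \ A).card + A.card = Nat.card (ConjClasses X) := by
    rw [← CT.card_irr_eq_card_conjClasses, Nat.card_eq_fintype_card, ← Finset.card_univ,
      Finset.card_sdiff_add_card_eq_card (Finset.subset_univ A)]
  have hmain : ((Finset.univ \ A).card : ℝ) * S.card + (S.card : ℝ) * Nat.card G ≤
      (S.card : ℝ) * Nat.card (Subgroup.centralizer ({v} : Set X)) := by
    calc ((Finset.univ \ A).card : ℝ) * S.card + (S.card : ℝ) * Nat.card G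
        ≤ (∑ χ ∈ Finset.univ \ A, ∑ u ∈ S, ‖(χ : X → ℂ) u‖ ^ 2) +
            ∑ u ∈ S, ∑ χ ∈ A, ‖(χ : X → ℂ) u‖ ^ 2 := by
          refine add_le_add ?_ (le_of_eq ?_)
          · rw [← nsmul_eq_mul]
            exact Finset.card_nsmul_le_sum _ _ _ fun χ _ =>
              ClassSum.card_le_sum_norm_sq (CT.isCharacter_of_isIrr χ.2) S hS (hne χ)
          · rw [Finset.sum_congr rfl fun u hu => hAsum u (hSV u hu), Finset.sum_const, nsmul_eq_mul]
      _ = ∑ u ∈ S, ∑ χ : Cfsg.IrrCharacter X, ‖(χ : X → ℂ) u‖ ^ 2 := by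
          rw [Finset.sum_comm, ← Finset.sum_add_distrib]
          exact Finset.sum_congr rfl fun u _ => Finset.sum_sdiff (Finset.subset_univ A)
      _ = _ := by
          rw [Finset.sum_congr rfl fun u hu => (hcol u).trans (by rw [hcentS u hu]),
            Finset.sum_const, nsmul_eq_mul]
  have hS0 : (0 : ℝ) < S.card := Nat.cast_pos.mpr (Finset.card_pos.mpr
    ⟨v, Finset.mem_filter.mpr ⟨Finset.mem_univ _, 1, Nat.coprime_one_left _, (pow_one v).symm⟩⟩)
  have hle : (Finset.univ \ A).card + Nat.card G ≤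
      Nat.card (Subgroup.centralizer ({v} : Set X)) := by
    have : ((Finset.univ \ A).card : ℝ) + Nat.card G ≤
        Nat.card (Subgroup.centralizer ({v} : Set X)) :=
      le_of_mul_le_mul_left (by linarith) hS0
    exact_mod_cast this
  rw [hCv, mul_comm] at hle
  omega

end Cfsg.Agent.S4955
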