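import Cfsg.Statements.S4956
import Cfsg.Agent.Lib.ClassSum.Basic
import Mathlib.GroupTheory.CommutingProbability
import Mathlib.GroupTheory.Complement

set_option autoImplicit false
open Cfsg
open scoped Pointwise

namespace Cfsg.Agent.S4956

/-- The pairs of elements of `V` lifting a commuting pair to a commuting pair. -/
theorem card_solutions {X : Type*} [Group X] [Finite X] (V : Subgroup X) [V.Normal]
    (hab : ∀ a ∈ V, ∀ b ∈ V, a * b = b * a) (G : Subgroup X)
    (hcop : (Nat.card V).Coprime (Nat.card G)) (a b : G) :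
    Nat.card {uw : V × V // (uw.1 : X) * ((a : X) * uw.2 * (a : X)⁻¹) =
      uw.2 * ((b : X) * uw.1 * (b : X)⁻¹)} =
    Nat.card V * Nat.card {v : V // (a : X) * v = v * a ∧ (b : X) * v = v * b} := by
  classical
  letI : CommGroup V := { (inferInstance : Group V) with
    mul_comm := fun x y => Subtype.ext (hab x x.2 y y.2) }
  let c : G → V → V := fun h v => MulAut.conjNormal (h : X) v
  have cmul : ∀ h v w, c h (v * w) = c h v * c h w := fun h v w => map_mul _ _ _
  have cinv : ∀ h v, c h v⁻¹ = (c h v)⁻¹ := fun h v => map_inv _ _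
  have ccomp : ∀ g h v, c g (c h v) = c (g * h) v := fun g h v => by
    simp only [c, Subgroup.coe_mul, map_mul, MulAut.mul_apply]
  have cone : ∀ v, c 1 v = v := fun v => by simp [c]
  let φ : V × V →* V := MonoidHom.mk' (fun uw => (c b uw.1)⁻¹ * uw.1 * (uw.2⁻¹ * c a uw.2))
    fun x y => by
      simp only [Prod.fst_mul, Prod.snd_mul, cmul, mul_inv]
      apply mul_left_cancel (a := (1 : V))
      simp only [one_mul, mul_assoc, mul_left_comm, mul_comm]
  have hφ : ∀ uw, φ uw = (c b uw.1)⁻¹ * uw.1 * (uw.2⁻¹ * c a uw.2) := fun _ => rfl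
  have hker : Nat.card {uw : V × V // (uw.1 : X) * ((a : X) * uw.2 * (a : X)⁻¹) =
      uw.2 * ((b : X) * uw.1 * (b : X)⁻¹)} = Nat.card φ.ker := by
    refine Nat.card_congr (Equiv.subtypeEquivRight fun uw => ?_)
    rw [MonoidHom.mem_ker, hφ]
    have e : ((b : X) * uw.1 * (b : X)⁻¹) = ((c b uw.1 : V) : X) := rfl
    have e' : ((a : X) * uw.2 * (a : X)⁻¹) = ((c a uw.2 : V) : X) := rfl
    rw [e, e', ← Subgroup.coe_mul, ← Subgroup.coe_mul, Subtype.coe_inj]
    constructor
    · intro h
      calc (c b uw.1)⁻¹ * uw.1 * (uw.2⁻¹ * c a uw.2)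
          = (c b uw.1)⁻¹ * uw.2⁻¹ * (uw.1 * c a uw.2) := by
            simp only [mul_assoc, mul_left_comm, mul_comm]
        _ = 1 := by rw [h]; simp [mul_assoc, mul_comm (c b uw.1)]
    · intro h
      calc uw.1 * c a uw.2 = uw.2 * c b uw.1 * ((c b uw.1)⁻¹ * uw.1 * (uw.2⁻¹ * c a uw.2)) := by
            rw [show uw.2 * c b uw.1 * ((c b uw.1)⁻¹ * uw.1 * (uw.2⁻¹ * c a uw.2)) =
              (uw.2 * uw.2⁻¹) * ((c b uw.1) * (c b uw.1)⁻¹) * (uw.1 * c a uw.2) by
                simp only [mul_assoc, mul_left_comm, mul_comm]]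
            simp
        _ = _ := by rw [h, mul_one]
  let C : Subgroup V :=
    { carrier := {v | c a v = v ∧ c b v = v}
      mul_mem' := fun {x y} hx hy => ⟨by rw [cmul, hx.1, hy.1], by rw [cmul, hx.2, hy.2]⟩
      one_mem' := ⟨map_one _, map_one _⟩
      inv_mem' := fun {x} hx => ⟨by rw [cinv, hx.1], by rw [cinv, hx.2]⟩ }
  have hC : Nat.card {v : V // (a : X) * v = v * a ∧ (b : X) * v = v * b} = Nat.card C := by
    refine Nat.card_congr (Equiv.subtypeEquivRight fun v => ?_)
    show _ ↔ c a v = v ∧ c b v = v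
    simp only [c, Subtype.ext_iff, MulAut.conjNormal_apply, mul_inv_eq_iff_eq_mul]
  let A : Subgroup G := Subgroup.closure {a, b}
  haveI := Fintype.ofFinite A
  have hI : ∀ h ∈ A, ∀ v, v * (c h v)⁻¹ ∈ φ.range := by
    intro h hh
    induction hh using Subgroup.closure_induction with
    | mem x hx =>
      intro v
      rcases Set.mem_insert_iff.mp hx with rfl | hx
      · have : φ (1, v⁻¹) = v * (c x v)⁻¹ := by simp [hφ, c]
        exact ⟨_, this⟩
      · rw [Set.mem_singleton_iff] at hx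
        subst hx
        have : φ (v, 1) = v * (c x v)⁻¹ := by simp [hφ, c, mul_comm]
        exact ⟨_, this⟩
    | one => intro v; rw [cone, mul_inv_cancel]; exact one_mem _
    | mul x y _ _ hx hy =>
      intro v
      have := φ.range.mul_mem (hy v) (hx (c y v))
      rwa [ccomp, mul_assoc, inv_mul_cancel_left] at this
    | inv x _ hx =>
      intro v
      have := φ.range.inv_mem (hx (c x⁻¹ v))
      rwa [ccomp, mul_inv_cancel, cone, mul_inv, inv_inv, mul_comm] at this
  let e : V →* V := MonoidHom.mk' (fun v => ∏ h : A, c h v) fun v w => by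
    simp only [cmul, Finset.prod_mul_distrib]
  have he : ∀ v, e v = ∏ h : A, c h v := fun _ => rfl
  have hinv : ∀ h ∈ A, ∀ v, e (c h v) = e v := by
    intro h hh v
    rw [he, he]
    refine Fintype.prod_equiv (Equiv.mulRight (⟨h, hh⟩ : A)) _ _ fun x => ?_
    rw [ccomp]
    rfl
  have heC : ∀ v, e v ∈ C := by
    intro v
    have key : ∀ h ∈ A, c h (e v) = e v := by
      intro h hh
      rw [he]
      simp only [c, map_prod]
      refine Fintype.prod_equiv (Equiv.mulLeft (⟨h, hh⟩ : A)) _ _ fun x => ?_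
      exact ccomp h x v
    exact ⟨key a (Subgroup.subset_closure (Set.mem_insert _ _)),
      key b (Subgroup.subset_closure (Set.mem_insert_of_mem _ rfl))⟩
  have hfix : ∀ v ∈ C, ∀ h ∈ A, c h v = v := by
    intro v hv h hh
    induction hh using Subgroup.closure_induction with
    | mem x hx =>
      rcases Set.mem_insert_iff.mp hx with rfl | hx
      · exact hv.1
      · rw [Set.mem_singleton_iff.mp hx]; exact hv.2
    | one => exact cone v
    | mul x y _ _ hx hy => rw [← ccomp, hy, hx]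
    | inv x _ hx => conv_lhs => rw [← hx, ccomp, inv_mul_cancel, cone]
  have hcA : (Nat.card V).Coprime (Fintype.card A) := by
    rw [← Nat.card_eq_fintype_card]
    exact hcop.coprime_dvd_right (Subgroup.card_subgroup_dvd_card _)
  have hdisj : Disjoint φ.range C := by
    rw [Subgroup.disjoint_def]
    rintro _ ⟨uw, rfl⟩ hv
    have h1 : e (φ uw) = 1 := by
      rw [hφ, map_mul, map_mul, map_mul, map_inv, map_inv,
        hinv a (Subgroup.subset_closure (Set.mem_insert _ _)),
        hinv b (Subgroup.subset_closure (Set.mem_insert_of_mem _ rfl))]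
      simp
    rw [he, Finset.prod_congr rfl fun (h : A) _ => hfix _ hv h h.2, Finset.prod_const,
      Finset.card_univ] at h1
    exact (powCoprime hcA).injective (show φ uw ^ Fintype.card A = (1 : V) ^ Fintype.card A by
      rw [h1, one_pow])
  have hsup : (φ.range : Set V) * (C : Set V) = Set.univ := by
    refine Set.eq_univ_of_forall fun v => ?_
    obtain ⟨w, hw⟩ := (powCoprime hcA).surjective v
    change w ^ Fintype.card A = v at hw
    refine ⟨∏ h : A, (w * (c h w)⁻¹), φ.range.prod_mem fun (h : A) _ => hI h h.2 w,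
      e w, heC w, ?_⟩
    show _ * _ = v
    rw [he, ← Finset.prod_mul_distrib]
    simp [mul_assoc, hw]
  have hcard := (Subgroup.isComplement'_of_disjoint_and_mul_eq_univ hdisj hsup).card_mul
  rw [hker, hC]
  have h1 := φ.ker.card_mul_index
  rw [Subgroup.index_ker, Nat.card_prod] at h1
  refine Nat.eq_of_mul_eq_mul_right (m := Nat.card φ.range) Nat.card_pos ?_
  rw [h1, mul_assoc, mul_comm (Nat.card C), hcard]

/-- Let X be a finite group, V an abelian normal subgroup of X (any two elements of V commute) and G a complement to V in X whose order is coprime to that of V. Let S be a set of representatives of the orbits of G on V under conjugation: S lies in V and every element of V is conjugate under G to exactly one member of S. Then the number of conjugacy classes of X equals the sum, over s in S, of the number of conjugacy classes of the centralizer of s in G. -/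
theorem result {X : Type*} [Group X] [Finite X] (V : Subgroup X) [V.Normal] (hab : ∀ a ∈ V, ∀ b ∈ V, a * b = b * a) (G : Subgroup X) (hGV : Subgroup.IsComplement' V G) (hcop : (Nat.card V).Coprime (Nat.card G)) (S : Finset X) (hSV : ∀ s ∈ S, s ∈ V) (hrep : ∀ v ∈ V, ∃! s, s ∈ S ∧ ∃ g ∈ G, g * v * g⁻¹ = s) : Nat.card (ConjClasses X) = ∑ s ∈ S, Nat.card (ConjClasses ↥(G ⊓ Subgroup.centralizer ({s} : Set X))) := by
  classical
  haveI := Fintype.ofFinite X
  haveI := Fintype.ofFinite V
  haveI := Fintype.ofFinite G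
  -- commuting pairs
  have hpair : ∀ (u w : V) (a b : G),
      (u : X) * (a : X) * ((w : X) * (b : X)) = (w : X) * (b : X) * ((u : X) * (a : X)) ↔
      a * b = b * a ∧ (u : X) * ((a : X) * w * (a : X)⁻¹) = w * ((b : X) * u * (b : X)⁻¹) := by
    intro u w a b
    have e1 : (u : X) * a * ((w : X) * b) = (u : X) * ((a : X) * w * (a : X)⁻¹) * ((a * b : G) : X) := by
      rw [Subgroup.coe_mul]; group
    have e2 : (w : X) * b * ((u : X) * a) = (w : X) * ((b : X) * u * (b : X)⁻¹) * ((b * a : G) : X) := by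
      rw [Subgroup.coe_mul]; group
    rw [e1, e2]
    refine ⟨fun h => ?_, fun h => by rw [h.1, h.2]⟩
    have hm1 : (u : X) * ((a : X) * w * (a : X)⁻¹) ∈ V :=
      V.mul_mem u.2 (Subgroup.Normal.conj_mem inferInstance _ w.2 _)
    have hm2 : (w : X) * ((b : X) * u * (b : X)⁻¹) ∈ V :=
      V.mul_mem w.2 (Subgroup.Normal.conj_mem inferInstance _ u.2 _)
    have := hGV.1 (a₁ := (⟨_, hm1⟩, a * b)) (a₂ := (⟨_, hm2⟩, b * a)) h
    exact ⟨congrArg Prod.snd this, congrArg (fun z : V × G => (z.1 : X)) this⟩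
  let P := {ab : G × G // ab.1 * ab.2 = ab.2 * ab.1}
  let T : P → Type _ := fun ab => {uw : V × V // (uw.1 : X) * ((ab.1.1 : X) * uw.2 * (ab.1.1 : X)⁻¹) =
    uw.2 * ((ab.1.2 : X) * uw.1 * (ab.1.2 : X)⁻¹)}
  let f : (Σ ab : P, T ab) → {q : X × X // Commute q.1 q.2} := fun s =>
    ⟨((s.2.1.1 : X) * (s.1.1.1 : X), (s.2.1.2 : X) * (s.1.1.2 : X)),
      (hpair _ _ _ _).mpr ⟨s.1.2, s.2.2⟩⟩
  have hf : Function.Bijective f := by
    constructor
    · rintro ⟨⟨⟨a, b⟩, hab'⟩, ⟨⟨u, w⟩, h⟩⟩ ⟨⟨⟨a', b'⟩, hab''⟩, ⟨⟨u', w'⟩, h'⟩⟩ e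
      have e' := congrArg Subtype.val e
      simp only [f, Prod.mk.injEq] at e'
      obtain ⟨rfl, rfl⟩ := Prod.mk.injEq .. ▸ hGV.1 (a₁ := (u, a)) (a₂ := (u', a')) e'.1
      obtain ⟨rfl, rfl⟩ := Prod.mk.injEq .. ▸ hGV.1 (a₁ := (w, b)) (a₂ := (w', b')) e'.2
      rfl
    · rintro ⟨⟨x, y⟩, hxy⟩
      obtain ⟨⟨u, a⟩, hx⟩ := hGV.2 x
      obtain ⟨⟨w, b⟩, hy⟩ := hGV.2 y
      change (u : X) * (a : X) = x at hx
      change (w : X) * (b : X) = y at hy
      subst hx hy
      obtain ⟨h1, h2⟩ := (hpair u w a b).mp hxy.eq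
      exact ⟨⟨⟨(a, b), h1⟩, ⟨(u, w), h2⟩⟩, rfl⟩
  let C : X → Subgroup X := fun v => G ⊓ Subgroup.centralizer ({v} : Set X)
  let W : V → Type _ := fun v => {q : C v × C v // Commute q.1 q.2}
  let g : (Σ ab : P, {v : V // (ab.1.1 : X) * v = v * ab.1.1 ∧ (ab.1.2 : X) * v = v * ab.1.2}) →
      Σ v : V, W v := fun s =>
    ⟨s.2.1, ⟨(⟨s.1.1.1, s.1.1.1.2, Subgroup.mem_centralizer_singleton_iff.mpr s.2.2.1⟩,
      ⟨s.1.1.2, s.1.1.2.2, Subgroup.mem_centralizer_singleton_iff.mpr s.2.2.2⟩),
      Subtype.ext (congrArg Subtype.val s.1.2 :)⟩⟩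
  have hg : Function.Bijective g := by
    constructor
    · rintro ⟨⟨⟨a, b⟩, h1⟩, ⟨v, hv⟩⟩ ⟨⟨⟨a', b'⟩, h2⟩, ⟨v', hv'⟩⟩ e
      simp only [g, Sigma.mk.injEq] at e
      obtain ⟨rfl, e⟩ := e
      have e' := congrArg (fun q : W v => (((q.1.1 : C v) : X), ((q.1.2 : C v) : X))) (eq_of_heq e)
      simp only [Prod.mk.injEq, Subtype.coe_inj] at e'
      obtain ⟨rfl, rfl⟩ := e'
      rfl
    · rintro ⟨v, ⟨⟨⟨a, ha⟩, ⟨b, hb⟩⟩, hq⟩⟩
      exact ⟨⟨⟨(⟨a, ha.1⟩, ⟨b, hb.1⟩), Subtype.ext (congrArg Subtype.val hq.eq :)⟩,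
        ⟨v, Subgroup.mem_centralizer_singleton_iff.mp ha.2,
          Subgroup.mem_centralizer_singleton_iff.mp hb.2⟩⟩, rfl⟩
  have htotal : Nat.card (ConjClasses X) * Nat.card X =
      Nat.card V * ∑ v : V, Nat.card (ConjClasses (C v)) * Nat.card (C v) := by
    rw [← card_comm_eq_card_conjClasses_mul_card, ← Nat.card_eq_of_bijective f hf, Nat.card_sigma,
      Finset.sum_congr rfl fun (ab : P) _ => card_solutions V hab G hcop ab.1.1 ab.1.2,
      ← Finset.mul_sum, ← Nat.card_sigma, Nat.card_eq_of_bijective g hg, Nat.card_sigma]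
    congr 1
    exact Finset.sum_congr rfl fun v _ => card_comm_eq_card_conjClasses_mul_card _
  -- group by orbits
  choose r hr using fun v : V => hrep v v.2
  have hrS : ∀ v, r v ∈ S := fun v => (hr v).1.1
  have hfib : ∀ s ∈ S, ∑ v ∈ Finset.univ.filter (fun v => r v = s),
      Nat.card (ConjClasses (C v)) * Nat.card (C v) =
      Nat.card G * Nat.card (ConjClasses (C s)) := by
    intro s hs
    have hsV := hSV s hs
    have horb : ∀ v : V, r v = s ↔ ∃ x ∈ G, x * (v : X) * x⁻¹ = s :=
      fun v => ⟨fun e => e ▸ (hr v).1.2, fun h => ((hr v).2 s ⟨hs, h⟩).symm⟩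
    let o : G → V := fun x =>
      ⟨(x : X)⁻¹ * s * (x : X), by simpa using Subgroup.Normal.conj_mem inferInstance s hsV (x : X)⁻¹⟩
    have ho : ∀ x : G, r (o x) = s := fun x => (horb _).mpr ⟨x, x.2, by simp [o, mul_assoc]⟩
    have hinv : ∀ v : V, r v = s →
        Nat.card (ConjClasses (C v)) = Nat.card (ConjClasses (C s)) ∧
          Nat.card (C v) = Nat.card (C s) ∧
          (Finset.univ.filter fun x : G => o x = v).card = Nat.card (C s) := by
      intro v hv
      obtain ⟨x, hx, hxe⟩ := (horb v).mp hv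
      have hCe : C s = (C v).map (MulAut.conj x).toMonoidHom := by
        ext y
        simp only [C, Subgroup.mem_inf, Subgroup.mem_map, MulEquiv.coe_toMonoidHom,
          MulAut.conj_apply, Subgroup.mem_centralizer_singleton_iff]
        constructor
        · rintro ⟨hy1, hy2⟩
          refine ⟨x⁻¹ * y * x, ⟨G.mul_mem (G.mul_mem (G.inv_mem hx) hy1) hx, ?_⟩, by group⟩
          calc x⁻¹ * y * x * v = x⁻¹ * (y * s) * x := by rw [← hxe]; group
            _ = x⁻¹ * (s * y) * x := by rw [hy2]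
            _ = v * (x⁻¹ * y * x) := by rw [← hxe]; group
        · rintro ⟨z, ⟨hz1, hz2⟩, rfl⟩
          refine ⟨G.mul_mem (G.mul_mem hx hz1) (G.inv_mem hx), ?_⟩
          calc x * z * x⁻¹ * s = x * (z * v) * x⁻¹ := by rw [← hxe]; group
            _ = x * (v * z) * x⁻¹ := by rw [hz2]
            _ = s * (x * z * x⁻¹) := by rw [← hxe]; group
      let ec : C v ≃* C s := ((C v).equivMapOfInjective _ (MulAut.conj x).injective).trans
        (MulEquiv.subgroupCongr hCe.symm)
      refine ⟨Nat.card_congr ⟨ConjClasses.map ec.toMonoidHom, ConjClasses.map ec.symm.toMonoidHom,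
        fun K => ?_, fun K => ?_⟩, Nat.card_congr ec.toEquiv, ?_⟩
      · obtain ⟨y, rfl⟩ := ConjClasses.mk_surjective K
        exact congrArg ConjClasses.mk (ec.symm_apply_apply y)
      · obtain ⟨y, rfl⟩ := ConjClasses.mk_surjective K
        exact congrArg ConjClasses.mk (ec.apply_symm_apply y)
      · rw [← Fintype.card_subtype, ← Nat.card_eq_fintype_card]
        refine Nat.card_congr
          { toFun := fun y => ⟨(y.1 : X) * x⁻¹, G.mul_mem y.1.2 (G.inv_mem hx),
              Subgroup.mem_centralizer_singleton_iff.mpr ?_⟩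
            invFun := fun y => ⟨⟨(y : X) * x, G.mul_mem y.2.1 hx⟩, Subtype.ext ?_⟩
            left_inv := fun y => Subtype.ext (Subtype.ext (by simp))
            right_inv := fun y => Subtype.ext (by simp) }
        · have h1 : (y.1 : X)⁻¹ * s * (y.1 : X) = (v : X) := congrArg Subtype.val y.2
          calc (y.1 : X) * x⁻¹ * s = (y.1 : X) * v * x⁻¹ := by rw [← hxe]; group
            _ = s * ((y.1 : X) * x⁻¹) := by rw [← h1]; group
        · have h1 := Subgroup.mem_centralizer_singleton_iff.mp y.2.2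
          show ((y : X) * x)⁻¹ * s * ((y : X) * x) = v
          calc ((y : X) * x)⁻¹ * s * ((y : X) * x) = x⁻¹ * ((y : X)⁻¹ * (s * (y : X))) * x := by group
            _ = v := by rw [← h1, inv_mul_cancel_left, ← hxe]; group
    have hsum : (Finset.univ.filter fun v => r v = s).card * Nat.card (C s) = Nat.card G := by
      rw [Nat.card_eq_fintype_card (α := G), ← Finset.card_univ (α := G),
        Finset.card_eq_sum_card_fiberwise (f := o) (t := Finset.univ.filter fun v => r v = s)
          fun x _ => by simp [ho x],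
        Finset.sum_congr rfl fun v hv => (hinv v (Finset.mem_filter.mp hv).2).2.2,
        Finset.sum_const, smul_eq_mul]
    rw [Finset.sum_congr rfl fun v hv => by
        obtain ⟨h1, h2, -⟩ := hinv v (Finset.mem_filter.mp hv).2
        rw [h1, h2],
      Finset.sum_const, smul_eq_mul, mul_left_comm, hsum, mul_comm]
  rw [← Finset.sum_fiberwise_of_maps_to (t := S) (fun v _ => hrS v),
    Finset.sum_congr rfl hfib, ← Finset.mul_sum, ← hGV.card_mul] at htotal
  refine Nat.eq_of_mul_eq_mul_right (m := Nat.card V * Nat.card G)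
    (Nat.mul_pos Nat.card_pos Nat.card_pos) ?_
  rw [htotal, ← mul_assoc, mul_comm (∑ _ ∈ _, _)]

end Cfsg.Agent.S4956
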