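import Cfsg.Statements.S4958
import Cfsg.Agent.Lib.CT.Clifford
import Cfsg.Agent.Lib.CT.Degree
import Cfsg.Agent.Lib.CT.Kernel
import Cfsg.Agent.Lib.CT.RationalPBound
import Cfsg.Agent.Lib.CT.Chief

set_option autoImplicit false
set_option linter.all false
set_option maxHeartbeats 1000000
open Cfsg

namespace Cfsg.Agent.S4958

open Cfsg.Agent
open scoped Classical ComplexConjugate

universe u

/-- Every nonzero coefficient vector has squared length at least `c`. -/
def Good {C : Type u} [Group C] [Fintype C] {J : Type} [Fintype J] (c : ℝ) (η : C → J → ℂ) : Prop :=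
  ∀ θ : IrrCharacter C, (∀ j, classInner (fun h => η h j) (θ : C → ℂ) = 0) ∨
    c ≤ ∑ j, ‖classInner (fun h => η h j) (θ : C → ℂ)‖ ^ 2

/-- The weighted lower bound. -/
def Bnd (C : Type u) [Group C] [Fintype C] (f : C → ℝ) : Prop :=
  ∀ (J : Type) [Fintype J] (c : ℝ) (η : C → J → ℂ), 0 ≤ c → Good c η → (∃ h j, η h j ≠ 0) →
    c * (Nat.card C : ℝ) ^ 2 ≤ ∑ h, f h * ∑ j, ‖η h j‖ ^ 2

section Fourier

variable {B : Type u} [Group B] [Fintype B] (hc : ∀ a b : B, a * b = b * a)

include hc in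
theorem norm_irr (θ : IrrCharacter B) (b : B) : ‖(θ : B → ℂ) b‖ = 1 := by
  obtain ⟨lam, hlam⟩ := CT.exists_hom_of_comm hc θ.2
  rw [hlam]
  refine Complex.norm_eq_one_of_pow_eq_one (n := Nat.card B) ?_ Nat.card_pos.ne'
  rw [← Units.val_pow_eq_pow_val, ← map_pow, pow_card_eq_one', map_one, Units.val_one]

include hc in
theorem isClassFunction_any (f : B → ℂ) : IsClassFunction B f := fun g x => by
  rw [hc x g, mul_inv_cancel_right]

include hc in
theorem inversion (f : B → ℂ) (b : B) :
    f b = ∑ θ : IrrCharacter B, classInner f (θ : B → ℂ) * (θ : B → ℂ) b := by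
  have := congrFun (CT.classFunction_eq_sum (isClassFunction_any hc f)) b
  simpa [Finset.sum_apply] using this

include hc in
theorem parseval (f : B → ℂ) :
    ∑ b, ‖f b‖ ^ 2 = (Nat.card B : ℝ) * ∑ θ : IrrCharacter B, ‖classInner f (θ : B → ℂ)‖ ^ 2 := by
  have h := CT.classInner_self_eq_sum f
  rw [CT.classInner_eq_sum (isClassFunction_any hc f)] at h
  simp only [Complex.mul_conj'] at h
  exact_mod_cast h.symm

include hc in
theorem card_irr : Fintype.card (IrrCharacter B) = Nat.card B := by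
  have h := CT.sum_degree_sq (G := B)
  simp only [CT.irr_degree_one_of_comm hc (Subtype.prop _), one_pow, Finset.sum_const,
    Finset.card_univ, nsmul_eq_mul, mul_one] at h
  exact_mod_cast h

end Fourier

theorem bnd_subsingleton {C : Type u} [Group C] [Fintype C] [Subsingleton C] {f : C → ℝ}
    (hf : ∀ h, 1 ≤ f h) : Bnd C f := by
  intro J _ c η hc0 hgood ⟨h₀, j₀, hne⟩
  have hcard : Nat.card C = 1 := Nat.card_eq_one_iff_unique.mpr ⟨inferInstance, ⟨1⟩⟩
  have hu : (Finset.univ : Finset C) = {1} := by ext x; simp [Subsingleton.elim x 1]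
  have hval : ∀ j, classInner (fun h => η h j) ((CT.trivIrr C : IrrCharacter C) : C → ℂ) = η 1 j := by
    intro j
    rw [classInner, hu, Finset.sum_singleton, hcard]
    simp
  rw [hcard, Nat.cast_one, one_pow, mul_one, hu, Finset.sum_singleton]
  rcases hgood (CT.trivIrr C) with h | h
  · exact absurd ((hval j₀).symm.trans (h j₀)) (by rwa [Subsingleton.elim (1 : C) h₀])
  · refine le_trans ?_ (le_mul_of_one_le_left (Finset.sum_nonneg fun j _ => by positivity) (hf 1))
    simpa [hval] using h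

/-- Pulling the bound back along an injective homomorphism. -/
theorem bnd_comap {C A : Type u} [Group C] [Fintype C] [Group A] [Fintype A]
    (hcA : ∀ a b : A, a * b = b * a) (φ : C →* A) (hφ : Function.Injective φ) {F : A → ℝ}
    {f : C → ℝ} (hA : Bnd A F) (hle : ∀ h, F (φ h) ≤ f h) : Bnd C f := by
  intro J _ c η hc0 hgood ⟨h₀, j₀, hne⟩
  set r : ℂ := (Nat.card A : ℂ) / (Nat.card C : ℂ) with hr
  have hC0 : (Nat.card C : ℂ) ≠ 0 := Nat.cast_ne_zero.mpr Nat.card_pos.ne'
  have hA0 : (Nat.card A : ℂ) ≠ 0 := Nat.cast_ne_zero.mpr Nat.card_pos.ne'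
  let ηA : A → J → ℂ := fun a j => r * (if ha : ∃ h, φ h = a then η ha.choose j else 0)
  have hval : ∀ h j, ηA (φ h) j = r * η h j := by
    intro h j
    have hh : ∃ h', φ h' = φ h := ⟨h, rfl⟩
    simp only [ηA, dif_pos hh, hφ hh.choose_spec]
  have hzero : ∀ a, a ∉ Set.range φ → ∀ j, ηA a j = 0 := by
    intro a ha j
    have : ¬ ∃ h, φ h = a := ha
    simp only [ηA, dif_neg this, mul_zero]
  have hsum : ∀ g : A → ℂ, (∀ a, a ∉ Set.range φ → g a = 0) → ∑ a, g a = ∑ h, g (φ h) := by
    intro g hg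
    rw [← Finset.sum_image (f := g) (g := fun h => φ h) (fun a _ b _ hab => hφ hab)]
    refine (Finset.sum_subset (Finset.subset_univ _) fun a _ ha => hg a fun hh => ha ?_).symm
    obtain ⟨h, rfl⟩ := hh
    exact Finset.mem_image_of_mem _ (Finset.mem_univ h)
  have hgoodA : Good c ηA := by
    intro θ
    obtain ⟨lam, hlam⟩ := CT.exists_hom_of_comm hcA θ.2
    let θC : IrrCharacter C := ⟨_, CT.isIrrCharacter_lin (lam.comp φ)⟩
    have hin : ∀ j, classInner (fun a => ηA a j) (θ : A → ℂ) =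
        classInner (fun h => η h j) (θC : C → ℂ) := by
      intro j
      simp only [classInner, finsum_eq_sum_of_fintype]
      rw [hsum _ (fun a ha => by rw [hzero a ha j, zero_mul]), Finset.mul_sum, Finset.mul_sum]
      refine Finset.sum_congr rfl fun h _ => ?_
      rw [hval, hr]
      show _ = (Nat.card C : ℂ)⁻¹ * (η h j * conj (lam (φ h) : ℂ))
      rw [hlam]
      field_simp
    simp only [hin]
    exact hgood θC
  have hnz : ∃ a j, ηA a j ≠ 0 := ⟨φ h₀, j₀, by rw [hval]; exact mul_ne_zero (div_ne_zero hA0 hC0) hne⟩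
  have hb := hA J c ηA hc0 hgoodA hnz
  have hsumR : ∑ a, F a * ∑ j, ‖ηA a j‖ ^ 2 = ∑ h, F (φ h) * ∑ j, ‖ηA (φ h) j‖ ^ 2 := by
    rw [← Finset.sum_image (f := fun a => F a * ∑ j, ‖ηA a j‖ ^ 2) (g := fun h => φ h)
      (fun a _ b _ hab => hφ hab)]
    refine (Finset.sum_subset (Finset.subset_univ _) fun a _ ha => ?_).symm
    have : a ∉ Set.range φ := fun ⟨h, hh⟩ => ha (hh ▸ Finset.mem_image_of_mem _ (Finset.mem_univ h))
    simp [hzero a this]
  set s : ℝ := (Nat.card A : ℝ) / (Nat.card C : ℝ) with hs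
  have hrs : ‖r‖ = s := by rw [hr, norm_div, Complex.norm_natCast, Complex.norm_natCast]
  rw [hsumR] at hb
  simp only [hval, norm_mul, mul_pow, hrs, ← Finset.mul_sum] at hb
  have hCR : (0 : ℝ) < Nat.card C := by exact_mod_cast Nat.card_pos
  have hAR : (0 : ℝ) < Nat.card A := by exact_mod_cast Nat.card_pos
  have hs2 : (0 : ℝ) < s ^ 2 := by positivity
  have h1 : s ^ 2 * (c * (Nat.card C : ℝ) ^ 2) ≤ s ^ 2 * ∑ h, f h * ∑ j, ‖η h j‖ ^ 2 := by
    calc s ^ 2 * (c * (Nat.card C : ℝ) ^ 2) = c * (Nat.card A : ℝ) ^ 2 := by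
          rw [hs]; field_simp
      _ ≤ ∑ h, F (φ h) * (s ^ 2 * ∑ j, ‖η h j‖ ^ 2) := hb
      _ ≤ s ^ 2 * ∑ h, f h * ∑ j, ‖η h j‖ ^ 2 := by
          rw [Finset.mul_sum]
          refine Finset.sum_le_sum fun h _ => ?_
          rw [mul_left_comm]
          exact mul_le_mul_of_nonneg_left
            (mul_le_mul_of_nonneg_right (hle h) (Finset.sum_nonneg fun j _ => by positivity)) hs2.le
  exact le_of_mul_le_mul_left h1 hs2

/-- Adjoining a factor that acts semiregularly. -/
theorem bnd_prod {B D : Type u} [Group B] [Fintype B] [Group D] [Fintype D]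
    (hB : ∀ a b : B, a * b = b * a) (hD : ∀ a b : D, a * b = b * a) {g : D → ℝ} {q : ℕ}
    (hg : Bnd D g) (hg0 : ∀ d, 0 ≤ g d) (hq : 1 ≤ q) (hmq : Nat.card B = 1 ∨ Nat.card B + 1 ≤ q) :
    Bnd (B × D) (fun x => (if x.1 = 1 then 1 else (q : ℝ)) * g x.2) := by
  intro J _ c η hc0 hgood ⟨⟨b₀, d₀⟩, j₀, hne⟩
  set m := Nat.card B with hm
  let bf : IrrCharacter B → D → J → ℂ := fun θ d j => classInner (fun b => η (b, d) j) (θ : B → ℂ)
  have hprod : ∀ (θ : IrrCharacter B) (μ : IrrCharacter D),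
      IsIrrCharacter (B × D) (fun x => (θ : B → ℂ) x.1 * (μ : D → ℂ) x.2) := by
    intro θ μ
    obtain ⟨l, hl⟩ := CT.exists_hom_of_comm hB θ.2
    obtain ⟨k, hk⟩ := CT.exists_hom_of_comm hD μ.2
    have := CT.isIrrCharacter_lin ((l.comp (MonoidHom.fst B D)) * (k.comp (MonoidHom.snd B D)))
    simpa [hl, hk] using this
  have hgoodb : ∀ θ, Good c (bf θ) := by
    intro θ μ
    have hin : ∀ j, classInner (fun d => bf θ d j) (μ : D → ℂ) =
        classInner (fun x => η x j) (fun x : B × D => (θ : B → ℂ) x.1 * (μ : D → ℂ) x.2) := by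
      intro j
      simp only [bf, classInner, finsum_eq_sum_of_fintype, Nat.card_prod, Nat.cast_mul, mul_inv,
        Finset.mul_sum, Finset.sum_mul]
      rw [Fintype.sum_prod_type, Finset.sum_comm]
      refine Finset.sum_congr rfl fun b _ => Finset.sum_congr rfl fun d _ => ?_
      rw [map_mul]
      ring
    simp only [hin]
    exact hgood ⟨_, hprod θ μ⟩
  let S : Finset (IrrCharacter B) := Finset.univ.filter fun θ : IrrCharacter B => ∃ d j, bf θ d j ≠ 0
  have hinv : ∀ b d j, η (b, d) j = ∑ θ ∈ S, bf θ d j * (θ : B → ℂ) b := by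
    intro b d j
    rw [inversion hB (fun b => η (b, d) j) b]
    refine (Finset.sum_subset (Finset.subset_univ S) fun θ _ hθ => ?_).symm
    have : bf θ d j = 0 := by
      by_contra h
      exact hθ (Finset.mem_filter.mpr ⟨Finset.mem_univ _, d, j, h⟩)
    exact mul_eq_zero_of_left this _
  have hS1 : 1 ≤ S.card := by
    rw [Nat.one_le_iff_ne_zero, Finset.card_ne_zero]
    by_contra hS
    rw [Finset.not_nonempty_iff_eq_empty] at hS
    exact hne (by rw [hinv, hS, Finset.sum_empty])
  have hSm : S.card ≤ m := (Finset.card_le_univ S).trans (le_of_eq (card_irr hB))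
  set sR : ℝ := (S.card : ℝ) with hsR
  set K : ℝ := (q : ℝ) * m - ((q : ℝ) - 1) * sR with hK
  have hqR : (1 : ℝ) ≤ q := by exact_mod_cast hq
  have hpoint : ∀ d j, K * ∑ θ ∈ S, ‖bf θ d j‖ ^ 2 ≤
      ∑ b, (if b = 1 then 1 else (q : ℝ)) * ‖η (b, d) j‖ ^ 2 := by
    intro d j
    have hpar : ∑ b, ‖η (b, d) j‖ ^ 2 = (m : ℝ) * ∑ θ ∈ S, ‖bf θ d j‖ ^ 2 := by
      rw [parseval hB fun b => η (b, d) j]
      congr 1
      refine (Finset.sum_subset (Finset.subset_univ S) fun θ _ hθ => ?_).symm
      have : bf θ d j = 0 := by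
        by_contra h
        exact hθ (Finset.mem_filter.mpr ⟨Finset.mem_univ _, d, j, h⟩)
      show ‖bf θ d j‖ ^ 2 = 0
      rw [this, norm_zero, zero_pow two_ne_zero]
    have hone : ‖η (1, d) j‖ ^ 2 ≤ sR * ∑ θ ∈ S, ‖bf θ d j‖ ^ 2 := by
      have h1 : ‖η (1, d) j‖ ≤ ∑ θ ∈ S, ‖bf θ d j‖ := by
        rw [hinv]
        refine (norm_sum_le _ _).trans (le_of_eq (Finset.sum_congr rfl fun θ _ => ?_))
        rw [norm_mul, norm_irr hB, mul_one]
      exact (pow_le_pow_left₀ (norm_nonneg _) h1 2).trans (sq_sum_le_card_mul_sum_sq)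
    have hsplit : ∑ b, (if b = 1 then 1 else (q : ℝ)) * ‖η (b, d) j‖ ^ 2 =
        (q : ℝ) * ∑ b, ‖η (b, d) j‖ ^ 2 - ((q : ℝ) - 1) * ‖η (1, d) j‖ ^ 2 := by
      rw [Finset.mul_sum, eq_sub_iff_add_eq,
        ← Finset.sum_ite_eq' Finset.univ (1 : B) (fun b => ((q : ℝ) - 1) * ‖η (b, d) j‖ ^ 2) |>.trans
          (if_pos (Finset.mem_univ _)), ← Finset.sum_add_distrib]
      refine Finset.sum_congr rfl fun b _ => ?_
      split_ifs <;> ring
    rw [hsplit, hpar, hK]
    nlinarith [mul_le_mul_of_nonneg_left hone (sub_nonneg.mpr hqR)]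
  have hmR : (1 : ℝ) ≤ m := by exact_mod_cast (Nat.card_pos : 0 < Nat.card B)
  have hsm : sR ≤ m := by rw [hsR]; exact_mod_cast hSm
  have hs1 : 1 ≤ sR := by rw [hsR]; exact_mod_cast hS1
  have hK0 : 0 ≤ K := by rw [hK]; nlinarith
  have hKs : (m : ℝ) ^ 2 ≤ sR * K := by
    rw [hK]
    rcases hmq with h | h
    · have e : (m : ℝ) = 1 := by exact_mod_cast h
      have e2 : sR = 1 := le_antisymm (e ▸ hsm) hs1
      rw [e, e2]; nlinarith
    · have h' : (m : ℝ) + 1 ≤ q := by exact_mod_cast h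
      have hA : 0 ≤ ((q : ℝ) - 1) * sR - m := by nlinarith
      nlinarith [mul_nonneg (sub_nonneg.mpr hsm) hA]
  have hmain : ∀ θ ∈ S, c * (Nat.card D : ℝ) ^ 2 ≤ ∑ d, g d * ∑ j, ‖bf θ d j‖ ^ 2 := fun θ hθ =>
    hg J c (bf θ) hc0 (hgoodb θ) (Finset.mem_filter.mp hθ).2
  calc c * (Nat.card (B × D) : ℝ) ^ 2 = (m : ℝ) ^ 2 * (c * (Nat.card D : ℝ) ^ 2) := by
        rw [Nat.card_prod, Nat.cast_mul, hm]; ring
    _ ≤ sR * K * (c * (Nat.card D : ℝ) ^ 2) :=
        mul_le_mul_of_nonneg_right hKs (by positivity)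
    _ = K * ∑ θ ∈ S, c * (Nat.card D : ℝ) ^ 2 := by
        rw [Finset.sum_const, nsmul_eq_mul, hsR]; ring
    _ ≤ K * ∑ θ ∈ S, ∑ d, g d * ∑ j, ‖bf θ d j‖ ^ 2 :=
        mul_le_mul_of_nonneg_left (Finset.sum_le_sum hmain) hK0
    _ = ∑ d, g d * ∑ j, K * ∑ θ ∈ S, ‖bf θ d j‖ ^ 2 := by
        rw [Finset.sum_comm, Finset.mul_sum]
        refine Finset.sum_congr rfl fun d _ => ?_
        rw [← Finset.mul_sum, Finset.sum_comm, ← Finset.mul_sum]
        ring
    _ ≤ ∑ d, g d * ∑ j, ∑ b, (if b = 1 then 1 else (q : ℝ)) * ‖η (b, d) j‖ ^ 2 :=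
        Finset.sum_le_sum fun d _ => mul_le_mul_of_nonneg_left
          (Finset.sum_le_sum fun j _ => hpoint d j) (hg0 d)
    _ = ∑ x : B × D, (if x.1 = 1 then 1 else (q : ℝ)) * g x.2 * ∑ j, ‖η x j‖ ^ 2 := by
        rw [Fintype.sum_prod_type, Finset.sum_comm]
        refine Finset.sum_congr rfl fun b _ => ?_
        simp only [Finset.mul_sum]
        first
          | rfl
          | (rw [Finset.sum_comm]; refine Finset.sum_congr rfl fun d _ => ?_
             refine Finset.sum_congr rfl fun j _ => ?_; ring)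

section Action

variable {X : Type u} [Group X] [Finite X] {p : ℕ} [hp : Fact p.Prime] (C : Subgroup X)
  (hcC : ∀ a b : C, a * b = b * a) (hC : (Nat.card C).Coprime p)

include hcC hC in
/-- The bound for an action on an abelian group of exponent `p`. -/
theorem exists_bnd (n : ℕ) : ∀ W : Subgroup X, Nat.card W < n → (∀ a ∈ W, a ^ p = 1) →
    (∀ a ∈ W, ∀ b ∈ W, a * b = b * a) → C ≤ Subgroup.normalizer (W : Set X) →
    ∃ (A : Type u) (_ : Group A) (_ : Fintype A) (φ : C →* A) (F : A → ℝ),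
      (∀ a b : A, a * b = b * a) ∧ Bnd A F ∧ (∀ a, 1 ≤ F a) ∧
      (∀ h : C, φ h = 1 → ∀ w ∈ W, (h : X) * w = w * h) ∧
      ∀ h : C, F (φ h) * (Nat.card ↥(W ⊓ Subgroup.centralizer ({(h : X)} : Set X)) : ℝ) ≤
        (Nat.card W : ℝ) := by
  induction n with
  | zero => intro W h; exact absurd h (Nat.not_lt_zero _)
  | succ n ih =>
    intro W hWn hexp hab hnorm
    haveI := Fintype.ofFinite C
    rcases eq_or_ne W ⊥ with rfl | hWb
    · haveI : (⊤ : Subgroup C).Normal := inferInstance
      haveI : Subsingleton (C ⧸ (⊤ : Subgroup C)) := QuotientGroup.subsingleton_quotient_top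
      refine ⟨C ⧸ (⊤ : Subgroup C), inferInstance, inferInstance, QuotientGroup.mk' ⊤,
        fun _ => 1, fun a b => Subsingleton.elim _ _, ?_, fun _ => le_rfl, ?_, ?_⟩
      · exact bnd_subsingleton (fun _ => le_rfl)
      · intro h _ w hw
        rw [Subgroup.mem_bot.mp hw, mul_one, one_mul]
      · intro h
        rw [one_mul, Nat.cast_le]
        exact Nat.le_of_dvd Nat.card_pos (Subgroup.card_dvd_of_le inf_le_left)
    obtain ⟨W2, ⟨hlt, hnorm2⟩, hmax⟩ := (Set.toFinite
      {U : Subgroup X | U < W ∧ C ≤ Subgroup.normalizer (U : Set X)}).exists_maximal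
      ⟨⊥, bot_lt_iff_ne_bot.mpr hWb, by rw [Subgroup.normalizer_eq_top]; exact le_top⟩
    have hsub := hlt.le
    obtain ⟨A2, _, _, φ2, F2, hA2, hB2, hF2, hk2, hi2⟩ := ih W2
      (by
        have : Nat.card W2 < Nat.card W := by
          refine lt_of_le_of_ne (Nat.le_of_dvd Nat.card_pos (Subgroup.card_dvd_of_le hsub))
            fun h => hlt.ne (Subgroup.eq_of_le_of_card_ge hsub h.ge)
        omega)
      (fun a ha => hexp a (hsub ha)) (fun a ha b hb => hab a (hsub ha) b (hsub hb)) hnorm2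
    have hconjW : ∀ h : C, ∀ w ∈ W, (h : X) * w * (h : X)⁻¹ ∈ W := fun h w hw =>
      (Subgroup.mem_normalizer_iff.mp (hnorm h.2) w).mp hw
    have hconjW2 : ∀ h : C, ∀ w ∈ W2, (h : X) * w * (h : X)⁻¹ ∈ W2 := fun h w hw =>
      (Subgroup.mem_normalizer_iff.mp (hnorm2 h.2) w).mp hw
    -- the kernel on the top section
    let K : Subgroup C :=
      { carrier := {h | ∀ w ∈ W, (h : X) * w * (h : X)⁻¹ * w⁻¹ ∈ W2}
        one_mem' := fun w _ => by simp
        mul_mem' := fun {a b} ha hb w hw => by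
          have h1 := W2.mul_mem (ha _ (hconjW b w hw)) (hb w hw)
          simpa [mul_assoc] using h1
        inv_mem' := fun {a} ha w hw => by
          have hw' : (a : X)⁻¹ * w * (a : X) ∈ W := by
            simpa using hconjW a⁻¹ w hw
          have h1 := W2.inv_mem (ha _ hw')
          simpa [mul_assoc] using h1 }
    haveI hKn : K.Normal := ⟨fun a ha g => by rwa [hcC g a, mul_inv_cancel_right]⟩
    haveI := Fintype.ofFinite (C ⧸ K)
    set q := W2.relIndex W with hq
    have hqpos : 1 ≤ q := Nat.one_le_iff_ne_zero.mpr Subgroup.index_ne_zero_of_finite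
    have hcardW : Nat.card W = q * Nat.card W2 := by
      rw [hq, Subgroup.relIndex, ← Nat.card_congr (Subgroup.subgroupOfEquivOfLe hsub).toEquiv,
        mul_comm, Subgroup.card_mul_index]
    -- semiregularity
    have hfpf : ∀ h : C, h ∉ K → ∀ w ∈ W, (h : X) * w * (h : X)⁻¹ * w⁻¹ ∈ W2 → w ∈ W2 := by
      intro h hh
      let U : Subgroup X :=
        { carrier := {w | w ∈ W ∧ (h : X) * w * (h : X)⁻¹ * w⁻¹ ∈ W2}
          one_mem' := ⟨W.one_mem, by simp⟩
          mul_mem' := fun {a b} ⟨ha, ha'⟩ ⟨hb, hb'⟩ => ⟨W.mul_mem ha hb, by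
            have hB : (h : X) * b * (h : X)⁻¹ * b⁻¹ ∈ W := hsub hb'
            have e : (h : X) * (a * b) * (h : X)⁻¹ * (a * b)⁻¹ =
                ((h : X) * a * (h : X)⁻¹ * a⁻¹) * ((h : X) * b * (h : X)⁻¹ * b⁻¹) := by
              have hc := hab a ha _ hB
              calc (h : X) * (a * b) * (h : X)⁻¹ * (a * b)⁻¹
                  = ((h : X) * a * (h : X)⁻¹ * a⁻¹) *
                      (a * ((h : X) * b * (h : X)⁻¹ * b⁻¹)) * a⁻¹ := by group
                _ = _ := by rw [hc]; group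
            rw [e]; exact W2.mul_mem ha' hb'⟩
          inv_mem' := fun {a} ⟨ha, ha'⟩ => ⟨W.inv_mem ha, by
            have hc := hab _ (W.inv_mem ha) _ (W.inv_mem (hsub ha'))
            have e : (h : X) * a⁻¹ * (h : X)⁻¹ * a⁻¹⁻¹ =
                ((h : X) * a * (h : X)⁻¹ * a⁻¹)⁻¹ := by
              calc (h : X) * a⁻¹ * (h : X)⁻¹ * a⁻¹⁻¹
                  = a⁻¹ * ((h : X) * a * (h : X)⁻¹ * a⁻¹)⁻¹ * a := by group
                _ = _ := by rw [hc]; group
            rw [e]; exact W2.inv_mem ha'⟩ }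
      have hW2U : W2 ≤ U := fun w hw => ⟨hsub hw, W2.mul_mem (hconjW2 h w hw) (W2.inv_mem hw)⟩
      have hUW : U ≤ W := fun w hw => hw.1
      have hUn : C ≤ Subgroup.normalizer (U : Set X) := by
        have key : ∀ g : C, ∀ w ∈ U, (g : X) * w * (g : X)⁻¹ ∈ U := by
          intro g w hw
          refine ⟨hconjW g w hw.1, ?_⟩
          have h1 := hconjW2 g _ hw.2
          have hc : (g : X) * h = (h : X) * g := congrArg Subtype.val (hcC g h)
          have hc' : (g : X) * (h : X)⁻¹ = (h : X)⁻¹ * g := congrArg Subtype.val (hcC g h⁻¹)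
          have hc'' : (h : X)⁻¹ * (g : X)⁻¹ = (g : X)⁻¹ * (h : X)⁻¹ :=
            congrArg Subtype.val (hcC h⁻¹ g⁻¹)
          have e : (h : X) * ((g : X) * w * (g : X)⁻¹) * (h : X)⁻¹ * ((g : X) * w * (g : X)⁻¹)⁻¹ =
              (g : X) * ((h : X) * w * (h : X)⁻¹ * w⁻¹) * (g : X)⁻¹ := by
            calc (h : X) * ((g : X) * w * (g : X)⁻¹) * (h : X)⁻¹ * ((g : X) * w * (g : X)⁻¹)⁻¹
                = ((h : X) * g) * w * ((g : X)⁻¹ * (h : X)⁻¹) * (g * w⁻¹ * (g : X)⁻¹) := by group
              _ = ((g : X) * h) * w * ((h : X)⁻¹ * (g : X)⁻¹) * (g * w⁻¹ * (g : X)⁻¹) := by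
                rw [← hc, hc'']
              _ = _ := by group
          rw [e]; exact h1
        intro g hg
        rw [Subgroup.mem_normalizer_iff]
        refine fun w => ⟨key ⟨g, hg⟩ w, fun hw => ?_⟩
        have := key ⟨g, hg⟩⁻¹ _ hw
        simpa [mul_assoc] using this
      have hUne : U ≠ W := fun he => hh fun w hw => (he.ge hw).2
      intro w hw hw2
      exact hmax ⟨lt_of_le_of_ne hUW hUne, hUn⟩ hW2U ⟨hw, hw2⟩
    have hmq : Nat.card (C ⧸ K) = 1 ∨ Nat.card (C ⧸ K) + 1 ≤ q := by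
      obtain ⟨w, hw, hw2⟩ := SetLike.exists_of_lt hlt
      rcases eq_or_ne K ⊤ with hK | hK
      · left; rw [← Subgroup.index, hK, Subgroup.index_top]
      right
      let W2' := W2.subgroupOf W
      let f : Option (C ⧸ K) → (↥W ⧸ W2') := fun o => o.elim (QuotientGroup.mk 1) fun a =>
        QuotientGroup.mk ⟨(a.out : X) * w * (a.out : X)⁻¹, hconjW _ w hw⟩
      have hne1 : ∀ g : C, (QuotientGroup.mk (1 : W) : ↥W ⧸ W2') ≠
          QuotientGroup.mk ⟨(g : X) * w * (g : X)⁻¹, hconjW g w hw⟩ := by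
        intro g h1
        rw [QuotientGroup.eq] at h1
        have h2 : (g : X) * w * (g : X)⁻¹ ∈ W2 := by simpa [W2', Subgroup.mem_subgroupOf] using h1
        have h3 := hconjW2 g⁻¹ _ h2
        exact hw2 (by simpa [mul_assoc] using h3)
      have hf : Function.Injective f := by
        rintro (_ | a) (_ | b) h
        · rfl
        · exact absurd h (hne1 _)
        · exact absurd h.symm (hne1 _)
        · refine congrArg some ?_
          simp only [f, Option.elim] at h
          rw [QuotientGroup.eq, Subgroup.mem_subgroupOf] at h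
          simp only [Subgroup.coe_mul, InvMemClass.coe_inv] at h
          set g := a.out
          set g' := b.out
          have hmem := hconjW2 g⁻¹ _ h
          have e : ((g⁻¹ : C) : X) * (((g : X) * w * (g : X)⁻¹)⁻¹ * ((g' : X) * w * (g' : X)⁻¹)) *
              ((g⁻¹ : C) : X)⁻¹ =
              w⁻¹ * (((g⁻¹ * g' : C) : X) * w * ((g⁻¹ * g' : C) : X)⁻¹) := by
            simp only [Subgroup.coe_mul, InvMemClass.coe_inv]; group
          rw [e] at hmem
          have hK' : g⁻¹ * g' ∈ K := by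
            by_contra hgK
            refine hw2 (hfpf _ hgK w hw ?_)
            have hc := hab _ (W.inv_mem hw) _ (hconjW (g⁻¹ * g') w hw)
            rw [← hc]; exact hmem
          rw [← QuotientGroup.out_eq' a, ← QuotientGroup.out_eq' b]
          exact QuotientGroup.eq.mpr hK'
      have h1 := Nat.card_le_card_of_injective f hf
      rw [Finite.card_option] at h1
      exact h1
    refine ⟨(C ⧸ K) × A2, inferInstance, inferInstance, (QuotientGroup.mk' K).prod φ2,
      fun x => (if x.1 = 1 then 1 else (q : ℝ)) * F2 x.2, ?_, ?_, ?_, ?_, ?_⟩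
    · intro a b
      refine Prod.ext ?_ (hA2 _ _)
      obtain ⟨x, hx⟩ := QuotientGroup.mk_surjective a.1
      obtain ⟨y, hy⟩ := QuotientGroup.mk_surjective b.1
      rw [Prod.fst_mul, Prod.fst_mul, ← hx, ← hy, ← QuotientGroup.mk_mul, ← QuotientGroup.mk_mul, hcC]
    · have hh := bnd_prod (B := C ⧸ K) (fun a b => ?_) hA2 hB2 (fun d => zero_le_one.trans (hF2 d)) hqpos hmq
      convert hh using 3
      split_ifs <;> rfl
      obtain ⟨x, rfl⟩ := QuotientGroup.mk_surjective a
      obtain ⟨y, rfl⟩ := QuotientGroup.mk_surjective b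
      rw [← QuotientGroup.mk_mul, ← QuotientGroup.mk_mul, hcC]
    · intro x
      refine one_le_mul_of_one_le_of_one_le ?_ (hF2 _)
      split_ifs
      · exact le_rfl
      · exact_mod_cast hqpos
    · intro h hh w hw
      rw [MonoidHom.prod_apply, Prod.mk_eq_one] at hh
      have hK : h ∈ K := (QuotientGroup.eq_one_iff h).mp hh.1
      set z := (h : X) * w * (h : X)⁻¹ * w⁻¹ with hz
      have hzW2 : z ∈ W2 := hK w hw
      have hzh : (h : X) * z = z * h := hk2 h hh.2 z hzW2
      have hpow : ∀ i : ℕ, (h : X) ^ i * w * ((h : X) ^ i)⁻¹ = z ^ i * w := by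
        intro i
        induction i with
        | zero => simp
        | succ i ihi =>
          have hcz : Commute ((h : X)) (z ^ i) := (show Commute (h : X) z from hzh).pow_right i
          calc (h : X) ^ (i + 1) * w * ((h : X) ^ (i + 1))⁻¹
              = (h : X) * ((h : X) ^ i * w * ((h : X) ^ i)⁻¹) * (h : X)⁻¹ := by
                rw [pow_succ']; group
            _ = (h : X) * z ^ i * w * (h : X)⁻¹ := by rw [ihi]; group
            _ = z ^ i * ((h : X) * w * (h : X)⁻¹) := by rw [hcz.eq]; group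
            _ = z ^ i * (z * w) := by rw [hz]; group
            _ = z ^ (i + 1) * w := by rw [pow_succ]; group
      have h1 := hpow (Nat.card C)
      rw [show (h : X) ^ Nat.card C = 1 from by
        rw [← SubmonoidClass.coe_pow, pow_card_eq_one', OneMemClass.coe_one], one_mul, inv_one,
        mul_one] at h1
      have h2 : z ^ Nat.card C = 1 := mul_eq_right.mp h1.symm
      have h3 : z = 1 := orderOf_eq_one_iff.mp (Nat.eq_one_of_dvd_coprimes hC
        (orderOf_dvd_of_pow_eq_one h2) (orderOf_dvd_of_pow_eq_one (hexp z (hsub hzW2))))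
      calc (h : X) * w = z * (w * h) := by rw [hz]; group
        _ = w * h := by rw [h3, one_mul]
    · intro h
      rw [MonoidHom.prod_apply]
      set CW := W ⊓ Subgroup.centralizer ({(h : X)} : Set X) with hCW
      set CW2 := W2 ⊓ Subgroup.centralizer ({(h : X)} : Set X) with hCW2
      have hF0 : 0 ≤ F2 (φ2 h) := zero_le_one.trans (hF2 _)
      by_cases hh : h ∈ K
      · show (if (QuotientGroup.mk' K) h = 1 then (1 : ℝ) else (q : ℝ)) * F2 (φ2 h) * _ ≤ _
        rw [if_pos (show (QuotientGroup.mk' K) h = 1 from (QuotientGroup.eq_one_iff h).mpr hh), one_mul]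
        have hle : Nat.card CW ≤ q * Nat.card CW2 := by
          have h1 : CW2 = W2 ⊓ CW := by
            rw [hCW, hCW2, ← inf_assoc, inf_eq_left.mpr hsub]
          have h2 : Nat.card CW = CW2.relIndex CW * Nat.card CW2 := by
            rw [Subgroup.relIndex, ← Nat.card_congr (Subgroup.subgroupOfEquivOfLe
              (h1 ▸ inf_le_right : CW2 ≤ CW)).toEquiv, mul_comm, Subgroup.card_mul_index]
          rw [h2]
          refine Nat.mul_le_mul_right _ ?_
          rw [h1, Subgroup.inf_relIndex_right, hq]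
          exact Subgroup.relIndex_le_of_le_right inf_le_left Subgroup.index_ne_zero_of_finite
        calc F2 (φ2 h) * (Nat.card CW : ℝ) ≤ F2 (φ2 h) * ((q * Nat.card CW2 : ℕ) : ℝ) :=
              mul_le_mul_of_nonneg_left (by exact_mod_cast hle) hF0
          _ = (q : ℝ) * (F2 (φ2 h) * (Nat.card CW2 : ℝ)) := by push_cast; ring
          _ ≤ (q : ℝ) * (Nat.card W2 : ℝ) := mul_le_mul_of_nonneg_left (hi2 h) (Nat.cast_nonneg _)
          _ = (Nat.card W : ℝ) := by rw [hcardW]; push_cast; ring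
      · show (if (QuotientGroup.mk' K) h = 1 then (1 : ℝ) else (q : ℝ)) * F2 (φ2 h) * _ ≤ _
        rw [if_neg (show ¬ (QuotientGroup.mk' K) h = 1 from fun e => hh ((QuotientGroup.eq_one_iff h).mp e))]
        have h1 : CW = CW2 := by
          refine le_antisymm (fun w hw => ⟨hfpf h hh w hw.1 ?_, hw.2⟩) (inf_le_inf_right _ hsub)
          rw [Subgroup.mem_centralizer_singleton_iff.mp hw.2 |>.symm, mul_inv_cancel_right,
            mul_inv_cancel]
          exact W2.one_mem
        calc (q : ℝ) * F2 (φ2 h) * (Nat.card CW : ℝ) = (q : ℝ) * (F2 (φ2 h) * (Nat.card CW2 : ℝ)) := by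
              rw [h1]; ring
          _ ≤ (q : ℝ) * (Nat.card W2 : ℝ) := mul_le_mul_of_nonneg_left (hi2 h) (Nat.cast_nonneg _)
          _ = (Nat.card W : ℝ) := by rw [hcardW]; push_cast; ring

end Action

/-- Sums of roots of unity of prime order with natural coefficients. -/
theorem roots_bound {ι : Type u} [Fintype ι] {p : ℕ} [hp : Fact p.Prime] (m : ι → ℕ) (w : ι → ℂ)
    (hw : ∀ i, w i ^ p = 1) :
    (∀ j : Fin (p - 1), ∑ i, (m i : ℂ) * w i ^ ((j : ℕ) + 1) = 0) ∨
      ((p : ℝ) - 1) ≤ ∑ j : Fin (p - 1), ‖∑ i, (m i : ℂ) * w i ^ ((j : ℕ) + 1)‖ ^ 2 := by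
  have hp0 : p ≠ 0 := hp.out.ne_zero
  haveI : NeZero p := ⟨hp0⟩
  obtain ⟨ζ, hζ⟩ : ∃ ζ : ℂ, IsPrimitiveRoot ζ p := ⟨_, Complex.isPrimitiveRoot_exp p hp0⟩
  choose k hklt hk using fun i => hζ.eq_pow_of_pow_eq_one (hw i)
  let M : Fin p → ℕ := fun l => ∑ i ∈ Finset.univ.filter (fun i : ι => k i = (l : ℕ)), m i
  let P : ℕ → ℂ := fun t => ∑ l : Fin p, (M l : ℂ) * (ζ ^ (l : ℕ)) ^ t
  have hP : ∀ t : ℕ, ∑ i, (m i : ℂ) * w i ^ t = P t := by
    intro t
    rw [← Finset.sum_fiberwise Finset.univ (fun i => (⟨k i, hklt i⟩ : Fin p))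
      (fun i => (m i : ℂ) * w i ^ t)]
    refine Finset.sum_congr rfl fun l _ => ?_
    simp only [M, Nat.cast_sum, Finset.sum_mul]
    refine Finset.sum_congr ?_ fun i hi => ?_
    · ext i; simp [Fin.ext_iff]
    · rw [← hk i, (Finset.mem_filter.mp hi).2]
  have hfull : ∑ t ∈ Finset.range p, P t * conj (P t) = (p : ℂ) * ∑ l : Fin p, (M l : ℂ) ^ 2 := by
    have hstep : ∀ l l' : Fin p, ∑ t ∈ Finset.range p, (ζ ^ (l : ℕ)) ^ t * conj ((ζ ^ (l' : ℕ)) ^ t) =
        if l = l' then (p : ℂ) else 0 := by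
      intro l l'
      have hn : (ζ ^ (l' : ℕ)) * conj (ζ ^ (l' : ℕ)) = 1 := by
        rw [Complex.mul_conj', norm_pow,
          Complex.norm_eq_one_of_pow_eq_one hζ.pow_eq_one hp0, one_pow]
        simp
      set z := ζ ^ (l : ℕ) * conj (ζ ^ (l' : ℕ)) with hz
      have : ∀ t, (ζ ^ (l : ℕ)) ^ t * conj ((ζ ^ (l' : ℕ)) ^ t) = z ^ t := fun t => by
        rw [map_pow conj (ζ ^ (l' : ℕ)) t, ← mul_pow]
      simp only [this]
      have hzp : z ^ p = 1 := by
        rw [hz, mul_pow, ← pow_mul, mul_comm, ← map_pow, ← pow_mul, mul_comm (l' : ℕ), pow_mul,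
          hζ.pow_eq_one, one_pow, map_one, one_mul, mul_comm, pow_mul, hζ.pow_eq_one, one_pow]
      by_cases hll : l = l'
      · subst hll
        rw [if_pos rfl]
        simp only [hz, hn, one_pow, Finset.sum_const, Finset.card_range, nsmul_eq_mul, mul_one]
      · rw [if_neg hll]
        have hz1 : z ≠ 1 := by
          intro h1
          have h2 : ζ ^ (l : ℕ) = ζ ^ (l' : ℕ) := by
            calc ζ ^ (l : ℕ) = ζ ^ (l : ℕ) * (ζ ^ (l' : ℕ) * conj (ζ ^ (l' : ℕ))) := by
                  rw [hn, mul_one]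
              _ = z * ζ ^ (l' : ℕ) := by rw [hz]; ring
              _ = _ := by rw [h1, one_mul]
          exact hll (Fin.ext (hζ.pow_inj l.2 l'.2 h2))
        rw [geom_sum_eq hz1, hzp, sub_self, zero_div]
    simp only [P, map_sum, map_mul, map_natCast, Finset.sum_mul, Finset.mul_sum]
    rw [Finset.sum_comm]
    refine Finset.sum_congr rfl fun l _ => ?_
    rw [Finset.sum_comm, Finset.sum_eq_single l]
    · have := hstep l l
      rw [if_pos rfl] at this
      rw [← this, Finset.sum_mul]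
      refine Finset.sum_congr rfl fun t _ => ?_
      ring
    · intro l' _ hne
      have h0 := hstep l' l
      rw [if_neg hne] at h0
      calc _ = (M l' : ℂ) * (M l) * ∑ t ∈ Finset.range p, (ζ ^ (l' : ℕ)) ^ t * conj ((ζ ^ (l : ℕ)) ^ t) := by
            rw [Finset.mul_sum]; refine Finset.sum_congr rfl fun t _ => ?_; ring
        _ = 0 := by rw [h0, mul_zero]
    · exact fun h => absurd (Finset.mem_univ l) h
  have hfullR : ∑ t ∈ Finset.range p, ‖P t‖ ^ 2 = (p : ℝ) * ∑ l : Fin p, (M l : ℝ) ^ 2 := by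
    simp only [Complex.mul_conj'] at hfull
    exact_mod_cast hfull
  have hP0 : ‖P 0‖ = ∑ l : Fin p, (M l : ℝ) := by
    simp only [P, pow_zero, mul_one]
    rw [← Nat.cast_sum, Complex.norm_natCast, Nat.cast_sum]
  have hsplit : ∑ j : Fin (p - 1), ‖P ((j : ℕ) + 1)‖ ^ 2 =
      (p : ℝ) * ∑ l : Fin p, (M l : ℝ) ^ 2 - (∑ l : Fin p, (M l : ℝ)) ^ 2 := by
    have e := Finset.sum_range_succ' (fun t => ‖P t‖ ^ 2) (p - 1)
    rw [Nat.sub_add_cancel hp.out.one_le] at e
    rw [e, hP0] at hfullR
    rw [Fin.sum_univ_eq_sum_range (fun t => ‖P (t + 1)‖ ^ 2) (p - 1)]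
    linarith
  simp only [hP]
  by_cases hall : ∀ l, M l = M ⟨0, hp.out.pos⟩
  · left
    intro j
    simp only [P, hall, ← Finset.mul_sum]
    refine mul_eq_zero_of_right _ ?_
    have hne : ζ ^ ((j : ℕ) + 1) ≠ 1 :=
      hζ.pow_ne_one_of_pos_of_lt (Nat.succ_ne_zero _) (by have := j.2; omega)
    rw [Fin.sum_univ_eq_sum_range (fun l => (ζ ^ l) ^ ((j : ℕ) + 1)) p]
    simp only [← pow_mul, mul_comm _ ((j : ℕ) + 1)]
    simp only [pow_mul]
    rw [geom_sum_eq hne, ← pow_mul, mul_comm, pow_mul, hζ.pow_eq_one, one_pow, sub_self, zero_div]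
  · right
    rw [hsplit]
    push Not at hall
    obtain ⟨l₁, hl₁⟩ := hall
    set l₀ : Fin p := ⟨0, hp.out.pos⟩
    have hid : ∑ a : Fin p, ∑ b : Fin p, ((M a : ℝ) - M b) ^ 2 =
        2 * ((p : ℝ) * ∑ l : Fin p, (M l : ℝ) ^ 2 - (∑ l : Fin p, (M l : ℝ)) ^ 2) := by
      simp only [sub_sq, Finset.sum_add_distrib, Finset.sum_sub_distrib, ← Finset.mul_sum,
        ← Finset.sum_mul, Finset.sum_const, Finset.card_univ, Fintype.card_fin, nsmul_eq_mul]
      ring
    have hsq : ∀ a b : Fin p, M a ≠ M b → (1 : ℝ) ≤ ((M a : ℝ) - M b) ^ 2 := by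
      intro a b hab
      have h0 : (1 : ℤ) ≤ ((M a : ℤ) - M b) ^ 2 := by
        have : ((M a : ℤ) - M b) ≠ 0 := sub_ne_zero.mpr (by exact_mod_cast hab)
        nlinarith [Int.one_le_abs this, sq_abs ((M a : ℤ) - M b)]
      exact_mod_cast h0
    have hrow : ∀ b : Fin p, (M b ≠ M l₀ ∨ M b ≠ M l₁) := fun b => by
      by_contra h
      push Not at h
      exact hl₁ (h.2.symm.trans h.1)
    -- every column sees one of two distinct values
    have hge : 2 * ((p : ℝ) - 1) ≤ ∑ a : Fin p, ∑ b : Fin p, ((M a : ℝ) - M b) ^ 2 := by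
      let T : Finset (Fin p × Fin p) :=
        (Finset.univ : Finset (Fin p × Fin p)).filter fun x => M x.1 ≠ M x.2
      have hT : 2 * (p - 1) ≤ T.card := by
        let s := (Finset.univ : Finset (Fin p)).filter fun a : Fin p => M a = M l₀
        let s' := (Finset.univ : Finset (Fin p)).filter fun a : Fin p => ¬ M a = M l₀
        have hs : s.card + s'.card = p := by
          rw [Finset.card_filter_add_card_filter_not, Finset.card_univ, Fintype.card_fin]
        have h1 : 1 ≤ s.card := Finset.card_pos.mpr ⟨l₀, by simp [s]⟩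
        have h2 : 1 ≤ s'.card := Finset.card_pos.mpr ⟨l₁, by simpa [s'] using hl₁⟩
        have hsub : s ×ˢ s' ∪ s' ×ˢ s ⊆ T := by
          intro x hx
          simp only [Finset.mem_union, Finset.mem_product, s, s', Finset.mem_filter,
            Finset.mem_univ, true_and] at hx
          simp only [T, Finset.mem_filter, Finset.mem_univ, true_and]
          rcases hx with ⟨ha, hb⟩ | ⟨ha, hb⟩
          · exact fun e => hb (e.symm.trans ha)
          · exact fun e => ha (e.trans hb)
        have hdisj : Disjoint (s ×ˢ s') (s' ×ˢ s) := by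
          rw [Finset.disjoint_left]
          intro x hx hx'
          simp only [Finset.mem_product, s, s', Finset.mem_filter] at hx hx'
          exact hx'.1.2 hx.1.2
        refine le_trans ?_ (Finset.card_le_card hsub)
        rw [Finset.card_union_of_disjoint hdisj, Finset.card_product, Finset.card_product]
        have h3 : p ≤ s.card * s'.card + 1 := by nlinarith
        have h4 : s'.card * s.card = s.card * s'.card := mul_comm _ _
        omega
      rw [← Finset.sum_product']
      calc 2 * ((p : ℝ) - 1) = ((2 * (p - 1) : ℕ) : ℝ) := by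
            rw [Nat.cast_mul, Nat.cast_sub hp.out.one_le]; norm_num
        _ ≤ (T.card : ℝ) := by exact_mod_cast hT
        _ = ∑ x ∈ T, (1 : ℝ) := by simp
        _ ≤ ∑ x ∈ T, ((M x.1 : ℝ) - M x.2) ^ 2 :=
            Finset.sum_le_sum fun x hx => hsq _ _ (Finset.mem_filter.mp hx).2
        _ ≤ _ := Finset.sum_le_sum_of_subset_of_nonneg (by simp) fun x _ _ => sq_nonneg _
    linarith

/-- Let X be a finite group and V a normal subgroup of X in which every element has order dividing the prime p, whose index in X is prime to p and which is its own centralizer in X; so V is an elementary abelian normal Sylow p-subgroup, and any complement G to V in X is a group of order prime to p acting faithfully on the vector space V by conjugation (the coprime linear setting of the k(GV) problem). Let G be a complement to V in X and suppose that for some v in V the centralizer of v in G is abelian. Then the number of conjugacy classes of X is at most the order of V (the abelian-stabilizer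 criterion for the k(GV) problem). -/
theorem result {X : Type*} [Group X] [Finite X] (p : ℕ) [Fact p.Prime] (V : Subgroup X) [V.Normal] (hVexp : ∀ v ∈ V, v ^ p = 1) (hidx : ¬ p ∣ V.index) (hself : Subgroup.centralizer (V : Set X) = V) (G : Subgroup X) (hGV : Subgroup.IsComplement' V G) (v : X) (hv : v ∈ V) (hab : ∀ a ∈ G ⊓ Subgroup.centralizer ({v} : Set X), ∀ b ∈ G ⊓ Subgroup.centralizer ({v} : Set X), a * b = b * a) : Nat.card (ConjClasses X) ≤ Nat.card V := by
  classical
  haveI := Fintype.ofFinite X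
  have hp : p.Prime := Fact.out
  set C := G ⊓ Subgroup.centralizer ({v} : Set X) with hCdef
  haveI := Fintype.ofFinite C
  have hcC : ∀ a b : C, a * b = b * a := fun a b => Subtype.ext (hab a a.2 b b.2)
  have hVab : ∀ a ∈ V, ∀ b ∈ V, a * b = b * a := fun a ha b hb => by
    have h1 : a ∈ Subgroup.centralizer (V : Set X) := by rw [hself]; exact ha
    exact ((Subgroup.mem_centralizer_iff.mp h1) b hb).symm
  have hGcard : Nat.card G = V.index := hGV.symm.index_eq_card.symm
  have hCp : (Nat.card C).Coprime p := by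
    have h1 : Nat.card C ∣ V.index := hGcard ▸ Subgroup.card_dvd_of_le inf_le_left
    exact Nat.Coprime.coprime_dvd_left h1 (hp.coprime_iff_not_dvd.mpr hidx).symm
  obtain ⟨A, _, _, φ, F, hA, hB, hF, hker, hineq⟩ :=
    exists_bnd (p := p) C hcC hCp (Nat.card V + 1) V (Nat.lt_succ_self _) hVexp hVab
      (by rw [Subgroup.normalizer_eq_top]; exact le_top)
  have hφ : Function.Injective φ := by
    rw [← MonoidHom.ker_eq_bot_iff, eq_bot_iff]
    intro h hh
    have hc : (h : X) ∈ V := by
      rw [← hself]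
      exact Subgroup.mem_centralizer_iff.mpr fun w hw => (hker h hh w hw).symm
    have h2 : (h : X) ∈ V ⊓ G := ⟨hc, h.2.1⟩
    rw [hGV.disjoint.eq_bot, Subgroup.mem_bot] at h2
    exact Subgroup.mem_bot.mpr (Subtype.ext h2)
  let CV : C → ℕ := fun h => Nat.card ↥(V ⊓ Subgroup.centralizer ({(h : X)} : Set X))
  let f : C → ℝ := fun h => (Nat.card V : ℝ) / (CV h : ℝ)
  have hbnd : Bnd C f := bnd_comap hA φ hφ hB fun h => by
    rw [le_div_iff₀ (by exact_mod_cast Nat.card_pos)]
    exact hineq h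
  -- centralizers of the elements `v ^ (j + 1) * h`
  have hcen : ∀ (j : Fin (p - 1)) (h : C),
      Nat.card (Subgroup.centralizer ({v ^ ((j : ℕ) + 1) * (h : X)} : Set X)) = CV h * Nat.card C := by
    intro j h
    set t := (j : ℕ) + 1 with ht
    have htp : t.Coprime p := ((hp.coprime_iff_not_dvd.mpr (Nat.not_dvd_of_pos_of_lt
      (Nat.succ_pos _) (by have := j.2; omega))).symm)
    have hvh : Commute (v ^ t) (h : X) :=
      ((show Commute v (h : X) from (Subgroup.mem_centralizer_singleton_iff.mp h.2.2).symm)).pow_left t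
    -- powers recover the factors
    obtain ⟨s, hs⟩ := Nat.exists_mul_mod_eq_one_of_coprime htp.symm.symm hp.one_lt
    let r := Nat.chineseRemainder hCp 0 s
    have hr1 : (r : ℕ) ≡ 0 [MOD Nat.card C] := r.2.1
    have hr2 : (r : ℕ) ≡ s [MOD p] := r.2.2
    have hr : (v ^ t * (h : X)) ^ (r : ℕ) = v := by
      rw [hvh.mul_pow]
      have e1 : (h : X) ^ (r : ℕ) = 1 := by
        obtain ⟨c, hc⟩ := Nat.modEq_zero_iff_dvd.mp hr1
        rw [hc, pow_mul, ← SubmonoidClass.coe_pow, pow_card_eq_one', OneMemClass.coe_one, one_pow]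
      rw [e1, mul_one, ← pow_mul]
      conv_rhs => rw [← pow_one v]
      refine pow_eq_pow_iff_modEq.mpr (Nat.ModEq.of_dvd (orderOf_dvd_of_pow_eq_one (hVexp v hv)) ?_)
      calc t * (r : ℕ) ≡ t * s [MOD p] := hr2.mul_left t
        _ ≡ 1 [MOD p] := by rw [Nat.ModEq, hs.2, Nat.mod_eq_of_lt hp.one_lt]
    let e : ↥(V ⊓ Subgroup.centralizer ({(h : X)} : Set X)) × C →
        ↥(Subgroup.centralizer ({v ^ t * (h : X)} : Set X)) := fun x => ⟨(x.1 : X) * x.2, by
      refine Subgroup.mem_centralizer_singleton_iff.mpr ?_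
      have a1 : Commute (x.1 : X) v := hVab _ x.1.2.1 v hv
      have a2 : Commute (x.1 : X) (h : X) := Subgroup.mem_centralizer_singleton_iff.mp x.1.2.2
      have b1 : Commute (x.2 : X) v := Subgroup.mem_centralizer_singleton_iff.mp x.2.2.2
      have b2 : Commute (x.2 : X) (h : X) := congrArg Subtype.val (hcC x.2 h)
      exact (((a1.pow_right t).mul_right a2).mul_left ((b1.pow_right t).mul_right b2)).eq⟩
    have he : Function.Bijective e := by
      refine ⟨fun x y hxy => ?_, fun y => ?_⟩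
      · have h1 : (x.1 : X) * x.2 = (y.1 : X) * y.2 := congrArg Subtype.val hxy
        have h2 : (y.1 : X)⁻¹ * x.1 = (y.2 : X) * (x.2 : X)⁻¹ := by
          rw [eq_mul_inv_iff_mul_eq, mul_assoc, h1, inv_mul_cancel_left]
        have h3 : (y.1 : X)⁻¹ * x.1 ∈ V ⊓ G :=
          ⟨V.mul_mem (V.inv_mem y.1.2.1) x.1.2.1, h2 ▸ G.mul_mem y.2.2.1 (G.inv_mem x.2.2.1)⟩
        rw [hGV.disjoint.eq_bot, Subgroup.mem_bot] at h3
        have h4 : x.1 = y.1 := Subtype.ext (inv_mul_eq_one.mp h3).symm
        refine Prod.ext h4 (Subtype.ext ?_)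
        rw [h4] at h1
        exact mul_left_cancel h1
      · obtain ⟨y, hy⟩ := y
        have hy1 : Commute y (v ^ t * (h : X)) := Subgroup.mem_centralizer_singleton_iff.mp hy
        have hyv : Commute y v := hr ▸ hy1.pow_right (r : ℕ)
        have hyh : Commute y (h : X) := by
          have := ((hyv.pow_right t).inv_right).mul_right hy1
          rwa [inv_mul_cancel_left] at this
        obtain ⟨⟨u, g⟩, hug⟩ := hGV.2 y
        simp only at hug
        have hgv : Commute (g : X) v := by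
          have hu : Commute (u : X) v := hVab _ u.2 v hv
          have := hu.inv_left.mul_left (hug ▸ hyv : Commute ((u : X) * g) v)
          rwa [inv_mul_cancel_left] at this
        have hgC : (g : X) ∈ C := ⟨g.2, Subgroup.mem_centralizer_singleton_iff.mpr hgv.eq⟩
        have hgh : Commute (g : X) (h : X) := congrArg Subtype.val (hcC ⟨g, hgC⟩ h)
        have huh : Commute (u : X) (h : X) := by
          have := (hug ▸ hyh : Commute ((u : X) * g) (h : X)).mul_left hgh.inv_left
          rwa [mul_inv_cancel_right] at this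
        exact ⟨(⟨u, u.2, Subgroup.mem_centralizer_singleton_iff.mpr huh.eq⟩, ⟨g, hgC⟩),
          Subtype.ext hug⟩
    rw [← Nat.card_congr (Equiv.ofBijective e he), Nat.card_prod]
  -- each character contributes
  have hrow : ∀ χ : IrrCharacter X, ((p : ℝ) - 1) * (Nat.card C : ℝ) ^ 2 ≤
      ∑ h : C, f h * ∑ j : Fin (p - 1), ‖(χ : X → ℂ) (v ^ ((j : ℕ) + 1) * (h : X))‖ ^ 2 := by
    intro χ
    have hp1 : (0 : ℝ) ≤ (p : ℝ) - 1 := sub_nonneg.mpr (by exact_mod_cast hp.one_le)
    refine hbnd (Fin (p - 1)) _ (fun h j => (χ : X → ℂ) (v ^ ((j : ℕ) + 1) * (h : X))) hp1 ?_ ?_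
    · intro θ
      let D := Multiplicative (ZMod p) × C
      haveI : Fintype D := inferInstanceAs (Fintype (Multiplicative (ZMod p) × C))
      have hvp : v ^ p = 1 := hVexp v hv
      have hz : ((p : ℕ) : ℤ) ∣ 0 := dvd_zero _
      let ψ : Multiplicative (ZMod p) × C →* X :=
        { toFun := fun x => v ^ (x.1.toAdd.val) * (x.2 : X)
          map_one' := by simp
          map_mul' := fun x y => by
            have hc : Commute (x.2 : X) (v ^ y.1.toAdd.val) :=
              ((show Commute (x.2 : X) v from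
                Subgroup.mem_centralizer_singleton_iff.mp x.2.2.2)).pow_right _
            have hv' : v ^ (x.1 * y.1).toAdd.val = v ^ x.1.toAdd.val * v ^ y.1.toAdd.val := by
              rw [← pow_add, toAdd_mul, ZMod.val_add]
              exact (pow_eq_pow_mod _ hvp).symm
            show v ^ (x.1 * y.1).toAdd.val * ((x.2 : X) * y.2) = _
            rw [hv']
            calc v ^ x.1.toAdd.val * v ^ y.1.toAdd.val * ((x.2 : X) * y.2)
                = v ^ x.1.toAdd.val * (v ^ y.1.toAdd.val * x.2) * y.2 := by group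
              _ = v ^ x.1.toAdd.val * ((x.2 : X) * v ^ y.1.toAdd.val) * y.2 := by rw [hc.eq]
              _ = _ := by group }
      have hcD : ∀ a b : Multiplicative (ZMod p) × C, a * b = b * a := fun a b =>
        Prod.ext (mul_comm _ _) (hcC _ _)
      have hres := CT.isCharacter_comp ψ (CT.isCharacter_of_isIrr χ.2)
      choose lam hlam using fun μ : IrrCharacter (Multiplicative (ZMod p) × C) =>
        CT.exists_hom_of_comm hcD μ.2
      let sel : IrrCharacter (Multiplicative (ZMod p) × C) → ℕ := fun μ =>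
        if (fun h : C => (μ : Multiplicative (ZMod p) × C → ℂ) (1, h)) = (θ : C → ℂ) then
          CT.mult (fun x => (χ : X → ℂ) (ψ x)) μ else 0
      let w : IrrCharacter (Multiplicative (ZMod p) × C) → ℂ := fun μ =>
        (lam μ (Multiplicative.ofAdd (1 : ZMod p), 1) : ℂ)
      have hw : ∀ μ, w μ ^ p = 1 := fun μ => by
        show ((lam μ _ : ℂˣ) : ℂ) ^ p = 1
        rw [← Units.val_pow_eq_pow_val, ← map_pow]
        have : ((Multiplicative.ofAdd (1 : ZMod p), (1 : C)) : Multiplicative (ZMod p) × C) ^ p = 1 := by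
          refine Prod.ext ?_ (one_pow p)
          show Multiplicative.ofAdd (1 : ZMod p) ^ p = 1
          rw [← ofAdd_nsmul]; simp
        rw [this, map_one, Units.val_one]
      have hval : ∀ j : Fin (p - 1), classInner
          (fun h : C => (χ : X → ℂ) (v ^ ((j : ℕ) + 1) * (h : X))) (θ : C → ℂ) =
          ∑ μ, (sel μ : ℂ) * w μ ^ ((j : ℕ) + 1) := by
        intro j
        have hfun : (fun h : C => (χ : X → ℂ) (v ^ ((j : ℕ) + 1) * (h : X))) =
            ∑ μ : IrrCharacter (Multiplicative (ZMod p) × C),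
              ((CT.mult (fun x => (χ : X → ℂ) (ψ x)) μ : ℂ) * w μ ^ ((j : ℕ) + 1)) •
                (fun h : C => (μ : Multiplicative (ZMod p) × C → ℂ) (1, h)) := by
          funext h
          have h1 := congrFun (CT.character_eq_sum hres)
            (Multiplicative.ofAdd (((j : ℕ) + 1 : ℕ) : ZMod p), h)
          have hψ : ψ (Multiplicative.ofAdd (((j : ℕ) + 1 : ℕ) : ZMod p), h) =
              v ^ ((j : ℕ) + 1) * (h : X) := by
            show v ^ (((((j : ℕ) + 1 : ℕ) : ZMod p)).val) * (h : X) = _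
            rw [ZMod.val_natCast, Nat.mod_eq_of_lt (by have := j.2; omega)]
          simp only [hψ, Finset.sum_apply, Pi.smul_apply, smul_eq_mul] at h1 ⊢
          rw [h1]
          refine Finset.sum_congr rfl fun μ _ => ?_
          rw [mul_assoc]
          congr 1
          simp only [w, hlam μ]
          rw [← Units.val_pow_eq_pow_val, ← Units.val_mul, ← map_pow, ← map_mul]
          congr 2
          refine Prod.ext ?_ ?_
          · show Multiplicative.ofAdd _ = Multiplicative.ofAdd (1 : ZMod p) ^ ((j : ℕ) + 1) * 1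
            rw [mul_one, ← ofAdd_nsmul]; simp
          · show h = (1 : C) ^ ((j : ℕ) + 1) * h
            rw [one_pow, one_mul]
        rw [hfun, CT.classInner_sum_left]
        refine Finset.sum_congr rfl fun μ _ => ?_
        rw [CT.classInner_smul_left]
        have hirr : IsIrrCharacter C (fun h : C => (μ : Multiplicative (ZMod p) × C → ℂ) (1, h)) := by
          have := CT.isIrrCharacter_lin ((lam μ).comp (MonoidHom.inr (Multiplicative (ZMod p)) C))
          simpa [hlam μ] using this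
        rw [CT.irr_inner hirr θ.2]
        simp only [sel]
        split_ifs <;> simp
      simp only [hval]
      exact roots_bound sel w hw
    · have hj : 0 < p - 1 := Nat.sub_pos_of_lt hp.one_lt
      refine ⟨1, ⟨0, hj⟩, ?_⟩
      show (χ : X → ℂ) (v ^ (0 + 1) * ((1 : C) : X)) ≠ 0
      rw [zero_add, pow_one, OneMemClass.coe_one, mul_one]
      intro h0
      obtain ⟨d, ρ, -, hρ⟩ := χ.2
      obtain ⟨ω, hω, he⟩ := CT.exists_eigenvalues ρ v
      have h1 := he 1
      simp only [pow_one] at h1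
      rw [hρ, h0] at h1
      have hd := CT.RationalP.dvd_sub_deg hp (b := 1) (ω := ω)
        (fun i => orderOf_dvd_iff_pow_eq_one.mp
          ((orderOf_dvd_of_pow_eq_one (hω i)).trans
            (orderOf_dvd_of_pow_eq_one (by rw [pow_one]; exact hVexp v hv))))
        (z := 0) (by rw [← h1]; simp)
      have hdeg : CT.deg (χ : X → ℂ) = Module.finrank ℂ (Fin d → ℂ) := by
        rw [← hρ]; exact CT.deg_eq_finrank ρ
      rw [zero_sub, Int.dvd_neg, Int.natCast_dvd_natCast, ← hdeg] at hd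
      exact hidx (hd.trans (CT.deg_dvd_index_of_comm V χ.2
        fun a b => Subtype.ext (hVab a a.2 b b.2)))
  -- the total
  have htot : ∑ χ : IrrCharacter X,
      ∑ h : C, f h * ∑ j : Fin (p - 1), ‖(χ : X → ℂ) (v ^ ((j : ℕ) + 1) * (h : X))‖ ^ 2 =
      ((p : ℝ) - 1) * (Nat.card C : ℝ) ^ 2 * (Nat.card V : ℝ) := by
    rw [Finset.sum_comm]
    have hterm : ∀ h : C, ∑ χ : IrrCharacter X,
        f h * ∑ j : Fin (p - 1), ‖(χ : X → ℂ) (v ^ ((j : ℕ) + 1) * (h : X))‖ ^ 2 =
        ((p : ℝ) - 1) * (Nat.card C : ℝ) * (Nat.card V : ℝ) := by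
      intro h
      rw [← Finset.mul_sum, Finset.sum_comm]
      have hj : ∀ j : Fin (p - 1), ∑ χ : IrrCharacter X,
          ‖(χ : X → ℂ) (v ^ ((j : ℕ) + 1) * (h : X))‖ ^ 2 = (CV h : ℝ) * (Nat.card C : ℝ) := by
        intro j
        have hcol := CT.column_orthogonality (v ^ ((j : ℕ) + 1) * (h : X)) (v ^ ((j : ℕ) + 1) * (h : X))
        rw [if_pos (IsConj.refl _), hcen j h] at hcol
        simp only [Complex.mul_conj'] at hcol
        exact_mod_cast hcol
      rw [Finset.sum_congr rfl fun j _ => hj j, Finset.sum_const, Finset.card_univ, Fintype.card_fin,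
        nsmul_eq_mul, Nat.cast_sub hp.one_le, Nat.cast_one]
      have hCV : (CV h : ℝ) ≠ 0 := Nat.cast_ne_zero.mpr Nat.card_pos.ne'
      simp only [f]
      field_simp
    rw [Finset.sum_congr rfl fun h _ => hterm h, Finset.sum_const, Finset.card_univ,
      ← Nat.card_eq_fintype_card, nsmul_eq_mul]
    ring
  have hsum := Finset.sum_le_sum (s := Finset.univ) fun χ (_ : χ ∈ (Finset.univ : Finset (IrrCharacter X))) => hrow χ
  rw [htot, Finset.sum_const, Finset.card_univ, nsmul_eq_mul, ← Nat.card_eq_fintype_card,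
    CT.card_irr_eq_card_conjClasses] at hsum
  have hpos : (0 : ℝ) < ((p : ℝ) - 1) * (Nat.card C : ℝ) ^ 2 := by
    have h1 : (1 : ℝ) < p := by exact_mod_cast hp.one_lt
    have h2 : (0 : ℝ) < Nat.card C := by exact_mod_cast Nat.card_pos
    have := sub_pos.mpr h1
    positivity
  have hfin : (Nat.card (ConjClasses X) : ℝ) ≤ (Nat.card V : ℝ) :=
    le_of_mul_le_mul_right (by linarith [hsum]) hpos
  exact_mod_cast hfin

end Cfsg.Agent.S4958
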