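import Cfsg.Statements.S4959
import Cfsg.Agent.Lib.KGV.Criterion
import Cfsg.Agent.Lib.KGV.SelfDual
-- import your own Cfsg.Agent.* helpers here

set_option autoImplicit false
set_option linter.all false
set_option maxHeartbeats 1000000
open Cfsg

namespace Cfsg.Agent.S4959

/-- Let X be a finite group and V a normal subgroup of X in which every element has order dividing the prime p, whose index in X is prime to p and which is its own centralizer in X; so V is an elementary abelian normal Sylow p-subgroup, and any complement G to V in X is a group of order prime to p acting faithfully on the vector space V by conjugation (the coprime linear setting of the k(GV) problem). Let G be a complement to V in X, let v be in V and let H be the centralizer of v in G. Suppose there is a subgroup U of V normalized by H, on which H acts faithfully, and carrying an H-invariant bi-additive pairing β with values in the integers modulo p that is nondegenerate on U (equivalently: the restriction of the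 module V to H has a faithful self-dual submodule; such a v is called a real vector for G). Then the number of conjugacy classes of X is at most the order of V (the real-vector criterion for the k(GV) problem). The pairing is given as a function on X whose relevant values are those on pairs from U. -/
theorem result {X : Type*} [Group X] [Finite X] (p : ℕ) [Fact p.Prime] (V : Subgroup X) [V.Normal] (hVexp : ∀ v ∈ V, v ^ p = 1) (hidx : ¬ p ∣ V.index) (hself : Subgroup.centralizer (V : Set X) = V) (G : Subgroup X) (hGV : Subgroup.IsComplement' V G) (v : X) (hv : v ∈ V) (U : Subgroup X) (hUV : U ≤ V) (hUinv : ∀ h ∈ G, h * v * h⁻¹ = v → ∀ u ∈ U, h * u * h⁻¹ ∈ U) (hUfaith : ∀ h ∈ G, h * v * h⁻¹ = v → (∀ u ∈ U, h * u * h⁻¹ = u) → h = 1) (β : X → X → ZMod p) (hβl : ∀ u ∈ U, ∀ u' ∈ U, ∀ w ∈ U, β (u * u') w = β u w + β u' w) (hβr : ∀ u ∈ U, ∀ w ∈ U, ∀ w' ∈ U, β u (w * w') = β u w + β u w') (hβinv : ∀ h ∈ G, h * v * h⁻¹ = v → ∀ u ∈ U, ∀ w ∈ U, β (h * u * h⁻¹) (h * w * h⁻¹) = β u w) (hβnd : ∀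 u ∈ U, (∀ w ∈ U, β u w = 0) → u = 1) : Nat.card (ConjClasses X) ≤ Nat.card V := by
  classical
  haveI := Fintype.ofFinite X
  have hp : p.Prime := Fact.out
  set C := G ⊓ Subgroup.centralizer ({v} : Set X) with hCdef
  haveI := Fintype.ofFinite C
  have hVab : ∀ a ∈ V, ∀ b ∈ V, a * b = b * a := fun a ha b hb => by
    have h1 : a ∈ Subgroup.centralizer (V : Set X) := by rw [hself]; exact ha
    exact ((Subgroup.mem_centralizer_iff.mp h1) b hb).symm
  have hCG : ∀ h : C, (h : X) ∈ G := fun h => h.2.1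
  have hCv : ∀ h : C, (h : X) * v * (h : X)⁻¹ = v := fun h => by
    rw [Subgroup.mem_centralizer_singleton_iff.mp h.2.2, mul_inv_cancel_right]
  have hGcard : Nat.card G = V.index := hGV.symm.index_eq_card.symm
  have hCdvd : Nat.card C ∣ V.index := hGcard ▸ Subgroup.card_dvd_of_le inf_le_left
  have hCp : ¬ p ∣ Nat.card C := fun h => hidx (h.trans hCdvd)
  have hcop : (Nat.card C).Coprime p := (hp.coprime_iff_not_dvd.mpr hCp).symm
  letI : CommGroup U := { (inferInstance : Group U) with
    mul_comm := fun a b => Subtype.ext (hVab a (hUV a.2) b (hUV b.2)) }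
  let α : C →* MulAut U :=
    { toFun := fun h =>
        { toFun := fun u => ⟨(h : X) * u * (h : X)⁻¹, hUinv h (hCG h) (hCv h) u u.2⟩
          invFun := fun u => ⟨((h⁻¹ : C) : X) * u * ((h⁻¹ : C) : X)⁻¹,
            hUinv _ (hCG h⁻¹) (hCv h⁻¹) u u.2⟩
          left_inv := fun u => Subtype.ext (by simp [mul_assoc])
          right_inv := fun u => Subtype.ext (by simp [mul_assoc])
          map_mul' := fun a b => Subtype.ext (by simp [mul_assoc]) }
      map_one' := by ext u; simp
      map_mul' := fun a b => by ext u; simp [mul_assoc] }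
  let B : Cfsg.Agent.KGV.Bil U p := ⟨fun a b => β a b,
    fun a b c => hβl a a.2 b b.2 c c.2, fun a b c => hβr a a.2 b b.2 c c.2⟩
  obtain ⟨π, hπ, hlt, hle⟩ := Cfsg.Agent.KGV.exists_root (p := p) hcop (Nat.card U + 1) U α B
    (Nat.lt_succ_self _) (fun u => Subtype.ext (hVexp u (hUV u.2)))
    (fun h u w => hβinv h (hCG h) (hCv h) u u.2 w w.2)
    (fun u hu => Subtype.ext (hβnd u u.2 fun w hw => hu ⟨w, hw⟩))
  have hfaith : ∀ h : C, h ≠ 1 → α h ≠ 1 := fun h hh he => hh (Subtype.ext (hUfaith h (hCG h) (hCv h)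
    fun u hu => congrArg Subtype.val (DFunLike.congr_fun he (⟨u, hu⟩ : U))))
  obtain ⟨δ, hδ, h1, hrad, hcyc, hnorm⟩ := hπ.exists_delta hp hCp fun h hh => hlt h (hfaith h hh)
  refine Cfsg.Agent.KGV.criterion V hVexp hVab hidx G hGV v hv C rfl δ hδ h1 hrad hcyc fun h => ?_
  obtain ⟨n, hn, hn'⟩ := hnorm h
  refine ⟨n, hn, ?_⟩
  set Z := Subgroup.centralizer ({(h : X)} : Set X)
  have hfix : Cfsg.Agent.KGV.fixCard α h = Nat.card ↥(U ⊓ Z) :=
    Nat.card_congr ⟨fun u => ⟨u.1.1, u.1.2, by
        refine Subgroup.mem_centralizer_singleton_iff.mpr ?_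
        have := congrArg Subtype.val ((Cfsg.Agent.KGV.mem_ker_move α).mp u.2)
        exact (mul_inv_eq_iff_eq_mul.mp this).symm⟩,
      fun u => ⟨⟨u.1, u.2.1⟩, (Cfsg.Agent.KGV.mem_ker_move α).mpr (Subtype.ext (by
        show (h : X) * u.1 * (h : X)⁻¹ = u.1
        rw [← Subgroup.mem_centralizer_singleton_iff.mp u.2.2, mul_inv_cancel_right]))⟩,
      fun u => rfl, fun u => rfl⟩
  have h2 := hle h
  rw [hfix] at h2
  obtain ⟨Γ, hΓ⟩ := hπ
  have hπpos : 0 < π h := by
    obtain ⟨k, hk⟩ := hΓ.pow h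
    rw [hk]; exact pow_pos hp.pos k
  have h3 : n * Nat.card ↥(U ⊓ Z) ≤ Nat.card U := by
    refine Nat.le_of_mul_le_mul_left ?_ hπpos
    calc π h * (n * Nat.card ↥(U ⊓ Z)) = n * π h * Nat.card ↥(U ⊓ Z) := by ring
      _ = π 1 * Nat.card ↥(U ⊓ Z) := by rw [hn']
      _ ≤ _ := h2
  have h4 : Nat.card ↥(V ⊓ Z) * Nat.card U ≤ Nat.card V * Nat.card ↥(U ⊓ Z) := by
    have key : ∀ {A B : Subgroup X}, A ≤ B → Nat.card B = A.relIndex B * Nat.card A := fun {A B} h => by
      rw [Subgroup.relIndex, ← Nat.card_congr (Subgroup.subgroupOfEquivOfLe h).toEquiv, mul_comm,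
        Subgroup.card_mul_index]
    rw [key hUV, key (inf_le_inf_right Z hUV : U ⊓ Z ≤ V ⊓ Z)]
    have h5 : (U ⊓ Z).relIndex (V ⊓ Z) ≤ U.relIndex V := by
      have h6 : U ⊓ Z = U ⊓ (V ⊓ Z) := by rw [← inf_assoc, inf_eq_left.mpr hUV]
      rw [h6, Subgroup.inf_relIndex_right]
      exact Subgroup.relIndex_le_of_le_right inf_le_left Subgroup.index_ne_zero_of_finite
    calc (U ⊓ Z).relIndex (V ⊓ Z) * Nat.card ↥(U ⊓ Z) * Nat.card U
        ≤ U.relIndex V * Nat.card ↥(U ⊓ Z) * Nat.card U :=
          Nat.mul_le_mul_right _ (Nat.mul_le_mul_right _ h5)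
      _ = _ := by ring
  refine Nat.le_of_mul_le_mul_right ?_ (Nat.card_pos (α := U))
  calc n * Nat.card ↥(V ⊓ Z) * Nat.card U = n * (Nat.card ↥(V ⊓ Z) * Nat.card U) := by ring
    _ ≤ n * (Nat.card V * Nat.card ↥(U ⊓ Z)) := Nat.mul_le_mul_left _ h4
    _ = Nat.card V * (n * Nat.card ↥(U ⊓ Z)) := by ring
    _ ≤ Nat.card V * Nat.card U := Nat.mul_le_mul_left _ h3

end Cfsg.Agent.S4959
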