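import Cfsg.Statements.S4964
import Cfsg.Agent.Lib.Blocks.Inflation
import Cfsg.Agent.Lib.Blocks.NormalPSupport
import Cfsg.Agent.Lib.Basics.CoprimeAction
import Cfsg.Agent.Lib.Basics.Frattini

set_option autoImplicit false
set_option linter.all false
open Cfsg

namespace Cfsg.Agent.S4964

open Cfsg.Agent Cfsg.Agent.Blocks
open scoped commutatorElement

theorem centralChar_infl_of_centralizes {G : Type*} [Group G] [Finite G] {p : ℕ} [Fact p.Prime]
    {N : Subgroup G} [N.Normal] (hP : IsPGroup p N) (χ : IrrCharacter (G ⧸ N))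
    {g : G} (hg : ¬ p ∣ orderOf g) (hgC : g ∈ Subgroup.centralizer (N : Set G)) :
    centralChar (inflIrr χ : G → ℂ) g = centralChar (χ : G ⧸ N → ℂ) (g : G ⧸ N) := by
  rw [centralChar_inflIrr]
  have e : (Subgroup.centralizer ({(g : G ⧸ N)} : Set (G ⧸ N))).comap (QuotientGroup.mk' N) =
      Subgroup.centralizer ({g} : Set G) := by
    refine le_antisymm (fun c hc => ?_) (centralizer_le_comap g)
    have h1 := Subgroup.mem_centralizer_singleton_iff.mp hc
    simp only [QuotientGroup.mk'_apply, ← QuotientGroup.mk_mul] at h1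
    have hu : g⁻¹ * (c * g * c⁻¹) ∈ N := by
      rw [← QuotientGroup.eq_one_iff, QuotientGroup.mk_mul, QuotientGroup.mk_mul, h1]
      simp
    set u := g⁻¹ * (c * g * c⁻¹) with hudef
    have hgu : Commute g u := (Subgroup.mem_centralizer_iff.mp hgC u hu).symm
    obtain ⟨k, hk⟩ := exists_pow_eq_one_of_isPGroup hP hu
    have hmk := isPPart_mk (p := p) hgu.symm ⟨k, hk⟩ hg
    have hreg' : ¬ p ∣ orderOf (u * g) := by
      rw [← hgu.eq, hudef, mul_inv_cancel_left,
        show c * g * c⁻¹ = MulAut.conj c g from rfl, MulEquiv.orderOf_eq]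
      exact hg
    have h3 : u = 1 := ppart_unique hmk (isPPart_one hreg')
    rw [hudef, inv_mul_eq_one, eq_mul_inv_iff_mul_eq] at h3
    exact Subgroup.mem_centralizer_singleton_iff.mpr h3.symm
  rw [e, Subgroup.relIndex_self, Nat.cast_one, one_mul]

/-- A `p`-regular element centralizing `D ⧸ D'` centralizes the `p`-group `D`. -/
theorem mem_centralizer_of_quotient {G : Type*} [Group G] [Finite G] {p : ℕ} [Fact p.Prime]
    {D : Subgroup G} [D.Normal] (hD : IsPGroup p D) {g : G} (hg : ¬ p ∣ orderOf g)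
    (h : ∀ d ∈ D, ⁅d, g⁆ ∈ ⁅D, D⁆) : g ∈ Subgroup.centralizer (D : Set G) := by
  haveI : Group.IsNilpotent D := hD.isNilpotent
  set A := Subgroup.zpowers g
  have hAN : A ≤ Subgroup.normalizer (D : Set G) := by
    rw [Subgroup.normalizer_eq_top]; exact le_top
  obtain ⟨n, hn⟩ := IsPGroup.iff_card.mp hD
  have hcop : (Nat.card A).Coprime (Nat.card D) := by
    rw [Nat.card_zpowers, hn]
    exact Nat.Coprime.pow_right n (((Fact.out : p.Prime).coprime_iff_not_dvd.mpr hg).symm)
  have hcomm : ⁅D, A⁆ ≤ ⁅D, D⁆ := by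
    rw [Subgroup.commutator_le]
    intro d hd a ha
    let W : Subgroup G :=
      { carrier := {a | ∀ d ∈ D, ⁅d, a⁆ ∈ ⁅D, D⁆}
        one_mem' := fun d _ => by rw [commutatorElement_one_right]; exact one_mem _
        mul_mem' := fun {a b} ha hb d hd => by
          rw [show ⁅d, a * b⁆ = ⁅d, a⁆ * (a * ⁅d, b⁆ * a⁻¹) by simp [commutatorElement_def, mul_assoc]]
          exact mul_mem (ha d hd) ((inferInstance : (⁅D, D⁆).Normal).conj_mem _ (hb d hd) a)
        inv_mem' := fun {a} ha d hd => by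
          rw [show ⁅d, a⁻¹⁆ = a⁻¹ * ⁅d, a⁆⁻¹ * a⁻¹⁻¹ by simp [commutatorElement_def, mul_assoc]]
          exact (inferInstance : (⁅D, D⁆).Normal).conj_mem _ (inv_mem (ha d hd)) _ }
    exact (Subgroup.zpowers_le.mpr (show g ∈ W from h) : A ≤ W) ha d hd
  have hK : (D ⊓ Subgroup.centralizer (A : Set G)).subgroupOf D ⊔ frattini D = ⊤ := by
    rw [eq_top_iff]
    intro d _
    obtain ⟨m, hm, c, hc, hdc⟩ := Basics.exists_mem_commutator_mul A D hAN hcop
      (Or.inr inferInstance) d.2
    have hm' : m ∈ (commutator D).map D.subtype := by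
      rw [commutator_def, Subgroup.map_commutator, ← MonoidHom.range_eq_map, Subgroup.range_subtype]; exact hcomm hm
    obtain ⟨m', hm'', rfl⟩ := hm'
    rw [show d = m' * ⟨c, hc.1⟩ from Subtype.ext hdc]
    exact mul_mem (Subgroup.mem_sup_right (Basics.commutator_le_frattini hm''))
      (Subgroup.mem_sup_left hc)
  have hall := frattini_nongenerating hK
  refine Subgroup.mem_centralizer_iff.mpr fun d hd => ?_
  have hd' : d ∈ D ⊓ Subgroup.centralizer (A : Set G) :=
    (hall.symm ▸ Subgroup.mem_top (⟨d, hd⟩ : D) :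
      (⟨d, hd⟩ : D) ∈ (D ⊓ Subgroup.centralizer (A : Set G)).subgroupOf D)
  exact (Subgroup.mem_centralizer_iff.mp hd'.2 g (Subgroup.mem_zpowers g)).symm

/-- Let D be a normal p-subgroup of the finite group G, let D′ be its commutator subgroup (normal in G), and fix a maximal ideal M of the algebraic integers containing p. Then (i) two irreducible characters of G ⧸ D′ lie in the same p-block if and only if their inflations to G do, and (ii) every p-block of G contains the inflation of some irreducible character of G ⧸ D′; so inflation induces a bijection between the p-blocks of G ⧸ D′ and the p-blocks of G. -/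
theorem result {G : Type*} [Group G] [Finite G] (p : ℕ) [Fact p.Prime] (M : Ideal Cfsg.AlgInt) (hM : Cfsg.IsPModular p M) (D : Subgroup G) [D.Normal] (hD : IsPGroup p D) : (∀ χ ψ : Cfsg.IrrCharacter (G ⧸ ⁅D, D⁆), Cfsg.SameBlock M (χ : G ⧸ ⁅D, D⁆ → ℂ) (ψ : G ⧸ ⁅D, D⁆ → ℂ) ↔ Cfsg.SameBlock M ((χ : G ⧸ ⁅D, D⁆ → ℂ) ∘ QuotientGroup.mk) ((ψ : G ⧸ ⁅D, D⁆ → ℂ) ∘ QuotientGroup.mk)) ∧ ∀ B : Set (Cfsg.IrrCharacter G), Cfsg.IsPBlock M B → ∃ χ : Cfsg.IrrCharacter (G ⧸ ⁅D, D⁆), ∃ θ ∈ B, (θ : G → ℂ) = (χ : G ⧸ ⁅D, D⁆ → ℂ) ∘ QuotientGroup.mk := by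
  classical
  haveI := Cfsg.Agent.Blocks.isPrime_of_modular hM
  haveI : Fact p.Prime := ⟨hM.1⟩
  set N := ⁅D, D⁆
  have hND : N ≤ D := Subgroup.commutator_le_right D D
  have hNp : IsPGroup p N := hD.to_le hND
  refine ⟨fun χ ψ => ⟨fun h => sameBlock_inflIrr h, fun h => ?_⟩, fun B hB => ?_⟩
  swap
  · obtain ⟨χ, hχ⟩ := exists_trivial_on_pGroup (N := N) hM hNp hB
    exact ⟨χ, inflIrr χ, hχ, rfl⟩
  haveI := charP_res hM
  set B := blockOf M (χ : G ⧸ N → ℂ)
  have hB : IsPBlock M B := isPBlock_blockOf χ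
  have hA := blockCoeff_mem_loc hB
  haveI : (D.map (QuotientGroup.mk' N)).Normal :=
    ‹D.Normal›.map _ (QuotientGroup.mk'_surjective N)
  have key : red M (omegaL M χ (bIdem M B)) = red M (omegaL M ψ (bIdem M B)) := by
    simp only [omegaL_eq_sum, map_sum, map_mul]
    refine Finset.sum_congr rfl fun K _ => ?_
    by_cases h0 : red M (((bIdem M B : ZG (Loc M) (G ⧸ N)) :
        MonoidAlgebra (Loc M) (G ⧸ N)).coeff (rep K)) = 0
    · rw [h0, zero_mul, zero_mul]
    · have hu : ¬ MemLocalIdeal M (blockCoeff B (rep K)) := fun hm => h0 (by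
        rw [red_eq_zero_iff, coe_coeff_bIdem hA]; exact hm)
      obtain ⟨g, hg, hgK⟩ := exists_regular_lift (p := p) (regular_of_red_blockCoeff hM hB hu)
      have hgD : g ∈ Subgroup.centralizer (D : Set G) := by
        refine mem_centralizer_of_quotient hD hg fun d hd => ?_
        have hsupp : rep K ∈ Subgroup.centralizer
            ((D.map (QuotientGroup.mk' N) : Subgroup (G ⧸ N)) : Set (G ⧸ N)) := by
          by_contra hns
          exact hu (by
            rw [blockCoeff_eq_zero_of_notMem hM (hD.map (QuotientGroup.mk' N)) hB hns]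
            exact memLocalIdeal_zero)
        rw [← hgK] at hsupp
        have h1 := Subgroup.mem_centralizer_iff.mp hsupp (d : G ⧸ N) (Subgroup.mem_map_of_mem _ hd)
        rw [← QuotientGroup.eq_one_iff, ← QuotientGroup.mk'_apply, map_commutatorElement,
          commutatorElement_eq_one_iff_mul_comm]
        exact h1
      have hgN := Subgroup.centralizer_le (show (N : Set G) ⊆ D from hND) hgD
      congr 1
      rw [red_eq_iff, coe_centralCharL, coe_centralCharL, ← hgK,
        ← centralChar_infl_of_centralizes hNp χ hg hgN, ← centralChar_infl_of_centralizes hNp ψ hg hgN]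
      exact h g
  rw [omegaL_bIdem hA, omegaL_bIdem hA, if_pos (self_mem_blockOf χ)] at key
  by_contra hc
  rw [if_neg (show ψ ∉ B from hc), map_one, map_zero] at key
  exact one_ne_zero key

end Cfsg.Agent.S4964
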