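import Cfsg.Statements.S4965
import Mathlib

set_option autoImplicit false
set_option linter.all false
open Cfsg

namespace Cfsg.Agent.S4965

/-- Let X be a finite group with an abelian normal subgroup V (any two elements of V commute), and let φ be the action of X ⧸ V on V induced by conjugation (well defined because V is abelian; the hypothesis hφ says that the class of x acts as conjugation by x). Then X has at most as many conjugacy classes as the semidirect product of V by X ⧸ V formed with this action: the split extension has the largest class number among extensions with the given action. -/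
theorem result {X : Type*} [Group X] [Finite X] (V : Subgroup X) [V.Normal] (hab : ∀ a ∈ V, ∀ b ∈ V, a * b = b * a) (φ : X ⧸ V →* MulAut ↥V) (hφ : ∀ (x : X) (v : ↥V), ((φ (QuotientGroup.mk x) v : ↥V) : X) = x * v * x⁻¹) : Nat.card (ConjClasses X) ≤ Nat.card (ConjClasses (SemidirectProduct ↥V (X ⧸ V) φ)) := by
  classical
  set E := SemidirectProduct ↥V (X ⧸ V) φ
  let F : {p : X × X // Commute p.1 p.2} → (X ⧸ V) × (X ⧸ V) :=
    fun p => (QuotientGroup.mk p.1.1, QuotientGroup.mk p.1.2)
  haveI : Finite E := Finite.of_equiv _ SemidirectProduct.equivProd.symm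


  haveI : Nonempty {p : X × X // Commute p.1 p.2} := ⟨⟨(1, 1), Commute.refl 1⟩⟩
  let s : {p : X × X // Commute p.1 p.2} → {p : X × X // Commute p.1 p.2} :=
    fun p => Function.invFun F (F p)
  have hsF : ∀ p, F (s p) = F p := fun p => Function.invFun_eq ⟨p, rfl⟩
  have hmem : ∀ x y : X, (QuotientGroup.mk x : X ⧸ V) = QuotientGroup.mk y → x * y⁻¹ ∈ V := by
    intro x y h
    rw [← QuotientGroup.eq_one_iff, QuotientGroup.mk_mul, QuotientGroup.mk_inv, h, mul_inv_cancel]
  have hsw : ∀ (v : ↥V) (x : X), x * (v : X) = (φ (QuotientGroup.mk x) v : ↥V) * x := fun v x => by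
    rw [hφ]; group
  let f : {p : X × X // Commute p.1 p.2} → {p : E × E // Commute p.1 p.2} := fun p =>
    ⟨(⟨⟨p.1.1 * (s p).1.1⁻¹, hmem _ _ (congrArg Prod.fst (hsF p)).symm⟩, QuotientGroup.mk p.1.1⟩,
      ⟨⟨p.1.2 * (s p).1.2⁻¹, hmem _ _ (congrArg Prod.snd (hsF p)).symm⟩, QuotientGroup.mk p.1.2⟩), by
      set a := (s p).1.1 with ha
      set b := (s p).1.2 with hb
      have h1 : (QuotientGroup.mk a : X ⧸ V) = QuotientGroup.mk p.1.1 := congrArg Prod.fst (hsF p)
      have h2 : (QuotientGroup.mk b : X ⧸ V) = QuotientGroup.mk p.1.2 := congrArg Prod.snd (hsF p)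
      have hab' : a * b = b * a := (s p).2
      refine SemidirectProduct.ext ?_ ?_
      · refine Subtype.ext (mul_right_cancel (b := a * b) ?_)
        simp only [SemidirectProduct.mul_left, Subgroup.coe_mul]
        have e1 := hsw ⟨p.1.2 * b⁻¹, hmem _ _ h2.symm⟩ a
        have e2 := hsw ⟨p.1.1 * a⁻¹, hmem _ _ h1.symm⟩ b
        rw [h1] at e1
        rw [h2] at e2
        set c := ((φ (QuotientGroup.mk p.1.1)) ⟨p.1.2 * b⁻¹, hmem _ _ h2.symm⟩ : X)
        set d := ((φ (QuotientGroup.mk p.1.2)) ⟨p.1.1 * a⁻¹, hmem _ _ h1.symm⟩ : X)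
        calc p.1.1 * a⁻¹ * c * (a * b) = p.1.1 * a⁻¹ * (c * a) * b := by group
          _ = p.1.1 * p.1.2 := by rw [← e1]; group
          _ = p.1.2 * p.1.1 := p.2
          _ = p.1.2 * b⁻¹ * (b * (p.1.1 * a⁻¹)) * a := by group
          _ = p.1.2 * b⁻¹ * d * (b * a) := by rw [e2]; group
          _ = p.1.2 * b⁻¹ * d * (a * b) := by rw [hab']
      · show (QuotientGroup.mk p.1.1 : X ⧸ V) * QuotientGroup.mk p.1.2 =
          QuotientGroup.mk p.1.2 * QuotientGroup.mk p.1.1
        rw [← QuotientGroup.mk_mul, ← QuotientGroup.mk_mul, p.2]⟩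
  have hf : Function.Injective f := by
    intro p q h
    have h' := congrArg Subtype.val h
    have hF : F p = F q := Prod.ext (congrArg (fun z : E × E => z.1.right) h')
      (congrArg (fun z : E × E => z.2.right) h')
    have hspq : s p = s q := by simp only [s, hF]
    refine Subtype.ext (Prod.ext ?_ ?_)
    · have := congrArg (fun z : E × E => (z.1.left : X)) h'
      simp only [f, hspq] at this
      exact mul_right_cancel this
    · have := congrArg (fun z : E × E => (z.2.left : X)) h'
      simp only [f, hspq] at this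
      exact mul_right_cancel this
  have h := Nat.card_le_card_of_injective f hf
  rw [card_comm_eq_card_conjClasses_mul_card, card_comm_eq_card_conjClasses_mul_card] at h
  have hcard : Nat.card E = Nat.card X := by
    rw [SemidirectProduct.card, Subgroup.card_eq_card_quotient_mul_card_subgroup V, mul_comm]
  rw [hcard] at h
  exact Nat.le_of_mul_le_mul_right h Nat.card_pos

end Cfsg.Agent.S4965
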