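import Cfsg.Statements.S4966
import Mathlib.LinearAlgebra.BilinearForm.Basic
import Mathlib.LinearAlgebra.Projection
import Mathlib.LinearAlgebra.FiniteDimensional.Lemmas
import Mathlib.LinearAlgebra.Dual.Lemmas

set_option autoImplicit false
set_option linter.all false
open Cfsg

namespace Cfsg.Agent.S4966

section
variable {F : Type*} [Field F] {G : Type*} [Group G] {V : Type*} [AddCommGroup V] [Module F V]
variable (ρ : Representation F G V)

/-- An invariant subspace. -/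
def Inv (U : Submodule F V) : Prop := ∀ g : G, ∀ u ∈ U, ρ g u ∈ U

/-- Invariance and nondegeneracy of a form on a subspace. -/
def GoodOn (U : Submodule F V) (A : LinearMap.BilinForm F V) : Prop :=
  (∀ g : G, ∀ x ∈ U, ∀ y ∈ U, A (ρ g x) (ρ g y) = A x y) ∧
    (∀ x ∈ U, (∀ y ∈ U, A x y = 0) → x = 0)

variable {ρ}

theorem inv_inf {U W : Submodule F V} (hU : Inv ρ U) (hW : Inv ρ W) : Inv ρ (U ⊓ W) :=
  fun g u hu => ⟨hU g u hu.1, hW g u hu.2⟩

theorem inv_sup {U W : Submodule F V} (hU : Inv ρ U) (hW : Inv ρ W) : Inv ρ (U ⊔ W) := by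
  intro g u hu
  obtain ⟨a, ha, b, hb, rfl⟩ := Submodule.mem_sup.mp hu
  rw [map_add]
  exact Submodule.add_mem_sup (hU g a ha) (hW g b hb)

theorem rho_inv_cancel (g : G) (x : V) : ρ g (ρ g⁻¹ x) = x := by
  rw [← Module.End.mul_apply, ← map_mul, mul_inv_cancel, map_one]; rfl

theorem maschke [Finite G] (hc : (Nat.card G : F) ≠ 0) {U X : Submodule F V} (hUX : U ≤ X)
    (hU : Inv ρ U) (hX : Inv ρ X) :
    ∃ C, C ≤ X ∧ Inv ρ C ∧ Disjoint U C ∧ U ⊔ C = X := by
  classical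
  haveI := Fintype.ofFinite G
  obtain ⟨π, hπ⟩ := U.subtype.exists_leftInverse_of_injective (Submodule.ker_subtype U)
  have hπ' : ∀ u, ∀ hu : u ∈ U, π u = ⟨u, hu⟩ := fun u hu => LinearMap.congr_fun hπ ⟨u, hu⟩
  let P : V →ₗ[F] V := (Nat.card G : F)⁻¹ • ∑ g : G, (ρ g) ∘ₗ U.subtype ∘ₗ π ∘ₗ (ρ g⁻¹)
  have hP : ∀ x, P x = (Nat.card G : F)⁻¹ • ∑ g : G, ρ g (π (ρ g⁻¹ x)) := fun x => by
    simp [P, LinearMap.sum_apply]
  have hPU : ∀ x, P x ∈ U := fun x => by
    rw [hP]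
    exact U.smul_mem _ (Submodule.sum_mem _ fun g _ => hU g _ (π _).2)
  have hPid : ∀ u ∈ U, P u = u := fun u hu => by
    rw [hP]
    have : ∀ g : G, ρ g (π (ρ g⁻¹ u)) = u := fun g => by
      rw [hπ' _ (hU g⁻¹ u hu)]
      exact rho_inv_cancel g u
    rw [Finset.sum_congr rfl fun g _ => this g, Finset.sum_const, Finset.card_univ,
      ← Nat.cast_smul_eq_nsmul F, smul_smul, ← Nat.card_eq_fintype_card, inv_mul_cancel₀ hc,
      one_smul]
  have hcomm : ∀ (a : G) x, P (ρ a x) = ρ a (P x) := fun a x => by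
    rw [hP, hP, map_smul, map_sum]
    congr 1
    refine Fintype.sum_equiv (Equiv.mulLeft a⁻¹) _ _ fun g => ?_
    simp only [Equiv.coe_mulLeft, mul_inv_rev, inv_inv, map_mul, Module.End.mul_apply]
    rw [rho_inv_cancel]
  refine ⟨LinearMap.ker P ⊓ X, inf_le_right, fun g u hu => ⟨?_, hX g u hu.2⟩, ?_, ?_⟩
  · have : P u = 0 := hu.1
    show P (ρ g u) = 0
    rw [hcomm, this, map_zero]
  · rw [Submodule.disjoint_def]
    intro u hu hu'
    rw [← hPid u hu]
    exact hu'.1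
  · refine le_antisymm (sup_le hUX inf_le_right) fun x hx => ?_
    refine Submodule.mem_sup.mpr ⟨P x, hPU x, x - P x, ⟨?_, X.sub_mem hx (hUX (hPU x))⟩, by simp⟩
    show P (x - P x) = 0
    rw [map_sub, hPid _ (hPU x), sub_self]

theorem exists_proj {U W : Submodule F V} (hd : Disjoint U W) :
    ∃ π : V →ₗ[F] V, (∀ u ∈ U, π u = u) ∧ (∀ w ∈ W, π w = 0) ∧ ∀ x, π x ∈ U := by
  have hker : W ⊓ U = ⊥ := (hd.symm).eq_bot
  have hinj : LinearMap.ker (W.mkQ ∘ₗ U.subtype) = ⊥ := by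
    rw [LinearMap.ker_eq_bot']
    intro u hu
    have : (u : V) ∈ W := (Submodule.Quotient.mk_eq_zero W).mp hu
    exact Subtype.ext ((Submodule.mem_bot F).mp (hker ▸ ⟨this, u.2⟩ : (u : V) ∈ (⊥ : Submodule F V)))
  obtain ⟨s, hs⟩ := (W.mkQ ∘ₗ U.subtype).exists_leftInverse_of_injective hinj
  refine ⟨U.subtype ∘ₗ s ∘ₗ W.mkQ, fun u hu => ?_, fun w hw => ?_, fun x => (s _).2⟩
  · exact congrArg Subtype.val (LinearMap.congr_fun hs ⟨u, hu⟩)
  · simp [(Submodule.Quotient.mk_eq_zero W).mpr hw]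

/-- Pull-back along a projection on the subspace itself. -/
theorem good_pull {U : Submodule F V} (hU : Inv ρ U) {π : V →ₗ[F] V} (hπ : ∀ u ∈ U, π u = u)
    {A : LinearMap.BilinForm F V} (hA : GoodOn ρ U A) :
    GoodOn ρ U (A.compl₁₂ π π) := by
  refine ⟨fun g x hx y hy => ?_, fun x hx h => hA.2 x hx fun y hy => ?_⟩
  · simp only [LinearMap.compl₁₂_apply, hπ x hx, hπ y hy, hπ _ (hU g x hx), hπ _ (hU g y hy)]
    exact hA.1 g x hx y hy
  · have := h y hy
    simpa [hπ x hx, hπ y hy] using this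

/-- Two good forms on independent subspaces combine. -/
theorem combine (T : LinearMap.BilinForm F V → Prop) (hT : ∀ A B, T A → T B → T (A + B))
    (hT' : ∀ A (π : V →ₗ[F] V), T A → T (A.compl₁₂ π π))
    {U W : Submodule F V} (hU : Inv ρ U) (hW : Inv ρ W) (hd : Disjoint U W)
    {A B : LinearMap.BilinForm F V} (hA : T A) (hB : T B) (hgA : GoodOn ρ U A)
    (hgB : GoodOn ρ W B) : ∃ C, T C ∧ GoodOn ρ (U ⊔ W) C := by
  obtain ⟨π, hπU, hπW, -⟩ := exists_proj hd
  obtain ⟨τ, hτW, hτU, -⟩ := exists_proj hd.symm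
  let C : LinearMap.BilinForm F V := A.compl₁₂ π π + B.compl₁₂ τ τ
  have hval : ∀ a ∈ U, ∀ b ∈ W, ∀ a' ∈ U, ∀ b' ∈ W, C (a + b) (a' + b') = A a a' + B b b' := by
    intro a ha b hb a' ha' b' hb'
    simp [C, hπU a ha, hπW b hb, hπU a' ha', hπW b' hb', hτU a ha, hτW b hb, hτU a' ha', hτW b' hb']
  refine ⟨C, hT _ _ (hT' _ _ hA) (hT' _ _ hB), fun g x hx y hy => ?_, fun x hx h => ?_⟩
  · obtain ⟨a, ha, b, hb, rfl⟩ := Submodule.mem_sup.mp hx
    obtain ⟨a', ha', b', hb', rfl⟩ := Submodule.mem_sup.mp hy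
    rw [map_add (ρ g), map_add (ρ g), hval _ (hU g a ha) _ (hW g b hb) _ (hU g a' ha') _ (hW g b' hb'),
      hval a ha b hb a' ha' b' hb', hgA.1 g a ha a' ha', hgB.1 g b hb b' hb']
  · obtain ⟨a, ha, b, hb, rfl⟩ := Submodule.mem_sup.mp hx
    have h1 : a = 0 := hgA.2 a ha fun y hy => by
      have := h (y + 0) (Submodule.add_mem_sup hy W.zero_mem)
      rwa [hval a ha b hb y hy 0 W.zero_mem, map_zero, add_zero] at this
    have h2 : b = 0 := hgB.2 b hb fun y hy => by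
      have := h (0 + y) (Submodule.add_mem_sup U.zero_mem hy)
      rwa [hval a ha b hb 0 U.zero_mem y hy, map_zero, zero_add] at this
    rw [h1, h2, add_zero]

/-- Alternating. -/
def IsA (A : LinearMap.BilinForm F V) : Prop := ∀ x, A x x = 0

/-- Symmetric. -/
def IsS (A : LinearMap.BilinForm F V) : Prop := ∀ x y, A x y = A y x

/-- The decomposition wanted on a subspace. -/
def Dec (ρ : Representation F G V) (p : ℕ) (X : Submodule F V) : Prop :=
  ∃ U W : Submodule F V, Inv ρ U ∧ Inv ρ W ∧ Disjoint U W ∧ U ⊔ W = X ∧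
    (∃ A, IsA A ∧ GoodOn ρ U A) ∧ (∃ S, IsS S ∧ GoodOn ρ W S) ∧
    (p = 2 → ∀ g : G, ∀ w ∈ W, ρ g w = w)

theorem inv_bot : Inv ρ (⊥ : Submodule F V) := fun g u hu => by
  rw [Submodule.mem_bot] at hu ⊢
  rw [hu, map_zero]

theorem good_bot : GoodOn ρ (⊥ : Submodule F V) (0 : LinearMap.BilinForm F V) :=
  ⟨fun g x _ y _ => rfl, fun x hx _ => (Submodule.mem_bot F).mp hx⟩

theorem dec_of_alt {p : ℕ} {X : Submodule F V} (hX : Inv ρ X)
    (h : ∃ A, IsA A ∧ GoodOn ρ X A) : Dec ρ p X :=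
  ⟨X, ⊥, hX, inv_bot, disjoint_bot_right, sup_bot_eq X, h, ⟨0, fun _ _ => rfl, good_bot⟩,
    fun _ g w hw => by rw [(Submodule.mem_bot F).mp hw, map_zero]⟩

theorem dec_of_symm {p : ℕ} {X : Submodule F V} (hX : Inv ρ X)
    (h : ∃ A, IsS A ∧ GoodOn ρ X A) (h2 : p = 2 → ∀ g : G, ∀ w ∈ X, ρ g w = w) : Dec ρ p X :=
  ⟨⊥, X, inv_bot, hX, disjoint_bot_left, bot_sup_eq X, ⟨0, fun _ => rfl, good_bot⟩, h, h2⟩

theorem dec_sup {p : ℕ} {X Y : Submodule F V} (hd : Disjoint X Y) (h1 : Dec ρ p X)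
    (h2 : Dec ρ p Y) : Dec ρ p (X ⊔ Y) := by
  obtain ⟨U, W, hU, hW, hUW, rfl, ⟨A, hA, hgA⟩, ⟨S, hS, hgS⟩, ht⟩ := h1
  obtain ⟨U', W', hU', hW', hUW', rfl, ⟨A', hA', hgA'⟩, ⟨S', hS', hgS'⟩, ht'⟩ := h2
  refine ⟨U ⊔ U', W ⊔ W', inv_sup hU hU', inv_sup hW hW', ?_, by ac_rfl, ?_, ?_, ?_⟩
  · rw [Submodule.disjoint_def]
    intro x hx hx'
    obtain ⟨u, hu, u', hu', rfl⟩ := Submodule.mem_sup.mp hx
    obtain ⟨w, hw, w', hw', e⟩ := Submodule.mem_sup.mp hx'
    have h0 : u - w = 0 := Submodule.disjoint_def.mp hd _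
      ((U ⊔ W).sub_mem (Submodule.mem_sup_left hu) (Submodule.mem_sup_right hw))
      (by
        rw [show u - w = w' - u' by rw [sub_eq_sub_iff_add_eq_add]; exact e.symm.trans (add_comm w w')]
        exact (U' ⊔ W').sub_mem (Submodule.mem_sup_right hw') (Submodule.mem_sup_left hu'))
    have e1 : u = w := sub_eq_zero.mp h0
    have hu0 : u = 0 := Submodule.disjoint_def.mp hUW u hu (e1 ▸ hw)
    have hw0 : w = 0 := e1 ▸ hu0
    rw [hu0, hw0, zero_add, zero_add] at e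
    rw [hu0, zero_add]
    exact Submodule.disjoint_def.mp hUW' u' hu' (e ▸ hw')
  · exact combine IsA (fun A B a b x => by simp [a x, b x]) (fun A π a x => by simp [a (π x)])
      hU hU' (hd.mono le_sup_left le_sup_left) hA hA' hgA hgA'
  · exact combine IsS (fun A B a b x y => by simp [a x y, b x y])
      (fun A π a x y => by simp [a (π x) (π y)])
      hW hW' (hd.mono le_sup_right le_sup_right) hS hS' hgS hgS'
  · intro hp g w hw
    obtain ⟨a, ha, b, hb, rfl⟩ := Submodule.mem_sup.mp hw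
    rw [map_add, ht hp g a ha, ht' hp g b hb]

/-- A form invariant and nondegenerate on an irreducible subspace. -/
theorem dec_irreducible {p : ℕ} [Fact p.Prime] [CharP F p] {S : Submodule F V} (hS : Inv ρ S)
    (hirr : ∀ U, Inv ρ U → U ≤ S → U = ⊥ ∨ U = S) (hne : S ≠ ⊥)
    {B : LinearMap.BilinForm F V} (hB : ∀ g : G, ∀ x y, B (ρ g x) (ρ g y) = B x y)
    (hn : ∀ x ∈ S, (∀ y ∈ S, B x y = 0) → x = 0) : Dec ρ p S := by
  classical
  have hgood : ∀ C : LinearMap.BilinForm F V, (∀ g : G, ∀ x y, C (ρ g x) (ρ g y) = C x y) →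
      (∀ x ∈ S, ∀ y ∈ S, C x y = 0) ∨ GoodOn ρ S C := by
    intro C hC
    let R : Submodule F V :=
      { carrier := {x | x ∈ S ∧ ∀ y ∈ S, C x y = 0}
        zero_mem' := ⟨S.zero_mem, fun y _ => by simp⟩
        add_mem' := fun {a b} ha hb => ⟨S.add_mem ha.1 hb.1, fun y hy => by
          simp [ha.2 y hy, hb.2 y hy]⟩
        smul_mem' := fun c a ha => ⟨S.smul_mem c ha.1, fun y hy => by simp [ha.2 y hy]⟩ }
    have hR : Inv ρ R := fun g x hx => ⟨hS g x hx.1, fun y hy => by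
      rw [← rho_inv_cancel (ρ := ρ) g y, hC]
      exact hx.2 _ (hS _ y hy)⟩
    rcases hirr R hR (fun x hx => hx.1) with h | h
    · refine Or.inr ⟨fun g x _ y _ => hC g x y, fun x hx hx' => ?_⟩
      have : x ∈ R := ⟨hx, hx'⟩
      rwa [h, Submodule.mem_bot] at this
    · exact Or.inl fun x hx => ((h ▸ hx : x ∈ R)).2
  obtain ⟨π, hπ, -, hπm⟩ := exists_proj (disjoint_bot_right (a := S))
  have hflip : ∀ g : G, ∀ x y, (B + B.flip) (ρ g x) (ρ g y) = (B + B.flip) x y := fun g x y => by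
    simp [hB]
  by_cases hp : p = 2
  · subst hp
    have h2 : ∀ a : F, a + a = 0 := fun a => CharTwo.add_self_eq_zero a
    rcases hgood _ hflip with h0 | hg
    · -- symmetric on `S`
      have hsym : ∀ x ∈ S, ∀ y ∈ S, B x y = B y x := fun x hx y hy => by
        have h1 : B x y + B y x = 0 := h0 x hx y hy
        exact (eq_neg_of_add_eq_zero_left h1).trans (CharTwo.neg_eq _)
      let K : Submodule F V :=
        { carrier := {x | x ∈ S ∧ B x x = 0}
          zero_mem' := ⟨S.zero_mem, by simp⟩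
          add_mem' := fun {a b} ha hb => ⟨S.add_mem ha.1 hb.1, by
            simp [ha.2, hb.2, hsym a ha.1 b hb.1, h2]⟩
          smul_mem' := fun c a ha => ⟨S.smul_mem c ha.1, by simp [ha.2]⟩ }
      have hK : Inv ρ K := fun g x hx => ⟨hS g x hx.1, by rw [hB]; exact hx.2⟩
      rcases hirr K hK (fun x hx => hx.1) with h | h
      · refine dec_of_symm hS ⟨B.compl₁₂ π π, fun x y => ?_, good_pull hS hπ ?_⟩ (fun _ g w hw => ?_)
        · simp only [LinearMap.compl₁₂_apply]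
          exact hsym _ (hπm x) _ (hπm y)
        · exact ⟨fun g x _ y _ => hB g x y, hn⟩
        · have hmem : ρ g w - w ∈ K := ⟨S.sub_mem (hS g w hw) hw, by
            simp [hB, hsym (ρ g w) (hS g w hw) w hw]
            linear_combination h2 (B w w) - h2 (B w (ρ g w))⟩
          rw [h, Submodule.mem_bot] at hmem
          exact sub_eq_zero.mp hmem
      · refine dec_of_alt hS ⟨B.compl₁₂ π π, fun x => ?_, good_pull hS hπ ⟨fun g x _ y _ => hB g x y, hn⟩⟩
        exact ((h ▸ hπm x : π x ∈ K)).2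
    · exact dec_of_alt hS ⟨_, fun x => by simp [h2], hg⟩
  · have h2 : (2 : F) ≠ 0 := fun e => hp ((Nat.prime_dvd_prime_iff_eq Fact.out Nat.prime_two).mp
      ((CharP.cast_eq_zero_iff F p 2).mp (by exact_mod_cast e)))
    rcases hgood _ hflip with h0 | hg
    · refine dec_of_alt hS ⟨B - B.flip, fun x => by simp,
        fun g x _ y _ => by simp [hB], fun x hx h => hn x hx fun y hy => ?_⟩
      have h1 : B x y + B y x = 0 := h0 x hx y hy
      have h3 : B x y - B y x = 0 := h y hy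
      exact (mul_eq_zero.mp (show (2 : F) * B x y = 0 by linear_combination h1 + h3)).resolve_left h2
    · exact dec_of_symm hS ⟨_, fun x y => by simp [add_comm], hg⟩ (fun e => absurd e hp)

/-- Right nondegeneracy gives left nondegeneracy and representability. -/
theorem nd_swap [FiniteDimensional F V] {X : Submodule F V} {B : LinearMap.BilinForm F V}
    (h : ∀ x ∈ X, (∀ y ∈ X, B y x = 0) → x = 0) :
    (∀ x ∈ X, (∀ y ∈ X, B x y = 0) → x = 0) ∧
      ∀ φ : Module.Dual F X, ∃ x ∈ X, ∀ y : X, B y x = φ y := by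
  let Φ : X →ₗ[F] Module.Dual F X := (B.flip.compl₁₂ X.subtype X.subtype)
  have hinj : Function.Injective Φ := by
    rw [← LinearMap.ker_eq_bot, LinearMap.ker_eq_bot']
    intro x hx
    exact Subtype.ext (h x x.2 fun y hy => LinearMap.congr_fun hx ⟨y, hy⟩)
  have hsur : Function.Surjective Φ :=
    (LinearMap.injective_iff_surjective_of_finrank_eq_finrank
      (Subspace.dual_finrank_eq).symm).mp hinj
  refine ⟨fun x hx hz => ?_, fun φ => ?_⟩
  · have : (⟨x, hx⟩ : X) = 0 := (Module.forall_dual_apply_eq_zero_iff F _).mp fun φ => by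
      obtain ⟨z, rfl⟩ := hsur φ
      exact hz z z.2
    exact congrArg Subtype.val this
  · obtain ⟨z, rfl⟩ := hsur φ
    exact ⟨z, z.2, fun y => rfl⟩

theorem pair_finrank_le [FiniteDimensional F V] {U W : Submodule F V} (P : LinearMap.BilinForm F V)
    (h : ∀ u ∈ U, (∀ w ∈ W, P u w = 0) → u = 0) : Module.finrank F U ≤ Module.finrank F W := by
  let Φ : U →ₗ[F] Module.Dual F W := P.compl₁₂ U.subtype W.subtype
  have hinj : Function.Injective Φ := by
    rw [← LinearMap.ker_eq_bot, LinearMap.ker_eq_bot']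
    intro x hx
    exact Subtype.ext (h x x.2 fun y hy => LinearMap.congr_fun hx ⟨y, hy⟩)
  exact (LinearMap.finrank_le_finrank_of_injective hinj).trans_eq Subspace.dual_finrank_eq

theorem le_of_meets [FiniteDimensional F V] (P : LinearMap.BilinForm F V)
    (hP : ∀ g : G, ∀ x y, P (ρ g x) (ρ g y) = P x y) {S T Z : Submodule F V} (hS : Inv ρ S)
    (hirr : ∀ U, Inv ρ U → U ≤ S → U = ⊥ ∨ U = S) (hT : Inv ρ T) (hZ : Inv ρ Z)
    (h : ∀ t ∈ T, (∀ s ∈ S, P s t = 0) → t = 0) (hne : T ⊓ Z ≠ ⊥) : T ≤ Z := by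
  let K : Submodule F V :=
    { carrier := {x | x ∈ S ∧ ∀ t ∈ T ⊓ Z, P x t = 0}
      zero_mem' := ⟨S.zero_mem, fun y _ => by simp⟩
      add_mem' := fun {a b} ha hb => ⟨S.add_mem ha.1 hb.1, fun y hy => by
        simp [ha.2 y hy, hb.2 y hy]⟩
      smul_mem' := fun c a ha => ⟨S.smul_mem c ha.1, fun y hy => by simp [ha.2 y hy]⟩ }
  have hK : Inv ρ K := fun g x hx => ⟨hS g x hx.1, fun y hy => by
    rw [← rho_inv_cancel (ρ := ρ) g y, hP]
    exact hx.2 _ (inv_inf hT hZ _ y hy)⟩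
  rcases hirr K hK (fun x hx => hx.1) with hb | hb
  · have h1 : Module.finrank F S ≤ Module.finrank F ↥(T ⊓ Z) := pair_finrank_le P fun s hs hs' => by
      have : s ∈ K := ⟨hs, hs'⟩
      rwa [hb, Submodule.mem_bot] at this
    have h2 : Module.finrank F T ≤ Module.finrank F S := pair_finrank_le P.flip h
    exact (Submodule.eq_of_le_of_finrank_le inf_le_left (h2.trans h1)).ge.trans inf_le_right
  · refine absurd (le_bot_iff.mp fun t ht => (Submodule.mem_bot F).mpr (h t ht.1 fun s hs => ?_)) hne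
    exact ((hb.symm ▸ hs : s ∈ K)).2 t ht

theorem dec_all [FiniteDimensional F V] [Finite G] {p : ℕ} [Fact p.Prime] [CharP F p]
    (hc : (Nat.card G : F) ≠ 0) {B : LinearMap.BilinForm F V}
    (hB : ∀ g : G, ∀ x y, B (ρ g x) (ρ g y) = B x y) :
    ∀ n, ∀ X : Submodule F V, Module.finrank F X = n → Inv ρ X →
      (∀ x ∈ X, (∀ y ∈ X, B y x = 0) → x = 0) → Dec ρ p X := by
  classical
  intro n
  induction n using Nat.strong_induction_on with
  | h n ih =>
  intro X hn hX hnd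
  by_cases hX0 : X = ⊥
  · subst hX0; exact dec_of_alt inv_bot ⟨0, fun _ => rfl, good_bot⟩
  -- an irreducible subspace
  have hex : ∃ d : ℕ, ∃ S : Submodule F V, S ≤ X ∧ S ≠ ⊥ ∧ Inv ρ S ∧ Module.finrank F S = d :=
    ⟨_, X, le_rfl, hX0, hX, rfl⟩
  obtain ⟨S, hSX, hS0, hS, hSd⟩ := Nat.find_spec hex
  have hirr : ∀ U, Inv ρ U → U ≤ S → U = ⊥ ∨ U = S := fun U hU hUS => by
    by_cases h : U = ⊥
    · exact Or.inl h
    · refine Or.inr (Submodule.eq_of_le_of_finrank_le hUS ?_)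
      rw [hSd]
      exact Nat.find_min' hex ⟨U, hUS.trans hSX, h, hU, rfl⟩
  -- it suffices to find a nondegenerate invariant subspace with a decomposition
  suffices hU0 : ∃ U0, U0 ≤ X ∧ U0 ≠ ⊥ ∧ Inv ρ U0 ∧
      (∀ x ∈ U0, (∀ y ∈ U0, B y x = 0) → x = 0) ∧ Dec ρ p U0 by
    obtain ⟨U0, hle, hne, hinv, hnd0, hdec⟩ := hU0
    let X' : Submodule F V :=
      { carrier := {x | x ∈ X ∧ ∀ u ∈ U0, B u x = 0}
        zero_mem' := ⟨X.zero_mem, fun u _ => by simp⟩
        add_mem' := fun {a b} ha hb => ⟨X.add_mem ha.1 hb.1, fun u hu => by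
          simp [ha.2 u hu, hb.2 u hu]⟩
        smul_mem' := fun c a ha => ⟨X.smul_mem c ha.1, fun u hu => by simp [ha.2 u hu]⟩ }
    have hX' : Inv ρ X' := fun g x hx => ⟨hX g x hx.1, fun u hu => by
      rw [← rho_inv_cancel (ρ := ρ) g u, hB]
      exact hx.2 _ (hinv _ u hu)⟩
    have hd : Disjoint U0 X' := Submodule.disjoint_def.mpr fun x h1 h2 => hnd0 x h1 h2.2
    have hsup : U0 ⊔ X' = X := by
      refine le_antisymm (sup_le hle fun x hx => hx.1) fun x hx => ?_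
      obtain ⟨u, hu, hux⟩ := (nd_swap hnd0).2 ((B.flip x).comp U0.subtype)
      refine Submodule.mem_sup.mpr ⟨u, hu, x - u, ⟨X.sub_mem hx (hle hu), fun y hy => ?_⟩, by simp⟩
      have := hux ⟨y, hy⟩
      simp at this
      simp [this]
    have hlt : Module.finrank F X' < n := by
      have := Submodule.finrank_sup_add_finrank_inf_eq U0 X'
      rw [hsup, hd.eq_bot, finrank_bot, add_zero, hn] at this
      have hpos : 0 < Module.finrank F U0 := by
        rw [Nat.pos_iff_ne_zero]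
        exact fun e => hne (Submodule.finrank_eq_zero.mp e)
      omega
    have hnd' : ∀ x ∈ X', (∀ y ∈ X', B y x = 0) → x = 0 := fun x hx h =>
      hnd x hx.1 fun y hy => by
        rw [← hsup] at hy
        obtain ⟨a, ha, b, hb, rfl⟩ := Submodule.mem_sup.mp hy
        rw [map_add, LinearMap.add_apply, hx.2 a ha, h b hb, add_zero]
    rw [← hsup]
    exact dec_sup hd hdec (ih _ hlt X' rfl hX' hnd')
  by_cases hSS : ∀ x ∈ S, ∀ y ∈ S, B x y = 0
  swap
  · -- `S` is nondegenerate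
    have hndS : ∀ x ∈ S, (∀ y ∈ S, B y x = 0) → x = 0 := by
      let R : Submodule F V :=
        { carrier := {x | x ∈ S ∧ ∀ y ∈ S, B y x = 0}
          zero_mem' := ⟨S.zero_mem, fun y _ => by simp⟩
          add_mem' := fun {a b} ha hb => ⟨S.add_mem ha.1 hb.1, fun y hy => by
            simp [ha.2 y hy, hb.2 y hy]⟩
          smul_mem' := fun c a ha => ⟨S.smul_mem c ha.1, fun y hy => by simp [ha.2 y hy]⟩ }
      have hR : Inv ρ R := fun g x hx => ⟨hS g x hx.1, fun y hy => by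
        rw [← rho_inv_cancel (ρ := ρ) g y, hB]
        exact hx.2 _ (hS _ y hy)⟩
      rcases hirr R hR (fun x hx => hx.1) with h | h
      · intro x hx hx'
        have : x ∈ R := ⟨hx, hx'⟩
        rwa [h, Submodule.mem_bot] at this
      · exact absurd (fun x hx y hy => ((h ▸ hy : y ∈ R)).2 x hx) hSS
    exact ⟨S, hSX, hS0, hS, hndS, dec_irreducible hS hirr hS0 hB (nd_swap hndS).1⟩
  -- `S` is totally isotropic: find a partner
  obtain ⟨hndl, -⟩ := nd_swap hnd
  let R : Submodule F V :=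
    { carrier := {x | x ∈ X ∧ ∀ s ∈ S, B s x = 0}
      zero_mem' := ⟨X.zero_mem, fun u _ => by simp⟩
      add_mem' := fun {a b} ha hb => ⟨X.add_mem ha.1 hb.1, fun u hu => by
        simp [ha.2 u hu, hb.2 u hu]⟩
      smul_mem' := fun c a ha => ⟨X.smul_mem c ha.1, fun u hu => by simp [ha.2 u hu]⟩ }
  let L : Submodule F V :=
    { carrier := {x | x ∈ X ∧ ∀ s ∈ S, B x s = 0}
      zero_mem' := ⟨X.zero_mem, fun u _ => by simp⟩
      add_mem' := fun {a b} ha hb => ⟨X.add_mem ha.1 hb.1, fun u hu => by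
        simp [ha.2 u hu, hb.2 u hu]⟩
      smul_mem' := fun c a ha => ⟨X.smul_mem c ha.1, fun u hu => by simp [ha.2 u hu]⟩ }
  have hRi : Inv ρ R := fun g x hx => ⟨hX g x hx.1, fun u hu => by
    rw [← rho_inv_cancel (ρ := ρ) g u, hB]
    exact hx.2 _ (hS _ u hu)⟩
  have hLi : Inv ρ L := fun g x hx => ⟨hX g x hx.1, fun u hu => by
    rw [← rho_inv_cancel (ρ := ρ) g u, hB]
    exact hx.2 _ (hS _ u hu)⟩
  obtain ⟨T1, hT1X, hT1, hdR, hsR⟩ := maschke hc (show R ≤ X from fun x hx => hx.1) hRi hX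
  obtain ⟨T2, hT2X, hT2, hdL, hsL⟩ := maschke hc (show L ≤ X from fun x hx => hx.1) hLi hX
  have hp1 : ∀ s ∈ S, (∀ t ∈ T1, B s t = 0) → s = 0 := fun s hs h =>
    hndl s (hSX hs) fun y hy => by
      rw [← hsR] at hy
      obtain ⟨a, ha, b, hb, rfl⟩ := Submodule.mem_sup.mp hy
      rw [map_add, ha.2 s hs, h b hb, add_zero]
  have hp2 : ∀ s ∈ S, (∀ t ∈ T2, B t s = 0) → s = 0 := fun s hs h =>
    hnd s (hSX hs) fun y hy => by
      rw [← hsL] at hy
      obtain ⟨a, ha, b, hb, rfl⟩ := Submodule.mem_sup.mp hy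
      rw [map_add, LinearMap.add_apply, ha.2 s hs, h b hb, add_zero]
  have hd1 : ∀ t ∈ T1, (∀ s ∈ S, B s t = 0) → t = 0 := fun t ht h =>
    Submodule.disjoint_def.mp hdR t ⟨hT1X ht, h⟩ ht
  have hd2 : ∀ t ∈ T2, (∀ s ∈ S, B t s = 0) → t = 0 := fun t ht h =>
    Submodule.disjoint_def.mp hdL t ⟨hT2X ht, h⟩ ht
  -- a subspace paired perfectly with `S` on both sides
  suffices hT : ∃ T, T ≤ X ∧ Inv ρ T ∧ (∀ t ∈ T, (∀ s ∈ S, B s t = 0) → t = 0) ∧
      (∀ t ∈ T, (∀ s ∈ S, B t s = 0) → t = 0) ∧ (∀ s ∈ S, (∀ t ∈ T, B s t = 0) → s = 0) ∧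
      (∀ s ∈ S, (∀ t ∈ T, B t s = 0) → s = 0) by
    obtain ⟨T, hTX, hT, hq1, hq2, hq3, hq4⟩ := hT
    have hd : Disjoint S T := Submodule.disjoint_def.mpr fun x h1 h2 =>
      hq1 x h2 fun s hs => hSS s hs x h1
    refine ⟨S ⊔ T, sup_le hSX hTX, fun e => hS0 (le_bot_iff.mp (le_sup_left.trans e.le)),
      inv_sup hS hT, ?_, dec_of_alt (inv_sup hS hT) ?_⟩
    · intro x hx h
      obtain ⟨s, hs, t, ht, rfl⟩ := Submodule.mem_sup.mp hx
      have ht0 : t = 0 := hq1 t ht fun y hy => by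
        have := h y (Submodule.mem_sup_left hy)
        rwa [map_add, hSS y hy s hs, zero_add] at this
      rw [ht0, add_zero]
      exact hq4 s hs fun y hy => by
        have := h y (Submodule.mem_sup_right hy)
        rwa [ht0, add_zero] at this
    · obtain ⟨π, hπS, hπT, -⟩ := exists_proj hd
      obtain ⟨τ, hτT, hτS, -⟩ := exists_proj hd.symm
      refine ⟨B.compl₁₂ π τ - (B.compl₁₂ π τ).flip, fun x => by simp, fun g x hx y hy => ?_,
        fun x hx h => ?_⟩
      · obtain ⟨s, hs, t, ht, rfl⟩ := Submodule.mem_sup.mp hx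
        obtain ⟨s', hs', t', ht', rfl⟩ := Submodule.mem_sup.mp hy
        simp [hπS _ (hS g s hs), hπT _ (hT g t ht), hτS _ (hS g s hs), hτT _ (hT g t ht),
          hπS _ (hS g s' hs'), hπT _ (hT g t' ht'), hτS _ (hS g s' hs'), hτT _ (hT g t' ht'),
          hπS s hs, hπT t ht, hτS s hs, hτT t ht, hπS s' hs', hπT t' ht', hτS s' hs', hτT t' ht', hB]
      · obtain ⟨s, hs, t, ht, rfl⟩ := Submodule.mem_sup.mp hx
        have hs0 : s = 0 := hq3 s hs fun y hy => by
          have := h y (Submodule.mem_sup_right hy)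
          simpa [hπS s hs, hπT t ht, hτS s hs, hτT t ht, hπT y hy, hτT y hy] using this
        have ht0 : t = 0 := hq1 t ht fun y hy => by
          have := h y (Submodule.mem_sup_left hy)
          simpa [hπS s hs, hπT t ht, hτS s hs, hτT t ht, hπS y hy, hτS y hy] using this
        rw [hs0, ht0, add_zero]
  by_cases hA : T1 ⊓ L = ⊥
  · refine ⟨T1, hT1X, hT1, hd1, fun t ht h => ?_, hp1, fun s hs h => ?_⟩
    · have : t ∈ T1 ⊓ L := ⟨ht, hT1X ht, h⟩
      rwa [hA, Submodule.mem_bot] at this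
    · -- the annihilator of `T1` in `S` is `⊥` or `S`
      let K : Submodule F V :=
        { carrier := {x | x ∈ S ∧ ∀ t ∈ T1, B t x = 0}
          zero_mem' := ⟨S.zero_mem, fun y _ => by simp⟩
          add_mem' := fun {a b} ha hb => ⟨S.add_mem ha.1 hb.1, fun y hy => by
            simp [ha.2 y hy, hb.2 y hy]⟩
          smul_mem' := fun c a ha => ⟨S.smul_mem c ha.1, fun y hy => by simp [ha.2 y hy]⟩ }
      have hK : Inv ρ K := fun g x hx => ⟨hS g x hx.1, fun y hy => by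
        rw [← rho_inv_cancel (ρ := ρ) g y, hB]
        exact hx.2 _ (hT1 _ y hy)⟩
      rcases hirr K hK (fun x hx => hx.1) with hb | hb
      · have : s ∈ K := ⟨hs, h⟩
        rwa [hb, Submodule.mem_bot] at this
      · refine hp1 s hs fun t ht => ?_
        have : t ∈ T1 ⊓ L := ⟨ht, hT1X ht, fun u hu => ((hb.symm ▸ hu : u ∈ K)).2 t ht⟩
        rw [hA, Submodule.mem_bot] at this
        simp [this]
  by_cases hB2 : T2 ⊓ R = ⊥
  · refine ⟨T2, hT2X, hT2, fun t ht h => ?_, hd2, fun s hs h => ?_, hp2⟩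
    · have : t ∈ T2 ⊓ R := ⟨ht, hT2X ht, h⟩
      rwa [hB2, Submodule.mem_bot] at this
    · let K : Submodule F V :=
        { carrier := {x | x ∈ S ∧ ∀ t ∈ T2, B x t = 0}
          zero_mem' := ⟨S.zero_mem, fun y _ => by simp⟩
          add_mem' := fun {a b} ha hb => ⟨S.add_mem ha.1 hb.1, fun y hy => by
            simp [ha.2 y hy, hb.2 y hy]⟩
          smul_mem' := fun c a ha => ⟨S.smul_mem c ha.1, fun y hy => by simp [ha.2 y hy]⟩ }
      have hK : Inv ρ K := fun g x hx => ⟨hS g x hx.1, fun y hy => by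
        rw [← rho_inv_cancel (ρ := ρ) g y, hB]
        exact hx.2 _ (hT2 _ y hy)⟩
      rcases hirr K hK (fun x hx => hx.1) with hb | hb
      · have : s ∈ K := ⟨hs, h⟩
        rwa [hb, Submodule.mem_bot] at this
      · refine hp2 s hs fun t ht => ?_
        have : t ∈ T2 ⊓ R := ⟨ht, hT2X ht, fun u hu => ((hb.symm ▸ hu : u ∈ K)).2 t ht⟩
        rw [hB2, Submodule.mem_bot] at this
        simp [this]
  -- both complements lie in the wrong radical: take a graph
  have hT1L : T1 ≤ L := le_of_meets B hB hS hirr hT1 hLi hd1 hA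
  have hT2R : T2 ≤ R := le_of_meets B.flip (fun g x y => hB g y x) hS hirr hT2 hRi hd2 hB2
  have hex1 : ∀ t : V, ∃ u ∈ T1, ∀ s ∈ S, B s u = B t s := by
    intro t
    let Φ : T1 →ₗ[F] Module.Dual F S := B.flip.compl₁₂ T1.subtype S.subtype
    have hinj : Function.Injective Φ := by
      rw [← LinearMap.ker_eq_bot, LinearMap.ker_eq_bot']
      intro x hx
      exact Subtype.ext (hd1 x x.2 fun y hy => LinearMap.congr_fun hx ⟨y, hy⟩)
    have hsur : Function.Surjective Φ :=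
      (LinearMap.injective_iff_surjective_of_finrank_eq_finrank
        ((le_antisymm (pair_finrank_le B.flip hd1) (pair_finrank_le B hp1)).trans
          Subspace.dual_finrank_eq.symm)).mp hinj
    obtain ⟨u, hu⟩ := hsur ((B t).comp S.subtype)
    exact ⟨u, u.2, fun s hs => LinearMap.congr_fun hu ⟨s, hs⟩⟩
  let T : Submodule F V :=
    { carrier := {x | ∃ t ∈ T2, ∃ u ∈ T1, x = t + u ∧ ∀ s ∈ S, B s u = B t s}
      zero_mem' := ⟨0, T2.zero_mem, 0, T1.zero_mem, by simp, fun s _ => by simp⟩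
      add_mem' := by
        rintro _ _ ⟨t, ht, u, hu, rfl, h⟩ ⟨t', ht', u', hu', rfl, h'⟩
        exact ⟨t + t', T2.add_mem ht ht', u + u', T1.add_mem hu hu', by abel,
          fun s hs => by simp [h s hs, h' s hs]⟩
      smul_mem' := by
        rintro c _ ⟨t, ht, u, hu, rfl, h⟩
        exact ⟨c • t, T2.smul_mem c ht, c • u, T1.smul_mem c hu, smul_add c t u,
          fun s hs => by simp [h s hs]⟩ }
  have hl : ∀ t ∈ T2, ∀ u ∈ T1, ∀ s ∈ S, B s (t + u) = B s u := fun t ht u _ s hs => by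
    rw [map_add, (hT2R ht).2 s hs, zero_add]
  have hr : ∀ t ∈ T2, ∀ u ∈ T1, ∀ s ∈ S, B (t + u) s = B t s := fun t _ u hu s hs => by
    rw [map_add, LinearMap.add_apply, (hT1L hu).2 s hs, add_zero]
  refine ⟨T, ?_, ?_, ?_, ?_, fun s hs h => ?_, fun s hs h => ?_⟩
  · rintro _ ⟨t, ht, u, hu, rfl, -⟩
    exact X.add_mem (hT2X ht) (hT1X hu)
  · rintro g _ ⟨t, ht, u, hu, rfl, h⟩
    refine ⟨ρ g t, hT2 g t ht, ρ g u, hT1 g u hu, map_add _ _ _, fun s hs => ?_⟩
    rw [← rho_inv_cancel (ρ := ρ) g s, hB, hB]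
    exact h _ (hS _ s hs)
  · rintro _ ⟨t, ht, u, hu, rfl, h⟩ h0
    have hu0 : u = 0 := hd1 u hu fun s hs => (hl t ht u hu s hs).symm.trans (h0 s hs)
    have ht0 : t = 0 := hd2 t ht fun s hs => by rw [← h s hs, hu0, map_zero]
    rw [ht0, hu0, add_zero]
  · rintro _ ⟨t, ht, u, hu, rfl, h⟩ h0
    have ht0 : t = 0 := hd2 t ht fun s hs => (hr t ht u hu s hs).symm.trans (h0 s hs)
    have hu0 : u = 0 := hd1 u hu fun s hs => by rw [h s hs, ht0, map_zero]; rfl
    rw [ht0, hu0, add_zero]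
  · refine hp2 s hs fun t ht => ?_
    obtain ⟨u, hu, hus⟩ := hex1 t
    rw [← hus s hs, ← hl t ht u hu s hs]
    exact h _ ⟨t, ht, u, hu, rfl, hus⟩
  · refine hp2 s hs fun t ht => ?_
    obtain ⟨u, hu, hus⟩ := hex1 t
    rw [← hr t ht u hu s hs]
    exact h _ ⟨t, ht, u, hu, rfl, hus⟩

end

/-- Let F be a finite field of characteristic p, G a finite group of order prime to p, and V a finite-dimensional representation of G over F carrying a nondegenerate G-invariant bilinear form (equivalently, V is self-dual). Then V is the direct sum of two G-invariant subspaces U and W such that U carries a G-invariant alternating bilinear form that is nondegenerate on U and W carries a G-invariant symmetric bilinear form that is nondegenerate on W; moreover when p = 2 the decomposition can be chosen with G acting trivially on W. -/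
theorem result {F : Type*} [Field F] [Fintype F] (p : ℕ) [Fact p.Prime] [CharP F p] {G : Type*} [Group G] [Finite G] (hcop : ¬ p ∣ Nat.card G) {V : Type*} [AddCommGroup V] [Module F V] [FiniteDimensional F V] (ρ : Representation F G V) (B : LinearMap.BilinForm F V) (hB : B.Nondegenerate) (hBinv : ∀ g : G, ∀ x y : V, B (ρ g x) (ρ g y) = B x y) : ∃ U W : Submodule F V, IsCompl U W ∧ (∀ g : G, ∀ u ∈ U, ρ g u ∈ U) ∧ (∀ g : G, ∀ w ∈ W, ρ g w ∈ W) ∧ (∃ A : LinearMap.BilinForm F V, (∀ x : V, A x x = 0) ∧ (∀ g : G, ∀ x ∈ U, ∀ y ∈ U, A (ρ g x) (ρ g y) = A x y) ∧ (∀ x ∈ U, (∀ y ∈ U, A x y = 0) → x = 0)) ∧ (∃ S : LinearMap.BilinForm F V, (∀ x y : V, S x y = S y x) ∧ (∀ g : G, ∀ x ∈ W, ∀ y ∈ W, S (ρ g x) (ρ g y) = S x y) ∧ (∀ x ∈ W, (∀ y ∈ W, S x y = 0) → x = 0)) ∧ (p = 2 → ∀ g : G, ∀ w ∈ W, ρ g w = w) := by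
  classical
  have hc : (Nat.card G : F) ≠ 0 := fun e => hcop ((CharP.cast_eq_zero_iff F p _).mp e)
  obtain ⟨U, W, hU, hW, hd, hs, ⟨A, hA, hgA⟩, ⟨S, hS, hgS⟩, ht⟩ :=
    dec_all (p := p) hc hBinv _ ⊤ rfl (fun g x _ => trivial)
      (fun x _ h => hB.2 x fun y => h y trivial)
  exact ⟨U, W, ⟨hd, codisjoint_iff.mpr hs⟩, hU, hW, ⟨A, hA, hgA⟩, ⟨S, hS, hgS⟩, ht⟩

end Cfsg.Agent.S4966
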