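import Cfsg.Statements.S4967
import Mathlib.FieldTheory.Finite.Basic
import Mathlib.LinearAlgebra.BilinearForm.Properties
import Mathlib.RingTheory.IntegralDomain
import Mathlib.LinearAlgebra.Dual.Lemmas
import Mathlib.Algebra.MonoidAlgebra.Basic
import Mathlib.RingTheory.Ideal.Quotient.Operations
import Mathlib.GroupTheory.SpecificGroups.Cyclic

set_option autoImplicit false
set_option linter.all false
open Cfsg

namespace Cfsg.Agent.S4967

/-- A field realizing an irreducible representation of an abelian group. -/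
theorem exists_model {F : Type*} [Field F] [Fintype F] {H : Type*} [CommGroup H] [Finite H]
    {V : Type*} [AddCommGroup V] [Module F V] [FiniteDimensional F V] [Nontrivial V]
    (ρ : Representation F H V)
    (hirr : ∀ U : Submodule F V, (∀ h : H, ∀ u ∈ U, ρ h u ∈ U) → U = ⊥ ∨ U = ⊤) :
    ∃ I : Ideal (MonoidAlgebra F H), I.IsMaximal ∧
      ∃ Φ : (MonoidAlgebra F H ⧸ I) →ₐ[F] Module.End F V, Function.Injective Φ ∧
        (∀ h, Φ (Ideal.Quotient.mk I (MonoidAlgebra.of F H h)) = ρ h) ∧
        ∀ v : V, v ≠ 0 → Function.Surjective fun e => Φ e v := by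
  classical
  let A := MonoidAlgebra F H
  let Φ : A →ₐ[F] Module.End F V := MonoidAlgebra.lift F (Module.End F V) H ρ
  have hof : ∀ h, Φ (MonoidAlgebra.of F H h) = ρ h := fun h => MonoidAlgebra.lift_of _ _
  have hcomm : ∀ a b : A, Φ a * Φ b = Φ b * Φ a := fun a b => by rw [← map_mul, mul_comm, map_mul]
  let I : Ideal A := RingHom.ker Φ
  have hbij : ∀ a : A, a ∉ I → Function.Injective (Φ a) := by
    intro a ha
    rcases hirr (LinearMap.ker (Φ a)) (fun h u hu => by
      rw [LinearMap.mem_ker] at hu ⊢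
      rw [← hof, ← Module.End.mul_apply, hcomm, Module.End.mul_apply, hu, map_zero]) with e | e
    · exact LinearMap.ker_eq_bot.mp e
    · exact absurd ((RingHom.mem_ker).mpr (LinearMap.ker_eq_top.mp e)) ha
  haveI : I.IsPrime := by
    refine ⟨fun e => ?_, fun {a b} hab => ?_⟩
    · have h1 : Φ 1 = 0 := RingHom.mem_ker.mp ((Ideal.eq_top_iff_one I).mp e)
      rw [map_one] at h1
      exact one_ne_zero h1
    · by_contra h
      push Not at h
      refine h.2 (RingHom.mem_ker.mpr (LinearMap.ext fun x => hbij a h.1 ?_))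
      have := LinearMap.congr_fun (RingHom.mem_ker.mp hab) x
      rw [map_mul] at this
      simpa using this
  haveI : Finite V := Module.finite_of_finite F
  haveI : Finite (Module.End F V) := Finite.of_injective (fun f => (f : V → V)) DFunLike.coe_injective
  let Ψ : (A ⧸ I) →ₐ[F] Module.End F V := Ideal.Quotient.liftₐ I Φ fun a ha => RingHom.mem_ker.mp ha
  have hinj : Function.Injective Ψ := by
    rw [injective_iff_map_eq_zero]
    intro x hx
    obtain ⟨a, rfl⟩ := Ideal.Quotient.mk_surjective x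
    exact Ideal.Quotient.eq_zero_iff_mem.mpr (RingHom.mem_ker.mpr hx)
  haveI : Finite (A ⧸ I) := Finite.of_injective Ψ hinj
  refine ⟨I, Ideal.Quotient.maximal_of_isField I (Finite.isField_of_domain _), Ψ, hinj,
    fun h => hof h, fun v hv => ?_⟩
  let U : Submodule F V :=
    LinearMap.range ((LinearMap.applyₗ v).comp Ψ.toLinearMap : (A ⧸ I) →ₗ[F] V)
  have hU : U = ⊤ := by
    refine (hirr U fun h u hu => ?_).resolve_left fun e => hv ?_
    · obtain ⟨x, rfl⟩ := hu
      refine ⟨Ideal.Quotient.mk I (MonoidAlgebra.of F H h) * x, ?_⟩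
      show Ψ (_ * x) v = ρ h (Ψ x v)
      rw [map_mul, ← hof h]
      rfl
    · have : v ∈ U := ⟨1, by show Ψ 1 v = v; rw [map_one]; rfl⟩
      rwa [e, Submodule.mem_bot] at this
  intro w
  obtain ⟨x, hx⟩ := (hU.symm ▸ Submodule.mem_top : w ∈ U)
  exact ⟨x, hx⟩

/-- A finite abelian group in a field with all elements of exponent `k`. -/
theorem card_dvd_of_inj {E : Type*} [Field E] {H : Type*} [CommGroup H] [Finite H] (ι : H →* E)
    (hι : Function.Injective ι) {k : ℕ} (hk : ∀ h : H, h ^ k = 1) : Nat.card H ∣ k := by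
  haveI : IsCyclic H := isCyclic_of_subgroup_isDomain ι hι
  rw [← IsCyclic.exponent_eq_card]
  exact Monoid.exponent_dvd_of_forall_pow_eq_one hk

theorem core {F : Type*} [Field F] [Fintype F] {H : Type*} [CommGroup H] [Finite H]
    {V : Type*} [AddCommGroup V] [Module F V] [FiniteDimensional F V] [Nontrivial V]
    (ρ : Representation F H V) (hfaith : Function.Injective ρ)
    (hirr : ∀ U : Submodule F V, (∀ h : H, ∀ u ∈ U, ρ h u ∈ U) → U = ⊥ ∨ U = ⊤) :
    ((∃ B : LinearMap.BilinForm F V, B.Nondegenerate ∧ ∀ h : H, ∀ x y : V, B (ρ h x) (ρ h y) = B x y) →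
      Nat.card H ≤ 2 ∧ Module.finrank F V = 1 ∨
        Even (Module.finrank F V) ∧ Nat.card H ∣ Fintype.card F ^ (Module.finrank F V / 2) + 1) ∧
    (Even (Module.finrank F V) → Nat.card H ∣ Fintype.card F ^ (Module.finrank F V / 2) + 1 →
      ∃ B : LinearMap.BilinForm F V, B.Nondegenerate ∧
        ∀ h : H, ∀ x y : V, B (ρ h x) (ρ h y) = B x y) := by
  classical
  obtain ⟨I, hI, Φ, hinj, hof, hsur⟩ := exists_model ρ hirr
  haveI := hI
  letI : Field (MonoidAlgebra F H ⧸ I) := Ideal.Quotient.field I
  haveI : Finite V := Module.finite_of_finite F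
  haveI : Finite (Module.End F V) := Finite.of_injective (fun f => (f : V → V)) DFunLike.coe_injective
  haveI : Finite (MonoidAlgebra F H ⧸ I) := Finite.of_injective Φ hinj
  let ι : H →* (MonoidAlgebra F H ⧸ I) :=
    (Ideal.Quotient.mk I).toMonoidHom.comp (MonoidAlgebra.of F H)
  have hι : Function.Injective ι := fun a b e => hfaith (by rw [← hof, ← hof]; exact congrArg Φ e)
  have hof' : ∀ h, Φ (ι h) = ρ h := hof
  obtain ⟨v₀, hv₀⟩ := exists_ne (0 : V)
  let ev : (MonoidAlgebra F H ⧸ I) →ₗ[F] V := (LinearMap.applyₗ v₀).comp Φ.toLinearMap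
  have hev : Function.Bijective ev := by
    refine ⟨?_, hsur v₀ hv₀⟩
    rw [← LinearMap.ker_eq_bot, LinearMap.ker_eq_bot']
    intro x hx
    by_contra hne
    have h1 : ev (x⁻¹ * x) = 0 := by
      show Φ (x⁻¹ * x) v₀ = 0
      rw [map_mul, Module.End.mul_apply, show Φ x v₀ = 0 from hx, map_zero]
    rw [inv_mul_cancel₀ hne] at h1
    exact hv₀ (by simpa [ev] using h1)
  let ε := LinearEquiv.ofBijective ev hev
  have hn : Module.finrank F (MonoidAlgebra F H ⧸ I) = Module.finrank F V := ε.finrank_eq
  have hext : ∀ σ τ : (MonoidAlgebra F H ⧸ I) →ₐ[F] (MonoidAlgebra F H ⧸ I),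
      (∀ h, σ (ι h) = τ (ι h)) → σ = τ := fun σ τ h =>
    Ideal.Quotient.algHom_ext _ (MonoidAlgebra.algHom_ext (fun x => h x) (by ext))
  let frob := FiniteField.frobeniusAlgHom F (MonoidAlgebra F H ⧸ I)
  have hfrob : ∀ (j : ℕ) x, (frob ^ j) x = x ^ Fintype.card F ^ j := fun j x => by
    rw [AlgHom.coe_pow, FiniteField.coe_frobeniusAlgHom, pow_iterate]
  have hkey : ∀ j : ℕ, (∀ h, (frob ^ j) (ι h) = ι h⁻¹) →
      Nat.card H ∣ Fintype.card F ^ j + 1 := fun j hj => card_dvd_of_inj ι hι fun h => hι (by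
    rw [map_pow, map_one, pow_succ, ← hfrob, hj, ← map_mul, inv_mul_cancel, map_one])
  constructor
  · rintro ⟨B, hB, hBi⟩
    let τ : MonoidAlgebra F H →ₐ[F] (MonoidAlgebra F H ⧸ I) :=
      MonoidAlgebra.lift F _ H (ι.comp (MonoidHom.mk' (fun h : H => h⁻¹) mul_inv))
    have hadj : ∀ (a : MonoidAlgebra F H) x y,
        B (Φ (Ideal.Quotient.mk I a) x) y = B x (Φ (τ a) y) := by
      intro a
      induction a using MonoidAlgebra.induction_on with
      | of h =>
        intro x y
        rw [show τ (MonoidAlgebra.of F H h) = ι h⁻¹ from MonoidAlgebra.lift_of _ _, hof, hof',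
          ← hBi h⁻¹ (ρ h x) y, ← Module.End.mul_apply, ← map_mul, inv_mul_cancel, map_one,
          Module.End.one_apply]
      | add a b ha hb => intro x y; simp [ha x y, hb x y]
      | smul c a ha =>
        intro x y
        rw [show Ideal.Quotient.mk I (c • a) = c • Ideal.Quotient.mk I a from
          map_smul (Ideal.Quotient.mkₐ F I) c a]
        simp [ha x y]
    have hker : ∀ a ∈ I, τ a = 0 := fun a ha => hinj (by
      rw [map_zero]
      exact LinearMap.ext fun y => hB.2 _ fun x => by
        rw [← hadj, Ideal.Quotient.eq_zero_iff_mem.mpr ha]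
        simp)
    let σ : (MonoidAlgebra F H ⧸ I) →ₐ[F] (MonoidAlgebra F H ⧸ I) := Ideal.Quotient.liftₐ I τ hker
    have hσ : ∀ h, σ (ι h) = ι h⁻¹ := fun h => MonoidAlgebra.lift_of _ _
    obtain ⟨⟨j, hj⟩, hjσ⟩ :=
      (FiniteField.bijective_frobeniusAlgHom_pow F (MonoidAlgebra F H ⧸ I)).2 σ
    simp only at hjσ
    have hjι : ∀ h, (frob ^ j) (ι h) = ι h⁻¹ := fun h => by rw [hjσ, hσ]
    have h2 : frob ^ (2 * j) = 1 := hext _ _ fun h => by
      rw [two_mul, pow_add, AlgHom.mul_apply, hjι, hjι, inv_inv, AlgHom.one_apply]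
    have hdvd : Module.finrank F (MonoidAlgebra F H ⧸ I) ∣ 2 * j := by
      rw [← FiniteField.orderOf_frobeniusAlgHom F (MonoidAlgebra F H ⧸ I)]
      exact orderOf_dvd_of_pow_eq_one h2
    rw [hn] at hdvd hj
    rcases Nat.eq_zero_or_pos j with hj0 | hjpos
    · subst hj0
      have h3 := hkey 0 hjι
      rw [pow_zero] at h3
      refine Or.inl ⟨Nat.le_of_dvd two_pos h3, ?_⟩
      have hpm : ∀ h, ι h = 1 ∨ ι h = -1 := fun h => by
        have e := hjι h
        rw [pow_zero, AlgHom.one_apply] at e
        refine mul_self_eq_one_iff.mp ?_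
        nth_rewrite 2 [e]
        rw [← map_mul, mul_inv_cancel, map_one]
      have hscal : ∀ h, ∀ u : V, ρ h u = u ∨ ρ h u = -u := fun h u => by
        rcases hpm h with e | e <;> [left; right] <;> rw [← hof', e] <;> simp
      have htop : (F ∙ v₀) = ⊤ := (hirr (F ∙ v₀) fun h u hu => by
        rcases hscal h u with e | e <;> rw [e]
        · exact hu
        · exact neg_mem hu).resolve_left (by simpa using hv₀)
      rw [← finrank_top, ← htop, finrank_span_singleton hv₀]
    · obtain ⟨c, hc⟩ := hdvd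
      have hc1 : c = 1 := by
        rcases c with _ | _ | c
        · omega
        · rfl
        · nlinarith
      subst hc1
      refine Or.inr ⟨⟨j, by omega⟩, ?_⟩
      rw [show Module.finrank F V / 2 = j by omega]
      exact hkey j hjι
  · intro heven hdiv
    set j := Module.finrank F V / 2
    let σ := frob ^ j
    have hσ : ∀ h, σ (ι h) = ι h⁻¹ := fun h => by
      show (frob ^ j) (ι h) = _
      rw [hfrob, ← map_pow]
      congr 1
      refine eq_inv_of_mul_eq_one_left ?_
      rw [← pow_succ]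
      exact orderOf_dvd_iff_pow_eq_one.mp ((orderOf_dvd_natCard h).trans hdiv)
    have hσsur : Function.Surjective σ := (Finite.injective_iff_surjective).mp σ.toRingHom.injective
    obtain ⟨T, hT⟩ : ∃ T : Module.Dual F (MonoidAlgebra F H ⧸ I), T 1 ≠ 0 := by
      by_contra h
      push Not at h
      exact one_ne_zero ((Module.forall_dual_apply_eq_zero_iff F _).mp h)
    let C : LinearMap.BilinForm F (MonoidAlgebra F H ⧸ I) :=
      ((LinearMap.mul F (MonoidAlgebra F H ⧸ I)).compl₂ σ.toLinearMap).compr₂ T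
    let B : LinearMap.BilinForm F V := C.compl₁₂ ε.symm.toLinearMap ε.symm.toLinearMap
    have hval : ∀ x y, B x y = T (ε.symm x * σ (ε.symm y)) := fun x y => rfl
    have hmul : ∀ h x, ε.symm (ρ h x) = ι h * ε.symm x := fun h x => by
      rw [LinearEquiv.symm_apply_eq]
      show _ = Φ (ι h * ε.symm x) v₀
      rw [map_mul, Module.End.mul_apply, hof']
      exact congrArg _ (ε.apply_symm_apply x).symm
    refine ⟨B, ⟨fun x hx => ?_, fun y hy => ?_⟩, fun h x y => ?_⟩
    · by_contra hne
      obtain ⟨f, hf⟩ := hσsur (ε.symm x)⁻¹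
      have := hx (ε f)
      rw [hval, ε.symm_apply_apply, hf, mul_inv_cancel₀ (by simpa using hne)] at this
      exact hT this
    · by_contra hne
      have := hy (ε (σ (ε.symm y))⁻¹)
      rw [hval, ε.symm_apply_apply, inv_mul_cancel₀] at this
      · exact hT this
      · exact (map_ne_zero σ).mpr (by simpa using hne)
    · rw [hval, hval, hmul, hmul, map_mul σ, hσ, mul_mul_mul_comm, ← map_mul, mul_inv_cancel,
        map_one, one_mul]

/-- Let F be a finite field with r elements and of characteristic p, H a finite abelian group of order prime to p, and V a faithful irreducible representation of H over F of dimension n (faithful: distinct elements act differently; irreducible: the only H-invariant subspaces are 0 and V). Call V self-dual when it carries a nondegenerate H-invariant bilinear form. If n = 1 and V is self-dual then H has order at most 2. If n ≥ 2 then V is self-dual if and only if n is even and the order of H divides r^(n/2) + 1. -/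
theorem result {F : Type*} [Field F] [Fintype F] (p : ℕ) [Fact p.Prime] [CharP F p] {H : Type*} [CommGroup H] [Finite H] (hcop : ¬ p ∣ Nat.card H) {V : Type*} [AddCommGroup V] [Module F V] [FiniteDimensional F V] (ρ : Representation F H V) (hfaith : Function.Injective ρ) (hirr : ∀ U : Submodule F V, (∀ h : H, ∀ u ∈ U, ρ h u ∈ U) → U = ⊥ ∨ U = ⊤) : (Module.finrank F V = 1 → (∃ B : LinearMap.BilinForm F V, B.Nondegenerate ∧ ∀ h : H, ∀ x y : V, B (ρ h x) (ρ h y) = B x y) → Nat.card H ≤ 2) ∧ (2 ≤ Module.finrank F V → ((∃ B : LinearMap.BilinForm F V, B.Nondegenerate ∧ ∀ h : H, ∀ x y : V, B (ρ h x) (ρ h y) = B x y) ↔ (Even (Module.finrank F V) ∧ Nat.card H ∣ Fintype.card F ^ (Module.finrank F V / 2) + 1))) := by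
  classical
  rcases subsingleton_or_nontrivial V with hV | hV
  · have h0 : Module.finrank F V = 0 := Module.finrank_zero_of_subsingleton
    exact ⟨fun h => by omega, fun h => by omega⟩
  obtain ⟨h1, h2⟩ := core ρ hfaith hirr
  refine ⟨fun hn hB => ?_, fun hn => ⟨fun hB => ?_, fun h => h2 h.1 h.2⟩⟩
  · rcases h1 hB with h | h
    · exact h.1
    · rw [hn] at h; exact absurd h.1 (by decide)
  · rcases h1 hB with h | h
    · omega
    · exact h

end Cfsg.Agent.S4967
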