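import Cfsg.Statements.S4969
import Cfsg.Agent.Lib.CT.Orthogonality
import Mathlib.Algebra.Order.Chebyshev

set_option autoImplicit false
open Cfsg

namespace Cfsg.Agent.S4969

/-- Let G be a finite group with k conjugacy classes, g ∈ G, and N > 0. Then the sum over the irreducible complex characters χ of G with χ(1) ≥ N of |χ(g)|/χ(1) is at most √(k · #C_G(g)) / N. -/
theorem result {G : Type*} [Group G] [Finite G] (g : G) (N : ℝ) (hN : 0 < N) :
    ∑ᶠ χ : Cfsg.IrrCharacter G, (if N ≤ ‖(χ : G → ℂ) 1‖ then ‖(χ : G → ℂ) g‖ / ‖(χ : G → ℂ) 1‖ else 0) ≤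
      Real.sqrt ((Nat.card (ConjClasses G) : ℝ) * (Nat.card ↥(Subgroup.centralizer ({g} : Set G)) : ℝ)) / N := by
  classical
  haveI := Fintype.ofFinite G
  rw [finsum_eq_sum_of_fintype, le_div_iff₀ hN]
  have h1 : (∑ χ : Cfsg.IrrCharacter G, (if N ≤ ‖(χ : G → ℂ) 1‖ then
      ‖(χ : G → ℂ) g‖ / ‖(χ : G → ℂ) 1‖ else 0)) * N ≤ ∑ χ : Cfsg.IrrCharacter G, ‖(χ : G → ℂ) g‖ := by
    rw [Finset.sum_mul]
    refine Finset.sum_le_sum fun χ _ => ?_
    split_ifs with h
    · have hpos : 0 < ‖(χ : G → ℂ) 1‖ := lt_of_lt_of_le hN h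
      rw [div_mul_eq_mul_div, div_le_iff₀ hpos]
      exact mul_le_mul_of_nonneg_left h (norm_nonneg _)
    · rw [zero_mul]; exact norm_nonneg _
  refine h1.trans ?_
  refine Real.le_sqrt_of_sq_le ?_
  refine (sq_sum_le_card_mul_sum_sq).trans (le_of_eq ?_)
  congr 1
  · rw [Finset.card_univ, ← Nat.card_eq_fintype_card, CT.card_irr_eq_card_conjClasses]
  · have h := CT.column_orthogonality g g
    rw [if_pos (IsConj.refl g)] at h
    refine Complex.ofReal_injective ?_
    push_cast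
    rw [← h]
    exact Finset.sum_congr rfl fun χ _ => (Complex.mul_conj' _).symm

end Cfsg.Agent.S4969
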