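import Cfsg.Statements.S4978
import Cfsg.Agent.Lib.Blocks.StarAction
import Cfsg.Agent.Lib.Blocks.BFMatrix
import Cfsg.Agent.Lib.Blocks.NilMain
import Cfsg.Agent.Lib.BrauerPairs.Saturation
import Cfsg.Agent.Lib.Fusion.FocalProper
-- import your own Cfsg.Agent.* helpers here

set_option autoImplicit false
open Cfsg Cfsg.Agent.Blocks Cfsg.Agent.BPairs

namespace Cfsg.Agent.S4978

open scoped ComplexConjugate

universe u

variable {G : Type u} [Group G] [Fintype G] {p : ℕ} {M : Ideal AlgInt}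

theorem isPGroup_aut_of_conj {D P : Subgroup G} {x : G}
    (h : D.map (MulAut.conj x).toMonoidHom = P) (hA : IsPGroup p (MulAut ↥D)) :
    IsPGroup p (MulAut ↥P) := by
  subst h
  exact hA.of_equiv (MulAut.congr
    (D.equivMapOfInjective _ (MulAut.conj x).injective))

theorem sq_emod_three (W : ℤ) (h : ¬ (3 : ℤ) ∣ W) : (3 : ℤ) ∣ W ^ 2 - 1 := by
  obtain ⟨k, hk⟩ : ∃ k, W = 3 * k + W % 3 := ⟨W / 3, by omega⟩
  have hr : W % 3 = 1 ∨ W % 3 = 2 := by omega
  rcases hr with hr | hr <;> rw [hr] at hk <;> subst hk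
  · exact ⟨3 * k ^ 2 + 2 * k, by ring⟩
  · exact ⟨3 * k ^ 2 + 4 * k + 1, by ring⟩

theorem sq_emod_two (W : ℤ) (h : ¬ (2 : ℤ) ∣ W) : (2 : ℤ) ∣ W ^ 2 - 1 := by
  obtain ⟨k, hk⟩ : ∃ k, W = 2 * k + 1 := ⟨W / 2, by omega⟩
  subst hk
  exact ⟨2 * k ^ 2 + 2 * k, by ring⟩

/-- The squares of a height zero row: only the height zero columns matter modulo `p ^ 2`. -/
theorem row_mod_sq [M.IsPrime] (hM : IsPModular p M) {B : Set (IrrCharacter G)} (hB : IsPBlock M B)
    (hd : 1 ≤ blockDefect p B) {χ : IrrCharacter G} (hχ : χ ∈ B)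
    (h0 : blockHeight p B (χ : G → ℂ) = 0) {X : IrrCharacter G → ℤ}
    (hX : ∀ ψ, (p : ℂ) ^ blockDefect p B * bfPair p χ ψ = (X ψ : ℂ))
    (S : Finset (IrrCharacter G))
    (hS : ∀ ψ, ψ ∈ S ↔ ψ ∈ B ∧ blockHeight p B (ψ : G → ℂ) = 0) :
    (p : ℤ) ∣ ∑ ψ ∈ S, X ψ ^ 2 ∧
      (2 ≤ blockDefect p B → (p : ℤ) ^ 2 ∣ ∑ ψ ∈ S, X ψ ^ 2) ∧
      ∀ ψ ∈ S, ¬ (p : ℤ) ∣ X ψ := by
  classical
  haveI := Fact.mk hM.1
  have hsum := sum_sq_bfInt χ (blockDefect p B) hX
  have hrest : ∀ ψ, ψ ∉ S → (p : ℤ) ^ 2 ∣ X ψ ^ 2 := by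
    intro ψ hψ
    by_cases hb : ψ ∈ B
    · obtain ⟨W, hW, hiff⟩ := bfInt_valuation hM hχ ψ (hX ψ)
      rw [h0, pow_zero, one_mul] at hW
      exact pow_dvd_pow_of_dvd (hW ▸ (hiff hB hb).mpr fun h => hψ ((hS ψ).mpr ⟨hb, h⟩)) 2
    · have h1 : bfPair p χ ψ = 0 := bfPair_eq_zero hM fun h => hb ((mem_block_iff hB hχ).mpr h)
      have h2 := hX ψ
      rw [h1, mul_zero, eq_comm, Int.cast_eq_zero] at h2
      rw [h2, zero_pow two_ne_zero]
      exact dvd_zero _
  have hcomp : (p : ℤ) ^ 2 ∣ ∑ ψ ∈ Finset.univ \ S, X ψ ^ 2 :=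
    Finset.dvd_sum fun ψ hψ => hrest ψ (Finset.mem_sdiff.mp hψ).2
  have hsplit : ∑ ψ ∈ S, X ψ ^ 2 =
      (p : ℤ) ^ blockDefect p B * X χ - ∑ ψ ∈ Finset.univ \ S, X ψ ^ 2 := by
    rw [← hsum, ← Finset.sum_sdiff (Finset.subset_univ S)]
    ring
  refine ⟨?_, fun h2 => ?_, fun ψ hψ => ?_⟩
  · rw [hsplit]
    exact dvd_sub (dvd_mul_of_dvd_left (dvd_pow_self _ (by omega)) _)
      ((dvd_pow_self _ two_ne_zero).trans hcomp)
  · rw [hsplit]
    exact dvd_sub (dvd_mul_of_dvd_left (pow_dvd_pow _ h2) _) hcomp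
  · obtain ⟨hb, hh⟩ := (hS ψ).mp hψ
    obtain ⟨W, hW, hiff⟩ := bfInt_valuation hM hχ ψ (hX ψ)
    rw [h0, pow_zero, one_mul] at hW
    intro h
    exact (hiff hB hb).mp (hW ▸ h) hh

/-- For `p ≤ 3` the number of height zero characters is a multiple of `p`. -/
theorem small_prime [M.IsPrime] (hM : IsPModular p M) {B : Set (IrrCharacter G)} (hB : IsPBlock M B)
    (hd : 1 ≤ blockDefect p B) (hp : p = 2 ∨ p = 3) (S : Finset (IrrCharacter G))
    (hS : ∀ ψ, ψ ∈ S ↔ ψ ∈ B ∧ blockHeight p B (ψ : G → ℂ) = 0) : p ∣ S.card := by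
  obtain ⟨χ, hχ, h0⟩ := exists_height_zero (p := p) hB
  choose X hX using fun ψ => exists_int_bfPair hM hχ ψ
  obtain ⟨h1, -, h3⟩ := row_mod_sq hM hB hd hχ h0 hX S hS
  have h4 : (p : ℤ) ∣ ∑ ψ ∈ S, (X ψ ^ 2 - 1) := by
    refine Finset.dvd_sum fun ψ hψ => ?_
    rcases hp with rfl | rfl
    · exact sq_emod_two _ (h3 ψ hψ)
    · exact sq_emod_three _ (h3 ψ hψ)
  rw [Finset.sum_sub_distrib] at h4
  have h5 := dvd_sub h1 h4
  rw [sub_sub_cancel, Finset.sum_const, nsmul_eq_mul, mul_one] at h5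
  exact_mod_cast h5

theorem bfPair_congr_reg (χ ψ ψ' : IrrCharacter G)
    (h : ∀ g : G, ¬ p ∣ orderOf g → (ψ : G → ℂ) g = (ψ' : G → ℂ) g) :
    bfPair p χ ψ = bfPair p χ ψ' := by
  rw [bfPair, bfPair, classInner, classInner]
  refine congrArg _ (Finset.sum_congr rfl fun x _ => ?_)
  by_cases hx : p ∣ orderOf x
  · simp [regFun, hx]
  · rw [h x hx]

/-- Weighted squares when all classes of equal regular part have size at least `p`. -/
theorem class_bound [hp : Fact p.Prime] (hp5 : 5 ≤ p) {ι : Type*} [DecidableEq ι] (S : Finset ι)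
    (R : ι → ι → Prop) [DecidableRel R] (X : ι → ℤ) (hX : ∀ a b, R a b → X a = X b)
    (hne : S.Nonempty) (hsize : ∀ a ∈ S, p ≤ (S.filter (R a)).card) (hdvd : p ∣ S.card)
    (hunit : ∀ a ∈ S, ¬ (p : ℤ) ∣ X a) (hsum : (p : ℤ) ^ 2 ∣ ∑ a ∈ S, X a ^ 2) :
    2 * p ≤ S.card ∧ (p % 4 = 3 → 3 * p ≤ S.card) := by
  have hP : Prime (p : ℤ) := Nat.prime_iff_prime_int.mp hp.out
  have hp0 : (p : ℤ) ≠ 0 := hP.ne_zero
  obtain ⟨a, ha⟩ := hne
  obtain ⟨A, hA⟩ : ∃ A, A = S.filter (R a) := ⟨_, rfl⟩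
  have hAc : p ≤ A.card := hA ▸ hsize a ha
  have hAS : A ⊆ S := hA ▸ Finset.filter_subset _ _
  have hAX : ∀ b ∈ A, X b = X a := fun b hb => by
    rw [hA, Finset.mem_filter] at hb
    exact (hX a b hb.2).symm
  have hsumA : ∑ b ∈ A, X b ^ 2 = (A.card : ℤ) * X a ^ 2 := by
    rw [Finset.sum_congr rfl fun b hb => by rw [hAX b hb], Finset.sum_const, nsmul_eq_mul]
  have hdiv : ∀ n : ℕ, (p : ℤ) ^ 2 ∣ ((p * n : ℕ) : ℤ) * X a ^ 2 → p ∣ n := by
    intro n h
    rw [Nat.cast_mul, pow_two, mul_assoc] at h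
    have h2 := (hP.dvd_mul.mp ((mul_dvd_mul_iff_left hp0).mp h)).resolve_right
      fun h' => hunit a ha (hP.dvd_of_dvd_pow h')
    exact_mod_cast h2
  obtain ⟨m, hm⟩ := hdvd
  have hm0 : 1 ≤ m := by
    by_contra h
    have : 0 < S.card := Finset.card_pos.mpr ⟨a, ha⟩
    rw [hm, show m = 0 by omega] at this
    omega
  have hm1 : m ≠ 1 := by
    intro h
    subst h
    have : A = S := Finset.eq_of_subset_of_card_le hAS (by omega)
    rw [← this, hsumA, show A.card = p * 1 by rw [this]; exact hm] at hsum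
    exact hp.out.one_lt.ne' (Nat.dvd_one.mp (hdiv 1 hsum))
  refine ⟨hm ▸ by nlinarith [(by omega : 2 ≤ m)], fun h4 => ?_⟩
  by_contra hlt
  have hm2 : m = 2 := by
    rcases Nat.lt_or_ge m 3 with h | h
    · omega
    · exact absurd (hm ▸ (by nlinarith : 3 * p ≤ p * m)) hlt
  subst hm2
  by_cases hall : ∀ b ∈ S, X b = X a
  · rw [Finset.sum_congr rfl fun b hb => by rw [hall b hb], Finset.sum_const, nsmul_eq_mul, hm] at hsum
    have := Nat.le_of_dvd two_pos (hdiv 2 hsum)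
    omega
  push Not at hall
  obtain ⟨b, hb, hne⟩ := hall
  obtain ⟨C, hC⟩ : ∃ C, C = S.filter (R b) := ⟨_, rfl⟩
  have hCc : p ≤ C.card := hC ▸ hsize b hb
  have hCX : ∀ c ∈ C, X c = X b := fun c hc => by
    rw [hC, Finset.mem_filter] at hc
    exact (hX b c hc.2).symm
  have hdisj : Disjoint A C := Finset.disjoint_left.mpr fun c hc hc' => hne ((hCX c hc').symm.trans (hAX c hc))
  have hle : (A ∪ C).card ≤ S.card :=
    Finset.card_le_card (Finset.union_subset hAS (hC ▸ Finset.filter_subset _ _))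
  rw [Finset.card_union_of_disjoint hdisj] at hle
  have hU : A ∪ C = S :=
    Finset.eq_of_subset_of_card_le (Finset.union_subset hAS (hC ▸ Finset.filter_subset _ _))
      (by rw [Finset.card_union_of_disjoint hdisj]; omega)
  have hAeq : A.card = p := by omega
  have hCeq : C.card = p := by omega
  rw [← hU, Finset.sum_union hdisj, hsumA, Finset.sum_congr rfl fun c hc => by rw [hCX c hc],
    Finset.sum_const, nsmul_eq_mul, hAeq, hCeq, ← mul_add, pow_two] at hsum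
  have h6 := (mul_dvd_mul_iff_left hp0).mp hsum
  have h7 : ((X a : ZMod p)) ^ 2 + (X b : ZMod p) ^ 2 = 0 := by
    exact_mod_cast (ZMod.intCast_zmod_eq_zero_iff_dvd _ p).mpr h6
  have ha0 : (X a : ZMod p) ≠ 0 := fun h => hunit a ha ((ZMod.intCast_zmod_eq_zero_iff_dvd _ p).mp h)
  refine ZMod.exists_sq_eq_neg_one_iff.mp ⟨(X b : ZMod p) / (X a : ZMod p), ?_⟩ h4
  field_simp
  linear_combination -h7

/-- The height zero characters with a given regular part. -/
theorem class_size [M.IsPrime] [Fact p.Prime] (hM : IsPModular p M) {B : Set (IrrCharacter G)}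
    {P : Subgroup G} {e : Set (IrrCharacter (Subgroup.centralizer (P : Set G)))} {F : FusionSystem P}
    (hF : IsBlockFusionSystemOn p M B P e F) {θ : IrrCharacter G} (hθ : θ ∈ B)
    (h0 : blockHeight p B (θ : G → ℂ) = 0) (S : Finset (IrrCharacter G))
    (hS : ∀ ψ, ψ ∈ S ↔ ψ ∈ B ∧ blockHeight p B (ψ : G → ℂ) = 0) [DecidablePred fun η : IrrCharacter G =>
      ∀ g : G, ¬ p ∣ orderOf g → (θ : G → ℂ) g = (η : G → ℂ) g] :
    (F.focalSubgroup.subgroupOf P).index ≤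
      (S.filter fun η : IrrCharacter G => ∀ g : G, ¬ p ∣ orderOf g → (θ : G → ℂ) g = (η : G → ℂ) g).card := by
  classical
  have key : ∀ f : dualSub (F.focalSubgroup.subgroupOf P), ∃ η : IrrCharacter G, η ∈ S ∧
      (η : G → ℂ) = psi p (linW (M := M) P e p f.1) θ ∧
      ∀ g : G, ¬ p ∣ orderOf g → (θ : G → ℂ) g = (η : G → ℂ) g := by
    intro f
    obtain ⟨η, hηB, hη, hreg⟩ := exists_star_lin hM hF f.2 hθ
    refine ⟨η, (hS η).mpr ⟨hηB, ?_⟩, hη, fun g hg => (hreg g hg).symm⟩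
    have hd : charDegree (η : G → ℂ) = charDegree (θ : G → ℂ) := by
      have := hreg 1 (by rw [orderOf_one]; exact (Fact.out : p.Prime).not_dvd_one)
      rw [charDegree_cast, charDegree_cast] at this
      exact_mod_cast this
    rw [blockHeight, hd]
    exact h0
  choose η hη1 hη2 hη3 using key
  rw [← card_dualSub _ (commutator_le_focal F), ← Fintype.card_coe, ← Nat.card_eq_fintype_card]
  refine Nat.card_le_card_of_injective (fun f => ⟨η f, Finset.mem_filter.mpr ⟨hη1 f, hη3 f⟩⟩) ?_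
  intro f f' h
  have hee : η f = η f' := congrArg Subtype.val h
  have c1 := psi_linW_comp hM hF (f := ((f'⁻¹ : _) : P →* ℂˣ)) (f'⁻¹).2 f.2 hθ (hη2 f)
  rw [hee] at c1
  have c2 := psi_linW_comp hM hF (f := ((f'⁻¹ : _) : P →* ℂˣ)) (f'⁻¹).2 f'.2 hθ (hη2 f')
  rw [c1] at c2
  have hmul : ((f'⁻¹ : dualSub (F.focalSubgroup.subgroupOf P)) : P →* ℂˣ) * f'.1 = 1 := by
    rw [← Subgroup.coe_mul, inv_mul_cancel, Subgroup.coe_one]
  rw [hmul, psi_linW_trivial hM hF hθ] at c2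
  have h1 : ((f'⁻¹ * f : dualSub (F.focalSubgroup.subgroupOf P)) : P →* ℂˣ) = 1 :=
    MonoidHom.ext fun u => eq_one_of_fixed hM hF (f'⁻¹ * f).2 hθ h0 c2.symm u
  exact (inv_mul_eq_one.mp (Subtype.ext h1 : f'⁻¹ * f = 1)).symm

/-- Let p be a prime and B a p-block of the finite group G (relative to a maximal ideal M of the algebraic integers containing p) with a nontrivial defect group D whose automorphism group is a p-group (for a p-group D this is the same as its outer automorphism group being a p-group). Then the number of irreducible characters of height zero in B is divisible by p; if p > 3 this number is at least 2p, and if moreover p ≡ 3 (mod 4) it is at least 3p. -/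
theorem result {G : Type*} [Group G] [Finite G] (p : ℕ) [Fact p.Prime] (M : Ideal Cfsg.AlgInt) (hM : Cfsg.IsPModular p M) (B : Set (Cfsg.IrrCharacter G)) (hB : Cfsg.IsPBlock M B) (D : Subgroup G) (hD : Cfsg.IsDefectGroup p M B D) (hD1 : D ≠ ⊥) (hAut : IsPGroup p (MulAut ↥D)) : p ∣ Nat.card {χ : Cfsg.IrrCharacter G // χ ∈ B ∧ Cfsg.blockHeight p B (χ : G → ℂ) = 0} ∧ (3 < p → 2 * p ≤ Nat.card {χ : Cfsg.IrrCharacter G // χ ∈ B ∧ Cfsg.blockHeight p B (χ : G → ℂ) = 0}) ∧ (3 < p → p % 4 = 3 → 3 * p ≤ Nat.card {χ : Cfsg.IrrCharacter G // χ ∈ B ∧ Cfsg.blockHeight p B (χ : G → ℂ) = 0}) := by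
  classical
  haveI := Fintype.ofFinite G
  haveI : M.IsPrime := isPrime_of_modular hM
  obtain ⟨S, hS⟩ : ∃ S : Finset (IrrCharacter G),
      ∀ ψ, ψ ∈ S ↔ ψ ∈ B ∧ blockHeight p B (ψ : G → ℂ) = 0 :=
    ⟨Finset.univ.filter fun ψ => ψ ∈ B ∧ blockHeight p B (ψ : G → ℂ) = 0, fun ψ => by simp⟩
  have hcard : Nat.card {χ : IrrCharacter G // χ ∈ B ∧ blockHeight p B (χ : G → ℂ) = 0} = S.card := by
    rw [Nat.card_eq_fintype_card]
    exact Fintype.card_of_subtype S hS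
  rw [hcard]
  obtain ⟨P, e, hmax⟩ := exists_maximal_of_block (p := p) hM hB
  obtain ⟨x, hx⟩ := defect_conj hM hB hD (isDefectGroup_of_maximal hM hmax)
  have hPA := isPGroup_aut_of_conj hx hAut
  have hPc : Nat.card P = p ^ blockDefect p B := card_defectGroup hM hB (isDefectGroup_of_maximal hM hmax)
  have hPD : Nat.card P = Nat.card D := by
    rw [hPc, card_defectGroup hM hB hD]
  have hd : 1 ≤ blockDefect p B := by
    by_contra h
    rw [show blockDefect p B = 0 by omega, pow_zero, hPD] at hPc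
    exact hD1 (Subgroup.card_eq_one.mp hPc)
  have hpp : p.Prime := Fact.out
  by_cases h3 : p ≤ 3
  · refine ⟨small_prime hM hB hd ?_ S hS, fun h => absurd h (by omega), fun h => absurd h (by omega)⟩
    have := hpp.two_le
    omega
  have h4 : p ≠ 4 := fun h => by rw [h] at hpp; exact absurd hpp (by decide)
  have hp5 : 5 ≤ p := by omega
  have hd2 : 2 ≤ blockDefect p B := by
    by_contra h
    rw [show blockDefect p B = 1 by omega, pow_one] at hPc
    haveI : IsCyclic P := isCyclic_of_prime_card hPc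
    obtain ⟨k, hk⟩ := IsPGroup.iff_card.mp hPA
    rw [@IsCyclic.card_mulAut P _ _ (isCyclic_of_prime_card hPc), hPc, Nat.totient_prime hpp] at hk
    rcases Nat.eq_zero_or_pos k with rfl | hk0
    · rw [pow_zero] at hk
      omega
    · have := Nat.le_self_pow (by omega : k ≠ 0) p
      omega
  have hF := BPairs.blockFusion_isOn hM hmax
  have hP1 : P ≠ ⊥ := fun h => hD1 (Subgroup.card_eq_one.mp (by rw [← hPD, h, Subgroup.card_bot]))
  have hPp : IsPGroup p P := IsPGroup.of_card hPc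
  have hfoc := Fusion.focal_lt_of_five p hp5 (Nat.card P) G P le_rfl hPp (BPairs.blockFusion hM hmax)
    (BPairs.blockFusion_saturated hM hmax) hP1 (hPA.to_subgroup _)
  obtain ⟨F, hFdef⟩ : ∃ F, F = BPairs.blockFusion hM hmax := ⟨_, rfl⟩
  rw [← hFdef] at hF hfoc
  haveI : Finite P := inferInstance
  obtain ⟨k, hk⟩ := hPp.index (F.focalSubgroup.subgroupOf P)
  have hk0 : k ≠ 0 := by
    rintro rfl
    rw [pow_zero, Subgroup.index_eq_one, Subgroup.subgroupOf_eq_top] at hk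
    exact absurd hk (not_le_of_gt hfoc)
  have hdvd : p ∣ S.card := by
    have h := index_dvd_card_height hM hF 0 ⊥ fun f θ hθ h0 hfix =>
      Subgroup.mem_bot.mpr (Subtype.ext (MonoidHom.ext fun u => eq_one_of_fixed hM hF f.2 hθ h0 hfix u))
    rw [Subgroup.index_bot, card_dualSub _ (commutator_le_focal F), hcard, hk] at h
    exact (dvd_pow_self p hk0).trans h
  obtain ⟨χ, hχ, h0⟩ := exists_height_zero (p := p) hB
  choose X hX using fun ψ => exists_int_bfPair hM hχ ψ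
  obtain ⟨-, hsq, hunit⟩ := row_mod_sq hM hB hd hχ h0 hX S hS
  obtain ⟨hb1, hb2⟩ := class_bound (p := p) hp5 S
    (fun θ η : IrrCharacter G => ∀ g : G, ¬ p ∣ orderOf g → (θ : G → ℂ) g = (η : G → ℂ) g) X
    (fun θ η h => by
      have h1 := hX θ
      rw [bfPair_congr_reg χ θ η h, hX η] at h1
      exact_mod_cast h1.symm)
    ⟨χ, (hS χ).mpr ⟨hχ, h0⟩⟩
    (fun θ hθ => by
      have := class_size hM hF ((hS θ).mp hθ).1 ((hS θ).mp hθ).2 S hS
      rw [hk] at this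
      exact (Nat.le_self_pow hk0 p).trans this)
    hdvd hunit (hsq hd2)
  exact ⟨hdvd, fun _ => hb1, fun _ => hb2⟩

end Cfsg.Agent.S4978
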