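import Cfsg.Statements.S4989
import Cfsg.Agent.Lib.ClassSum.GaloisMean
import Cfsg.Agent.Lib.CT.Orthogonality

set_option autoImplicit false
open Cfsg

namespace Cfsg.Agent.S4989

/-- Let H be a subgroup of the finite group G and χ an irreducible complex character of G. Then the inner product of the restriction of χ to H with itself, (1/#H)·Σ_{h ∈ H} |χ(h)|², is at most 1 + #(Z ∖ H)/#H, where Z is the set of zeros of χ in G. -/
theorem result {G : Type*} [Group G] [Finite G] (H : Subgroup G) (χ : Cfsg.IrrCharacter G) : (Nat.card ↥H : ℝ)⁻¹ * ∑ᶠ h : ↥H, ‖(χ : G → ℂ) h‖ ^ 2 ≤ 1 + (Set.ncard ({x : G | (χ : G → ℂ) x = 0} \ (H : Set G)) : ℝ) / (Nat.card ↥H : ℝ) := by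
  classical
  haveI := Fintype.ofFinite G
  haveI := Fintype.ofFinite H
  have hc := CT.isCharacter_of_isIrr χ.2
  rw [finsum_eq_sum_of_fintype]
  let S : Finset G := Finset.univ.filter fun x => x ∉ H ∧ (χ : G → ℂ) x ≠ 0
  have hS : ∀ x ∈ S, ∀ k : ℕ, k.Coprime (Nat.card G) → x ^ k ∈ S := by
    intro x hx k hk
    obtain ⟨-, hxH, hx0⟩ := Finset.mem_filter.mp hx
    refine Finset.mem_filter.mpr ⟨Finset.mem_univ _, fun h => hxH ?_,
      ClassSum.char_pow_ne_zero hc hx0 hk⟩
    obtain ⟨l, hl⟩ := exists_pow_eq_self_of_coprime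
      (Nat.Coprime.coprime_dvd_right (orderOf_dvd_natCard x) hk)
    exact hl ▸ H.pow_mem h l
  have hge := ClassSum.card_le_sum_norm_sq hc S hS fun x hx => (Finset.mem_filter.mp hx).2.2
  have htot : ∑ g : G, ‖(χ : G → ℂ) g‖ ^ 2 = (Nat.card G : ℝ) := by
    have h := CT.irr_inner_self χ.2
    rw [CT.classInner_self, ← Complex.ofReal_one, Complex.ofReal_inj] at h
    field_simp at h
    exact h
  have hH : ∑ g ∈ Finset.univ.filter (fun g => g ∈ H), ‖(χ : G → ℂ) g‖ ^ 2 =
      ∑ h : H, ‖(χ : G → ℂ) h‖ ^ 2 :=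
    Finset.sum_subtype (Finset.univ.filter fun g => g ∈ H) (fun g => by simp)
      (fun g => ‖(χ : G → ℂ) g‖ ^ 2)
  have hsplit : ∑ g : G, ‖(χ : G → ℂ) g‖ ^ 2 =
      ∑ h : H, ‖(χ : G → ℂ) h‖ ^ 2 + ∑ x ∈ S, ‖(χ : G → ℂ) x‖ ^ 2 := by
    rw [← hH, ← Finset.sum_filter_add_sum_filter_not Finset.univ (fun g => g ∈ H)]
    congr 1
    refine (Finset.sum_subset (fun x hx => ?_) fun x hx hxS => ?_).symm
    · simp only [S, Finset.mem_filter] at hx ⊢
      exact ⟨hx.1, hx.2.1⟩
    · simp only [S, Finset.mem_filter, Finset.mem_univ, true_and] at hx hxS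
      rw [Classical.not_not.mp fun h => hxS ⟨hx, h⟩, norm_zero]
      norm_num
  set Z : Set G := {x : G | (χ : G → ℂ) x = 0} \ (H : Set G) with hZ
  have hcount : Nat.card H + S.card + Z.ncard = Nat.card G := by
    rw [show Z = ↑(Finset.univ.filter fun x : G => x ∉ H ∧ (χ : G → ℂ) x = 0) by
        ext x; simp [hZ, and_comm], Set.ncard_coe_finset, Nat.card_eq_fintype_card (α := G),
      ← Finset.card_univ, ← Finset.card_filter_add_card_filter_not
        (s := (Finset.univ : Finset G)) (fun g => g ∈ H), add_assoc]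
    congr 1
    · rw [Nat.card_eq_fintype_card, Fintype.card_subtype]
    · rw [← Finset.card_filter_add_card_filter_not (s := Finset.univ.filter fun g : G => g ∉ H)
        (fun g => (χ : G → ℂ) g ≠ 0), Finset.filter_filter, Finset.filter_filter]
      simp [S]
  have hH0 : (0 : ℝ) < Nat.card H := Nat.cast_pos.mpr Nat.card_pos
  rw [inv_mul_le_iff₀ hH0, mul_add, mul_one, mul_div_cancel₀ _ hH0.ne']
  have : (Nat.card H : ℝ) + S.card + Z.ncard = (Nat.card G : ℝ) := by exact_mod_cast hcount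
  linarith

end Cfsg.Agent.S4989
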