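import Cfsg.Statements.S4996
import Cfsg.Agent.Lib.ClassSum.GaloisMean
import Cfsg.Agent.Lib.CT.Induced
import Cfsg.Agent.Lib.CT.Kernel

set_option autoImplicit false
open Cfsg
open scoped ComplexConjugate

namespace Cfsg.Agent.S4996

/-- The average over the cosets of a normal subgroup of a character is a character. -/
theorem isCharacter_average {G : Type*} [Group G] [Finite G] (N : Subgroup G) [N.Normal]
    [Fintype N] {θ : G → ℂ} (hθ : IsCharacter G θ) :
    IsCharacter G (fun x => (Nat.card N : ℂ)⁻¹ * ∑ n : N, θ ((n : G) * x)) := by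
  classical
  haveI := Fintype.ofFinite G
  have hN0 : (Nat.card N : ℂ) ≠ 0 := Nat.cast_ne_zero.mpr Nat.card_pos.ne'
  have hψ : ∀ ψ : Cfsg.IrrCharacter G, ∀ x, (Nat.card N : ℂ)⁻¹ * ∑ n : N, (ψ : G → ℂ) ((n : G) * x)
      = if (∀ n ∈ N, (ψ : G → ℂ) n = (ψ : G → ℂ) 1) then (ψ : G → ℂ) x else 0 := by
    intro ψ x
    split_ifs with h
    · have : ∀ n : N, (ψ : G → ℂ) ((n : G) * x) = (ψ : G → ℂ) x := fun n => by
        rw [CT.isClassFunction_mul_comm (CT.isClassFunction_of_isIrr ψ.2)]
        exact ((CT.mem_kerChar_iff (CT.isCharacter_of_isIrr ψ.2)).mpr (h n n.2)) x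
      rw [Finset.sum_congr rfl fun n _ => this n, Finset.sum_const, nsmul_eq_mul, Finset.card_univ,
        ← Nat.card_eq_fintype_card, inv_mul_cancel_left₀ hN0]
    · push Not at h
      obtain ⟨m, hmN, hm⟩ := h
      obtain ⟨d, ρ, hρ, hchar⟩ := ψ.2
      haveI := hρ
      let T : Module.End ℂ (Fin d → ℂ) := ∑ n : N, ρ n
      have hTN : ρ m * T = T := by
        simp only [T, Finset.mul_sum, ← map_mul]
        exact Fintype.sum_equiv (Equiv.mulLeft (⟨m, hmN⟩ : N)) _ _ fun k => rfl
      have hT : ∀ c, T * ρ c = ρ c * T := fun c => by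
        simp only [T, Finset.mul_sum, Finset.sum_mul, ← map_mul]
        refine Fintype.sum_equiv (MulAut.conjNormal (H := N) c⁻¹).toEquiv _ _ fun k => ?_
        congr 1
        simp [mul_assoc]
      have hT0 : T = 0 := by
        rw [CT.eq_scalar_of_commute ρ T hT]
        by_contra hne
        set s := LinearMap.trace ℂ (Fin d → ℂ) T / (Module.finrank ℂ (Fin d → ℂ) : ℂ) with hs
        have hs0 : s ≠ 0 := fun e => hne (by rw [e, zero_smul])
        rw [CT.eq_scalar_of_commute ρ T hT, ← hs] at hTN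
        have h2 : ρ m = 1 := by
          refine LinearMap.ext fun v => ?_
          have := LinearMap.congr_fun hTN (s⁻¹ • v)
          simpa [hs0] using this
        exact hm (by rw [← hchar]; simp [Representation.character, h2])
      have := congrArg (fun S => LinearMap.trace ℂ (Fin d → ℂ) (S * ρ x)) hT0
      simp only [T, Finset.sum_mul, map_sum, ← map_mul, zero_mul, map_zero] at this
      rw [← hchar]
      exact mul_eq_zero_of_right _ this
  have hdec := CT.character_eq_sum hθ
  convert CT.isCharacter_sum Finset.univ (f := fun ψ : Cfsg.IrrCharacter G =>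
    ((if (∀ n ∈ N, (ψ : G → ℂ) n = (ψ : G → ℂ) 1) then CT.mult θ (ψ : G → ℂ) else 0 : ℕ) : ℂ) •
      (ψ : G → ℂ)) (fun ψ _ => CT.isCharacter_nsmul _ (CT.isCharacter_of_isIrr ψ.2)) using 1
  funext x
  conv_lhs => rw [hdec]
  simp only [Finset.sum_apply, Pi.smul_apply, smul_eq_mul]
  rw [Finset.sum_comm, Finset.mul_sum]
  refine Finset.sum_congr rfl fun ψ _ => ?_
  rw [← Finset.mul_sum, mul_left_comm, hψ ψ x]
  split_ifs <;> simp

/-- Let N be a normal subgroup of the finite group G and χ an irreducible complex character of G. Then the restriction of χ to N is not irreducible if and only if χ vanishes on some whole coset Nx of N in G. -/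
theorem result {G : Type*} [Group G] [Finite G] (N : Subgroup G) [N.Normal] (χ : Cfsg.IrrCharacter G) : ¬ Cfsg.IsIrrCharacter ↥N (fun n : ↥N => (χ : G → ℂ) n) ↔ ∃ x : G, ∀ n : ↥N, (χ : G → ℂ) ((n : G) * x) = 0 := by
  classical
  haveI := Fintype.ofFinite G
  haveI := Fintype.ofFinite N
  have hc := CT.isCharacter_of_isIrr χ.2
  let θ : G → ℂ := (χ : G → ℂ) * fun g => conj ((χ : G → ℂ) g)
  have hθ : IsCharacter G θ := CT.isCharacter_mul hc (CT.isCharacter_conj hc)
  let f : G → ℂ := fun x => (Nat.card N : ℂ)⁻¹ * ∑ n : N, θ ((n : G) * x)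
  have hf : IsCharacter G f := isCharacter_average N hθ
  have hfR : ∀ x, f x = (((Nat.card N : ℝ)⁻¹ * ∑ n : N, ‖(χ : G → ℂ) ((n : G) * x)‖ ^ 2 : ℝ) : ℂ) :=
    fun x => by simp [f, θ, Complex.mul_conj']
  have hzero : ∀ x, f x = 0 ↔ ∀ n : N, (χ : G → ℂ) ((n : G) * x) = 0 := by
    intro x
    rw [hfR, Complex.ofReal_eq_zero, mul_eq_zero, inv_eq_zero, Nat.cast_eq_zero,
      or_iff_right Nat.card_pos.ne', Finset.sum_eq_zero_iff_of_nonneg fun n _ => sq_nonneg _]
    simp
  have hres := CT.isCharacter_restrict N hc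
  have hf1 : f 1 = classInner (fun n : N => (χ : G → ℂ) n) (fun n : N => (χ : G → ℂ) n) := by
    simp [f, θ, classInner]
  constructor
  · intro hred
    by_contra hcon
    push Not at hcon
    have hne : ∀ x, f x ≠ 0 := fun x e => by
      obtain ⟨n, hn⟩ := hcon x
      exact hn ((hzero x).mp e n)
    have hfN : ∀ x ∈ N, f x = f 1 := fun x hx => by
      simp only [f, mul_one]
      congr 1
      exact Fintype.sum_equiv (Equiv.mulRight (⟨x, hx⟩ : N)) _ _ fun n => rfl
    obtain ⟨r, hr⟩ := CT.classInner_character_nat hres hres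
    rw [← hf1] at hr
    have hr2 : 2 ≤ r := by
      rcases r with _ | _ | r
      · exact absurd (hr.trans Nat.cast_zero) (hne 1)
      · exact absurd (CT.isIrr_of_inner_self hres (hf1.symm.trans (hr.trans Nat.cast_one))) hred
      · omega
    let S : Finset G := Finset.univ.filter fun x => x ∉ N
    have hS : ∀ x ∈ S, ∀ k : ℕ, k.Coprime (Nat.card G) → x ^ k ∈ S := by
      intro x hx k hk
      refine Finset.mem_filter.mpr ⟨Finset.mem_univ _, fun h => (Finset.mem_filter.mp hx).2 ?_⟩
      obtain ⟨l, hl⟩ := exists_pow_eq_self_of_coprime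
        (Nat.Coprime.coprime_dvd_right (orderOf_dvd_natCard x) hk)
      exact hl ▸ N.pow_mem h l
    have hge := ClassSum.card_le_sum_norm hf S hS fun x _ => hne x
    have htot : ∑ x : G, f x = (Nat.card G : ℂ) := by
      have h := CT.irr_inner_self χ.2
      rw [classInner, inv_mul_eq_one₀ CT.card_ne_zero] at h
      rw [h]
      simp only [f, ← Finset.mul_sum]
      have he : ∀ n : N, ∑ y : G, θ ((n : G) * y) = ∑ y : G, θ y := fun n =>
        Fintype.sum_equiv (Equiv.mulLeft (n : G)) _ _ fun y => rfl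
      rw [Finset.sum_comm, Finset.sum_congr rfl fun n _ => he n,
        Finset.sum_const, nsmul_eq_mul, Finset.card_univ, ← Nat.card_eq_fintype_card,
        inv_mul_cancel_left₀ (Nat.cast_ne_zero.mpr Nat.card_pos.ne')]
      rfl
    have hnorm : ∀ x, ((‖f x‖ : ℝ) : ℂ) = f x := fun x => by
      rw [hfR, Complex.norm_real, Real.norm_of_nonneg]
      positivity
    have hsumR : ∑ x : G, ‖f x‖ = (Nat.card G : ℝ) := by
      have : ((∑ x : G, ‖f x‖ : ℝ) : ℂ) = ((Nat.card G : ℝ) : ℂ) := by
        rw [Complex.ofReal_sum, Complex.ofReal_natCast, ← htot]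
        exact Finset.sum_congr rfl fun x _ => hnorm x
      exact Complex.ofReal_inj.mp this
    rw [← Finset.sum_filter_add_sum_filter_not Finset.univ (fun g => g ∈ N),
      Finset.sum_congr rfl fun x hx => by
        rw [hfN x (Finset.mem_filter.mp hx).2, hr, Complex.norm_natCast],
      Finset.sum_const, nsmul_eq_mul] at hsumR
    have hcardN : ((Finset.univ.filter fun g : G => g ∈ N).card : ℝ) + S.card = Nat.card G := by
      rw [Nat.card_eq_fintype_card, ← Finset.card_univ]
      exact_mod_cast Finset.card_filter_add_card_filter_not (s := (Finset.univ : Finset G))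
        (fun g => g ∈ N)
    have hpos : (1 : ℝ) ≤ (Finset.univ.filter fun g : G => g ∈ N).card := by
      exact_mod_cast Finset.card_pos.mpr ⟨1, by simp⟩
    have hr2' : (2 : ℝ) ≤ r := by exact_mod_cast hr2
    nlinarith
  · rintro ⟨x, hx⟩ hirr
    have h1 : f 1 = 1 := by rw [hf1]; exact CT.irr_inner_self hirr
    obtain ⟨lam, hlam⟩ := CT.exists_hom_of_degree_one hf h1
    have h0 := (hzero x).mpr hx
    rw [hlam] at h0
    exact (lam x).ne_zero h0

end Cfsg.Agent.S4996
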