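import Cfsg.Statements.S4997
import Cfsg.Agent.Lib.CT.SingularOrder.Main

set_option autoImplicit false
set_option linter.style.haveILetI false
open Cfsg

namespace Cfsg.Agent.S4997

/-- Let p be an odd prime and G a finite solvable group with exactly one conjugacy class consisting of vanishing elements (elements at which some irreducible complex character is zero) of order divisible by p. Let P be a Sylow p-subgroup of G. Then the order of P is at most p times the order of the largest normal p-subgroup of G. -/
theorem result {G : Type*} [Group G] [Finite G] (hsolv : Group.IsSolvable G) (p : ℕ) [Fact p.Prime] (hp : p ≠ 2) (h1 : Set.ncard {C : ConjClasses G | (∀ g ∈ C.carrier, ∃ χ : Cfsg.IrrCharacter G, (χ : G → ℂ) g = 0) ∧ ∃ g ∈ C.carrier, p ∣ orderOf g} = 1) (P : Sylow p G) : Nat.card ↥(P : Subgroup G) ≤ p * Nat.card ↥(Cfsg.pCore p G) := by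
  haveI := hsolv
  set K := Cfsg.pCore p G with hK
  obtain ⟨C, hC⟩ := Set.ncard_eq_one.mp h1
  have hcl : ∀ g : G, p ∣ orderOf g → SingularOrder.Van g → ConjClasses.mk g = C := by
    intro g hg hv
    obtain ⟨χ, hχ⟩ := hv
    have : ConjClasses.mk g ∈ ({C} : Set (ConjClasses G)) := hC ▸ ⟨fun x hx => ⟨χ, by
      rw [ConjClasses.mem_carrier_iff_mk_eq, ConjClasses.mk_eq_mk_iff_isConj] at hx
      rw [CT.isClassFunction_isConj (CT.isClassFunction_of_isIrr χ.2) hx, hχ]⟩,
      g, ConjClasses.mem_carrier_mk, hg⟩
    exact this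
  obtain ⟨g0, hg0⟩ := C.exists_rep
  have hb : ∀ g : G, p ∣ orderOf g → SingularOrder.Van g → orderOf g = orderOf g0 := by
    intro g hg hv
    have h := ConjClasses.mk_eq_mk_iff_isConj.mp ((hcl g hg hv).trans hg0.symm)
    obtain ⟨c, hc⟩ := isConj_iff.mp h
    rw [← hc]
    exact (orderOf_injective (MulAut.conj c).toMonoidHom (MulAut.conj c).injective g).symm
  set φ := (QuotientGroup.mk' K).domRestrict (P : Subgroup G) with hφ
  have hker : φ.ker = K.subgroupOf (P : Subgroup G) := by
    rw [hφ, MonoidHom.ker_domRestrict, QuotientGroup.ker_mk']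
  have hrange : φ.range = (P : Subgroup G).map (QuotientGroup.mk' K) := MonoidHom.domRestrict_range _ _
  calc Nat.card ↥(P : Subgroup G) = φ.ker.index * Nat.card φ.ker := φ.ker.index_mul_card.symm
    _ = Nat.card ↥((P : Subgroup G).map (QuotientGroup.mk' K)) * Nat.card K := by
      rw [Subgroup.index_ker, hrange, hker,
        Nat.card_congr (Subgroup.subgroupOfEquivOfLe (Basics.pCore_le_sylow p P)).toEquiv]
    _ ≤ p * Nat.card K := Nat.mul_le_mul_right _ (SingularOrder.card_sylow_map_le hb P)

end Cfsg.Agent.S4997
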