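import Cfsg.Statements.S5001
import Cfsg.Agent.Lib.Blocks.Regular
import Cfsg.Agent.Lib.CT.Integral

set_option autoImplicit false
open Cfsg

namespace Cfsg.Agent.S5001

open Cfsg.Agent Cfsg.Agent.Blocks

universe u

open Classical in
/-- The determinant of a diagonal block of an algebra of matrices commuting with a diagonal one. -/
theorem block_det_mul {n : Type*} [Fintype n] [DecidableEq n] (ω : n → ℂ) (ε : ℂ)
    {A B : Matrix n n ℂ} (hA : ∀ i j, ω i ≠ ω j → A i j = 0) :
    ((A * B).submatrix (Subtype.val : {i // ω i = ε} → n) Subtype.val).det =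
      (A.submatrix (Subtype.val : {i // ω i = ε} → n) Subtype.val).det *
        (B.submatrix (Subtype.val : {i // ω i = ε} → n) Subtype.val).det := by
  rw [← Matrix.det_mul]
  congr 1
  ext i j
  simp only [Matrix.submatrix_apply, Matrix.mul_apply]
  rw [← Finset.sum_subtype (p := fun k => ω k = ε) (Finset.univ.filter fun k => ω k = ε)
    (fun x => by simp) fun k => A i k * B k j, Finset.sum_filter]
  refine Finset.sum_congr rfl fun k _ => ?_
  split_ifs with hk
  · rfl
  · rw [hA i k (by rw [i.2]; exact Ne.symm hk), zero_mul]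

theorem aux {G : Type u} [Group G] [Finite G] {p : ℕ} [hp : Fact p.Prime] {M : Ideal AlgInt}
    [M.IsPrime] (hM : IsPModular p M) {B : Set (IrrCharacter G)} (hB : IsPBlock M B)
    {D : Subgroup G} (hD : IsDefectGroup p M B D) {Z : Subgroup G} (hZc : Z ≤ Subgroup.center G)
    (hZp : IsPGroup p Z) (hZD : Z ≤ D) (lam : Z →* ℂˣ) {χ : IrrCharacter G} (hχ : χ ∈ B)
    (hover : ∀ z : Z, (χ : G → ℂ) z = (χ : G → ℂ) 1 * (lam z : ℂ))
    (h0 : blockHeight p B (χ : G → ℂ) = 0) :
    ∃ μ : D →* ℂˣ, ∀ z : Z, μ ⟨(z : G), hZD z.2⟩ = lam z := by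
  classical
  haveI := charP_res (M := M) hM
  letI := Fintype.ofFinite G
  obtain ⟨g, hg, hle, -, -⟩ := defectGroup_spec hD
  have hunit : red M (charL M χ g) ≠ 0 := by
    have := red_charL_defectClass_ne_zero hM hB hg hχ h0 (x := 1) (Commute.one_left g)
      ⟨0, one_pow _⟩
    rwa [one_mul] at this
  obtain ⟨d, ρ, hρ, hchar⟩ := χ.2
  haveI := hρ
  obtain ⟨b, ω, hb, hω⟩ := CT.exists_eigenbasis (ρ g) (orderOf_pos g)
    (by rw [← map_pow, pow_orderOf_eq_one, map_one])
  have hint : ∀ i, ω i ∈ Loc M := fun i =>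
    integral_mem_loc (IsIntegral.of_pow (orderOf_pos g) (by rw [hω i]; exact isIntegral_one))
  have htr : charL M χ g = ∑ i, (⟨ω i, hint i⟩ : Loc M) := by
    refine Subtype.ext ?_
    rw [coe_charL, AddSubmonoidClass.coe_finsetSum, ← hchar]
    exact CT.trace_eq_sum_of_eigenbasis (ρ g) b ω hb
  obtain ⟨ε, hεn⟩ : ∃ ε : ℂ, ¬ p ∣ Fintype.card {i // ω i = ε} := by
    by_contra hall
    push Not at hall
    apply hunit
    rw [htr, map_sum, ← Finset.sum_fiberwise_of_maps_to
      (fun i _ => Finset.mem_image_of_mem ω (Finset.mem_univ i))]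
    refine Finset.sum_eq_zero fun ε _ => ?_
    rcases (Finset.univ.filter fun i => ω i = ε).eq_empty_or_nonempty with he | ⟨i₀, hi₀⟩
    · rw [he, Finset.sum_empty]
    rw [Finset.sum_congr rfl (g := fun _ => red M (⟨ω i₀, hint i₀⟩ : Loc M)) fun i hi => by
      congr 2
      rw [(Finset.mem_filter.mp hi).2, (Finset.mem_filter.mp hi₀).2],
      Finset.sum_const, ← Fintype.card_subtype, nsmul_eq_mul,
      (CharP.cast_eq_zero_iff (Res M) p _).mpr (hall ε), zero_mul]
  let A : G → Matrix _ _ ℂ := fun x => LinearMap.toMatrix b b (ρ x)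
  have hAmul : ∀ x y, A (x * y) = A x * A y := fun x y => by
    simp only [A, map_mul]
    exact LinearMap.toMatrix_mul b (ρ x) (ρ y)
  have hAoff : ∀ x : D, ∀ i j, ω i ≠ ω j → A x i j = 0 := by
    intro x i j hij
    have hcom : A x * A g = A g * A x := by
      rw [← hAmul, ← hAmul, Subgroup.mem_centralizer_singleton_iff.mp (hle x.2)]
    have hAg : A g = Matrix.diagonal ω := by
      ext k l
      simp only [A, LinearMap.toMatrix_apply, hb, map_smul, b.repr_self, Finsupp.smul_apply,
        smul_eq_mul, Matrix.diagonal_apply]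
      by_cases h : k = l
      · subst h; simp
      · simp [h, Finsupp.single_eq_of_ne h]
    rw [hAg] at hcom
    have := congrFun (congrFun hcom i) j
    rw [Matrix.mul_diagonal, Matrix.diagonal_mul] at this
    have h2 : (ω i - ω j) * A x i j = 0 := by rw [sub_mul, ← this]; ring
    exact (mul_eq_zero.mp h2).resolve_left (sub_ne_zero.mpr hij)
  let δ : D →* ℂ :=
    { toFun := fun x => ((A x).submatrix (Subtype.val : {i // ω i = ε} → _) Subtype.val).det
      map_one' := by
        rw [show A ((1 : D) : G) = 1 by simp [A],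
          Matrix.submatrix_one _ Subtype.val_injective, Matrix.det_one]
      map_mul' := fun x y => by
        rw [Subgroup.coe_mul, hAmul, block_det_mul ω ε (hAoff x)] }
  set n := Fintype.card {i // ω i = ε}
  have hz : ∀ z : Z, δ ⟨(z : G), hZD z.2⟩ = (lam z : ℂ) ^ n := by
    intro z
    obtain ⟨c, hc, -⟩ := CT.central_scalar ρ (hZc z.2)
    have hcl : c = (lam z : ℂ) := by
      have h1 : (χ : G → ℂ) z = c * (χ : G → ℂ) 1 := by
        rw [← hchar]
        simp [Representation.character, hc]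
      rw [hover z, mul_comm] at h1
      exact (mul_right_cancel₀ (CT.irr_one_ne_zero χ.2) h1).symm
    show ((A z).submatrix _ _).det = _
    rw [show (A z) = c • (1 : Matrix _ _ ℂ) by simp only [A, hc, map_smul, LinearMap.toMatrix_id],
      Matrix.submatrix_smul, Pi.smul_apply, Pi.smul_apply, Matrix.submatrix_one _ Subtype.val_injective,
      Matrix.det_smul, Matrix.det_one, mul_one, hcl]
  obtain ⟨K, hK⟩ := IsPGroup.iff_card.mp hZp
  obtain ⟨u, v, huv⟩ : IsCoprime (n : ℤ) ((p ^ K : ℕ) : ℤ) :=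
    Int.isCoprime_iff_nat_coprime.mpr (by
      simpa using ((hp.out.coprime_iff_not_dvd.mpr hεn).symm.pow_right K))
  refine ⟨δ.toHomUnits ^ u, fun z => ?_⟩
  have h1 : δ.toHomUnits ⟨(z : G), hZD z.2⟩ = lam z ^ n := Units.ext (by
    rw [MonoidHom.coe_toHomUnits, hz z, Units.val_pow_eq_pow_val])
  show δ.toHomUnits ⟨(z : G), hZD z.2⟩ ^ u = lam z
  have h2 : lam z ^ (p ^ K) = 1 := by rw [← map_pow, ← hK, pow_card_eq_one', map_one]
  rw [h1, ← zpow_natCast, ← zpow_mul]
  conv_rhs => rw [← zpow_one (lam z), ← huv, zpow_add, mul_comm v, zpow_mul (lam z) (p ^ K : ℕ),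
    zpow_natCast, h2, one_zpow, mul_one, mul_comm u]

/-- Let p be a prime, G a finite group and B a p-block of G (relative to a maximal ideal M of the algebraic integers containing p) with defect group D. Let Z be a central p-subgroup of G contained in D and λ a linear character of Z (a homomorphism to the nonzero complex numbers). Say an irreducible character χ of G lies over λ when χ(z) = χ(1)λ(z) for all z ∈ Z. If some irreducible character in B lying over λ has height zero, then λ extends to a linear character of D. -/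
theorem result {G : Type*} [Group G] [Finite G] (p : ℕ) [Fact p.Prime] (M : Ideal Cfsg.AlgInt) (hM : Cfsg.IsPModular p M) (B : Set (Cfsg.IrrCharacter G)) (hB : Cfsg.IsPBlock M B) (D : Subgroup G) (hD : Cfsg.IsDefectGroup p M B D) (Z : Subgroup G) (hZc : Z ≤ Subgroup.center G) (hZp : IsPGroup p ↥Z) (hZD : Z ≤ D) (lam : ↥Z →* ℂˣ) (χ : Cfsg.IrrCharacter G) (hχ : χ ∈ B) (hover : (∀ z : ↥Z, (χ : G → ℂ) z = (χ : G → ℂ) 1 * (lam z : ℂ))) (h0 : Cfsg.blockHeight p B (χ : G → ℂ) = 0) : (∃ μ : ↥D →* ℂˣ, ∀ z : ↥Z, μ ⟨(z : G), hZD z.2⟩ = lam z) := by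
  haveI : M.IsPrime := hM.2.1.isPrime
  exact aux hM hB hD hZc hZp hZD lam hχ hover h0

end Cfsg.Agent.S5001
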