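import Cfsg.Statements.S5005
import Cfsg.Agent.Lib.Blocks.LocalOne
import Cfsg.Agent.Lib.Blocks.M22Degrees
import Cfsg.Agent.Lib.Golay.InvolutionLocal
-- import your own Cfsg.Agent.* helpers here

set_option autoImplicit false
open Cfsg

namespace Cfsg.Agent.S5005

/-- All irreducible complex characters of the Mathieu group `M₂₂` lie in a single 2-block: any two of them lie in the same block relative to every maximal ideal of the algebraic integers containing 2. -/
theorem result (M : Ideal Cfsg.AlgInt) (hM : Cfsg.IsPModular 2 M)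
    (χ ψ : Cfsg.IrrCharacter ↥Cfsg.Spor.M22) : Cfsg.SameBlock M (χ : ↥Cfsg.Spor.M22 → ℂ) (ψ : ↥Cfsg.Spor.M22 → ℂ) := by
  refine Agent.Blocks.sameBlock_of_involution_local hM (fun x hx => ?_) Agent.DegSq.m22_deg χ ψ
  have h2 : orderOf (x : Equiv.Perm GolayPt) = 2 := by rw [Subgroup.orderOf_coe, hx]
  have hxM : (x : Equiv.Perm GolayPt) ∈ M24 := x.2.1.1
  rcases Agent.Golay24.involution_fix hxM h2 with hf | hf
  · refine Agent.Golay24.local_eight (H := Spor.M22) (fun g hg => hg.1.1) x (Agent.Golay24.fix_mem_octads hxM h2 hf)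
      (fun z => by simp) (fun g hg => ?_)
    obtain ⟨hgM, hgf⟩ := Agent.Golay24.mem_octFix.1 hg
    exact ⟨⟨hgM, hgf none (Finset.mem_filter.2 ⟨Finset.mem_univ _, x.2.1.2⟩)⟩,
      hgf (some 0) (Finset.mem_filter.2 ⟨Finset.mem_univ _, x.2.2⟩)⟩
  · exact absurd x.2.1.2 ((Agent.Golay24.fixCount_eq_zero_iff _).1 hf none)

end Cfsg.Agent.S5005
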