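import Cfsg.Statements.S5006
import Cfsg.Agent.Lib.Blocks.LocalOne
import Cfsg.Agent.Lib.Blocks.M24Degrees
import Cfsg.Agent.Lib.Golay.InvolutionLocalNone
-- import your own Cfsg.Agent.* helpers here

set_option autoImplicit false
open Cfsg

namespace Cfsg.Agent.S5006

/-- All irreducible complex characters of the Mathieu group `M₂₄` lie in a single 2-block: any two of them lie in the same block relative to every maximal ideal of the algebraic integers containing 2. -/
theorem result (M : Ideal Cfsg.AlgInt) (hM : Cfsg.IsPModular 2 M)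
    (χ ψ : Cfsg.IrrCharacter ↥Cfsg.M24) : Cfsg.SameBlock M (χ : ↥Cfsg.M24 → ℂ) (ψ : ↥Cfsg.M24 → ℂ) := by
  refine Agent.Blocks.sameBlock_of_involution_local hM (fun x hx => ?_) Agent.DegSq.m24_deg χ ψ
  have h2 : orderOf (x : Equiv.Perm GolayPt) = 2 := by rw [Subgroup.orderOf_coe, hx]
  rcases Agent.Golay24.involution_fix x.2 h2 with hf | hf
  · exact Agent.Golay24.local_eight (H := M24) le_rfl x (Agent.Golay24.fix_mem_octads x.2 h2 hf)
      (fun z => by simp) (fun g hg => (Agent.Golay24.mem_octFix.1 hg).1)
  · exact Agent.Golay24.local_none x hx hf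

end Cfsg.Agent.S5006
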