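import Cfsg.Statements.S5011
import Cfsg.Agent.Lib.CT.Orthogonality

set_option autoImplicit false
open Cfsg

namespace Cfsg.Agent.S5011

/-- Let G be a finite non-abelian simple group and ρ an irreducible complex representation of G on a space of dimension greater than one (irreducible in the sense that the only subspaces invariant under every ρ(x) are 0 and the whole space). Then for every non-identity element g of G, the centralizer of g does not act irreducibly: there is a non-zero proper subspace invariant under ρ(c) for every c commuting with g. -/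
theorem result {G : Type*} [Group G] [Finite G] [IsSimpleGroup G]
    (hG : ¬ IsMulCommutative G) {V : Type*} [AddCommGroup V] [Module ℂ V] [FiniteDimensional ℂ V]
    (ρ : Representation ℂ G V)
    (hirr : ∀ W : Submodule ℂ V, (∀ x : G, ∀ v ∈ W, ρ x v ∈ W) → W = ⊥ ∨ W = ⊤)
    (hdim : 1 < Module.finrank ℂ V) (g : G) (hg : g ≠ 1) :
    ∃ W : Submodule ℂ V, W ≠ ⊥ ∧ W ≠ ⊤ ∧ ∀ c ∈ Subgroup.centralizer ({g} : Set G), ∀ v ∈ W, ρ c v ∈ W := by
  by_contra hne
  push Not at hne
  have hirrG : ∀ W : Submodule ℂ V,
      (∀ c ∈ Subgroup.centralizer ({g} : Set G), ∀ v ∈ W, ρ c v ∈ W) → W = ⊥ ∨ W = ⊤ := by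
    intro W hW
    by_cases h1 : W = ⊥
    · exact Or.inl h1
    · by_cases h2 : W = ⊤
      · exact Or.inr h2
      · obtain ⟨c, hc, v, hv, hcv⟩ := hne W h1 h2
        exact absurd (hW c hc v hv) hcv
  haveI : Nontrivial V := Module.nontrivial_of_finrank_pos (R := ℂ) (by omega)
  obtain ⟨μ, hμ⟩ := Module.End.exists_eigenvalue (K := ℂ) (V := V) (ρ g)
  have hinv : ∀ c ∈ Subgroup.centralizer ({g} : Set G), ∀ v ∈ Module.End.eigenspace (ρ g) μ,
      ρ c v ∈ Module.End.eigenspace (ρ g) μ := by
    intro c hc v hv
    rw [Module.End.mem_eigenspace_iff] at hv ⊢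
    rw [← Module.End.mul_apply, ← map_mul, ← Subgroup.mem_centralizer_singleton_iff.mp hc, map_mul,
      Module.End.mul_apply, hv, map_smul]
  have htop := (hirrG _ hinv).resolve_left hμ
  have hscal : ∀ v, ρ g v = μ • v := fun v =>
    Module.End.mem_eigenspace_iff.mp (htop ▸ Submodule.mem_top)
  -- the kernel of ρ is trivial
  have hker : ρ.ker = ⊥ := by
    rcases (inferInstance : (MonoidHom.ker ρ).Normal).eq_bot_or_eq_top with h | h
    · exact h
    · exfalso
      obtain ⟨v, hv⟩ := exists_ne (0 : V)
      rcases hirr (Submodule.span ℂ {v}) (fun x w hw => by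
        have hx : ρ x = 1 := MonoidHom.mem_ker.mp (h ▸ Subgroup.mem_top x)
        rw [hx]
        exact hw) with h1 | h1
      · exact hv (by simpa using h1)
      · have h2 := finrank_span_singleton (K := ℂ) hv
        rw [h1, finrank_top] at h2
        omega
  have hgZ : g ∈ Subgroup.center G := by
    rw [Subgroup.mem_center_iff]
    intro x
    have h : ρ ((x * g) * (g * x)⁻¹) = 1 := by
      have e : ρ (x * g) = ρ (g * x) := by
        refine LinearMap.ext fun v => ?_
        simp [map_mul, hscal]
      rw [map_mul, e, ← map_mul, mul_inv_cancel, map_one]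
    have := MonoidHom.mem_ker.mpr h
    rw [hker, Subgroup.mem_bot] at this
    exact mul_inv_eq_one.mp this
  rcases (inferInstance : (Subgroup.center G).Normal).eq_bot_or_eq_top with h | h
  · exact hg ((Subgroup.mem_bot).mp (h ▸ hgZ))
  · exact hG ⟨⟨fun a b => (Subgroup.mem_center_iff.mp (h ▸ Subgroup.mem_top b) a)⟩⟩

end Cfsg.Agent.S5011
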