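import Cfsg.Statements.S5015
-- import your own Cfsg.Agent.* helpers here
import Cfsg.Agent.Lib.Root.RankOne


set_option autoImplicit false
open Cfsg

namespace Cfsg.Agent.S5015

/-- Let a group Y act doubly transitively on a set Ω with at least three points, and suppose that the stabilizer of a point α contains a nilpotent subgroup A, normalized by that stabilizer, which acts regularly on the points other than α. Then for any y in Y moving α, the subgroups A and y A y⁻¹ are the unipotent subgroups of a rank one group, and the normal closure of A in Y (the subgroup generated by all conjugates of A) is generated by A and y A y⁻¹ alone. -/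
theorem result {Y Ω : Type*} [Group Y] [MulAction Y Ω]
    (h2 : MulAction.IsMultiplyPretransitive Y Ω 2) (hΩ : 3 ≤ ENat.card Ω) (α : Ω) (A : Subgroup Y)
    (hA : A ≤ MulAction.stabilizer Y α) (hAn : ∀ y ∈ MulAction.stabilizer Y α, Cfsg.conjBy A y = A)
    (hnil : Group.IsNilpotent A) (hreg : ∀ β γ : Ω, β ≠ α → γ ≠ α → ∃! a : Y, a ∈ A ∧ a • β = γ)
    (y : Y) (hy : y ∉ MulAction.stabilizer Y α) :
    Cfsg.IsRankOnePair A (Cfsg.conjBy A y) ∧ Subgroup.normalClosure (A : Set Y) = A ⊔ Cfsg.conjBy A y := by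
  have hne : y • α ≠ α := fun e => hy e
  set β := y • α with hβ
  have hnor : ∀ (g g' : Y), g • α = g' • α → Cfsg.conjBy A g = Cfsg.conjBy A g' := by
    intro g g' e
    have hs : g'⁻¹ * g ∈ MulAction.stabilizer Y α := by
      rw [MulAction.mem_stabilizer_iff, mul_smul, e, inv_smul_smul]
    have h1 := congrArg (fun t => Cfsg.conjBy t g') (hAn _ hs)
    simpa [RootLib.conjBy_conjBy] using h1
  have hfixA : ∀ a ∈ A, a • α = α := fun a ha => hA ha
  have hregB : ∀ γ δ : Ω, γ ≠ β → δ ≠ β → ∃! b : Y, b ∈ Cfsg.conjBy A y ∧ b • γ = δ := by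
    intro γ δ hγ hδ
    have h1 : ∀ ξ : Ω, ξ ≠ β → y⁻¹ • ξ ≠ α := fun ξ hξ e => hξ (by rw [hβ, ← e, smul_inv_smul])
    obtain ⟨a, ⟨ha, he⟩, hu⟩ := hreg _ _ (h1 γ hγ) (h1 δ hδ)
    refine ⟨y * a * y⁻¹, ⟨RootLib.conjBy_mem_conjBy ha, by rw [mul_smul, mul_smul, he, smul_inv_smul]⟩, ?_⟩
    rintro b ⟨hb, hbe⟩
    have := hu (y⁻¹ * b * y) ⟨RootLib.mem_conjBy.1 hb, by
      rw [mul_smul, mul_smul, smul_inv_smul, hbe]⟩
    rw [← this]; group
  have hnilB : Group.IsNilpotent (Cfsg.conjBy A y) := Group.nilpotent_of_mulEquiv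
    (Subgroup.equivMapOfInjective A (MulAut.conj y).toMonoidHom (MulAut.conj y).injective)
  obtain ⟨γ, hγα, hγβ⟩ : ∃ γ, γ ≠ α ∧ γ ≠ β := by
    by_contra hc
    push Not at hc
    have h1 : (Set.univ : Set Ω) ⊆ {α, β} := fun γ _ => by
      by_cases e : γ = α
      · simp [e]
      · simp [hc γ e]
    have h3 := Set.encard_le_encard h1
    rw [Set.encard_univ, Set.encard_pair hne.symm] at h3
    exact absurd (hΩ.trans h3) (by norm_num)
  refine ⟨⟨?_, hnil, hnilB, ?_, ?_⟩, ?_⟩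
  · intro e
    obtain ⟨a, ⟨ha, hae⟩, -⟩ := hreg β γ hne hγα
    have h1 : y⁻¹ * a * y ∈ A := RootLib.mem_conjBy.1 (e ▸ ha)
    have h2 := hfixA _ h1
    rw [mul_smul, mul_smul, inv_smul_eq_iff, ← hβ, hae] at h2
    exact hγβ h2
  · intro a ha ha1
    have h1 : a⁻¹ • β ≠ β := by
      intro e
      obtain ⟨a', -, hu⟩ := hreg β β hne hne
      exact ha1 (inv_eq_one.1 ((hu a⁻¹ ⟨inv_mem ha, e⟩).trans (hu 1 ⟨one_mem _, one_smul _ _⟩).symm))
    obtain ⟨b, ⟨hb, hbe⟩, -⟩ := hregB α (a⁻¹ • β) hne.symm h1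
    refine ⟨b⁻¹, inv_mem hb, fun e => ?_, ?_⟩
    · rw [inv_eq_one] at e
      rw [e, one_smul] at hbe
      exact hne (by rw [← smul_inv_smul a β, ← hbe, hfixA a ha])
    · rw [inv_inv, RootLib.conjBy_conjBy]
      exact hnor _ _ (by rw [hbe, mul_smul, hβ])
  · intro b hb hb1
    have hbβ : b • β = β := by
      have h1 := hfixA _ (RootLib.mem_conjBy.1 hb)
      rwa [mul_smul, mul_smul, inv_smul_eq_iff, ← hβ] at h1
    have hbβ' : b⁻¹ • β = β := by rw [inv_smul_eq_iff, hbβ]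
    have h1 : b⁻¹ • α ≠ α := by
      intro e
      obtain ⟨b', -, hu⟩ := hregB α α hne.symm hne.symm
      exact hb1 (inv_eq_one.1 ((hu b⁻¹ ⟨inv_mem hb, e⟩).trans (hu 1 ⟨one_mem _, one_smul _ _⟩).symm))
    obtain ⟨a, ⟨ha, hae⟩, -⟩ := hreg β (b⁻¹ • α) hne h1
    refine ⟨a⁻¹, inv_mem ha, fun e => ?_, ?_⟩
    · rw [inv_eq_one] at e
      rw [e, one_smul] at hae
      exact hne (by rw [← smul_inv_smul b α, ← hae, hbβ])
    · rw [inv_inv, RootLib.conjBy_conjBy]
      exact hnor _ _ (by rw [mul_smul, ← hβ, hae])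
  · apply le_antisymm
    · rw [Subgroup.normalClosure, Subgroup.closure_le]
      intro g hg
      obtain ⟨a, ha, hconj⟩ := Group.mem_conjugatesOfSet_iff.1 hg
      obtain ⟨c, rfl⟩ := isConj_iff.1 hconj
      have hmem : c * a * c⁻¹ ∈ Cfsg.conjBy A c := RootLib.conjBy_mem_conjBy ha
      by_cases hc : c • α = α
      · rw [hnor c 1 (by rw [hc, one_smul]), RootLib.conjBy_one] at hmem
        exact Subgroup.mem_sup_left hmem
      · obtain ⟨d, ⟨hd, hde⟩, -⟩ := hreg β (c • α) hne hc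
        rw [hnor c (d * y) (by rw [mul_smul, ← hβ, hde]), ← RootLib.conjBy_conjBy] at hmem
        have h3 := RootLib.mem_conjBy.1 hmem
        have : d * (d⁻¹ * (c * a * c⁻¹) * d) * d⁻¹ ∈ A ⊔ Cfsg.conjBy A y :=
          mul_mem (mul_mem (Subgroup.mem_sup_left hd) (Subgroup.mem_sup_right h3))
            (inv_mem (Subgroup.mem_sup_left hd))
        simpa [mul_assoc] using this
    · refine sup_le Subgroup.le_normalClosure ?_
      intro x hx
      have h3 : y⁻¹ * x * y ∈ Subgroup.normalClosure (A : Set Y) :=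
        Subgroup.subset_normalClosure (RootLib.mem_conjBy.1 hx)
      simpa [mul_assoc] using Subgroup.normalClosure_normal.conj_mem _ h3 y

end Cfsg.Agent.S5015
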