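import Cfsg.Statements.S5017
-- import your own Cfsg.Agent.* helpers here
import Cfsg.Agent.Lib.Root.RankOne


set_option autoImplicit false
open Cfsg
open scoped Pointwise

namespace Cfsg.Agent.S5017

/-- Let X be a rank one group with unipotent subgroups A and B and N a normal subgroup of X. Then either X = N A or N lies in the centre of X. Consequently a perfect rank one group is quasisimple. -/
theorem result {X : Type*} [Group X] {A B : Subgroup X} (h : Cfsg.IsRankOneGroup X A B) :
    (∀ N : Subgroup X, N.Normal → N ⊔ A = ⊤ ∨ N ≤ Subgroup.center X) ∧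
    (Group.IsPerfect X → Cfsg.IsQuasisimple X) := by
  obtain ⟨htop, hp⟩ := h
  have main : ∀ N : Subgroup X, N.Normal → N ⊔ A = ⊤ ∨ N ≤ Subgroup.center X := by
    intro N hN
    by_cases hfix : ∀ n ∈ N, ∀ C ∈ Cfsg.unipotentSubgroups A B, Cfsg.conjBy C n = C
    · refine Or.inr fun n hn => Subgroup.mem_center_iff.2 fun x => ?_
      exact (RootLib.commute_of_fix_all hp (hfix n hn) x (htop ▸ Subgroup.mem_top x)).symm
    · push Not at hfix
      obtain ⟨n, hn, C, hC, hne⟩ := hfix
      obtain ⟨x, -, e1, e2⟩ := RootLib.two_transitive hp hC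
        (RootLib.unipotent_conj hC (htop ▸ Subgroup.mem_top n)) RootLib.unipotent_mem_A
        (RootLib.unipotent_mem_B hp) hne.symm hp.ne
      have hB : B = Cfsg.conjBy A (x * n * x⁻¹) := by
        rw [← e1, ← e2]
        simp only [RootLib.conjBy_conjBy, inv_mul_cancel_right]
      refine Or.inl (top_le_iff.1 (htop ▸ sup_le le_sup_right fun b hb => ?_))
      rw [hB] at hb
      have hm : x * n * x⁻¹ ∈ N ⊔ A := Subgroup.mem_sup_left (hN.conj_mem n hn x)
      have hb' := RootLib.mem_conjBy.1 hb
      simpa [mul_assoc] using mul_mem (mul_mem hm (Subgroup.mem_sup_right hb')) (inv_mem hm)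
  refine ⟨main, fun hperf => ⟨hperf, ?_⟩⟩
  have hZ : Subgroup.center X ≠ ⊤ := by
    intro e
    refine RootLib.bracket_ne_bot hp (RootLib.bracket_eq_bot_iff.2 fun a _ b _ => ?_)
    exact (Subgroup.mem_center_iff.1 (e ▸ Subgroup.mem_top b) a)
  have : Nontrivial (X ⧸ Subgroup.center X) := QuotientGroup.nontrivial_iff.2 hZ
  refine IsSimpleGroup.mk fun M hM => ?_
  let f := QuotientGroup.mk' (Subgroup.center X)
  rcases main (M.comap f) (hM.comap f) with h1 | h1
  · refine Or.inr ?_
    have := hM.comap f
    have h2 : M.comap f = ⊤ := by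
      by_contra hne
      have := QuotientGroup.nontrivial_iff.2 hne
      let g : A →* X ⧸ M.comap f := (QuotientGroup.mk' _).comp A.subtype
      have hg : Function.Surjective g := by
        intro q
        obtain ⟨x, rfl⟩ := QuotientGroup.mk'_surjective _ q
        have hx' : x ∈ ((M.comap f : Subgroup X) : Set X) * (A : Set X) := by
          rw [← Subgroup.normal_mul, h1]
          exact Subgroup.mem_top x
        obtain ⟨n, hn, a, ha, rfl⟩ := Set.mem_mul.1 hx'
        refine ⟨⟨a, ha⟩, ?_⟩
        show QuotientGroup.mk' _ a = _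
        rw [map_mul, (show QuotientGroup.mk' (M.comap f) n = 1 from
          (QuotientGroup.eq_one_iff n).2 hn), one_mul]
      have := hp.nilpotent_left
      have : Group.IsNilpotent (X ⧸ M.comap f) := Group.nilpotent_of_surjective g hg
      have hlt := Group.IsSolvable.commutator_lt_top_of_nontrivial (G := X ⧸ M.comap f)
      have hc := congrArg (Subgroup.map (QuotientGroup.mk' (M.comap f))) hperf.commutator_eq_top
      rw [commutator_def, Subgroup.map_commutator,
        Subgroup.map_top_of_surjective _ (QuotientGroup.mk'_surjective _), ← commutator_def] at hc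
      exact hlt.ne hc
    rw [← Subgroup.map_comap_eq_self_of_surjective (QuotientGroup.mk'_surjective _) M, h2,
      Subgroup.map_top_of_surjective _ (QuotientGroup.mk'_surjective _)]
  · refine Or.inl ((Subgroup.eq_bot_iff_forall _).2 fun z hz => ?_)
    obtain ⟨w, rfl⟩ := QuotientGroup.mk'_surjective _ z
    exact (QuotientGroup.eq_one_iff w).2 (h1 hz)

end Cfsg.Agent.S5017
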