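import Cfsg.Statements.S5018
-- import your own Cfsg.Agent.* helpers here
import Cfsg.Agent.Lib.Root.RankOne
import Cfsg.Agent.S5017


set_option autoImplicit false
open Cfsg
open scoped Pointwise

namespace Cfsg.Agent.S5018

/-- A rank one group is not nilpotent, and its second centre equals its centre. -/
theorem result {X : Type*} [Group X] {A B : Subgroup X} (h : Cfsg.IsRankOneGroup X A B) :
    Subgroup.upperCentralSeries X 2 = Subgroup.center X ∧ ¬ Group.IsNilpotent X := by
  have main := (S5017.result h).1
  obtain ⟨htop, hp⟩ := h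
  have hnil : Subgroup.upperCentralSeries X 2 ≤ Subgroup.center X := by
    rcases main (Subgroup.upperCentralSeries X 2) inferInstance with h1 | h1
    · exfalso
      obtain ⟨x, -, hx⟩ := RootLib.exists_conjBy_eq hp
      have hx' : x ∈ ((Subgroup.upperCentralSeries X 2 : Subgroup X) : Set X) * (A : Set X) := by
        rw [← Subgroup.normal_mul, h1]
        exact Subgroup.mem_top x
      obtain ⟨z, hz, a, ha, rfl⟩ := Set.mem_mul.1 hx'
      rw [← RootLib.conjBy_conjBy, RootLib.conjBy_eq_self_of_mem ha] at hx
      have hz' : ∀ w : X, z * w * z⁻¹ * w⁻¹ ∈ Subgroup.center X := by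
        intro w
        have h2 := (Subgroup.mem_upperCentralSeries_succ_iff.1 hz) w
        rwa [Subgroup.upperCentralSeries_one] at h2
      have hBle : B ≤ Subgroup.normalizer (A : Set X) := by
        intro b hb
        rw [← RootLib.conjBy_eq_iff_mem_normalizer]
        rw [← hx] at hb
        have hb' := RootLib.mem_conjBy.1 hb
        set a' := z⁻¹ * b * z with ha'
        have e : b = (z * a' * z⁻¹ * a'⁻¹) * a' := by rw [ha']; group
        rw [e, ← RootLib.conjBy_conjBy, RootLib.conjBy_eq_self_of_mem hb']
        exact RootLib.conjBy_eq_of_commute fun c _ =>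
          (Subgroup.mem_center_iff.1 (hz' a') c).symm
      obtain ⟨⟨b, hb⟩, hb1⟩ := B.ne_bot_iff_exists_ne_one.1
        (RootLib.left_ne_bot (Cfsg.RankOnePair_symm hp))
      exact hb1 (Subtype.ext (RootLib.eq_one_of_normalizes (Cfsg.RankOnePair_symm hp) hb
        (RootLib.conjBy_eq_iff_mem_normalizer.2 (hBle hb))))
    · exact h1
  have heq : Subgroup.upperCentralSeries X 2 = Subgroup.center X := by
    refine le_antisymm hnil ?_
    rw [← Subgroup.upperCentralSeries_one]
    exact Subgroup.upperCentralSeries_mono X (by omega)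
  refine ⟨heq, fun hn => ?_⟩
  obtain ⟨n, hn'⟩ := hn.nilpotent'
  have hstab : ∀ k, 1 ≤ k → Subgroup.upperCentralSeries X k = Subgroup.center X := by
    intro k hk
    induction k, hk using Nat.le_induction with
    | base => exact Subgroup.upperCentralSeries_one X
    | succ k hk ih =>
      ext w
      rw [Subgroup.mem_upperCentralSeries_succ_iff, ih, ← heq,
        Subgroup.mem_upperCentralSeries_succ_iff, Subgroup.upperCentralSeries_one, heq]
  have htopZ : Subgroup.center X = ⊤ := by
    rcases Nat.eq_zero_or_pos n with rfl | hn0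
    · rw [Subgroup.upperCentralSeries_zero] at hn'
      exact top_le_iff.1 (hn' ▸ bot_le)
    · rw [← hstab n hn0, hn']
  refine RootLib.bracket_ne_bot hp (RootLib.bracket_eq_bot_iff.2 fun a _ b _ => ?_)
  exact Subgroup.mem_center_iff.1 (htopZ ▸ Subgroup.mem_top b) a

end Cfsg.Agent.S5018
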