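import Cfsg.Statements.S5020
-- import your own Cfsg.Agent.* helpers here
import Cfsg.Agent.Lib.Root.Small
import Cfsg.Agent.Lib.Components.Quasisimple


set_option autoImplicit false
open Cfsg

namespace Cfsg.Agent.S5020

/-- Let X be a special rank one group with abelian unipotent subgroups A and B, and H = N(A) ∩ N(B) its diagonal subgroup. Then either A has at most three elements and X is isomorphic to SL₂(2), SL₂(3) or PSL₂(3); or X = X' A with the commutator subgroup X' quasisimple and the commutator subgroup ⁅A, H⁆ having more than three elements. -/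
theorem result {X : Type*} [Group X] {A B : Subgroup X} (h : Cfsg.IsRankOneGroup X A B)
    (hs : Cfsg.IsSpecialRankOnePair A B) (hab : Cfsg.HasAbelianUnipotents A B) :
    (ENat.card A ≤ 3 ∧ (Nonempty (X ≃* Matrix.SpecialLinearGroup (Fin 2) (ZMod 2)) ∨
        Nonempty (X ≃* Matrix.SpecialLinearGroup (Fin 2) (ZMod 3)) ∨
        Nonempty (X ≃* Matrix.ProjectiveSpecialLinearGroup (Fin 2) (ZMod 3)))) ∨
    (commutator X ⊔ A = ⊤ ∧ Cfsg.IsQuasisimple (commutator X) ∧
      3 < ENat.card ↥(⁅A, Cfsg.rankOneDiagonal A B⁆ : Subgroup X)) := by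
  have hA := hab.1
  have hB := hab.2
  have hc := RootLib.specialPair_of hs
    (fun x hx y hy => congrArg Subtype.val (hA.is_comm.comm ⟨x, hx⟩ ⟨y, hy⟩))
    (fun x hx y hy => congrArg Subtype.val (hB.is_comm.comm ⟨x, hx⟩ ⟨y, hy⟩))
  by_cases h3 : ENat.card A ≤ 3
  · exact Or.inl ⟨h3, hc.small_cases h.1 h3⟩
  rw [not_le] at h3
  refine Or.inr ?_
  have htop : commutator X = ⊤ := by
    have h1 := hc.perfect h3
    rw [h.1] at h1
    rw [commutator_def]
    exact top_le_iff.1 h1
  have : Nontrivial X := by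
    obtain ⟨a, ha⟩ := A.ne_bot_iff_exists_ne_one.1 (RootLib.left_ne_bot hc.pair)
    exact ⟨(a : X), 1, fun e => ha (Subtype.ext e)⟩
  have hq : IsQuasisimple X := Components.isQuasisimple_of_normal_cases htop fun N hN =>
    (hc.normal_le_center_or_top h.1 h3 N).symm
  refine ⟨by rw [htop, top_sup_eq], ?_, ?_⟩
  · rw [htop]
    exact Components.qs_of_equiv hq Subgroup.topEquiv.symm
  · refine lt_of_lt_of_le h3 (ENat.card_le_card_of_injective
      (Subgroup.inclusion_injective (hc.le_commutator
        (RootLib.exists_avoid ((RootLib.card_unipotent_eq hc.pair).symm ▸ h3)))))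

end Cfsg.Agent.S5020
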