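import Cfsg.Statements.S5022
import Cfsg.Agent.Lib.Root.PSLTwo

set_option autoImplicit false
open Cfsg

namespace Cfsg.Agent.S5022

/-- Let X be a special rank one group with abelian unipotent subgroups A and B, where A is an elementary abelian p-group for the prime p. Then for every non-identity a in A and the non-identity b in B with b⁻¹ A b = a⁻¹ B a, the subgroup generated by a and b is isomorphic to SL₂(p) or to PSL₂(p). -/
theorem result {X : Type*} [Group X] {A B : Subgroup X} (h : Cfsg.IsRankOneGroup X A B)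
    (hs : Cfsg.IsSpecialRankOnePair A B) (hab : Cfsg.HasAbelianUnipotents A B)
    {p : ℕ} [Fact p.Prime] (hA : Cfsg.IsElementaryAbelian p A)
    {a b : X} (ha : a ∈ A) (ha1 : a ≠ 1) (hb : b ∈ B) (hb1 : b ≠ 1) (hab' : Cfsg.conjBy A b⁻¹ = Cfsg.conjBy B a⁻¹) :
    Nonempty (↥(Subgroup.closure ({a, b} : Set X)) ≃* Matrix.SpecialLinearGroup (Fin 2) (ZMod p)) ∨
    Nonempty (↥(Subgroup.closure ({a, b} : Set X)) ≃* Matrix.ProjectiveSpecialLinearGroup (Fin 2) (ZMod p)) := by
  obtain ⟨hA1, hAp⟩ := hA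
  have hc := RootLib.specialPair_of hs
    (fun x hx y hy => congrArg Subtype.val (hab.1.is_comm.comm ⟨x, hx⟩ ⟨y, hy⟩))
    (fun x hx y hy => congrArg Subtype.val (hab.2.is_comm.comm ⟨x, hx⟩ ⟨y, hy⟩))
  have hcl : Subgroup.closure ({a, b} : Set X) = Subgroup.closure ({a, b⁻¹} : Set X) := by
    refine le_antisymm ((Subgroup.closure_le _).2 ?_) ((Subgroup.closure_le _).2 ?_)
    · rintro x (rfl | rfl)
      · exact Subgroup.subset_closure (Set.mem_insert _ _)
      · have h1 : (x⁻¹)⁻¹ ∈ Subgroup.closure ({a, x⁻¹} : Set X) := inv_mem (Subgroup.subset_closure (Set.mem_insert_of_mem _ (Set.mem_singleton _)))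
        simpa using h1
    · rintro x (rfl | rfl)
      · exact Subgroup.subset_closure (Set.mem_insert _ _)
      · exact inv_mem (Subgroup.subset_closure (Set.mem_insert_of_mem _ (Set.mem_singleton _)))
  rw [hcl]
  exact hc.psl_two hAp ⟨ha, inv_mem hb, ha1, inv_ne_one.2 hb1, hab'⟩

end Cfsg.Agent.S5022
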