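import Cfsg.Statements.S5023
-- import your own Cfsg.Agent.* helpers here
import Cfsg.Agent.Lib.Root.Quadratic


set_option autoImplicit false
open Cfsg

namespace Cfsg.Agent.S5023

/-- Let X be a rank one group with unipotent subgroups A and B that acts faithfully on an abelian group V (written additively) with A acting quadratically: a' • (a • v − v) = a • v − v for all a, a' in A and v in V. Then A is either torsion-free or an elementary abelian p-group for some prime p. -/
theorem result {X : Type*} [Group X] {A B : Subgroup X} (h : Cfsg.IsRankOneGroup X A B)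
    {V : Type*} [AddCommGroup V] [DistribMulAction X V] (hf : ∀ x : X, (∀ v : V, x • v = v) → x = 1)
    (hq : ∀ a ∈ A, ∀ a' ∈ A, ∀ v : V, a' • (a • v - v) = a • v - v) :
    (∀ a ∈ A, a ≠ 1 → ¬ IsOfFinOrder a) ∨ ∃ p : ℕ, p.Prime ∧ Cfsg.IsElementaryAbelian p A := by
  rw [or_iff_not_imp_left]
  intro htor
  push Not at htor
  obtain ⟨a₁, ha₁, ha₁1, hfin⟩ := htor
  obtain ⟨hgen, hpair⟩ := h
  have hQ := RootLib.quad_of_smul hq
  have hfaith : ∀ x y : X, RootLib.dlt V x = RootLib.dlt V y → x = y := by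
    intro x y e
    refine inv_mul_eq_one.1 (hf _ fun v => ?_)
    have := DFunLike.congr_fun e v
    rw [RootLib.dlt_apply, RootLib.dlt_apply, sub_left_inj] at this
    rw [← smul_smul, ← this, smul_smul, inv_mul_cancel, one_smul]
  have hnsmul : ∀ a ∈ A, ∀ m : ℕ, RootLib.dlt V (a ^ m) = m • RootLib.dlt V a := by
    intro a ha m
    induction m with
    | zero => simp [RootLib.dlt_one]
    | succ m ih =>
      rw [pow_succ, RootLib.dlt_mul, hQ a ha _ (pow_mem ha m), ih, zero_add, succ_nsmul]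
  set p := (orderOf a₁).minFac with hp
  have hp1 : orderOf a₁ ≠ 1 := by simpa [orderOf_eq_one_iff] using ha₁1
  have hprime : p.Prime := Nat.minFac_prime hp1
  set a := a₁ ^ (orderOf a₁ / p) with hadef
  have ha : a ∈ A := pow_mem ha₁ _
  have hapow : a ^ p = 1 := by
    rw [hadef, ← pow_mul, Nat.div_mul_cancel (Nat.minFac_dvd _), pow_orderOf_eq_one]
  have ha1 : a ≠ 1 := by
    refine pow_ne_one_of_lt_orderOf ?_ (Nat.div_lt_self hfin.orderOf_pos hprime.one_lt)
    exact (Nat.div_pos (Nat.minFac_le hfin.orderOf_pos) hprime.pos).ne'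
  have hpa : p • RootLib.dlt V a = 0 := by rw [← hnsmul a ha, hapow, RootLib.dlt_one]
  obtain ⟨b, hb, hb1, he⟩ := hpair.cond_left a ha ha1
  obtain ⟨r1, r2⟩ := RootLib.quad_relations hpair hQ ha hb he
  have hspec := RootLib.special_of_quad hgen hpair hQ (RootLib.exists_not_quad hpair hf)
  refine ⟨p, hprime, ?_, ?_⟩
  · refine ⟨⟨fun x y => ?_⟩⟩
    refine Subtype.ext (hfaith _ _ ?_)
    show RootLib.dlt V ((x : X) * y) = RootLib.dlt V ((y : X) * x)
    rw [RootLib.dlt_mul, RootLib.dlt_mul, hQ _ y.2 _ x.2, hQ _ x.2 _ y.2, zero_add, zero_add, add_comm]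
  · intro x' hx'
    obtain ⟨x, rfl⟩ : ∃ x : A, (x : X) = x' := ⟨⟨x', hx'⟩, rfl⟩
    by_cases hx1 : (x : X) = 1
    · simp [hx1]
    obtain ⟨b', hb', hb'1, he'⟩ := hpair.cond_left x x.2 hx1
    obtain ⟨hA', hB', hw⟩ := RootLib.quad_defect hpair hQ x.2 hb' he' _ rfl
    rw [hspec.2 x x.2 hx1 b' hb' hb'1 he', inv_mul_cancel, RootLib.dlt_one] at hw
    have h1 : p • (RootLib.dlt V (x : X) * RootLib.dlt V b') = 0 := by
      rw [r1 _ x.2 _ hb', ← smul_mul_assoc, ← mul_smul_comm, hpa, mul_zero, zero_mul]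
    have h2 : p • (RootLib.dlt V b' * RootLib.dlt V (x : X)) = 0 := by
      rw [r2 _ x.2 _ hb', ← smul_mul_assoc, ← smul_mul_assoc, ← mul_smul_comm, hpa, mul_zero,
        zero_mul, zero_mul]
    have h3 : p • RootLib.dlt V (x : X) = -(p • RootLib.dlt V b') := by
      rw [sub_sub, eq_comm, sub_eq_zero] at hw
      rw [eq_neg_iff_add_eq_zero, ← nsmul_add, hw, nsmul_add, ← smul_mul_assoc, h1, ← smul_mul_assoc,
        h2, zero_mul, zero_mul, add_zero]
    obtain ⟨g, -, hg⟩ := RootLib.exists_conjBy_eq hpair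
    have hQB : RootLib.Quad V B := hg ▸ RootLib.quad_conj hQ g
    have hbp : ∀ m : ℕ, RootLib.dlt V (b' ^ m) = m • RootLib.dlt V b' := by
      intro m
      induction m with
      | zero => simp [RootLib.dlt_one]
      | succ m ih =>
        rw [pow_succ, RootLib.dlt_mul, hQB b' hb' _ (pow_mem hb' m), ih, zero_add, succ_nsmul]
    have h5 : (x : X) ^ p = (b' ^ p)⁻¹ := hfaith _ _ (by
      rw [hnsmul _ x.2, RootLib.dlt_inv_of_sq (hQB _ (pow_mem hb' p) _ (pow_mem hb' p)), hbp, h3])
    refine RootLib.eq_one_of_normalizes hpair (pow_mem x.2 p) ?_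
    rw [h5]
    exact RootLib.conjBy_eq_self_of_mem (inv_mem (pow_mem hb' p))

end Cfsg.Agent.S5023
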