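import Cfsg.Statements.S5026
-- import your own Cfsg.Agent.* helpers here
import Cfsg.Agent.Lib.Root.Sets


set_option autoImplicit false
open Cfsg

namespace Cfsg.Agent.S5026

/-- Let S be a degenerate set of abstract root subgroups of G (a set of abstract transvection groups) and let a, b be commuting non-identity elements of members of S with a b ≠ 1. Then the members of S centralizing a b are exactly those centralizing both a and b. -/
theorem result {G : Type*} [Group G] {S : Set (Subgroup G)} (hS : Cfsg.IsRootSubgroupSet S) (hdeg : Cfsg.IsDegenerateRootSet S)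
    {a b : G} (ha : a ∈ Cfsg.rootElements S) (hb : b ∈ Cfsg.rootElements S) (hab : a * b = b * a) (hab1 : a * b ≠ 1) :
    Cfsg.centralizingMembers S (Subgroup.zpowers (a * b)) =
      Cfsg.centralizingMembers S (Subgroup.zpowers a) ∩ Cfsg.centralizingMembers S (Subgroup.zpowers b) := by
  obtain ⟨ha1, A, hA, haA⟩ := ha
  obtain ⟨hb1, B, hB, hbB⟩ := hb
  have hc : ∀ (E : Subgroup G) (x : G), E ≤ Subgroup.centralizer (Subgroup.zpowers x : Set G) ↔
      ∀ e ∈ E, x * e = e * x := by
    intro E x
    rw [Subgroup.zpowers_eq_closure, Subgroup.centralizer_closure]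
    exact forall₂_congr fun e _ => by simp [Subgroup.mem_centralizer_iff]
  ext E
  simp only [centralizingMembers, Set.mem_setOf_eq, Set.mem_inter_iff, hc]
  constructor
  swap
  · rintro ⟨⟨hE, h1⟩, -, h2⟩
    exact ⟨hE, fun e he => (Commute.mul_left (h1 e he : Commute a e) (h2 e he : Commute b e)).eq⟩
  rintro ⟨hE, h⟩
  suffices h1 : ∀ e ∈ E, a * e = e * a by
    refine ⟨⟨hE, h1⟩, hE, fun e he => ?_⟩
    have h2 : Commute (a⁻¹ * (a * b)) e := Commute.mul_left (Commute.inv_left (h1 e he : Commute a e)) (h e he)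
    simpa using h2.eq
  rcases hS.pair E hE A hA with h1 | hEA | h1
  · exact fun e he => (RootLib.bracket_eq_bot_iff.1 h1 e he a haA).symm
  swap
  · exact absurd h1 (hdeg E hE A hA)
  rcases hS.pair E hE B hB with h1 | hEB | h1
  · intro e he
    have h2 : Commute ((a * b) * b⁻¹) e := Commute.mul_left (h e he)
      (Commute.inv_left (Commute.symm (RootLib.bracket_eq_bot_iff.1 h1 e he b hbB : Commute e b)))
    simpa using h2.eq
  swap
  · exact absurd h1 (hdeg E hE B hB)
  exfalso
  have hfix : conjBy E (a * b) = E := RootLib.conjBy_eq_of_commute h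
  obtain ⟨e, he, -, h1⟩ := hEA.cond_right a haA ha1
  obtain ⟨f, hf, -, h2⟩ := hEB.cond_right b⁻¹ (inv_mem hbB) (inv_ne_one.2 hb1)
  have h3 : conjBy E a⁻¹ = conjBy E b := by
    conv_lhs => rw [← hfix]
    rw [RootLib.conjBy_conjBy, inv_mul_cancel_left]
  rw [inv_inv, ← h3, ← h1] at h2
  have hBA : B = conjBy A (f * e⁻¹) := by
    rw [RootLib.eq_inv_conjBy h2, inv_inv, RootLib.conjBy_conjBy]
  have hBu : B ∈ unipotentSubgroups A E :=
    hBA ▸ RootLib.unipotent_conj RootLib.unipotent_mem_A
      (Subgroup.mem_sup_right (mul_mem hf (inv_mem he)))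
  by_cases hAB : A = B
  · subst hAB
    exact hab1 (RootLib.eq_one_of_normalizes (RankOnePair_symm hEA) (mul_mem haA hbB) hfix)
  · exact hb1 (RootLib.eq_one_of_commute_pair (RootLib.unipotent_rankOne (RankOnePair_symm hEA)
      RootLib.unipotent_mem_A hBu hAB) haA hbB hab ha1)

end Cfsg.Agent.S5026
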