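import Cfsg.Statements.S5027
-- import your own Cfsg.Agent.* helpers here
import Cfsg.Agent.Lib.Root.Sets


set_option autoImplicit false
open Cfsg

namespace Cfsg.Agent.S5027

/-- Let S be a set of abstract root subgroups of G such that every member of S has a rank one partner in S (the graph of rank one pairs on S has no isolated vertex). Then the second centre of G equals its centre. -/
theorem result {G : Type*} [Group G] {S : Set (Subgroup G)} (hS : Cfsg.IsRootSubgroupSet S)
    (hF : ∀ A ∈ S, ¬ Cfsg.IsIsolatedIn (Cfsg.FAdj S) S A) : Subgroup.upperCentralSeries G 2 = Subgroup.center G := by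
  refine le_antisymm (fun z hz => ?_) ?_
  swap
  · rw [← Subgroup.upperCentralSeries_one]
    exact Subgroup.upperCentralSeries_mono G one_le_two
  have hle : (⨆ A ∈ S, A) ≤ Subgroup.centralizer {z} := by
    refine iSup₂_le fun A hA a ha => Subgroup.mem_centralizer_singleton_iff.2 ?_
    by_cases ha1 : a = 1
    · simp [ha1]
    obtain ⟨F, hFS, hAF⟩ := RootLib.not_isolated_exists (hF A hA) hA
    have hw := (Subgroup.mem_upperCentralSeries_succ_iff.1 hz) a
    rw [Subgroup.upperCentralSeries_one, Subgroup.mem_center_iff] at hw
    have := RootLib.central_eq_one hS hA (hS.conj_mem A hA z) hFS hAF ha ha1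
      (w := z * a * z⁻¹ * a⁻¹) (fun g => by simpa [commutatorElement_def] using (hw g).symm)
      (by simpa [mul_assoc] using RootLib.conjBy_mem_conjBy (g := z) ha)
    exact (commutatorElement_eq_one_iff_mul_comm.1 this).symm
  rw [hS.generates] at hle
  exact Subgroup.mem_center_iff.2 fun g =>
    Subgroup.mem_centralizer_singleton_iff.1 (hle (Subgroup.mem_top g))

end Cfsg.Agent.S5027
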