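import Cfsg.Statements.S5028
-- import your own Cfsg.Agent.* helpers here
import Cfsg.Agent.Lib.Root.Sets


set_option autoImplicit false
open Cfsg

namespace Cfsg.Agent.S5028

/-- Let S be a set of abstract root subgroups of G and A a member of S having a rank one partner in S. Then A meets every other member of S trivially. -/
theorem result {G : Type*} [Group G] {S : Set (Subgroup G)} (hS : Cfsg.IsRootSubgroupSet S)
    {A : Subgroup G} (hA : ¬ Cfsg.IsIsolatedIn (Cfsg.FAdj S) S A) (hAS : A ∈ S) : ∀ B ∈ S, A ⊓ B = ⊥ ∨ A = B := by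
  intro B hB
  rw [or_iff_not_imp_left]
  intro hne
  obtain ⟨⟨a, ha⟩, ha1⟩ := (A ⊓ B).ne_bot_iff_exists_ne_one.1 hne
  obtain ⟨F, hF, hAF⟩ := RootLib.not_isolated_exists hA hAS
  exact (RootLib.eq_of_inter hS hAS hB hF hAF (Subgroup.mem_inf.1 ha).1 (Subgroup.mem_inf.1 ha).2
    (fun e => ha1 (Subtype.ext e))).symm

end Cfsg.Agent.S5028
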