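import Cfsg.Statements.S5030
import Cfsg.Agent.Lib.Root.Chain

set_option autoImplicit false
open Cfsg

namespace Cfsg.Agent.S5030

open RootLib in
/-- Let S be a set of abstract root subgroups of G and A, B, C ∈ S with ⁅A, B⁆ ∈ S and ⁅B, C⁆ ∈ S, where A and C are different and commute. For a non-identity b ∈ B put X = ⟨A, b⁻¹ C b⟩ and Y = ⟨b⁻¹ A b, C⟩ and R = ⟨A, B, C⟩. Then X and Y are either both abelian or both nilpotent of class exactly two; X and Y commute elementwise; XY is normal in R with R = (XY) B; and R is nilpotent. -/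
theorem result {G : Type*} [Group G] {S : Set (Subgroup G)} (hS : Cfsg.IsRootSubgroupSet S)
    {A B C : Subgroup G} (hA : A ∈ S) (hB : B ∈ S) (hC : C ∈ S) (hAB : ⁅A, B⁆ ∈ S) (hBC : ⁅B, C⁆ ∈ S)
    (hAC : C ∈ Cfsg.commutingPartners S A)
    {b : G} (hb : b ∈ B) (hb1 : b ≠ 1) :
    ((IsMulCommutative ↥(A ⊔ Cfsg.conjBy C b⁻¹) ∧ IsMulCommutative ↥(Cfsg.conjBy A b⁻¹ ⊔ C)) ∨
      ((¬ IsMulCommutative ↥(A ⊔ Cfsg.conjBy C b⁻¹) ∧
          ⁅⁅A ⊔ Cfsg.conjBy C b⁻¹, A ⊔ Cfsg.conjBy C b⁻¹⁆, A ⊔ Cfsg.conjBy C b⁻¹⁆ = ⊥) ∧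
        (¬ IsMulCommutative ↥(Cfsg.conjBy A b⁻¹ ⊔ C) ∧
          ⁅⁅Cfsg.conjBy A b⁻¹ ⊔ C, Cfsg.conjBy A b⁻¹ ⊔ C⁆, Cfsg.conjBy A b⁻¹ ⊔ C⁆ = ⊥))) ∧
    ⁅A ⊔ Cfsg.conjBy C b⁻¹, Cfsg.conjBy A b⁻¹ ⊔ C⁆ = ⊥ ∧
    (∀ r ∈ A ⊔ B ⊔ C, Cfsg.conjBy ((A ⊔ Cfsg.conjBy C b⁻¹) ⊔ (Cfsg.conjBy A b⁻¹ ⊔ C)) r =
      (A ⊔ Cfsg.conjBy C b⁻¹) ⊔ (Cfsg.conjBy A b⁻¹ ⊔ C)) ∧
    ((A ⊔ Cfsg.conjBy C b⁻¹) ⊔ (Cfsg.conjBy A b⁻¹ ⊔ C)) ⊔ B = A ⊔ B ⊔ C ∧
    Group.IsNilpotent ↥(A ⊔ B ⊔ C) := by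
  obtain ⟨hCS, hne, hAC0⟩ := hAC
  have cAC : ∀ a ∈ A, ∀ c ∈ C, a * c = c * a := bracket_eq_bot_iff.1 hAC0
  have hABc := commutatorCase_of_mem hS hA hB hAB
  have hBCc := commutatorCase_of_mem hS hB hC hBC
  obtain ⟨E, hE⟩ : ∃ E, E = ⁅A, B⁆ := ⟨_, rfl⟩
  obtain ⟨F, hF⟩ : ∃ F, F = ⁅B, C⁆ := ⟨_, rfl⟩
  rw [← hE] at hAB
  rw [← hF] at hBC
  have eA : ∀ e ∈ E, ∀ a ∈ A, e * a = a * e := fun e he a ha =>
    hABc.2.1 e (hE ▸ he) a (Subgroup.mem_sup_left ha)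
  have eB : ∀ e ∈ E, ∀ x ∈ B, e * x = x * e := fun e he x hx =>
    hABc.2.1 e (hE ▸ he) x (Subgroup.mem_sup_right hx)
  have fB : ∀ f ∈ F, ∀ x ∈ B, f * x = x * f := fun f hf x hx =>
    hBCc.2.1 f (hF ▸ hf) x (Subgroup.mem_sup_left hx)
  have fC : ∀ f ∈ F, ∀ c ∈ C, f * c = c * f := fun f hf c hc =>
    hBCc.2.1 f (hF ▸ hf) c (Subgroup.mem_sup_right hc)
  have aE : ∀ x ∈ B, ∀ a ∈ A, ∃ e ∈ E, x * a * x⁻¹ = e * a := fun x hx a ha =>
    ⟨x * a * x⁻¹ * a⁻¹, by rw [hE, Subgroup.commutator_comm]; exact commutator_mem hx ha, by group⟩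
  have cF : ∀ x ∈ B, ∀ c ∈ C, ∃ f ∈ F, x * c * x⁻¹ = f * c := fun x hx c hc =>
    ⟨x * c * x⁻¹ * c⁻¹, hF ▸ commutator_mem hx hc, by group⟩
  have hbi : b⁻¹ ∈ B := inv_mem hb
  have hbi1 : b⁻¹ ≠ 1 := inv_ne_one.2 hb1
  have eS : ∀ x ∈ B, x ≠ 1 → ∀ e ∈ E, ∃ a ∈ A, x * a * x⁻¹ = e * a := fun x hx hx1 e he => by
    obtain ⟨a, ha, h⟩ := commutator_surj hABc hx hx1 (inv_mem (hE ▸ he : e ∈ ⁅A, B⁆))
    refine ⟨a, ha, ?_⟩
    rw [← inv_inv e, ← h]; group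
  have fS : ∀ x ∈ B, x ≠ 1 → ∀ f ∈ F, ∃ c ∈ C, x * c * x⁻¹ = f * c := fun x hx hx1 f hf => by
    obtain ⟨c, hc, h⟩ := commutator_surj (commutatorCase_symm hBCc) hx hx1
      (show f⁻¹ ∈ ⁅C, B⁆ by rw [Subgroup.commutator_comm, ← hF]; exact inv_mem hf)
    refine ⟨c, hc, ?_⟩
    rw [← inv_inv f, ← h]; group
  obtain ⟨A', hA'⟩ : ∃ A', A' = conjBy A b⁻¹ := ⟨_, rfl⟩
  obtain ⟨C', hC'⟩ : ∃ C', C' = conjBy C b⁻¹ := ⟨_, rfl⟩
  rw [← hA', ← hC']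
  have hA'm : ∀ {y}, y ∈ A' ↔ ∃ a ∈ A, y = b⁻¹ * a * b⁻¹⁻¹ := fun {y} => by
    rw [hA']
    exact ⟨fun ⟨a, ha, e⟩ => ⟨a, ha, e.symm⟩, fun ⟨a, ha, e⟩ => e ▸ conjBy_mem_conjBy ha⟩
  have hC'm : ∀ {y}, y ∈ C' ↔ ∃ c ∈ C, y = b⁻¹ * c * b⁻¹⁻¹ := fun {y} => by
    rw [hC']
    exact ⟨fun ⟨a, ha, e⟩ => ⟨a, ha, e.symm⟩, fun ⟨a, ha, e⟩ => e ▸ conjBy_mem_conjBy ha⟩
  obtain ⟨X, hX⟩ : ∃ X, X = A ⊔ C' := ⟨_, rfl⟩
  obtain ⟨Y, hY⟩ : ∃ Y, Y = A' ⊔ C := ⟨_, rfl⟩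
  rw [← hX, ← hY]
  -- `X` and `Y` commute
  have hAA' : ∀ a ∈ A, ∀ y ∈ A', a * y = y * a := by
    intro a ha y hy
    obtain ⟨a', ha', rfl⟩ := hA'm.1 hy
    obtain ⟨e, he, h⟩ := aE _ hbi a' ha'
    rw [h]
    exact (show Commute a e from (eA e he a ha).symm).mul_right (root_comm hS hA ha ha' : Commute a a')
  have hCC' : ∀ c ∈ C, ∀ y ∈ C', c * y = y * c := by
    intro c hc y hy
    obtain ⟨c', hc', rfl⟩ := hC'm.1 hy
    obtain ⟨f, hf, h⟩ := cF _ hbi c' hc'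
    rw [h]
    exact (show Commute c f from (fC f hf c hc).symm).mul_right (root_comm hS hC hc hc' : Commute c c')
  have hA'C' : ∀ y ∈ A', ∀ z ∈ C', y * z = z * y := by
    intro y hy z hz
    obtain ⟨a, ha, rfl⟩ := hA'm.1 hy
    obtain ⟨c, hc, rfl⟩ := hC'm.1 hz
    have := congrArg (fun w => b⁻¹ * w * b⁻¹⁻¹) (cAC a ha c hc)
    simpa [mul_assoc] using this
  have nofix : ∀ {P Q : Subgroup G}, (∀ p ∈ P, ∀ q ∈ Q, p * q = q * p) → P ≤ Subgroup.normalizer (Q : Set G) :=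
    fun h p hp => conjBy_eq_iff_mem_normalizer.1 (conjBy_eq_of_commute fun q hq => h p hp q hq)
  have hXY : ⁅X, Y⁆ = ⊥ := by
    rw [hX, hY, eq_bot_iff]
    have hn : ∀ P : Subgroup G, P ≤ Subgroup.normalizer ((⊥ : Subgroup G) : Set G) := fun P =>
      nofix fun p _ q hq => by rw [Subgroup.mem_bot.1 hq, mul_one, one_mul]
    refine comm_sup_le (hn _) (hn _) ?_ ?_ <;> rw [Subgroup.commutator_comm] <;>
      refine comm_sup_le (hn _) (hn _) ?_ ?_ <;> rw [le_bot_iff, bracket_eq_bot_iff]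
    · exact fun y hy a ha => (hAA' a ha y hy).symm
    · exact fun c hc a ha => (cAC a ha c hc).symm
    · exact hA'C'
    · exact hCC'
  have cXY : ∀ x ∈ X, ∀ y ∈ Y, x * y = y * x := bracket_eq_bot_iff.1 hXY
  have leX : A ≤ X ∧ C' ≤ X := ⟨hX ▸ le_sup_left, hX ▸ le_sup_right⟩
  have leY : A' ≤ Y ∧ C ≤ Y := ⟨hY ▸ le_sup_left, hY ▸ le_sup_right⟩
  -- no rank one pair
  have noR : ¬ IsRankOnePair A C' ∧ ¬ IsRankOnePair A' C := by
    constructor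
    · intro h
      obtain ⟨a, ha, ha1⟩ := exists_ne_one_of_mem hS hA
      have h' : (b⁻¹ * a⁻¹ * b⁻¹⁻¹) * a ∈ E := by
        obtain ⟨e, he, h2⟩ := aE _ hbi a⁻¹ (inv_mem ha)
        rw [h2, inv_mul_cancel_right]; exact he
      have hmem : b⁻¹ * a⁻¹ * b⁻¹⁻¹ ∈ Y := leY.1 (hA'm.2 ⟨_, inv_mem ha, rfl⟩)
      exact ha1 (inv_eq_one.1 (conj_eq_one_iff.1 (eq_of_product_mem hS hAB hA (hC' ▸ hS.conj_mem C hC b⁻¹) h ha ha1
        (fun x hx => (cXY x (leX.1 hx) _ hmem).symm) (fun x hx => (cXY x (leX.2 hx) _ hmem).symm) h').2))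
    · intro h
      obtain ⟨c, hc, hc1⟩ := exists_ne_one_of_mem hS hC
      have h' : (b⁻¹ * c⁻¹ * b⁻¹⁻¹) * c ∈ F := by
        obtain ⟨f, hf, h2⟩ := cF _ hbi c⁻¹ (inv_mem hc)
        rw [h2, inv_mul_cancel_right]; exact hf
      have hmem : b⁻¹ * c⁻¹ * b⁻¹⁻¹ ∈ X := leX.2 (hC'm.2 ⟨_, inv_mem hc, rfl⟩)
      exact hc1 (inv_eq_one.1 (conj_eq_one_iff.1 (eq_of_product_mem hS hBC hC (hA' ▸ hS.conj_mem A hA b⁻¹)
        (RankOnePair_symm h) hc hc1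
        (fun x hx => cXY _ hmem x (leY.2 hx)) (fun x hx => cXY _ hmem x (leY.1 hx)) h').2))
  -- centres
  obtain ⟨M, hM⟩ : ∃ M, M = X ⊔ Y := ⟨_, rfl⟩
  rw [← hM]
  obtain ⟨Z, hZ⟩ : ∃ Z, Z = Subgroup.centralizer (M : Set G) := ⟨_, rfl⟩
  have hXM : X ≤ M := hM ▸ le_sup_left
  have hYM : Y ≤ M := hM ▸ le_sup_right
  have hMZ : M ≤ Subgroup.normalizer (Z : Set G) := nofix fun p hp q hq => Subgroup.mem_centralizer_iff.1 (hZ ▸ hq) p hp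
  have hcZ : ∀ {P Q : Subgroup G}, P ≤ X → Q ≤ X → P ⊔ Q = X →
      (∀ k ∈ ⁅P, Q⁆, ∀ z ∈ (P ⊔ Q : Subgroup G), k * z = z * k) → ⁅P, Q⁆ ≤ Z := by
    intro P Q hP hQ he h k hk
    rw [hZ, Subgroup.mem_centralizer_iff]
    intro m hm
    have hkX : k ∈ X := he ▸ (Subgroup.commutator_le.2 fun p hp q hq => mul_mem (mul_mem (mul_mem
      (Subgroup.mem_sup_left hp) (Subgroup.mem_sup_right hq)) (inv_mem (Subgroup.mem_sup_left hp)))
      (inv_mem (Subgroup.mem_sup_right hq))) hk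
    have hle : M ≤ Subgroup.centralizer {k} := by
      rw [hM]
      refine sup_le (fun x hx => ?_) (fun y hy => ?_) <;> rw [Subgroup.mem_centralizer_singleton_iff]
      · exact (h k hk x (he ▸ hx)).symm
      · exact (cXY k hkX y hy).symm
    exact Subgroup.mem_centralizer_singleton_iff.1 (hle hm)
  have hcZ' : ∀ {P Q : Subgroup G}, P ⊔ Q = Y →
      (∀ k ∈ ⁅P, Q⁆, ∀ z ∈ (P ⊔ Q : Subgroup G), k * z = z * k) → ⁅P, Q⁆ ≤ Z := by
    intro P Q he h k hk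
    rw [hZ, Subgroup.mem_centralizer_iff]
    intro m hm
    have hkY : k ∈ Y := he ▸ (Subgroup.commutator_le.2 fun p hp q hq => mul_mem (mul_mem (mul_mem
      (Subgroup.mem_sup_left hp) (Subgroup.mem_sup_right hq)) (inv_mem (Subgroup.mem_sup_left hp)))
      (inv_mem (Subgroup.mem_sup_right hq))) hk
    have hle : M ≤ Subgroup.centralizer {k} := by
      rw [hM]
      refine sup_le (fun x hx => ?_) (fun y hy => ?_) <;> rw [Subgroup.mem_centralizer_singleton_iff]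
      · exact cXY x hx k hkY
      · exact (h k hk y (he ▸ hy)).symm
    exact Subgroup.mem_centralizer_singleton_iff.1 (hle hm)
  have pairX : (∀ a ∈ A, ∀ y ∈ C', a * y = y * a) ∨ RootCommutatorCase S A C' := by
    rcases hS.pair A hA C' (hC' ▸ hS.conj_mem C hC b⁻¹) with h | h | h
    exacts [Or.inl (bracket_eq_bot_iff.1 h), absurd h noR.1, Or.inr h]
  have pairY : (∀ y ∈ A', ∀ c ∈ C, y * c = c * y) ∨ RootCommutatorCase S A' C := by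
    rcases hS.pair A' (hA' ▸ hS.conj_mem A hA b⁻¹) C hC with h | h | h
    exacts [Or.inl (bracket_eq_bot_iff.1 h), absurd h noR.2, Or.inr h]
  have zX : ⁅A, C'⁆ ≤ Z := by
    rcases pairX with h | h
    · rw [bracket_eq_bot_iff.2 h]; exact bot_le
    · exact hcZ leX.1 leX.2 hX.symm h.2.1
  have zY : ⁅A', C⁆ ≤ Z := by
    rcases pairY with h | h
    · rw [bracket_eq_bot_iff.2 h]; exact bot_le
    · exact hcZ' hY.symm h.2.1
  have hMM : ⁅M, M⁆ ≤ Z := by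
    have hb0 : ∀ {P Q : Subgroup G}, (∀ p ∈ P, ∀ q ∈ Q, p * q = q * p) → ⁅P, Q⁆ ≤ Z := fun h => by
      rw [bracket_eq_bot_iff.2 h]; exact bot_le
    have hAM : A ≤ M := leX.1.trans hXM
    have hC'M : C' ≤ M := leX.2.trans hXM
    have hA'M : A' ≤ M := leY.1.trans hYM
    have hCM : C ≤ M := leY.2.trans hYM
    have hall : ∀ P : Subgroup G, P ≤ M → ⁅A, P⁆ ≤ Z → ⁅C', P⁆ ≤ Z → ⁅A', P⁆ ≤ Z → ⁅C, P⁆ ≤ Z → ⁅M, P⁆ ≤ Z := by
      intro P _ h1 h2 h3 h4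
      rw [hM]
      refine comm_sup_le (hXM.trans hMZ) (hYM.trans hMZ) ?_ ?_
      · rw [hX]; exact comm_sup_le (hAM.trans hMZ) (hC'M.trans hMZ) h1 h2
      · rw [hY]; exact comm_sup_le (hA'M.trans hMZ) (hCM.trans hMZ) h3 h4
    refine hall M le_rfl ?_ ?_ ?_ ?_ <;> rw [Subgroup.commutator_comm]
    · exact hall A hAM (hb0 fun p hp q hq => root_comm hS hA hp hq) (Subgroup.commutator_comm A C' ▸ zX)
        (hb0 fun p hp q hq => (hAA' q hq p hp).symm) (hb0 fun p hp q hq => (cAC q hq p hp).symm)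
    · exact hall C' hC'M zX (hb0 fun p hp q hq => root_comm hS (hC' ▸ hS.conj_mem C hC b⁻¹) hp hq)
        (hb0 hA'C') (hb0 hCC')
    · exact hall A' hA'M (hb0 hAA') (hb0 fun p hp q hq => (hA'C' q hq p hp).symm)
        (hb0 fun p hp q hq => root_comm hS (hA' ▸ hS.conj_mem A hA b⁻¹) hp hq)
        (Subgroup.commutator_comm A' C ▸ zY)
    · exact hall C hCM (hb0 cAC) (hb0 fun p hp q hq => (hCC' q hq p hp).symm) zY
        (hb0 fun p hp q hq => root_comm hS hC hp hq)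
  have hMZ3 : ⁅Z, M⁆ = ⊥ := bracket_eq_bot_iff.2 fun z hz m hm => (Subgroup.mem_centralizer_iff.1 (hZ ▸ hz) m hm).symm
  have class2 : ∀ P : Subgroup G, P ≤ M → ⁅⁅P, P⁆, P⁆ = ⊥ := fun P hP => by
    rw [eq_bot_iff, ← hMZ3]
    exact Subgroup.commutator_mono ((Subgroup.commutator_mono hP hP).trans hMM) hP
  -- abelian or not
  have hcommX : IsMulCommutative ↥X ↔ (∀ a ∈ A, ∀ f ∈ F, a * f = f * a) := by
    constructor
    · intro h a ha f hf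
      obtain ⟨c, hc, hfc⟩ := fS _ hbi hbi1 f hf
      have hy : f * c ∈ X := leX.2 (hC'm.2 ⟨c, hc, hfc.symm⟩)
      have h1 : Commute a (f * c) := congrArg Subtype.val (h.is_comm.comm ⟨a, leX.1 ha⟩ ⟨_, hy⟩)
      have h2 := h1.mul_right ((show Commute a c from cAC a ha c hc).inv_right)
      rwa [mul_inv_cancel_right] at h2
    · intro h
      have h1 : ∀ a ∈ A, ∀ y ∈ C', a * y = y * a := by
        intro a ha y hy
        obtain ⟨c, hc, rfl⟩ := hC'm.1 hy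
        obtain ⟨f, hf, e⟩ := cF _ hbi c hc
        rw [e]
        exact (show Commute a f from h a ha f hf).mul_right (show Commute a c from cAC a ha c hc)
      have hle : X ≤ Subgroup.centralizer (X : Set G) := by
        rw [hX, ← Subgroup.commutator_eq_bot_iff_le_centralizer]
        have hn : ∀ P : Subgroup G, P ≤ Subgroup.normalizer ((⊥ : Subgroup G) : Set G) := fun P =>
          nofix fun p _ q hq => by rw [Subgroup.mem_bot.1 hq, mul_one, one_mul]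
        rw [eq_bot_iff]
        refine comm_sup_le (hn _) (hn _) ?_ ?_ <;> rw [Subgroup.commutator_comm] <;>
          refine comm_sup_le (hn _) (hn _) ?_ ?_ <;> rw [le_bot_iff, bracket_eq_bot_iff]
        · exact fun p hp q hq => root_comm hS hA hp hq
        · exact fun p hp q hq => (h1 q hq p hp).symm
        · exact h1
        · exact fun p hp q hq => root_comm hS (hC' ▸ hS.conj_mem C hC b⁻¹) hp hq
      exact ⟨⟨fun x y => Subtype.ext (Subgroup.mem_centralizer_iff.1 (hle y.2) x x.2)⟩⟩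
  have hcommY : IsMulCommutative ↥Y ↔ (∀ a ∈ A, ∀ f ∈ F, a * f = f * a) := by
    constructor
    · intro h a ha f hf
      obtain ⟨c, hc, hfc⟩ := fS b hb hb1 f hf
      have h1 : Commute (b⁻¹ * a * b⁻¹⁻¹) c := congrArg Subtype.val
        (h.is_comm.comm ⟨_, leY.1 (hA'm.2 ⟨a, ha, rfl⟩)⟩ ⟨c, leY.2 hc⟩)
      have h2 : Commute a (b * c * b⁻¹) := by
        show a * (b * c * b⁻¹) = b * c * b⁻¹ * a
        calc a * (b * c * b⁻¹) = b * ((b⁻¹ * a * b⁻¹⁻¹) * c) * b⁻¹ := by group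
          _ = b * (c * (b⁻¹ * a * b⁻¹⁻¹)) * b⁻¹ := by rw [h1.eq]
          _ = b * c * b⁻¹ * a := by group
      rw [hfc] at h2
      have h3 := h2.mul_right ((show Commute a c from cAC a ha c hc).inv_right)
      rwa [mul_inv_cancel_right] at h3
    · intro h
      have h1 : ∀ y ∈ A', ∀ c ∈ C, y * c = c * y := by
        intro y hy c hc
        obtain ⟨a, ha, rfl⟩ := hA'm.1 hy
        obtain ⟨f, hf, e⟩ := cF b hb c hc
        have h2 : Commute a (f * c) := (show Commute a f from h a ha f hf).mul_right (show Commute a c from cAC a ha c hc)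
        rw [← e] at h2
        calc b⁻¹ * a * b⁻¹⁻¹ * c = b⁻¹ * (a * (b * c * b⁻¹)) * b := by group
          _ = b⁻¹ * (b * c * b⁻¹ * a) * b := by rw [h2.eq]
          _ = _ := by group
      have hle : Y ≤ Subgroup.centralizer (Y : Set G) := by
        rw [hY, ← Subgroup.commutator_eq_bot_iff_le_centralizer]
        have hn : ∀ P : Subgroup G, P ≤ Subgroup.normalizer ((⊥ : Subgroup G) : Set G) := fun P =>
          nofix fun p _ q hq => by rw [Subgroup.mem_bot.1 hq, mul_one, one_mul]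
        rw [eq_bot_iff]
        refine comm_sup_le (hn _) (hn _) ?_ ?_ <;> rw [Subgroup.commutator_comm] <;>
          refine comm_sup_le (hn _) (hn _) ?_ ?_ <;> rw [le_bot_iff, bracket_eq_bot_iff]
        · exact fun p hp q hq => root_comm hS (hA' ▸ hS.conj_mem A hA b⁻¹) hp hq
        · exact fun p hp q hq => (h1 q hq p hp).symm
        · exact h1
        · exact fun p hp q hq => root_comm hS hC hp hq
      exact ⟨⟨fun x y => Subtype.ext (Subgroup.mem_centralizer_iff.1 (hle y.2) x x.2)⟩⟩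
  -- `M` contains `E` and `F`, and is normal
  have hEM : E ≤ M := fun e he => by
    obtain ⟨a, ha, h⟩ := eS _ hbi hbi1 e he
    have := mul_mem (hYM (leY.1 (hA'm.2 ⟨a, ha, h.symm⟩))) (inv_mem (hXM (leX.1 ha)))
    rwa [mul_inv_cancel_right] at this
  have hFM : F ≤ M := fun f hf => by
    obtain ⟨c, hc, h⟩ := fS _ hbi hbi1 f hf
    have := mul_mem (hXM (leX.2 (hC'm.2 ⟨c, hc, h.symm⟩))) (inv_mem (hYM (leY.2 hc)))
    rwa [mul_inv_cancel_right] at this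
  obtain ⟨R, hR⟩ : ∃ R, R = A ⊔ B ⊔ C := ⟨_, rfl⟩
  rw [← hR]
  have hAR : A ≤ R := hR ▸ (le_sup_left.trans le_sup_left)
  have hBR : B ≤ R := hR ▸ (le_sup_right.trans le_sup_left)
  have hCR : C ≤ R := hR ▸ le_sup_right
  have hMR : M ≤ R := by
    have hA'R : A' ≤ R := fun y hy => by
      obtain ⟨a, ha, rfl⟩ := hA'm.1 hy
      exact mul_mem (mul_mem (hBR hbi) (hAR ha)) (inv_mem (hBR hbi))
    have hC'R : C' ≤ R := fun y hy => by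
      obtain ⟨a, ha, rfl⟩ := hC'm.1 hy
      exact mul_mem (mul_mem (hBR hbi) (hCR ha)) (inv_mem (hBR hbi))
    rw [hM, hX, hY]; exact sup_le (sup_le hAR hC'R) (sup_le hA'R hCR)
  have hRM : R ≤ Subgroup.normalizer (M : Set G) := by
    rw [hR]
    refine sup_le (sup_le ((leX.1.trans hXM).trans Subgroup.le_normalizer) (le_normalizer_of_comm ?_))
      ((leY.2.trans hYM).trans Subgroup.le_normalizer)
    have hn : ∀ P : Subgroup G, P ≤ M → P ≤ Subgroup.normalizer (M : Set G) := fun P h => h.trans Subgroup.le_normalizer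
    have hconjY : ∀ (P : Subgroup G), (∀ x ∈ B, ∀ p ∈ P, x * p * x⁻¹ ∈ M) → P ≤ M → ⁅P, B⁆ ≤ M := by
      intro P h hP
      rw [Subgroup.commutator_le]
      intro p hp x hx
      show p * x * p⁻¹ * x⁻¹ ∈ M
      rw [show p * x * p⁻¹ * x⁻¹ = p * (x * p⁻¹ * x⁻¹) by group]
      exact mul_mem (hP hp) (h x hx _ (inv_mem hp))
    have gA : ∀ x ∈ B, ∀ a ∈ A, x * a * x⁻¹ ∈ M := fun x hx a ha => by
      obtain ⟨e, he, h⟩ := aE x hx a ha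
      rw [h]; exact mul_mem (hEM he) (hXM (leX.1 ha))
    have gC : ∀ x ∈ B, ∀ c ∈ C, x * c * x⁻¹ ∈ M := fun x hx c hc => by
      obtain ⟨f, hf, h⟩ := cF x hx c hc
      rw [h]; exact mul_mem (hFM hf) (hYM (leY.2 hc))
    have gA' : ∀ x ∈ B, ∀ y ∈ A', x * y * x⁻¹ ∈ M := fun x hx y hy => by
      obtain ⟨a, ha, rfl⟩ := hA'm.1 hy
      rw [show x * (b⁻¹ * a * b⁻¹⁻¹) * x⁻¹ = (x * b⁻¹) * a * (x * b⁻¹)⁻¹ by group]
      exact gA _ (mul_mem hx hbi) a ha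
    have gC' : ∀ x ∈ B, ∀ y ∈ C', x * y * x⁻¹ ∈ M := fun x hx y hy => by
      obtain ⟨a, ha, rfl⟩ := hC'm.1 hy
      rw [show x * (b⁻¹ * a * b⁻¹⁻¹) * x⁻¹ = (x * b⁻¹) * a * (x * b⁻¹)⁻¹ by group]
      exact gC _ (mul_mem hx hbi) a ha
    have h1 : ⁅X, B⁆ ≤ M := by
      rw [hX]; exact comm_sup_le (hn _ (leX.1.trans hXM)) (hn _ (leX.2.trans hXM))
        (hconjY A gA (leX.1.trans hXM)) (hconjY C' gC' (leX.2.trans hXM))
    have h2 : ⁅Y, B⁆ ≤ M := by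
      rw [hY]; exact comm_sup_le (hn _ (leY.1.trans hYM)) (hn _ (leY.2.trans hYM))
        (hconjY A' gA' (leY.1.trans hYM)) (hconjY C gC (leY.2.trans hYM))
    have h3 : ⁅M, B⁆ = ⁅X ⊔ Y, B⁆ := by rw [hM]
    rw [h3]; exact comm_sup_le (hn _ hXM) (hn _ hYM) h1 h2
  refine ⟨?_, hXY, fun r hr => conjBy_eq_iff_mem_normalizer.2 (hRM hr), ?_, ?_⟩
  · by_cases h : ∀ a ∈ A, ∀ f ∈ F, a * f = f * a
    · exact Or.inl ⟨hcommX.2 h, hcommY.2 h⟩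
    · exact Or.inr ⟨⟨fun h' => h (hcommX.1 h'), class2 X hXM⟩, fun h' => h (hcommY.1 h'), class2 Y hYM⟩
  · refine le_antisymm (sup_le hMR hBR) ?_
    rw [hR]
    exact sup_le (sup_le ((leX.1.trans hXM).trans le_sup_left) le_sup_right) ((leY.2.trans hYM).trans le_sup_left)
  -- nilpotency
  have hn : ∀ {L : Subgroup G}, ⁅L, R⁆ ≤ L → R ≤ Subgroup.normalizer (L : Set G) := le_normalizer_of_comm
  have hER : E ≤ R := hEM.trans hMR
  have hFR : F ≤ R := hFM.trans hMR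
  have cenA : ∀ z ∈ Z, ∀ a ∈ A, z * a = a * z := fun z hz a ha =>
    (Subgroup.mem_centralizer_iff.1 (hZ ▸ hz) a (hXM (leX.1 ha))).symm
  have cenC : ∀ z ∈ Z, ∀ c ∈ C, z * c = c * z := fun z hz c hc =>
    (Subgroup.mem_centralizer_iff.1 (hZ ▸ hz) c (hYM (leY.2 hc))).symm
  have split : ∀ (L' P : Subgroup G), R ≤ Subgroup.normalizer (L' : Set G) →
      ⁅A, P⁆ ≤ L' → ⁅B, P⁆ ≤ L' → ⁅C, P⁆ ≤ L' → ⁅P, R⁆ ≤ L' := fun L' P h h1 h2 h3 => by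
    rw [Subgroup.commutator_comm, hR]
    exact comm_sup_le (sup_le (hAR.trans h) (hBR.trans h)) (hCR.trans h)
      (comm_sup_le (hAR.trans h) (hBR.trans h) h1 h2) h3
  obtain ⟨J, hJ⟩ : ∃ J, J = ⁅E, F⁆ := ⟨_, rfl⟩
  obtain ⟨L₂, hL₂⟩ : ∃ L, L = ⁅A, F⁆ ⊔ ⁅C, E⁆ ⊔ J := ⟨_, rfl⟩
  obtain ⟨L₁, hL₁⟩ : ∃ L, L = E ⊔ F ⊔ L₂ := ⟨_, rfl⟩
  have hJZ : J ≤ Z := hJ ▸ (Subgroup.commutator_mono hEM hFM).trans hMM
  have hPZ : ⁅A, F⁆ ≤ Z := (Subgroup.commutator_mono (leX.1.trans hXM) hFM).trans hMM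
  have hQZ : ⁅C, E⁆ ≤ Z := (Subgroup.commutator_mono (leY.2.trans hYM) hEM).trans hMM
  have hBJ : ∀ x ∈ B, ∀ k ∈ J, x * k = k * x := by
    intro x hx k hk
    have hle : J ≤ Subgroup.centralizer {x} := by
      rw [hJ, Subgroup.commutator_le]
      intro e he f hf
      rw [Subgroup.mem_centralizer_singleton_iff]
      have h1 : Commute e x := eB e he x hx
      have h2 : Commute f x := fB f hf x hx
      exact (((h1.mul_left h2).mul_left h1.inv_left).mul_left h2.inv_left).eq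
    exact (Subgroup.mem_centralizer_singleton_iff.1 (hle hk)).symm
  have hJR : ⁅J, R⁆ = ⊥ := eq_bot_iff.2 (split ⊥ J
    (nofix fun p _ q hq => by rw [Subgroup.mem_bot.1 hq, mul_one, one_mul])
    (le_bot_iff.2 (bracket_eq_bot_iff.2 fun a ha k hk => (cenA k (hJZ hk) a ha).symm))
    (le_bot_iff.2 (bracket_eq_bot_iff.2 hBJ))
    (le_bot_iff.2 (bracket_eq_bot_iff.2 fun c hc k hk => (cenC k (hJZ hk) c hc).symm)))
  have nJ : R ≤ Subgroup.normalizer (J : Set G) := hn (hJR.le.trans bot_le)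
  have hb0 : ∀ {P Q L : Subgroup G}, (∀ p ∈ P, ∀ q ∈ Q, p * q = q * p) → ⁅P, Q⁆ ≤ L := fun h => by
    rw [bracket_eq_bot_iff.2 h]; exact bot_le
  have hPR : ⁅A, F⁆ ≤ R := Subgroup.commutator_le.2 fun p hp q hq => mul_mem (mul_mem (mul_mem
      (hAR hp) (hFR hq)) (inv_mem (hAR hp))) (inv_mem (hFR hq))
  have hQR : ⁅C, E⁆ ≤ R := Subgroup.commutator_le.2 fun p hp q hq => mul_mem (mul_mem (mul_mem
      (hCR hp) (hER hq)) (inv_mem (hCR hp))) (inv_mem (hER hq))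
  have hJR' : J ≤ R := hJ ▸ Subgroup.commutator_le.2 fun p hp q hq => mul_mem (mul_mem (mul_mem
      (hER hp) (hFR hq)) (inv_mem (hER hp))) (inv_mem (hFR hq))
  have key : ∀ (P Q U : Subgroup G), U ≤ M → ⁅P, Q⁆ ≤ Z → (∀ x ∈ B, ∀ q ∈ Q, x * q = q * x) →
      (∀ x ∈ B, ∀ p ∈ P, ∃ u ∈ U, x * p * x⁻¹ = u * p) → ⁅U, Q⁆ ≤ J → ⁅B, ⁅P, Q⁆⁆ ≤ J := by
    intro P Q U hUM hPQ hQ hP hU
    rw [Subgroup.commutator_comm]
    let T : Subgroup G :=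
      { carrier := {k | k ∈ Subgroup.normalizer (J : Set G) ∧ ∀ x ∈ B, k * x * k⁻¹ * x⁻¹ ∈ J}
        one_mem' := ⟨one_mem _, fun x _ => by simp⟩
        mul_mem' := fun {k l} hk hl => ⟨mul_mem hk.1 hl.1, fun x hx => by
          rw [show k * l * x * (k * l)⁻¹ * x⁻¹ = k * (l * x * l⁻¹ * x⁻¹) * k⁻¹ * (k * x * k⁻¹ * x⁻¹) by group]
          exact mul_mem ((Subgroup.mem_normalizer_iff.1 hk.1 _).1 (hl.2 x hx)) (hk.2 x hx)⟩
        inv_mem' := fun {k} hk => ⟨inv_mem hk.1, fun x hx => by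
          rw [show k⁻¹ * x * k⁻¹⁻¹ * x⁻¹ = k⁻¹ * (k * x * k⁻¹ * x⁻¹)⁻¹ * k⁻¹⁻¹ by group]
          exact (Subgroup.mem_normalizer_iff.1 (inv_mem hk.1) _).1 (inv_mem (hk.2 x hx))⟩ }
    have hle : ⁅P, Q⁆ ≤ T := by
      rw [Subgroup.commutator_le]
      intro p hp q hq
      have hk : p * q * p⁻¹ * q⁻¹ ∈ Z := hPQ (commutator_mem hp hq)
      refine ⟨nofix (fun z hz j hj => (Subgroup.mem_centralizer_iff.1 (hZ ▸ hz) j
        ((hJ ▸ (Subgroup.commutator_le.2 fun e he f hf => mul_mem (mul_mem (mul_mem (hEM he) (hFM hf))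
          (inv_mem (hEM he))) (inv_mem (hFM hf))) : J ≤ M) hj)).symm) hk, fun x hx => ?_⟩
      obtain ⟨u, hu, hup⟩ := hP x hx p hp
      have hq' : x * q * x⁻¹ = q := by rw [hQ x hx q hq, mul_inv_cancel_right]
      have hj : u * q * u⁻¹ * q⁻¹ ∈ J := hU (commutator_mem hu hq)
      obtain ⟨k, hkdef⟩ : ∃ k, k = p * q * p⁻¹ * q⁻¹ := ⟨_, rfl⟩
      show p * q * p⁻¹ * q⁻¹ * x * (p * q * p⁻¹ * q⁻¹)⁻¹ * x⁻¹ ∈ J
      rw [← hkdef] at hk ⊢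
      have hxk : x * k * x⁻¹ = k * (u * q * u⁻¹ * q⁻¹) := by
        have hku : Commute k u := (Subgroup.mem_centralizer_iff.1 (hZ ▸ hk) u (hUM hu)).symm
        calc x * k * x⁻¹ = (x * p * x⁻¹) * (x * q * x⁻¹) * (x * p * x⁻¹)⁻¹ * (x * q * x⁻¹)⁻¹ := by
              rw [hkdef]; group
          _ = u * (p * q * p⁻¹ * q⁻¹) * q * u⁻¹ * q⁻¹ := by rw [hup, hq']; group
          _ = _ := by rw [← hkdef, ← hku.eq]; group
      have : k * x * k⁻¹ * x⁻¹ = k * (x * k * x⁻¹)⁻¹ := by group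
      rw [this, hxk, mul_inv_rev]
      have hk1 : Commute k (u * q * u⁻¹ * q⁻¹)⁻¹ := by
        refine Commute.inv_right ?_
        exact (Subgroup.mem_centralizer_iff.1 (hZ ▸ hk) _
          ((hJ ▸ (Subgroup.commutator_le.2 fun e he f hf => mul_mem (mul_mem (mul_mem (hEM he) (hFM hf))
            (inv_mem (hEM he))) (inv_mem (hFM hf))) : J ≤ M) hj)).symm
      rw [← mul_assoc, hk1.eq, mul_inv_cancel_right]
      exact inv_mem hj
    rw [Subgroup.commutator_le]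
    exact fun k hk x hx => (hle hk).2 x hx
  have cP : ⁅⁅A, F⁆, R⁆ ≤ J := split J _ nJ (hb0 fun a ha k hk => (cenA k (hPZ hk) a ha).symm)
    (key A F E hEM hPZ (fun x hx f hf => (fB f hf x hx).symm) aE (hJ ▸ le_rfl))
    (hb0 fun c hc k hk => (cenC k (hPZ hk) c hc).symm)
  have cQ : ⁅⁅C, E⁆, R⁆ ≤ J := split J _ nJ (hb0 fun a ha k hk => (cenA k (hQZ hk) a ha).symm)
    (key C E F hFM hQZ (fun x hx e he => (eB e he x hx).symm) cF
      (by rw [hJ, Subgroup.commutator_comm]))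
    (hb0 fun c hc k hk => (cenC k (hQZ hk) c hc).symm)
  have c3 : ⁅L₂, R⁆ ≤ J := by
    rw [hL₂]
    exact comm_sup_le ((sup_le hPR hQR).trans nJ) (hJR'.trans nJ)
      (comm_sup_le (hPR.trans nJ) (hQR.trans nJ) cP cQ) (hJR.le.trans bot_le)
  have hJL₂ : J ≤ L₂ := hL₂ ▸ le_sup_right
  have nL₂ : R ≤ Subgroup.normalizer (L₂ : Set G) := hn (c3.trans hJL₂)
  have cE : ⁅E, R⁆ ≤ L₂ := split L₂ E nL₂ (hb0 fun a ha e he => (eA e he a ha).symm)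
    (hb0 fun x hx e he => (eB e he x hx).symm) (hL₂ ▸ (le_sup_right.trans le_sup_left))
  have cF' : ⁅F, R⁆ ≤ L₂ := split L₂ F nL₂ (hL₂ ▸ (le_sup_left.trans le_sup_left))
    (hb0 fun x hx f hf => (fB f hf x hx).symm) (hb0 fun c hc f hf => (fC f hf c hc).symm)
  have hL₂R : L₂ ≤ R := hL₂ ▸ sup_le (sup_le hPR hQR) hJR'
  have c2 : ⁅L₁, R⁆ ≤ L₂ := by
    rw [hL₁]
    exact comm_sup_le ((sup_le hER hFR).trans nL₂) (hL₂R.trans nL₂)
      (comm_sup_le (hER.trans nL₂) (hFR.trans nL₂) cE cF') (c3.trans hJL₂)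
  have nL₁ : R ≤ Subgroup.normalizer (L₁ : Set G) := hn (c2.trans (hL₁ ▸ le_sup_right))
  have hEL : E ≤ L₁ := hL₁ ▸ (le_sup_left.trans le_sup_left)
  have hFL : F ≤ L₁ := hL₁ ▸ (le_sup_right.trans le_sup_left)
  have cA1 : ⁅A, R⁆ ≤ L₁ := split L₁ A nL₁ (hb0 fun p hp q hq => root_comm hS hA hp hq)
    (by rw [Subgroup.commutator_comm, ← hE]; exact hEL) (hb0 fun c hc a ha => (cAC a ha c hc).symm)
  have cB1 : ⁅B, R⁆ ≤ L₁ := split L₁ B nL₁ (hE ▸ hEL) (hb0 fun p hp q hq => root_comm hS hB hp hq)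
    (by rw [Subgroup.commutator_comm, ← hF]; exact hFL)
  have cC1 : ⁅C, R⁆ ≤ L₁ := split L₁ C nL₁ (hb0 cAC) (hF ▸ hFL)
    (hb0 fun p hp q hq => root_comm hS hC hp hq)
  have c1 : ⁅R, R⁆ ≤ L₁ := by
    have : ⁅A ⊔ B ⊔ C, R⁆ ≤ L₁ :=
      comm_sup_le (sup_le (hAR.trans nL₁) (hBR.trans nL₁)) (hCR.trans nL₁)
        (comm_sup_le (hAR.trans nL₁) (hBR.trans nL₁) cA1 cB1) cC1
    rwa [← hR] at this
  exact isNilpotent_of_chain c1 c2 c3 hJR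

end Cfsg.Agent.S5030
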