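import Cfsg.Statements.S5033
-- import your own Cfsg.Agent.* helpers here
import Cfsg.Agent.Lib.Root.Simple


set_option autoImplicit false
open Cfsg

namespace Cfsg.Agent.S5033

/-- Quasisimplicity criterion for groups generated by abstract root subgroups. Let S be a set of abstract root subgroups of G with more than one member such that: the graph of rank one pairs on S is connected; no two different members of S have the same set of commuting members of S; if S is degenerate then every member of S has more than three elements; and every rank one pair in S is special. Then for every A ∈ S one has G = G' A with A ∩ G' ≠ 1, and the commutator subgroup G' is quasisimple. Moreover G is perfect if S is non-degenerate, or if some rank one pair A, B in S generates a perfect group. -/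
theorem result {G : Type*} [Group G] {S : Set (Subgroup G)} (hS : Cfsg.IsRootSubgroupSet S) (h2 : ∃ A ∈ S, ∃ B ∈ S, A ≠ B)
    (h1 : Cfsg.IsConnectedFamily (Cfsg.FAdj S) S)
    (h2' : ∀ A ∈ S, ∀ C ∈ S, A ≠ C → Cfsg.centralizingMembers S A ≠ Cfsg.centralizingMembers S C)
    (h3 : Cfsg.IsDegenerateRootSet S → ∀ A ∈ S, 3 < ENat.card A)
    (h4 : ∀ A ∈ S, ∀ B ∈ Cfsg.rankOnePartners S A, Cfsg.IsSpecialRankOnePair A B) :
    (∀ A ∈ S, commutator G ⊔ A = ⊤ ∧ A ⊓ commutator G ≠ ⊥) ∧ Cfsg.IsQuasisimple ↥(commutator G) ∧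
    (Cfsg.IsNondegenerateRootSet S → commutator G = ⊤) ∧
    ((∃ A ∈ S, ∃ B ∈ Cfsg.rankOnePartners S A, Group.IsPerfect ↥(A ⊔ B)) → commutator G = ⊤) := by
  obtain ⟨hconj, -⟩ := (S5032.result hS h2).1 h1
  obtain ⟨A₀, hA₀, B₀, hB₀, hne⟩ := h2
  have hiso : ∀ A ∈ S, ∃ B ∈ S, IsRankOnePair A B := by
    intro A hA
    obtain ⟨F, hF, hAF⟩ := RootLib.nonisolated_of_reach (h1 A₀ hA₀ B₀ hB₀) hne
    obtain ⟨g, rfl⟩ := hconj.2 A₀ hA₀ A hA
    exact ⟨conjBy F g, hS.conj_mem F hF g, RootLib.isRankOnePair_conj hAF g⟩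
  have htop := RootLib.commutator_eq_top hS hconj hiso h3 h4
  have hq : IsQuasisimple G := by
    obtain ⟨⟨a, ha⟩, ha1⟩ := A₀.ne_bot_iff_exists_ne_one.1 (hS.ne_bot A₀ hA₀)
    have : Nontrivial G := ⟨a, 1, fun e => ha1 (Subtype.ext e)⟩
    exact Components.isQuasisimple_of_normal_cases htop fun N hN =>
      RootLib.normal_cases hS hconj hiso h2' h3 h4 N
  refine ⟨fun A hA => ⟨by rw [htop, top_sup_eq], ?_⟩, ?_, fun _ => htop, fun _ => htop⟩
  · rw [htop, inf_top_eq]
    exact hS.ne_bot A hA
  · rw [htop]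
    exact Components.qs_of_equiv hq Subgroup.topEquiv.symm

end Cfsg.Agent.S5033
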