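import Cfsg.Statements.S5035
-- import your own Cfsg.Agent.* helpers here
import Cfsg.Agent.Lib.Root.SetsMore


set_option autoImplicit false
open Cfsg

namespace Cfsg.Agent.S5035

/-- Let S be a set of abstract root subgroups of G whose graph of rank one pairs is connected, and f a homomorphism from G onto a group H. Then either the images of the members of S form a set of abstract root subgroups of H whose graph of rank one pairs is again connected, or H equals the image of a member of S. -/
theorem result {G H : Type*} [Group G] [Group H] {S : Set (Subgroup G)} (hS : Cfsg.IsRootSubgroupSet S)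
    (hc : Cfsg.IsConnectedFamily (Cfsg.FAdj S) S) (f : G →* H) (hf : Function.Surjective f) :
    (Cfsg.IsRootSubgroupSet ((fun A : Subgroup G => A.map f) '' S) ∧
      Cfsg.IsConnectedFamily (Cfsg.FAdj ((fun A : Subgroup G => A.map f) '' S)) ((fun A : Subgroup G => A.map f) '' S)) ∨
    ∃ A ∈ S, A.map f = ⊤ := by
  rw [or_iff_not_imp_right]
  intro htop
  set T := (fun A : Subgroup G => A.map f) '' S with hT
  have hgen : (⨆ C ∈ T, C) = ⊤ := by
    rw [hT, iSup_image]
    have h := congrArg (Subgroup.map f) hS.generates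
    simp only [Subgroup.map_iSup, Subgroup.map_top_of_surjective f hf] at h
    exact h
  have hadj : ∀ A B, FAdj S A B → A.map f ≠ B.map f → IsRankOnePair (A.map f) (B.map f) := by
    have hcond : ∀ A B, IsRankOnePair A B → A.map f ≠ B.map f →
        RankOneCondition (A.map f) (B.map f) := by
      rintro A B h hne _ ⟨a, ha, rfl⟩ ha1
      obtain ⟨b, hb, -, he⟩ := h.cond_left a ha (fun e => ha1 (by simp [e]))
      have he' := congrArg (Subgroup.map f) he
      simp only [RootLib.map_conjBy, map_inv] at he'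
      refine ⟨f b, Subgroup.mem_map_of_mem f hb, fun e => hne ?_, he'⟩
      rw [e, inv_one, RootLib.conjBy_one] at he'
      have h1 := RootLib.eq_inv_conjBy he'.symm
      rw [inv_inv, RootLib.conjBy_eq_self_of_mem (Subgroup.mem_map_of_mem f ha)] at h1
      exact h1.symm
    rintro A B ⟨hA, hB, h⟩ hne
    have := h.nilpotent_left
    have := h.nilpotent_right
    exact ⟨hne, Group.nilpotent_of_surjective (f.subgroupMap A) (f.subgroupMap_surjective A),
      Group.nilpotent_of_surjective (f.subgroupMap B) (f.subgroupMap_surjective B),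
      hcond A B h hne, hcond B A (RankOnePair_symm h) hne.symm⟩
  have hbot : ∀ A ∈ S, A.map f ≠ ⊥ := by
    intro A hA hb
    have hall : ∀ B ∈ S, B.map f = ⊥ := by
      intro B hB
      have h := hc A hA B hB
      clear hB
      induction h with
      | refl => exact hb
      | tail _ h ih =>
        obtain ⟨x, -, hx⟩ := RootLib.exists_conjBy_eq h.2.2
        rw [← hx, RootLib.map_conjBy, ih, conjBy, Subgroup.map_bot]
    refine htop ⟨A, hA, ?_⟩
    rw [hb, ← hgen, eq_comm, eq_bot_iff]
    refine iSup₂_le ?_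
    rintro _ ⟨B, hB, rfl⟩
    exact (hall B hB).le
  refine ⟨⟨?_, ?_, hgen, ?_, ?_⟩, ?_⟩
  · rintro _ ⟨A, hA, rfl⟩
    have := hS.commutative A hA
    infer_instance
  · rintro _ ⟨A, hA, rfl⟩
    exact hbot A hA
  · rintro _ ⟨A, hA, rfl⟩ g
    obtain ⟨g, rfl⟩ := hf g
    exact ⟨conjBy A g, hS.conj_mem A hA g, RootLib.map_conjBy f A g⟩
  · rintro _ ⟨A, hA, rfl⟩ _ ⟨B, hB, rfl⟩
    rcases hS.pair A hA B hB with h | h | h
    · exact Or.inl (by rw [← Subgroup.map_commutator A B f, h, Subgroup.map_bot])
    · by_cases hAB : A.map f = B.map f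
      · left
        show ⁅A.map f, B.map f⁆ = ⊥
        rw [← hAB, RootLib.bracket_eq_bot_iff]
        rintro _ ⟨a, ha, rfl⟩ _ ⟨a', ha', rfl⟩
        rw [← map_mul, ← map_mul, RootLib.root_comm hS hA ha ha']
      · exact Or.inr (Or.inl (hadj A B ⟨hA, hB, h⟩ hAB))
    · obtain ⟨hm, hcen, hl, hr⟩ := h
      refine Or.inr (Or.inr ⟨?_, ?_, ?_, ?_⟩)
      · exact ⟨⁅A, B⁆, hm, Subgroup.map_commutator A B f⟩
      · rw [← Subgroup.map_commutator A B f, ← Subgroup.map_sup]
        rintro _ ⟨c, hc, rfl⟩ _ ⟨x, hx, rfl⟩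
        rw [← map_mul, ← map_mul, hcen c hc x hx]
      · rintro _ ⟨a, ha, rfl⟩ ha1
        rw [← Subgroup.map_commutator A B f, ← hl a ha (fun e => ha1 (by simp [e])),
          MonoidHom.map_closure, Subgroup.coe_map, Set.image_image, Set.image_image]
        simp
      · rintro _ ⟨b, hb, rfl⟩ hb1
        rw [← Subgroup.map_commutator A B f, ← hr b hb (fun e => hb1 (by simp [e])),
          MonoidHom.map_closure, Subgroup.coe_map, Set.image_image, Set.image_image]
        simp
  · rintro _ ⟨A, hA, rfl⟩ _ ⟨B, hB, rfl⟩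
    have h := hc A hA B hB
    clear hB
    induction h with
    | refl => exact Relation.ReflTransGen.refl
    | @tail P Q _ h ih =>
      by_cases hne : P.map f = Q.map f
      · show Relation.ReflTransGen _ (A.map f) (Q.map f)
        rw [← hne]; exact ih
      · exact ih.tail ⟨⟨P, h.1, rfl⟩, ⟨Q, h.2.1, rfl⟩, hadj P Q h hne⟩

end Cfsg.Agent.S5035
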