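import Cfsg.Statements.S5037
import Cfsg.Agent.Lib.Root.Inclusion

set_option autoImplicit false
open Cfsg

namespace Cfsg.Agent.S5037

open RootLib in
/-- Let S be a class of abstract root subgroups of G that is either degenerate or non-degenerate (so either the commutator case never occurs, or all three cases occur), and A ≠ C members of S. If every member of S commuting with A commutes with C, then A and C have the same commuting members of S; and if every rank one partner of A is a rank one partner of C, then A and C commute and have the same rank one partners. -/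
theorem result {G : Type*} [Group G] {S : Set (Subgroup G)} (hS : Cfsg.IsRootSubgroupClass S)
    (hdn : Cfsg.IsDegenerateRootSet S ∨ Cfsg.IsNondegenerateRootSet S)
    {A C : Subgroup G} (hA : A ∈ S) (hC : C ∈ S) (hAC : A ≠ C) :
    (Cfsg.centralizingMembers S A ⊆ Cfsg.centralizingMembers S C →
      Cfsg.centralizingMembers S A = Cfsg.centralizingMembers S C) ∧
    (Cfsg.rankOnePartners S A ⊆ Cfsg.rankOnePartners S C →
      ⁅A, C⁆ = ⊥ ∧ Cfsg.rankOnePartners S A = Cfsg.rankOnePartners S C) := by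
  refine ⟨fun hsub => ?_, fun hsub => ?_⟩
  · refine Set.Subset.antisymm hsub ?_
    have hAC0 : ⁅A, C⁆ = ⊥ := (mem_centralizingMembers hS.1 hA).1
      (hsub ((mem_centralizingMembers hS.1 hA).2 (bracket_eq_bot_iff.2 fun x hx y hy => root_comm hS.1 hA hx hy)))
    by_cases hiso : ∃ F ∈ S, IsRankOnePair C F
    · obtain ⟨F, hF, hCF⟩ := hiso
      have hAF : IsRankOnePair A F := by
        rcases hS.1.pair A hA F hF with h | h | h
        · exact absurd (bracket_eq_bot_symm ((mem_centralizingMembers hS.1 hF).1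
            (hsub ((mem_centralizingMembers hS.1 hF).2 (bracket_eq_bot_symm h))))) (bracket_ne_bot hCF)
        · exact h
        · exfalso
          obtain ⟨h1, -⟩ := proj_facts hS.1 hC hF hA hCF (bracket_eq_bot_symm hAC0) h
          have h2 : ⁅⁅A, F⁆, A⁆ = ⊥ := bracket_eq_bot_iff.2 fun e he a ha =>
            h.2.1 e he a (Subgroup.mem_sup_left ha)
          exact hS.1.ne_bot _ h1.1 ((mem_centralizingMembers hS.1 h.1).1
            (hsub ((mem_centralizingMembers hS.1 h.1).2 h2)))
      exact rel_symm_of_partner (r := fun P Q => P ∈ S ∧ centralizingMembers S P ⊆ centralizingMembers S Q)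
        (fun P Q g ⟨hP, h⟩ => ⟨hS.1.conj_mem P hP g, fun M hM => by
          rw [← conjBy_cancel_inv M g] at hM ⊢
          exact (centralizingMembers_conj hS.1).2 (h ((centralizingMembers_conj hS.1).1 hM))⟩)
        (fun P Q R h h' => ⟨h.1, h.2.trans h'.2⟩)
        (fun P Q ⟨hP, h⟩ => (mem_centralizingMembers hS.1 hP).1 (h ((mem_centralizingMembers hS.1 hP).2
          (bracket_eq_bot_iff.2 fun x hx y hy => root_comm hS.1 hP hx hy))))
        ⟨hA, hsub⟩ hAF hCF |>.2
    · intro M hM
      refine (mem_centralizingMembers hS.1 hM.1).2 ?_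
      have hnone : ∀ P ∈ S, ∀ Q ∈ S, ¬ IsRankOnePair P Q := fun P hP Q hQ h => by
        obtain ⟨g, rfl⟩ := hS.2.2 P hP C hC
        exact hiso ⟨conjBy Q g, hS.1.conj_mem Q hQ g, isRankOnePair_conj h g⟩
      rcases hdn with hd | hd
      · rcases hS.1.pair M hM.1 A hA with h | h | h
        exacts [h, absurd h (hnone _ hM.1 _ hA), absurd h (hd _ hM.1 _ hA)]
      · obtain ⟨-, ⟨P, hP, Q, hQ, hPQ⟩, -⟩ := hd
        exact absurd hPQ (hnone P hP Q hQ)
  · by_cases hiso : ∃ F ∈ S, IsRankOnePair A F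
    · obtain ⟨F, hF, hAF⟩ := hiso
      have hall := partners_all hS ⟨A, hA, F, hF, hAF⟩
      have hcomm : ∀ P Q : Subgroup G, (P ∈ S ∧ Q ∈ S ∧ rankOnePartners S P ⊆ rankOnePartners S Q) → ⁅P, Q⁆ = ⊥ := by
        rintro P Q ⟨hP, hQ, h⟩
        rcases hS.1.pair P hP Q hQ with h' | h' | h'
        · exact h'
        · exact absurd rfl (h ⟨hQ, h'⟩).2.ne
        · exfalso
          obtain ⟨D, hD, hPD, hDQ⟩ := exists_partner_commuting hS.1 hall hP hQ h'
          exact bracket_ne_bot (h ⟨hD, hPD⟩).2 (bracket_eq_bot_symm hDQ)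
      refine ⟨hcomm A C ⟨hA, hC, hsub⟩, Set.Subset.antisymm hsub ?_⟩
      exact (rel_symm_of_partner
        (r := fun P Q => P ∈ S ∧ Q ∈ S ∧ rankOnePartners S P ⊆ rankOnePartners S Q)
        (fun P Q g ⟨hP, hQ, h⟩ => ⟨hS.1.conj_mem P hP g, hS.1.conj_mem Q hQ g, fun M hM => by
          have h1 : conjBy M g⁻¹ ∈ rankOnePartners S P := ⟨hS.1.conj_mem M hM.1 g⁻¹, by
            have := isRankOnePair_conj hM.2 g⁻¹
            rwa [conjBy_inv_cancel] at this⟩
          have h2 := isRankOnePair_conj (h h1).2 g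
          rw [conjBy_cancel_inv] at h2
          exact ⟨hM.1, h2⟩⟩)
        (fun P Q R h h' => ⟨h.1, h'.2.1, h.2.2.trans h'.2.2⟩) hcomm
        ⟨hA, hC, hsub⟩ hAF (hsub ⟨hF, hAF⟩).2).2.2
    · have hnone : ∀ P ∈ S, ∀ Q ∈ S, ¬ IsRankOnePair P Q := fun P hP Q hQ h => by
        obtain ⟨g, rfl⟩ := hS.2.2 P hP A hA
        exact hiso ⟨conjBy Q g, hS.1.conj_mem Q hQ g, isRankOnePair_conj h g⟩
      refine ⟨?_, Set.Subset.antisymm hsub fun M hM => absurd hM.2 (hnone C hC M hM.1)⟩
      rcases hdn with hd | hd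
      · rcases hS.1.pair A hA C hC with h | h | h
        exacts [h, absurd h (hnone _ hA _ hC), absurd h (hd _ hA _ hC)]
      · obtain ⟨-, ⟨P, hP, Q, hQ, hPQ⟩, -⟩ := hd
        exact absurd hPQ (hnone P hP Q hQ)

end Cfsg.Agent.S5037
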