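import Cfsg.Statements.S5039
import Cfsg.Agent.Lib.Root.Good

set_option autoImplicit false
universe u
open Cfsg

namespace Cfsg.Agent.S5039

/-- Let S be a class of abstract root subgroups of G containing two different commuting members. Suppose that, in case S is degenerate and every element of every member of S has order at most 3, the following holds: for every A ∈ S and every rank one partner B of A there are subgroups A₀ ≤ A and B₀ ≤ B generating an image of SL₂(k) with central kernel, k a field with at least four elements, A₀ and B₀ being the images of the unitriangular subgroups. Then every rank one pair A, B in S is special. -/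
theorem result {G : Type u} [Group G] {S : Set (Subgroup G)} (hS : Cfsg.IsRootSubgroupClass S)
    (hcomm : ∃ A ∈ S, ∃ C ∈ S, A ≠ C ∧ ⁅A, C⁆ = ⊥)
    (hH : Cfsg.IsDegenerateRootSet S → (∀ A ∈ S, ∀ a ∈ A, 0 < orderOf a ∧ orderOf a ≤ 3) →
      ∀ A ∈ S, ∀ B ∈ Cfsg.rankOnePartners S A, ∃ A₀ B₀ : Subgroup G, A₀ ≤ A ∧ B₀ ≤ B ∧
        ∃ (k : Type u) (_ : Field k), 3 < ENat.card k ∧ Cfsg.IsPSL2PairOver k A₀ B₀)
    {A B : Subgroup G} (hA : A ∈ S) (hB : B ∈ Cfsg.rankOnePartners S A) : Cfsg.IsSpecialRankOnePair A B := by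
  obtain ⟨hS1, hS2⟩ := hS
  by_cases hcase : ∃ P ∈ S, ∃ Q ∈ S, Cfsg.RootCommutatorCase S P Q
  · exact (RootLib.special_of_case hS1 hS2 hcase hA hB).2
  have hdeg : Cfsg.IsDegenerateRootSet S := fun P hP Q hQ h => hcase ⟨P, hP, Q, hQ, h⟩
  obtain ⟨hBS, hAB⟩ := hB
  by_cases hgood : ∃ C, RootLib.GoodTriple S A B C
  · obtain ⟨C, h⟩ := hgood
    exact (h.special hS1).isSpecial
  push Not at hgood
  have hSig := RootLib.partners_eq hS1 hdeg hA hBS hAB hgood
  exfalso
  obtain ⟨B', C', h⟩ := RootLib.exists_good ⟨hS1, hS2⟩ hdeg hcomm hA hBS hAB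
  have hsp := h.special hS1
  have hsmall : ∀ a ∈ A, 0 < orderOf a ∧ orderOf a ≤ 3 := by
    have hexp : ∀ a ∈ A, a ≠ 1 → a ^ 2 = 1 ∨ a ^ 9 = 1 := fun a ha ha1 =>
      h.exponent hS1 hdeg hBS hAB hSig.symm ha ha1
    intro a ha
    by_cases ha1 : a = 1
    · rw [ha1, orderOf_one]; omega
    rcases hsp.elementary_or_divisible with ⟨p, hp, hpow⟩ | ⟨htor, -⟩
    · haveI := Fact.mk hp
      have ho : orderOf a = p := orderOf_eq_prime (hpow a ha) ha1
      refine ⟨ho ▸ hp.pos, ?_⟩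
      rcases hexp a ha ha1 with e | e <;> have hd := orderOf_dvd_of_pow_eq_one e
      · exact (Nat.le_of_dvd two_pos hd).trans (by omega)
      · rw [ho] at hd ⊢
        exact Nat.le_of_dvd three_pos (hp.dvd_of_dvd_pow (show p ∣ 3 ^ 2 from hd))
    · exfalso
      rcases hexp a ha ha1 with e | e
      · exact htor a ha ha1 (isOfFinOrder_iff_pow_eq_one.2 ⟨2, by omega, e⟩)
      · exact htor a ha ha1 (isOfFinOrder_iff_pow_eq_one.2 ⟨9, by omega, e⟩)
  have hall : ∀ P ∈ S, ∀ x ∈ P, 0 < orderOf x ∧ orderOf x ≤ 3 := by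
    intro P hP x hx
    obtain ⟨g, rfl⟩ := hS2.2 A hA P hP
    obtain ⟨a, ha, rfl⟩ := hx
    rw [orderOf_injective _ (MulAut.conj g).injective a]
    exact hsmall a ha
  obtain ⟨A₀, B₀, hA₀, hB₀, k, hk, hcard, φ, hrange, hker, hu, hl⟩ :=
    hH hdeg hall A hA B ⟨hBS, hAB⟩
  obtain ⟨hgen, hspec, habel⟩ := RootLib.rankOne_sl_two (k := k)
  have hcard' : 3 < ENat.card (Cfsg.lowerUnipotentSL2 k) := by
    let f : k → Cfsg.lowerUnipotentSL2 k := fun t => ⟨RootLib.lEl t, RootLib.mem_lower.2 ⟨t, rfl⟩⟩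
    refine lt_of_lt_of_le hcard (ENat.card_le_card_of_injective (f := f) ?_)
    intro s t e
    have := congrArg (fun x : Cfsg.lowerUnipotentSL2 k =>
      ((x : Matrix.SpecialLinearGroup (Fin 2) k) : Matrix (Fin 2) (Fin 2) k) 1 0) e
    simpa [f] using this
  have hperf := (RootLib.specialPair_of hspec
    (fun x hx y hy => congrArg Subtype.val (habel.1.is_comm.comm ⟨x, hx⟩ ⟨y, hy⟩))
    (fun x hx y hy => congrArg Subtype.val (habel.2.is_comm.comm ⟨x, hx⟩ ⟨y, hy⟩))).perfect hcard'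
  have hu1 : φ (RootLib.uEl 1) ≠ 1 := by
    intro e
    have hc := Subgroup.mem_center_iff.1 (hker e) (RootLib.lEl 1)
    have := congrArg (fun x : Matrix.SpecialLinearGroup (Fin 2) k =>
      (x : Matrix (Fin 2) (Fin 2) k) 0 0) hc
    simp [Matrix.mul_apply, Fin.sum_univ_two] at this
  have hmemA : φ (RootLib.uEl 1) ∈ A :=
    hA₀ (hu ▸ Subgroup.mem_map_of_mem φ (RootLib.mem_upper.2 ⟨1, rfl⟩))
  refine hu1 (h.commutator_inf hS1 hdeg hBS hSig.symm hmemA ?_)
  have hmem := hperf (Subgroup.mem_sup_right (RootLib.mem_upper.2 ⟨(1 : k), rfl⟩))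
  have himg := Subgroup.mem_map_of_mem φ hmem
  rw [Subgroup.map_commutator, hgen.1, ← MonoidHom.range_eq_map, hrange] at himg
  exact Subgroup.commutator_mono (sup_le_sup hA₀ hB₀) (sup_le_sup hA₀ hB₀) himg

end Cfsg.Agent.S5039
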