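import Cfsg.Statements.S5043
import Cfsg.Agent.Lib.Root.SLExample
import Cfsg.Agent.S5032
import Cfsg.Agent.Lib.Root.Nondeg

set_option autoImplicit false
open Matrix
open Cfsg Matrix

namespace Cfsg.Agent.S5043

/-- Let k be a field and n a natural number. In SL_{n+3}(k) (so in every dimension at least 3) the conjugates of the root subgroup of elementary transvections 1 + c E₁₂ (c ∈ k) — that is, the groups of transvections attached to an incident point–hyperplane pair — form a non-degenerate class of abstract k-root subgroups of SL_{n+3}(k) whose graph of rank one pairs is connected. -/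
theorem result (k : Type*) [Field k] (n : ℕ) :
    Cfsg.IsRootSubgroupClass {A : Subgroup (Matrix.SpecialLinearGroup (Fin (n + 3)) k) |
        ∃ g : Matrix.SpecialLinearGroup (Fin (n + 3)) k,
          A = Cfsg.conjBy (Subgroup.closure {t : Matrix.SpecialLinearGroup (Fin (n + 3)) k |
            ∃ c : k, (t : Matrix (Fin (n + 3)) (Fin (n + 3)) k) = Matrix.transvection 0 1 c}) g} ∧
    Cfsg.IsNondegenerateRootSet {A : Subgroup (Matrix.SpecialLinearGroup (Fin (n + 3)) k) |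
        ∃ g : Matrix.SpecialLinearGroup (Fin (n + 3)) k,
          A = Cfsg.conjBy (Subgroup.closure {t : Matrix.SpecialLinearGroup (Fin (n + 3)) k |
            ∃ c : k, (t : Matrix (Fin (n + 3)) (Fin (n + 3)) k) = Matrix.transvection 0 1 c}) g} ∧
    Cfsg.IsKRootSubgroupSet k {A : Subgroup (Matrix.SpecialLinearGroup (Fin (n + 3)) k) |
        ∃ g : Matrix.SpecialLinearGroup (Fin (n + 3)) k,
          A = Cfsg.conjBy (Subgroup.closure {t : Matrix.SpecialLinearGroup (Fin (n + 3)) k |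
            ∃ c : k, (t : Matrix (Fin (n + 3)) (Fin (n + 3)) k) = Matrix.transvection 0 1 c}) g} ∧
    Cfsg.IsConnectedFamily (Cfsg.FAdj {A : Subgroup (Matrix.SpecialLinearGroup (Fin (n + 3)) k) |
        ∃ g : Matrix.SpecialLinearGroup (Fin (n + 3)) k,
          A = Cfsg.conjBy (Subgroup.closure {t : Matrix.SpecialLinearGroup (Fin (n + 3)) k |
            ∃ c : k, (t : Matrix (Fin (n + 3)) (Fin (n + 3)) k) = Matrix.transvection 0 1 c}) g})
      {A : Subgroup (Matrix.SpecialLinearGroup (Fin (n + 3)) k) |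
        ∃ g : Matrix.SpecialLinearGroup (Fin (n + 3)) k,
          A = Cfsg.conjBy (Subgroup.closure {t : Matrix.SpecialLinearGroup (Fin (n + 3)) k |
            ∃ c : k, (t : Matrix (Fin (n + 3)) (Fin (n + 3)) k) = Matrix.transvection 0 1 c}) g} := by
  have h01 : (0 : Fin (n + 3)) ≠ 1 := by simp
  have hE : Subgroup.closure {t : Matrix.SpecialLinearGroup (Fin (n + 3)) k |
      ∃ c : k, (t : Matrix (Fin (n + 3)) (Fin (n + 3)) k) = Matrix.transvection 0 1 c} =
      RootLib.SLEx.TG (Pi.single 0 1) (Pi.single 1 1) := by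
    simp only [RootLib.SLEx.TG, Matrix.transvection, ← Matrix.single_eq_single_vecMulVec_single,
      Matrix.smul_single, smul_eq_mul, mul_one]
  rw [hE]
  have hset : {A : Subgroup (Matrix.SpecialLinearGroup (Fin (n + 3)) k) |
      ∃ g, A = Cfsg.conjBy (RootLib.SLEx.TG (Pi.single 0 1) (Pi.single 1 1)) g} =
      RootLib.SLEx.family k (n + 3) := by
    have hbase : RootLib.SLEx.TG (Pi.single 0 1) (Pi.single 1 1) ∈ RootLib.SLEx.family k (n + 3) :=
      ⟨_, _, by simp, by simp, by simp [h01], rfl⟩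
    ext A
    constructor
    · rintro ⟨g, rfl⟩
      exact (RootLib.SLEx.isRootSubgroupSet k (n + 3)).conj_mem _ hbase g
    · rintro ⟨v, φ, hv, hφ, h, rfl⟩
      have h0 : (Pi.single 1 1 : Fin (n + 3) → k) ⬝ᵥ Pi.single 0 1 = 0 := by simp [h01]
      obtain ⟨g, hg, hdet⟩ := TransvGL.exists_conj
        (TransvGL.isTransvection_of_data (a := (Pi.single 0 1 : Fin (n + 3) → k)) (by simp) (by simp) h0)
        (TransvGL.isTransvection_of_data hv hφ h)
      let s : Matrix.SpecialLinearGroup (Fin (n + 3)) k := ⟨g.1, hdet (by omega)⟩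
      refine ⟨s, ?_⟩
      obtain ⟨e, h'⟩ := RootLib.SLEx.conjBy_TG h0 s
      rw [e]
      have e1 : g.1 * (Matrix.vecMulVec (Pi.single 0 1) (Pi.single 1 1)) = Matrix.vecMulVec v φ * g.1 := by
        have := hg
        rw [mul_add, add_mul, mul_one, one_mul] at this
        exact add_left_cancel this
      have e2 : Matrix.vecMulVec (s.1 *ᵥ Pi.single 0 1) (Pi.single 1 1 ᵥ* (s⁻¹).1) = Matrix.vecMulVec v φ := by
        rw [← Matrix.vecMulVec_mul, ← Matrix.mul_vecMulVec]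
        show g.1 * _ * (s⁻¹).1 = _
        rw [e1, mul_assoc, show g.1 * (s⁻¹).1 = 1 by
          show s.1 * (s⁻¹).1 = 1
          rw [← SLGen.cmul, mul_inv_cancel, SLGen.cone], mul_one]
      simp only [RootLib.SLEx.TG, e2]
  rw [hset]
  have hS := RootLib.SLEx.isRootSubgroupSet k (n + 3)
  have h02 : (0 : Fin (n + 3)) ≠ 2 := by rw [Ne, Fin.ext_iff, Fin.val_two, Fin.val_zero]; omega
  have h12 : (1 : Fin (n + 3)) ≠ 2 := by rw [Ne, Fin.ext_iff, Fin.val_two, Fin.val_one]; omega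
  obtain ⟨e, he⟩ : ∃ e : Fin (n + 3) → Fin (n + 3) → k, e = fun i => Pi.single i 1 := ⟨_, rfl⟩
  have hne : ∀ i, e i ≠ 0 := fun i => by simp [he]
  have hdot : ∀ i j, i ≠ j → e i ⬝ᵥ e j = 0 := fun i j h => by simp [he, h.symm, h]
  have hdot1 : ∀ i, e i ⬝ᵥ e i = 1 := fun i => by simp [he]
  have hmem : ∀ i j, i ≠ j → RootLib.SLEx.TG (e i) (e j) ∈ RootLib.SLEx.family k (n + 3) :=
    fun i j h => ⟨_, _, hne i, hne j, hdot j i h.symm, rfl⟩
  have hclass : Cfsg.IsRootSubgroupClass (RootLib.SLEx.family k (n + 3)) := by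
    refine ⟨hS, ⟨_, hmem 0 1 h01⟩, fun A hA B hB => ?_⟩
    rw [← hset] at hA hB
    obtain ⟨g, rfl⟩ := hA
    obtain ⟨g', rfl⟩ := hB
    exact ⟨g' * g⁻¹, by rw [RootLib.conjBy_conjBy, inv_mul_cancel_right]⟩
  have hpair := RootLib.SLEx.exists_hom (v := e 0) (φ := e 1) (w := e 1) (ψ := e 0)
    (hdot 1 0 h01.symm) (hdot 0 1 h01) (by rw [hdot1]; exact one_ne_zero) (by rw [hdot1]; exact one_ne_zero)
  have hdiff : RootLib.SLEx.TG (e 0) (e 1) ≠ RootLib.SLEx.TG (e 0) (e 2) := by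
    intro h
    obtain ⟨t, ht⟩ := RootLib.SLEx.exists_el (hdot 1 0 h01.symm) 1
    have := (RootLib.SLEx.mem_TG (hdot 2 0 h02.symm)).1 (h ▸ (RootLib.SLEx.mem_TG (hdot 1 0 h01.symm)).2 ⟨1, ht⟩)
    obtain ⟨c, hc⟩ := this
    rw [ht, one_smul, add_right_inj] at hc
    have := congrFun (congrFun hc 0) 1
    simp [he, Matrix.vecMulVec_apply, h12] at this
  refine ⟨hclass, ⟨?_, ?_, ?_⟩, ⟨hS, ?_⟩, ?_⟩
  · exact ⟨_, hmem 0 1 h01, _, hmem 0 2 h02, hdiff, RootLib.bracket_eq_bot_iff.2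
      (RootLib.SLEx.TG_comm (hdot 1 0 h01.symm) (hdot 2 0 h02.symm) (hdot 1 0 h01.symm) (hdot 2 0 h02.symm))⟩
  · exact ⟨_, hmem 0 1 h01, _, hmem 1 0 h01.symm, hpair.1⟩
  · exact ⟨_, hmem 0 1 h01, _, hmem 1 2 h12, RootLib.SLEx.case_TG (hne 0) (hne 1) (hne 2)
      (hdot 1 0 h01.symm) (hdot 2 1 h12.symm) (by rw [hdot1]; exact one_ne_zero) (hdot 2 0 h02.symm)⟩
  · rintro A ⟨v, φ, hv, hφ, h, rfl⟩ B ⟨w, ψ, hw, hψ, h', rfl⟩ hAB
    by_cases ha : φ ⬝ᵥ w = 0
    · exfalso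
      by_cases hb : ψ ⬝ᵥ v = 0
      · exact RootLib.bracket_ne_bot hAB (RootLib.bracket_eq_bot_iff.2 (RootLib.SLEx.TG_comm h h' ha hb))
      · exact RootLib.not_case_of_rankOne hS ⟨w, ψ, hw, hψ, h', rfl⟩ ⟨v, φ, hv, hφ, h, rfl⟩
          (Cfsg.RankOnePair_symm hAB) (RootLib.SLEx.case_TG hw hψ hφ h' h hb ha)
    · by_cases hb : ψ ⬝ᵥ v = 0
      · exact (RootLib.not_case_of_rankOne hS ⟨v, φ, hv, hφ, h, rfl⟩ ⟨w, ψ, hw, hψ, h', rfl⟩
          hAB (RootLib.SLEx.case_TG hv hφ hψ h h' ha hb)).elim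
      · exact (RootLib.SLEx.exists_hom h h' ha hb).2
  · exact (S5032.result hS ⟨_, hmem 0 1 h01, _, hmem 0 2 h02, hdiff⟩).2
      ⟨hclass.2, _, hmem 0 1 h01, fun hi => (hi.2 _).1 ⟨hmem 0 1 h01, hmem 1 0 h01.symm, hpair.1⟩⟩

end Cfsg.Agent.S5043
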