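import Cfsg.Statements.S5045
import Cfsg.Agent.Lib.Root.Invol
import Cfsg.Agent.Lib.Basics.Cores

set_option autoImplicit false
open Cfsg

namespace Cfsg.Agent.S5045

/-- Let G be a finite group generated by a set D of root involutions, and W the set of members of D whose product with every other member of D has even order or is trivial (the isolated vertices of the odd-order-product graph on D). Then W is conjugation-invariant and generates a normal 2-subgroup of G meeting D in exactly W; the commutator of two members of D lying in different connected components of that graph, each with more than one member, lies in the subgroup generated by W; and for a in such a component, every member of D commuting with a, different from a and with product with a in D, lies in that component or in W. -/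
theorem result {G : Type*} [Group G] [Finite G] {D : Set G} (hD : Cfsg.IsRootInvolutionSet D) :
    (∀ w ∈ {w | Cfsg.IsIsolatedElem (Cfsg.OddAdj D) D w}, ∀ g : G, g * w * g⁻¹ ∈ {w | Cfsg.IsIsolatedElem (Cfsg.OddAdj D) D w}) ∧
    (Subgroup.closure {w | Cfsg.IsIsolatedElem (Cfsg.OddAdj D) D w}).Normal ∧
    IsPGroup 2 ↥(Subgroup.closure {w | Cfsg.IsIsolatedElem (Cfsg.OddAdj D) D w}) ∧
    (Subgroup.closure {w | Cfsg.IsIsolatedElem (Cfsg.OddAdj D) D w} : Set G) ∩ D = {w | Cfsg.IsIsolatedElem (Cfsg.OddAdj D) D w} ∧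
    (∀ a ∈ D, ∀ b ∈ D, (∃ a' ∈ Cfsg.elemComponentOf (Cfsg.OddAdj D) D a, a' ≠ a) →
      (∃ b' ∈ Cfsg.elemComponentOf (Cfsg.OddAdj D) D b, b' ≠ b) →
      Cfsg.elemComponentOf (Cfsg.OddAdj D) D a ≠ Cfsg.elemComponentOf (Cfsg.OddAdj D) D b →
        a * b * a⁻¹ * b⁻¹ ∈ Subgroup.closure {w | Cfsg.IsIsolatedElem (Cfsg.OddAdj D) D w}) ∧
    (∀ a ∈ D, (∃ a' ∈ Cfsg.elemComponentOf (Cfsg.OddAdj D) D a, a' ≠ a) →
      Cfsg.productPartners D a ⊆ Cfsg.elemComponentOf (Cfsg.OddAdj D) D a ∪ {w | Cfsg.IsIsolatedElem (Cfsg.OddAdj D) D w}) := by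
  have : Fact (Nat.Prime 2) := ⟨Nat.prime_two⟩
  obtain ⟨W, hW⟩ : ∃ W : Set G, W = {w | Cfsg.IsIsolatedElem (Cfsg.OddAdj D) D w} := ⟨_, rfl⟩
  rw [← hW]
  have hWD : ∀ w ∈ W, w ∈ D := fun w hw => by rw [hW] at hw; exact hw.1
  have hWiff : ∀ w, w ∈ W ↔ w ∈ D ∧ ∀ x, x ∉ Cfsg.oddPartners D w := by
    intro w
    rw [hW]
    constructor
    · exact fun h => ⟨h.1, fun x hx => (h.2 x).1 ⟨h.1, hx.1, hx.2.1.symm, hx.2.2⟩⟩
    · refine fun h => ⟨h.1, fun x => ⟨fun ha => h.2 x ⟨ha.2.1, ha.2.2.1.symm, ha.2.2.2⟩,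
        fun ha => h.2 x (RootInvol.oddPartners_symm ha.1 ⟨ha.2.1, ha.2.2.1.symm, ha.2.2.2⟩)⟩⟩
  have hconjW : ∀ w ∈ W, ∀ g : G, g * w * g⁻¹ ∈ W := by
    intro w hw g
    rw [hWiff] at hw ⊢
    refine ⟨hD.conj_mem w hw.1 g, fun x hx => hw.2 (g⁻¹ * x * g⁻¹⁻¹) ?_⟩
    have := RootInvol.oddPartners_conj hD g⁻¹ hx
    rwa [show g⁻¹ * (g * w * g⁻¹) * g⁻¹⁻¹ = w by group] at this
  have hnormal : (Subgroup.closure W).Normal := by
    refine ⟨fun x hx g => ?_⟩
    induction hx using Subgroup.closure_induction with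
    | mem y hy => exact Subgroup.subset_closure (hconjW y hy g)
    | one => simp
    | mul y z _ _ ey ez =>
      have := mul_mem ey ez
      rwa [show g * y * g⁻¹ * (g * z * g⁻¹) = g * (y * z) * g⁻¹ by group] at this
    | inv y _ ey =>
      have := inv_mem ey
      rwa [show (g * y * g⁻¹)⁻¹ = g * y⁻¹ * g⁻¹ by group] at this
  obtain ⟨N, hNn, hN2, hWN⟩ := Invol.baerSuzuki_normal_set (p := 2) W (fun g w hw => hconjW w hw g)
    (by
      intro u hu v hv
      have hu2 := RootInvol.sq_one hD (hWD u hu)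
      have hv2 := RootInvol.sq_one hD (hWD v hv)
      have huv : (u * v) ^ 4 = 1 := by
        by_cases h : u = v
        · rw [h, hv2, one_pow]
        · exact RootInvol.pow_four_of_not_odd hD (hWD u hu) (hWD v hv) fun ho =>
            ((hWiff u).1 hu).2 v ⟨hWD v hv, Ne.symm h, ho⟩
      rintro ⟨x, hx⟩
      obtain ⟨k, rfl | rfl⟩ := (Invol.mem_closure_pair_iff hu2 hv2).1 hx
      · refine ⟨2, Subtype.ext ?_⟩
        push_cast
        rw [← zpow_natCast, ← zpow_mul, mul_comm, zpow_mul]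
        simp [huv]
      · refine ⟨1, Subtype.ext ?_⟩
        push_cast
        rw [pow_two]
        exact Invol.mul_zpow_self hu2 (Invol.conj_mul_eq_inv hu2 hv2) k)
  have hle : Subgroup.closure W ≤ N := (Subgroup.closure_le _).2 hWN
  have h2 : IsPGroup 2 ↥(Subgroup.closure W) := hN2.to_le hle
  have hsymm : ∀ x y, Relation.ReflTransGen (Cfsg.OddAdj D) x y →
      Relation.ReflTransGen (Cfsg.OddAdj D) y x := by
    intro x y h
    induction h with
    | refl => exact Relation.ReflTransGen.refl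
    | tail _ hb ih =>
      exact Relation.ReflTransGen.head
        ⟨hb.2.1, hb.1, hb.2.2.1.symm, by rw [RootInvol.orderOf_swap]; exact hb.2.2.2⟩ ih
  have hstep : ∀ u ∈ D, ∀ v, v ∈ Cfsg.oddPartners D u → Cfsg.OddAdj D u v := fun u hu v hv =>
    ⟨hu, hv.1, hv.2.1.symm, hv.2.2⟩
  have hpart : ∀ a, (∃ a' ∈ Cfsg.elemComponentOf (Cfsg.OddAdj D) D a, a' ≠ a) →
      ∃ c, c ∈ Cfsg.oddPartners D a := by
    rintro a ⟨a', ⟨-, h⟩, hne⟩
    rcases Relation.ReflTransGen.cases_head h with h | ⟨c, h, -⟩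
    · exact absurd h.symm hne
    · exact ⟨c, h.2.1, h.2.2.1.symm, h.2.2.2⟩
  have h6 : ∀ a ∈ D, (∃ a' ∈ Cfsg.elemComponentOf (Cfsg.OddAdj D) D a, a' ≠ a) →
      Cfsg.productPartners D a ⊆ Cfsg.elemComponentOf (Cfsg.OddAdj D) D a ∪ W := by
    rintro a ha hna y ⟨⟨hy, hya, -⟩, hprod⟩
    by_cases hyW : y ∈ W
    · exact Or.inr hyW
    refine Or.inl ⟨hy, ?_⟩
    obtain ⟨c, hc⟩ := hpart a hna
    obtain ⟨c', hc'⟩ : ∃ c', c' ∈ Cfsg.oddPartners D y := by
      by_contra hcon
      push Not at hcon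
      exact hyW ((hWiff y).2 ⟨hy, hcon⟩)
    have htr : RootInvol.IsTriple D y a := ⟨hy, ha, hprod, hya⟩
    rcases htr.symm.odd_or_odd hD hc with h | h
    · exact (Relation.ReflTransGen.single (hstep a ha c hc)).trans
        (hsymm _ _ (Relation.ReflTransGen.single (hstep y hy c h)))
    · rcases htr.odd_or_odd hD hc' with h' | h'
      · exact (Relation.ReflTransGen.single (hstep a ha c' h')).trans
          (hsymm _ _ (Relation.ReflTransGen.single (hstep y hy c' hc')))
      · rw [← hya] at h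
        exact ((Relation.ReflTransGen.single (hstep a ha c hc)).trans
          (hsymm _ _ (Relation.ReflTransGen.single (hstep _ hprod c h)))).trans
            ((Relation.ReflTransGen.single (hstep _ hprod c' h')).trans
              (hsymm _ _ (Relation.ReflTransGen.single (hstep y hy c' hc'))))
  refine ⟨hconjW, hnormal, h2, ?_, ?_, h6⟩
  · refine Set.Subset.antisymm ?_ fun w hw => ⟨Subgroup.subset_closure hw, hWD w hw⟩
    rintro d ⟨hdW, hd⟩
    refine (hWiff d).2 ⟨hd, fun x hx => ?_⟩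
    obtain ⟨g, hg⟩ := RootInvol.exists_conj_of_odd hD hd hx
    have hxW : x ∈ Subgroup.closure W := hg ▸ hnormal.conj_mem d hdW g
    obtain ⟨k, hk⟩ := h2 ⟨_, mul_mem hdW hxW⟩
    have h1 := RootInvol.eq_one_of_odd_of_pow hx.2.2 (congrArg Subtype.val hk)
    exact hx.2.1 (by rw [← RootInvol.inv_self hD hd, inv_eq_of_mul_eq_one_right h1])
  · intro a ha b hb hna hnb hne
    rw [RootInvol.inv_self hD ha, RootInvol.inv_self hD hb]
    rcases hD.pair a ha b hb with h | h | h
    · rw [show a * b * a * b = (a * b) * (a * b) by group]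
      nth_rewrite 2 [h]
      rw [show (a * b) * (b * a) = a * (b * b) * a by group, RootInvol.sq_one hD hb, mul_one,
        RootInvol.sq_one hD ha]
      exact one_mem _
    · exfalso
      by_cases hab : a = b
      · exact hne (by rw [hab])
      · apply hne
        have hr : Relation.ReflTransGen (Cfsg.OddAdj D) a b :=
          Relation.ReflTransGen.single ⟨ha, hb, hab, h⟩
        ext x
        exact ⟨fun hx => ⟨hx.1, (hsymm _ _ hr).trans hx.2⟩, fun hx => ⟨hx.1, hr.trans hx.2⟩⟩
    · obtain ⟨heD, hea, heb, -, e1, e2, -⟩ := RootInvol.four_facts hD ha hb h.1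
      rw [mul_assoc (a * b), ← pow_two]
      refine Subgroup.subset_closure ?_
      by_contra hn
      have hea' : (a * b) ^ 2 ≠ a := fun hh => by
        rw [hh, RootInvol.sq_one hD ha] at e1
        exact RootInvol.ne_one hD (RootInvol.conj_mem' hD ha hb) e1.symm
      have heb' : (a * b) ^ 2 ≠ b := fun hh => by
        rw [hh, RootInvol.sq_one hD hb] at e2
        exact RootInvol.ne_one hD (RootInvol.conj_mem' hD hb ha) e2.symm
      have h1 := h6 a ha hna (show (a * b) ^ 2 ∈ Cfsg.productPartners D a from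
        ⟨⟨heD, hea, hea'⟩, by rw [hea, e1]; exact RootInvol.conj_mem' hD ha hb⟩)
      have h2 := h6 b hb hnb (show (a * b) ^ 2 ∈ Cfsg.productPartners D b from
        ⟨⟨heD, heb, heb'⟩, by rw [heb, e2]; exact RootInvol.conj_mem' hD hb ha⟩)
      rcases h1 with h1 | h1
      · rcases h2 with h2 | h2
        · apply hne
          have hr := h1.2.trans (hsymm _ _ h2.2)
          ext x
          exact ⟨fun hx => ⟨hx.1, (hsymm _ _ hr).trans hx.2⟩, fun hx => ⟨hx.1, hr.trans hx.2⟩⟩
        · exact hn h2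
      · exact hn h1

end Cfsg.Agent.S5045
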