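import Cfsg.Statements.S5046
import Cfsg.Agent.Lib.Root.Invol

set_option autoImplicit false
open Cfsg

namespace Cfsg.Agent.S5046

/-- Let G be a finite group generated by a set D of root involutions whose odd-order-product graph is connected, and d ∈ D. Then the members e of D with the same commuting members as d are exactly those for which the union of the commuting members of d and the members whose product with d has order 4 equals the corresponding union for e. -/
theorem result {G : Type*} [Group G] [Finite G] {D : Set G} (hD : Cfsg.IsRootInvolutionSet D)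
    (hc : Cfsg.IsConnectedSet (Cfsg.OddAdj D) D) {d : G} (hd : d ∈ D) :
    Cfsg.sameCommutingClass D d =
      {e | e ∈ D ∧ Cfsg.commutingMembers D d ∪ Cfsg.fourPartners D d = Cfsg.commutingMembers D e ∪ Cfsg.fourPartners D e} := by
  ext e
  have key : ∀ u ∈ D, ∀ x, x ∈ Cfsg.commutingMembers D u ∪ Cfsg.fourPartners D u ↔
      x ∈ D ∧ x ∉ Cfsg.oddPartners D u := by
    intro u hu x
    constructor
    · rintro (⟨hx, h⟩ | ⟨hx, h⟩)
      · exact ⟨hx, fun ho => RootInvol.ne_comm_of_odd hD hu hx ho.2.1.symm ho.2.2 h.symm⟩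
      · exact ⟨hx, fun ho => RootInvol.not_odd_of_four h ho.2.2⟩
    · rintro ⟨hx, h⟩
      by_cases hc' : u * x = x * u
      · exact Or.inl ⟨hx, hc'.symm⟩
      · exact Or.inr ⟨hx, RootInvol.four_of hD hu hx hc' h⟩
  constructor
  · rintro ⟨he, h⟩
    refine ⟨he, ?_⟩
    have h' := (RootInvol.commutingMembers_eq_iff hD hc hd he).1 h
    ext x
    rw [key d hd, key e he, h']
  · rintro ⟨he, h⟩
    refine ⟨he, (RootInvol.commutingMembers_eq_iff hD hc hd he).2 ?_⟩
    ext x
    have h' := Set.ext_iff.1 h x
    rw [key d hd, key e he] at h'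
    constructor <;> intro hx <;> by_contra hn
    · exact (h'.2 ⟨hx.1, hn⟩).2 hx
    · exact (h'.1 ⟨hx.1, hn⟩).2 hx

end Cfsg.Agent.S5046
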