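import Cfsg.Statements.S5047
import Cfsg.Agent.Lib.Root.Invol

set_option autoImplicit false
open Cfsg

namespace Cfsg.Agent.S5047

/-- Let G be a finite group generated by a set D of root involutions whose odd-order-product graph is connected, a ∈ D, and b a member of D different from a, commuting with a, with ab ∈ D, but not having the same commuting members as a. Then some member x of D with bx of order 4 has ax of order 3. -/
theorem result {G : Type*} [Group G] [Finite G] {D : Set G} (hD : Cfsg.IsRootInvolutionSet D)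
    (hc : Cfsg.IsConnectedSet (Cfsg.OddAdj D) D) {a b : G} (ha : a ∈ D) (hb : b ∈ Cfsg.productPartners D a)
    (hbE : b ∉ Cfsg.sameCommutingClass D a) : ∃ x ∈ Cfsg.fourPartners D b, orderOf (a * x) = 3 := by
  obtain ⟨⟨hbD, hba, hne⟩, hprod⟩ := hb
  have htr : RootInvol.IsTriple D b a := ⟨hbD, ha, hprod, hba⟩
  obtain ⟨g, hg, hgb⟩ : ∃ g, g ∈ Cfsg.oddPartners D a ∧ g ∉ Cfsg.oddPartners D b := by
    by_contra hcon
    push Not at hcon
    exact hbE ⟨hbD, (RootInvol.commutingMembers_eq_iff hD hc ha hbD).2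
      (RootInvol.eq_of_subset hD hc ha hbD hcon)⟩
  have h4g : orderOf (g * b) = 4 := by
    rw [RootInvol.orderOf_swap]
    exact RootInvol.four_of hD hbD hg.1 (htr.symm.ne_comm hD hg).symm hgb
  obtain ⟨z, hz, hza, hzb⟩ := RootInvol.exists_four_root hD htr hg h4g
  obtain ⟨-, -, -, hsw, -, -, -⟩ := RootInvol.four_facts hD hz ha hza
  rw [RootInvol.orderOf_swap] at hza
  obtain ⟨x, hx, hx4, -, hx3⟩ := RootInvol.exists_three hD hc ha hz hza
  rw [hsw, hzb] at hx4
  exact ⟨x, ⟨hx, by rw [RootInvol.orderOf_swap]; exact hx4⟩, by rw [RootInvol.orderOf_swap]; exact hx3⟩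

end Cfsg.Agent.S5047
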