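import Cfsg.Statements.S5048
import Cfsg.Agent.Lib.Root.Invol
import Cfsg.Agent.Lib.Basics.Cores

set_option autoImplicit false
open Cfsg

namespace Cfsg.Agent.S5048

/-- Let G be a finite group generated by a set D of root involutions whose odd-order-product graph is connected, with some product of two different commuting members of D again in D. Then the largest solvable normal subgroup of G is the preimage of the centre of G/O₂(G), and the quotient of G by it is a simple group. -/
theorem result {G : Type*} [Group G] [Finite G] {D : Set G} (hD : Cfsg.IsRootInvolutionSet D)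
    (hc : Cfsg.IsConnectedSet (Cfsg.OddAdj D) D) (hDD : (D ∩ Cfsg.commutingProducts D).Nonempty) :
    Cfsg.solvableRadical G = Cfsg.twoZCore G ∧ IsSimpleGroup (G ⧸ Cfsg.twoZCore G) := by
  have : Fact (Nat.Prime 2) := ⟨Nat.prime_two⟩
  obtain ⟨w, hwD, a, ha, b, hb, hab, hab1, rfl⟩ := hDD
  have hne : a ≠ b := fun e => hab1 (by rw [e]; exact RootInvol.sq_one hD hb)
  have hpart : ∀ y ∈ D, ∃ g, g ∈ Cfsg.oddPartners D y := fun y hy =>
    RootInvol.exists_partner hc ha hb hne hy
  have hconj : ∀ x ∈ D, ∀ y ∈ D, ∃ g : G, g * x * g⁻¹ = y := fun x hx y hy =>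
    RootInvol.exists_conj_of_connected hD hx (hc x hx y hy)
  have hQ := Cfsg.Agent.Basics.pCore_isPGroup (G := G) 2
  -- members are not congruent to a partner modulo `O₂`
  have hQodd : ∀ d ∈ D, ∀ x ∈ Cfsg.oddPartners D d, d * x ∉ Cfsg.pCore 2 G := by
    intro d hd x hx h
    obtain ⟨k, hk⟩ := hQ ⟨_, h⟩
    have h1 := RootInvol.eq_one_of_odd_of_pow hx.2.2 (congrArg Subtype.val hk)
    exact hx.2.1 (by rw [← RootInvol.inv_self hD hd, inv_eq_of_mul_eq_one_right h1])
  -- every normal subgroup without members centralises `G / O₂(G)`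
  have hN : ∀ N : Subgroup G, N.Normal → N ≠ ⊤ → N ≤ Cfsg.twoZCore G := by
    intro N hN hNt
    have hND : ∀ d ∈ D, d ∉ N := by
      intro d hd hdN
      apply hNt
      rw [← top_le_iff, ← hD.generates, Subgroup.closure_le]
      intro y hy
      obtain ⟨g, rfl⟩ := hconj d hd y hy
      exact hN.conj_mem d hdN g
    have hcom : ∀ d ∈ D, ∀ n ∈ N, (n * d * n⁻¹) * d = d * (n * d * n⁻¹) := by
      intro d hd n hn
      have hd' := hD.conj_mem d hd n
      have hin : d * (n * d * n⁻¹) ∈ N := by
        rw [show d * (n * d * n⁻¹) = (d * n * d⁻¹) * ((d * d) * n⁻¹) by group,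
          RootInvol.sq_one hD hd, one_mul]
        exact mul_mem (hN.conj_mem n hn d) (inv_mem hn)
      rcases hD.pair d hd _ hd' with h | h | h
      · exact h.symm
      · by_cases he : d = n * d * n⁻¹
        · rw [← he]
        exfalso
        obtain ⟨g, hg⟩ := hconj a ha d hd
        have htr : RootInvol.IsTriple D d (g * b * g⁻¹) := by
          subst hg
          refine ⟨hd, hD.conj_mem b hb g, ?_, ?_⟩
          · rw [show g * a * g⁻¹ * (g * b * g⁻¹) = g * (a * b) * g⁻¹ by group]
            exact hD.conj_mem _ hwD g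
          · rw [show g * a * g⁻¹ * (g * b * g⁻¹) = g * (a * b) * g⁻¹ by group, hab]
            group
        obtain ⟨e, he'⟩ : ∃ e, e = g * b * g⁻¹ := ⟨_, rfl⟩
        rw [← he'] at htr
        obtain ⟨x, hx⟩ : ∃ x, x = n * d * n⁻¹ := ⟨_, rfl⟩
        rw [← hx] at h he hin hd'
        have hxo : x ∈ Cfsg.oddPartners D d := ⟨hd', Ne.symm he, h⟩
        -- modulo `N` both `e * x` and `d * e * x` are involutions of odd order
        have himg : (x : G ⧸ N) = (d : G ⧸ N) := by
          rw [QuotientGroup.eq, RootInvol.inv_self hD hd']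
          have h1 := inv_mem hin
          rwa [mul_inv_rev, RootInvol.inv_self hD hd', RootInvol.inv_self hD hd] at h1
        have hkill : ∀ u ∈ D, ∀ v ∈ D, (u : G ⧸ N) = ((v * x : G) : G ⧸ N) →
            x ∈ Cfsg.oddPartners D v → False := by
          intro u hu v hv huv hxv
          have h2 : ((v * x : G) : G ⧸ N) ^ 2 = 1 := by
            rw [← huv, ← QuotientGroup.mk_pow, pow_two, RootInvol.sq_one hD hu, QuotientGroup.mk_one]
          have h3 : Odd (orderOf ((v * x : G) : G ⧸ N)) :=
            hxv.2.2.of_dvd_nat (orderOf_map_dvd (QuotientGroup.mk' N) _)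
          have h4 := RootInvol.eq_one_of_odd_of_pow (k := 1) h3 (by rw [pow_one]; exact h2)
          rw [← huv, QuotientGroup.eq_one_iff] at h4
          exact hND u hu h4
        rcases htr.odd_or_odd hD hxo with hxe | hxe
        · refine hkill _ htr.prod e htr.right ?_ hxe
          rw [QuotientGroup.mk_mul, QuotientGroup.mk_mul, himg, ← QuotientGroup.mk_mul,
            ← QuotientGroup.mk_mul, htr.comm]
        · refine hkill e htr.right _ htr.prod ?_ hxe
          show (e : G ⧸ N) = ((d * e : G) : G ⧸ N) * (x : G ⧸ N)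
          rw [himg, ← QuotientGroup.mk_mul, htr.comm, mul_assoc,
            RootInvol.sq_one hD hd, mul_one]
      · exact absurd ((pow_mem hin 2 : _ ∈ N)) (hND _ h.2)
    -- the commutators of `N` with a member lie in `O₂(G)`
    have hcore : ∀ d ∈ D, ∀ n ∈ N, (n * d * n⁻¹) * d ∈ Cfsg.pCore 2 G := by
      intro d hd n hn
      have hdd := RootInvol.sq_one hD hd
      have hmemN : ∀ m ∈ N, m * d * m⁻¹ * d ∈ N := fun m hm => by
        rw [show m * d * m⁻¹ * d = m * (d * m⁻¹ * d⁻¹) * (d * d) by group, hdd, mul_one]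
        exact mul_mem hm (hN.conj_mem _ (inv_mem hm) d)
      obtain ⟨S, hS⟩ : ∃ S : Set ↥N, S = Set.range
          (fun m : ↥N => (⟨m * d * (m : G)⁻¹ * d, hmemN m m.2⟩ : ↥N)) := ⟨_, rfl⟩
      have hSc : ∀ x ∈ S, ∀ y ∈ S, x * y = y * x := by
        subst hS
        rintro _ ⟨m, rfl⟩ _ ⟨k, rfl⟩
        apply Subtype.ext
        show (m : G) * d * (m : G)⁻¹ * d * (k * d * (k : G)⁻¹ * d) =
          k * d * (k : G)⁻¹ * d * (m * d * (m : G)⁻¹ * d)
        have c1 : Commute (m * d * (m : G)⁻¹) d := hcom d hd m m.2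
        have c2 : Commute (k * d * (k : G)⁻¹) d := hcom d hd k k.2
        have c3 : Commute (m * d * (m : G)⁻¹) (k * d * (k : G)⁻¹) := by
          have h := hcom _ (hD.conj_mem d hd k) _ (mul_mem m.2 (inv_mem k.2))
          show _ = _
          calc _ = (↑m * (↑k)⁻¹) * (↑k * d * (↑k)⁻¹) * (↑m * (↑k : G)⁻¹)⁻¹ * (↑k * d * (↑k)⁻¹) := by
                group
            _ = _ := h
            _ = _ := by group
        exact ((c3.mul_right c1).mul_left (c2.symm.mul_right (Commute.refl d))).eq
      obtain ⟨M, hM⟩ : ∃ M, M = Subgroup.closure S := ⟨_, rfl⟩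
      have hMn : M.Normal := by
        rw [hM]
        refine ⟨fun x hx q => ?_⟩
        induction hx using Subgroup.closure_induction with
        | mem y hy =>
          rw [hS] at hy
          obtain ⟨m, rfl⟩ := hy
          have e : q * (⟨m * d * (m : G)⁻¹ * d, hmemN m m.2⟩ : ↥N) * q⁻¹ =
              (⟨_, hmemN _ (q * m).2⟩ : ↥N) * (⟨_, hmemN _ q.2⟩ : ↥N)⁻¹ := by
            apply Subtype.ext
            push_cast
            rw [mul_inv_rev ((q : G) * d * (q : G)⁻¹), mul_inv_rev ((q : G) * d)]
            simp only [mul_inv_rev, inv_inv, RootInvol.inv_self hD hd, mul_assoc]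
            rw [← mul_assoc d d, hdd, one_mul, inv_mul_cancel_left]
          rw [e]
          exact mul_mem (Subgroup.subset_closure (by rw [hS]; exact ⟨_, rfl⟩))
            (inv_mem (Subgroup.subset_closure (by rw [hS]; exact ⟨_, rfl⟩)))
        | one => simp
        | mul y z _ _ ey ez =>
          have := mul_mem ey ez
          rwa [show q * y * q⁻¹ * (q * z * q⁻¹) = q * (y * z) * q⁻¹ by group] at this
        | inv y _ ey =>
          have := inv_mem ey
          rwa [show (q * y * q⁻¹)⁻¹ = q * y⁻¹ * q⁻¹ by group] at this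
      have hM2 : IsPGroup 2 ↥M := by
        have hall : ∀ x ∈ M, x * x = 1 ∧ ∀ y ∈ S, x * y = y * x := by
          intro x hx
          rw [hM] at hx
          induction hx using Subgroup.closure_induction with
          | mem y hy =>
            refine ⟨?_, hSc y hy⟩
            rw [hS] at hy
            obtain ⟨m, rfl⟩ := hy
            apply Subtype.ext
            show (m : G) * d * (m : G)⁻¹ * d * (m * d * (m : G)⁻¹ * d) = 1
            rw [(show Commute d (m * d * (m : G)⁻¹) from (hcom d hd m m.2).symm).mul_mul_mul_comm,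
              hdd, mul_one]
            exact RootInvol.sq_one hD (hD.conj_mem d hd m)
          | one => simp
          | mul y z hy hz ey ez =>
            have hyz : Commute z y := by
              have hle : Subgroup.closure S ≤ Subgroup.centralizer {z} := (Subgroup.closure_le _).2
                fun t ht => Subgroup.mem_centralizer_singleton_iff.2 (ez.2 t ht).symm
              exact (Subgroup.mem_centralizer_singleton_iff.1 (hle hy)).symm
            refine ⟨by rw [hyz.mul_mul_mul_comm, ey.1, ez.1, one_mul], fun t ht => ?_⟩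
            exact ((show Commute y t from ey.2 t ht).mul_left (ez.2 t ht)).eq
          | inv y _ ey =>
            exact ⟨by rw [← mul_inv_rev, ey.1, inv_one],
              fun t ht => (show Commute y t from ey.2 t ht).inv_left.eq⟩
        exact fun x => ⟨1, Subtype.ext (by rw [pow_one, pow_two]; exact (hall x x.2).1)⟩
      have h1 : M.map N.subtype ≤ Cfsg.pCore 2 G := by
        have hle : M ≤ Cfsg.pCore 2 ↥N := Cfsg.Agent.Basics.le_pCore (hN := hMn) hM2
        have hn' : ((Cfsg.pCore 2 ↥N).map N.subtype).Normal := inferInstance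
        exact (Subgroup.map_mono hle).trans (Cfsg.Agent.Basics.le_pCore (hN := hn')
          ((Cfsg.Agent.Basics.pCore_isPGroup 2).map _))
      exact h1 ⟨⟨_, hmemN n hn⟩, hM ▸ Subgroup.subset_closure (by rw [hS]; exact ⟨⟨n, hn⟩, rfl⟩), rfl⟩
    intro n hn
    show (n : G ⧸ Cfsg.pCore 2 G) ∈ Subgroup.center (G ⧸ Cfsg.pCore 2 G)
    rw [Subgroup.mem_center_iff]
    intro q
    obtain ⟨q, rfl⟩ := QuotientGroup.mk_surjective q
    have hq : q ∈ Subgroup.closure D := hD.generates ▸ Subgroup.mem_top q
    induction hq using Subgroup.closure_induction with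
    | mem d hd =>
      have h1 := (QuotientGroup.eq_one_iff _).2 (hcore d hd n hn)
      simp only [QuotientGroup.mk_mul, QuotientGroup.mk_inv] at h1
      have hdinv : (d : G ⧸ Cfsg.pCore 2 G)⁻¹ = d := by
        rw [← QuotientGroup.mk_inv, RootInvol.inv_self hD hd]
      have h2 := eq_inv_of_mul_eq_one_left h1
      rw [hdinv, mul_inv_eq_iff_eq_mul] at h2
      exact h2.symm
    | one => simp
    | mul y z _ _ ey ez =>
      rw [QuotientGroup.mk_mul, mul_assoc, ez, ← mul_assoc, ey, mul_assoc]
    | inv y _ ey =>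
      rw [QuotientGroup.mk_inv]
      exact (Commute.inv_left (show Commute (y : G ⧸ Cfsg.pCore 2 G) n from ey)).eq
  -- the central quotient is not abelian
  have hnab : ∀ N : Subgroup G, N.Normal → N ≤ Cfsg.twoZCore G →
      ¬ ∀ x ∈ D, ∀ y ∈ D, x * y ∈ N := by
    intro N hN' hle h
    obtain ⟨x, hx⟩ := hpart a ha
    have hz : ((a * x : G) : G ⧸ Cfsg.pCore 2 G) ∈ Subgroup.center (G ⧸ Cfsg.pCore 2 G) :=
      hle (h a ha x hx.1)
    have hc1 := Subgroup.mem_center_iff.1 hz (a : G ⧸ Cfsg.pCore 2 G)
    rw [QuotientGroup.mk_mul] at hc1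
    have hax : Commute (a : G ⧸ Cfsg.pCore 2 G) (x : G ⧸ Cfsg.pCore 2 G) := by
      have haa : (a : G ⧸ Cfsg.pCore 2 G) * a = 1 := by
        rw [← QuotientGroup.mk_mul, RootInvol.sq_one hD ha, QuotientGroup.mk_one]
      show (a : G ⧸ Cfsg.pCore 2 G) * x = x * a
      rw [← mul_assoc, haa, one_mul] at hc1
      conv_rhs => rw [hc1, mul_assoc, mul_assoc]
      rw [← mul_assoc (x : G ⧸ Cfsg.pCore 2 G)]
      simp [haa, mul_assoc]
    have h2 : ((a * x : G) : G ⧸ Cfsg.pCore 2 G) ^ 2 = 1 := by
      rw [QuotientGroup.mk_mul, hax.mul_pow, ← QuotientGroup.mk_pow, ← QuotientGroup.mk_pow, pow_two,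
        pow_two, RootInvol.sq_one hD ha, RootInvol.sq_one hD hx.1, QuotientGroup.mk_one, one_mul]
    have h3 := RootInvol.eq_one_of_odd_of_pow (k := 1)
      (hx.2.2.of_dvd_nat (orderOf_map_dvd (QuotientGroup.mk' (Cfsg.pCore 2 G)) _))
      (by rw [pow_one]; exact h2)
    exact hQodd a ha x hx ((QuotientGroup.eq_one_iff _).1 h3)
  have hZt : Cfsg.twoZCore G ≠ ⊤ := fun h => hnab ⊤ inferInstance h.ge fun _ _ _ _ => Subgroup.mem_top _
  have hnsol : ¬ Group.IsSolvable G := by
    intro hs
    have : Nontrivial G := ⟨⟨a, 1, RootInvol.ne_one hD ha⟩⟩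
    have hle := hN (commutator G) inferInstance
      (Group.IsSolvable.commutator_lt_top_of_nontrivial (G := G)).ne
    refine hnab _ inferInstance hle fun x hx y hy => ?_
    obtain ⟨g, rfl⟩ := hconj x hx y hy
    have := Subgroup.commutator_mem_commutator (Subgroup.mem_top x) (Subgroup.mem_top g)
    rw [commutatorElement_def, RootInvol.inv_self hD hx] at this
    rw [commutator_def]
    convert this using 1
    group
  refine ⟨le_antisymm (sSup_le ?_) (le_sSup ⟨inferInstance, ?_⟩), ?_⟩
  · rintro N ⟨hN', hNs⟩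
    refine hN N hN' fun h => hnsol ?_
    subst h
    exact Group.isSolvable_of_surjective (f := (Subgroup.topEquiv : (⊤ : Subgroup G) ≃* G).toMonoidHom)
      (Subgroup.topEquiv : (⊤ : Subgroup G) ≃* G).surjective
  · have hle : Cfsg.pCore 2 G ≤ Cfsg.twoZCore G := fun x hx => by
      show (x : G ⧸ Cfsg.pCore 2 G) ∈ Subgroup.center _
      rw [(QuotientGroup.eq_one_iff x).2 hx]
      exact one_mem _
    have : Group.IsNilpotent ↥(Cfsg.pCore 2 G) := hQ.isNilpotent
    have : Group.IsSolvable ↥(Subgroup.center (G ⧸ Cfsg.pCore 2 G)) :=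
      Group.isSolvable_of_comm fun x y => Subtype.ext (Subgroup.mem_center_iff.1 y.2 x)
    refine Group.isSolvable_of_ker_le_range (Subgroup.inclusion hle)
      (((QuotientGroup.mk' (Cfsg.pCore 2 G)).comp (Cfsg.twoZCore G).subtype).codRestrict
        (Subgroup.center (G ⧸ Cfsg.pCore 2 G)) fun x => x.2) ?_
    intro x hx
    have hx' : (x : G) ∈ Cfsg.pCore 2 G := (QuotientGroup.eq_one_iff _).1 (congrArg Subtype.val hx)
    exact ⟨⟨x, hx'⟩, Subtype.ext rfl⟩
  · have : Nontrivial (G ⧸ Cfsg.twoZCore G) := by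
      rw [QuotientGroup.nontrivial_iff]
      exact hZt
    refine ⟨fun K hK => ?_⟩
    by_cases h : K.comap (QuotientGroup.mk' (Cfsg.twoZCore G)) = ⊤
    · right
      have := congrArg (Subgroup.map (QuotientGroup.mk' (Cfsg.twoZCore G))) h
      rwa [Subgroup.map_comap_eq_self_of_surjective (QuotientGroup.mk'_surjective _),
        Subgroup.map_top_of_surjective _ (QuotientGroup.mk'_surjective _)] at this
    · left
      rw [eq_bot_iff]
      intro q hq
      obtain ⟨q, rfl⟩ := QuotientGroup.mk_surjective q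
      exact Subgroup.mem_bot.2 ((QuotientGroup.eq_one_iff q).2 (hN _ (hK.comap _) h hq))

end Cfsg.Agent.S5048
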