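import Cfsg.Statements.S5049
-- import your own Cfsg.Agent.* helpers here
import Cfsg.Agent.Lib.Basics.Cores


set_option autoImplicit false
open Cfsg

namespace Cfsg.Agent.S5049

/-- Let G be a finite group generated by a set D of odd transpositions (root involutions with no product of order 4), Q = O₂(G), and for a ∈ D let Q_a be the commutator subgroup of Q with a. Then every member of D commuting with a centralizes Q_a; and for b ∈ D with ab of odd order greater than 1, the centralizer of ab in Q is the intersection of the centralizers of a and b in Q. -/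
theorem result {G : Type*} [Group G] [Finite G] {D : Set G} (hD : Cfsg.IsOddTranspositionSet D) {a : G} (ha : a ∈ D) :
    (∀ e ∈ Cfsg.commutingMembers D a, ∀ q ∈ ⁅Cfsg.pCore 2 G, Subgroup.zpowers a⁆, e * q = q * e) ∧
    (∀ b ∈ Cfsg.oddPartners D a,
      Cfsg.pCore 2 G ⊓ Subgroup.centralizer {a * b} = Cfsg.pCore 2 G ⊓ Subgroup.centralizer {a} ⊓ Subgroup.centralizer {b}) := by
  obtain ⟨hR, hD4⟩ := hD
  have hsq : ∀ e ∈ D, e * e = 1 := fun e he => by
    have := pow_orderOf_eq_one e
    rwa [hR.orderOf_eq e he, pow_two] at this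
  have : Fact (Nat.Prime 2) := ⟨Nat.prime_two⟩
  have hQ := Cfsg.Agent.Basics.pCore_isPGroup (G := G) 2
  -- a member commuting with `a` commutes with the conjugates of `a` under `Q`
  have key : ∀ e ∈ D, e * a = a * e → ∀ y ∈ pCore 2 G, e * (y * a * y⁻¹) = y * a * y⁻¹ * e := by
    intro e he hea y hy
    have hy' : y * a * y⁻¹ ∈ D := hR.conj_mem a ha y
    rcases hR.pair e he _ hy' with h | h | h
    · exact h
    · have hk : (e * (y * a * y⁻¹)) ^ 2 ∈ pCore 2 G := by
        have hm : (QuotientGroup.mk' (pCore 2 G)) (e * (y * a * y⁻¹)) =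
            QuotientGroup.mk' (pCore 2 G) (e * a) := by
          have hy1 : QuotientGroup.mk' (pCore 2 G) y = 1 := (QuotientGroup.eq_one_iff y).2 hy
          simp only [map_mul, map_inv, hy1, one_mul, inv_one, mul_one]
        rw [← QuotientGroup.eq_one_iff, ← QuotientGroup.mk'_apply, map_pow, hm, ← map_pow,
          show (e * a) ^ 2 = 1 from by
            rw [pow_two, show e * a * (e * a) = e * (a * e) * a by group, ← hea,
              show e * (e * a) * a = (e * e) * (a * a) by group, hsq e he, hsq a ha, one_mul],
          map_one]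
      obtain ⟨j, hj⟩ := hQ ⟨_, hk⟩
      have hj' : (e * (y * a * y⁻¹)) ^ (2 ^ (j + 1)) = 1 := by
        rw [pow_succ', pow_mul]
        exact congrArg Subtype.val hj
      obtain ⟨i, -, hi⟩ := (Nat.dvd_prime_pow Nat.prime_two).1 (orderOf_dvd_of_pow_eq_one hj')
      rw [hi] at h
      have hi0 : i = 0 := by
        by_contra hne
        exact (Nat.not_even_iff_odd.2 h) (Nat.even_pow.2 ⟨even_two, hne⟩)
      rw [hi0, pow_zero, orderOf_eq_one_iff] at hi
      rw [hi, eq_inv_of_mul_eq_one_left hi, mul_inv_cancel]
    · exact absurd h.1 (hD4 e he _ hy')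
  refine ⟨fun e he q hq => ?_, fun b hb => ?_⟩
  · have hle : ⁅pCore 2 G, Subgroup.zpowers a⁆ ≤ Subgroup.centralizer {e} := by
      rw [Subgroup.commutator_le]
      intro y hy z hz
      rw [Subgroup.mem_centralizer_singleton_iff]
      obtain ⟨n, rfl⟩ := Subgroup.mem_zpowers_iff.1 hz
      show Commute (y * a ^ n * y⁻¹ * (a ^ n)⁻¹) e
      rw [show y * a ^ n * y⁻¹ = (y * a * y⁻¹) ^ n from (conj_zpow).symm]
      exact ((Commute.zpow_left (key e he.1 he.2 y hy : Commute e _).symm n)).mul_left
        ((Commute.zpow_left (he.2 : Commute e a).symm n).inv_left)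
    exact (Subgroup.mem_centralizer_singleton_iff.1 (hle hq)).symm
  · refine le_antisymm (fun q hq => ?_) (fun q hq => ?_)
    swap
    · obtain ⟨⟨h1, h2⟩, h3⟩ := hq
      replace h2 := Subgroup.mem_centralizer_singleton_iff.1 h2
      replace h3 := Subgroup.mem_centralizer_singleton_iff.1 h3
      exact ⟨h1, Subgroup.mem_centralizer_singleton_iff.2 (Commute.mul_right h2 h3).eq⟩
    obtain ⟨hqQ, hqc⟩ := hq
    replace hqc := Subgroup.mem_centralizer_singleton_iff.1 hqc
    obtain ⟨hbD, hba, hodd⟩ := hb
    have hqa : Commute q a := by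
      set w := q * a * q⁻¹ * a with hw
      have haw : q * a * q⁻¹ = w * a := by rw [hw, mul_assoc _ a a, hsq a ha, mul_one]
      have hcom : Commute a (q * a * q⁻¹) := key a ha rfl q hqQ
      have hwa : Commute w a := hcom.symm.mul_left (Commute.refl a)
      have hwc : Commute w (a * b) := by
        have hinv : ∀ x ∈ D, ∀ y ∈ D, x * (x * y) * x = (x * y)⁻¹ := fun x hx y hy => by
          rw [← mul_assoc, hsq x hx, one_mul, mul_inv_rev, inv_eq_of_mul_eq_one_left (hsq x hx),
            inv_eq_of_mul_eq_one_left (hsq y hy)]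
        have h1 := hinv a ha b hbD
        have ha' : a⁻¹ = a := inv_eq_of_mul_eq_one_left (hsq a ha)
        show (q * a * q⁻¹ * a) * (a * b) = (a * b) * (q * a * q⁻¹ * a)
        have hac : a * (a * b) = (a * b)⁻¹ * a := by rw [← h1, mul_assoc _ a a, hsq a ha, mul_one]
        have hac' : a * (a * b)⁻¹ = (a * b) * a := by
          rw [← h1, ← mul_assoc, ← mul_assoc, hsq a ha, one_mul]
        calc (q * a * q⁻¹ * a) * (a * b) = q * a * (q⁻¹ * (a * b)⁻¹) * a := by
              rw [mul_assoc _ a (a * b), hac]; group
          _ = q * a * ((a * b)⁻¹ * q⁻¹) * a := by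
              rw [(Commute.inv_left (Commute.inv_right (hqc : Commute q (a * b)))).eq]
          _ = q * (a * (a * b)⁻¹) * q⁻¹ * a := by group
          _ = q * (a * b) * a * q⁻¹ * a := by rw [hac']; group
          _ = (a * b) * (q * a * q⁻¹ * a) := by rw [hqc]; group
      have hwb : Commute w b := by
        have := hwa.mul_right hwc
        rwa [← mul_assoc, hsq a ha, one_mul] at this
      by_contra hne
      have hw1 : w ≠ 1 := by
        intro h0
        apply hne
        rw [h0, one_mul] at haw
        show q * a = a * q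
        conv_rhs => rw [← haw]
        group
      have hww : w * w = 1 := by
        have h2 := hsq _ (hR.conj_mem a ha q)
        rw [haw] at h2
        rwa [show w * a * (w * a) = w * (a * w) * a by group, ← hwa.eq,
          show w * (w * a) * a = w * w * (a * a) by group, hsq a ha, mul_one] at h2
      have how : orderOf w = 2 := orderOf_eq_prime (by rw [pow_two, hww]) hw1
      have hord : orderOf (w * (a * b)) = 2 * orderOf (a * b) := by
        rw [hwc.orderOf_mul_eq_mul_orderOf_of_coprime (by rw [how]; exact Nat.coprime_two_left.2 hodd), how]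
      have hcomm : w * a * b = b * (w * a) := by
        rcases hR.pair _ (hR.conj_mem a ha q) b hbD with h | h | h
        · rwa [haw] at h
        · rw [haw, mul_assoc, hord] at h
          exact absurd h (by simp)
        · exact absurd h.1 (hD4 _ (hR.conj_mem a ha q) b hbD)
      rw [← mul_assoc b, ← hwb.eq, mul_assoc, mul_assoc w, mul_right_inj] at hcomm
      have h2 : (a * b) ^ 2 = 1 := by
        rw [pow_two]
        conv_lhs => arg 2; rw [hcomm]
        rw [← mul_assoc, mul_assoc a b b, hsq b hbD, mul_one, hsq a ha]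
      rcases (Nat.dvd_prime Nat.prime_two).1 (orderOf_dvd_of_pow_eq_one h2) with h | h
      · rw [orderOf_eq_one_iff] at h
        refine hba ?_
        rw [eq_inv_of_mul_eq_one_left h]
        exact (inv_eq_of_mul_eq_one_left (hsq b hbD)).symm
      · rw [h] at hodd
        exact absurd hodd (by decide)
    refine ⟨⟨hqQ, Subgroup.mem_centralizer_singleton_iff.2 hqa⟩, Subgroup.mem_centralizer_singleton_iff.2 ?_⟩
    have h3 : Commute q (a * (a * b)) := hqa.mul_right hqc
    rw [← mul_assoc, hsq a ha, one_mul] at h3
    exact h3.eq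

end Cfsg.Agent.S5049
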