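import Cfsg.Statements.S5057
-- import your own Cfsg.Agent.* helpers here


set_option autoImplicit false
open Cfsg

namespace Cfsg.Agent.S5057

/-- The involutions of the alternating group of degree 6 form a class of root involutions (a single conjugacy class of involutions generating the group, any two of which commute, have product of odd order, or have product of order 4 whose square is again an involution of the class), and the product of any two of them has order at most 5. -/
theorem result :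
    Cfsg.IsRootInvolutionClass {g : ↥(alternatingGroup (Fin 6)) | orderOf g = 2} ∧
    ∀ d ∈ {g : ↥(alternatingGroup (Fin 6)) | orderOf g = 2}, ∀ e ∈ {g : ↥(alternatingGroup (Fin 6)) | orderOf g = 2},
      orderOf (d * e) ≤ 5 := by
  have hconjA : ∀ σ τ : ↥(alternatingGroup (Fin 6)), orderOf σ = 2 → orderOf τ = 2 → IsConj σ τ := by
    have hct : ∀ σ : ↥(alternatingGroup (Fin 6)), orderOf σ = 2 →
        (σ : Equiv.Perm (Fin 6)).cycleType = {2, 2} := by
      intro σ hσ
      rw [← Subgroup.orderOf_coe] at hσ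
      obtain ⟨n, hn⟩ := Equiv.Perm.cycleType_prime_order (hσ ▸ Nat.prime_two)
      rw [hσ] at hn
      have h6 := Equiv.Perm.sum_cycleType_le (σ : Equiv.Perm (Fin 6))
      rw [hn, Multiset.sum_replicate, Fintype.card_fin, smul_eq_mul] at h6
      have hsg : Equiv.Perm.sign (σ : Equiv.Perm (Fin 6)) = 1 :=
        Equiv.Perm.mem_alternatingGroup.1 σ.2
      rw [Equiv.Perm.sign_of_cycleType, hn] at hsg
      rw [hn]
      have : n ≤ 2 := by omega
      interval_cases n <;> first | rfl | (revert hsg; decide)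
    intro σ τ hσ hτ
    obtain ⟨π, hπ⟩ := isConj_iff.1 (Equiv.Perm.isConj_iff_cycleType_eq.2 ((hct σ hσ).trans (hct τ hτ).symm))
    rw [isConj_iff]
    rcases Int.units_eq_one_or (Equiv.Perm.sign π) with h | h
    · exact ⟨⟨π, Equiv.Perm.mem_alternatingGroup.2 h⟩, Subtype.ext hπ⟩
    · have hne : (σ : Equiv.Perm (Fin 6)) ≠ 1 := by
        intro e
        rw [← Subgroup.orderOf_coe, e, orderOf_one] at hσ
        omega
      obtain ⟨a, ha⟩ : ∃ a, (σ : Equiv.Perm (Fin 6)) a ≠ a := by
        by_contra hh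
        exact hne (Equiv.ext fun x => not_not.1 fun hx => hh ⟨x, hx⟩)
      have hs2 : (σ : Equiv.Perm (Fin 6)) * σ = 1 := by
        have := pow_orderOf_eq_one (σ : Equiv.Perm (Fin 6))
        rw [Subgroup.orderOf_coe, hσ, pow_two] at this
        exact this
      have hcomm : (σ : Equiv.Perm (Fin 6)) * Equiv.swap a (σ.1 a) =
          Equiv.swap a (σ.1 a) * σ := by
        rw [Equiv.mul_swap_eq_swap_mul, show σ.1 (σ.1 a) = a from Equiv.Perm.congr_fun hs2 a,
          Equiv.swap_comm]
      refine ⟨⟨π * Equiv.swap a (σ.1 a), Equiv.Perm.mem_alternatingGroup.2 (by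
        rw [map_mul, h, Equiv.Perm.sign_swap (Ne.symm ha)]; decide)⟩, Subtype.ext ?_⟩
      show π * Equiv.swap a (σ.1 a) * σ.1 * (π * Equiv.swap a (σ.1 a))⁻¹ = τ.1
      rw [mul_assoc π, ← hcomm, ← hπ]
      group
  have hord : ∀ g : ↥(alternatingGroup (Fin 6)), orderOf g ≤ 5 := by
    have h5 : ∀ g : Equiv.Perm (Fin 6), Equiv.Perm.sign g = 1 →
        g ^ 1 = 1 ∨ g ^ 2 = 1 ∨ g ^ 3 = 1 ∨ g ^ 4 = 1 ∨ g ^ 5 = 1 := by decide +kernel
    intro g
    rw [← Subgroup.orderOf_coe]
    rcases h5 g (Equiv.Perm.mem_alternatingGroup.1 g.2) with h | h | h | h | h <;>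
      exact (orderOf_le_of_pow_eq_one (by norm_num) h).trans (by norm_num)
  refine ⟨⟨⟨fun d hd => hd, ?_, fun d hd g => ?_, fun a ha b hb => ?_⟩, ?_, fun a ha b hb => ?_⟩,
    fun d _ e _ => hord _⟩
  · have : IsSimpleGroup ↥(alternatingGroup (Fin 6)) := alternatingGroup.isSimpleGroup (by simp)
    have hn : (Subgroup.closure {g : ↥(alternatingGroup (Fin 6)) | orderOf g = 2}).Normal := by
      refine ⟨fun x hx g => ?_⟩
      induction hx using Subgroup.closure_induction with
      | mem x hx => exact Subgroup.subset_closure (by (show orderOf (g * x * g⁻¹) = 2; rwa [← MulAut.conj_apply, MulEquiv.orderOf_eq]))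
      | one => simp
      | mul x y _ _ hx hy => rw [show g * (x * y) * g⁻¹ = (g * x * g⁻¹) * (g * y * g⁻¹) by group]; exact mul_mem hx hy
      | inv x _ hx => rw [show g * x⁻¹ * g⁻¹ = (g * x * g⁻¹)⁻¹ by group]; exact inv_mem hx
    refine hn.eq_bot_or_eq_top.resolve_left fun h => ?_
    let d : ↥(alternatingGroup (Fin 6)) :=
      ⟨Equiv.swap 0 1 * Equiv.swap 2 3, Equiv.Perm.mem_alternatingGroup.2 (by decide)⟩
    have hd1 : d ≠ 1 := by decide
    have hd : orderOf d = 2 := orderOf_eq_prime (by decide) hd1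
    exact hd1 (Subgroup.mem_bot.1 (h ▸ Subgroup.subset_closure hd))
  · show orderOf (g * d * g⁻¹) = 2
    rw [← MulAut.conj_apply, MulEquiv.orderOf_eq]
    exact hd
  · have hfin := orderOf_pos (a * b)
    have h5 := hord (a * b)
    interval_cases hn : orderOf (a * b)
    · left
      rw [orderOf_eq_one_iff] at hn
      rw [hn, eq_inv_of_mul_eq_one_left hn, mul_inv_cancel]
    · left
      have h2 := pow_orderOf_eq_one (a * b)
      have ha2 := pow_orderOf_eq_one a
      have hb2 := pow_orderOf_eq_one b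
      rw [show orderOf a = 2 from ha, pow_two] at ha2
      rw [show orderOf b = 2 from hb, pow_two] at hb2
      rw [hn, pow_two] at h2
      calc a * b = (a * b)⁻¹ := eq_inv_of_mul_eq_one_left h2
        _ = b * a := by rw [mul_inv_rev, inv_eq_of_mul_eq_one_left ha2, inv_eq_of_mul_eq_one_left hb2]
    · exact Or.inr (Or.inl (by decide))
    · refine Or.inr (Or.inr ⟨rfl, ?_⟩)
      show orderOf ((a * b) ^ 2) = 2
      rw [orderOf_pow, hn]; rfl
    · exact Or.inr (Or.inl (by decide))
  · exact ⟨⟨Equiv.swap 0 1 * Equiv.swap 2 3, Equiv.Perm.mem_alternatingGroup.2 (by decide)⟩,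
      orderOf_eq_prime (by decide) (by decide)⟩
  · obtain ⟨g, hg⟩ := isConj_iff.1 (hconjA a b ha hb)
    exact ⟨g, hg.symm⟩

end Cfsg.Agent.S5057
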