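import Cfsg.Statements.S5058
import Cfsg.Agent.Lib.Root.SLExample

set_option autoImplicit false
open Matrix
open Cfsg

namespace Cfsg.Agent.S5058

noncomputable section
open Matrix

theorem sl_two_odd {F : Type*} [Field F] [Fintype F] [CharP F 2] {s r : F} (hs : s ≠ 0) (hr : r ≠ 0) :
    Odd (orderOf (RootLib.uEl s * RootLib.lEl r)) := by
  obtain ⟨M, hM⟩ : ∃ M, M = RootLib.uEl s * RootLib.lEl r := ⟨_, rfl⟩
  rw [← hM]
  rw [Nat.odd_iff, ← Nat.two_dvd_ne_zero]
  intro hdvd
  obtain ⟨k, hk⟩ := hdvd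
  have hpos : 0 < orderOf M := orderOf_pos M
  have hne : M ^ k ≠ 1 := pow_ne_one_of_lt_orderOf (by omega) (by omega)
  have hsq : M ^ k * M ^ k = 1 := by rw [← pow_add, ← two_mul, ← hk, pow_orderOf_eq_one]
  have hc : M * M ^ k = M ^ k * M := (Commute.self_pow M k).eq
  obtain ⟨Z, hZ⟩ : ∃ Z, Z = (M ^ k).1 - 1 := ⟨_, rfl⟩
  have hZe : (M ^ k).1 = 1 + Z := by rw [hZ, add_sub_cancel]
  have hc' : M.1 * Z = Z * M.1 := by
    have := congrArg Subtype.val hc
    rw [Matrix.SpecialLinearGroup.coe_mul, Matrix.SpecialLinearGroup.coe_mul] at this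
    rw [hZ, mul_sub, sub_mul, this, mul_one, one_mul]
  have hZ2 : Z * Z = 0 := by
    have := congrArg Subtype.val hsq
    rw [Matrix.SpecialLinearGroup.coe_mul, Matrix.SpecialLinearGroup.coe_one, hZe] at this
    have h2 : Z + Z = 0 := by rw [← two_smul F Z, CharTwo.two_eq_zero (R := F), zero_smul]
    have e : Z * Z = (1 + Z) * (1 + Z) - 1 - (Z + Z) := by noncomm_ring
    rw [e, this, h2, sub_self, sub_zero]
  have e00 := congrFun (congrFun hc' 0) 0
  have e01 := congrFun (congrFun hc' 0) 1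
  have f00 := congrFun (congrFun hZ2 0) 0
  have f11 := congrFun (congrFun hZ2 1) 1
  simp only [hM, Matrix.SpecialLinearGroup.coe_mul, RootLib.uEl_val, RootLib.lEl_val, Matrix.mul_apply,
    Fin.sum_univ_two, Matrix.of_apply, Matrix.cons_val', Matrix.cons_val_zero, Matrix.cons_val_one,
    Matrix.cons_val_fin_one, Matrix.zero_apply] at e00 e01 f00 f11
  have h1 : Z 0 0 = Z 1 1 + r * Z 0 1 := by
    refine mul_left_cancel₀ hs ?_
    linear_combination -e01
  have h2 : Z 0 1 = 0 := by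
    have hd : (Z 0 0 - Z 1 1) * (Z 0 0 - Z 1 1) = 0 := by
      have h20 : (2 : F) = 0 := CharTwo.two_eq_zero
      linear_combination f00 - f11 + (Z 1 1 * Z 1 1 - Z 0 0 * Z 1 1) * h20
    rcases mul_eq_zero.1 hd with h | h <;>
    · rw [h1, add_sub_cancel_left] at h
      exact (mul_eq_zero.1 h).resolve_left hr
  have h3 : Z 1 1 = 0 := by
    rw [h2, mul_zero, zero_add] at f11
    exact (mul_self_eq_zero.1 f11)
  have h4 : Z 1 0 = 0 := by
    refine mul_left_cancel₀ hs ?_
    linear_combination e00 + r * h2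
  have h5 : Z 0 0 = 0 := by rw [h1, h2, h3, mul_zero, add_zero]
  refine hne (Subtype.ext ?_)
  rw [hZe, Matrix.SpecialLinearGroup.coe_one]
  ext i j
  fin_cases i <;> fin_cases j <;> simp [h2, h3, h4, h5]


/-- Let F be a finite field of characteristic 2 and n a natural number. Then the transvections of SL_{n+3}(F) (so in every dimension at least 3) (the conjugates of the elementary matrices 1 + c E₁₂, c ≠ 0) form a class of root involutions of SL_{n+3}(F); when F has two elements they form a class of {3,4}⁺-transpositions (every product of odd order has order 1 or 3). -/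
theorem result (F : Type*) [Field F] [Fintype F] [CharP F 2] (n : ℕ) :
    Cfsg.IsRootInvolutionClass {t : Matrix.SpecialLinearGroup (Fin (n + 3)) F | ∃ c : F, c ≠ 0 ∧
        ∃ g : Matrix.SpecialLinearGroup (Fin (n + 3)) F, ((g⁻¹ * t * g : Matrix.SpecialLinearGroup (Fin (n + 3)) F) :
          Matrix (Fin (n + 3)) (Fin (n + 3)) F) = Matrix.transvection 0 1 c} ∧
    (Fintype.card F = 2 → Cfsg.IsThreeFourPlusTranspositionSet {t : Matrix.SpecialLinearGroup (Fin (n + 3)) F | ∃ c : F, c ≠ 0 ∧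
        ∃ g : Matrix.SpecialLinearGroup (Fin (n + 3)) F, ((g⁻¹ * t * g : Matrix.SpecialLinearGroup (Fin (n + 3)) F) :
          Matrix (Fin (n + 3)) (Fin (n + 3)) F) = Matrix.transvection 0 1 c}) := by
  obtain ⟨D, hD⟩ : ∃ D : Set (Matrix.SpecialLinearGroup (Fin (n + 3)) F), D = {t | ∃ c : F, c ≠ 0 ∧
      ∃ g : Matrix.SpecialLinearGroup (Fin (n + 3)) F, ((g⁻¹ * t * g : Matrix.SpecialLinearGroup (Fin (n + 3)) F) :
        Matrix (Fin (n + 3)) (Fin (n + 3)) F) = Matrix.transvection 0 1 c} := ⟨_, rfl⟩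
  rw [← hD]
  have h20 : (2 : F) = 0 := CharTwo.two_eq_zero
  have h01 : (0 : Fin (n + 3)) ≠ 1 := by simp
  have h10 : (Pi.single 1 1 : Fin (n + 3) → F) ⬝ᵥ Pi.single 0 1 = 0 := by simp [h01]
  have htr : ∀ c : F, Matrix.transvection (0 : Fin (n + 3)) 1 c =
      1 + c • vecMulVec (Pi.single 0 1) (Pi.single 1 1) := fun c => by
    rw [Matrix.transvection, ← Matrix.single_eq_single_vecMulVec_single, Matrix.smul_single, smul_eq_mul,
      mul_one]
  -- members are transvections `1 + v ⊗ φ`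
  have hmem : ∀ t, t ∈ D ↔ ∃ v φ : Fin (n + 3) → F, v ≠ 0 ∧ φ ≠ 0 ∧ φ ⬝ᵥ v = 0 ∧
      t.1 = 1 + (1 : F) • vecMulVec v φ := by
    intro t
    rw [hD]
    constructor
    · rintro ⟨c, hc, g, hg⟩
      obtain ⟨e, he⟩ := RootLib.SLEx.conjBy_TG h10 g
      obtain ⟨v, hv⟩ : ∃ v, v = c • (g.1 *ᵥ Pi.single 0 1) := ⟨_, rfl⟩
      have hte : t.1 = 1 + (1 : F) • vecMulVec v ((Pi.single 1 1) ᵥ* (g⁻¹).1) := by
        have : t = g * (g⁻¹ * t * g) * g⁻¹ := by group
        rw [this, SLGen.cmul, SLGen.cmul, hg, htr, mul_add, add_mul, mul_one, ← SLGen.cmul, mul_inv_cancel,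
          SLGen.cone, mul_smul_comm, smul_mul_assoc, mul_vecMulVec, vecMulVec_mul, one_smul, hv,
          smul_vecMulVec]
      refine ⟨v, (Pi.single 1 1) ᵥ* (g⁻¹).1, ?_, ?_, by rw [hv, dotProduct_smul, he, smul_zero], hte⟩
      · rw [hv]
        refine smul_ne_zero hc fun e0 => ?_
        have := congrArg ((g⁻¹).1 *ᵥ ·) e0
        simp only [mulVec_zero, mulVec_mulVec, ← SLGen.cmul, inv_mul_cancel, SLGen.cone, one_mulVec] at this
        simp at this
      · intro e0
        have := congrArg (· ᵥ* g.1) e0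
        simp only [zero_vecMul, vecMul_vecMul, ← SLGen.cmul, inv_mul_cancel, SLGen.cone, vecMul_one] at this
        simp at this
    · rintro ⟨v, φ, hv, hφ, h, ht⟩
      obtain ⟨g, hg, hdet⟩ := TransvGL.exists_conj
        (TransvGL.isTransvection_of_data (a := (Pi.single 0 1 : Fin (n + 3) → F)) (by simp) (by simp) h10)
        (TransvGL.isTransvection_of_data hv hφ h)
      let s : Matrix.SpecialLinearGroup (Fin (n + 3)) F := ⟨g.1, hdet (by omega)⟩
      refine ⟨1, one_ne_zero, s, ?_⟩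
      rw [htr, one_smul, SLGen.cmul, SLGen.cmul, ht, one_smul, mul_assoc,
        show (1 + vecMulVec v φ) * s.1 = s.1 * (1 + vecMulVec (Pi.single 0 1) (Pi.single 1 1)) from hg.symm,
        ← mul_assoc, ← SLGen.cmul, inv_mul_cancel, SLGen.cone, one_mul]
  have hne1 : ∀ t ∈ D, t ≠ 1 := by
    intro t ht e
    obtain ⟨v, φ, hv, hφ, h, hte⟩ := (hmem t).1 ht
    apply RootLib.SLEx.TG_ne_bot hv hφ h
    rw [Subgroup.eq_bot_iff_forall]
    intro x hx
    obtain ⟨c, hc⟩ := (RootLib.SLEx.mem_TG h).1 hx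
    rw [e, SLGen.cone, one_smul, left_eq_add] at hte
    exact SLGen.coe_ext (by rw [hc, hte, smul_zero, add_zero, SLGen.cone])
  have hsq : ∀ t ∈ D, t * t = 1 := by
    intro t ht
    obtain ⟨v, φ, -, -, h, hte⟩ := (hmem t).1 ht
    apply SLGen.coe_ext
    rw [SLGen.cmul, SLGen.cone, hte]
    simp only [add_mul, mul_add, one_mul, mul_one, smul_mul_smul_comm, RootLib.SLEx.vv_zero h, smul_zero,
      add_zero]
    rw [add_assoc, ← two_smul F, h20, zero_smul, add_zero]
  have hinv : ∀ t ∈ D, t⁻¹ = t := fun t ht => inv_eq_of_mul_eq_one_right (hsq t ht)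
  have hord : ∀ t ∈ D, orderOf t = 2 := fun t ht =>
    orderOf_eq_prime (by rw [pow_two]; exact hsq t ht) (hne1 t ht)
  -- products of two members
  have key : ∀ a ∈ D, ∀ b ∈ D, a * b = b * a ∨
      (Odd (orderOf (a * b)) ∧ (Fintype.card F = 2 → orderOf (a * b) ∣ 3)) ∨
      (orderOf (a * b) = 4 ∧ (a * b) ^ 2 ∈ D) := by
    intro a ha b hb
    obtain ⟨v, φ, hv, hφ, h, hae⟩ := (hmem a).1 ha
    obtain ⟨w, ψ, hw, hψ, h', hbe⟩ := (hmem b).1 hb
    have four : ∀ z ∈ D, (a * b) ^ 2 = z → orderOf (a * b) = 4 ∧ (a * b) ^ 2 ∈ D := by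
      intro z hz e
      have h4 := orderOf_eq_prime_pow (x := a * b) (p := 2) (n := 1)
        (by rw [pow_one, e]; exact hne1 z hz) (by rw [pow_succ, pow_mul, pow_one, e, pow_two, hsq z hz])
      exact ⟨h4, e ▸ hz⟩
    have hpow : (a * b) ^ 2 = a * b * a⁻¹ * b⁻¹ := by rw [hinv a ha, hinv b hb, pow_two]; group
    by_cases hα : φ ⬝ᵥ w = 0
    · by_cases hβ : ψ ⬝ᵥ v = 0
      · exact Or.inl (RootLib.SLEx.TG_comm h h' hα hβ a ((RootLib.SLEx.mem_TG h).2 ⟨1, hae⟩) b
          ((RootLib.SLEx.mem_TG h').2 ⟨1, hbe⟩))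
      · obtain ⟨z, hz⟩ := RootLib.SLEx.exists_el hα (1 * 1 * (ψ ⬝ᵥ v))
        have hzD : z ∈ D := (hmem z).2 ⟨(1 * 1 * (ψ ⬝ᵥ v)) • w, φ, smul_ne_zero (by simpa using hβ) hw, hφ,
          by rw [dotProduct_smul, hα, smul_zero], by rw [hz, one_smul, smul_vecMulVec]⟩
        refine Or.inr (Or.inr (four z hzD ?_))
        rw [hpow, ← hinv z hzD, ← RootLib.SLEx.comm_formula h' h hα hbe hae hz]
        group
    · by_cases hβ : ψ ⬝ᵥ v = 0
      · obtain ⟨z, hz⟩ := RootLib.SLEx.exists_el hβ (1 * 1 * (φ ⬝ᵥ w))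
        have hzD : z ∈ D := (hmem z).2 ⟨(1 * 1 * (φ ⬝ᵥ w)) • v, ψ, smul_ne_zero (by simpa using hα) hv, hψ,
          by rw [dotProduct_smul, hβ, smul_zero], by rw [hz, one_smul, smul_vecMulVec]⟩
        exact Or.inr (Or.inr (four z hzD (by rw [hpow, RootLib.SLEx.comm_formula h h' hβ hae hbe hz])))
      · refine Or.inr (Or.inl ?_)
        obtain ⟨-, f, -, hker, hu, hl⟩ := RootLib.SLEx.exists_hom h h' hα hβ
        obtain ⟨x, hx, hxa⟩ : a ∈ (Cfsg.upperUnipotentSL2 F).map f :=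
          hu ▸ (RootLib.SLEx.mem_TG h).2 ⟨1, hae⟩
        obtain ⟨y, hy, hyb⟩ : b ∈ (Cfsg.lowerUnipotentSL2 F).map f :=
          hl ▸ (RootLib.SLEx.mem_TG h').2 ⟨1, hbe⟩
        obtain ⟨s, rfl⟩ := RootLib.mem_upper.1 hx
        obtain ⟨r, rfl⟩ := RootLib.mem_lower.1 hy
        have hs : s ≠ 0 := fun e => hne1 a ha (by rw [← hxa, e, RootLib.uEl_zero, map_one])
        have hr : r ≠ 0 := fun e => hne1 b hb (by rw [← hyb, e, RootLib.lEl_zero, map_one])
        have hd : orderOf (a * b) ∣ orderOf (RootLib.uEl s * RootLib.lEl r) := by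
          rw [← hxa, ← hyb, ← map_mul]
          exact orderOf_map_dvd f _
        refine ⟨Odd.of_dvd_nat (sl_two_odd hs hr) hd, fun hq => hd.trans ?_⟩
        have hone : ∀ x : F, x ≠ 0 → x = 1 := by
          classical
          intro x hx
          by_contra hx1
          have h3 : ({0, 1, x} : Finset F).card ≤ 2 := (Finset.card_le_univ _).trans hq.le
          rw [Finset.card_insert_of_notMem (by simp [Ne.symm hx]),
            Finset.card_insert_of_notMem (by simp [Ne.symm hx1]), Finset.card_singleton] at h3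
          omega
        rw [hone s hs, hone r hr]
        refine orderOf_dvd_of_pow_eq_one (Subtype.ext ?_)
        ext i j
        fin_cases i <;> fin_cases j <;>
          simp [pow_succ, Matrix.mul_apply, Fin.sum_univ_two, CharTwo.add_self_eq_zero]
  have hgen : Subgroup.closure D = ⊤ := by
    rw [← top_le_iff, ← LinGrp.closure_transvectionSet, Subgroup.closure_le]
    rintro g ⟨i, j, hij, a, rfl⟩
    by_cases ha : a = 0
    · have : Matrix.SpecialLinearGroup.transvection hij a = 1 := SLGen.coe_ext (by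
        rw [Matrix.SpecialLinearGroup.transvection_coe, ha, Matrix.single_zero, add_zero, SLGen.cone])
      rw [this]
      exact one_mem _
    refine Subgroup.subset_closure ((hmem _).2 ⟨a • Pi.single i 1, Pi.single j 1, smul_ne_zero ha (by simp),
      by simp, by simp [hij], ?_⟩)
    rw [Matrix.SpecialLinearGroup.transvection_coe, one_smul, smul_vecMulVec,
      ← Matrix.single_eq_single_vecMulVec_single, Matrix.smul_single, smul_eq_mul, mul_one]
  have hset : Cfsg.IsRootInvolutionSet D := by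
    refine ⟨hord, hgen, fun t ht g => ?_, fun a ha b hb => ?_⟩
    · rw [hD] at ht ⊢
      obtain ⟨c, hc, g', hg⟩ := ht
      exact ⟨c, hc, g * g', by rw [show (g * g')⁻¹ * (g * t * g⁻¹) * (g * g') = g'⁻¹ * t * g' by group]; exact hg⟩
    · rcases key a ha b hb with h | h | h
      · exact Or.inl h
      · exact Or.inr (Or.inl h.1)
      · exact Or.inr (Or.inr h)
  have hconj : ∀ a ∈ D, ∀ b ∈ D, ∃ g, b = g * a * g⁻¹ := by
    intro a ha b hb
    obtain ⟨v, φ, hv, hφ, h, hae⟩ := (hmem a).1 ha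
    obtain ⟨w, ψ, hw, hψ, h', hbe⟩ := (hmem b).1 hb
    obtain ⟨g, hg, hdet⟩ := TransvGL.exists_conj (TransvGL.isTransvection_of_data hv hφ h)
      (TransvGL.isTransvection_of_data hw hψ h')
    let s : Matrix.SpecialLinearGroup (Fin (n + 3)) F := ⟨g.1, hdet (by omega)⟩
    refine ⟨s, eq_mul_inv_of_mul_eq (SLGen.coe_ext ?_)⟩
    rw [SLGen.cmul, SLGen.cmul, hae, hbe, one_smul, one_smul]
    exact hg.symm
  refine ⟨⟨hset, ?_, hconj⟩, fun hq => ⟨hset, fun a ha b hb hodd => ?_⟩⟩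
  · obtain ⟨t, ht⟩ := RootLib.SLEx.exists_el h10 1
    exact ⟨t, (hmem t).2 ⟨_, _, by simp, by simp, h10, ht⟩⟩
  · rcases key a ha b hb with h | ⟨-, h⟩ | h
    · left
      have hd : orderOf (a * b) ∣ 2 := orderOf_dvd_of_pow_eq_one (by
        rw [(show Commute a b from h).mul_pow, pow_two, pow_two, hsq a ha, hsq b hb, one_mul])
      rcases (Nat.dvd_prime Nat.prime_two).1 hd with e | e
      · exact e
      · rw [e] at hodd; exact absurd hodd (by decide)
    · exact (Nat.dvd_prime Nat.prime_three).1 (h hq)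
    · rw [h.1] at hodd; exact absurd hodd (by decide)

end
end Cfsg.Agent.S5058
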