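import Cfsg.Statements.S5059
-- import your own Cfsg.Agent.* helpers here


set_option autoImplicit false
universe u
open Cfsg

namespace Cfsg.Agent.S5059

/-- Let k be a field of characteristic not 2 with k not of order 3, M a finite-dimensional k-vector space and G ≤ GL(M) such that (G, M) is a quadratic pair (M irreducible for G, and G generated by its quadratically acting elements σ whose scalar family 1 + c(σ − 1), c ∈ k, lies in G). Write 𝒬_d for the quadratic elements of G of minimal commutator rank, E(σ) for the subgroup generated by the members of 𝒬_d with the same fixed space and commutator space as σ, and Σ for the set of these subgroups. Then for σ ∈ 𝒬_d the subgroup E(σ) consists exactly of those members together with the identity, it is abelian, and if k has prime characteristic p every element of E(σ) has order dividing p. -/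
theorem result {k : Type u} [Field k] (hk2 : ringChar k ≠ 2) (hk3 : Nat.card k ≠ 3)
    {M : Type u} [AddCommGroup M] [Module k M] [FiniteDimensional k M]
    {G : Subgroup (LinearMap.GeneralLinearGroup k M)} (hG : Cfsg.IsQuadraticPair G)
    {σ : LinearMap.GeneralLinearGroup k M} (hσ : σ ∈ Cfsg.minimalQuadraticElements G) :
    (Cfsg.sameActionSubgroup G σ : Set (LinearMap.GeneralLinearGroup k M)) = Cfsg.sameActionClass G σ ∪ {1} ∧
    IsMulCommutative ↥(Cfsg.sameActionSubgroup G σ) ∧
    (∀ p : ℕ, p.Prime → ringChar k = p → ∀ x ∈ Cfsg.sameActionSubgroup G σ, x ^ p = 1) := by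
  have hsub : ∀ τ ∈ sameActionClass G σ, ∀ τ' ∈ sameActionClass G σ,
      ((τ : M →ₗ[k] M) - 1) * ((τ' : M →ₗ[k] M) - 1) = 0 := by
    intro τ hτ τ' hτ'
    refine LinearMap.ext fun m => ?_
    have h1 : ((τ' : M →ₗ[k] M) - 1) m ∈ LinearMap.range ((σ : M →ₗ[k] M) - 1) := by
      rw [← hτ'.2.2]
      exact LinearMap.mem_range_self _ m
    have h2 : ((τ' : M →ₗ[k] M) - 1) m ∈ LinearMap.ker ((σ : M →ₗ[k] M) - 1) := by
      obtain ⟨m', hm'⟩ := h1
      rw [LinearMap.mem_ker, ← hm']
      exact LinearMap.congr_fun hσ.1.2.1.1 m'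
    rw [← hτ.2.1] at h2
    exact h2
  set C := insert (1 : LinearMap.GeneralLinearGroup k M) (sameActionClass G σ) with hC
  have hzero : ∀ τ ∈ C, ∀ τ' ∈ C, ((τ : M →ₗ[k] M) - 1) * ((τ' : M →ₗ[k] M) - 1) = 0 := by
    rintro τ (rfl | hτ) τ' (rfl | hτ')
    · simp
    · simp
    · simp
    · exact hsub τ hτ τ' hτ'
  have hmul : ∀ τ ∈ C, ∀ τ' ∈ C,
      ((τ * τ' : LinearMap.GeneralLinearGroup k M) : M →ₗ[k] M) - 1 =
        ((τ : M →ₗ[k] M) - 1) + ((τ' : M →ₗ[k] M) - 1) := by
    intro τ hτ τ' hτ'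
    have h := hzero τ hτ τ' hτ'
    rw [Units.val_mul]
    linear_combination (norm := noncomm_ring) h
  have hmk : ∀ τ ∈ C, ∀ c : k, ∃ u : LinearMap.GeneralLinearGroup k M,
      (u : M →ₗ[k] M) = 1 + c • ((τ : M →ₗ[k] M) - 1) ∧
      ((u⁻¹ : LinearMap.GeneralLinearGroup k M) : M →ₗ[k] M) = 1 + (-c) • ((τ : M →ₗ[k] M) - 1) := by
    intro τ hτ c
    have h := hzero τ hτ τ hτ
    have e : ∀ a b : k, (1 + a • ((τ : M →ₗ[k] M) - 1)) * (1 + b • ((τ : M →ₗ[k] M) - 1)) =
        1 + (a + b) • ((τ : M →ₗ[k] M) - 1) := fun a b => by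
      rw [add_mul, mul_add, mul_add, one_mul, one_mul, mul_one, smul_mul_assoc, mul_smul_comm, h,
        smul_zero, smul_zero, add_zero, add_smul]
      abel
    exact ⟨⟨_, _, by rw [e, add_neg_cancel, zero_smul, add_zero],
      by rw [e, neg_add_cancel, zero_smul, add_zero]⟩, rfl, rfl⟩
  have hfam : ∀ τ ∈ C, scalarFamily τ ⊆ (G : Set _) := by
    rintro τ (rfl | hτ)
    · rintro u ⟨c, hu⟩
      have : u = 1 := Units.ext (by simpa using hu)
      rw [this]
      exact G.one_mem
    · exact hτ.1.1.2.2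
  have hGmem : ∀ τ ∈ C, τ ∈ G := by
    rintro τ (rfl | hτ)
    · exact G.one_mem
    · exact hτ.1.1.1
  have hclass : ∀ u : LinearMap.GeneralLinearGroup k M, u ∈ G →
      ((u : M →ₗ[k] M) - 1) * ((u : M →ₗ[k] M) - 1) = 0 → scalarFamily u ⊆ (G : Set _) →
      LinearMap.ker ((σ : M →ₗ[k] M) - 1) ≤ LinearMap.ker ((u : M →ₗ[k] M) - 1) →
      LinearMap.range ((u : M →ₗ[k] M) - 1) ≤ LinearMap.range ((σ : M →ₗ[k] M) - 1) → u ∈ C := by
    intro u hu hu2 hus hker hran
    by_cases h0 : (u : M →ₗ[k] M) - 1 = 0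
    · exact Or.inl (Units.ext (by rw [Units.val_one]; exact sub_eq_zero.1 h0))
    have hq : u ∈ quadraticElements G := ⟨hu, ⟨hu2, h0⟩, hus⟩
    have h1 : commutatorRank σ ≤ commutatorRank u := hσ.2 u hq
    have h2 : LinearMap.range ((u : M →ₗ[k] M) - 1) = LinearMap.range ((σ : M →ₗ[k] M) - 1) :=
      Submodule.eq_of_le_of_finrank_le hran h1
    refine Or.inr ⟨⟨hq, fun τ hτ => le_trans (le_of_eq ?_) (hσ.2 τ hτ)⟩, ?_, h2⟩
    · rw [commutatorRank, commutatorRank, h2]
    · refine (Submodule.eq_of_le_of_finrank_le hker ?_).symm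
      have h3 := LinearMap.finrank_range_add_finrank_ker ((u : M →ₗ[k] M) - 1)
      have h4 := LinearMap.finrank_range_add_finrank_ker ((σ : M →ₗ[k] M) - 1)
      rw [h2] at h3
      omega
  have hkr : ∀ τ ∈ C, LinearMap.ker ((σ : M →ₗ[k] M) - 1) ≤ LinearMap.ker ((τ : M →ₗ[k] M) - 1) ∧
      LinearMap.range ((τ : M →ₗ[k] M) - 1) ≤ LinearMap.range ((σ : M →ₗ[k] M) - 1) := by
    rintro τ (rfl | hτ)
    · simp
    · exact ⟨hτ.2.1.ge, hτ.2.2.le⟩
  let H : Subgroup (LinearMap.GeneralLinearGroup k M) :=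
    { carrier := C
      one_mem' := Or.inl rfl
      mul_mem' := fun {τ τ'} hτ hτ' => by
        have e := hmul τ hτ τ' hτ'
        refine hclass _ (G.mul_mem (hGmem τ hτ) (hGmem τ' hτ')) ?_ ?_ ?_ ?_
        · rw [e]
          linear_combination (norm := noncomm_ring)
            hzero τ hτ τ hτ + hzero τ hτ τ' hτ' + hzero τ' hτ' τ hτ + hzero τ' hτ' τ' hτ'
        · rintro u ⟨c, hu⟩
          obtain ⟨a, ha, -⟩ := hmk τ hτ c
          obtain ⟨b, hb, -⟩ := hmk τ' hτ' c
          have : u = a * b := by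
            ext1
            rw [hu, e, Units.val_mul, ha, hb, add_mul, mul_add, mul_add, one_mul, one_mul, mul_one,
              smul_mul_assoc, mul_smul_comm, hzero τ hτ τ' hτ', smul_zero, smul_zero, add_zero,
              smul_add]
            abel
          rw [this]
          exact G.mul_mem (hfam τ hτ ⟨c, ha⟩) (hfam τ' hτ' ⟨c, hb⟩)
        · rw [e]
          intro m hm
          have h1 := (hkr τ hτ).1 hm
          have h2 := (hkr τ' hτ').1 hm
          rw [LinearMap.mem_ker] at h1 h2 ⊢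
          rw [LinearMap.add_apply, h1, h2, add_zero]
        · rw [e]
          rintro _ ⟨m, rfl⟩
          rw [LinearMap.add_apply]
          exact add_mem ((hkr τ hτ).2 (LinearMap.mem_range_self _ m))
            ((hkr τ' hτ').2 (LinearMap.mem_range_self _ m))
      inv_mem' := fun {τ} hτ => by
        obtain ⟨a, ha, ha'⟩ := hmk τ hτ 1
        have hτa : a = τ := Units.ext (by rw [ha, one_smul, add_sub_cancel])
        rw [hτa] at ha'
        have e : ((τ⁻¹ : LinearMap.GeneralLinearGroup k M) : M →ₗ[k] M) - 1 =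
            -((τ : M →ₗ[k] M) - 1) := by rw [ha', neg_one_smul]; abel
        refine hclass _ (G.inv_mem (hGmem τ hτ)) ?_ ?_ ?_ ?_
        · rw [e, neg_mul_neg, hzero τ hτ τ hτ]
        · rintro u ⟨c, hu⟩
          exact hfam τ hτ ⟨-c, by rw [hu, e, smul_neg, neg_smul]⟩
        · rw [e]
          intro m hm
          have h1 := (hkr τ hτ).1 hm
          rw [LinearMap.mem_ker] at h1 ⊢
          rw [LinearMap.neg_apply, h1, neg_zero]
        · rw [e]
          rintro _ ⟨m, rfl⟩
          exact neg_mem ((hkr τ hτ).2 (LinearMap.mem_range_self _ m)) }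
  have hH : sameActionSubgroup G σ = H := by
    refine le_antisymm ((Subgroup.closure_le H).2 fun τ hτ => Or.inr hτ) ?_
    rintro τ (rfl | hτ)
    · exact one_mem _
    · exact Subgroup.subset_closure hτ
  refine ⟨?_, ⟨⟨fun x y => ?_⟩⟩, fun p hp hchar x hx => ?_⟩
  · rw [hH, Set.union_singleton]
    rfl
  · have hx : (x : LinearMap.GeneralLinearGroup k M) ∈ C := hH.le x.2
    have hy : (y : LinearMap.GeneralLinearGroup k M) ∈ C := hH.le y.2
    refine Subtype.ext (Units.ext ?_)
    have h1 := hmul _ hx _ hy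
    have h2 := hmul _ hy _ hx
    rw [add_comm, ← h1] at h2
    exact (sub_left_inj.1 h2).symm
  · rw [hH] at hx
    have key : ∀ n : ℕ, x ^ n ∈ C ∧ ((x ^ n : LinearMap.GeneralLinearGroup k M) : M →ₗ[k] M) - 1 =
        n • ((x : M →ₗ[k] M) - 1) := by
      intro n
      induction n with
      | zero => exact ⟨Or.inl (pow_zero x), by simp⟩
      | succ n ih => exact ⟨H.pow_mem hx _, by rw [pow_succ, hmul _ ih.1 _ hx, ih.2, succ_nsmul]⟩
    have : CharP k p := by rw [← hchar]; exact ringChar.charP k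
    refine Units.ext ?_
    rw [Units.val_one, ← sub_eq_zero, (key p).2, ← Nat.cast_smul_eq_nsmul k, CharP.cast_eq_zero,
      zero_smul]

end Cfsg.Agent.S5059
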