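import Cfsg.Statements.S5060
import Cfsg.Agent.Lib.Quad.Gen

set_option autoImplicit false
open Cfsg

namespace Cfsg.Agent.S5060

/-- Let k ⊆ K be fields with the characteristic of k not 2 and k not of order 3, and let α ∈ K be a non-zero element algebraic over k. Then the subgroup of SL₂(K) generated by the upper unitriangular matrices with entry c and the lower unitriangular matrices with entry cα, c ranging over k, is exactly the group of matrices of SL₂(K) with all entries in k(α). -/
theorem result {k K : Type*} [Field k] [Field K] [Algebra k K] (hk2 : ringChar k ≠ 2) (hk3 : Nat.card k ≠ 3)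
    (α : K) (hα : IsAlgebraic k α) (hα0 : α ≠ 0) :
    (Subgroup.closure ({g : Matrix.SpecialLinearGroup (Fin 2) K | ∃ c : k, (g : Matrix (Fin 2) (Fin 2) K) = !![1, algebraMap k K c; 0, 1]} ∪
        {g : Matrix.SpecialLinearGroup (Fin 2) K | ∃ c : k, (g : Matrix (Fin 2) (Fin 2) K) = !![1, 0; algebraMap k K c * α, 1]}) :
      Set (Matrix.SpecialLinearGroup (Fin 2) K)) =
    {g : Matrix.SpecialLinearGroup (Fin 2) K | ∀ i j : Fin 2, (g : Matrix (Fin 2) (Fin 2) K) i j ∈ IntermediateField.adjoin k ({α} : Set K)} := by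
  set F := IntermediateField.adjoin k ({α} : Set K) with hF
  set g0 : F := ⟨α, IntermediateField.mem_adjoin_simple_self k α⟩ with hg0
  have hint : IsIntegral k α := hα.isIntegral
  have hgen : Algebra.adjoin k ({g0} : Set F) = ⊤ := by
    have := (IntermediateField.adjoin.powerBasis hint).adjoin_gen_eq_top
    rwa [IntermediateField.adjoin.powerBasis_gen] at this
  have hint0 : IsIntegral k g0 :=
    (isIntegral_algHom_iff F.val F.val.toRingHom.injective).1 hint
  have h := Quad.gam_top (K := F) hk2 hk3 (C := g0) (fun h => hα0 (congrArg Subtype.val h)) hint0 hgen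
  have e : Subgroup.closure ({g : Matrix.SpecialLinearGroup (Fin 2) K | ∃ c : k, (g : Matrix (Fin 2) (Fin 2) K) = !![1, algebraMap k K c; 0, 1]} ∪
      {g : Matrix.SpecialLinearGroup (Fin 2) K | ∃ c : k, (g : Matrix (Fin 2) (Fin 2) K) = !![1, 0; algebraMap k K c * α, 1]}) =
      (⊤ : Subgroup (Matrix.SpecialLinearGroup (Fin 2) F)).map (Matrix.SpecialLinearGroup.map F.val.toRingHom) := by
    rw [← h, Quad.map_gam, Quad.gam]
    congr 2
    · ext g
      exact ⟨fun ⟨c, hc⟩ => ⟨c, Subtype.ext hc.symm⟩, fun ⟨c, hc⟩ => ⟨c, hc ▸ rfl⟩⟩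
    · ext g
      exact ⟨fun ⟨c, hc⟩ => ⟨c, Subtype.ext hc.symm⟩, fun ⟨c, hc⟩ => ⟨c, hc ▸ rfl⟩⟩
  rw [e]
  ext g
  constructor
  · rintro ⟨g', -, rfl⟩ i j
    exact (g'.1 i j).2
  · intro hg
    refine ⟨⟨fun i j => ⟨g.1 i j, hg i j⟩, ?_⟩, Subgroup.mem_top _, Subtype.ext rfl⟩
    apply F.val.toRingHom.injective
    refine (RingHom.map_det _ _).trans ?_
    exact g.2.trans (map_one _).symm

end Cfsg.Agent.S5060
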