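import Cfsg.Statements.S5063
import Cfsg.Agent.Lib.Quad.Central

set_option autoImplicit false
universe u
open Cfsg

namespace Cfsg.Agent.S5063

/-- Let k be a field of characteristic not 2 with k not of order 3, M a finite-dimensional k-vector space and G ≤ GL(M) such that (G, M) is a quadratic pair (M irreducible for G, and G generated by its quadratically acting elements σ whose scalar family 1 + c(σ − 1), c ∈ k, lies in G). Write 𝒬_d for the quadratic elements of G of minimal commutator rank, E(σ) for the subgroup generated by the members of 𝒬_d with the same fixed space and commutator space as σ, and Σ for the set of these subgroups. Then G is a central product of finitely many quasisimple normal subgroups G₁, …, G_s (pairwise commuting and together generating G), each generated by the quadratic elements of G it contains, and every quadratic element of G lies in one of them. -/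
theorem result {k : Type u} [Field k] (hk2 : ringChar k ≠ 2) (hk3 : Nat.card k ≠ 3)
    {M : Type u} [AddCommGroup M] [Module k M] [FiniteDimensional k M]
    {G : Subgroup (LinearMap.GeneralLinearGroup k M)} (hG : Cfsg.IsQuadraticPair G) :
    ∃ (s : ℕ) (Gi : Fin s → Subgroup (LinearMap.GeneralLinearGroup k M)),
      (∀ i, Gi i ≤ G ∧ ∀ g ∈ G, Cfsg.conjBy (Gi i) g = Gi i) ∧ (∀ i j, i ≠ j → ⁅Gi i, Gi j⁆ = ⊥) ∧ (⨆ i, Gi i) = G ∧
      (∀ i, Cfsg.IsQuasisimple ↥(Gi i) ∧ Subgroup.closure (Cfsg.quadraticElements G ∩ (Gi i : Set (LinearMap.GeneralLinearGroup k M))) = Gi i) ∧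
      Cfsg.quadraticElements G ⊆ ⋃ i, (Gi i : Set (LinearMap.GeneralLinearGroup k M)) := by
  have hqe : ∀ σ ∈ Cfsg.quadraticElements G, Quad.Qe G ((σ : M →ₗ[k] M) - 1) := fun σ hσ =>
    ⟨hσ.2.1.1, fun s => ⟨Quad.oneAdd _ (Quad.smul_mul_smul_zero hσ.2.1.1 s s), hσ.2.2 ⟨s, rfl⟩, rfl⟩⟩
  have hgen : G = Subgroup.closure {g : LinearMap.GeneralLinearGroup k M |
      ∃ (x : M →ₗ[k] M) (t : k), Quad.Qe G x ∧ (g : M →ₗ[k] M) = 1 + t • x} := by
    refine le_antisymm ?_ (Quad.families_le fun g ⟨x, t, hx, hg⟩ => Quad.mem_qe_of_eq hx hg)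
    conv_lhs => rw [← hG.2]
    exact Quad.families_le fun σ hσ => Subgroup.subset_closure ⟨_, 1, hqe σ hσ, by rw [one_smul, add_sub_cancel]⟩
  obtain ⟨𝒢, hfin, hsup, hnorm, hcomm, hqs, hcover⟩ :=
    Quad.central_product hk2 hk3 hG.1 _ G rfl le_rfl (sup_eq_left.2 inf_le_left) hgen
  have : Fintype ↥𝒢 := hfin.fintype
  let e := (Fintype.equivFin ↥𝒢).symm
  have hle : ∀ K ∈ 𝒢, K ≤ G := fun K hK =>
    (le_iSup₂_of_le (f := fun K (_ : K ∈ 𝒢) => K) K hK le_rfl).trans hsup.le
  refine ⟨_, fun i => (e i).1, fun i => ⟨hle _ (e i).2, fun g hg => ?_⟩, fun i j hij => ?_, ?_, fun i => ?_, ?_⟩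
  · exact RootLib.conjBy_eq_iff_mem_normalizer.2 (hnorm _ (e i).2 hg)
  · exact hcomm _ (e i).2 _ (e j).2 fun h => hij (e.injective (Subtype.ext h))
  · refine le_antisymm (iSup_le fun i => hle _ (e i).2) ?_
    conv_lhs => rw [← hsup]
    exact iSup₂_le fun K hK => le_iSup_of_le (e.symm ⟨K, hK⟩) (by simp)
  · exact ⟨(hqs _ (e i).2).1, le_antisymm ((Subgroup.closure_le _).2 Set.inter_subset_right) (hqs _ (e i).2).2⟩
  · intro σ hσ
    obtain ⟨K, hK, h⟩ := hcover _ (hqe σ hσ) hσ.2.1.2
    refine Set.mem_iUnion.2 ⟨e.symm ⟨K, hK⟩, ?_⟩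
    simpa using h 1 σ (by rw [one_smul, add_sub_cancel])

end Cfsg.Agent.S5063
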