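import Cfsg.Statements.S5067
-- import your own Cfsg.Agent.* helpers here


set_option autoImplicit false
open Cfsg
open scoped commutatorElement

namespace Cfsg.Agent.S5067

/-- Let P be a non-abelian nilpotent p-group (every element of p-power order; P possibly infinite) generated by two abelian subgroups E and F. Then the normal closure of E in P, and likewise that of F, has nilpotency class strictly smaller than that of P. -/
theorem result {P : Type*} [Group P] {p : ℕ} [Fact p.Prime] (hP : IsPGroup p P) [Group.IsNilpotent P]
    (hna : ¬ IsMulCommutative P) {E F : Subgroup P} (hE : IsMulCommutative ↥E) (hF : IsMulCommutative ↥F) (hgen : E ⊔ F = ⊤) :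
    Group.nilpotencyClass ↥(Subgroup.normalClosure (E : Set P)) < Group.nilpotencyClass P ∧
    Group.nilpotencyClass ↥(Subgroup.normalClosure (F : Set P)) < Group.nilpotencyClass P := by
  obtain ⟨c, hc⟩ : ∃ c, Group.nilpotencyClass P = c + 2 := by
    refine ⟨Group.nilpotencyClass P - 2, ?_⟩
    by_contra h
    have h1 : Group.nilpotencyClass P ≤ 1 := by omega
    have h2 := Subgroup.lowerCentralSeries_eq_bot_iff_nilpotencyClass_le.2 h1
    rw [Subgroup.top_lowerCentralSeries_one, commutator_def] at h2
    exact hna ⟨⟨fun x y => commutatorElement_eq_one_iff_mul_comm.1 (Subgroup.mem_bot.1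
      (h2 ▸ Subgroup.commutator_mem_commutator (Subgroup.mem_top x) (Subgroup.mem_top y)))⟩⟩
  suffices key : ∀ E : Subgroup P, IsMulCommutative E →
      Group.nilpotencyClass ↥(Subgroup.normalClosure (E : Set P)) < Group.nilpotencyClass P from
    ⟨key E hE, key F hF⟩
  intro E hE
  set N := Subgroup.normalClosure (E : Set P) with hN
  set γ := fun n => (⊤ : Subgroup P).lowerCentralSeries n with hγ
  have h1 : ⁅N, N⁆ ≤ γ 2 := by
    rw [Subgroup.commutator_le]
    intro x hx y hy
    rw [← QuotientGroup.eq_one_iff]
    let q : P →* P ⧸ γ 2 := QuotientGroup.mk' _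
    have hgen : ∀ a ∈ E, ∀ b ∈ E, ∀ g h : P, Commute (q (g * a * g⁻¹)) (q (h * b * h⁻¹)) := by
      intro a ha b hb g h
      have hcen : ∀ u v w : P, Commute (q ⁅u, v⁆) (q w) := fun u v w => by
        rw [commute_iff_eq, ← commutatorElement_eq_one_iff_mul_comm, ← map_commutatorElement,
          QuotientGroup.mk'_apply, QuotientGroup.eq_one_iff]
        exact Subgroup.commutator_mem_commutator
          (Subgroup.commutator_mem_commutator (Subgroup.mem_top u) (Subgroup.mem_top v)) (Subgroup.mem_top w)
      have hga : g * a * g⁻¹ = ⁅g, a⁆ * a := by simp [commutatorElement_def]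
      have hhb : h * b * h⁻¹ = ⁅h, b⁆ * b := by simp [commutatorElement_def]
      rw [hga, hhb, map_mul, map_mul]
      have hab : Commute (q a) (q b) :=
        Commute.map (congrArg Subtype.val (hE.is_comm.comm ⟨a, ha⟩ ⟨b, hb⟩) : a * b = b * a) q
      exact ((hcen g a _).mul_right (hcen g a _)).mul_left ((hcen h b a).symm.mul_right hab)
    have hxy : Commute (q x) (q y) := by
      induction hx using Subgroup.closure_induction with
      | one => simp
      | mul u v _ _ hu hv => rw [map_mul]; exact hu.mul_left hv
      | inv u _ hu => rw [map_inv]; exact hu.inv_left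
      | mem u hu =>
        obtain ⟨a, ha, hau⟩ := Group.mem_conjugatesOfSet_iff.1 hu
        obtain ⟨g, rfl⟩ := isConj_iff.1 hau
        induction hy using Subgroup.closure_induction with
        | one => simp
        | mul u v _ _ hu hv => rw [map_mul]; exact hu.mul_right hv
        | inv u _ hu => rw [map_inv]; exact hu.inv_right
        | mem v hv =>
          obtain ⟨b, hb, hbv⟩ := Group.mem_conjugatesOfSet_iff.1 hv
          obtain ⟨h, rfl⟩ := isConj_iff.1 hbv
          exact hgen a ha b hb g h
    show q ⁅x, y⁆ = 1
    rw [map_commutatorElement]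
    exact commutatorElement_eq_one_iff_mul_comm.2 hxy
  have h2 : ∀ n, N.lowerCentralSeries (n + 1) ≤ γ (n + 2) := by
    intro n
    induction n with
    | zero => exact h1
    | succ n ih => exact Subgroup.commutator_mono ih le_top
  have h3 : N.lowerCentralSeries (c + 1) = ⊥ := by
    rw [eq_bot_iff, ← Subgroup.lowerCentralSeries_eq_bot_iff_nilpotencyClass_le.2 hc.le]
    exact h2 c
  rw [← Subgroup.top_subtype_lowerCentralSeries, ← Subgroup.map_bot N.subtype,
    Subgroup.map_subtype_inj, Subgroup.lowerCentralSeries_eq_bot_iff_nilpotencyClass_le] at h3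
  omega

end Cfsg.Agent.S5067
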