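import Cfsg.Statements.S5069
import Cfsg.Agent.Lib.Quad.Components

set_option autoImplicit false
universe u
open Cfsg

namespace Cfsg.Agent.S5069

/-- Let k be a field of characteristic not 2 with k not of order 3, M a finite-dimensional k-vector space and G ≤ GL(M) such that (G, M) is a quadratic pair (M irreducible for G, and G generated by its quadratically acting elements σ whose scalar family 1 + c(σ − 1), c ∈ k, lies in G). Write 𝒬_d for the quadratic elements of G of minimal commutator rank, E(σ) for the subgroup generated by the members of 𝒬_d with the same fixed space and commutator space as σ, and Σ for the set of these subgroups. Then Σ is a disjoint union of finitely many parts Σ₁, …, Σ_r such that the subgroups G_i generated by the Σ_i commute pairwise, each G_i is quasisimple, and inside G_i the members of Σ_i form a class of abstract root subgroups in which every rank one pair A, B contains subgroups A₀ ≤ A, B₀ ≤ B generating an image of SL₂(k₁) with central kernel on unitriangular subgroups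 for some field k₁ with at least four elements. -/
theorem result {k : Type u} [Field k] (hk2 : ringChar k ≠ 2) (hk3 : Nat.card k ≠ 3)
    {M : Type u} [AddCommGroup M] [Module k M] [FiniteDimensional k M]
    {G : Subgroup (LinearMap.GeneralLinearGroup k M)} (hG : Cfsg.IsQuadraticPair G) :
    ∃ (r : ℕ) (part : Fin r → Set (Subgroup (LinearMap.GeneralLinearGroup k M))),
      (⋃ i, part i) = Cfsg.quadraticRootSubgroups G ∧ (∀ i j, i ≠ j → Disjoint (part i) (part j)) ∧ (∀ i, (part i).Nonempty) ∧
      (∀ i j, i ≠ j → ⁅(⨆ A ∈ part i, A), (⨆ A ∈ part j, A)⁆ = ⊥) ∧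
      (∀ i, Cfsg.IsQuasisimple ↥(⨆ A ∈ part i, A) ∧
        Cfsg.IsRootSubgroupClass ((fun A : Subgroup (LinearMap.GeneralLinearGroup k M) => A.subgroupOf (⨆ B ∈ part i, B)) '' (part i)) ∧
        ∀ A ∈ part i, ∀ B ∈ Cfsg.rankOnePartners (part i) A, ∃ A₀ B₀ : Subgroup (LinearMap.GeneralLinearGroup k M), A₀ ≤ A ∧ B₀ ≤ B ∧
          ∃ (k₁ : Type u) (_ : Field k₁), 3 < ENat.card k₁ ∧ Cfsg.IsPSL2PairOver k₁ A₀ B₀) := by
  have hN := Quad.noUnip_of_irreducible hG.1
  have hfin := Quad.comp_finite hk2 hk3 hN
  have : Fintype ↥(Quad.comp G '' Cfsg.quadraticRootSubgroups G) := hfin.fintype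
  let e := (Fintype.equivFin ↥(Quad.comp G '' Cfsg.quadraticRootSubgroups G)).symm
  refine ⟨_, fun i => (e i).1, ?_, ?_, ?_, ?_, ?_⟩ <;> beta_reduce
  · ext A
    simp only [Set.mem_iUnion]
    constructor
    · rintro ⟨i, hi⟩
      obtain ⟨B, hB, hBi⟩ := (e i).2
      rw [← hBi] at hi
      exact hi.1
    · intro hA
      exact ⟨e.symm ⟨_, A, hA, rfl⟩, by rw [e.apply_symm_apply]; exact Quad.self_mem_comp hA⟩
  · intro i j hij
    obtain ⟨A, hA, hAi⟩ := (e i).2
    obtain ⟨B, hB, hBj⟩ := (e j).2
    rw [Set.disjoint_left, ← hAi, ← hBj]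
    intro C hCA hCB
    refine hij (e.injective (Subtype.ext ?_))
    rw [← hAi, ← hBj]
    exact RootLib.componentOf_eq (hCA.2.trans (RootLib.reach_symm hCB.2))
  · intro i
    obtain ⟨A, hA, hAi⟩ := (e i).2
    exact ⟨A, by rw [← hAi]; exact Quad.self_mem_comp hA⟩
  · intro i j hij
    obtain ⟨A, hA, hAi⟩ := (e i).2
    obtain ⟨B, hB, hBj⟩ := (e j).2
    rw [← hAi, ← hBj, Subgroup.commutator_eq_bot_iff_le_centralizer]
    refine iSup₂_le fun C hC => Quad.compGroup_commute hk2 hk3 hN hB hC.1 fun h => hij (e.injective (Subtype.ext ?_))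
    rw [← hAi, ← hBj]
    exact RootLib.componentOf_eq (hC.2.trans (RootLib.reach_symm h.2))
  · intro i
    obtain ⟨A, hA, hAi⟩ := (e i).2
    rw [← hAi]
    obtain ⟨h1, h2⟩ := Quad.component_structure hk2 hk3 hN hA
    exact ⟨h1, h2, fun P hP Q hQ => Quad.exists_psl_subpair hk2 hk3 hN hP.1 hQ.1.1 hQ.2⟩

end Cfsg.Agent.S5069
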