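import Cfsg.Statements.S5071
import Cfsg.Agent.Lib.Root.SUExample
import Cfsg.Agent.S5032

set_option autoImplicit false
open Matrix
open Cfsg

namespace Cfsg.Agent.S5071

/-- Let F be a finite field with q² elements, n a natural number, and h the Hermitian form Σ uᵢ vᵢ^q on F^{n+2}. For a non-zero isotropic vector p let T(p) be the group of unitary transvections with centre ⟨p⟩: the elements of SU_{n+2}(q) moving every vector by a multiple of p and fixing every vector perpendicular to p. Let Σ be the set of these T(p) and G₀ the subgroup they generate. Then, viewed inside G₀, the members of Σ form a degenerate class of abstract k-root subgroups of G₀ for some field k with q elements (any two commute or are the unipotent subgroups of a rank one group that is an image of SL₂(k) with central kernel, never the commutator case), and their graph of rank one pairs is connected. -/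
theorem result (F : Type*) [Field F] [Fintype F] (q n : ℕ) (hF : Fintype.card F = q ^ 2) :
    Cfsg.IsRootSubgroupClass ((fun A : Subgroup ↥(Cfsg.SU (n + 2) F q) => A.subgroupOf (⨆ B ∈ {A : Subgroup ↥(Cfsg.SU (n + 2) F q) | ∃ p : Fin (n + 2) → F, p ≠ 0 ∧ Cfsg.hermForm (n + 2) F q p p = 0 ∧
          A = Subgroup.closure {g : ↥(Cfsg.SU (n + 2) F q) |
            (∀ v : Fin (n + 2) → F, ∃ c : F, ((g : Matrix.SpecialLinearGroup (Fin (n + 2)) F) : Matrix (Fin (n + 2)) (Fin (n + 2)) F) *ᵥ v = v + c • p) ∧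
            ∀ v : Fin (n + 2) → F, Cfsg.hermForm (n + 2) F q v p = 0 →
              ((g : Matrix.SpecialLinearGroup (Fin (n + 2)) F) : Matrix (Fin (n + 2)) (Fin (n + 2)) F) *ᵥ v = v}}, B)) ''
      {A : Subgroup ↥(Cfsg.SU (n + 2) F q) | ∃ p : Fin (n + 2) → F, p ≠ 0 ∧ Cfsg.hermForm (n + 2) F q p p = 0 ∧
          A = Subgroup.closure {g : ↥(Cfsg.SU (n + 2) F q) |
            (∀ v : Fin (n + 2) → F, ∃ c : F, ((g : Matrix.SpecialLinearGroup (Fin (n + 2)) F) : Matrix (Fin (n + 2)) (Fin (n + 2)) F) *ᵥ v = v + c • p) ∧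
            ∀ v : Fin (n + 2) → F, Cfsg.hermForm (n + 2) F q v p = 0 →
              ((g : Matrix.SpecialLinearGroup (Fin (n + 2)) F) : Matrix (Fin (n + 2)) (Fin (n + 2)) F) *ᵥ v = v}}) ∧
    Cfsg.IsDegenerateRootSet ((fun A : Subgroup ↥(Cfsg.SU (n + 2) F q) => A.subgroupOf (⨆ B ∈ {A : Subgroup ↥(Cfsg.SU (n + 2) F q) | ∃ p : Fin (n + 2) → F, p ≠ 0 ∧ Cfsg.hermForm (n + 2) F q p p = 0 ∧
          A = Subgroup.closure {g : ↥(Cfsg.SU (n + 2) F q) |
            (∀ v : Fin (n + 2) → F, ∃ c : F, ((g : Matrix.SpecialLinearGroup (Fin (n + 2)) F) : Matrix (Fin (n + 2)) (Fin (n + 2)) F) *ᵥ v = v + c • p) ∧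
            ∀ v : Fin (n + 2) → F, Cfsg.hermForm (n + 2) F q v p = 0 →
              ((g : Matrix.SpecialLinearGroup (Fin (n + 2)) F) : Matrix (Fin (n + 2)) (Fin (n + 2)) F) *ᵥ v = v}}, B)) ''
      {A : Subgroup ↥(Cfsg.SU (n + 2) F q) | ∃ p : Fin (n + 2) → F, p ≠ 0 ∧ Cfsg.hermForm (n + 2) F q p p = 0 ∧
          A = Subgroup.closure {g : ↥(Cfsg.SU (n + 2) F q) |
            (∀ v : Fin (n + 2) → F, ∃ c : F, ((g : Matrix.SpecialLinearGroup (Fin (n + 2)) F) : Matrix (Fin (n + 2)) (Fin (n + 2)) F) *ᵥ v = v + c • p) ∧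
            ∀ v : Fin (n + 2) → F, Cfsg.hermForm (n + 2) F q v p = 0 →
              ((g : Matrix.SpecialLinearGroup (Fin (n + 2)) F) : Matrix (Fin (n + 2)) (Fin (n + 2)) F) *ᵥ v = v}}) ∧
    (∃ (L : Type) (_ : Field L) (_ : Fintype L), Fintype.card L = q ∧ Cfsg.IsKRootSubgroupSet L ((fun A : Subgroup ↥(Cfsg.SU (n + 2) F q) => A.subgroupOf (⨆ B ∈ {A : Subgroup ↥(Cfsg.SU (n + 2) F q) | ∃ p : Fin (n + 2) → F, p ≠ 0 ∧ Cfsg.hermForm (n + 2) F q p p = 0 ∧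
          A = Subgroup.closure {g : ↥(Cfsg.SU (n + 2) F q) |
            (∀ v : Fin (n + 2) → F, ∃ c : F, ((g : Matrix.SpecialLinearGroup (Fin (n + 2)) F) : Matrix (Fin (n + 2)) (Fin (n + 2)) F) *ᵥ v = v + c • p) ∧
            ∀ v : Fin (n + 2) → F, Cfsg.hermForm (n + 2) F q v p = 0 →
              ((g : Matrix.SpecialLinearGroup (Fin (n + 2)) F) : Matrix (Fin (n + 2)) (Fin (n + 2)) F) *ᵥ v = v}}, B)) ''
      {A : Subgroup ↥(Cfsg.SU (n + 2) F q) | ∃ p : Fin (n + 2) → F, p ≠ 0 ∧ Cfsg.hermForm (n + 2) F q p p = 0 ∧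
          A = Subgroup.closure {g : ↥(Cfsg.SU (n + 2) F q) |
            (∀ v : Fin (n + 2) → F, ∃ c : F, ((g : Matrix.SpecialLinearGroup (Fin (n + 2)) F) : Matrix (Fin (n + 2)) (Fin (n + 2)) F) *ᵥ v = v + c • p) ∧
            ∀ v : Fin (n + 2) → F, Cfsg.hermForm (n + 2) F q v p = 0 →
              ((g : Matrix.SpecialLinearGroup (Fin (n + 2)) F) : Matrix (Fin (n + 2)) (Fin (n + 2)) F) *ᵥ v = v}})) ∧
    Cfsg.IsConnectedFamily (Cfsg.FAdj ((fun A : Subgroup ↥(Cfsg.SU (n + 2) F q) => A.subgroupOf (⨆ B ∈ {A : Subgroup ↥(Cfsg.SU (n + 2) F q) | ∃ p : Fin (n + 2) → F, p ≠ 0 ∧ Cfsg.hermForm (n + 2) F q p p = 0 ∧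
          A = Subgroup.closure {g : ↥(Cfsg.SU (n + 2) F q) |
            (∀ v : Fin (n + 2) → F, ∃ c : F, ((g : Matrix.SpecialLinearGroup (Fin (n + 2)) F) : Matrix (Fin (n + 2)) (Fin (n + 2)) F) *ᵥ v = v + c • p) ∧
            ∀ v : Fin (n + 2) → F, Cfsg.hermForm (n + 2) F q v p = 0 →
              ((g : Matrix.SpecialLinearGroup (Fin (n + 2)) F) : Matrix (Fin (n + 2)) (Fin (n + 2)) F) *ᵥ v = v}}, B)) ''
      {A : Subgroup ↥(Cfsg.SU (n + 2) F q) | ∃ p : Fin (n + 2) → F, p ≠ 0 ∧ Cfsg.hermForm (n + 2) F q p p = 0 ∧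
          A = Subgroup.closure {g : ↥(Cfsg.SU (n + 2) F q) |
            (∀ v : Fin (n + 2) → F, ∃ c : F, ((g : Matrix.SpecialLinearGroup (Fin (n + 2)) F) : Matrix (Fin (n + 2)) (Fin (n + 2)) F) *ᵥ v = v + c • p) ∧
            ∀ v : Fin (n + 2) → F, Cfsg.hermForm (n + 2) F q v p = 0 →
              ((g : Matrix.SpecialLinearGroup (Fin (n + 2)) F) : Matrix (Fin (n + 2)) (Fin (n + 2)) F) *ᵥ v = v}})) ((fun A : Subgroup ↥(Cfsg.SU (n + 2) F q) => A.subgroupOf (⨆ B ∈ {A : Subgroup ↥(Cfsg.SU (n + 2) F q) | ∃ p : Fin (n + 2) → F, p ≠ 0 ∧ Cfsg.hermForm (n + 2) F q p p = 0 ∧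
          A = Subgroup.closure {g : ↥(Cfsg.SU (n + 2) F q) |
            (∀ v : Fin (n + 2) → F, ∃ c : F, ((g : Matrix.SpecialLinearGroup (Fin (n + 2)) F) : Matrix (Fin (n + 2)) (Fin (n + 2)) F) *ᵥ v = v + c • p) ∧
            ∀ v : Fin (n + 2) → F, Cfsg.hermForm (n + 2) F q v p = 0 →
              ((g : Matrix.SpecialLinearGroup (Fin (n + 2)) F) : Matrix (Fin (n + 2)) (Fin (n + 2)) F) *ᵥ v = v}}, B)) ''
      {A : Subgroup ↥(Cfsg.SU (n + 2) F q) | ∃ p : Fin (n + 2) → F, p ≠ 0 ∧ Cfsg.hermForm (n + 2) F q p p = 0 ∧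
          A = Subgroup.closure {g : ↥(Cfsg.SU (n + 2) F q) |
            (∀ v : Fin (n + 2) → F, ∃ c : F, ((g : Matrix.SpecialLinearGroup (Fin (n + 2)) F) : Matrix (Fin (n + 2)) (Fin (n + 2)) F) *ᵥ v = v + c • p) ∧
            ∀ v : Fin (n + 2) → F, Cfsg.hermForm (n + 2) F q v p = 0 →
              ((g : Matrix.SpecialLinearGroup (Fin (n + 2)) F) : Matrix (Fin (n + 2)) (Fin (n + 2)) F) *ᵥ v = v}}) := by
  have hQ : AutPSU.QField F q := AutPSU.QField.of_card hF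
  obtain ⟨L, hLf, ι, hι, hι', hLc⟩ : ∃ (L : Type) (_ : Field L) (ι : L →+* F),
      (∀ x, AutPSU.qb q (ι x) = ι x) ∧ (∀ a, AutPSU.qb q a = a → ∃ x, ι x = a) ∧ Nat.card L = q := by
    obtain ⟨K, hK⟩ : ∃ K, K = ((AutPSU.qb q : F ≃+* F) : F →+* F).eqLocusField (RingHom.id F) := ⟨_, rfl⟩
    have hc : Nat.card K = q := by
      have h := AutPSL.card_eq_card_fixed_pow (AutPSU.qb q : F ≃+* F)
      rw [AutPSU.orderOf_qb, ← hK, Nat.card_eq_fintype_card (α := F), hF] at h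
      exact (Nat.pow_left_injective (by norm_num : 2 ≠ 0) h).symm
    let e : Shrink.{0} K ≃ K := (equivShrink.{0} K).symm
    let fL : Field (Shrink.{0} K) := e.field
    refine ⟨Shrink.{0} K, fL, K.subtype.comp e.ringEquiv.toRingHom, fun x => ?_,
      fun a ha => ?_, by rw [← Nat.card_congr (equivShrink.{0} K), hc]⟩
    · have h := (e.ringEquiv x).2
      simp only [hK] at h
      exact h
    · obtain ⟨x, hx⟩ : ∃ x : K, (x : F) = a := ⟨⟨a, hK ▸ ha⟩, rfl⟩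
      exact ⟨e.ringEquiv.symm x, by simpa using hx⟩
  let := hLf
  let : Fintype L := @Fintype.ofFinite L (Nat.finite_of_card_ne_zero (by
    have := hQ.two_le
    omega))
  obtain ⟨S, hS⟩ : ∃ S, S = RootLib.SUEx.family F q (n + 2) := ⟨_, rfl⟩
  obtain ⟨U, hU⟩ : ∃ U, U = ⨆ B ∈ S, B := ⟨_, rfl⟩
  have hpq : ∀ A ∈ S, ∀ B ∈ S, ∀ p r : Fin (n + 2) → F, p ≠ 0 → Cfsg.hermForm (n + 2) F q p p = 0 →
      A = RootLib.SUEx.TU q p → r ≠ 0 → Cfsg.hermForm (n + 2) F q r r = 0 → B = RootLib.SUEx.TU q r →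
      Cfsg.hermForm (n + 2) F q p r ≠ 0 → ¬ (∀ x ∈ A, ∀ y ∈ B, x * y = y * x) := by
    rintro A - B - p r hp hpp rfl hr hrr rfl h hc
    obtain ⟨φ, hφ, hu, hl⟩ := RootLib.SUEx.exists_hom ι hι hι' hp hpp hr hrr h
    exact RootLib.bracket_ne_bot (RootLib.pair_of_hom φ hφ hu hl).1 (RootLib.bracket_eq_bot_iff.2 hc)
  obtain ⟨hR, hdeg, hk, hconn⟩ := RootLib.isRootSubgroupSet_subgroupOf L (S := S) (U := U) hU
    (by
      rw [hS]; rintro A ⟨p, hp, hpp, rfl⟩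
      exact RootLib.SUEx.TU_ne_bot hp hpp)
    (by
      rw [hS]; rintro A ⟨p, hp, hpp, rfl⟩
      exact RootLib.SUEx.TU_comm hp hpp hp hpp hpp)
    (by
      rw [hS]; rintro A ⟨p, hp, hpp, rfl⟩ g
      exact ⟨_, fun e => hp (AutPSU.app_injective g (by rw [e, AutPSU.app_zero])),
        by rw [AutPSU.app_H]; exact hpp, RootLib.SUEx.conjBy_TU hp hpp g⟩)
    (by
      rw [hS]; rintro A ⟨p, hp, hpp, rfl⟩ B ⟨r, hr, hrr, rfl⟩
      by_cases h : Cfsg.hermForm (n + 2) F q p r = 0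
      · exact Or.inl (RootLib.SUEx.TU_comm hp hpp hr hrr h)
      · exact Or.inr (RootLib.SUEx.exists_hom ι hι hι' hp hpp hr hrr h))
    (by
      intro A hA B hB hc
      have hA' := hA
      have hB' := hB
      rw [hS] at hA' hB'
      obtain ⟨p, hp, hpp, hAp⟩ := hA'
      obtain ⟨r, hr, hrr, hBr⟩ := hB'
      have h : Cfsg.hermForm (n + 2) F q p r = 0 := by
        by_contra h
        exact hpq A hA B hB p r hp hpp hAp hr hrr hBr h hc
      obtain ⟨s, hs, hss, hne⟩ := RootLib.SUEx.exists_common (q := q) hp hpp hr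
      have hC : RootLib.SUEx.TU q s ∈ S := hS ▸ ⟨s, hs, hss, rfl⟩
      exact ⟨_, hC, hpq A hA _ hC p s hp hpp hAp hs hss rfl
          (fun e => (hne h).1 (AutPSU.H_eq_zero_comm.1 e)),
        hpq _ hC B hB s r hs hss rfl hr hrr hBr (hne h).2⟩)
  have h2 : ∃ A ∈ (fun A : Subgroup _ => A.subgroupOf U) '' S,
      ∃ B ∈ (fun A : Subgroup _ => A.subgroupOf U) '' S, A ≠ B := by
    obtain ⟨p, hp, hpp⟩ := RootLib.SUEx.exists_isotropic (F := F) (q := q) n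
    obtain ⟨w, hw, hww⟩ := AutPSU.exists_partner (q := q) hp hpp
    have hA : RootLib.SUEx.TU q p ∈ S := hS ▸ ⟨p, hp, hpp, rfl⟩
    have hw0 : w ≠ 0 := fun e => by simp [e] at hw
    have hB : RootLib.SUEx.TU q w ∈ S := hS ▸ ⟨w, hw0, hww, rfl⟩
    refine ⟨_, ⟨_, hA, rfl⟩, _, ⟨_, hB, rfl⟩, fun e => ?_⟩
    refine hpq _ hA _ hB p w hp hpp rfl hw0 hww rfl
      (fun e' => by rw [AutPSU.H_eq_zero_comm.1 e'] at hw; exact zero_ne_one hw) ?_
    have h' : ∀ A : Subgroup ↥(Cfsg.SU (n + 2) F q), A ∈ S → (A.subgroupOf U).map U.subtype = A :=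
      fun A hA => Subgroup.map_subgroupOf_eq_of_le (hU ▸ le_iSup₂ (f := fun B (_ : B ∈ S) => B) A hA)
    have e2 := congrArg (Subgroup.map U.subtype) e
    simp only [h' _ hA, h' _ hB] at e2
    rw [← e2]
    exact RootLib.SUEx.TU_comm hp hpp hp hpp hpp
  subst hU
  subst hS
  exact ⟨⟨hR, ((S5032.result hR h2).1 hconn).1⟩, hdeg,
    ⟨L, hLf, inferInstance, by rw [← Nat.card_eq_fintype_card, hLc], hk⟩, hconn⟩

end Cfsg.Agent.S5071
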