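import Cfsg.Statements.S5073
import Cfsg.Agent.Lib.Quad.Basic

set_option autoImplicit false
universe u
open Cfsg

namespace Cfsg.Agent.S5073

/-- Let k be a field of characteristic not 2 with k not of order 3, M a finite-dimensional k-vector space and G ≤ GL(M) such that (G, M) is a quadratic pair (M irreducible for G, and G generated by its quadratically acting elements σ whose scalar family 1 + c(σ − 1), c ∈ k, lies in G). Write 𝒬_d for the quadratic elements of G of minimal commutator rank, E(σ) for the subgroup generated by the members of 𝒬_d with the same fixed space and commutator space as σ, and Σ for the set of these subgroups. Let E, F ∈ Σ. If some non-identity element of E commutes with some non-identity element of F, or some non-identity element of E normalizes F, then E and F commute elementwise. -/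
theorem result {k : Type u} [Field k] (hk2 : ringChar k ≠ 2) (hk3 : Nat.card k ≠ 3)
    {M : Type u} [AddCommGroup M] [Module k M] [FiniteDimensional k M]
    {G : Subgroup (LinearMap.GeneralLinearGroup k M)} (hG : Cfsg.IsQuadraticPair G)
    {E F : Subgroup (LinearMap.GeneralLinearGroup k M)} (hE : E ∈ Cfsg.quadraticRootSubgroups G) (hF : F ∈ Cfsg.quadraticRootSubgroups G)
    (h : (∃ e ∈ E, e ≠ 1 ∧ ∃ f ∈ F, f ≠ 1 ∧ e * f = f * e) ∨ E ⊓ Subgroup.normalizer (F : Set (LinearMap.GeneralLinearGroup k M)) ≠ ⊥) :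
    ⁅E, F⁆ = ⊥ := by
  obtain ⟨σ, hσ, rfl⟩ := hE
  obtain ⟨τ, hτ, rfl⟩ := hF
  have h2 := Quad.two_ne_zero_of_ringChar hk2
  set hA := Quad.isMinQ_of_mem hσ
  set hB := Quad.isMinQ_of_mem hτ
  suffices key : ((σ : M →ₗ[k] M) - 1) * ((τ : M →ₗ[k] M) - 1) =
      ((τ : M →ₗ[k] M) - 1) * ((σ : M →ₗ[k] M) - 1) by
    rw [Subgroup.commutator_eq_bot_iff_le_centralizer]
    intro x hx y hy
    rw [Quad.mem_sameAction_iff hσ] at hx
    rw [SetLike.mem_coe, Quad.mem_sameAction_iff hτ] at hy
    have := Quad.comm_amod_amod h2 hA hB key hx hy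
    refine Units.ext ?_
    simp only [Units.val_mul]
    linear_combination (norm := noncomm_ring) -this
  rcases h with ⟨e, he, he1, f, hf, hf1, hef⟩ | hne
  · rw [Quad.mem_sameAction_iff hσ] at he
    rw [Quad.mem_sameAction_iff hτ] at hf
    have he0 : (e : M →ₗ[k] M) - 1 ≠ 0 := fun h0 => he1 (Units.ext (sub_eq_zero.1 h0))
    have hf0 : (f : M →ₗ[k] M) - 1 ≠ 0 := fun h0 => hf1 (Units.ext (sub_eq_zero.1 h0))
    have h := congrArg Units.val hef
    simp only [Units.val_mul] at h
    refine Quad.comm_amod_amod h2 (Quad.isMinQ_of_amod he he0) (Quad.isMinQ_of_amod hf hf0)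
      (by linear_combination (norm := noncomm_ring) h)
      (by rw [Quad.amod_eq he he0]; exact Quad.self_mem_amod hA)
      (by rw [Quad.amod_eq hf hf0]; exact Quad.self_mem_amod hB)
  · obtain ⟨⟨e, he⟩, he1'⟩ := Subgroup.ne_bot_iff_exists_ne_one.1 hne
    have he1 : e ≠ 1 := fun h => he1' (Subtype.ext h)
    rw [Subgroup.mem_inf, Quad.mem_sameAction_iff hσ] at he
    obtain ⟨he, hen⟩ := he
    have he0 : (e : M →ₗ[k] M) - 1 ≠ 0 := fun h0 => he1 (Units.ext (sub_eq_zero.1 h0))
    have hτ' : τ ∈ Cfsg.sameActionSubgroup G τ := Subgroup.subset_closure ⟨hτ, rfl, rfl⟩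
    have h := (Subgroup.mem_normalizer_iff.1 hen τ).1 hτ'
    rw [Quad.mem_sameAction_iff hτ] at h
    have hval := Quad.inv_val_of_val he.1.1 (add_sub_cancel _ _).symm
    refine Quad.comm_amod_amod h2 (Quad.isMinQ_of_amod he he0) hB
      (Quad.exists_comm_of_normalizes h2 (Quad.isMinQ_of_amod he he0) hB ?_)
      (by rw [Quad.amod_eq he he0]; exact Quad.self_mem_amod hA) (Quad.self_mem_amod hB)
    convert h using 1
    simp only [Units.val_mul, hval]
    linear_combination (norm := noncomm_ring) he.1.1

end Cfsg.Agent.S5073
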