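import Cfsg.Statements.S5084
import Cfsg.Agent.Lib.Fusion.Hyperfocal

set_option autoImplicit false
open Cfsg

namespace Cfsg.Agent.S5084

/-- In a saturated fusion system over a finite p-group S, a subgroup Q is central in the system if and only if Q ≤ S and no element of Q is conjugate in the system to any element other than itself. -/
theorem result {Ω : Type*} [Group Ω] {S : Subgroup Ω} [Finite S] (p : ℕ) [Fact p.Prime] (hS : IsPGroup p S) (F : Cfsg.FusionSystem S) (hF : F.IsSaturated p) (Q : Subgroup Ω) : F.IsCentral Q ↔ (Q ≤ S ∧ ∀ x ∈ Q, ∀ y : Ω, F.IsConjElt x y → y = x) := by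
  constructor
  · refine fun h => ⟨h.1, fun x hx y hxy => ?_⟩
    obtain ⟨φ, hφ, rfl⟩ := hxy
    obtain ⟨g, -, hgf, hgQ⟩ :=
      (Cfsg.Agent.Fusion.isCentral_iff.mp h).2 _ _ (Cfsg.Agent.Fusion.mapTo_ev hφ)
    rw [← Cfsg.Agent.Fusion.ev_apply φ (Subgroup.mem_zpowers x), ← hgf x (Subgroup.mem_zpowers x),
      hgQ x hx]
  · rintro ⟨hQ, hfix⟩
    have hf1 : ∀ {R : Subgroup Ω} {f : Ω → Ω}, Cfsg.Agent.Fusion.MapTo F R f →
        ∀ x ∈ R, x ∈ Q → f x = x := by
      intro R f hf x hx hxQ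
      obtain ⟨φ, hφ, hφf⟩ := hf.restrict ((Subgroup.zpowers_le).mpr hx)
      exact hfix x hxQ _ ⟨φ, hφ, hφf ⟨x, Subgroup.mem_zpowers x⟩⟩
    refine Cfsg.Agent.Fusion.isCentral_iff.mpr ⟨hQ, fun P f hf => ?_⟩
    refine Cfsg.Agent.Fusion.alperin_prop hS hF (fun P f => ∃ g, Cfsg.Agent.Fusion.MapTo F (P ⊔ Q) g
      ∧ (∀ x ∈ P, g x = f x) ∧ ∀ x ∈ Q, g x = x) ?_ ?_ ?_ ?_ ?_ hf
    · rintro P f g _ ⟨u, hu, huf, huQ⟩ hg
      exact ⟨u, hu, fun x hx => (huf x hx).trans (hg x hx).symm, huQ⟩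
    · intro P g hP hg
      have hm : Cfsg.Agent.Fusion.MapTo F (P ⊔ Q) (Cfsg.Agent.Fusion.cj g) :=
        Cfsg.Agent.Fusion.mapTo_cj (sup_le hP hQ) hg
      exact ⟨_, hm, fun x _ => rfl, fun x hx => hf1 hm x (Subgroup.mem_sup_right hx) hx⟩
    · rintro P R f g hf' hg' hm ⟨u, hu, huf, huQ⟩ ⟨v, hv, hvg, hvQ⟩
      have hum : ∀ x ∈ P ⊔ Q, u x ∈ R ⊔ Q := fun x hx => by
        have hle : Cfsg.Agent.Fusion.img u (P ⊔ Q) ≤ R ⊔ Q := by
          rw [hu.img_sup le_sup_left le_sup_right]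
          refine sup_le_sup (Cfsg.Agent.Fusion.img_le_of_forall fun z hz => ?_)
            (Cfsg.Agent.Fusion.img_le_of_forall fun z hz => ?_)
          · rw [huf z hz]; exact hm z hz
          · rw [huQ z hz]; exact hz
        exact hle (Cfsg.Agent.Fusion.mem_img_of_mem hx)
      refine ⟨fun x => v (u x), hu.comp hv hum, fun x hx => ?_, fun x hx => ?_⟩
      · show v (u x) = g (f x)
        rw [huf x hx, hvg _ (hm x hx)]
      · show v (u x) = x
        rw [huQ x hx, hvQ x hx]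
    · rintro P f g hf' hg' hgf ⟨u, hu, huf, huQ⟩
      obtain ⟨v, hv, hvu, -, -⟩ := hu.exists_iso_inverse
      have himg : Cfsg.Agent.Fusion.img f P ⊔ Q ≤ Cfsg.Agent.Fusion.img u (P ⊔ Q) := by
        rw [hu.img_sup le_sup_left le_sup_right, Cfsg.Agent.Fusion.img_congr huf,
          Cfsg.Agent.Fusion.img_congr (g := fun x : Ω => x) huQ, Cfsg.Agent.Fusion.img_id]
      refine ⟨v, hv.restrict himg, fun y hy => ?_, fun x hx => ?_⟩
      · obtain ⟨x, hx, rfl⟩ := (hf'.mem_img_iff le_rfl).mp hy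
        rw [hgf x hx, ← huf x hx, hvu x (Subgroup.mem_sup_left hx)]
      · conv_lhs => rw [← huQ x hx]
        exact hvu x (Subgroup.mem_sup_right hx)
    · intro P hP α hα
      have hPS : P ≤ S := (Cfsg.Agent.Fusion.isFullyNormalized_of_eq_top_or_essential hP).1
      have hQP : Q ≤ P := by
        intro x hx
        rcases hP with rfl | hP
        · exact hQ hx
        refine hP.1.2 P (Cfsg.Agent.Fusion.isConj_refl hPS)
          (Cfsg.Agent.Fusion.mem_centralizerIn.mpr ⟨hQ hx, fun y hy => ?_⟩)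
        have h1 : y * x * y⁻¹ = x :=
          hf1 (Cfsg.Agent.Fusion.mapTo_cj (F := F) hQ (hPS hy)) x hx hx
        exact mul_inv_eq_iff_eq_mul.mp h1
      have hm := Cfsg.Agent.Fusion.mapTo_of_mem_autGroup hPS hα
      rw [sup_eq_left.mpr hQP]
      exact ⟨_, hm, fun x _ => rfl, fun x hx => hf1 hm x (hQP hx) hx⟩

end Cfsg.Agent.S5084
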