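import Cfsg.Statements.S5085
import Cfsg.Agent.Lib.Fusion.Saturation
import Cfsg.Agent.Lib.Fusion.Group
import Cfsg.Agent.Lib.Fusion.Normal

set_option autoImplicit false
open Cfsg

namespace Cfsg.Agent.S5085

/-- In any fusion system, a characteristic subgroup of a subgroup that is normal in the system is itself normal in the system. -/
theorem result {Ω : Type*} [Group Ω] {S : Subgroup Ω} (F : Cfsg.FusionSystem S) (Q U : Subgroup Ω) (hQ : F.IsNormal Q) (hUQ : U ≤ Q) (hU : (U.subgroupOf Q).Characteristic) : F.IsNormal U := by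
  refine Fusion.isNormal_iff.mpr ⟨hUQ.trans hQ.1, fun P f hf => ?_⟩
  obtain ⟨g, hg, hgf, hgQ⟩ := (Fusion.isNormal_iff.mp hQ).2 P f hf
  refine ⟨g, hg.restrict (sup_le_sup_left hUQ P), hgf, ?_⟩
  have hgr := hg.restrict (le_sup_right : Q ≤ P ⊔ Q)
  have h := Subgroup.characteristic_iff_map_eq.mp hU (Fusion.isoEquiv hgr hgQ)
  refine le_antisymm (Fusion.img_le_of_forall fun x hx => ?_) fun y hy => ?_
  · exact Subgroup.mem_subgroupOf.mp (h.le ⟨⟨x, hUQ hx⟩, hx, rfl⟩ :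
      Fusion.isoEquiv hgr hgQ ⟨x, hUQ hx⟩ ∈ U.subgroupOf Q)
  · obtain ⟨x, hx, hxy⟩ := h.ge (Subgroup.mem_subgroupOf.mpr hy : (⟨y, hUQ hy⟩ : Q) ∈ U.subgroupOf Q)
    have hxy' : g x = y := congrArg Subtype.val hxy
    exact hxy' ▸ Fusion.mem_img_of_mem (Subgroup.mem_subgroupOf.mp hx)

end Cfsg.Agent.S5085
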