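import Cfsg.Statements.S5087
import Cfsg.Agent.Lib.Fusion.Group
import Cfsg.Agent.Lib.Fusion.NormalCriteria

set_option autoImplicit false
open Cfsg

namespace Cfsg.Agent.S5087

/-- In a saturated fusion system over a finite p-group S, a subgroup Q is normal in the system if and only if every subgroup P that equals S or is essential contains Q and every element of Aut_F(P) maps Q onto itself. -/
theorem result {Ω : Type*} [Group Ω] {S : Subgroup Ω} [Finite S] (p : ℕ) [Fact p.Prime] (hS : IsPGroup p S) (F : Cfsg.FusionSystem S) (hF : F.IsSaturated p) (Q : Subgroup Ω) : F.IsNormal Q ↔ ∀ P : Subgroup Ω, (P = S ∨ F.IsEssential p P) → (Q ≤ P ∧ ∀ α ∈ F.autGroup P, (Q.subgroupOf P).map α.toMonoidHom = Q.subgroupOf P) := by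
  constructor
  · intro h P hP
    obtain ⟨hQP, hinv⟩ := Fusion.le_and_invariant_of_isNormal hS h P hP
    refine ⟨hQP, fun α hα => le_antisymm ?_ fun x hx => ?_⟩
    · rintro _ ⟨x, hx, rfl⟩
      have := hinv α hα x (Subgroup.mem_subgroupOf.mp hx)
      rwa [Fusion.autFun_coe] at this
    · refine ⟨α⁻¹ x, ?_, α.apply_symm_apply x⟩
      have := hinv α⁻¹ (Subgroup.inv_mem _ hα) x (Subgroup.mem_subgroupOf.mp hx)
      rwa [Fusion.autFun_coe] at this
  · intro h
    refine Fusion.isNormal_of_forall_essential hS hF fun P hP => ⟨(h P hP).1, fun α hα x hx => ?_⟩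
    rw [Fusion.autFun_apply α ((h P hP).1 hx)]
    exact ((h P hP).2 α hα).le ⟨⟨x, (h P hP).1 hx⟩, Subgroup.mem_subgroupOf.mpr hx, rfl⟩

end Cfsg.Agent.S5087
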