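import Cfsg.Statements.S5089
import Cfsg.Agent.Lib.Fusion.Group
import Cfsg.Agent.Lib.Fusion.NormalCriteria

set_option autoImplicit false
open Cfsg

namespace Cfsg.Agent.S5089

/-- A saturated fusion system over a finite p-group has a nontrivial subgroup that is normal in the system (O_p(F) ≠ 1) if and only if some nontrivial abelian subgroup is strongly closed in the system. -/
theorem result {Ω : Type*} [Group Ω] {S : Subgroup Ω} [Finite S] (p : ℕ) [Fact p.Prime] (hS : IsPGroup p S) (F : Cfsg.FusionSystem S) (hF : F.IsSaturated p) : F.core ≠ ⊥ ↔ ∃ Q : Subgroup Ω, Q ≠ ⊥ ∧ IsMulCommutative Q ∧ F.StronglyClosed Q := by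
  constructor
  · intro hne
    have hn := Fusion.isNormal_core F
    obtain ⟨n, -, -, -, hnorm, -⟩ := Fusion.exists_normal_series hS hn
    have := Fusion.finite_of_le hn.1
    have : Nontrivial F.core := (Subgroup.nontrivial_iff_ne_bot _).mpr hne
    have := (hS.to_le hn.1).center_nontrivial
    refine ⟨Fusion.ucs F.core 1, ?_, ?_, Fusion.IsNormal.stronglyClosed (hnorm 1)⟩
    · rw [Fusion.ucs, Subgroup.upperCentralSeries_one, Ne,
        Subgroup.map_eq_bot_iff_of_injective _ (F.core).subtype_injective]
      exact (Subgroup.nontrivial_iff_ne_bot _).mp inferInstance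
    · rw [Fusion.ucs, Subgroup.upperCentralSeries_one]
      infer_instance
  · rintro ⟨Q, hne, hab, hQ⟩ hbot
    refine hne (le_bot_iff.mp (hbot ▸ le_sSup (?_ : F.IsNormal Q)))
    refine Fusion.isNormal_of_stronglyClosed_series hS hF (n := 1) (fun i => if i = 0 then ⊥ else Q)
      (if_pos rfl) (if_neg (by decide)) ?_ (fun i => by rw [if_neg (Fin.succ_ne_zero i)]; exact hQ)
      fun i x hx k hk => ?_
    · intro a b hab'
      show (if a = 0 then ⊥ else Q) ≤ (if b = 0 then ⊥ else Q)
      by_cases ha : a = 0
      · rw [if_pos ha]; exact bot_le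
      · rw [if_neg ha, if_neg fun (hb : b = 0) => ha (by subst hb; exact le_antisymm hab' (Fin.zero_le a))]
    · rw [if_neg (Fin.succ_ne_zero i)] at hx
      have hcomm : k * x = x * k := setLike_mul_comm hk hx
      rw [hcomm]
      simp

end Cfsg.Agent.S5089
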