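import Cfsg.Statements.S5092
import Cfsg.Agent.Lib.Fusion.Hyperfocal

set_option autoImplicit false
open Cfsg

namespace Cfsg.Agent.S5092

/-- For a saturated fusion system over a finite p-group S, the focal subgroup is the product of the hyperfocal subgroup and the derived subgroup of S. -/
theorem result {Ω : Type*} [Group Ω] {S : Subgroup Ω} [Finite S] (p : ℕ) [Fact p.Prime] (hS : IsPGroup p S) (F : Cfsg.FusionSystem S) (hF : F.IsSaturated p) : F.focalSubgroup = F.hyperfocalSubgroup p ⊔ ⁅(S : Subgroup Ω), (S : Subgroup Ω)⁆ := by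
  set D := F.hyperfocalSubgroup p ⊔ ⁅(S : Subgroup Ω), (S : Subgroup Ω)⁆ with hD
  refine le_antisymm (Cfsg.Agent.Fusion.focal_le_iff.mpr fun P f hf => ?_)
    (sup_le Cfsg.Agent.Fusion.hyperfocal_le_focal ?_)
  · have hcomm : ∀ s ∈ S, ∀ x ∈ S, x⁻¹ * (s * x * s⁻¹) ∈ D := fun s hs x hx => by
      have := Subgroup.commutator_mem_commutator (S.inv_mem hx) hs
      refine Subgroup.mem_sup_right ?_
      convert this using 1
      rw [commutatorElement_def]
      group
    refine Cfsg.Agent.Fusion.alperin_prop hS hF (fun P f => ∀ x ∈ P, x⁻¹ * f x ∈ D)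
      (fun {P f g} _ h hg x hx => by rw [hg x hx]; exact h x hx) ?_ ?_ ?_ ?_ hf
    · intro P g hP hg x hx
      exact hcomm g hg x (hP hx)
    · intro P Q f g _ _ hm h1 h2 x hx
      have := D.mul_mem (h1 x hx) (h2 _ (hm x hx))
      convert this using 1
      group
    · intro P f g hf' _ hgf h y hy
      obtain ⟨x, hx, rfl⟩ := (hf'.mem_img_iff le_rfl).mp hy
      rw [hgf x hx]
      have := D.inv_mem (h x hx)
      rwa [mul_inv_rev, inv_inv] at this
    · intro P hP α hα x hx
      have hPn := Cfsg.Agent.Fusion.isFullyNormalized_of_eq_top_or_essential hP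
      obtain ⟨β, hβ, c, hc, rfl⟩ :=
        Cfsg.Agent.Fusion.exists_eq_mul_of_isFullyNormalized hS hF hPn hα
      obtain ⟨s, hs, hsc⟩ := Cfsg.Agent.Fusion.mem_autInducedBy_iff_cj.mp hc
      have hcx := Cfsg.Agent.Fusion.autFun_mem c hx
      have h1 := Cfsg.Agent.Fusion.mem_hyperfocal hPn.1 hβ hcx
      have h2 := hcomm s hs x (hPn.1 hx)
      rw [← Cfsg.Agent.Fusion.cj_apply, ← hsc x hx] at h2
      have := D.mul_mem h2 (Subgroup.mem_sup_left h1)
      rw [Cfsg.Agent.Fusion.autFun_mul _ _ hx]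
      convert this using 1
      group
  · rw [Subgroup.commutator_le]
    intro a ha b hb
    have := Cfsg.Agent.Fusion.mem_focal (Cfsg.Agent.Fusion.mapTo_cj (F := F) le_rfl hb)
      (S.inv_mem ha)
    convert this using 1
    rw [commutatorElement_def, Cfsg.Agent.Fusion.cj_apply]
    group

end Cfsg.Agent.S5092
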