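import Cfsg.Statements.S5102
import Cfsg.Agent.Lib.Fusion.Group
import Cfsg.Agent.Lib.Fusion.NormalCriteria

set_option autoImplicit false
open Cfsg

namespace Cfsg.Agent.S5102

/-- A normal p-subgroup of a finite group G is normal in the fusion system of G on a Sylow p-subgroup. -/
theorem result {G : Type*} [Group G] [Finite G] (p : ℕ) [Fact p.Prime] (S : Sylow p G) (R : Subgroup G) [R.Normal] (hR : IsPGroup p R) : (Cfsg.groupFusionSystem (S : Subgroup G)).IsNormal R := by
  have hRS : R ≤ (S : Subgroup G) := hR.le_sylow_of_normal S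
  refine Fusion.isNormal_iff.mpr ⟨hRS, fun P f hf => ?_⟩
  obtain ⟨hP, g, hg⟩ := Fusion.mapTo_gfs_iff.mp hf
  have hmap : R.map (MulAut.conj g).toMonoidHom = R :=
    Subgroup.mem_normalizer_iff_map_conj_eq.mp (by rw [Subgroup.normalizer_eq_top]; trivial)
  refine ⟨Fusion.cj g, Fusion.mapTo_gfs_cj (sup_le hP hRS) ((Fusion.map_conj_le_iff g).mp ?_),
    fun x hx => (hg x hx).1.symm, (Fusion.img_cj g).trans hmap⟩
  rw [Subgroup.map_sup, hmap]
  exact sup_le ((Fusion.map_conj_le_iff g).mpr fun x hx => (hg x hx).2) hRS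

end Cfsg.Agent.S5102
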