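import Cfsg.Statements.S5104
import Cfsg.Agent.Lib.Fusion.Saturation
import Cfsg.Agent.Lib.Fusion.Group
import Cfsg.Agent.Lib.Fusion.Normal

set_option autoImplicit false
open Cfsg

namespace Cfsg.Agent.S5104

/-- In a saturated fusion system over a finite p-group S, a fully centralized subgroup U with C_S(U) ≤ U is centric. -/
theorem result {Ω : Type*} [Group Ω] {S : Subgroup Ω} [Finite S] (p : ℕ) [Fact p.Prime] (hS : IsPGroup p S) (F : Cfsg.FusionSystem S) (hF : F.IsSaturated p) (U : Subgroup Ω) (hU : F.IsFullyCentralized U) (hC : Cfsg.FusionSystem.centralizerIn S U ≤ U) : F.IsCentric U := by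
  refine ⟨hU.1, fun Q hQ => ?_⟩
  obtain ⟨f, hf, rfl⟩ := Fusion.isConj_iff.mp hQ
  have := Fusion.finite_of_le (Fusion.centralizerIn_le (S := S) (P := Fusion.img f U))
  have h : Fusion.img f (Cfsg.FusionSystem.centralizerIn S U) =
      Cfsg.FusionSystem.centralizerIn S (Fusion.img f U) := by
    refine Subgroup.eq_of_le_of_card_ge (Fusion.img_le_of_forall fun z hz =>
      hf.map_mem_centralizerIn le_rfl (hC hz) hz) ?_
    rw [hf.card_img hC]
    exact hU.2 _ hf.isConj
  exact h.ge.trans (Fusion.img_mono hC)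

end Cfsg.Agent.S5104
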