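import Cfsg.Statements.S5106
import Cfsg.Agent.Lib.Fusion.Group
import Cfsg.Agent.Lib.Fusion.NormalCriteria

set_option autoImplicit false
open Cfsg

namespace Cfsg.Agent.S5106

/-- In a saturated fusion system over a finite p-group S, a subgroup R ≤ S is normal in the system if and only if every map of the system whose source is a subgroup of R is the restriction of an element of Aut_F(R). -/
theorem result {Ω : Type*} [Group Ω] {S : Subgroup Ω} [Finite S] (p : ℕ) [Fact p.Prime] (hS : IsPGroup p S) (F : Cfsg.FusionSystem S) (hF : F.IsSaturated p) (R : Subgroup Ω) (hRS : R ≤ S) : F.IsNormal R ↔ ∀ (P : Subgroup Ω) (hPR : P ≤ R) (φ : P →* Ω), φ ∈ F.Hom P → ∃ α ∈ F.autGroup R, ∀ x : P, ((α (Subgroup.inclusion hPR x) : R) : Ω) = φ x := by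
  constructor
  · intro h P hPR φ hφ
    obtain ⟨g, hg, hgf, hgR⟩ := (Fusion.isNormal_iff.mp h).2 P _ (Fusion.mapTo_ev hφ)
    have hg' := hg.restrict (le_sup_right : R ≤ P ⊔ R)
    refine ⟨Fusion.autOf hg' hgR, Fusion.autOf_mem hg' hgR, fun x => ?_⟩
    rw [← Fusion.autFun_coe, Subgroup.coe_inclusion, Fusion.autFun_autOf hg' hgR (hPR x.2), hgf _ x.2,
      Fusion.ev_coe]
  · intro h
    have := Fusion.finite_of_le hRS
    have := (hS.to_le hRS).isNilpotent
    have hsc : ∀ i, F.StronglyClosed (Fusion.ucs R i) := by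
      refine fun i => Fusion.stronglyClosed_iff.mpr
        ⟨(Subgroup.map_subtype_le _).trans hRS, fun P f hP hf x hx => ?_⟩
      obtain ⟨φ, hφ, hφf⟩ := hf
      have hPR : P ≤ R := hP.trans (Subgroup.map_subtype_le _)
      obtain ⟨α, -, hα⟩ := h P hPR φ hφ
      rw [← hφf ⟨x, hx⟩, ← hα ⟨x, hx⟩]
      obtain ⟨a, ha, hax⟩ := hP hx
      refine ⟨α (Subgroup.inclusion hPR ⟨x, hx⟩), ?_, rfl⟩
      have hc := Subgroup.characteristic_iff_map_eq.mp
        (inferInstance : (Subgroup.upperCentralSeries R i).Characteristic) α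
      rw [← hc]
      exact ⟨a, ha, congrArg α (Subtype.ext hax)⟩
    refine Fusion.isNormal_of_stronglyClosed_series hS hF (n := Group.nilpotencyClass R)
      (fun i => Fusion.ucs R i) (by simp [Fusion.ucs]) (by
        simp [Fusion.ucs, Subgroup.upperCentralSeries_nilpotencyClass, ← MonoidHom.range_eq_map])
      (fun a b hab => Subgroup.map_mono (Subgroup.upperCentralSeries_mono R hab))
      (fun i => hsc _) fun i x hx k hk => ?_
    obtain ⟨a, ha, rfl⟩ := hx
    refine ⟨a⁻¹ * (⟨k, hk⟩ * a * ⟨k, hk⟩⁻¹), ?_, rfl⟩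
    have h1 := (Subgroup.mem_upperCentralSeries_succ_iff.mp (Subgroup.inv_mem _ ha)) ⟨k, hk⟩
    convert h1 using 1
    simp [commutatorElement_def, mul_assoc]

end Cfsg.Agent.S5106
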