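import Cfsg.Statements.S5107
import Cfsg.Agent.Lib.Fusion.Group
import Cfsg.Agent.Lib.Fusion.NormalCriteria

set_option autoImplicit false
open Cfsg

namespace Cfsg.Agent.S5107

/-- If a Sylow p-subgroup S of a finite group G has nilpotency class at most two and its centre is strongly closed in S with respect to G, then every map of the fusion system of G on S is conjugation by an element of N_G(S), and S is the largest subgroup normal in that fusion system. -/
theorem result {G : Type*} [Group G] [Finite G] (p : ℕ) [Fact p.Prime] (S : Sylow p G) (hcl : ⁅(S : Subgroup G), (S : Subgroup G)⁆ ≤ (S : Subgroup G) ⊓ Subgroup.centralizer ((S : Subgroup G) : Set G)) (hZ : Cfsg.IsStronglyClosed ((S : Subgroup G) ⊓ Subgroup.centralizer ((S : Subgroup G) : Set G)) (S : Subgroup G)) : (∀ (P : Subgroup G) (φ : P →* G), φ ∈ (Cfsg.groupFusionSystem (S : Subgroup G)).Hom P → ∃ g ∈ Subgroup.normalizer ((S : Subgroup G) : Set G), ∀ x : P, φ x = g * (x : G) * g⁻¹) ∧ (Cfsg.groupFusionSystem (S : Subgroup G)).core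 = S := by
  set Z := (S : Subgroup G) ⊓ Subgroup.centralizer ((S : Subgroup G) : Set G) with hZdef
  have hsc : (Cfsg.groupFusionSystem (S : Subgroup G)).StronglyClosed Z := by
    refine Fusion.stronglyClosed_iff.mpr ⟨inf_le_left, fun R f hR hf x hx => ?_⟩
    obtain ⟨-, g, hg⟩ := Fusion.mapTo_gfs_iff.mp hf
    rw [(hg x hx).1]
    exact hZ.2 x (hR hx) g (hg x hx).2
  have hScl : (Cfsg.groupFusionSystem (S : Subgroup G)).StronglyClosed (S : Subgroup G) :=
    Fusion.stronglyClosed_iff.mpr ⟨le_rfl, fun R f _ hf x hx => hf.mem hx⟩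
  have hN : (Cfsg.groupFusionSystem (S : Subgroup G)).IsNormal (S : Subgroup G) := by
    refine Fusion.isNormal_of_stronglyClosed_series S.2 (Fusion.isSaturated_gfs S) (n := 2)
      ![⊥, Z, (S : Subgroup G)] rfl rfl ?_ (fun i => ?_) fun i x hx k hk => ?_
    · exact Fin.monotone_iff_le_succ.mpr fun i => by
        fin_cases i
        · exact bot_le
        · exact inf_le_left
    · fin_cases i
      · exact hsc
      · exact hScl
    · fin_cases i
      · have hx' : x ∈ Z := hx
        show x⁻¹ * (k * x * k⁻¹) ∈ (⊥ : Subgroup G)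
        rw [Subgroup.mem_bot, Subgroup.mem_centralizer_iff.mp hx'.2 k hk]
        group
      · exact Fusion.comm_mem_of_commutator_le hcl hx hk
  refine ⟨fun P φ hφ => ?_, le_antisymm (Fusion.isNormal_core _).1 (le_sSup hN)⟩
  obtain ⟨g, hg, hgf, -⟩ := (Fusion.isNormal_iff.mp hN).2 P _ (Fusion.mapTo_ev hφ)
  obtain ⟨-, h, hh⟩ := Fusion.mapTo_gfs_iff.mp hg
  have hle : (S : Subgroup G) ≤ P ⊔ (S : Subgroup G) := le_sup_right
  refine ⟨h, Fusion.mem_normalizer_of_forall fun x hx => (hh x (hle hx)).2, fun x => ?_⟩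
  rw [← Fusion.ev_coe φ x, ← hgf _ x.2]
  exact (hh _ ((le_sup_left : P ≤ P ⊔ (S : Subgroup G)) x.2)).1

end Cfsg.Agent.S5107
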