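import Cfsg.Statements.S5112
import Cfsg.Agent.Lib.Fusion.Saturation
import Cfsg.Agent.Lib.InvChar.Aut2
import Cfsg.Agent.S3116

set_option autoImplicit false
open Cfsg

namespace Cfsg.Agent.S5112

/-- If S is a dihedral or generalized quaternion 2-group of order at least 16, then in every saturated fusion system over S (at the prime 2) the automorphism group Aut_F(S) consists of the inner automorphisms of S. -/
theorem result {Ω : Type*} [Group Ω] {S : Subgroup Ω} [Finite S] (n : ℕ) (hn : 4 ≤ n) (hshape : Nonempty (S ≃* DihedralGroup (2 ^ (n - 1))) ∨ Nonempty (S ≃* QuaternionGroup (2 ^ (n - 2)))) (F : Cfsg.FusionSystem S) (hF : F.IsSaturated 2) : F.autGroup S = Cfsg.Inn S := by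
  classical
  have hS : IsPGroup 2 S := by
    refine IsPGroup.of_card (n := n) ?_
    rcases hshape with ⟨⟨e⟩⟩ | ⟨⟨e⟩⟩
    · rw [Nat.card_congr e.toEquiv, DihedralGroup.nat_card, ← pow_succ']
      congr 1
      omega
    · haveI : NeZero (2 ^ (n - 2)) := ⟨by positivity⟩
      rw [Nat.card_congr e.toEquiv, Nat.card_eq_fintype_card, QuaternionGroup.card,
        show (4 : ℕ) = 2 ^ 2 from rfl, ← pow_add]
      congr 1
      omega
  have hpre : IsPGroup 2 (MulAut S) := by
    rcases hshape with hd | hq
    · refine S3116.result hS (Or.inl ⟨2 ^ (n - 1), ?_, hd⟩)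
      calc 4 = 2 ^ 2 := rfl
        _ ≤ 2 ^ (n - 1) := Nat.pow_le_pow_right (by norm_num) (by omega)
    · obtain ⟨e⟩ := hq
      haveI : NeZero (2 ^ (n - 2)) := ⟨by positivity⟩
      have hm : 4 ≤ 2 ^ (n - 2) := by
        calc 4 = 2 ^ 2 := rfl
          _ ≤ 2 ^ (n - 2) := Nat.pow_le_pow_right (by norm_num) (by omega)
      have hpw : 2 ^ (n - 1) = 2 * 2 ^ (n - 2) := by
        rw [← pow_succ']
        congr 1
        omega
      have hQ : IsPGroup 2 (MulAut (QuaternionGroup (2 ^ (n - 2)))) := by
        refine InvChar.isPGroup_mulAut_of_cyclic_index_two (n - 1) (by omega) (QuaternionGroup.a 1)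
          (QuaternionGroup.xa 0) ?_ ?_ ?_ ?_
        · rw [QuaternionGroup.orderOf_a_one, hpw]
        · intro z
          cases z with
          | a i =>
            exact Or.inl (Subgroup.mem_zpowers_iff.mpr ⟨(i.val : ℤ), by
              rw [zpow_natCast, QuaternionGroup.a_one_pow, ZMod.natCast_zmod_val]⟩)
          | xa i =>
            refine Or.inr ⟨QuaternionGroup.a (-i), Subgroup.mem_zpowers_iff.mpr ⟨((-i).val : ℤ), by
              rw [zpow_natCast, QuaternionGroup.a_one_pow, ZMod.natCast_zmod_val]⟩, ?_⟩
            rw [QuaternionGroup.a_mul_xa]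
            simp
        · intro z hz
          cases z with
          | a i =>
            exact Subgroup.mem_zpowers_iff.mpr ⟨(i.val : ℤ), by
              rw [zpow_natCast, QuaternionGroup.a_one_pow, ZMod.natCast_zmod_val]⟩
          | xa i =>
            rw [QuaternionGroup.orderOf_xa, hpw] at hz
            omega
        · intro hz
          obtain ⟨k, hk⟩ := Subgroup.mem_zpowers_iff.mp hz
          have hc : Commute (QuaternionGroup.xa (0 : ZMod (2 * 2 ^ (n - 2)))) (QuaternionGroup.a 1) := by
            rw [← hk]; exact (Commute.refl _).zpow_left k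
          have := hc.eq
          simp at this
          have h2 : ((2 : ℕ) : ZMod (2 * 2 ^ (n - 2))) = 0 := by
            push_cast
            linear_combination this
          rw [ZMod.natCast_eq_zero_iff] at h2
          have := Nat.le_of_dvd (by norm_num) h2
          omega
      exact hQ.of_equiv (MulAut.congr e.symm)
  obtain ⟨hle, R, hR⟩ := Fusion.isFullyAutomized_of_isFullyNormalized hS hF Fusion.isFullyNormalized_top
  have hA : IsPGroup 2 ↥(⊤ : Subgroup (F.autGroup S)) :=
    (hpre.to_subgroup _).of_equiv Subgroup.topEquiv.symm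
  have hRtop : (R : Subgroup (F.autGroup S)) = ⊤ := (R.is_maximal' hA le_top).symm
  refine le_antisymm ?_ (Fusion.inn_le_autGroup le_rfl)
  intro φ hφ
  have : (⟨φ, hφ⟩ : F.autGroup S) ∈ (R : Subgroup (F.autGroup S)) := by rw [hRtop]; trivial
  rw [hR, Subgroup.mem_subgroupOf, Fusion.autInducedBy_self_eq_inn] at this
  exact this

end Cfsg.Agent.S5112
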