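import Cfsg.Statements.S5119
import Cfsg.Agent.Lib.Fusion.Group
import Cfsg.Agent.Lib.Fusion.Invariant

set_option autoImplicit false
open Cfsg

namespace Cfsg.Agent.S5119

/-- Let F be a saturated fusion system over a finite p-group S and E a subsystem of F over a subgroup T that is strongly closed in F. Then E is invariant in F (invariance under Aut_F(T) plus the Frattini condition) if and only if the strong invariance condition holds: for P ≤ Q ≤ T, every map φ of E from P into Q and every map ψ of F with source Q, the transported map ψ φ ψ⁻¹ on ψ(P) is a map of E. -/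
theorem result {Ω : Type*} [Group Ω] {S : Subgroup Ω} [Finite S] (p : ℕ) [Fact p.Prime] (hS : IsPGroup p S) (F : Cfsg.FusionSystem S) (hF : F.IsSaturated p) {T : Subgroup Ω} (E : Cfsg.FusionSystem T) (hE : E.IsSubsystemOf F) (hT : F.StronglyClosed T) : E.IsInvariantIn F ↔ ∀ (P Q : Subgroup Ω) (hPQ : P ≤ Q) (_ : Q ≤ T) (φ : P →* Ω) (_ : φ ∈ E.Hom P) (hφQ : ∀ x : P, φ x ∈ Q) (ψ : Q →* Ω) (_ : ψ ∈ F.Hom Q), ∃ χ ∈ E.Hom ((P.subgroupOf Q).map ψ), ∀ (x : P) (hx : ψ (Subgroup.inclusion hPQ x) ∈ (P.subgroupOf Q).map ψ), χ ⟨ψ (Subgroup.inclusion hPQ x), hx⟩ = ψ ⟨φ x, hφQ x⟩ := by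
  constructor
  · intro h P Q hPQ hQT φ hφ hφQ ψ hψ
    obtain ⟨g, ⟨χ, hχ, hχg⟩, hgx⟩ := Fusion.IsInvariantIn.conj h hPQ hQT (Fusion.mapTo_ev hφ)
      (fun x hx => by rw [Fusion.ev_apply φ hx]; exact hφQ ⟨x, hx⟩) (Fusion.mapTo_ev hψ)
    have he := Fusion.map_subgroupOf_eq_img (fun x => (Fusion.ev_coe ψ x).symm) hPQ
    have key : ∀ (R : Subgroup Ω) (χ' : R →* Ω), χ' ∈ E.Hom R → (∀ z : R, χ' z = g z) →
        ∀ R', R = R' → ∃ χ'' ∈ E.Hom R', ∀ z : R', χ'' z = g z := by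
      rintro R χ' h1 h2 R' rfl; exact ⟨χ', h1, h2⟩
    obtain ⟨χ', hχ', hχ'g⟩ := key _ χ hχ hχg _ he.symm
    refine ⟨χ', hχ', fun x hx => ?_⟩
    rw [hχ'g]
    have h1 := hgx x x.2
    rw [Fusion.ev_coe, Fusion.ev_apply ψ (hφQ x), Fusion.ev_apply ψ (hPQ x.2)] at h1
    exact h1
  · intro h
    have hconj : ∀ {P Q : Subgroup Ω} {f ψ : Ω → Ω}, P ≤ Q → Q ≤ T → Fusion.MapTo E P f →
        (∀ x ∈ P, f x ∈ Q) → Fusion.MapTo F Q ψ →
        ∃ g, Fusion.MapTo E (Fusion.img ψ P) g ∧ ∀ x ∈ P, g (ψ x) = ψ (f x) := by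
      rintro P Q f ψ hPQ hQT ⟨φ, hφ, hφf⟩ hfQ ⟨χ₀, hχ₀, hχ₀ψ⟩
      obtain ⟨χ, hχ, hχx⟩ := h P Q hPQ hQT φ hφ (fun x => by rw [hφf]; exact hfQ x x.2) χ₀ hχ₀
      have he := Fusion.map_subgroupOf_eq_img hχ₀ψ hPQ
      refine ⟨Fusion.ev χ, he ▸ Fusion.mapTo_ev hχ, fun x hx => ?_⟩
      have hm : χ₀ (Subgroup.inclusion hPQ ⟨x, hx⟩) ∈ (P.subgroupOf Q).map χ₀ :=
        ⟨Subgroup.inclusion hPQ ⟨x, hx⟩, hx, rfl⟩
      have h1 := hχx ⟨x, hx⟩ hm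
      have h2 : χ₀ (Subgroup.inclusion hPQ ⟨x, hx⟩) = ψ x := hχ₀ψ _
      rw [← h2, Fusion.ev_apply χ hm, h1, hχ₀ψ]
      exact congrArg ψ (hφf ⟨x, hx⟩)
    refine ⟨hE, hT, fun P hPT φ hφ α hα => ?_, fun P hPT φ hφ => ?_⟩
    · obtain ⟨g, hg, hgx⟩ := hconj hPT le_rfl (Fusion.mapTo_ev hφ)
        (fun x hx => (Fusion.mapTo_ev hφ).mem hx) (Fusion.mapTo_of_mem_autGroup hT.1 hα)
      have he : (P.subgroupOf T).map (T.subtype.comp α.toMonoidHom) =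
          Fusion.img (Fusion.autFun α) P :=
        Fusion.map_subgroupOf_eq_img (fun x => (Fusion.autFun_coe α x).symm) hPT
      rw [← he] at hg
      obtain ⟨χ, hχ, hχg⟩ := hg
      refine ⟨χ, hχ, fun x hφx hαx => ?_⟩
      rw [hχg]
      have h1 := hgx x x.2
      rw [Fusion.ev_coe, Fusion.autFun_apply α hφx, Fusion.autFun_apply α (hPT x.2)] at h1
      exact h1
    · obtain ⟨α, hα, f₀, ⟨φ₀, hφ₀, hφ₀f⟩, hx⟩ :=
        Fusion.frattini_of_conj hS hF hE hT hconj hPT (Fusion.mapTo_ev hφ)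
      refine ⟨α, hα, φ₀, hφ₀, fun x hx' => ?_⟩
      have h1 := hx x x.2
      rw [Fusion.ev_coe, ← hφ₀f x, Fusion.autFun_apply α hx'] at h1
      exact h1

end Cfsg.Agent.S5119
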