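import Cfsg.Statements.S5125
import Cfsg.Agent.Lib.Fusion.Group
import Cfsg.Agent.Lib.Fusion.NormalCriteria

set_option autoImplicit false
open Cfsg

namespace Cfsg.Agent.S5125

/-- Let F be a saturated fusion system over a finite p-group S and Q a subgroup strongly closed in F. If Q has a subgroup Q₁ that is normal in F, with Q/Q₁ abelian and Aut_F(Q₁) a p-group, then Q is normal in F. -/
theorem result {Ω : Type*} [Group Ω] {S : Subgroup Ω} [Finite S] (p : ℕ) [Fact p.Prime] (hS : IsPGroup p S) (F : Cfsg.FusionSystem S) (hF : F.IsSaturated p) (Q Q₁ : Subgroup Ω) (hQ : F.StronglyClosed Q) (hQ₁Q : Q₁ ≤ Q) (hQ₁ : F.IsNormal Q₁) (hab : ⁅Q, Q⁆ ≤ Q₁) (hAut : IsPGroup p ↥(F.autGroup Q₁)) : F.IsNormal Q := by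
  have hQS : Q ≤ S := hQ.1
  have hQ₁S : Q₁ ≤ S := hQ₁.1
  have := Fusion.finite_of_le hQ₁S
  have := Fusion.finite_mulAut Q₁
  let K := SemidirectProduct ↥Q₁ ↥(F.autGroup Q₁) (F.autGroup Q₁).subtype
  have : Finite K := Finite.of_equiv _ SemidirectProduct.equivProd.symm
  have hK : IsPGroup p K := by
    obtain ⟨a, ha⟩ := IsPGroup.iff_card.mp (hS.to_le hQ₁S)
    obtain ⟨b, hb⟩ := IsPGroup.iff_card.mp hAut
    exact IsPGroup.of_card (n := a + b) (by
      rw [Nat.card_congr SemidirectProduct.equivProd, Nat.card_prod, ha, hb, pow_add])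
  have := hK.isNilpotent
  let W : ℕ → Subgroup Ω := fun i =>
    ((Subgroup.upperCentralSeries K i).comap SemidirectProduct.inl).map Q₁.subtype
  have hconj : ∀ (α : ↥(F.autGroup Q₁)) (x : Q₁),
      (SemidirectProduct.inr α * SemidirectProduct.inl x * (SemidirectProduct.inr α)⁻¹ : K) =
        SemidirectProduct.inl ((α : MulAut Q₁) x) := fun α x => by
    rw [← map_inv, ← SemidirectProduct.inl_aut]
    rfl
  have hWinv : ∀ i, ∀ α ∈ F.autGroup Q₁, ∀ x ∈ W i, Fusion.autFun α x ∈ W i := by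
    rintro i α hα _ ⟨x, hx, rfl⟩
    refine ⟨α x, ?_, (Fusion.autFun_coe α x).symm⟩
    have h1 := (inferInstance : (Subgroup.upperCentralSeries K i).Normal).conj_mem _ hx
      (SemidirectProduct.inr ⟨α, hα⟩)
    rw [hconj] at h1
    exact h1
  have hWsc : ∀ i, F.StronglyClosed (W i) := by
    refine fun i => Fusion.stronglyClosed_iff.mpr
      ⟨(Subgroup.map_subtype_le _).trans hQ₁S, fun R f hR hf x hx => ?_⟩
    obtain ⟨g, hg, hgf, hgQ⟩ := (Fusion.isNormal_iff.mp hQ₁).2 R f hf
    have hg' := hg.restrict (le_sup_right : Q₁ ≤ R ⊔ Q₁)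
    have hxQ : x ∈ Q₁ := Subgroup.map_subtype_le _ (hR hx)
    rw [← hgf x hx, ← Fusion.autFun_autOf hg' hgQ hxQ]
    exact hWinv i _ (Fusion.autOf_mem hg' hgQ) x (hR hx)
  set n := Group.nilpotencyClass K
  have hWn : W n = Q₁ := by
    show ((Subgroup.upperCentralSeries K n).comap _).map Q₁.subtype = Q₁
    rw [Subgroup.upperCentralSeries_nilpotencyClass, Subgroup.comap_top, ← MonoidHom.range_eq_map,
      Subgroup.range_subtype]
  let c : Fin (n + 1 + 1) → Subgroup Ω := fun i => if (i : ℕ) ≤ n then W i else Q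
  have hW0 : W 0 = ⊥ := by
    show ((Subgroup.upperCentralSeries K 0).comap _).map Q₁.subtype = ⊥
    rw [Subgroup.upperCentralSeries_zero, MonoidHom.comap_bot,
      (SemidirectProduct.inl.ker_eq_bot_iff).mpr SemidirectProduct.inl_injective, Subgroup.map_bot]
  refine Fusion.isNormal_of_stronglyClosed_series hS hF c ?_ ?_ ?_ (fun i => ?_) fun i x hx k hk => ?_
  · simp only [c, Fin.val_zero, Nat.zero_le, if_true]
    exact hW0
  · simp only [c, Fin.val_last]
    rw [if_neg (by omega)]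
  · intro a b hab'
    simp only [c]
    split_ifs with h1 h2
    · exact Subgroup.map_mono (Subgroup.comap_mono (Subgroup.upperCentralSeries_mono K hab'))
    · exact ((Subgroup.map_subtype_le _).trans hQ₁Q)
    · rename_i h2
      exact absurd ((show (a : ℕ) ≤ b from hab').trans h2) h1
    · exact le_rfl
  · simp only [c]
    split_ifs with h1
    · exact hWsc _
    · exact hQ
  · simp only [c, Fin.val_succ, Fin.val_castSucc] at hx ⊢
    rw [if_pos (show (i : ℕ) ≤ n by omega)]
    by_cases h1 : (i : ℕ) + 1 ≤ n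
    · rw [if_pos h1] at hx
      obtain ⟨a, ha, rfl⟩ := hx
      obtain ⟨γ, hγ⟩ := Fusion.exists_conjAut (P := Q₁)
        (Fusion.IsNormal.le_normalizer hQ₁ (hQS hk))
      have hγF : γ ∈ F.autGroup Q₁ := Fusion.autInducedBy_le_autGroup hQ₁S
        (Fusion.mem_autInducedBy_iff_cj.mpr ⟨k, hQS hk, hγ⟩)
      refine ⟨a⁻¹ * γ a, ?_, ?_⟩
      · have h2 := (Subgroup.mem_upperCentralSeries_succ_iff.mp (Subgroup.inv_mem _ ha))
          (SemidirectProduct.inr ⟨γ, hγF⟩)
        show SemidirectProduct.inl (a⁻¹ * γ a) ∈ Subgroup.upperCentralSeries K i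
        convert h2 using 1
        rw [commutatorElement_def, map_mul, map_inv, inv_inv, ← hconj ⟨γ, hγF⟩ a]
        simp [mul_assoc]
      · have h3 := hγ a a.2
        rw [Fusion.autFun_coe] at h3
        show ((a⁻¹ * γ a : Q₁) : Ω) = _
        rw [Subgroup.coe_mul, Subgroup.coe_inv, h3]
        rfl
    · rw [if_neg h1] at hx
      have hi : (i : ℕ) = n := by omega
      rw [hi, hWn]
      exact Fusion.comm_mem_of_commutator_le hab hx hk

end Cfsg.Agent.S5125
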