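import Cfsg.Statements.S5128
import Cfsg.Agent.Lib.Fusion.ImageSaturation

set_option autoImplicit false
open Cfsg

namespace Cfsg.Agent.S5128

/-- In a saturated fusion system over a finite p-group S, the product of two strongly closed subgroups is strongly closed. -/
theorem result {Ω : Type*} [Group Ω] {S : Subgroup Ω} [Finite S] (p : ℕ) [Fact p.Prime] (hS : IsPGroup p S) (F : Cfsg.FusionSystem S) (hF : F.IsSaturated p) (T₁ T₂ : Subgroup Ω) (h₁ : F.StronglyClosed T₁) (h₂ : F.StronglyClosed T₂) : F.StronglyClosed (T₁ ⊔ T₂) := by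
  refine Cfsg.Agent.Fusion.stronglyClosed_iff.mpr ⟨sup_le h₁.1 h₂.1, fun R f hR hf x hx => ?_⟩
  obtain ⟨g, hg, hgf⟩ := Cfsg.Agent.Fusion.exists_map_mod hS hF h₁ hf
  have hx' : x ∈ ((T₁ ⊔ T₂ : Subgroup Ω) : Set Ω) := hR hx
  rw [Subgroup.coe_mul_of_left_le_normalizer_right _ _
    (h₁.1.trans (Cfsg.Agent.Fusion.StronglyClosed.le_normalizer h₂))] at hx'
  obtain ⟨a, ha, b, hb, hab⟩ := hx'
  have hab' : a * b = x := hab
  have haR : a ∈ R ⊔ T₁ := Subgroup.mem_sup_right ha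
  have hbR : b ∈ R ⊔ T₁ := by
    have := Subgroup.mul_mem _ (Subgroup.inv_mem _ haR) (Subgroup.mem_sup_left (T := T₁) hx)
    rwa [← hab', inv_mul_cancel_left] at this
  have hgx : g x ∈ T₁ ⊔ T₂ := by
    rw [← hab', hg.map_mul haR hbR]
    exact Subgroup.mul_mem_sup (Cfsg.Agent.Fusion.StronglyClosed.map_mem h₁ hg haR ha)
      (Cfsg.Agent.Fusion.StronglyClosed.map_mem h₂ hg hbR hb)
  have := Subgroup.mul_mem _ hgx (Subgroup.inv_mem _ (Subgroup.mem_sup_left (T := T₂) (hgf x hx)))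
  rwa [mul_inv_rev, inv_inv, mul_inv_cancel_left] at this

end Cfsg.Agent.S5128
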