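import Cfsg.Statements.S5130
import Cfsg.Agent.Lib.Fusion.DirectFactor

set_option autoImplicit false
open Cfsg Cfsg.Agent.Fusion

namespace Cfsg.Agent.S5130

/-- Let F be a saturated fusion system over a finite p-group S that is the direct product of two subgroups S₁ and S₂, each strongly closed in F. Let R be the full subsystem of F over S₁ (all maps of F between subgroups of S₁) and R′ the subsystem over S₁ of those maps that extend to the subgroup generated with S₂ fixing S₂ elementwise. Then R and R′ are saturated, R′ is normal in F and in R, and R is weakly normal in F. -/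
theorem result {Ω : Type*} [Group Ω] {S : Subgroup Ω} [Finite S] (p : ℕ) [Fact p.Prime] (hS : IsPGroup p S) (F : Cfsg.FusionSystem S) (hF : F.IsSaturated p) (S₁ S₂ : Subgroup Ω) (hprod : Cfsg.IsInternalDirectProduct S₁ S₂ S) (h₁ : F.StronglyClosed S₁) (h₂ : F.StronglyClosed S₂) (R R' : Cfsg.FusionSystem S₁) (hR : ∀ P : Subgroup Ω, P ≤ S₁ → R.Hom P = F.Hom P) (hR' : ∀ P : Subgroup Ω, P ≤ S₁ → R'.Hom P = F.centralizerHom S₂ P) : R.IsSaturated p ∧ R'.IsSaturated p ∧ R'.IsNormalIn F p ∧ R'.IsNormalIn R p ∧ R.IsWeaklyNormalIn F p := by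
  obtain ⟨hS₁, hS₂, hcomm, -, hsup⟩ := hprod
  have hfin₁ := Cfsg.Agent.Fusion.finite_of_le hS₁
  have hcomm' : ∀ d ∈ S₂, ∀ t ∈ S₁, d * t = t * d := fun d hd t ht => (hcomm t ht d hd).symm
  have hdec : ∀ s ∈ S, ∃ t ∈ S₁, ∃ d ∈ S₂, s = t * d := by
    intro s hs
    have hn : S₂ ≤ Subgroup.normalizer (S₁ : Set Ω) := fun d hd =>
      StronglyClosed.le_normalizer h₁ (hS₂ hd)
    rw [← hsup, ← SetLike.mem_coe, Subgroup.coe_mul_of_right_le_normalizer_left S₁ S₂ hn] at hs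
    obtain ⟨t, ht, d, hd, rfl⟩ := hs
    exact ⟨t, ht, d, hd, rfl⟩
  have hdec' : ∀ s ∈ S, ∃ d ∈ S₂, ∃ t ∈ S₁, s = d * t := by
    intro s hs
    obtain ⟨t, ht, d, hd, rfl⟩ := hdec s hs
    exact ⟨d, hd, t, ht, hcomm t ht d hd⟩
  set C := cSys F hS₂ with hC
  have hCs : F.IsCentralizerSystem S₂ C := isCentralizerSystem_cSys F hS₂
  have hS₁C : S₁ ≤ FusionSystem.centralizerIn S S₂ := fun t ht =>
    mem_centralizerIn.mpr ⟨hS₁ ht, fun d hd => hcomm' d hd t ht⟩
  have hmR : ∀ {P : Subgroup Ω} {f : Ω → Ω}, P ≤ S₁ → (MapTo R P f ↔ MapTo F P f) :=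
    fun hP => by rw [MapTo, MapTo, hR _ hP]
  have hmR' : ∀ {P : Subgroup Ω} {f : Ω → Ω}, P ≤ S₁ → (MapTo R' P f ↔ MapTo C P f) :=
    fun hP => by rw [MapTo, MapTo, hR' _ hP, hCs]
  have hsubR : R.IsSubsystemOf F := fun P φ hφ => hR P (R.le_of_mem hφ).1 ▸ hφ
  have hsubR' : R'.IsSubsystemOf F := fun P φ hφ => by
    rw [hR' P (R'.le_of_mem hφ).1] at hφ
    exact hφ.1
  have hsubR'R : R'.IsSubsystemOf R := fun P φ hφ => by
    rw [hR P (R'.le_of_mem hφ).1]
    exact hsubR' P hφ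
  have hscR : R.StronglyClosed S₁ := ⟨le_rfl, fun _ _ φ hφ x => (R.le_of_mem hφ).2 x⟩
  have hautR : R.autGroup S₁ = F.autGroup S₁ := by
    ext α
    rw [mem_autGroup_iff le_rfl, mem_autGroup_iff hS₁, hmR le_rfl]
  -- saturation
  have hRsat : R.IsSaturated p := isSaturated_fullRestriction hS hF h₁ hdec hcomm hR
  have hR'sat : R'.IsSaturated p := by
    have := Cfsg.Agent.Fusion.finite_of_le (centralizerIn_le (S := S) (P := S₂))
    refine isSaturated_fullRestriction (D := S₂ ⊓ FusionSystem.centralizerIn S S₂)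
      (hS.to_le centralizerIn_le)
      (isSaturated_centralizerSystem hS hF
        (isFullyCentralized_of_isFullyNormalized hS hF (StronglyClosed.isFullyNormalized h₂)) hCs)
      ⟨hS₁C, fun A hA φ hφ x => h₁.2 A hA φ hφ.1 x⟩ ?_
      (fun t ht d hd => hcomm t ht d hd.1) hR'
    intro s hs
    obtain ⟨t, ht, d, hd, rfl⟩ := hdec s hs.1
    refine ⟨t, ht, d, ⟨hd, ?_⟩, rfl⟩
    have := Subgroup.mul_mem _ (Subgroup.inv_mem _ (hS₁C ht)) hs
    rwa [inv_mul_cancel_left] at this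
  -- maps of the smaller system
  have hintro : ∀ {P : Subgroup Ω} {f g : Ω → Ω}, P ≤ S₁ → (∀ x ∈ P, f x ∈ S₁) →
      MapTo F (P ⊔ S₂) g → (∀ x ∈ P, g x = f x) → (∀ x ∈ S₂, g x = x) → MapTo R' P f :=
    fun hP hf hg hgf hg₂ => (hmR' hP).mpr
      ((mapTo_cSys_iff hCs).mpr ⟨hP.trans hS₁C, fun x hx => hS₁C (hf x hx), _, hg, hgf, hg₂⟩)
  -- invariance
  have hinv : ∀ (P : Subgroup Ω) (f : Ω → Ω), P ≤ S₁ → MapTo R' P f → ∀ α ∈ F.autGroup S₁,
      ∃ g, MapTo R' (img (autFun α) P) g ∧ ∀ x ∈ P, g (autFun α x) = autFun α (f x) := by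
    intro P f hP hf α hα
    obtain ⟨-, -, u, hu, huf, hu₂⟩ := (mapTo_cSys_iff hCs).mp ((hmR' hP).mp hf)
    obtain ⟨b, hb, hbα⟩ :=
      exists_extension_top hS hF h₁ hdec hcomm (mapTo_of_mem_autGroup hS₁ hα)
    have hbP : MapTo F (P ⊔ S₂) b := hb.restrict (sup_le (hP.trans hS₁) hS₂)
    obtain ⟨k, hk, hkb, hbk, -⟩ := hbP.exists_iso_inverse
    have himg : img b (P ⊔ S₂) = img (autFun α) P ⊔ S₂ := by
      rw [hbP.img_sup le_sup_left le_sup_right, img_congr fun x hx => hbα x (hP hx),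
        StronglyClosed.img_eq h₂ hbP le_sup_right]
    rw [himg] at hk
    have hkm : ∀ y ∈ img (autFun α) P ⊔ S₂, k y ∈ P ⊔ S₂ := by
      intro y hy
      obtain ⟨x, hx, rfl⟩ := (hbP.mem_img_iff le_rfl).mp (himg ▸ hy : y ∈ img b (P ⊔ S₂))
      rw [hkb x hx]; exact hx
    have hfm : ∀ x ∈ P, f x ∈ S₁ := fun x hx => hf.mem hx
    have hg : MapTo F (img (autFun α) P ⊔ S₂) (fun y => b (u (k y))) :=
      (hk.comp hu hkm).comp hb fun y hy => hu.mem (hkm y hy)
    have hrel : ∀ x ∈ P, b (u (k (autFun α x))) = autFun α (f x) := fun x hx => by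
      rw [← hbα x (hP hx), hkb x ((le_sup_left : P ≤ P ⊔ S₂) hx), huf x hx, hbα _ (hfm x hx)]
    refine ⟨_, hintro (img_le_of_forall fun x hx => autFun_mem α (hP hx)) (fun y hy => ?_) hg
      (fun _ _ => rfl) (fun y hy => ?_), hrel⟩
    · obtain ⟨x, hx, rfl⟩ :=
        (((mapTo_of_mem_autGroup hS₁ hα).restrict hP).mem_img_iff le_rfl).mp hy
      rw [hrel x hx]
      exact autFun_mem α (hfm x hx)
    · have hky : k y ∈ S₂ := StronglyClosed.map_mem h₂ hk ((le_sup_right : S₂ ≤ _ ⊔ S₂) hy) hy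
      show b (u (k y)) = y
      rw [hu₂ _ hky]
      exact hbk y (himg.symm ▸ (le_sup_right : S₂ ≤ _ ⊔ S₂) hy)
  -- Frattini condition
  have hfr : ∀ (P : Subgroup Ω) (f : Ω → Ω), P ≤ S₁ → MapTo F P f →
      ∃ α ∈ F.autGroup S₁, ∃ f₀, MapTo R' P f₀ ∧ ∀ x ∈ P, f x = autFun α (f₀ x) := by
    intro P f hP hf
    obtain ⟨u, hu, huf, -⟩ := exists_extension_sup hS hF h₁ h₂ hcomm hP hf
    obtain ⟨b, hb, hbu⟩ := exists_extension_top hS hF h₂ hdec' hcomm'
      (hu.restrict (le_sup_right : S₂ ≤ P ⊔ S₂))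
    have himgS : img b S = S := img_eq_self_of_forall hb fun x hx => hb.mem hx
    obtain ⟨k, hk, hkb, hbk, -⟩ := hb.exists_iso_inverse
    rw [himgS] at hk hbk
    have hb₁ : img b S₁ = S₁ := StronglyClosed.img_eq h₁ hb hS₁
    have hg : MapTo F (P ⊔ S₂) (fun x => k (u x)) := hu.comp hk fun x hx => hu.mem hx
    have hm : ∀ x ∈ P, k (u x) ∈ S₁ := fun x hx => StronglyClosed.map_mem h₁ hg
      ((le_sup_left : P ≤ P ⊔ S₂) hx) (hP hx)
    refine ⟨autOf (hb.restrict hS₁) hb₁, autOf_mem _ _, _,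
      hintro hP hm hg (fun _ _ => rfl) (fun x hx => ?_), fun x hx => ?_⟩
    · show k (u x) = x
      rw [← hbu x hx]
      exact hkb x (hS₂ hx)
    · rw [autFun_autOf _ _ (hm x hx), hbk _ (hu.mem ((le_sup_left : P ≤ P ⊔ S₂) hx)), huf x hx]
  refine ⟨hRsat, hR'sat, ⟨⟨hR'sat, hF, isInvariantIn_of_mapTo hsubR' h₁ hinv hfr⟩, ?_⟩,
    ⟨⟨hR'sat, hRsat, isInvariantIn_of_mapTo hsubR'R hscR
      (fun P f hP hf α hα => hinv P f hP hf α (hautR ▸ hα))
      (fun P f hP hf => by rw [hautR]; exact hfr P f hP ((hmR hP).mp hf))⟩, ?_⟩,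
    hRsat, hF, isInvariantIn_of_mapTo hsubR h₁ ?_ ?_⟩
  · -- extension condition in `F`
    intro α hα
    obtain ⟨-, -, u, hu, huα, hu₂⟩ :=
      (mapTo_cSys_iff hCs).mp ((hmR' le_rfl).mp (mapTo_of_mem_autGroup le_rfl hα))
    have hTC : S₁ ⊔ FusionSystem.centralizerIn S S₁ = S := le_antisymm (sup_le hS₁ centralizerIn_le)
      (hsup.ge.trans (sup_le_sup_left (fun d hd => mem_centralizerIn.mpr
        ⟨hS₂ hd, fun t ht => hcomm t ht d hd⟩) _))
    replace hu := hu.restrict (hTC.le.trans hsup.ge)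
    have := Cfsg.Agent.Fusion.finite_of_le hTC.le
    have himg := img_eq_self_of_forall hu fun x hx => hTC.ge (hu.mem hx)
    refine ⟨autOf hu himg, autOf_mem _ _, fun x => ?_, fun c hc => ?_⟩
    · rw [← autFun_coe, autFun_autOf _ _ (Subgroup.inclusion le_sup_left x).2,
        Subgroup.coe_inclusion, huα x x.2, autFun_coe]
    · rw [← autFun_coe, autFun_autOf _ _ c.2]
      obtain ⟨hcS, hcc⟩ := mem_centralizerIn.mp hc
      obtain ⟨t, ht, d, hd, hcd⟩ := hdec _ hcS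
      have hmem : ∀ {y : Ω}, y ∈ S → y ∈ S₁ ⊔ FusionSystem.centralizerIn S S₁ :=
        fun hy => hTC.symm ▸ hy
      have hut : u t ∈ S₁ := by rw [huα t ht]; exact autFun_mem α ht
      have htc : ∀ x ∈ S₁, x * t = t * x := by
        intro x hx
        have h := hcc x hx
        rw [hcd, mul_assoc, ← hcomm x hx d hd, ← mul_assoc, ← mul_assoc] at h
        exact mul_right_cancel h
      rw [hcd, hu.map_mul (hmem (hS₁ ht)) (hmem (hS₂ hd)), hu₂ d hd,
        show (t * d)⁻¹ * (u t * d) = d⁻¹ * (t⁻¹ * u t) * d by group,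
        mul_assoc d⁻¹, hcomm (t⁻¹ * u t) (Subgroup.mul_mem _ (Subgroup.inv_mem _ ht) hut) d hd,
        inv_mul_cancel_left]
      refine Subgroup.mem_inf.mpr ⟨Subgroup.mul_mem _ (Subgroup.inv_mem _ ht) hut, ?_⟩
      refine Subgroup.mem_centralizer_iff.mpr fun x hx => ?_
      obtain ⟨y, hy, rfl⟩ : ∃ y ∈ S₁, autFun α y = x :=
        ⟨_, autFun_mem _ hx, autFun_autFun_inv α hx⟩
      have h1 : autFun α y * t⁻¹ = t⁻¹ * autFun α y := by
        have h0 := htc _ (autFun_mem α hy)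
        rw [eq_inv_mul_iff_mul_eq, ← mul_assoc, ← h0, mul_inv_cancel_right]
      have h2 : autFun α y * u t = u t * autFun α y := by
        rw [← huα y hy, ← hu.map_mul (hmem (hS₁ hy)) (hmem (hS₁ ht)), htc y hy,
          hu.map_mul (hmem (hS₁ ht)) (hmem (hS₁ hy))]
      rw [← mul_assoc, h1, mul_assoc, h2, mul_assoc]
  · -- extension condition in `R`
    intro α hα
    have hα' : MapTo R S₁ (autFun α) :=
      (hmR le_rfl).mpr (IsSubsystemOf.mapTo hsubR' (mapTo_of_mem_autGroup le_rfl hα))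
    have hTC : S₁ ⊔ FusionSystem.centralizerIn S₁ S₁ = S₁ :=
      le_antisymm (sup_le le_rfl centralizerIn_le) le_sup_left
    replace hα' := hα'.restrict hTC.le
    have := Cfsg.Agent.Fusion.finite_of_le (hTC.le.trans hS₁)
    have himg := img_eq_self_of_forall hα' fun x hx => hTC.ge (hα'.mem hx)
    refine ⟨autOf hα' himg, autOf_mem _ _, fun x => ?_, fun c hc => ?_⟩
    · rw [← autFun_coe, autFun_autOf _ _ (Subgroup.inclusion le_sup_left x).2,
        Subgroup.coe_inclusion, autFun_coe]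
    · rw [← autFun_coe, autFun_autOf _ _ c.2]
      obtain ⟨hcT, hcc⟩ := mem_centralizerIn.mp hc
      refine Subgroup.mem_inf.mpr ⟨Subgroup.mul_mem _ (Subgroup.inv_mem _ hcT)
        (autFun_mem α hcT), ?_⟩
      refine Subgroup.mem_centralizer_iff.mpr fun x hx => ?_
      obtain ⟨y, hy, rfl⟩ : ∃ y ∈ S₁, autFun α y = x :=
        ⟨_, autFun_mem _ hx, autFun_autFun_inv α hx⟩
      have h1 : autFun α y * (c : Ω)⁻¹ = (c : Ω)⁻¹ * autFun α y := by
        have h0 := hcc _ (autFun_mem α hy)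
        rw [eq_inv_mul_iff_mul_eq, ← mul_assoc, ← h0, mul_inv_cancel_right]
      have h2 : autFun α y * autFun α c = autFun α c * autFun α y := by
        rw [← hα'.map_mul (hTC.symm ▸ hy) c.2, hcc y hy,
          hα'.map_mul c.2 (hTC.symm ▸ hy)]
      rw [← mul_assoc, h1, mul_assoc, h2, mul_assoc]
  · -- invariance of `R`
    intro P f hP hf α hα
    have hα' := mapTo_of_mem_autGroup hS₁ hα
    obtain ⟨k, hk, hkα, -, -⟩ := (hα'.restrict hP).exists_iso_inverse
    have hkm : ∀ y ∈ img (autFun α) P, k y ∈ P := by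
      intro y hy
      obtain ⟨x, hx, rfl⟩ := ((hα'.restrict hP).mem_img_iff le_rfl).mp hy
      rw [hkα x hx]; exact hx
    refine ⟨fun y => autFun α (f (k y)),
      (hmR (img_le_of_forall fun x hx => autFun_mem α (hP hx))).mpr
        ((hk.comp ((hmR hP).mp hf) hkm).comp hα' fun y hy => hf.mem (hkm y hy)), fun x hx => ?_⟩
    show autFun α (f (k (autFun α x))) = autFun α (f x)
    rw [hkα x hx]
  · intro P f hP hf
    exact ⟨1, Subgroup.one_mem _, f, (hmR hP).mpr hf,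
      fun x hx => (autFun_one (StronglyClosed.map_mem h₁ hf hx (hP hx))).symm⟩

end Cfsg.Agent.S5130
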