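import Cfsg.Statements.S5135
import Cfsg.Agent.Lib.Fusion.ImageSaturation

set_option autoImplicit false
open Cfsg

namespace Cfsg.Agent.S5135

/-- Let G be a finite group, S a Sylow p-subgroup and H a normal subgroup of G. Then the fusion system of G/H on the image SH/H of S is the factor system of the fusion system of G on S modulo S ∩ H, read through the quotient map restricted to S: for each subgroup P' of SH/H, the conjugation maps by elements of G/H defined on P' with values in SH/H are exactly the homomorphisms induced by the conjugation maps by elements of G defined on the full preimage of P' in S with values in S. -/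
theorem result {G : Type*} [Group G] [Finite G] (p : ℕ) [Fact p.Prime] (S : Sylow p G) (H : Subgroup G) [H.Normal] : (Cfsg.groupFusionSystem (S : Subgroup G)).IsFactorSystem ((S : Subgroup G) ⊓ H) ((QuotientGroup.mk' H).comp (S : Subgroup G).subtype) (Cfsg.groupFusionSystem ((S : Subgroup G).map (QuotientGroup.mk' H))) := by
  set π := QuotientGroup.mk' H with hπ
  set θ := π.comp (S : Subgroup G).subtype with hθ
  have hr : θ.range = (S : Subgroup G).map π := by
    rw [hθ, MonoidHom.range_eq_map, ← Subgroup.map_map, ← MonoidHom.range_eq_map,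
      Subgroup.range_subtype]
  refine ⟨inf_le_left, fun s => ?_, hr, fun P' φ' => ?_⟩
  · show ((s : G) : G ⧸ H) = 1 ↔ _
    rw [QuotientGroup.eq_one_iff]
    exact ⟨fun h => ⟨s.2, h⟩, fun h => h.2⟩
  · have hth : ∀ x, x ∈ (S : Subgroup G) → Cfsg.Agent.Fusion.th θ x = π x := fun x hx =>
      Cfsg.Agent.Fusion.th_apply θ hx
    have hpm : ∀ x, x ∈ Cfsg.FusionSystem.preimageAlong θ P' ↔
        x ∈ (S : Subgroup G) ∧ π x ∈ P' := fun x =>
      Cfsg.Agent.Fusion.mem_preimageAlong.trans
        ⟨fun ⟨h1, h2⟩ => ⟨h1, hth x h1 ▸ h2⟩, fun ⟨h1, h2⟩ => ⟨h1, (hth x h1).symm ▸ h2⟩⟩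
    constructor
    · rintro ⟨hP', hmem, g', hg'⟩
      obtain ⟨g, rfl⟩ := QuotientGroup.mk'_surjective H g'
      refine ⟨hP', ?_⟩
      have hA : (Cfsg.FusionSystem.preimageAlong θ P').map (MulAut.conj g).toMonoidHom ≤
          (S : Subgroup G) ⊔ H := by
        rintro _ ⟨x, hx, rfl⟩
        obtain ⟨hxS, hxP⟩ := (hpm x).mp hx
        have h1 := hmem ⟨π x, hxP⟩
        rw [hg'] at h1
        obtain ⟨s, hs, hsx⟩ := h1
        have h2 : s⁻¹ * (g * x * g⁻¹) ∈ H := QuotientGroup.eq.mp (by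
          show π s = π (g * x * g⁻¹)
          rw [hsx, map_mul, map_mul, map_inv])
        have := Subgroup.mul_mem_sup hs h2
        rwa [mul_inv_cancel_left] at this
      obtain ⟨k, hk, hkS⟩ := Cfsg.Agent.Fusion.exists_mem_conj_le_of_sup (p := p)
        (X := ⊤) le_top le_top (by rw [Subgroup.normalizer_eq_top]) S.isPGroup'
        (by rw [Subgroup.relIndex_top_right]; exact S.not_dvd_index)
        ((S.isPGroup'.to_le Cfsg.Agent.Fusion.preimageAlong_le).map _) hA
      have hkS' : ∀ x ∈ Cfsg.FusionSystem.preimageAlong θ P',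
          k * g * x * (k * g)⁻¹ ∈ (S : Subgroup G) := fun x hx => by
        have := hkS _ ⟨x, hx, rfl⟩
        simpa [mul_assoc] using this
      refine ⟨Cfsg.conjHom _ (k * g),
        ⟨Cfsg.Agent.Fusion.preimageAlong_le, fun x => hkS' x x.2, k * g, fun x => rfl⟩, ?_⟩
      refine (Cfsg.Agent.Fusion.inducedAlong_iff (f := Cfsg.Agent.Fusion.cj (k * g))
        (f' := fun y => π g * y * (π g)⁻¹) Cfsg.Agent.Fusion.preimageAlong_le hkS'
        (fun x => rfl) (fun y => hg' y)).mpr fun x hx => ⟨?_, ?_⟩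
      · exact (Cfsg.Agent.Fusion.mem_preimageAlong.mp hx).2
      · have hk1 : π k = 1 := (QuotientGroup.eq_one_iff k).mpr hk
        rw [hth _ ((hpm x).mp hx).1, Cfsg.Agent.Fusion.cj_apply, hth _ (hkS' x hx)]
        simp [map_mul, map_inv, hk1]
    · rintro ⟨hP', φ, ⟨hPS, hφS, g, hg⟩, hind⟩
      have h2 := (Cfsg.Agent.Fusion.inducedAlong_iff (f := fun x => g * x * g⁻¹)
        (f' := Cfsg.Agent.Fusion.ev φ') hPS (fun x hx => hg ⟨x, hx⟩ ▸ hφS ⟨x, hx⟩) hg
        (fun y => (Cfsg.Agent.Fusion.ev_coe φ' y).symm)).mp hind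
      have key : ∀ y : P', φ' y = π g * (y : G ⧸ H) * (π g)⁻¹ ∧ φ' y ∈ (S : Subgroup G).map π := by
        intro y
        obtain ⟨x, hx, hxy⟩ := Cfsg.Agent.Fusion.exists_preimage (hr.symm ▸ hP' : P' ≤ θ.range) y.2
        obtain ⟨hxS, -⟩ := (hpm x).mp hx
        have hS' : g * x * g⁻¹ ∈ (S : Subgroup G) := hg ⟨x, hx⟩ ▸ hφS ⟨x, hx⟩
        have h3 := (h2 x hx).2
        rw [hxy, Cfsg.Agent.Fusion.ev_coe, hth _ hS'] at h3
        refine ⟨?_, h3 ▸ ⟨_, hS', rfl⟩⟩
        rw [h3, map_mul, map_mul, map_inv, ← hth x hxS, hxy]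
      exact ⟨hP', fun y => (key y).2, π g, fun y => (key y).1⟩

end Cfsg.Agent.S5135
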