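import Cfsg.Statements.S5139
import Cfsg.Agent.Lib.Fusion.PPowerIndexGroup

set_option autoImplicit false
open Cfsg

namespace Cfsg.Agent.S5139

/-- Let G be a finite group with Sylow p-subgroup S and O^p(G) the subgroup generated by the elements of order prime to p. Then the p-residual subsystem of the fusion system of G on S — the saturated subsystem of p-power index over the hyperfocal subgroup — is the fusion system of O^p(G) on S ∩ O^p(G): its maps are exactly the conjugation maps by elements of O^p(G) between subgroups of S ∩ O^p(G). -/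
theorem result {G : Type*} [Group G] [Finite G] (p : ℕ) [Fact p.Prime] (S : Sylow p G) (E : Cfsg.FusionSystem ((Cfsg.groupFusionSystem (S : Subgroup G)).hyperfocalSubgroup p)) (hE : (Cfsg.groupFusionSystem (S : Subgroup G)).IsPResidual p E) : ∃ h : (S : Subgroup G) ⊓ Cfsg.pResidual p G ≤ Cfsg.pResidual p G, ∀ P : Subgroup G, E.Hom P = (Cfsg.fusionSystemOfSubgroup (Cfsg.pResidual p G) ((S : Subgroup G) ⊓ Cfsg.pResidual p G) h).Hom P := by
  refine ⟨inf_le_right, fun P => ?_⟩
  have hS := S.2
  have hH := Cfsg.Agent.Fusion.hyperfocal_gfs (p := p) S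
  have hn : (Cfsg.pResidual p G).Normal := by
    have := Cfsg.Agent.Transfer.pResidual_characteristic G p
    infer_instance
  have hsub := Cfsg.Agent.Fusion.isSubsystemOf_fsSub (T := (S : Subgroup G) ⊓ Cfsg.pResidual p G)
    (H := Cfsg.pResidual p G) (S := (S : Subgroup G)) inf_le_right inf_le_left
  have hD : (Cfsg.fusionSystemOfSubgroup (Cfsg.pResidual p G)
      ((S : Subgroup G) ⊓ Cfsg.pResidual p G) inf_le_right).HasPPowerIndexIn
      (Cfsg.groupFusionSystem (S : Subgroup G)) p :=
    ⟨hsub, hH.le, fun Q hQ => Cfsg.Agent.Fusion.oP_le_fsSub S hQ⟩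
  exact Set.Subset.antisymm
    (Cfsg.Agent.Fusion.pPowerIndex_le hS Cfsg.Agent.Fusion.hyperfocal_le hE.1 hE.2.1 _ hH.le hD P)
    (Cfsg.Agent.Fusion.pPowerIndex_le hS inf_le_left
      (Cfsg.Agent.Fusion.isSaturated_fsSub S _) hsub E hH.ge hE.2 P)

end Cfsg.Agent.S5139
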