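import Cfsg.Statements.S5154
import Cfsg.Agent.Lib.Fusion.IsoSubnormal

set_option autoImplicit false
open Cfsg Cfsg.Agent.Fusion

namespace Cfsg.Agent.S5154

/-- Let F be a saturated fusion system over a finite p-group S, C a component of F over T, and γ a map of F with source T. Then the image of C under γ — the fusion system over γ(T) whose maps are the homomorphisms induced along γ by the maps of C — is again a component of F. -/
theorem result {Ω : Type*} [Group Ω] {S : Subgroup Ω} [Finite S] (p : ℕ) [Fact p.Prime] (hS : IsPGroup p S) (F : Cfsg.FusionSystem S) (hF : F.IsSaturated p) {T : Subgroup Ω} (C : Cfsg.FusionSystem T) (hC : C.IsComponentIn F p) (γ : T →* Ω) (hγ : γ ∈ F.Hom T) (E : Cfsg.FusionSystem γ.range) (hE : C.IsFactorSystem ⊥ γ E) : E.IsComponentIn F p := by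
  have hTS : T ≤ S := (F.le_of_mem hγ).1
  have hu := mapTo_ev hγ
  obtain ⟨k, hb⟩ := bij_of_mapTo hu
  have hb' : Bij T γ.range (ev γ) k := range_eq_img_ev γ ▸ hb
  have hth : ∀ {x : Ω}, x ∈ T → th γ x = ev γ x := fun hx => by rw [th_apply γ hx, ev_apply γ hx]
  have hk : kerIn γ = ⊥ := IsFactorSystem.kerIn_eq hE
  have hpre : ∀ {P' : Subgroup Ω}, P' ≤ γ.range →
      FusionSystem.preimageAlong γ P' = imgX k P' := by
    intro P' hP'
    ext x
    rw [mem_preimageAlong]
    refine ⟨fun ⟨hx, hx'⟩ => (hb'.mem_imgX_symm_iff hP' hx).mpr (hth hx ▸ hx'), fun hx => ?_⟩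
    have hxT := hb'.symm.imgX_le hP' hx
    exact ⟨hxT, (hth hxT).symm ▸ (hb'.mem_imgX_symm_iff hP' hxT).mp hx⟩
  have hiso : SysIso C E (ev γ) k := by
    have he : E = imgSys C hb' := by
      refine fusionSystem_ext fun P f => ⟨fun hf => ?_, fun hf => ?_⟩
      · obtain ⟨hP, l, hl, hlf⟩ := IsFactorSystem.exists_lift hE hf
        refine (mapTo_imgSys_iff hb').mpr ⟨hP, fun y hy => hf.mem hy, ?_⟩
        rw [← hpre hP]
        refine hl.congr' fun x hx => ?_
        have hxT := preimageAlong_le hx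
        show k (f (ev γ x)) = l x
        rw [← hth hxT, hlf x hx, hth (hl.mem hx), hb'.left _ (hl.mem hx)]
      · obtain ⟨hP, hm, hl⟩ := (mapTo_imgSys_iff hb').mp hf
        rw [← hpre hP] at hl
        obtain ⟨g, hg, hgl⟩ := IsFactorSystem.mapTo_of_lift hE hP hl fun x hx => by
          rw [hk, Subgroup.mem_bot] at hx
          rw [hx, hl.map_one]
          exact Subgroup.one_mem _
        refine hg.congr' fun y hy => ?_
        obtain ⟨x, hx, rfl⟩ := exists_preimage hP hy
        rw [hgl x hx, hth (hl.mem hx), hb'.right _ (hm _ (hth (preimageAlong_le hx) ▸ hy)),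
          hth (preimageAlong_le hx)]
    rw [he]
    exact sysIso_imgSys C hb'
  have := Cfsg.Agent.Fusion.finite_of_le hTS
  exact ⟨IsSubnormalIn.image_by_map hC.1 hS hF hu hiso, hiso.quasisimple (hS.to_le hTS) hC.2⟩

end Cfsg.Agent.S5154
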