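import Cfsg.Statements.S5160
import Cfsg.Agent.Lib.Fusion.Group
import Cfsg.Agent.Lib.Fusion.Invariant

set_option autoImplicit false
open Cfsg

namespace Cfsg.Agent.S5160

/-- Let G be a finite group with nontrivial Sylow p-subgroup S and F its fusion system on S. Suppose (a) no nontrivial proper subgroup of S is strongly closed in F, and (b) the automorphisms of S induced by G are generated by those induced, for R running over the fully normalized radical centric subgroups of F, by the subgroup of N_G(R) generated by its elements of p-power order. Then F is simple. -/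
theorem result {G : Type*} [Group G] [Finite G] (p : ℕ) [Fact p.Prime] (S : Sylow p G) (hS1 : (S : Subgroup G) ≠ ⊥) (ha : ∀ T : Subgroup G, (Cfsg.groupFusionSystem (S : Subgroup G)).StronglyClosed T → T = ⊥ ∨ T = (S : Subgroup G)) (hb : Cfsg.autInducedBy ⊤ (S : Subgroup G) = ⨆ (R : Subgroup G) (_ : (Cfsg.groupFusionSystem (S : Subgroup G)).IsFullyNormalized R ∧ (Cfsg.groupFusionSystem (S : Subgroup G)).IsRadical p R ∧ (Cfsg.groupFusionSystem (S : Subgroup G)).IsCentric R), Cfsg.autInducedBy (Subgroup.closure {g : G | g ∈ Subgroup.normalizer (R : Set G) ∧ ∃ k : ℕ, orderOf g = p ^ k}) (S : Subgroup G)) : (Cfsg.groupFusionSystem (S : Subgroup G)).IsSimple p := by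
  have hF := Fusion.isSaturated_gfs S
  refine Fusion.isSimple_of_forall hF hS1 ha fun E hE => ?_
  rw [Fusion.autGroup_gfs le_rfl, hb]
  refine iSup_le fun R => iSup_le fun ⟨hRn, hRr, hRc⟩ => fun α hα => ?_
  obtain ⟨g, hgK, hgx⟩ := Fusion.mem_autInducedBy_iff_cj.mp hα
  have hRS := hRn.1
  have := Fusion.finite_of_le (S := (S : Subgroup G)) hRS
  let K : Subgroup (MulAut R) := E.autGroup R
  have hmemK : ∀ n : G, ∀ hn : n ∈ Subgroup.normalizer (R : Set G), (∃ k : ℕ, orderOf n = p ^ k) →
      R.normalizerMonoidHom ⟨n, hn⟩ ∈ K := by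
    rintro n hn ⟨k, hk⟩
    refine Fusion.mem_of_pow_eq_one_of_normal S.2
      (Fusion.isFullyAutomized_of_isFullyNormalized S.2 hF hRn)
      (Fusion.IsInvariantIn.normal_autGroup hE.2.2 hRS)
      (Fusion.autInducedBy_le_autGroup hRS) ?_ (k := k) ?_
    · rw [Fusion.autGroup_gfs hRS]
      exact Fusion.mem_autInducedBy_iff.mpr ⟨n, Subgroup.mem_top n, fun x => rfl⟩
    · rw [← map_pow, show (⟨n, hn⟩ : Subgroup.normalizer (R : Set G)) ^ p ^ k = 1 from
        Subtype.ext (by
          rw [SubmonoidClass.coe_pow, ← hk, pow_orderOf_eq_one]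
          rfl), map_one]
  have hgR : g ∈ Subgroup.normalizer (R : Set G) ∧
      ∀ hn : g ∈ Subgroup.normalizer (R : Set G), R.normalizerMonoidHom ⟨g, hn⟩ ∈ K := by
    have hle : Subgroup.closure {g : G | g ∈ Subgroup.normalizer (R : Set G) ∧
        ∃ k : ℕ, orderOf g = p ^ k} ≤
        (K.comap R.normalizerMonoidHom).map (Subgroup.normalizer (R : Set G)).subtype :=
      (Subgroup.closure_le _).mpr fun n ⟨hn, hk⟩ => ⟨⟨n, hn⟩, hmemK n hn hk, rfl⟩
    obtain ⟨m, hm, hmg⟩ := hle hgK
    exact ⟨hmg ▸ m.2, fun hn => by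
      have : (⟨g, hn⟩ : Subgroup.normalizer (R : Set G)) = m := Subtype.ext hmg.symm
      rw [this]; exact hm⟩
  have hαmem : α ∈ (Cfsg.groupFusionSystem (S : Subgroup G)).autGroup (S : Subgroup G) := by
    rw [Fusion.autGroup_gfs le_rfl]
    exact Fusion.autInducedBy_mono le_top _ hα
  have hRimg : Fusion.img (Fusion.autFun α) R = R := by
    rw [Fusion.img_congr fun x hx => hgx x (hRS hx), Fusion.img_cj]
    exact Subgroup.mem_normalizer_iff_map_conj_eq.mp hgR.1
  have hRE : Fusion.MapTo E R (Fusion.autFun α) :=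
    (Fusion.mapTo_of_mem_autGroup hRS (hgR.2 hgR.1)).congr' fun x hx => by
      rw [hgx x (hRS hx), Fusion.autFun_apply _ hx]
      rfl
  exact (Fusion.mem_autGroup_iff le_rfl).mpr (Fusion.mapTo_top_of_centric S.2 hF hE.1 hE.2.2.1
    (Fusion.mapTo_of_mem_autGroup le_rfl hαmem) hRc hRimg hRE)

end Cfsg.Agent.S5160
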