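import Cfsg.Statements.S5164

set_option autoImplicit false
open Cfsg

namespace Cfsg.Agent.S5164

open Equiv

theorem comm_of_small {α : Type*} [Fintype α] [DecidableEq α] {p : ℕ} [Fact p.Prime]
    (hn : Fintype.card α < p ^ 2) {T : Subgroup (Perm α)} (hT : IsPGroup p T) (a b : T) :
    a * b = b * a := by
  refine Subtype.ext (Perm.ext fun x => ?_)
  haveI : Finite ↥(MulAction.orbit T x) := inferInstance
  obtain ⟨j, hj⟩ := hT.card_orbit x
  have hle : Nat.card (MulAction.orbit T x) < p ^ 2 :=
    lt_of_le_of_lt (by rw [← Nat.card_eq_fintype_card]; exact Nat.card_le_card_of_injective _ Subtype.val_injective) hn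
  rw [hj] at hle
  have hj1 : j < 2 := (Nat.pow_lt_pow_iff_right (Fact.out : p.Prime).one_lt).mp hle
  let f : T →* Perm (MulAction.orbit T x) := MulAction.toPermHom T (MulAction.orbit T x)
  obtain ⟨k, hk⟩ := IsPGroup.iff_card.mp ((hT.to_subgroup ⊤).map f)
  have hdvd : p ^ k ∣ Nat.factorial (p ^ j) := by
    rw [← hk, ← hj, ← Nat.card_perm]
    exact Subgroup.card_subgroup_dvd_card _
  have hk1 : k ≤ 1 := by
    by_contra hk2
    have h2 : p ^ 2 ∣ Nat.factorial (p ^ j) := dvd_trans (pow_dvd_pow p (by omega)) hdvd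
    rcases Nat.le_one_iff_eq_zero_or_eq_one.mp (by omega : j ≤ 1) with rfl | rfl
    · rw [pow_zero, Nat.factorial_one, Nat.dvd_one] at h2
      exact absurd h2 (by have := (Fact.out : p.Prime).two_le; nlinarith)
    · have hp := (Fact.out : p.Prime)
      obtain ⟨q, hq⟩ : ∃ q, p = q + 1 := ⟨p - 1, by have := hp.two_le; omega⟩
      rw [pow_one, pow_two] at h2
      conv_rhs at h2 => rw [hq, Nat.factorial_succ, ← hq]
      have h3 := Nat.dvd_of_mul_dvd_mul_left hp.pos h2
      have := (hp.dvd_factorial).mp h3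
      omega
  haveI : IsCyclic ↥((⊤ : Subgroup T).map f) := by
    rcases Nat.le_one_iff_eq_zero_or_eq_one.mp hk1 with rfl | rfl
    · haveI : Subsingleton ↥((⊤ : Subgroup T).map f) :=
        (Nat.card_eq_one_iff_unique.mp (by simpa using hk)).1
      infer_instance
    · exact isCyclic_of_prime_card (by simpa using hk)
  have hc : f a * f b = f b * f a := congrArg Subtype.val
    ((IsCyclic.isMulCommutative (α := ↥((⊤ : Subgroup T).map f))).is_comm.comm
      ⟨f a, Subgroup.mem_map_of_mem f (Subgroup.mem_top a)⟩ ⟨f b, Subgroup.mem_map_of_mem f (Subgroup.mem_top b)⟩)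
  have := congrArg Subtype.val (DFunLike.congr_fun hc ⟨x, MulAction.mem_orbit_self x⟩)
  exact this

/-- A Heisenberg-type group of permutations of the plane over `ZMod p`. -/
def plane (p : ℕ) [Fact p.Prime] : Subgroup (Perm (ZMod p × ZMod p)) where
  carrier := {σ | ∃ u v c : ZMod p, ∀ z, σ z = (z.1 + u + v * z.2, z.2 + c)}
  one_mem' := ⟨0, 0, 0, fun z => by simp⟩
  mul_mem' := by
    rintro σ τ ⟨u, v, c, hσ⟩ ⟨u', v', c', hτ⟩
    refine ⟨u + u' + v * c', v + v', c + c', fun z => ?_⟩
    rw [Perm.mul_apply, hτ, hσ]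
    ext <;> simp <;> ring
  inv_mem' := by
    rintro σ ⟨u, v, c, hσ⟩
    refine ⟨-u + v * c, -v, -c, fun z => ?_⟩
    rw [Perm.inv_def, Equiv.symm_apply_eq, hσ]
    ext <;> simp <;> ring

theorem isPGroup_plane (p : ℕ) [Fact p.Prime] : IsPGroup p (plane p) := by
  refine IsPGroup.of_card (n := 3) ?_
  let f : ZMod p × ZMod p × ZMod p → plane p := fun w =>
    ⟨{ toFun := fun z => (z.1 + w.1 + w.2.1 * z.2, z.2 + w.2.2)
       invFun := fun z => (z.1 - w.1 - w.2.1 * (z.2 - w.2.2), z.2 - w.2.2)
       left_inv := fun z => by ext <;> simp <;> ring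
       right_inv := fun z => by ext <;> simp <;> ring }, w.1, w.2.1, w.2.2, fun _ => rfl⟩
  have hf : Function.Bijective f := by
    constructor
    · rintro ⟨u, v, c⟩ ⟨u', v', c'⟩ h
      have h0 := congrArg (fun σ : plane p => (σ : Perm (ZMod p × ZMod p)) (0, 0)) h
      have h1 := congrArg (fun σ : plane p => (σ : Perm (ZMod p × ZMod p)) (0, 1)) h
      simp [f] at h0 h1
      obtain ⟨rfl, rfl⟩ := h0
      obtain rfl : v = v' := by simpa using h1
      rfl
    · rintro ⟨σ, u, v, c, hσ⟩
      exact ⟨(u, v, c), Subtype.ext (Perm.ext fun z => (hσ z).symm)⟩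
  rw [← Nat.card_eq_of_bijective f hf]
  simp
  ring

theorem plane_not_comm (p : ℕ) [Fact p.Prime] : ∃ a b : plane p, a * b ≠ b * a := by
  let a : plane p := ⟨{ toFun := fun z => (z.1 + z.2, z.2)
                        invFun := fun z => (z.1 - z.2, z.2)
                        left_inv := fun z => by ext <;> simp
                        right_inv := fun z => by ext <;> simp }, 0, 1, 0, fun z => by simp⟩
  let b : plane p := ⟨{ toFun := fun z => (z.1, z.2 + 1)
                        invFun := fun z => (z.1, z.2 - 1)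
                        left_inv := fun z => by ext <;> simp
                        right_inv := fun z => by ext <;> simp }, 0, 0, 1, fun z => by simp⟩
  refine ⟨a, b, fun h => ?_⟩
  have h1 := congrArg (fun σ : plane p => (σ : Perm (ZMod p × ZMod p)) (0, 0)) h
  simp [a, b] at h1

theorem sign_one_of_odd {α : Type*} [Fintype α] [DecidableEq α] {σ : Perm α} {k : ℕ}
    (hk : Odd k) (h : σ ^ k = 1) : Perm.sign σ = 1 := by
  have h1 : Perm.sign σ ^ k = 1 := by rw [← map_pow, h, map_one]
  rcases Int.units_eq_one_or (Perm.sign σ) with e | e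
  · exact e
  · rw [e, hk.neg_one_pow] at h1
    exact absurd h1 (by decide)

theorem exists_nonabelian (n p : ℕ) (hn : 6 ≤ n) [Fact p.Prime] (hp : p ^ 2 ≤ n) :
    ∃ T : Subgroup (alternatingGroup (Fin n)), IsPGroup p T ∧ ∃ a b : T, a * b ≠ b * a := by
  obtain ⟨a, b, hab⟩ := plane_not_comm p
  suffices ∃ φ : ↥(plane p) →* ↥(alternatingGroup (Fin n)), Function.Injective φ by
    obtain ⟨φ, hφ⟩ := this
    refine ⟨φ.range, (isPGroup_plane p).of_surjective φ.rangeRestrict φ.rangeRestrict_surjective,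
      ⟨φ a, a, rfl⟩, ⟨φ b, b, rfl⟩, fun h => hab (hφ ?_)⟩
    rw [map_mul, map_mul]
    exact congrArg Subtype.val h
  rcases (Fact.out : p.Prime).eq_two_or_odd' with rfl | hodd
  · obtain ⟨ι⟩ : Nonempty ((ZMod 2 × ZMod 2) ⊕ Fin 2 ↪ Fin n) :=
      Function.Embedding.nonempty_of_card_le (by simp; omega)
    let e : Perm (Fin 2) ≃* ℤˣ := MulEquiv.ofBijective Perm.sign (by decide)
    let φ : Perm (ZMod 2 × ZMod 2) →* Perm (Fin n) := (Perm.viaEmbeddingHom ι).comp
      ((Perm.sumCongrHom _ _).comp ((MonoidHom.id _).prod (e.symm.toMonoidHom.comp Perm.sign)))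
    have hmem : ∀ σ, φ σ ∈ alternatingGroup (Fin n) := by
      intro σ
      rw [Perm.mem_alternatingGroup]
      simp only [φ, MonoidHom.comp_apply, Perm.viaEmbeddingHom_apply, Perm.viaEmbedding,
        Perm.sign_extendDomain]
      simp only [Perm.sumCongrHom_apply, MonoidHom.prod_apply, MonoidHom.id_apply, Perm.sign_sumCongr]
      have : Perm.sign (e.symm (Perm.sign σ)) = Perm.sign σ := e.apply_symm_apply _
      simp only [MonoidHom.comp_apply, MulEquiv.coe_toMonoidHom, this]
      exact Int.units_mul_self _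
    refine ⟨(φ.comp (plane 2).subtype).codRestrict _ (fun σ => hmem _), fun x y h => ?_⟩
    have h1 : φ x = φ y := congrArg Subtype.val h
    have h2 := Perm.viaEmbeddingHom_injective ι h1
    exact Subtype.ext (congrArg Prod.fst (Perm.sumCongrHom_injective h2))
  · obtain ⟨ι⟩ : Nonempty (ZMod p × ZMod p ↪ Fin n) :=
      Function.Embedding.nonempty_of_card_le (by simp; nlinarith)
    refine ⟨((Perm.viaEmbeddingHom ι).comp (plane p).subtype).codRestrict _ (fun σ => ?_),
      fun x y h => Subtype.ext (Perm.viaEmbeddingHom_injective ι (congrArg Subtype.val h))⟩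
    obtain ⟨k, hk⟩ := isPGroup_plane p σ
    rw [Perm.mem_alternatingGroup]
    refine sign_one_of_odd (hodd.pow (n := k)) ?_
    rw [← map_pow, hk, map_one]

/-- For n ≥ 6 and a prime p, a nontrivial Sylow p-subgroup of the alternating group of degree n is abelian if and only if n < p². -/
theorem result (n p : ℕ) (hn : 6 ≤ n) [Fact p.Prime] (S : Sylow p (alternatingGroup (Fin n))) (hS : (S : Subgroup (alternatingGroup (Fin n))) ≠ ⊥) : IsMulCommutative S ↔ n < p ^ 2 := by
  constructor
  · intro hS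
    by_contra hnot
    obtain ⟨T, hT, a, b, hab⟩ := exists_nonabelian n p hn (not_lt.mp hnot)
    obtain ⟨T', hTT'⟩ := hT.exists_le_sylow
    let e := (Sylow.equiv T' S)
    refine hab (Subgroup.inclusion_injective hTT' (e.injective ?_))
    rw [map_mul, map_mul, map_mul, map_mul]
    exact hS.is_comm.comm _ _
  · intro hlt
    haveI := hS
    refine ⟨⟨fun a b => Subtype.ext (Subtype.ext ?_)⟩⟩
    have h := comm_of_small (α := Fin n) (by simpa using hlt) (S.2.map (alternatingGroup (Fin n)).subtype)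
      ⟨_, Subgroup.mem_map_of_mem _ a.2⟩ ⟨_, Subgroup.mem_map_of_mem _ b.2⟩
    simpa using congrArg Subtype.val h

end Cfsg.Agent.S5164
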