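import Cfsg.Statements.S5171
import Cfsg.Agent.Lib.Fusion.PSpSimple

set_option autoImplicit false
open Cfsg

namespace Cfsg.Agent.S5171

/-- For a finite field K of characteristic p and m ≥ 2, excluding the case m = 2 with K of two elements, the p-fusion system of the projective symplectic group PSp_{2m}(K) on a Sylow p-subgroup is simple. -/
theorem result {K : Type*} [Field K] [Fintype K] (p : ℕ) [Fact p.Prime] [CharP K p] (m : ℕ) (hm : 2 ≤ m) (hex : m = 2 → 3 ≤ Fintype.card K) (S : Sylow p (Cfsg.PSp m K)) : (Cfsg.groupFusionSystem (S : Subgroup (Cfsg.PSp m K))).IsSimple p := by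
  haveI : Finite K := Finite.of_fintype K
  refine Cfsg.Agent.Fusion.PSpSimple.isSimple p hm ?_ S
  by_cases h : 3 ≤ m
  · exact Or.inr h
  refine Or.inl ?_
  classical
  have hcard := hex (by omega)
  obtain ⟨μ, -, hμ⟩ := Finset.exists_mem_notMem_of_card_lt_card
    (s := ({0, -1} : Finset K)) (t := Finset.univ)
    (lt_of_le_of_lt Finset.card_le_two (by rw [Finset.card_univ]; omega))
  simp only [Finset.mem_insert, Finset.mem_singleton, not_or] at hμ
  exact ⟨μ, hμ.1, fun h0 => hμ.2 (eq_neg_of_add_eq_zero_right h0)⟩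

end Cfsg.Agent.S5171
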