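import Cfsg.Statements.S5187
import Cfsg.Agent.Lib.Fusion.EssentialSmall

set_option autoImplicit false
universe u
open Cfsg

namespace Cfsg.Agent.S5187

/-- Let F be a saturated fusion system over a finite p-group S and H an abelian essential subgroup that can be generated by two elements (its Frattini quotient has order at most p²). Then H is elementary abelian of order p², or p ≤ 3 and H is homocyclic of rank two, that is isomorphic to C_{pᵏ} × C_{pᵏ} for some k. -/
theorem result {Ω : Type u} [Group Ω] {S : Subgroup Ω} [Finite S] (p : ℕ) [Fact p.Prime] (hS : IsPGroup p S)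
    (F : Cfsg.FusionSystem S) (hF : F.IsSaturated p) (H : Subgroup Ω) (hH : F.IsEssential p H) (hab : IsMulCommutative ↥H) (hrk : (frattini ↥H).index ≤ p ^ 2) :
    (Cfsg.IsElementaryAbelian p H ∧ Nat.card H = p ^ 2) ∨
      (p ≤ 3 ∧ ∃ k : ℕ, Nonempty (↥H ≃* Multiplicative (ZMod (p ^ k) × ZMod (p ^ k)))) := by
  have hp' := (Fact.out : p.Prime)
  obtain ⟨k, hk, he, h5⟩ := Fusion.abelian_essential_structure hS hH hab hrk
  rcases Nat.lt_or_ge p 5 with hp5 | hp5
  · refine Or.inr ⟨?_, k, he⟩
    rcases Nat.lt_or_ge p 4 with h | h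
    · omega
    · exact absurd hp' (by rw [show p = 4 by omega]; norm_num)
  · obtain ⟨e⟩ := he
    haveI : NeZero (p ^ k) := ⟨pow_ne_zero _ hp'.ne_zero⟩
    obtain rfl := h5 hp5
    refine Or.inl ⟨⟨hab, fun a ha => ?_⟩, ?_⟩
    · have h1 : e ((⟨a, ha⟩ : H) ^ p) = 1 := by
        rw [map_pow]
        apply Multiplicative.toAdd.injective
        rw [toAdd_pow, toAdd_one]
        have h0 : ((p : ℕ) : ZMod (p ^ 1)) = 0 := by
          rw [ZMod.natCast_eq_zero_iff, pow_one]
        refine Prod.ext ?_ ?_ <;>
          simp [nsmul_eq_mul, h0]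
      exact congrArg Subtype.val (e.injective (h1.trans (map_one e).symm))
    · rw [Nat.card_congr e.toEquiv, Nat.card_congr Multiplicative.toAdd, Nat.card_prod, Nat.card_zmod]
      ring

end Cfsg.Agent.S5187
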