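import Cfsg.Statements.S5191
import Cfsg.Agent.Lib.Fusion.Group

set_option autoImplicit false
open Cfsg

namespace Cfsg.Agent.S5191

/-- Fusion in a finite group G and in its quotient by O_{p'}(G) agree. Let S be a Sylow p-subgroup of G, N = O_{p'}(G) and P ≤ S. If an element of G/N conjugates the image of P into the image of S, then some element g of G conjugates P into S and induces the same map on P modulo N. (Together with the injectivity of S → G/N this says that g ↦ gN induces an isomorphism of the fusion system of G on S with that of G/N on SN/N.) -/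
theorem result {G : Type*} [Group G] [Finite G] {p : ℕ} [Fact p.Prime]
    [hN : (Cfsg.pPrimeCore p G).Normal] (S : Sylow p G) (P : Subgroup G) (hP : P ≤ (S : Subgroup G))
    (γ : G ⧸ Cfsg.pPrimeCore p G)
    (hγ : ∀ x ∈ P, γ * QuotientGroup.mk x * γ⁻¹ ∈ ((S : Subgroup G).map (QuotientGroup.mk' (Cfsg.pPrimeCore p G)))) :
    ∃ g : G, ∀ x ∈ P, g * x * g⁻¹ ∈ S ∧
      (QuotientGroup.mk (g * x * g⁻¹) : G ⧸ Cfsg.pPrimeCore p G) = γ * QuotientGroup.mk x * γ⁻¹ := by
  classical
  obtain ⟨a, rfl⟩ := QuotientGroup.mk_surjective γ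
  set N := Cfsg.pPrimeCore p G with hNdef
  let H : Subgroup G := (S : Subgroup G) ⊔ N
  let P' : Subgroup G := P.map (MulAut.conj a).toMonoidHom
  have hP' : P' ≤ H := by
    rintro _ ⟨x, hx, rfl⟩
    obtain ⟨s, hs, hsx⟩ := hγ x hx
    have h1 : s⁻¹ * (a * x * a⁻¹) ∈ N := by
      refine QuotientGroup.eq.mp ?_
      simpa using hsx
    have h2 : s * (s⁻¹ * (a * x * a⁻¹)) ∈ H :=
      H.mul_mem (Subgroup.mem_sup_left hs) (Subgroup.mem_sup_right h1)
    simpa [mul_assoc] using h2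
  let T : Sylow p H := S.subtype le_sup_left
  have hp' : IsPGroup p (P'.subgroupOf H) :=
    ((S.2.to_le hP).map _).of_equiv (Subgroup.subgroupOfEquivOfLe hP').symm
  obtain ⟨R, hR⟩ := hp'.exists_le_sylow
  obtain ⟨u, hu⟩ := MulAction.exists_smul_eq H R T
  obtain ⟨s, hs, n, hn, hsn⟩ : ∃ s ∈ (S : Subgroup G), ∃ n ∈ N, s * n = (u : G) := by
    have := u.2
    rw [← SetLike.mem_coe, Subgroup.mul_normal] at this
    exact Set.mem_mul.mp this
  refine ⟨n * a, fun x hx => ⟨?_, ?_⟩⟩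
  · have h1 : u * ⟨a * x * a⁻¹, hP' ⟨x, hx, rfl⟩⟩ * u⁻¹ ∈ (T : Subgroup H) := by
      rw [← hu, Sylow.coe_subgroup_smul]
      exact Subgroup.smul_mem_pointwise_smul _ _ _ (hR ⟨x, hx, rfl⟩)
    have h2 : (u : G) * (a * x * a⁻¹) * (u : G)⁻¹ ∈ (S : Subgroup G) := h1
    have h3 := Subgroup.mul_mem _ (Subgroup.mul_mem _ (Subgroup.inv_mem _ hs) h2) hs
    rw [← hsn] at h3
    show n * a * x * (n * a)⁻¹ ∈ (S : Subgroup G)
    simpa [mul_assoc] using h3
  · have h1 : (QuotientGroup.mk n : G ⧸ N) = 1 := (QuotientGroup.eq_one_iff n).mpr hn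
    rw [QuotientGroup.mk_mul, QuotientGroup.mk_mul, QuotientGroup.mk_inv, QuotientGroup.mk_mul, h1]
    simp

end Cfsg.Agent.S5191
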