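import Cfsg.Statements.S5192
import Cfsg.Agent.Lib.Fusion.OrbitTransfer
import Cfsg.Agent.Lib.Fusion.Tate

set_option autoImplicit false
open Cfsg

namespace Cfsg.Agent.S5192

/-- A Thompson-type transfer for saturated fusion systems. Let F be a saturated fusion system on a finite 2-group S, T a subgroup of S of index 2, and i an involution of S such that every fully normalized F-conjugate of i lies in S but outside T. Then i does not lie in the hyperfocal subgroup of F (the Sylow group of the 2-residual subsystem). -/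
theorem result {Ω : Type*} [Group Ω] [Finite Ω] {S : Subgroup Ω}
    (hS : IsPGroup 2 ↥S) (F : Cfsg.FusionSystem S) (hF : F.IsSaturated 2)
    (T : Subgroup Ω) (hTS : T ≤ S) (hT : T.relIndex S = 2)
    (i : Ω) (hi : i ∈ S) (hi2 : orderOf i = 2)
    (h : ∀ j : Ω, F.IsConjElt i j → F.IsFullyNormalized (Subgroup.zpowers j) → j ∉ T) :
    i ∉ F.hyperfocalSubgroup 2 := by
  classical
  intro hhyp
  haveI : Fact (Nat.Prime 2) := ⟨Nat.prime_two⟩
  haveI : Finite S := inferInstance
  have hiF : i ∈ F.focalSubgroup := Fusion.hyperfocal_le_focal hhyp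
  obtain ⟨P₀, hconj, hfn⟩ := Fusion.exists_isFullyNormalized (F := F) (Subgroup.zpowers_le.mpr hi)
  obtain ⟨g, hg, hgP⟩ := Fusion.isConj_iff.mp hconj
  set j₀ := g i with hj₀
  have hiz : i ∈ Subgroup.zpowers i := Subgroup.mem_zpowers i
  have hord : ∀ {P : Subgroup Ω} {f : Ω → Ω}, Fusion.MapTo F P f → ∀ {x : Ω}, x ∈ P →
      orderOf x = 2 → orderOf (f x) = 2 := by
    intro P f hf x hx hx2
    refine orderOf_eq_prime ?_ fun h1 => ?_
    · rw [sq, ← hf.map_mul hx hx, ← sq, ← hx2, pow_orderOf_eq_one, hf.map_one]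
    · have := hf.inj hx P.one_mem (h1.trans hf.map_one.symm)
      rw [this, orderOf_one] at hx2
      omega
  have hj2 : orderOf j₀ = 2 := hord hg hiz hi2
  have hP₀ : P₀ = Subgroup.zpowers j₀ := by
    rw [← hgP]
    refine le_antisymm (Fusion.img_le_of_forall fun x hx => ?_)
      (Subgroup.zpowers_le.mpr (Fusion.mem_img_of_mem hiz))
    obtain ⟨k, rfl⟩ := mem_powers_iff_mem_zpowers.mpr hx
    show g (i ^ k) ∈ Subgroup.zpowers (g i)
    induction k with
    | zero => rw [pow_zero, hg.map_one]; exact Subgroup.one_mem _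
    | succ k ih =>
      rw [pow_succ, hg.map_mul (Subgroup.pow_mem _ hiz k) hiz]
      exact Subgroup.mul_mem _ (ih (Subgroup.pow_mem _ hiz k)) (Subgroup.mem_zpowers _)
  subst hP₀
  have hj₀S : j₀ ∈ S := hg.mem hiz
  have hj₀F : j₀ ∈ F.focalSubgroup := by
    have := F.focalSubgroup.mul_mem hiF (Fusion.mem_focal hg hiz)
    rwa [mul_inv_cancel_left] at this
  have hfc := Fusion.isFullyCentralized_of_isFullyNormalized hS hF hfn
  -- the homomorphism to `ZMod 2`
  set T' : Subgroup S := T.subgroupOf S with hT'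
  have hidx : T'.index = 2 := hT
  let lam : S → ZMod 2 := fun a => if a ∈ T' then 0 else 1
  have hlam : ∀ a b, lam (a * b) = lam a + lam b := by
    intro a b
    have h1 := Subgroup.mul_mem_iff_of_index_two hidx (a := a) (b := b)
    by_cases ha : a ∈ T' <;> by_cases hb : b ∈ T' <;> simp [lam, h1, ha, hb] <;> rfl
  obtain ⟨X, m, hX, hm, hcard⟩ := Fusion.exists_stableBiset hS hF
  let := Fusion.pairAct X
  obtain ⟨I, hI, hact, r, ell, hq, hc, hcoc, hT0⟩ :=
    Fusion.exists_orbit_transfer hX.free hm hcard lam hlam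
  letI := hI
  letI := hact
  set u : S := ⟨j₀, hj₀S⟩ with hu
  have hu2 : u * u = 1 := Subtype.ext (by
    show j₀ * j₀ = 1
    rw [← sq, ← hj2, pow_orderOf_eq_one])
  have hsum : ∑ x, ell u x = 0 := by
    refine hT0 u ?_
    set Cl := Subgroup.closure {y : S | ∃ (a a' : S) (e : X.carrier ≃ X.carrier),
      (∀ x (b : S), e (Fusion.rm x b) = Fusion.rm (e x) b) ∧
        (∀ x, e (Fusion.lm a x) = Fusion.lm a' (e x)) ∧ y = a⁻¹ * a'}
    have h1 : F.focalSubgroup ≤ Cl.map S.subtype := Fusion.focal_le_iff.mpr fun P f hf x hx => by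
      obtain ⟨e, he1, he2⟩ := hX.translate hf
      exact ⟨(⟨x, hf.le hx⟩ : S)⁻¹ * ⟨f x, hf.mem hx⟩,
        Subgroup.subset_closure ⟨_, _, e, he1, he2 x hx, rfl⟩, rfl⟩
    obtain ⟨y, hy, hyu⟩ := h1 hj₀F
    have hyu' : y = u := Subtype.ext hyu
    exact hyu' ▸ hy
  have hell1 : ∀ x, ell 1 x = 0 := by
    intro x
    have h1 := hcoc 1 1 x
    rwa [one_mul, one_smul, left_eq_add] at h1
  -- the fixed points not counted
  have hnofix : ∀ x : I, u • x = x → ell u x = 0 →
      ¬ ∀ c ∈ Cfsg.FusionSystem.centralizerIn S (Subgroup.zpowers j₀), ∀ hc : c ∈ S,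
        (⟨c, hc⟩ : S) • x = x := by
    intro x hux hx0 hall
    obtain ⟨P, f, hf, hfix⟩ := hX.fix_iff (r x)
    have hab : ∀ a b : S, Fusion.lm a (r x) = Fusion.rm (r x) b →
        ((a, b) : S × S) • r x = r x := by
      intro a b h
      calc ((a, b) : S × S) • r x = ((1, b) : S × S) • Fusion.lm a (r x) := by
            simp [Fusion.lm, smul_smul]
        _ = ((1, b) : S × S) • Fusion.rm (r x) b := by rw [h]
        _ = r x := by simp [Fusion.rm, smul_smul, Prod.mk_one_one]
    obtain ⟨b, hb, hbe⟩ := hc u x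
    rw [hux] at hb
    obtain ⟨huP, hub⟩ := hfix u b (hab u b hb.symm)
    have hbT : (b : Ω) ∈ T := by
      by_contra hbT
      have : lam b = 1 := if_neg hbT
      rw [← hbe, hx0] at this
      exact zero_ne_one this
    have hCP : Cfsg.FusionSystem.centralizerIn S (Subgroup.zpowers j₀) ≤ P := by
      intro c hcC
      obtain ⟨d, hd, -⟩ := hc ⟨c, hcC.1⟩ x
      rw [hall c hcC hcC.1] at hd
      exact (hfix ⟨c, hcC.1⟩ d (hab _ d hd.symm)).1
    haveI : Finite P := inferInstance
    have hcle : Nat.card (Cfsg.FusionSystem.centralizerIn S (Subgroup.zpowers j₀)) ≤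
        Nat.card (Cfsg.FusionSystem.centralizerIn S (Subgroup.zpowers (b : Ω))) := by
      refine Nat.card_le_card_of_injective (fun c => ⟨f c, ?_⟩) fun c d h =>
        Subtype.ext (hf.inj (hCP c.2) (hCP d.2) (congrArg Subtype.val h))
      refine Fusion.mem_centralizerIn.mpr ⟨hf.mem (hCP c.2), fun y hy => ?_⟩
      obtain ⟨k, rfl⟩ := Subgroup.mem_zpowers_iff.mp hy
      refine Commute.zpow_left ?_ k
      show (b : Ω) * f c = f c * b
      rw [← hub, ← hf.map_mul huP (hCP c.2), ← hf.map_mul (hCP c.2) huP,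
        (Fusion.mem_centralizerIn.mp c.2).2 j₀ (Subgroup.mem_zpowers j₀)]
    have hb2 : orderOf (b : Ω) = 2 := by rw [← hub]; exact hord hf huP hj2
    have hjb : F.IsConj (Subgroup.zpowers j₀) (Subgroup.zpowers (b : Ω)) := by
      refine Fusion.isConj_iff.mpr ⟨f, hf.restrict (Subgroup.zpowers_le.mpr huP), ?_⟩
      refine le_antisymm (Fusion.img_le_of_forall fun y hy => ?_)
        (Subgroup.zpowers_le.mpr (hub ▸ Fusion.mem_img_of_mem (Subgroup.mem_zpowers j₀)))
      obtain ⟨k, rfl⟩ := mem_powers_iff_mem_zpowers.mpr hy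
      show f (j₀ ^ k) ∈ Subgroup.zpowers (b : Ω)
      induction k with
      | zero => rw [pow_zero, hf.map_one]; exact Subgroup.one_mem _
      | succ k ih =>
        rw [pow_succ, hf.map_mul (P.pow_mem huP k) huP,
          show f (u : Ω) = (b : Ω) from hub]
        exact Subgroup.mul_mem _ (ih (Subgroup.pow_mem _ (Subgroup.mem_zpowers _) k))
          (Subgroup.mem_zpowers _)
    have hbconj : F.IsConjElt i (b : Ω) := by
      have hm : Fusion.MapTo F (Subgroup.zpowers i) (fun y => f (g y)) :=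
        hg.comp (hf.restrict (Subgroup.zpowers_le.mpr huP)) fun y hy => hgP.le (Fusion.mem_img_of_mem hy)
      obtain ⟨φ, hφ, hφf⟩ := hm
      exact ⟨φ, hφ, (hφf ⟨i, hiz⟩).trans hub⟩
    have hnorm : ∀ z : Ω, orderOf z = 2 → Cfsg.FusionSystem.normalizerIn S (Subgroup.zpowers z) =
        Cfsg.FusionSystem.centralizerIn S (Subgroup.zpowers z) := by
      intro z hz
      refine le_antisymm (fun c hc => Fusion.mem_centralizerIn.mpr ⟨hc.1, fun y hy => ?_⟩)
        Fusion.centralizerIn_le_normalizerIn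
      obtain ⟨k, rfl⟩ := Subgroup.mem_zpowers_iff.mp hy
      refine Commute.zpow_left ?_ k
      have h1 := (Subgroup.mem_normalizer_iff.mp hc.2 z).mp (Subgroup.mem_zpowers z)
      obtain ⟨e, he⟩ := mem_powers_iff_mem_zpowers.mpr h1
      have he' : z ^ (e % 2) = c * z * c⁻¹ := by rw [← he, ← hz, pow_mod_orderOf]
      rcases Nat.mod_two_eq_zero_or_one e with h0 | h0 <;> rw [h0] at he'
      · rw [pow_zero] at he'
        have : z = 1 := conj_eq_one_iff.mp he'.symm
        rw [this, orderOf_one] at hz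
        omega
      · rw [pow_one] at he'
        exact eq_mul_inv_iff_mul_eq.mp he'
    refine h b hbconj ⟨Subgroup.zpowers_le.mpr b.2, fun Q hQ => ?_⟩ hbT
    rw [hnorm b hb2]
    refine le_trans (hfn.2 Q (Fusion.isConj_trans hjb hQ)) ?_
    rw [hnorm j₀ hj2]
    exact hcle
  -- counting modulo two
  let Z := Finset.univ.filter (fun x : I => u • x = x ∧ ell u x = 0)
  have hZ : (Z.card : ZMod 2) = 0 := by
    set C := (Cfsg.FusionSystem.centralizerIn S (Subgroup.zpowers j₀)).subgroupOf S with hC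
    have hCu : ∀ c : S, c ∈ C → u * c = c * u := fun c hc => Subtype.ext
      ((Fusion.mem_centralizerIn.mp (Subgroup.mem_subgroupOf.mp hc)).2 j₀ (Subgroup.mem_zpowers j₀))
    have hinv : ∀ c : S, c ∈ C → ∀ x : I, u • x = x ∧ ell u x = 0 → u • (c • x) = c • x ∧ ell u (c • x) = 0 := by
      intro c hc x ⟨hx, hx0⟩
      refine ⟨by rw [← mul_smul, hCu c hc, mul_smul, hx], ?_⟩
      have h1 := hcoc u c x
      rw [hCu c hc, hcoc c u x, hx, hx0, add_zero] at h1
      exact (eq_sub_of_add_eq h1.symm).trans (sub_self _)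
    letI : MulAction C {x : I // u • x = x ∧ ell u x = 0} :=
      { smul := fun c x => ⟨(c : S) • x.1, hinv c c.2 x.1 x.2⟩
        one_smul := fun x => Subtype.ext (one_smul S x.1)
        mul_smul := fun a b x => Subtype.ext (mul_smul (a : S) (b : S) x.1) }
    have hCp : IsPGroup 2 C := hS.to_subgroup C
    have h1 := hCp.card_modEq_card_fixedPoints {x : I // u • x = x ∧ ell u x = 0}
    have h2 : IsEmpty (MulAction.fixedPoints C {x : I // u • x = x ∧ ell u x = 0}) := by
      refine ⟨fun x => hnofix x.1.1 x.1.2.1 x.1.2.2 fun c hc hcS => ?_⟩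
      exact congrArg Subtype.val (x.2 ⟨⟨c, hcS⟩, hc⟩)
    rw [Nat.card_of_isEmpty (α := MulAction.fixedPoints C {x : I // u • x = x ∧ ell u x = 0}),
      Nat.card_eq_fintype_card, Fintype.card_subtype] at h1
    rw [ZMod.natCast_eq_zero_iff]
    exact Nat.modEq_zero_iff_dvd.mp h1
  have hsplit : ∑ x : I, (ell u x + 1) = (Z.card : ZMod 2) := by
    rw [← Finset.sum_filter_add_sum_filter_not Finset.univ (fun x : I => u • x = x)]
    have h1 : ∑ x ∈ Finset.univ.filter (fun x : I => ¬ u • x = x), (ell u x + 1) = 0 := by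
      refine Finset.sum_involution (fun x _ => u • x) (fun x hx => ?_)
        (fun x hx _ => (Finset.mem_filter.mp hx).2)
        (fun x hx => ?_) (fun x hx => by rw [← mul_smul, hu2, one_smul])
      · have h2 := hcoc u u x
        rw [hu2, hell1] at h2
        calc ell u x + 1 + (ell u (u • x) + 1) = (ell u (u • x) + ell u x) + (1 + 1) := by ring
          _ = 0 := by rw [← h2, zero_add]; rfl
      · refine Finset.mem_filter.mpr ⟨Finset.mem_univ _, fun h3 => (Finset.mem_filter.mp hx).2 ?_⟩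
        exact MulAction.injective u h3
    rw [h1, add_zero]
    have h2 : ∀ v : ZMod 2, v + 1 = if v = 0 then 1 else 0 := fun v => by fin_cases v <;> rfl
    simp only [h2, Finset.sum_boole, Finset.filter_filter]
    rfl
  rw [Finset.sum_add_distrib, hsum, zero_add, hZ, Finset.sum_const, Finset.card_univ, nsmul_eq_mul,
    mul_one] at hsplit
  exact hq hsplit

end Cfsg.Agent.S5192
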