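import Cfsg.Statements.S5193
import Cfsg.Agent.Lib.Fusion.CenterJ

set_option autoImplicit false
open Cfsg

namespace Cfsg.Agent.S5193

open Subgroup Cfsg.Agent.Transfer
open scoped commutatorElement Pointwise IsMulCommutative
theorem main {Ω : Type*} [Group Ω] {S : Subgroup Ω} [Finite S] (p : ℕ) [Fact p.Prime]
    (hS : IsPGroup p S) (F : Cfsg.FusionSystem S) (hF : F.IsSaturated p) (U : Subgroup Ω)
    (hU : U = Cfsg.Agent.Transfer.JAb 0 S)
    (N : Cfsg.FusionSystem (Cfsg.FusionSystem.normalizerIn S U)) (hN : F.IsNormalizerSystem U N) :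
    Subgroup.closure ((fun z : Ω => z ^ p) '' ((S ⊓ Subgroup.centralizer (S : Set Ω) : Subgroup Ω) : Set Ω)) ⊓ N.center ≤ F.center ∧
      (p ≠ 2 ∨ F.IsSectionFree p (Equiv.Perm (Fin 4)) → N.center = F.center) := by
  subst hU
  have hn : S ≤ Subgroup.normalizer (Cfsg.Agent.Transfer.JAb 0 S : Set Ω) :=
    Subgroup.le_normalizer.trans (Cfsg.Agent.Transfer.normalizer_le_normalizer_JAb S)
  refine ⟨fun x hx => ?_, fun h => le_antisymm (fun x hx => ?_) ?_⟩
  · exact Cfsg.Agent.Fusion.mem_center_of_mem_center_J hS hF hN hx.2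
      (Or.inr (Or.inl (Cfsg.Agent.Fusion.exists_pow_of_mem_closure hx.1)))
  · exact Cfsg.Agent.Fusion.mem_center_of_mem_center_J hS hF hN hx (h.imp id Or.inr)
  · exact Cfsg.Agent.Fusion.center_le_center_normalizerSystem (Cfsg.Agent.Transfer.JAb_le S) hn hN

/-- Glauberman's Theorem for fusion systems. Let F be a saturated fusion system over a finite p-group S, let J(S) be the subgroup generated by the abelian subgroups of S of largest order, and let N be the normalizer fusion system of J(S) in F (a fusion system over N_S(J(S)) = S). Then every p-th power of an element of Z(S) that lies in the centre of N lies in the centre of F; and if p is odd, or if the symmetric group of degree 4 is not involved in any model of the normalizer system of a fully normalized F-centric subgroup (F is S₄-free), then the centre of N equals the centre of F. -/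
theorem result {Ω : Type*} [Group Ω] {S : Subgroup Ω} [Finite S] (p : ℕ) [Fact p.Prime] (hS : IsPGroup p S) (F : Cfsg.FusionSystem S) (hF : F.IsSaturated p) (N : Cfsg.FusionSystem (Cfsg.FusionSystem.normalizerIn S (Cfsg.thompsonSubgroupAOf S))) (hN : F.IsNormalizerSystem (Cfsg.thompsonSubgroupAOf S) N) : Subgroup.closure ((fun z : Ω => z ^ p) '' ((S ⊓ Subgroup.centralizer (S : Set Ω) : Subgroup Ω) : Set Ω)) ⊓ N.center ≤ F.center ∧ (p ≠ 2 ∨ F.IsSectionFree p (Equiv.Perm (Fin 4)) → N.center = F.center) := by
  exact main p hS F hF _ (Cfsg.Agent.Transfer.JAb_zero S).symm N hN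

end Cfsg.Agent.S5193
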