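import Cfsg.Statements.S5194
import Cfsg.Agent.Lib.Fusion.CenterJ

set_option autoImplicit false
open Cfsg

namespace Cfsg.Agent.S5194

open Cfsg.Agent.Fusion
open Cfsg.FusionSystem (centralizerIn normalizerIn)

theorem main {Ω : Type*} [Group Ω] {S : Subgroup Ω} [Finite S] (p : ℕ) [Fact p.Prime]
    (hS : IsPGroup p S) (F : Cfsg.FusionSystem S) (hF : F.IsSaturated p)
    (hp : p ≠ 2 ∨ F.IsSectionFree p (Equiv.Perm (Fin 4))) (J : Subgroup Ω)
    (hJ : J = Cfsg.Agent.Transfer.JAb 0 S) (Z : Subgroup Ω)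
    (hZ : Z = S ⊓ Subgroup.centralizer (S : Set Ω))
    (hC : ∀ C : Cfsg.FusionSystem (centralizerIn S Z), F.IsCentralizerSystem Z C →
      ∀ P : Subgroup Ω, C.Hom P = (Cfsg.innerFusionSystem (centralizerIn S Z)).Hom P)
    (hN : ∀ N : Cfsg.FusionSystem (normalizerIn S J), F.IsNormalizerSystem J N →
      ∀ P : Subgroup Ω, N.Hom P = (Cfsg.innerFusionSystem (normalizerIn S J)).Hom P) :
    ∀ P : Subgroup Ω, F.Hom P = (Cfsg.innerFusionSystem S).Hom P := by
  subst hJ
  have hJS : Cfsg.Agent.Transfer.JAb 0 S ≤ S := Cfsg.Agent.Transfer.JAb_le S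
  have hJN : Cfsg.Agent.Transfer.JAb 0 S ≤ normalizerIn S (Cfsg.Agent.Transfer.JAb 0 S) :=
    le_normalizerIn hJS
  have hZS : Z ≤ S := hZ ▸ inf_le_left
  have hcen : Z ≤ F.center := by
    intro x hx
    rw [hZ] at hx
    refine mem_center_of_J hS hF hx.1 hx.2 (fun α hα => ?_) (hp.imp id Or.inr)
    have hxJ : x ∈ Cfsg.Agent.Transfer.JAb 0 S := by
      have h1 : (⟨x, hx.1⟩ : S) ∈ Cfsg.Agent.Transfer.JAb 0 (⊤ : Subgroup S) :=
        Cfsg.Agent.Transfer.center_le_JAb_zero _ ⟨trivial, Subgroup.mem_centralizer_iff.mpr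
          fun y _ => Subtype.ext (Subgroup.mem_centralizer_iff.mp hx.2 y y.2)⟩
      have h2 := Subgroup.mem_map_of_mem S.subtype h1
      rwa [Cfsg.Agent.Transfer.map_JAb _ _ S.subtype_injective.injOn, ← MonoidHom.range_eq_map,
        Subgroup.range_subtype] at h2
    have h : MapTo (nSys F hJS) (Cfsg.Agent.Transfer.JAb 0 S) (autFun α) :=
      (mapTo_nSys_iff (isNormalizerSystem_nSys F hJS)).mpr ⟨hJN,
        fun z hz => hJN (autFun_mem α hz), autFun α,
        by rw [sup_idem]; exact mapTo_of_mem_autGroup hJS hα, fun _ _ => rfl, img_autFun α⟩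
    obtain ⟨φ, hφ, hφf⟩ := h
    rw [hN _ (isNormalizerSystem_nSys F hJS)] at hφ
    obtain ⟨-, g, hg, hgφ⟩ := hφ
    rw [← hφf ⟨x, hxJ⟩, hgφ]
    show g * x * g⁻¹ = x
    rw [Subgroup.mem_centralizer_iff.mp hx.2 g hg.1, mul_inv_cancel_right]
  intro P
  ext φ
  constructor
  · intro hφ
    obtain ⟨-, hext⟩ := isCentral_iff.mp (isCentral_center F)
    obtain ⟨g, hg, hgf, hgZ⟩ := hext P _ (mapTo_ev hφ)
    have hPS : P ≤ S := (F.le_of_mem hφ).1
    have hSC : ∀ y ∈ S, y ∈ centralizerIn S Z := fun y hy => mem_centralizerIn.mpr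
      ⟨hy, fun z hz => ((Subgroup.mem_centralizer_iff.mp (hZ ▸ hz).2) y hy).symm⟩
    have hC' : MapTo (cSys F hZS) P (ev φ) :=
      (mapTo_cSys_iff (isCentralizerSystem_cSys F hZS)).mpr ⟨fun y hy => hSC y (hPS hy),
        fun y hy => hSC _ ((mapTo_ev hφ).mem hy), g, hg.restrict (sup_le_sup_left hcen P), hgf,
        fun z hz => hgZ z (hcen hz)⟩
    obtain ⟨ψ, hψ, hψf⟩ := hC'
    rw [hC _ (isCentralizerSystem_cSys F hZS)] at hψ
    obtain ⟨-, s, hs, hsψ⟩ := hψ
    exact ⟨hPS, s, hs.1, fun y => by rw [← ev_coe φ y, ← hψf y, hsψ]⟩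
  · rintro ⟨hP, g, hg, hgφ⟩
    exact (mapTo_cj (F := F) hP hg).hom_mem hgφ

/-- Thompson's normal p-complement Theorem for fusion systems. Let F be a saturated fusion system over a finite p-group S such that p is odd or F is S₄-free (the symmetric group of degree 4 is not involved in any model of the normalizer system of a fully normalized F-centric subgroup), and let J(S) be the subgroup generated by the abelian subgroups of S of largest order. If the centralizer fusion system of Z(S) in F is the inner fusion system of C_S(Z(S)) = S and the normalizer fusion system of J(S) in F is the inner fusion system of N_S(J(S)) = S, then F is the inner fusion system of S. -/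
theorem result {Ω : Type*} [Group Ω] {S : Subgroup Ω} [Finite S] (p : ℕ) [Fact p.Prime] (hS : IsPGroup p S) (F : Cfsg.FusionSystem S) (hF : F.IsSaturated p) (hp : p ≠ 2 ∨ F.IsSectionFree p (Equiv.Perm (Fin 4))) (hC : ∀ C : Cfsg.FusionSystem (Cfsg.FusionSystem.centralizerIn S (S ⊓ Subgroup.centralizer (S : Set Ω))), F.IsCentralizerSystem (S ⊓ Subgroup.centralizer (S : Set Ω)) C → ∀ P : Subgroup Ω, C.Hom P = (Cfsg.innerFusionSystem (Cfsg.FusionSystem.centralizerIn S (S ⊓ Subgroup.centralizer (S : Set Ω)))).Hom P) (hN : ∀ N : Cfsg.FusionSystem (Cfsg.FusionSystem.normalizerIn S (Cfsg.thompsonSubgroupAOf S)), F.IsNormalizerSystem (Cfsg.thompsonSubgroupAOf S) N → ∀ P : Subgroup Ω, N.Hom P = (Cfsg.innerFusionSystem (Cfsg.FusionSystem.normalizerIn S (Cfsg.thompsonSubgroupAOf S))).Hom P) : ∀ P : Subgroup Ω, F.Hom P = (Cfsg.innerFusionSystem S).Hom P := by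
  exact main p hS F hF hp _ (Cfsg.Agent.Transfer.JAb_zero S).symm _ rfl hC hN

end Cfsg.Agent.S5194
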