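import Cfsg.Statements.S5195
import Cfsg.Agent.Lib.Fusion.CenterJ
import Cfsg.Agent.Lib.Fusion.InnerCriteria
import Cfsg.Agent.Lib.Fusion.CentralQuotient

set_option autoImplicit false
open Cfsg

namespace Cfsg.Agent.S5195

open Cfsg.Agent.Fusion
open Cfsg.FusionSystem (centralizerIn normalizerIn imageAlong preimageAlong)

universe u

theorem main (p : ℕ) [Fact p.Prime] : ∀ (n : ℕ) {Ω : Type u} [Group Ω] {S : Subgroup Ω} [Finite S],
    Nat.card S = n → IsPGroup p S → ∀ (F : Cfsg.FusionSystem S), F.IsSaturated p →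
    (p ≠ 2 ∨ F.IsSectionFree p (Equiv.Perm (Fin 4))) →
    (∀ Q : Subgroup Ω, Q ≤ S → Q ≠ ⊥ → (Q.subgroupOf S).Characteristic →
      IsPGroup p (F.autGroup Q)) → F = Cfsg.innerFusionSystem S := by
  intro n
  induction n using Nat.strong_induction_on with
  | _ n ih =>
    intro Ω _ S _ hn hS F hF hp h
    set Z := (Subgroup.center S).map S.subtype with hZdef
    have hZS : Z ≤ S := Subgroup.map_subtype_le _
    have hZchar : (Z.subgroupOf S).Characteristic := by
      rw [Subgroup.subgroupOf, hZdef, Subgroup.comap_map_eq_self_of_injective S.subtype_injective]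
      infer_instance
    by_cases hZ0 : Z = ⊥
    · refine eq_inner_of_isPGroup_autGroup hS hF fun P hP => ?_
      have hS1 : S = ⊥ := by
        by_contra hne
        haveI : Nontrivial S := (Subgroup.nontrivial_iff_ne_bot S).mpr hne
        haveI := hS.center_nontrivial
        exact (Subgroup.nontrivial_iff_ne_bot _).mp (this)
          ((Subgroup.map_eq_bot_iff_of_injective _ S.subtype_injective).mp hZ0)
      have hPS : P ≤ S := by
        rcases hP with rfl | hP
        · exact le_rfl
        · exact hP.1.1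
      subst hS1
      intro α
      exact ⟨0, Subtype.ext (autFun_ext fun x hx => by
        obtain rfl := Subgroup.mem_bot.mp (hPS hx)
        rw [(mapTo_of_mem_autGroup hPS (α ^ p ^ 0).2).map_one, OneMemClass.coe_one, autFun_one hx])⟩
    have hmemZ : ∀ x ∈ Z, x ∈ S ∧ x ∈ Subgroup.centralizer (S : Set Ω) := by
      rintro _ ⟨z, hz, rfl⟩
      exact ⟨z.2, Subgroup.mem_centralizer_iff.mpr fun y hy =>
        congrArg Subtype.val (Subgroup.mem_center_iff.mp hz ⟨y, hy⟩)⟩
    -- `J(S)` contains the centre, and its automizer fixes it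
    have hJchar : ((Cfsg.Agent.Transfer.JAb 0 S).subgroupOf S).Characteristic := by
      refine Subgroup.characteristic_iff_map_eq.mpr fun φ => ?_
      have h1 : (Cfsg.Agent.Transfer.JAb 0 S).subgroupOf S =
          Cfsg.Agent.Transfer.JAb 0 (⊤ : Subgroup S) := by
        apply Subgroup.map_injective S.subtype_injective
        rw [Subgroup.subgroupOf_map_subtype, inf_eq_left.mpr (Cfsg.Agent.Transfer.JAb_le S),
          Cfsg.Agent.Transfer.map_JAb _ _ S.subtype_injective.injOn, ← MonoidHom.range_eq_map,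
          Subgroup.range_subtype]
      rw [h1, Cfsg.Agent.Transfer.map_JAb _ _ φ.injective.injOn,
        Subgroup.map_top_of_surjective φ.toMonoidHom φ.surjective]
    have hZJ : Z ≤ Cfsg.Agent.Transfer.JAb 0 S := by
      intro x hx
      obtain ⟨hxS, hxc⟩ := hmemZ x hx
      have h1 : (⟨x, hxS⟩ : S) ∈ Cfsg.Agent.Transfer.JAb 0 (⊤ : Subgroup S) :=
        Cfsg.Agent.Transfer.center_le_JAb_zero _ ⟨trivial, Subgroup.mem_centralizer_iff.mpr
          fun y _ => Subtype.ext (Subgroup.mem_centralizer_iff.mp hxc y y.2)⟩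
      have h2 := Subgroup.mem_map_of_mem S.subtype h1
      rwa [Cfsg.Agent.Transfer.map_JAb _ _ S.subtype_injective.injOn, ← MonoidHom.range_eq_map,
        Subgroup.range_subtype] at h2
    have hJp : IsPGroup p (F.autGroup (Cfsg.Agent.Transfer.JAb 0 S)) :=
      h _ (Cfsg.Agent.Transfer.JAb_le S) (fun he => hZ0 (le_bot_iff.mp (he ▸ hZJ))) hJchar
    have hJn : F.IsFullyNormalized (Cfsg.Agent.Transfer.JAb 0 S) :=
      isFullyNormalized_of_normal (Cfsg.Agent.Transfer.JAb_le S)
        (Subgroup.le_normalizer.trans (Cfsg.Agent.Transfer.normalizer_le_normalizer_JAb S))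
    have hZcen : F.IsCentral Z := by
      obtain ⟨-, hext⟩ := isCentral_iff.mp (isCentral_center F)
      refine isCentral_iff.mpr ⟨hZS, fun P f hf => ?_⟩
      have hle : Z ≤ F.center := fun x hx => mem_center_of_J hS hF (hmemZ x hx).1 (hmemZ x hx).2
        (fun α hα => autFun_eq_self_of_isPGroup hS hF hJn hJp (hZJ hx) (hmemZ x hx).2 hα)
        (hp.imp id Or.inr)
      obtain ⟨g, hg, hgf, hgZ⟩ := hext P f hf
      exact ⟨g, hg.restrict (sup_le_sup_left hle P), hgf, fun z hz => hgZ z (hle hz)⟩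
    have hZn : F.IsNormal Z := IsCentral.isNormal hZcen
    obtain ⟨Ω', _, S', θ, E, hmor, hk, hEsat, hS'fin, hS'p, hlt⟩ :=
      exists_quotient hS hF (IsNormal.stronglyClosed hZn)
    clear_value Z
    subst hk
    have hEinner : E = Cfsg.innerFusionSystem S' := by
      refine ih _ (hn ▸ hlt hZ0) rfl hS'p E hEsat
        (hp.imp id (isSectionFree_quotient hS hF hmor hZcen)) fun Q' hQ' hQ'0 hQ'c => ?_
      set Q := preimageAlong θ Q' with hQ
      have hQS : Q ≤ S := preimageAlong_le
      have hQchar : (Q.subgroupOf S).Characteristic := by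
        refine Subgroup.characteristic_iff_le_map.mpr fun φ => ?_
        intro y hy
        -- transport `φ` to the quotient
        have hker : ∀ z : S, θ z = 1 → θ (φ z) = 1 := fun z hz => by
          have hz' : z ∈ (kerIn θ).subgroupOf S := mem_kerIn.mpr ⟨z.2, (th_coe θ z).trans hz⟩
          have := (Subgroup.characteristic_iff_map_eq.mp hZchar φ).le ⟨z, hz', rfl⟩
          exact (th_coe θ (φ z)).symm.trans (mem_kerIn.mp this).2
        have hker' : ∀ z : S, θ z = 1 → θ (φ.symm z) = 1 := fun z hz => by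
          have hz' : z ∈ (kerIn θ).subgroupOf S := mem_kerIn.mpr ⟨z.2, (th_coe θ z).trans hz⟩
          have := (Subgroup.characteristic_iff_map_eq.mp hZchar φ.symm).le ⟨z, hz', rfl⟩
          exact (th_coe θ _).symm.trans (mem_kerIn.mp this).2
        let θ₀ : S →* S' := θ.codRestrict S' hmor.1.1
        have hθ₀ : Function.Surjective θ₀ := fun z => by
          obtain ⟨s, hs⟩ := (hmor.2.1.symm ▸ z.2 : (z : Ω') ∈ θ.range)
          exact ⟨s, Subtype.ext hs⟩
        have hθ₀1 : ∀ z : S, θ₀ z = 1 ↔ θ z = 1 := fun z => Subtype.ext_iff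
        let f₀ := θ₀.liftOfSurjective hθ₀ ⟨θ₀.comp φ.toMonoidHom,
          fun z hz => (hθ₀1 _).mpr (hker z ((hθ₀1 z).mp hz))⟩
        let g₀ := θ₀.liftOfSurjective hθ₀ ⟨θ₀.comp φ.symm.toMonoidHom,
          fun z hz => (hθ₀1 _).mpr (hker' z ((hθ₀1 z).mp hz))⟩
        have hf₀ : ∀ z, f₀ (θ₀ z) = θ₀ (φ z) := fun z =>
          MonoidHom.liftOfRightInverse_comp_apply θ₀ _ _ _ z
        have hg₀ : ∀ z, g₀ (θ₀ z) = θ₀ (φ.symm z) := fun z =>
          MonoidHom.liftOfRightInverse_comp_apply θ₀ _ _ _ z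
        let ψ : S' ≃* S' := MonoidHom.toMulEquiv f₀ g₀
          (MonoidHom.ext fun z => by
            obtain ⟨s, rfl⟩ := hθ₀ z
            show g₀ (f₀ (θ₀ s)) = θ₀ s
            rw [hf₀, hg₀, φ.symm_apply_apply])
          (MonoidHom.ext fun z => by
            obtain ⟨s, rfl⟩ := hθ₀ z
            show f₀ (g₀ (θ₀ s)) = θ₀ s
            rw [hg₀, hf₀, φ.apply_symm_apply])
        obtain ⟨hyS, hy'⟩ := mem_preimageAlong.mp (hy : (y : Ω) ∈ Q)
        rw [Subgroup.coe_subtype, th_coe] at hy'
        obtain ⟨w, hw, hwy⟩ := (Subgroup.characteristic_iff_le_map.mp hQ'c ψ)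
          (Subgroup.mem_subgroupOf.mpr hy' : θ₀ y ∈ Q'.subgroupOf S')
        refine ⟨φ.symm y, mem_preimageAlong.mpr ⟨(φ.symm y).2, ?_⟩, φ.apply_symm_apply y⟩
        have h2 : ψ (θ₀ (φ.symm y)) = θ₀ y := (hf₀ _).trans (by rw [φ.apply_symm_apply])
        have h3 : w = θ₀ (φ.symm y) := ψ.injective (hwy.trans h2.symm)
        rw [Subgroup.coe_subtype, th_coe]
        rw [h3] at hw; exact hw
      have hQp := h Q hQS (fun he => hZ0 (le_bot_iff.mp (he ▸ kerIn_le_preimageAlong))) hQchar
      obtain ⟨Φ, hΦ⟩ := IsMorphism.exists_autHom hmor.1 hQS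
      haveI := finite_of_le hQS
      have hsurj := autHom_surjective hmor hQS kerIn_le_preimageAlong hΦ
      have himg := hQp.of_surjective Φ hsurj
      rwa [hQ, imageAlong_preimageAlong (hmor.2.1.symm ▸ hQ' : Q' ≤ θ.range)] at himg
    exact eq_inner_of_quotient hS hF hmor hZn (h _ hZS hZ0 hZchar) hS'p
      fun R g hg => hEinner ▸ hg

/-- A strengthened Frobenius normal p-complement criterion for fusion systems. Let F be a saturated fusion system over a finite p-group S such that p is odd or F is S₄-free (the symmetric group of degree 4 is not involved in any model of the normalizer system of a fully normalized F-centric subgroup). If Aut_F(Q) is a p-group for every nontrivial characteristic subgroup Q of S, then F is the inner fusion system of S. -/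
theorem result {Ω : Type*} [Group Ω] {S : Subgroup Ω} [Finite S] (p : ℕ) [Fact p.Prime] (hS : IsPGroup p S) (F : Cfsg.FusionSystem S) (hF : F.IsSaturated p) (hp : p ≠ 2 ∨ F.IsSectionFree p (Equiv.Perm (Fin 4))) (h : ∀ Q : Subgroup Ω, Q ≤ S → Q ≠ ⊥ → (Q.subgroupOf S).Characteristic → IsPGroup p (F.autGroup Q)) : ∀ P : Subgroup Ω, F.Hom P = (Cfsg.innerFusionSystem S).Hom P := by
  intro P
  rw [main p _ rfl hS F hF hp h]

end Cfsg.Agent.S5195
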