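import Cfsg.Statements.S5196
import Cfsg.Agent.Lib.Fusion.CenterControl

set_option autoImplicit false
universe u
open Cfsg

namespace Cfsg.Agent.S5196

open Subgroup Cfsg.Agent.Transfer
open scoped commutatorElement Pointwise IsMulCommutative


/-- Let p be an odd prime and W a positive characteristic p-functor: W assigns to every finite p-group Q (in a fixed universe) a subgroup W(Q), nontrivial when Q is, carried to W(R) by every isomorphism Q ≅ R; assume also Z(Q) ≤ W(Q) for every finite p-group Q. Suppose W satisfies the local condition: for every finite group G with Sylow p-subgroup P, O_p(G) ∩ Z(G) = O_p(G) ∩ Z(N_G(W(P))). Then W controls weak closure of elements in every saturated fusion system F over a finite p-group S: the centre of the normalizer fusion system of W(S) in F equals the centre of F. (For p = 2 no functor satisfies the local condition, so p is taken odd.) -/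
theorem result {p : ℕ} [Fact p.Prime] (hp : p ≠ 2) (W : ∀ (Q : Type u) [Group Q], Subgroup Q) (hW1 : ∀ (Q : Type u) [Group Q] [Finite Q], IsPGroup p Q → Nontrivial Q → W Q ≠ ⊥) (hW2 : ∀ (Q R : Type u) [Group Q] [Group R] [Finite Q], IsPGroup p Q → ∀ φ : Q ≃* R, (W Q).map φ.toMonoidHom = W R) (hWZ : ∀ (Q : Type u) [Group Q] [Finite Q], IsPGroup p Q → Subgroup.center Q ≤ W Q) (hC : ∀ (G : Type u) [Group G] [Finite G] (P : Sylow p G), Cfsg.pCore p G ⊓ Subgroup.center G = Cfsg.pCore p G ⊓ (Subgroup.center ↥(Subgroup.normalizer (((W ↥(P : Subgroup G)).map (P : Subgroup G).subtype : Subgroup G) : Set G))).map (Subgroup.normalizer (((W ↥(P : Subgroup G)).map (P : Subgroup G).subtype : Subgroup G) : Set G)).subtype) {Ω : Type u} [Group Ω] {S : Subgroup Ω} [Finite S] (hS : IsPGroup p S) (F : Cfsg.FusionSystem S) (hF : F.IsSaturated p) (N : Cfsg.FusionSystem (Cfsg.FusionSystem.normalizerIn S ((W ↥S).map S.subtype))) (hN : F.IsNormalizerSystem ((W ↥S).map S.subtype) N) : N.center = F.center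 := by
    have hn : S ≤ Subgroup.normalizer (((W ↥S).map S.subtype : Subgroup Ω) : Set Ω) := by
      intro s hs
      refine (Cfsg.Agent.Fusion.mem_normalizerIn_of_forall (S := S) (Subgroup.map_subtype_le _) hs
        fun z hz => ?_).2
      have h := Cfsg.Agent.Fusion.img_functorIn (F := F) W hW2 hS (f := Cfsg.Agent.Fusion.cj s)
        (T := S) (Cfsg.Agent.Fusion.mapTo_cj le_rfl hs)
      rw [Cfsg.Agent.Fusion.img_eq_self_of_forall (Cfsg.Agent.Fusion.mapTo_cj (F := F) le_rfl hs)
        fun y hy => S.mul_mem (S.mul_mem hs hy) (S.inv_mem hs)] at h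
      exact h.le (Cfsg.Agent.Fusion.mem_img_of_mem (f := Cfsg.Agent.Fusion.cj s) hz)
    refine le_antisymm (fun x hx => ?_)
      (Cfsg.Agent.Fusion.center_le_center_normalizerSystem (Subgroup.map_subtype_le _) hn hN)
    obtain ⟨hxS, hxc, hfix⟩ :=
      Cfsg.Agent.Fusion.mem_center_normalizerSystem (Subgroup.map_subtype_le _) hn hN hx
    have hxW : ∀ T : Subgroup Ω, T ≤ S → x ∈ T → x ∈ Cfsg.Agent.Fusion.functorIn W T :=
      fun T hT => Cfsg.Agent.Fusion.mem_functorIn_of_center W hWZ hS hT hxc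
    refine Cfsg.Agent.Fusion.mem_center_of_local hS hF hxS hxc (Cfsg.Agent.Fusion.functorIn W)
      (fun T _ => Cfsg.Agent.Fusion.functorIn_le W T) hxW
      (fun T f hf => Cfsg.Agent.Fusion.img_functorIn W hW2 hS hf) (hfix (hxW S le_rfl hxS)) ?_
    intro R hRn hRc E hE G _ ι hmod ha a
    obtain ⟨hfin, hreal, ⟨P, hP⟩, hcon⟩ := hmod
    have hTS : Cfsg.FusionSystem.normalizerIn S R ≤ S := Cfsg.Agent.Fusion.normalizerIn_le
    haveI := Cfsg.Agent.Fusion.finite_of_le hTS
    have hxT : x ∈ Cfsg.FusionSystem.normalizerIn S R :=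
      Cfsg.Agent.Fusion.centralizerIn_le_normalizerIn (Cfsg.Agent.Fusion.mem_centralizerIn.mpr
        ⟨hxS, fun y hy => mem_centralizer_iff.mp hxc y (hRn.1 hy)⟩)
    have hU := Cfsg.Agent.Fusion.imageAlong_functorIn W hW2 (hS.to_le hTS) hreal.1 hP
    set U := (W ↥(P : Subgroup G)).map (P : Subgroup G).subtype
    set y := Cfsg.Agent.Fusion.th ι x
    have hy : y ∈ Cfsg.pCore p G := by
      refine hcon (mem_centralizer_iff.mpr fun q hq => ?_)
      obtain ⟨w, hw, rfl⟩ := Cfsg.Agent.Fusion.exists_th_eq (Cfsg.Agent.Fusion.IsModel.pCore_le_range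
        (F := E) ⟨hfin, hreal, ⟨P, hP⟩, hcon⟩ hq)
      show _ * Cfsg.Agent.Fusion.th ι x = Cfsg.Agent.Fusion.th ι x * _
      rw [← Cfsg.Agent.Fusion.th_mul ι hw hxT, ← Cfsg.Agent.Fusion.th_mul ι hxT hw,
        mem_centralizer_iff.mp hxc w (hTS hw)]
    have hyU : y ∈ Subgroup.normalizer (U : Set G) := Subgroup.le_normalizer
      (hU ▸ Cfsg.Agent.Fusion.th_mem_imageAlong (Cfsg.Agent.Fusion.functorIn_le W _) (hxW _ hTS hxT))
    have h := (hC G P).ge ⟨hy, ⟨y, hyU⟩, mem_center_iff.mpr fun n => Subtype.ext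
      (ha (n : G) (by rw [hU]; exact n.2)), rfl⟩
    exact mem_center_iff.mp h.2 a

end Cfsg.Agent.S5196
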