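import Cfsg.Statements.S5197
import Cfsg.Agent.Lib.Fusion.CenterControl
import Cfsg.Agent.Lib.Fusion.CoreDecomp

set_option autoImplicit false
universe u
open Cfsg

namespace Cfsg.Agent.S5197

open Cfsg.Agent.Fusion
open Cfsg.FusionSystem (centralizerIn normalizerIn imageAlong preimageAlong)
open scoped commutatorElement

universe v

variable {p : ℕ} [Fact p.Prime] (W : ∀ (Q : Type v) [Group Q], Subgroup Q)

theorem normalizerIn_functorIn_le
    (hW2 : ∀ (Q R : Type v) [Group Q] [Group R] [Finite Q], IsPGroup p Q →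
      ∀ φ : Q ≃* R, (W Q).map φ.toMonoidHom = W R)
    {Ω : Type v} [Group Ω] {S : Subgroup Ω} (F : Cfsg.FusionSystem S) [Finite S] (hS : IsPGroup p S)
    {T : Subgroup Ω} (hT : T ≤ S) :
    normalizerIn S T ≤ normalizerIn S (functorIn W T) := by
  intro y hy
  have := finite_of_le hT
  have := finite_of_le ((functorIn_le W T).trans hT)
  refine mem_normalizerIn_of_forall ((functorIn_le W T).trans hT) hy.1 fun z hz => ?_
  have hm := mapTo_cj (F := F) hT hy.1
  have h := img_functorIn W hW2 hS hm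
  rw [img_eq_self_of_forall hm fun x hx => conj_mem_of_mem_normalizerIn hy hx] at h
  exact h.le (mem_img_of_mem (f := cj y) hz)

/-- Local transfer control gives transfer control. -/
theorem main
    (hW1 : ∀ (Q : Type v) [Group Q] [Finite Q], IsPGroup p Q → Nontrivial Q → W Q ≠ ⊥)
    (hW2 : ∀ (Q R : Type v) [Group Q] [Group R] [Finite Q], IsPGroup p Q →
      ∀ φ : Q ≃* R, (W Q).map φ.toMonoidHom = W R)
    (hT : ∀ (G : Type v) [Group G] [Finite G] (P : Sylow p G),
      Subgroup.centralizer ((Cfsg.pCore p G : Subgroup G) : Set G) ≤ Cfsg.pCore p G →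
      Cfsg.pCore p G ⊓ commutator G = Cfsg.pCore p G ⊓
        (commutator ↥(Subgroup.normalizer (((W ↥(P : Subgroup G)).map (P : Subgroup G).subtype :
          Subgroup G) : Set G))).map (Subgroup.normalizer (((W ↥(P : Subgroup G)).map
          (P : Subgroup G).subtype : Subgroup G) : Set G)).subtype) :
    ∀ (n m : ℕ) {Ω : Type v} [Group Ω] {S : Subgroup Ω} [Finite S] (F : Cfsg.FusionSystem S),
      Nat.card S = n → mapsCard F = m → IsPGroup p S → F.IsSaturated p →
      ∀ (P : Subgroup Ω) (f : Ω → Ω), MapTo F P f → ∀ x ∈ P,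
        x⁻¹ * f x ∈ (nSys F (functorIn_le W S)).focalSubgroup := by
  intro n
  induction n using Nat.strong_induction_on with
  | _ n ihn =>
  intro m
  induction m using Nat.strong_induction_on with
  | _ m ihm =>
  intro Ω _ S _ F hn hm hS hF
  set W₀ := functorIn W S with hW₀
  have hW₀S : W₀ ≤ S := functorIn_le W S
  set N := nSys F hW₀S
  have hN : F.IsNormalizerSystem W₀ N := isNormalizerSystem_nSys F hW₀S
  set A := N.focalSubgroup
  have hNS : normalizerIn S W₀ = S := le_antisymm normalizerIn_le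
    ((le_normalizerIn le_rfl).trans (normalizerIn_functorIn_le W hW2 F hS le_rfl))
  have hWle : ∀ T : Subgroup Ω, T ≤ S → functorIn W T ≤ T := fun T _ => functorIn_le W T
  have htop : ∀ (P : Subgroup Ω) (f g : Ω → Ω), MapTo F P f → MapTo F (P ⊔ W₀) g →
      (∀ x ∈ P, g x = f x) → img g W₀ = W₀ → ∀ x ∈ P, x⁻¹ * f x ∈ A := fun P f g hf hg hgf hgW x hx =>
    mem_focal ((mapTo_nSys_iff hN).mpr ⟨hf.le.trans hNS.ge, fun z hz => hNS.ge (hf.mem hz),
      g, hg, hgf, hgW⟩) hx
  let M : MapProp F :=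
    { C := fun P f => ∀ x ∈ P, x⁻¹ * f x ∈ A
      congr' := fun _ hC hgf x hx => by rw [hgf x hx]; exact hC x hx
      conj := fun {P g} hP hg x hx => mem_focal (mapTo_cj (hP.trans hNS.ge) (hNS.ge hg)) hx
      comp := fun {P Q f g} _ _ hfQ h₁ h₂ x hx => by
        have := A.mul_mem (h₁ x hx) (h₂ _ (hfQ x hx))
        rwa [mul_assoc, mul_inv_cancel_left] at this
      inv := fun {P f g} hf _ hgf h₁ y hy => by
        obtain ⟨x, hx, rfl⟩ := (hf.mem_img_iff le_rfl).mp hy
        rw [hgf x hx]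
        have := A.inv_mem (h₁ x hx)
        rwa [mul_inv_rev, inv_inv] at this
      restrict := fun _ hC hPQ x hx => hC x (hPQ hx) }
  -- the induction hypothesis for a smaller subsystem
  have hsub : ∀ (T : Subgroup Ω) (E : Cfsg.FusionSystem T), T ≤ S → E.IsSaturated p →
      (∀ (P : Subgroup Ω) (f : Ω → Ω), MapTo E P f → MapTo F P f) →
      (T = S → ∃ (P : Subgroup Ω) (f : Ω → Ω), MapTo F P f ∧ ¬ MapTo E P f) →
      (∀ (P : Subgroup Ω) (f g : Ω → Ω), P ≤ T → (∀ x ∈ P, f x ∈ T) →
        MapTo E (P ⊔ functorIn W T) g → (∀ x ∈ P, g x = f x) →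
        img g (functorIn W T) = functorIn W T → ∀ x ∈ P, x⁻¹ * f x ∈ A) →
      ∀ (P : Subgroup Ω) (f : Ω → Ω), MapTo E P f → ∀ x ∈ P, x⁻¹ * f x ∈ A := by
    intro T E hTS hE hle hne hWT P f hf x hx
    haveI := finite_of_le hTS
    have hAE : (nSys E (functorIn_le W T)).focalSubgroup ≤ A :=
      focal_le_iff.mpr fun R g hg y hy => by
        obtain ⟨hR, hgT, e, he, heg, heW⟩ :=
          (mapTo_nSys_iff (isNormalizerSystem_nSys E (functorIn_le W T))).mp hg
        exact hWT R g e (hR.trans normalizerIn_le) (fun z hz => normalizerIn_le (hgT z hz)) he heg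
          heW y hy
    rcases card_lt_or_mapsCard_lt hTS E hle hne with h | ⟨h1, h2⟩
    · exact hAE (ihn _ (hn ▸ h) _ E rfl rfl (hS.to_le hTS) hE P f hf x hx)
    · exact hAE (ihm _ (hm ▸ h2) E (h1.trans hn) rfl (hS.to_le hTS) hE P f hf x hx)
  -- subgroups normal in `S` but not in `F`
  have hnormal : ∀ U : Subgroup Ω, U ≤ S → S ≤ Subgroup.normalizer (U : Set Ω) → ¬ F.IsNormal U →
      ∀ (P : Subgroup Ω) (f g : Ω → Ω), MapTo F P f → MapTo F (P ⊔ U) g →
        (∀ x ∈ P, g x = f x) → img g U = U → ∀ x ∈ P, x⁻¹ * f x ∈ A := by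
    intro U hUS hUn hUF
    have hNU : normalizerIn S U = S := inf_eq_left.mpr hUn
    have hUf : F.IsFullyNormalized U := isFullyNormalized_of_normal hUS hUn
    have hE := isNormalizerSystem_nSys F hUS
    intro P f g hf hg hgf hgU
    refine hsub _ (nSys F hUS) normalizerIn_le (isSaturated_normalizerSystem hS hF hUf hE)
      (fun R e he => by
        obtain ⟨-, -, e', he', hee, -⟩ := (mapTo_nSys_iff hE).mp he
        exact (he'.restrict le_sup_left).congr' fun z hz => (hee z hz).symm)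
      (fun _ => ?_) (fun R e e' hR heT he' hee heW => ?_) P f
      ((mapTo_nSys_iff hE).mpr ⟨hf.le.trans hNU.ge, fun z hz => hNU.ge (hf.mem hz), g, hg, hgf, hgU⟩)
    · by_contra hcon
      push Not at hcon
      refine hUF (isNormal_iff.mpr ⟨hUS, fun R e he => ?_⟩)
      obtain ⟨-, -, e', he', hee, heU⟩ := (mapTo_nSys_iff hE).mp (hcon R e he)
      exact ⟨e', he', hee, heU⟩
    · obtain ⟨-, -, e'', he'', hee', -⟩ := (mapTo_nSys_iff hE).mp he'
      have hF' : MapTo F (R ⊔ functorIn W (normalizerIn S U)) e' :=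
        (he''.restrict le_sup_left).congr' fun z hz => (hee' z hz).symm
      rw [hNU] at hF' heW
      exact htop R e e' ((hF'.restrict le_sup_left).congr' fun z hz => (hee z hz).symm) hF' hee heW
  intro P f hf
  by_cases hS0 : S = ⊥
  · intro x hx
    have hx1 : x = 1 := Subgroup.mem_bot.mp (hS0 ▸ hf.le hx)
    rw [hx1, hf.map_one, mul_one, inv_one]
    exact A.one_mem
  have hW0 : ∀ T : Subgroup Ω, T ≤ S → T ≠ ⊥ → functorIn W T ≠ ⊥ := fun T hTS hT0 h => by
    haveI := finite_of_le hTS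
    exact hW1 ↥T (hS.to_le hTS) ((Subgroup.nontrivial_iff_ne_bot T).mpr hT0)
      ((Subgroup.map_eq_bot_iff_of_injective _ T.subtype_injective).mp h)
  set Q := F.core with hQdef
  have hQ : F.IsNormal Q := isNormal_core F
  by_cases hQ0 : Q = ⊥
  · -- no normal subgroup: local control
    refine M.of_local hS hF hS0 (functorIn W) hWle hW0
      (fun T hT => normalizerIn_functorIn_le W hW2 F hS hT)
      (fun P f g hf hg hgf hgW => htop P f g hf hg hgf hgW)
      (fun U hU hU0 hyp P f hf => ?_) hf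
    have hE := isNormalizerSystem_nSys F hU.1
    refine hsub _ (nSys F hU.1) normalizerIn_le (isSaturated_normalizerSystem hS hF hU hE)
      (fun R e he => by
        obtain ⟨-, -, e', he', hee, -⟩ := (mapTo_nSys_iff hE).mp he
        exact (he'.restrict le_sup_left).congr' fun z hz => (hee z hz).symm)
      (fun _ => ?_) (fun R e e' hR heT he' hee heW => ?_) P f hf
    · by_contra hcon
      push Not at hcon
      have hn' : F.IsNormal U := isNormal_iff.mpr ⟨hU.1, fun R e he => by
        obtain ⟨-, -, e', he', hee, heU⟩ := (mapTo_nSys_iff hE).mp (hcon R e he)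
        exact ⟨e', he', hee, heU⟩⟩
      exact hU0 (le_bot_iff.mp (hQ0 ▸ le_core hn'))
    · obtain ⟨-, -, e'', he'', hee', -⟩ := (mapTo_nSys_iff hE).mp he'
      exact hyp R e e' hR heT
        ((he''.restrict le_sup_left).congr' fun z hz => (hee' z hz).symm) hee heW
  by_cases hdec : ¬ IsPGroup p (F.autGroup Q) ∧ ¬ centralizerIn S Q ≤ Q
  · -- decomposition
    obtain ⟨hQp, hQc⟩ := hdec
    have hUS : Q ⊔ centralizerIn S Q ≤ S := sup_le hQ.1 centralizerIn_le
    have hUn : S ≤ Subgroup.normalizer ((Q ⊔ centralizerIn S Q : Subgroup Ω) : Set Ω) := by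
      intro y hy
      haveI := finite_of_le hUS
      have hm := mapTo_cj (F := F) hUS hy
      refine (mem_normalizerIn_of_forall (S := S) hUS hy fun z hz => ?_).2
      have h1 : img (cj y) (Q ⊔ centralizerIn S Q) ≤ Q ⊔ centralizerIn S Q := by
        rw [hm.img_sup le_sup_left le_sup_right,
          StronglyClosed.img_eq (IsNormal.stronglyClosed hQ) hm le_sup_left]
        refine sup_le le_sup_left (le_trans (img_le_of_forall fun c hc => ?_) le_sup_right)
        have := hm.map_mem_centralizerIn le_sup_left (Subgroup.mem_sup_right hc) hc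
        rwa [StronglyClosed.img_eq (IsNormal.stronglyClosed hQ) hm le_sup_left] at this
      exact h1 (mem_img_of_mem (f := cj y) hz)
    have hUF : ¬ F.IsNormal (Q ⊔ centralizerIn S Q) := fun h =>
      hQc (le_sup_right.trans (le_core h))
    refine M.of_decomp hS hF hQ (fun P f hf hfU => ?_) (fun P f hQP hf hfix => ?_) hf
    · exact hnormal _ hUS hUn hUF P f f (hf.restrict le_sup_left) hf (fun _ _ => rfl) hfU
    · obtain ⟨E, hEsat, hEmap⟩ := exists_innerOnSys hS hF hQ
      refine hsub S E le_rfl hEsat (fun R e he => ?_) (fun _ => ?_)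
        (fun R e e' hR heS he' hee heW => ?_) P f ?_
      · obtain ⟨-, -, e', he', hee, -⟩ := (hEmap R e).mp he
        exact (he'.restrict le_sup_left).congr' fun z hz => (hee z hz).symm
      · by_contra hcon
        push Not at hcon
        refine hQp ((isPGroup_autInducedBy hS Q).to_le fun α hα => ?_)
        obtain ⟨-, -, g, -, hgα, k, hk, hgk⟩ :=
          (hEmap Q _).mp (hcon Q _ (mapTo_of_mem_autGroup hQ.1 hα))
        rwa [show α = k from autFun_ext fun x hx => (hgα x hx).symm.trans (hgk x hx)]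
      · obtain ⟨-, -, e'', he'', hee', -⟩ := (hEmap _ _).mp he'
        have hF' : MapTo F (R ⊔ W₀) e' :=
          (he''.restrict le_sup_left).congr' fun z hz => (hee' z hz).symm
        exact htop R e e' ((hF'.restrict le_sup_left).congr' fun z hz => (hee z hz).symm) hF' hee heW
      · exact (hEmap P f).mpr ⟨hf.le, fun z hz => hf.mem hz, f, by rwa [sup_eq_left.mpr hQP],
          fun _ _ => rfl, 1, Subgroup.one_mem _, fun x hx => by rw [hfix x hx, autFun_one hx]⟩
  -- quotient
  have hfocS : F.focalSubgroup ≤ S := focal_le_iff.mpr fun P f hf x hx =>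
    S.mul_mem (S.inv_mem (hf.le hx)) (hf.mem hx)
  have hSS : ⁅S, S⁆ ≤ A := by
    rw [Subgroup.commutator_le]
    intro a ha b hb
    have := mem_focal (F := N) (mapTo_cj le_rfl (hNS.ge hb)) (hNS.ge (S.inv_mem ha))
    convert this using 1
    simp [commutatorElement_def, mul_assoc]
  have hQA : F.focalSubgroup ⊓ Q ≤ A := by
    by_cases hQp : IsPGroup p (F.autGroup Q)
    · exact (focal_inf_le_of_isPGroup p _ F rfl hS hF Q hQ hQp).trans hSS
    have hQc : centralizerIn S Q ≤ Q := by
      by_contra hc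
      exact hdec ⟨hQp, hc⟩
    have hQcen : F.IsCentric Q := ⟨hQ.1, fun T hT => by
      obtain ⟨e, he, rfl⟩ := isConj_iff.mp hT
      rw [StronglyClosed.img_eq (IsNormal.stronglyClosed hQ) he le_rfl]
      exact hQc⟩
    obtain ⟨G, _, ι, hmod⟩ := exists_model hS ⟨hF, Q, hQ, hQcen⟩
    haveI := hmod.1
    obtain ⟨T, hTι⟩ := hmod.2.2.1
    have hQO : ∀ z ∈ Q, th ι z ∈ Cfsg.pCore p G := fun z hz =>
      (mem_preimageAlong.mp (IsModel.le_core_preimage hmod hQ hz)).2
    have hfG : F.focalSubgroup ≤ preimageAlong ι (commutator G) := by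
      refine focal_le_iff.mpr fun P f hf x hx => ?_
      obtain ⟨a, ha⟩ := IsRealizedBy.exists_conj hmod.2.1 hf
      refine mem_preimageAlong.mpr ⟨S.mul_mem (S.inv_mem (hf.le hx)) (hf.mem hx), ?_⟩
      rw [th_mul ι (S.inv_mem (hf.le hx)) (hf.mem hx), th_inv ι (hf.le hx), ha x hx]
      have := Subgroup.commutator_mem_commutator (Subgroup.mem_top (th ι x)⁻¹)
        (Subgroup.mem_top a)
      rw [← commutator_def] at this
      convert this using 1
      simp [commutatorElement_def, mul_assoc]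
    have hU := imageAlong_functorIn W hW2 hS hmod.2.1.1 hTι
    rw [← hW₀] at hU
    have hT' := hT G T hmod.2.2.2
    rw [← hU] at hT'
    set NG := Subgroup.normalizer ((imageAlong ι W₀ : Subgroup G) : Set G)
    have hTN : (T : Subgroup G) ≤ NG := by
      intro t ht
      rw [hTι] at ht
      obtain ⟨x, hx, rfl⟩ := exists_th_eq ht
      refine mem_normalizer_of_forall fun y hy => ?_
      obtain ⟨w, hw, rfl⟩ := (mem_imageAlong hW₀S).mp hy
      rw [← th_conj ι hx (hW₀S hw)]
      exact th_mem_imageAlong hW₀S ((Subgroup.mem_normalizer_iff.mp (hNS.ge hx).2 w).mp hw)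
    rintro z ⟨hzf, hzQ⟩
    obtain ⟨hzS, hzc⟩ := mem_preimageAlong.mp (hfG hzf)
    obtain ⟨-, w, hw, hwz⟩ := hT'.le ⟨hQO z hzQ, hzc⟩
    have hwT : w ∈ ((T.subtype hTN : Sylow p NG) : Subgroup NG) := by
      rw [Sylow.coe_subtype, Subgroup.mem_subgroupOf, hTι]
      rw [Subgroup.coe_subtype] at hwz
      rw [hwz]
      exact th_mem_range ι z
    have hwf := (Subgroup.commutator_inf_eq_focalSubgroup (T.subtype hTN)).le ⟨hw, hwT⟩
    have hle : ((T.subtype hTN : Sylow p NG) : Subgroup NG).focalSubgroup.map NG.subtype ≤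
        imageAlong ι A := by
      rw [Subgroup.focalSubgroup_def, MonoidHom.map_closure, Subgroup.closure_le]
      rintro _ ⟨_, ⟨hg, x, hx, u, rfl⟩, rfl⟩
      have hxT : (x : G) ∈ ι.range := hTι ▸ hx
      have hgT : ((⁅x, u⁆ : NG) : G) ∈ ι.range := hTι ▸ hg
      obtain ⟨x₀, hx₀, hx₀e⟩ := exists_th_eq (ι.range.inv_mem hxT)
      have hyS : (u : G) * th ι x₀ * (u : G)⁻¹ ∈ ι.range := by
        have : (u : G) * th ι x₀ * (u : G)⁻¹ = (x : G)⁻¹ * ((⁅x, u⁆ : NG) : G) := by
          rw [hx₀e]; simp [commutatorElement_def, mul_assoc]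
        rw [this]
        exact Subgroup.mul_mem _ (ι.range.inv_mem hxT) hgT
      have hzx : Subgroup.zpowers x₀ ≤ S := Subgroup.zpowers_le.mpr hx₀
      have hD : Subgroup.zpowers x₀ ⊔ W₀ ≤
          preimageAlong ι (ι.range.comap (MulAut.conj (u : G)).toMonoidHom) := by
        refine sup_le (Subgroup.zpowers_le.mpr (mem_preimageAlong.mpr ⟨hx₀, hyS⟩))
          fun y hy => mem_preimageAlong.mpr ⟨hW₀S hy, ?_⟩
        exact imageAlong_le_range ((Subgroup.mem_normalizer_iff.mp u.2 _).mp
          (th_mem_imageAlong hW₀S hy))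
      obtain ⟨g, hg', hgu⟩ := IsRealizedBy.exists_mapTo hmod.2.1 (sup_le hzx hW₀S) (u : G)
        fun y hy => (mem_preimageAlong.mp (hD hy)).2
      have hgW : img g W₀ = W₀ := by
        haveI := finite_of_le hW₀S
        refine img_eq_self_of_forall (hg'.restrict le_sup_right) fun y hy => ?_
        obtain ⟨v, hv, hve⟩ := (mem_imageAlong hW₀S).mp
          ((Subgroup.mem_normalizer_iff.mp u.2 _).mp (th_mem_imageAlong (θ := ι) hW₀S hy))
        rw [th_inj hmod.2.1.1 (hg'.mem (Subgroup.mem_sup_right hy)) (hW₀S hv)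
          ((hgu y (Subgroup.mem_sup_right hy)).trans hve.symm)]
        exact hv
      refine (mem_imageAlong (focal_le_iff.mpr fun R e he y hy => S.mul_mem
        (S.inv_mem (normalizerIn_le (he.le hy))) (normalizerIn_le (he.mem hy)))).mpr
        ⟨x₀⁻¹ * g x₀, htop _ g g (hg'.restrict le_sup_left) hg' (fun _ _ => rfl) hgW x₀
          (Subgroup.mem_zpowers x₀), ?_⟩
      have hm := Subgroup.mem_sup_left (T := W₀) (Subgroup.mem_zpowers x₀)
      rw [th_mul ι (S.inv_mem hx₀) (hg'.mem hm), th_inv ι hx₀, hgu x₀ hm, hx₀e]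
      simp [commutatorElement_def, mul_assoc]
    obtain ⟨a, ha, haz⟩ := (mem_imageAlong (focal_le_iff.mpr fun R e he y hy => S.mul_mem
        (S.inv_mem (normalizerIn_le (he.le hy))) (normalizerIn_le (he.mem hy)))).mp
      (hle ⟨w, hwf, hwz⟩)
    have haS : a ∈ S := (focal_le_iff.mpr fun R e he y hy => S.mul_mem
      (S.inv_mem (normalizerIn_le (he.le hy))) (normalizerIn_le (he.mem hy))) ha
    exact th_inj hmod.2.1.1 haS hzS haz ▸ ha
  intro x hx
  obtain ⟨Ω', _, S', θ, E, hmor, hk, hEsat, hS'fin, hS'p, hlt⟩ :=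
    exists_quotient hS hF (IsNormal.stronglyClosed hQ)
  set W' := functorIn W S'
  have hW'r : W' ≤ θ.range := hmor.2.1.symm ▸ functorIn_le W S'
  set V := preimageAlong θ W'
  have hVS : V ≤ S := preimageAlong_le
  have hW'n : S' ≤ Subgroup.normalizer (W' : Set Ω') :=
    ((le_normalizerIn le_rfl).trans (normalizerIn_functorIn_le W hW2 E hS'p le_rfl)).trans
      inf_le_right
  by_cases hQS : Q = S
  · -- `S` is normal
    obtain ⟨g, hg, hgf, hgQ⟩ := (isNormal_iff.mp hQ).2 P f hf
    rw [hQS] at hg hgQ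
    have hgS : MapTo F S g := hg.restrict le_sup_right
    have hgW : img g W₀ = W₀ := by
      have := img_functorIn W hW2 hS hgS
      rwa [hgQ] at this
    exact htop P f g hf (hg.restrict (sup_le_sup_left hW₀S P)) hgf hgW x hx
  have hVn : S ≤ Subgroup.normalizer (V : Set Ω) := by
    have h1 := preimageAlong_normalizerIn hmor (functorIn_le W S')
    intro y hy
    have : y ∈ preimageAlong θ (normalizerIn S' W') := mem_preimageAlong.mpr
      ⟨hy, hmor.2.1 ▸ th_mem_range θ y, hW'n (hmor.2.1 ▸ th_mem_range θ y)⟩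
    exact (h1.le this).2
  have hVF : ¬ F.IsNormal V := by
    intro h
    have hVQ : V ≤ kerIn θ := hk.symm ▸ le_core h
    have hW'0 : W' = ⊥ := le_bot_iff.mp fun y hy => by
      obtain ⟨v, hv, rfl⟩ := exists_preimage hW'r hy
      exact Subgroup.mem_bot.mpr (mem_kerIn.mp (hVQ hv)).2
    have hS'0 : S' = ⊥ := by
      by_contra hne
      exact hW1 ↥S' hS'p ((Subgroup.nontrivial_iff_ne_bot S').mpr hne)
        ((Subgroup.map_eq_bot_iff_of_injective _ S'.subtype_injective).mp hW'0)
    refine hQS (le_antisymm hQ.1 fun y hy => hk.le (mem_kerIn.mpr ⟨hy, ?_⟩))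
    exact Subgroup.mem_bot.mp (hS'0 ▸ (hmor.2.1 ▸ th_mem_range θ y : th θ y ∈ S'))
  have hAS : A ≤ S := focal_le_iff.mpr fun R e he y hy => S.mul_mem
    (S.inv_mem (normalizerIn_le (he.le hy))) (normalizerIn_le (he.mem hy))
  have hEA : (nSys E (functorIn_le W S')).focalSubgroup ≤ imageAlong θ A := by
    refine focal_le_iff.mpr fun R' e' he' y hy => ?_
    obtain ⟨-, -, g', hg', hge, hgW⟩ :=
      (mapTo_nSys_iff (isNormalizerSystem_nSys E (functorIn_le W S'))).mp he'
    obtain ⟨hle, g, hg, hgg⟩ := IsSurjectiveMorphism.exists_lift hmor hg'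
    have hR'r : R' ≤ θ.range := le_sup_left.trans hle
    have hVle : V ≤ preimageAlong θ (R' ⊔ W') := fun z hz => mem_preimageAlong.mpr
      ⟨(mem_preimageAlong.mp hz).1, Subgroup.mem_sup_right (mem_preimageAlong.mp hz).2⟩
    haveI := finite_of_le hVS
    have hgV : img g V = V := img_eq_self_of_forall (hg.restrict hVle) fun z hz => by
      refine mem_preimageAlong.mpr ⟨hg.mem (hVle hz), ?_⟩
      rw [← hgg z (hVle hz)]
      exact hgW.le (mem_img_of_mem (mem_preimageAlong.mp hz).2)
    obtain ⟨z, hz, rfl⟩ := exists_preimage hR'r hy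
    have hzR : z ∈ preimageAlong θ (R' ⊔ W') := mem_preimageAlong.mpr
      ⟨(mem_preimageAlong.mp hz).1, Subgroup.mem_sup_left hy⟩
    have h1 := hnormal V hVS hVn hVF _ g g hg (by rwa [sup_eq_left.mpr hVle])
      (fun _ _ => rfl) hgV z hzR
    refine (mem_imageAlong hAS).mpr ⟨z⁻¹ * g z, h1, ?_⟩
    rw [th_mul θ (S.inv_mem (hg.le hzR)) (hg.mem hzR), th_inv θ (hg.le hzR), ← hgg z hzR,
      hge _ hy]
  obtain ⟨f', hf', hff⟩ := IsMorphism.exists_map hmor.1 hf
  have hxS := hf.le hx
  have hfxS := hf.mem hx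
  have h1 := hEA (ihn _ (hn ▸ hlt (hk ▸ hQ0)) _ E rfl rfl hS'p hEsat _ f' hf' _
    (th_mem_imageAlong hf.le hx))
  rw [hff x hx, ← th_inv θ hxS, ← th_mul θ (S.inv_mem hxS) hfxS] at h1
  obtain ⟨a, ha, hae⟩ := (mem_imageAlong hAS).mp h1
  have hzQ : a⁻¹ * (x⁻¹ * f x) ∈ Q :=
    hk.le ((th_eq_iff (hAS ha) (S.mul_mem (S.inv_mem hxS) hfxS)).mp hae)
  have hAF : A ≤ F.focalSubgroup := focal_le_iff.mpr fun R e he y hy => by
    obtain ⟨-, -, e', he', hee, -⟩ := (mapTo_nSys_iff hN).mp he
    exact mem_focal ((he'.restrict le_sup_left).congr' fun z hz => (hee z hz).symm) hy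
  have := A.mul_mem ha (hQA ⟨Subgroup.mul_mem _ (Subgroup.inv_mem _ (hAF ha)) (mem_focal hf hx), hzQ⟩)
  rwa [mul_inv_cancel_left] at this


/-- Let p be a prime and W a positive characteristic p-functor: W assigns to every finite p-group Q (in a fixed universe) a subgroup W(Q), nontrivial when Q is, carried to W(R) by every isomorphism Q ≅ R. Suppose W satisfies the local condition: for every finite group G with Sylow p-subgroup P such that C_G(O_p(G)) ≤ O_p(G), one has O_p(G) ∩ [G, G] = O_p(G) ∩ [N, N] for N = N_G(W(P)). Then W controls transfer in every saturated fusion system F over a finite p-group S: the focal subgroup of F equals the focal subgroup of the normalizer fusion system of W(S) in F. -/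
theorem result {p : ℕ} [Fact p.Prime] (W : ∀ (Q : Type u) [Group Q], Subgroup Q) (hW1 : ∀ (Q : Type u) [Group Q] [Finite Q], IsPGroup p Q → Nontrivial Q → W Q ≠ ⊥) (hW2 : ∀ (Q R : Type u) [Group Q] [Group R] [Finite Q], IsPGroup p Q → ∀ φ : Q ≃* R, (W Q).map φ.toMonoidHom = W R) (hT : ∀ (G : Type u) [Group G] [Finite G] (P : Sylow p G), Subgroup.centralizer ((Cfsg.pCore p G : Subgroup G) : Set G) ≤ Cfsg.pCore p G → Cfsg.pCore p G ⊓ commutator G = Cfsg.pCore p G ⊓ (commutator ↥(Subgroup.normalizer (((W ↥(P : Subgroup G)).map (P : Subgroup G).subtype : Subgroup G) : Set G))).map (Subgroup.normalizer (((W ↥(P : Subgroup G)).map (P : Subgroup G).subtype : Subgroup G) : Set G)).subtype) {Ω : Type u} [Group Ω] {S : Subgroup Ω} [Finite S] (hS : IsPGroup p S) (F : Cfsg.FusionSystem S) (hF : F.IsSaturated p) (N : Cfsg.FusionSystem (Cfsg.FusionSystem.normalizerIn S ((W ↥S).map S.subtype))) (hN : F.IsNormalizerSystem ((W ↥S).map S.subtype) N) : N.focalSubgroup = F.focalSubgroup := by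
  have hn := Cfsg.Agent.Fusion.isNormalizerSystem_nSys F (Cfsg.Agent.Fusion.functorIn_le W S)
  refine le_antisymm ?_ ?_
  · refine Cfsg.Agent.Fusion.focal_le_iff.mpr fun P f hf x hx => ?_
    obtain ⟨-, -, g, hg, hgf, -⟩ := (Cfsg.Agent.Fusion.mapTo_nSys_iff hN).mp hf
    exact Cfsg.Agent.Fusion.mem_focal
      ((hg.restrict le_sup_left).congr' fun z hz => (hgf z hz).symm) hx
  · refine Cfsg.Agent.Fusion.focal_le_iff.mpr fun P f hf x hx => ?_
    have h := main W hW1 hW2 hT _ _ F rfl rfl hS hF P f hf x hx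
    have hle : (Cfsg.Agent.Fusion.nSys F (Cfsg.Agent.Fusion.functorIn_le W S)).focalSubgroup ≤
        N.focalSubgroup := Cfsg.Agent.Fusion.focal_le_iff.mpr fun R e he y hy =>
      Cfsg.Agent.Fusion.mem_focal ((Cfsg.Agent.Fusion.mapTo_nSys_iff hN).mpr
        ((Cfsg.Agent.Fusion.mapTo_nSys_iff hn).mp he)) hy
    exact hle h

end Cfsg.Agent.S5197
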