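import Cfsg.Statements.S5198
import Cfsg.Agent.Lib.Fusion.Hyperfocal
import Cfsg.Agent.Lib.Fusion.Puig

set_option autoImplicit false
open Cfsg

namespace Cfsg.Agent.S5198

/-- Let F be a saturated fusion system over a finite p-group S and T a subgroup of S strongly closed in F (so T is normal in S). Then every element x of the hyperfocal subgroup of F acts on T by conjugation as an element of O^p(Aut_F(T))·Inn(T): there is an automorphism of T in the subgroup generated by the elements of Aut_F(T) of order prime to p together with the inner automorphisms of T that agrees with conjugation by x. -/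
theorem result {Ω : Type*} [Group Ω] {S : Subgroup Ω} [Finite S] (p : ℕ) [Fact p.Prime] (hS : IsPGroup p S) (F : Cfsg.FusionSystem S) (hF : F.IsSaturated p) (T : Subgroup Ω) (hT : F.StronglyClosed T) : ∀ x ∈ F.hyperfocalSubgroup p, ∃ α ∈ ((Cfsg.pResidual p ↥(F.autGroup T)).map (F.autGroup T).subtype ⊔ Cfsg.Inn ↥T : Subgroup (MulAut ↥T)), ∀ t : ↥T, ((α t : ↥T) : Ω) = x * (t : Ω) * x⁻¹ := by
  set L : Subgroup (MulAut T) :=
    (Cfsg.pResidual p ↥(F.autGroup T)).map (F.autGroup T).subtype ⊔ Cfsg.Inn ↥T with hL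
  let H : Subgroup Ω :=
    { carrier := {x | ∃ α ∈ L, ∀ t : T, ((α t : T) : Ω) = x * t * x⁻¹}
      one_mem' := ⟨1, L.one_mem, fun t => by simp⟩
      mul_mem' := by
        rintro a b ⟨α, hα, ha⟩ ⟨β, hβ, hb⟩
        refine ⟨α * β, L.mul_mem hα hβ, fun t => ?_⟩
        rw [MulAut.mul_apply, ha, hb]
        group
      inv_mem' := by
        rintro a ⟨α, hα, ha⟩
        refine ⟨α⁻¹, L.inv_mem hα, fun t => ?_⟩
        have := ha (α⁻¹ t)
        rw [MulAut.apply_inv_self] at this
        rw [this]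
        group }
  suffices h : F.hyperfocalSubgroup p ≤ H from fun x hx => h hx
  refine Cfsg.Agent.Fusion.hyperfocal_le_iff.mpr fun P hP => ?_
  refine Cfsg.Agent.Fusion.oP_induction (C := fun α => ∀ x ∈ P,
    x⁻¹ * Cfsg.Agent.Fusion.autFun α x ∈ H) ?_ ?_ ?_ ?_
  · intro x hx
    rw [Cfsg.Agent.Fusion.autFun_one hx, inv_mul_cancel]
    exact H.one_mem
  · intro a b _ _ ha hb x hx
    have := H.mul_mem (hb x hx) (ha _ (Cfsg.Agent.Fusion.autFun_mem b hx))
    rw [Cfsg.Agent.Fusion.autFun_mul _ _ hx]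
    convert this using 1
    group
  · intro a _ ha x hx
    have := H.inv_mem (ha _ (Cfsg.Agent.Fusion.autFun_mem a⁻¹ hx))
    rw [Cfsg.Agent.Fusion.autFun_autFun_inv a hx] at this
    convert this using 1
    group
  · intro α hα hcop
    obtain ⟨g, hg, hgα⟩ := Cfsg.Agent.Fusion.exists_map_mod hS hF hT
      (Cfsg.Agent.Fusion.mapTo_of_mem_autGroup hP hα)
    have hUS : P ⊔ T ≤ S := sup_le hP hT.1
    have := Cfsg.Agent.Fusion.finite_of_le hUS
    have hgU : Cfsg.Agent.Fusion.img g (P ⊔ T) = P ⊔ T := by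
      refine Cfsg.Agent.Fusion.img_eq_self_of_forall hg fun z hz => ?_
      have hle : Cfsg.Agent.Fusion.img g (P ⊔ T) ≤ P ⊔ T := by
        rw [hg.img_sup le_sup_left le_sup_right]
        refine sup_le (Cfsg.Agent.Fusion.img_le_of_forall fun y hy => ?_) ?_
        · have := Subgroup.mul_mem _
            (Subgroup.mem_sup_left (T := T) (Cfsg.Agent.Fusion.autFun_mem α hy))
            (Subgroup.mem_sup_right (S := P) (hgα y hy))
          rwa [mul_inv_cancel_left] at this
        · rw [Cfsg.Agent.Fusion.StronglyClosed.img_eq hT hg le_sup_right]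
          exact le_sup_right
      exact hle (Cfsg.Agent.Fusion.mem_img_of_mem hz)
    set γ := Cfsg.Agent.Fusion.autOf hg hgU with hγ
    have := Cfsg.Agent.Fusion.finite_mulAut ↥(P ⊔ T)
    have := Cfsg.Agent.Fusion.finite_of_le hT.1
    have := Cfsg.Agent.Fusion.finite_mulAut T
    have hmod : ∀ n : ℕ, ∀ x ∈ P, (Cfsg.Agent.Fusion.autFun (α ^ n) x)⁻¹ *
        Cfsg.Agent.Fusion.autFun (γ ^ n) x ∈ T := by
      intro n
      induction n with
      | zero =>
          intro x hx
          rw [pow_zero, pow_zero, Cfsg.Agent.Fusion.autFun_one hx,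
            Cfsg.Agent.Fusion.autFun_one (Subgroup.mem_sup_left hx), inv_mul_cancel]
          exact T.one_mem
      | succ n ih =>
          intro x hx
          rw [pow_succ', pow_succ', Cfsg.Agent.Fusion.autFun_mul _ _ hx,
            Cfsg.Agent.Fusion.autFun_mul _ _ (Subgroup.mem_sup_left hx)]
          set a := Cfsg.Agent.Fusion.autFun (α ^ n) x with ha
          have haP : a ∈ P := Cfsg.Agent.Fusion.autFun_mem _ hx
          set b := Cfsg.Agent.Fusion.autFun (γ ^ n) x with hb
          have hbU : b ∈ P ⊔ T := Cfsg.Agent.Fusion.autFun_mem _ (Subgroup.mem_sup_left hx)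
          rw [hγ, Cfsg.Agent.Fusion.autFun_autOf hg hgU hbU]
          have h1 := Cfsg.Agent.Fusion.mod_comp (g₁ := fun _ => b) (x := x) hT hg
            (Subgroup.mem_sup_left haP) hbU (ih x hx)
          have := T.mul_mem (hgα a haP) h1
          convert this using 1
          group
    obtain ⟨k, hk, hkc⟩ := Cfsg.Agent.Fusion.exists_pow_coprime γ hcop
    have hαk : α ^ k = α := by
      have := pow_eq_pow_iff_modEq.mpr (hk : k ≡ 1 [MOD orderOf α])
      simpa using this
    have hγm := Cfsg.Agent.Fusion.mapTo_of_mem_autGroup hUS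
      (Subgroup.pow_mem _ (Cfsg.Agent.Fusion.autOf_mem hg hgU) k)
    set e := γ ^ k with he
    set et := Cfsg.Agent.Fusion.autOf (hγm.restrict le_sup_right)
      (Cfsg.Agent.Fusion.StronglyClosed.img_eq hT hγm le_sup_right) with het
    have hetm : et ∈ F.autGroup T := Cfsg.Agent.Fusion.autOf_mem _ _
    have hetpow : ∀ n : ℕ, ∀ t ∈ T, Cfsg.Agent.Fusion.autFun (et ^ n) t =
        Cfsg.Agent.Fusion.autFun (e ^ n) t := by
      intro n
      induction n with
      | zero =>
          intro t ht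
          rw [pow_zero, pow_zero, Cfsg.Agent.Fusion.autFun_one ht,
            Cfsg.Agent.Fusion.autFun_one (Subgroup.mem_sup_right ht)]
      | succ n ih =>
          intro t ht
          rw [pow_succ', pow_succ', Cfsg.Agent.Fusion.autFun_mul _ _ ht,
            Cfsg.Agent.Fusion.autFun_mul _ _ (Subgroup.mem_sup_right ht), ← ih t ht]
          exact Cfsg.Agent.Fusion.autFun_autOf _ _ (Cfsg.Agent.Fusion.autFun_mem _ ht)
    have hetc : et ∈ (Cfsg.pResidual p ↥(F.autGroup T)).map (F.autGroup T).subtype := by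
      refine Cfsg.Agent.Fusion.mem_oP_of_coprime hetm (Nat.Coprime.coprime_dvd_left
        (orderOf_dvd_of_pow_eq_one (Cfsg.Agent.Fusion.autFun_ext fun t ht => ?_)) hkc)
      rw [hetpow _ t ht, pow_orderOf_eq_one, Cfsg.Agent.Fusion.autFun_one ht,
        Cfsg.Agent.Fusion.autFun_one (Subgroup.mem_sup_right ht)]
    intro x hx
    have hxN := Cfsg.Agent.Fusion.StronglyClosed.le_normalizer hT (hP hx)
    obtain ⟨c, hc⟩ := Cfsg.Agent.Fusion.exists_conjAut hxN
    have hcF : c ∈ F.autGroup T := Cfsg.Agent.Fusion.autInducedBy_le_autGroup hT.1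
      (Cfsg.Agent.Fusion.mem_autInducedBy_iff_cj.mpr ⟨x, hP hx, hc⟩)
    have hxU : x ∈ P ⊔ T := Subgroup.mem_sup_left hx
    have h1 : x⁻¹ * Cfsg.Agent.Fusion.autFun e x ∈ H := by
      refine ⟨c⁻¹ * et * c * et⁻¹, Subgroup.mem_sup_left ?_, fun t => ?_⟩
      · refine Subgroup.mul_mem _ ?_ (Subgroup.inv_mem _ hetc)
        obtain ⟨a, ha, hae⟩ := hetc
        refine ⟨(⟨c, hcF⟩ : F.autGroup T)⁻¹ * a * ⟨c, hcF⟩,
          Subgroup.Normal.conj_mem' inferInstance a ha _, ?_⟩
        rw [← hae]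
        rfl
      · rw [← Cfsg.Agent.Fusion.autFun_coe, Cfsg.Agent.Fusion.autFun_mul _ _ t.2,
          Cfsg.Agent.Fusion.autFun_mul _ _ (Cfsg.Agent.Fusion.autFun_mem _ t.2),
          Cfsg.Agent.Fusion.autFun_mul _ _
            (Cfsg.Agent.Fusion.autFun_mem _ (Cfsg.Agent.Fusion.autFun_mem _ t.2))]
        set u := Cfsg.Agent.Fusion.autFun et⁻¹ (t : Ω) with hu
        have huT : u ∈ T := Cfsg.Agent.Fusion.autFun_mem _ t.2
        rw [hc u huT, Cfsg.Agent.Fusion.cj_apply]
        set v := x * u * x⁻¹ with hv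
        have hvT : v ∈ T := Cfsg.Agent.Fusion.StronglyClosed.conj_mem hT (hP hx) huT
        have hev : Cfsg.Agent.Fusion.autFun et v = Cfsg.Agent.Fusion.autFun e v := by
          simpa using hetpow 1 v hvT
        have heu : Cfsg.Agent.Fusion.autFun e u = t := by
          have := hetpow 1 u huT
          rw [pow_one, pow_one, hu, Cfsg.Agent.Fusion.autFun_autFun_inv _ t.2, ← hu] at this
          exact this.symm
        have h2 : Cfsg.Agent.Fusion.autFun et v =
            Cfsg.Agent.Fusion.autFun e x * t * (Cfsg.Agent.Fusion.autFun e x)⁻¹ := by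
          rw [hev, hv, hγm.map_conj hxU (Subgroup.mem_sup_right huT), heu]
        have hw : Cfsg.Agent.Fusion.autFun et v ∈ T := Cfsg.Agent.Fusion.autFun_mem _ hvT
        have h3 := hc _ (Cfsg.Agent.Fusion.autFun_mem c⁻¹ hw)
        rw [Cfsg.Agent.Fusion.autFun_autFun_inv _ hw, h2, Cfsg.Agent.Fusion.cj_apply] at h3
        rw [h2]
        calc _ = x⁻¹ * (x * Cfsg.Agent.Fusion.autFun c⁻¹ (Cfsg.Agent.Fusion.autFun e x * ↑t *
              (Cfsg.Agent.Fusion.autFun e x)⁻¹) * x⁻¹) * x := by group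
          _ = _ := by rw [← h3]; group
    have hTH : ∀ t ∈ T, t ∈ H := fun t ht =>
      ⟨MulAut.conj (⟨t, ht⟩ : T), Subgroup.mem_sup_right ⟨_, rfl⟩, fun u => rfl⟩
    have h2 := hmod k x hx
    rw [hαk, ← he] at h2
    have := H.mul_mem h1 (H.inv_mem (hTH _ h2))
    convert this using 1
    group

end Cfsg.Agent.S5198
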