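import Cfsg.Statements.S5200
import Cfsg.Agent.Lib.Components.CentralizerInT
import Cfsg.Agent.Lib.Fusion.FocalCentralizerMain

set_option autoImplicit false
open Cfsg
open Cfsg.FusionSystem (centralizerIn)
open Cfsg.Agent.Fusion
open Cfsg.Agent.Components.CentralizerOfNormal (cSet)

namespace Cfsg.Agent.S5200

/-- Let F be a saturated fusion system over a finite p-group S and E a normal subsystem of F over T whose centralizer in S lies in T: every subgroup Y of C_S(T) such that E is contained in the centralizer fusion system of Y in F satisfies Y ≤ T. Then T·C_S(T)/T is abelian (the commutator subgroup of T·C_S(T) lies in T), and if p is odd then C_S(T) ≤ T. -/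
theorem result {Ω : Type*} [Group Ω] {S : Subgroup Ω} [Finite S] (p : ℕ) [Fact p.Prime] (hS : IsPGroup p S) (F : Cfsg.FusionSystem S) (hF : F.IsSaturated p) {T : Subgroup Ω} (E : Cfsg.FusionSystem T) (hE : E.IsNormalIn F p) (hCE : ∀ Y : Subgroup Ω, Y ≤ Cfsg.FusionSystem.centralizerIn S T → (∀ C : Cfsg.FusionSystem (Cfsg.FusionSystem.centralizerIn S Y), F.IsCentralizerSystem Y C → E.IsSubsystemOf C) → Y ≤ T) : ⁅T ⊔ Cfsg.FusionSystem.centralizerIn S T, T ⊔ Cfsg.FusionSystem.centralizerIn S T⁆ ≤ T ∧ (p ≠ 2 → Cfsg.FusionSystem.centralizerIn S T ≤ T) := by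
  obtain ⟨hEs, -, hi⟩ := id hE.1
  have hsc := hi.2.1
  have hTS : T ≤ S := hsc.1
  -- `C_S(E)` lies in `T`
  have hcT : ∀ c ∈ cSet F E, c ∈ T := by
    intro c hc
    refine hCE (Subgroup.zpowers c) (Subgroup.zpowers_le.mpr hc.1) (fun C hC P φ hφ => ?_)
      (Subgroup.mem_zpowers c)
    have hTC : ∀ {t : Ω}, t ∈ T → t ∈ centralizerIn S (Subgroup.zpowers c) := fun {t} ht =>
      mem_centralizerIn.mpr ⟨hTS ht, fun x hx =>
        ((mem_centralizerIn.mp (Subgroup.zpowers_le.mpr hc.1 hx)).2 t ht).symm⟩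
    have hφm := mapTo_ev hφ
    rw [hC P]
    exact (mem_centralizerHom_iff (f := ev φ) fun x => (ev_coe φ x).symm).mpr
      ⟨fun x hx => hTC (hφm.le hx), fun x hx => hTC (hφm.mem hx), hc.2 P _ hφm⟩
  -- the focal subgroup of `C_F(T)` lies in `T`
  have hfoc : (cSys F hTS).focalSubgroup ≤ centralizerIn S T := focal_le_iff.mpr
    fun R g hg x hx => Subgroup.mul_mem _ (Subgroup.inv_mem _ (hg.le hx)) (hg.mem hx)
  have hfT : ∀ z ∈ (cSys F hTS).focalSubgroup, z ∈ T := fun z hz => hcT z ⟨hfoc hz, fun P f hf => by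
    obtain ⟨g, hg, hgf, hgX⟩ := extFix_focal hS hE hTS hf
    exact ⟨g, hg.restrict (sup_le_sup_left (Subgroup.zpowers_le.mpr hz) P), hgf,
      fun w hw => hgX w (Subgroup.zpowers_le.mpr hz hw)⟩⟩
  have hcomm : ∀ x ∈ centralizerIn S T, ∀ y ∈ centralizerIn S T, x * y * x⁻¹ * y⁻¹ ∈ T := by
    intro x hx y hy
    have h1 := mem_focal (mapTo_cj (F := cSys F hTS) le_rfl hx) ((centralizerIn S T).inv_mem hy)
    rw [cj_apply] at h1
    have h2 := T.inv_mem (hfT _ h1)
    rwa [show (y⁻¹⁻¹ * (x * y⁻¹ * x⁻¹))⁻¹ = x * y * x⁻¹ * y⁻¹ by group] at h2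
  have hC : centralizerIn S T ≤ Subgroup.normalizer (T : Set Ω) :=
    le_trans centralizerIn_le (StronglyClosed.le_normalizer hsc)
  refine ⟨Subgroup.commutator_le.mpr fun g hg k hk => ?_, fun hp y hy => ?_⟩
  · have hg' : g ∈ ((T ⊔ centralizerIn S T : Subgroup Ω) : Set Ω) := hg
    have hk' : k ∈ ((T ⊔ centralizerIn S T : Subgroup Ω) : Set Ω) := hk
    rw [Subgroup.coe_mul_of_right_le_normalizer_left _ _ hC] at hg' hk'
    obtain ⟨t, ht, x, hx, rfl⟩ := hg'
    obtain ⟨s, hs, y, hy, rfl⟩ := hk'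
    show t * x * (s * y) * (t * x)⁻¹ * (s * y)⁻¹ ∈ T
    have h1 := (Subgroup.mem_normalizer_iff.mp (hC hx) s).mp hs
    have h2 := (Subgroup.mem_normalizer_iff.mp (hC hy) t⁻¹).mp (T.inv_mem ht)
    have h3 := T.mul_mem (T.mul_mem (T.mul_mem (T.mul_mem ht h1) (hcomm x hx y hy)) h2)
      (T.inv_mem hs)
    rwa [show t * (x * s * x⁻¹) * (x * y * x⁻¹ * y⁻¹) * (y * t⁻¹ * y⁻¹) * s⁻¹ =
      t * x * (s * y) * (t * x)⁻¹ * (s * y)⁻¹ by group] at h3
  · obtain ⟨z, hz, hyz⟩ := Components.CentralizerInT.exists_centralizing hS hp hE hy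
    exact (T.mul_mem_cancel_right hz).mp (hcT _ hyz)

end Cfsg.Agent.S5200
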