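import Cfsg.Statements.S5201
import Cfsg.Agent.Lib.Components.LimitSub
import Cfsg.Agent.Lib.Fusion.FocalCentralizerMain
import Cfsg.Agent.S5200

set_option autoImplicit false
open Cfsg
open Cfsg.FusionSystem (centralizerIn)
open Cfsg.Agent.Fusion
open Cfsg.Agent.Components.CentralizerOfNormal (cSet)

namespace Cfsg.Agent.S5201

/-- A reduction to normal subsystems. Let F be a saturated fusion system over a finite p-group S and E a normal subsystem of F over T whose centralizer in S lies in T (every subgroup Y of C_S(T) with E contained in the centralizer fusion system of Y in F satisfies Y ≤ T), and suppose Aut_F(T)/Aut_E(T) is p-solvable. Then F and E have the same residual limit: if F∞ is the residual limit of F (reached by alternately passing to the p-residual and the p'-residual subsystem until nothing changes) and E∞ that of E, then F∞ and E∞ have the same maps. -/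
theorem result {Ω : Type*} [Group Ω] {S : Subgroup Ω} [Finite S] (p : ℕ) [Fact p.Prime] (hS : IsPGroup p S) (F : Cfsg.FusionSystem S) (hF : F.IsSaturated p) {T : Subgroup Ω} (E : Cfsg.FusionSystem T) (hE : E.IsNormalIn F p) (hCE : ∀ Y : Subgroup Ω, Y ≤ Cfsg.FusionSystem.centralizerIn S T → (∀ C : Cfsg.FusionSystem (Cfsg.FusionSystem.centralizerIn S Y), F.IsCentralizerSystem Y C → E.IsSubsystemOf C) → Y ≤ T) [hn : ((E.autGroup T).subgroupOf (F.autGroup T)).Normal] (hsolv : Cfsg.IsPSolvable p (↥(F.autGroup T) ⧸ (E.autGroup T).subgroupOf (F.autGroup T))) {U V : Subgroup Ω} (Finf : Cfsg.FusionSystem U) (hFinf : Finf.IsResidualLimitOf F p) (Einf : Cfsg.FusionSystem V) (hEinf : Einf.IsResidualLimitOf E p) : ∀ P : Subgroup Ω, Finf.Hom P = Einf.Hom P := by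
  obtain ⟨hEs, -, hi⟩ := id hE.1
  have hsc := hi.2.1
  have hTS : T ≤ S := hsc.1
  set C := centralizerIn S T with hC
  obtain ⟨F₀, hN, hsub, haut, hsat, hlim⟩ := Components.Descent.exists_normal_over_TC hS hE hsolv
  have hWS : T ⊔ C ≤ S := sup_le hTS centralizerIn_le
  haveI := finite_of_le hWS
  have hTW : T ≤ T ⊔ C := le_sup_left
  have hCn : C ≤ Subgroup.normalizer (T : Set Ω) :=
    le_trans centralizerIn_le (StronglyClosed.le_normalizer hsc)
  have hF₀F : F₀.IsSubsystemOf F := hN.1.2.2.1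
  have hscT : F₀.StronglyClosed T :=
    Components.Intermediate.stronglyClosed_sub hsc hTW hF₀F
  -- the focal subgroup of `C_F(T)` lies in `T`
  have hfoc : (cSys F hTS).focalSubgroup ≤ centralizerIn S T := focal_le_iff.mpr
    fun R g hg x hx => Subgroup.mul_mem _ (Subgroup.inv_mem _ (hg.le hx)) (hg.mem hx)
  have hcT : ∀ c ∈ cSet F E, c ∈ T := by
    intro c hc
    refine hCE (Subgroup.zpowers c) (Subgroup.zpowers_le.mpr hc.1) (fun C hC P φ hφ => ?_)
      (Subgroup.mem_zpowers c)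
    have hTC : ∀ {t : Ω}, t ∈ T → t ∈ centralizerIn S (Subgroup.zpowers c) := fun {t} ht =>
      mem_centralizerIn.mpr ⟨hTS ht, fun x hx =>
        ((mem_centralizerIn.mp (Subgroup.zpowers_le.mpr hc.1 hx)).2 t ht).symm⟩
    have hφm := mapTo_ev hφ
    rw [hC P]
    exact (mem_centralizerHom_iff (f := ev φ) fun x => (ev_coe φ x).symm).mpr
      ⟨fun x hx => hTC (hφm.le hx), fun x hx => hTC (hφm.mem hx), hc.2 P _ hφm⟩
  have hfT : ∀ z ∈ (cSys F hTS).focalSubgroup, z ∈ T := fun z hz => hcT z ⟨hfoc hz, fun P f hf => by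
    obtain ⟨g, hg, hgf, hgX⟩ := extFix_focal hS hE hTS hf
    exact ⟨g, hg.restrict (sup_le_sup_left (Subgroup.zpowers_le.mpr hz) P), hgf,
      fun w hw => hgX w (Subgroup.zpowers_le.mpr hz hw)⟩⟩
  -- the focal subgroup of `F₀` lies in `T`
  have hab := (Cfsg.Agent.S5200.result p hS F hF E hE hCE).1
  have hcl := Components.FocalClass.class_invariant (hS.to_le hWS) hsat hscT le_rfl
    (fun x hx y hy => hab (Subgroup.commutator_mem_commutator hx hy)) (fun P f hf hTP x hx => by
    obtain ⟨a, ha, hax⟩ := Components.Descent.exists_restrict hscT hf hTP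
    rw [haut] at ha
    obtain ⟨β, hβ, hβt, hβc⟩ := hE.2 a ha
    have hβm := mapTo_of_mem_autGroup hWS hβ
    have hβi := mapTo_of_mem_autGroup hWS (Subgroup.inv_mem _ hβ)
    have hβT : ∀ t ∈ T, autFun β t = autFun a t := fun t ht => by
      rw [autFun_apply β (hTW ht), autFun_apply a ht]; exact hβt ⟨t, ht⟩
    have hfW : ∀ y ∈ P, f y ∈ T ⊔ C := fun y hy => hf.mem hy
    have hk : MapTo F P fun y => autFun β⁻¹ (f y) :=
      (IsSubsystemOf.mapTo hF₀F hf).comp hβi hfW
    have hfix : ∀ t ∈ T, autFun β⁻¹ (f t) = t := fun t ht => by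
      rw [hax t ht, ← hβT t ht, autFun_inv_autFun β (hTW ht)]
    have hx' : x ∈ ((T ⊔ C : Subgroup Ω) : Set Ω) := hf.le hx
    rw [Subgroup.coe_mul_of_right_le_normalizer_left _ _ hCn] at hx'
    obtain ⟨t, ht, c, hc, rfl⟩ := hx'
    have hcP : c ∈ P := by
      have h := P.mul_mem (P.inv_mem (hTP ht)) hx
      rwa [inv_mul_cancel_left] at h
    have hkC : ∀ y ∈ P ⊓ C, autFun β⁻¹ (f y) ∈ centralizerIn S T := fun y hy =>
      mem_centralizerIn.mpr ⟨hk.mem hy.1, fun u hu => by
        have h1 := hk.map_mul (hTP hu) hy.1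
        have h2 := hk.map_mul hy.1 (hTP hu)
        rw [(mem_centralizerIn.mp hy.2).2 u hu] at h1
        rw [hfix u hu] at h1 h2
        exact h1.symm.trans h2⟩
    have hkm : MapTo (cSys F hTS) (P ⊓ C) fun y => autFun β⁻¹ (f y) :=
      (mapTo_cSys_iff (isCentralizerSystem_cSys F hTS)).mpr ⟨inf_le_right, hkC, _,
        hk.restrict (sup_le inf_le_left hTP), fun _ _ => rfl, hfix⟩
    have ht₁ := hfT _ (mem_focal hkm ⟨hcP, hc⟩)
    set t₁ := c⁻¹ * autFun β⁻¹ (f c) with ht₁d
    have hcW : c ∈ T ⊔ C := Subgroup.mem_sup_right hc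
    have hfc : f c = autFun β c * autFun a t₁ := by
      rw [← hβT t₁ ht₁, ← hβm.map_mul hcW (hTW ht₁), ht₁d, mul_inv_cancel_left,
        autFun_autFun_inv β (hfW c hcP)]
    have hz := hβc ⟨c, hcW⟩ hc
    rw [← autFun_coe β ⟨c, hcW⟩] at hz
    have hc1 : c⁻¹ * (t⁻¹ * autFun a t) * c ∈ T := by
      have := (Subgroup.mem_normalizer_iff.mp (hCn (C.inv_mem hc)) _).mp
        (T.mul_mem (T.inv_mem ht) (autFun_mem a ht))
      rwa [inv_inv] at this
    have h := T.mul_mem (T.mul_mem hc1 hz.1) (autFun_mem a ht₁)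
    rw [hf.map_mul (hTP ht) hcP, hax t ht, hfc]
    rwa [show c⁻¹ * (t⁻¹ * autFun a t) * c * (c⁻¹ * autFun β c) * autFun a t₁ =
      (t * c)⁻¹ * (autFun a t * (autFun β c * autFun a t₁)) by group] at h)
  have hhyp : F₀.hyperfocalSubgroup p ≤ T := hyperfocal_le_focal.trans (focal_le_iff.mpr hcl)
  have hiF₀ : E.IsInvariantIn F₀ :=
    Components.Intermediate.invariant_intermediate hS hWS hsat hF₀F hi hTW hsub
  have hpi : E.HasPPowerIndexIn F₀ p := by
    refine ⟨hsub, hhyp, fun P hP γ hγ => ?_⟩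
    have hγA : γ ∈ F₀.autGroup P := oP_le hγ
    obtain ⟨b, hb, e, he, hγe⟩ :=
      IsInvariantIn.frattini hiF₀ hP (mapTo_of_mem_autGroup (hP.trans hTW) hγA)
    rw [haut] at hb
    exact (mem_autGroup_iff hP).mpr
      ((he.comp (mapTo_of_mem_autGroup le_rfl hb) fun x hx => he.mem hx).congr' hγe)
  obtain ⟨A, L, hL⟩ := Components.ResLimit.exists_limit' (hS.to_le hWS) hsat
  exact fun P => ((hlim Finf L hFinf hL).trans
    (Components.ResLimit.main (hS.to_le hWS) hEs hscT hpi hL hEinf)).2 P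

end Cfsg.Agent.S5201
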