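import Cfsg.Statements.S5205
import Cfsg.Agent.Lib.Fusion.CenterControl
import Cfsg.Agent.Lib.Fusion.FreeSubsystems

set_option autoImplicit false
universe u
open Cfsg

namespace Cfsg.Agent.S5205

open Cfsg.Agent.Fusion
open Cfsg.FusionSystem (centralizerIn normalizerIn imageAlong preimageAlong)

universe v

variable {p : ℕ} [Fact p.Prime] (W : ∀ (Q : Type v) [Group Q], Subgroup Q)

theorem normalizerIn_functorIn_le
    (hW2 : ∀ (Q R : Type v) [Group Q] [Group R] [Finite Q], IsPGroup p Q →
      ∀ φ : Q ≃* R, (W Q).map φ.toMonoidHom = W R)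
    {Ω : Type v} [Group Ω] {S : Subgroup Ω} (F : Cfsg.FusionSystem S) [Finite S] (hS : IsPGroup p S)
    {T : Subgroup Ω} (hT : T ≤ S) :
    normalizerIn S T ≤ normalizerIn S (functorIn W T) := by
  intro y hy
  have := finite_of_le hT
  have := finite_of_le ((functorIn_le W T).trans hT)
  refine mem_normalizerIn_of_forall ((functorIn_le W T).trans hT) hy.1 fun z hz => ?_
  have hm := mapTo_cj (F := F) hT hy.1
  have h := img_functorIn W hW2 hS hm
  rw [img_eq_self_of_forall hm fun x hx => conj_mem_of_mem_normalizerIn hy hx] at h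
  exact h.le (mem_img_of_mem (f := cj y) hz)

/-- `W(S)` is normal, and the core is `S` when its automizer is a `p`-group. -/
theorem main
    (hW1 : ∀ (Q : Type v) [Group Q] [Finite Q], IsPGroup p Q → Nontrivial Q → W Q ≠ ⊥)
    (hW2 : ∀ (Q R : Type v) [Group Q] [Group R] [Finite Q], IsPGroup p Q →
      ∀ φ : Q ≃* R, (W Q).map φ.toMonoidHom = W R)
    (hW3 : ∀ (L : Type v) [Group L] [Finite L] (P : Sylow p L),
      Subgroup.centralizer ((Cfsg.pCore p L : Subgroup L) : Set L) =
        Cfsg.pCore p L ⊓ Subgroup.centralizer ((Cfsg.pCore p L : Subgroup L) : Set L) →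
      ¬ Cfsg.Involves ↥(Cfsg.qd p) L →
      (((W ↥(P : Subgroup L)).map (P : Subgroup L).subtype : Subgroup L)).Normal) :
    ∀ (n m : ℕ) {Ω : Type v} [Group Ω] {S : Subgroup Ω} [Finite S] (F : Cfsg.FusionSystem S),
      Nat.card S = n → mapsCard F = m → IsPGroup p S → F.IsSaturated p →
      F.IsSectionFree p ↥(Cfsg.qd p) →
      F.IsNormal (functorIn W S) ∧ (IsPGroup p (F.autGroup F.core) → F.core = S) := by
  intro n
  induction n using Nat.strong_induction_on with
  | _ n ihn =>
  intro m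
  induction m using Nat.strong_induction_on with
  | _ m ihm =>
  intro Ω _ S _ F hn hm hS hF hfree
  set W₀ := functorIn W S with hW₀
  have hW₀S : W₀ ≤ S := functorIn_le W S
  set Q := F.core with hQdef
  have hQ : F.IsNormal Q := isNormal_core F
  have hNS : normalizerIn S W₀ = S := le_antisymm normalizerIn_le
    ((le_normalizerIn le_rfl).trans (normalizerIn_functorIn_le W hW2 F hS le_rfl))
  have hW0 : ∀ T : Subgroup Ω, T ≤ S → T ≠ ⊥ → functorIn W T ≠ ⊥ := fun T hTS hT0 h => by
    haveI := finite_of_le hTS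
    exact hW1 ↥T (hS.to_le hTS) ((Subgroup.nontrivial_iff_ne_bot T).mpr hT0)
      ((Subgroup.map_eq_bot_iff_of_injective _ T.subtype_injective).mp h)
  -- the core is `S` when it is nontrivial with `p`-group automizer
  have hcore : Q ≠ ⊥ → IsPGroup p (F.autGroup Q) → Q = S := by
    intro hQ0 hQp
    have hnQ := IsNormal.le_normalizer hQ
    set Z := Q ⊓ Subgroup.centralizer (S : Set Ω) with hZ
    have hZ0 : Z ≠ ⊥ := inf_centralizer_ne_bot hS hQ.1 hnQ hQ0
    haveI := finite_of_le hQ.1
    have hZc : F.IsCentral Z := by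
      refine isCentral_iff.mpr ⟨inf_le_left.trans hQ.1, fun P f hf => ?_⟩
      obtain ⟨g, hg, hgf, hgQ⟩ := (isNormal_iff.mp hQ).2 P f hf
      refine ⟨g, hg.restrict (sup_le_sup_left inf_le_left P), hgf, fun z hz => ?_⟩
      have hm := hg.restrict (le_sup_right : Q ≤ P ⊔ Q)
      have := autFun_eq_self_of_isPGroup hS hF (isFullyNormalized_of_normal hQ.1 hnQ) hQp hz.1 hz.2
        (autOf_mem hm hgQ)
      rwa [autFun_autOf hm hgQ hz.1] at this
    obtain ⟨Ω', _, S', θ, E, hmor, hk, hEsat, hS'fin, hS'p, hlt⟩ :=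
      exists_quotient hS hF (IsNormal.stronglyClosed (IsCentral.isNormal hZc))
    have hkQ : kerIn θ ≤ Q := hk.le.trans inf_le_left
    have hEfree := isSectionFree_quotient hS hF hmor (hk.symm ▸ hZc) hfree
    obtain ⟨-, hB⟩ := ihn _ (hn ▸ hlt hZ0) _ E rfl rfl hS'p hEsat hEfree
    have hle1 : imageAlong θ Q ≤ E.core := le_core (isNormal_image hmor hQ)
    have hle2 : E.core ≤ imageAlong θ Q := by
      have h1 := le_core (isNormal_preimage hS hF hS'p hmor (hk.symm ▸ hZc) (isNormal_core E))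
      intro y hy
      have hr : E.core ≤ θ.range := (isNormal_core E).1.trans hmor.2.1.ge
      obtain ⟨z, hz, rfl⟩ := exists_preimage hr hy
      exact th_mem_imageAlong hQ.1 (h1 hz)
    have hEp : IsPGroup p (E.autGroup E.core) := by
      obtain ⟨Φ, hΦ⟩ := IsMorphism.exists_autHom hmor.1 hQ.1
      rw [← le_antisymm hle1 hle2]
      exact hQp.of_surjective Φ (autHom_surjective hmor hQ.1 hkQ hΦ)
    have hS' : imageAlong θ Q = S' := (le_antisymm hle1 hle2).trans (hB hEp)
    refine le_antisymm hQ.1 fun y hy => ?_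
    rw [← preimageAlong_imageAlong hQ.1 hkQ]
    exact mem_preimageAlong.mpr ⟨hy, hS'.ge (hmor.2.1 ▸ th_mem_range θ y)⟩
  by_cases hS0 : S = ⊥
  · refine ⟨?_, fun _ => ?_⟩
    · rw [show W₀ = ⊥ from le_bot_iff.mp (hS0 ▸ hW₀S)]
      exact isNormal_bot F
    · exact le_antisymm hQ.1 (hS0.le.trans bot_le)
  let M : MapProp F :=
    { C := fun P f => ∃ g, MapTo F (P ⊔ W₀) g ∧ (∀ x ∈ P, g x = f x) ∧ img g W₀ = W₀
      congr' := fun _ ⟨g, hg, hgf, hgW⟩ h => ⟨g, hg, fun x hx => (hgf x hx).trans (h x hx).symm, hgW⟩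
      conj := fun {P g} hP hg => by
        haveI := finite_of_le hW₀S
        exact ⟨cj g, mapTo_cj (sup_le hP hW₀S) hg, fun _ _ => rfl,
          img_eq_self_of_forall (mapTo_cj (F := F) hW₀S hg)
            fun x hx => conj_mem_of_mem_normalizerIn (hNS.ge hg) hx⟩
      comp := fun {P R f g} _ _ hfR ⟨e₁, he₁, he₁f, he₁W⟩ ⟨e₂, he₂, he₂g, he₂W⟩ => by
        refine ⟨fun x => e₂ (e₁ x), he₁.comp he₂ fun x hx => ?_, fun x hx => ?_, ?_⟩
        · have : img e₁ (P ⊔ W₀) ≤ R ⊔ W₀ := by
            rw [he₁.img_sup le_sup_left le_sup_right, he₁W]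
            exact sup_le_sup_right (img_le_of_forall fun y hy => (he₁f y hy).symm ▸ hfR y hy) W₀
          exact this (mem_img_of_mem hx)
        · show e₂ (e₁ x) = g (f x)
          rw [he₁f x hx, he₂g _ (hfR x hx)]
        · rw [← he₁.img_img le_sup_right, he₁W, he₂W]
      inv := fun {P f g} hf _ hgf ⟨e, he, hef, heW⟩ => by
        obtain ⟨k, hk, hke, -, hkimg⟩ := he.exists_iso_inverse
        rw [he.img_sup le_sup_left le_sup_right, heW, img_congr (f := e) (P := P) hef] at hk
        refine ⟨k, hk, fun y hy => ?_, ?_⟩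
        · obtain ⟨x, hx, rfl⟩ := (hf.mem_img_iff le_rfl).mp hy
          rw [hgf x hx, ← hef x hx, hke x (Subgroup.mem_sup_left hx)]
        · have := hkimg W₀ le_sup_right
          rwa [heW] at this
      restrict := fun _ ⟨g, hg, hgf, hgW⟩ hPQ =>
        ⟨g, hg.restrict (sup_le_sup_right hPQ W₀), fun x hx => hgf x (hPQ hx), hgW⟩ }
  -- the induction hypothesis for a smaller subsystem
  have hsub : ∀ (T : Subgroup Ω) (E : Cfsg.FusionSystem T), T ≤ S → E.IsSaturated p →
      E.IsSectionFree p ↥(Cfsg.qd p) →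
      (∀ (P : Subgroup Ω) (f : Ω → Ω), MapTo E P f → MapTo F P f) →
      (T = S → ∃ (P : Subgroup Ω) (f : Ω → Ω), MapTo F P f ∧ ¬ MapTo E P f) →
      (∀ (P : Subgroup Ω) (f g : Ω → Ω), P ≤ T → (∀ x ∈ P, f x ∈ T) →
        MapTo E (P ⊔ functorIn W T) g → (∀ x ∈ P, g x = f x) →
        img g (functorIn W T) = functorIn W T → M.C P f) →
      ∀ (P : Subgroup Ω) (f : Ω → Ω), MapTo E P f → M.C P f := by
    intro T E hTS hE hEf hle hne hWT P f hf
    haveI := finite_of_le hTS
    have hAE : E.IsNormal (functorIn W T) → M.C P f := fun hn => by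
      obtain ⟨g, hg, hgf, hgW⟩ := (isNormal_iff.mp hn).2 P f hf
      exact hWT P f g hf.le (fun x hx => hf.mem hx) hg hgf hgW
    rcases card_lt_or_mapsCard_lt hTS E hle hne with h | ⟨h1, h2⟩
    · exact hAE (ihn _ (hn ▸ h) _ E rfl rfl (hS.to_le hTS) hE hEf).1
    · exact hAE (ihm _ (hm ▸ h2) E (h1.trans hn) rfl (hS.to_le hTS) hE hEf).1
  -- normalizer systems
  have hnsys : ∀ (U : Subgroup Ω) (hU : F.IsFullyNormalized U), ¬ F.IsNormal U →
      (∀ (P : Subgroup Ω) (f g : Ω → Ω), P ≤ normalizerIn S U → (∀ x ∈ P, f x ∈ normalizerIn S U) →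
        MapTo F (P ⊔ functorIn W (normalizerIn S U)) g → (∀ x ∈ P, g x = f x) →
        img g (functorIn W (normalizerIn S U)) = functorIn W (normalizerIn S U) → M.C P f) →
      ∀ (P : Subgroup Ω) (f : Ω → Ω), MapTo (nSys F hU.1) P f → M.C P f := by
    intro U hU hUF hyp
    have hE := isNormalizerSystem_nSys F hU.1
    refine hsub _ _ normalizerIn_le (isSaturated_normalizerSystem hS hF hU hE)
      (isSectionFree_normalizerSystem hS hF hU hE hfree)
      (fun R e he => by
        obtain ⟨-, -, e', he', hee, -⟩ := (mapTo_nSys_iff hE).mp he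
        exact (he'.restrict le_sup_left).congr' fun z hz => (hee z hz).symm)
      (fun _ => ?_) fun R e e' hR heT he' hee heW => ?_
    · by_contra hcon
      push Not at hcon
      exact hUF (isNormal_iff.mpr ⟨hU.1, fun R e he => by
        obtain ⟨-, -, e', he', hee, heU⟩ := (mapTo_nSys_iff hE).mp (hcon R e he)
        exact ⟨e', he', hee, heU⟩⟩)
    · obtain ⟨-, -, e'', he'', hee', -⟩ := (mapTo_nSys_iff hE).mp he'
      exact hyp R e e' hR heT
        ((he''.restrict le_sup_left).congr' fun z hz => (hee' z hz).symm) hee heW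
  have hA : F.IsNormal W₀ := by
    refine isNormal_iff.mpr ⟨hW₀S, fun P f hf => ?_⟩
    show M.C P f
    by_cases hQ0 : Q = ⊥
    · exact M.of_local hS hF hS0 (functorIn W) (fun T _ => functorIn_le W T) hW0
        (fun T hT => normalizerIn_functorIn_le W hW2 F hS hT)
        (fun P f g _ hg hgf hgW => ⟨g, hg, hgf, hgW⟩)
        (fun U hU hU0 hyp => hnsys U hU (fun h => hU0 (le_bot_iff.mp (hQ0 ▸ le_core h))) hyp) hf
    by_cases hQp : IsPGroup p (F.autGroup Q)
    · have hQS := hcore hQ0 hQp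
      obtain ⟨g, hg, hgf, hgQ⟩ := (isNormal_iff.mp hQ).2 P f hf
      rw [hQS] at hg hgQ
      have hgW := img_functorIn W hW2 hS (hg.restrict (le_sup_right : S ≤ P ⊔ S))
      rw [hgQ] at hgW
      exact ⟨g, hg.restrict (sup_le_sup_left hW₀S P), hgf, hgW⟩
    by_cases hQc : centralizerIn S Q ≤ Q
    · -- constrained
      have hQcen : F.IsCentric Q := ⟨hQ.1, fun T hT => by
        obtain ⟨e, he, rfl⟩ := isConj_iff.mp hT
        rw [StronglyClosed.img_eq (IsNormal.stronglyClosed hQ) he le_rfl]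
        exact hQc⟩
      obtain ⟨G, _, ι, hmod⟩ := exists_model hS ⟨hF, Q, hQ, hQcen⟩
      haveI := hmod.1
      have hQn := isFullyNormalized_of_normal (F := F) hQ.1 (IsNormal.le_normalizer hQ)
      have hQN : normalizerIn S Q = S := inf_eq_left.mpr (IsNormal.le_normalizer hQ)
      have hfreeG : ¬ Cfsg.Involves ↥(Cfsg.qd p) G := by
        have key : ∀ (T : Subgroup Ω) (N : Cfsg.FusionSystem T), T = S →
            (∀ P f, MapTo N P f ↔ MapTo F P f) → ∃ ι' : T →* G, N.IsModel p G ι' := by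
          rintro T N rfl h
          exact ⟨ι, (fusionSystem_ext h : N = F) ▸ hmod⟩
        obtain ⟨ι', hι'⟩ := key _ (nSys F hQ.1) hQN fun R e => by
          rw [mapTo_nSys_iff (isNormalizerSystem_nSys F hQ.1), hQN]
          constructor
          · rintro ⟨-, -, e', he', hee, -⟩
            exact (he'.restrict le_sup_left).congr' fun z hz => (hee z hz).symm
          · exact fun he => ⟨he.le, fun z hz => he.mem hz, (isNormal_iff.mp hQ).2 R e he⟩
        exact hfree Q hQn hQcen _ (isNormalizerSystem_nSys F hQ.1) G ι' hι'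
      obtain ⟨T, hT⟩ := hmod.2.2.1
      have hC := hmod.2.2.2
      have hn' := hW3 G T (le_antisymm (le_inf hC le_rfl) inf_le_right) hfreeG
      rw [← imageAlong_functorIn W hW2 hS hmod.2.1.1 hT] at hn'
      obtain ⟨a, ha⟩ := IsRealizedBy.exists_conj hmod.2.1 hf
      have hle : P ⊔ W₀ ≤ preimageAlong ι (ι.range.comap (MulAut.conj a).toMonoidHom) :=
        sup_le (fun x hx => mem_preimageAlong.mpr ⟨hf.le hx, by
            show a * th ι x * a⁻¹ ∈ ι.range
            rw [← ha x hx]; exact th_mem_range ι _⟩)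
          fun x hx => mem_preimageAlong.mpr ⟨hW₀S hx, imageAlong_le_range
            (hn'.conj_mem _ (th_mem_imageAlong hW₀S hx) a)⟩
      obtain ⟨g, hg, hga⟩ := IsRealizedBy.exists_mapTo hmod.2.1 (sup_le hf.le hW₀S) a
        fun y hy => (mem_preimageAlong.mp (hle hy)).2
      haveI := finite_of_le hW₀S
      refine ⟨g, hg, fun x hx => th_inj hmod.2.1.1 (hg.mem (Subgroup.mem_sup_left hx)) (hf.mem hx)
        (by rw [hga x (Subgroup.mem_sup_left hx), ha x hx]),
        img_eq_self_of_forall (hg.restrict le_sup_right) fun x hx => ?_⟩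
      obtain ⟨w, hw, hwe⟩ := (mem_imageAlong hW₀S).mp
        (hn'.conj_mem _ (th_mem_imageAlong (θ := ι) hW₀S hx) a)
      rw [th_inj hmod.2.1.1 (hg.mem (Subgroup.mem_sup_right hx)) (hW₀S hw)
        ((hga x (Subgroup.mem_sup_right hx)).trans hwe.symm)]
      exact hw
    -- decomposition
    have hUS : Q ⊔ centralizerIn S Q ≤ S := sup_le hQ.1 centralizerIn_le
    have hUn : S ≤ Subgroup.normalizer ((Q ⊔ centralizerIn S Q : Subgroup Ω) : Set Ω) := by
      intro y hy
      haveI := finite_of_le hUS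
      have hm := mapTo_cj (F := F) hUS hy
      refine (mem_normalizerIn_of_forall (S := S) hUS hy fun z hz => ?_).2
      have h1 : img (cj y) (Q ⊔ centralizerIn S Q) ≤ Q ⊔ centralizerIn S Q := by
        rw [hm.img_sup le_sup_left le_sup_right,
          StronglyClosed.img_eq (IsNormal.stronglyClosed hQ) hm le_sup_left]
        refine sup_le le_sup_left (le_trans (img_le_of_forall fun c hc => ?_) le_sup_right)
        have := hm.map_mem_centralizerIn le_sup_left (Subgroup.mem_sup_right hc) hc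
        rwa [StronglyClosed.img_eq (IsNormal.stronglyClosed hQ) hm le_sup_left] at this
      exact h1 (mem_img_of_mem (f := cj y) hz)
    have hNU : normalizerIn S (Q ⊔ centralizerIn S Q) = S := inf_eq_left.mpr hUn
    refine M.of_decomp hS hF hQ (fun P f hf hfU => ?_) (fun P f hQP hf hfix => ?_) hf
    · refine hnsys _ (isFullyNormalized_of_normal hUS hUn)
        (fun h => hQc (le_sup_right.trans (le_core h))) (fun R e e' _ _ he' hee heW => ?_) P f
        ((mapTo_nSys_iff (isNormalizerSystem_nSys F hUS)).mpr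
          ⟨le_sup_left.trans (hf.le.trans hNU.ge),
            fun z hz => hNU.ge (hf.mem (Subgroup.mem_sup_left hz)), f, hf, fun _ _ => rfl, hfU⟩)
      rw [hNU] at he' heW
      exact ⟨e', he', hee, heW⟩
    · obtain ⟨E, hEsat, hEmap⟩ := exists_innerOnSys hS hF hQ
      refine hsub S E le_rfl hEsat (isSectionFree_innerOnSys hS hF hQ hEmap hfree)
        (fun R e he => ?_) (fun _ => ?_) (fun R e e' hR heS he' hee heW => ?_) P f ?_
      · obtain ⟨-, -, e', he', hee, -⟩ := (hEmap R e).mp he
        exact (he'.restrict le_sup_left).congr' fun z hz => (hee z hz).symm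
      · by_contra hcon
        push Not at hcon
        refine hQp ((isPGroup_autInducedBy hS Q).to_le fun α hα => ?_)
        obtain ⟨-, -, g, -, hgα, k, hk, hgk⟩ :=
          (hEmap Q _).mp (hcon Q _ (mapTo_of_mem_autGroup hQ.1 hα))
        rwa [show α = k from autFun_ext fun x hx => (hgα x hx).symm.trans (hgk x hx)]
      · obtain ⟨-, -, e'', he'', hee', -⟩ := (hEmap _ _).mp he'
        exact ⟨e', (he''.restrict le_sup_left).congr' fun z hz => (hee' z hz).symm, hee, heW⟩
      · exact (hEmap P f).mpr ⟨hf.le, fun z hz => hf.mem hz, f, by rwa [sup_eq_left.mpr hQP],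
          fun _ _ => rfl, 1, Subgroup.one_mem _, fun x hx => by rw [hfix x hx, autFun_one hx]⟩
  exact ⟨hA, hcore fun h => hW0 S le_rfl hS0 (le_bot_iff.mp (h ▸ le_core hA))⟩


/-- Glauberman's ZJ-Theorem for fusion systems, in functor form. Let p be an odd prime and W a Glauberman functor: W assigns to every finite p-group Q (in a fixed universe) a subgroup W(Q), nontrivial when Q is, carried to W(R) by every isomorphism Q ≅ R, and such that W(P) is normal in L whenever P is a Sylow p-subgroup of a finite group L with C_L(O_p(L)) = Z(O_p(L)) in which Qd(p) (the natural semidirect product of an elementary abelian group of order p² by SL₂(p)) is not involved. Let F be a saturated fusion system over a finite p-group S that is Qd(p)-free: Qd(p) is not involved in any model of the normalizer system of a fully normalized F-centric subgroup. Then F equals the normalizer fusion system of W(S) in F. -/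
theorem result {p : ℕ} [Fact p.Prime] (hp : p ≠ 2) (W : ∀ (Q : Type u) [Group Q], Subgroup Q) (hW1 : ∀ (Q : Type u) [Group Q] [Finite Q], IsPGroup p Q → Nontrivial Q → W Q ≠ ⊥) (hW2 : ∀ (Q R : Type u) [Group Q] [Group R] [Finite Q], IsPGroup p Q → ∀ φ : Q ≃* R, (W Q).map φ.toMonoidHom = W R) (hW3 : ∀ (L : Type u) [Group L] [Finite L] (P : Sylow p L), Subgroup.centralizer ((Cfsg.pCore p L : Subgroup L) : Set L) = Cfsg.pCore p L ⊓ Subgroup.centralizer ((Cfsg.pCore p L : Subgroup L) : Set L) → ¬ Cfsg.Involves ↥(Cfsg.qd p) L → (((W ↥(P : Subgroup L)).map (P : Subgroup L).subtype : Subgroup L)).Normal) {Ω : Type u} [Group Ω] {S : Subgroup Ω} [Finite S] (hS : IsPGroup p S) (F : Cfsg.FusionSystem S) (hF : F.IsSaturated p) (hfree : F.IsSectionFree p ↥(Cfsg.qd p)) (N : Cfsg.FusionSystem (Cfsg.FusionSystem.normalizerIn S ((W ↥S).map S.subtype))) (hN : F.IsNormalizerSystem ((W ↥S).map S.subtype) N) : ∀ P : Subgroup Ω, N.Hom P = F.Hom P := by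
  have hW := (main W hW1 hW2 hW3 _ _ F rfl rfl hS hF hfree).1
  have hNS : Cfsg.FusionSystem.normalizerIn S ((W ↥S).map S.subtype) = S :=
    inf_eq_left.mpr (Cfsg.Agent.Fusion.IsNormal.le_normalizer hW)
  intro P
  ext φ
  rw [← Cfsg.Agent.Fusion.mapTo_ev_iff (F := N), ← Cfsg.Agent.Fusion.mapTo_ev_iff (F := F),
    Cfsg.Agent.Fusion.mapTo_nSys_iff hN]
  constructor
  · rintro ⟨-, -, g, hg, hgf, -⟩
    exact (hg.restrict le_sup_left).congr' fun z hz => (hgf z hz).symm
  · intro hf
    exact ⟨hf.le.trans hNS.ge, fun z hz => hNS.ge (hf.mem hz),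
      (Cfsg.Agent.Fusion.isNormal_iff.mp hW).2 P _ hf⟩

end Cfsg.Agent.S5205
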