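import Cfsg.Statements.S5212
import Cfsg.Agent.Lib.Fusion.MetacyclicNormal
import Cfsg.Agent.Lib.Fusion.Alperin
import Cfsg.Agent.S1896

set_option autoImplicit false
open Cfsg

namespace Cfsg.Agent.S5212

/-- Let S be a finite metacyclic 2-group that is not homocyclic abelian (a direct product of cyclic groups of one common order), not dihedral, not semidihedral and not generalized quaternion. Then every saturated fusion system over S is the inner fusion system of S. -/
theorem result {Ω : Type*} [Group Ω] {S : Subgroup Ω} [Finite S] (hS : IsPGroup 2 S) (F : Cfsg.FusionSystem S) (hF : F.IsSaturated 2) (hm : Cfsg.IsMetacyclic ↥S) (hh : ¬ ∃ n k : ℕ, Nonempty (↥S ≃* Multiplicative (Fin k → ZMod (2 ^ n)))) (hd : ¬ ∃ m : ℕ, Nonempty (↥S ≃* DihedralGroup m)) (hq : ¬ ∃ m : ℕ, Nonempty (↥S ≃* QuaternionGroup m)) (hsd : ¬ Cfsg.IsQuasiDihedral ↥S) : ∀ P : Subgroup Ω, F.Hom P = (Cfsg.innerFusionSystem S).Hom P := by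
  have hsys : F = Cfsg.innerFusionSystem S := by
    refine Cfsg.Agent.Fusion.eq_inner_of_isPGroup_autGroup hS hF fun P hP => ?_
    have hPS : P = S := by
      rcases hP with h | h
      · exact h
      · refine le_antisymm h.1.1 (Cfsg.Agent.Fusion.le_of_isEssential_of_metacyclic hS
          ⟨le_rfl, fun R _ φ hφ x => (F.le_of_mem hφ).2 x⟩ hm ?_ h)
        rintro ⟨D⟩
        rcases Cfsg.Agent.Invol.MaxClassTwo.iso_cases D with h' | h' | h'
        · exact hd ⟨_, h'⟩
        · exact hq ⟨_, h'⟩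
        · exact hsd h'
    subst hPS
    have hAut : IsPGroup 2 (MulAut ↥P) := by
      by_contra hA
      rcases Cfsg.Agent.S1896.result hS hm hA with h | ⟨n, ⟨e⟩⟩
      · exact hq ⟨_, h⟩
      · refine hh ⟨n, 2, ⟨e.trans ?_⟩⟩
        exact (MulEquiv.prodMultiplicative _ _).symm.trans
          (AddEquiv.toMultiplicative
            ({ toEquiv := (piFinTwoEquiv fun _ => ZMod (2 ^ n)).symm
               map_add' := fun a b => funext (Fin.forall_fin_two.2 ⟨rfl, rfl⟩) } :
              (ZMod (2 ^ n) × ZMod (2 ^ n)) ≃+ (Fin 2 → ZMod (2 ^ n))))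
    exact hAut.to_subgroup _
  intro P
  rw [hsys]

end Cfsg.Agent.S5212
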