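import Cfsg.Statements.S5214
import Cfsg.Agent.Lib.RankOne.HigmanClass
import Cfsg.Agent.Lib.Fusion.NormalCriteria

set_option autoImplicit false
open Cfsg

namespace Cfsg.Agent.S5214

/-- Let S be a Suzuki 2-group (a finite nonabelian 2-group with more than one involution admitting a cyclic group of automorphisms permuting its involutions regularly). Then S is normal in every saturated fusion system over S (such a group is resistant). -/
theorem result {Ω : Type*} [Group Ω] {S : Subgroup Ω} [Finite S] (hS : IsPGroup 2 S) (F : Cfsg.FusionSystem S) (hF : F.IsSaturated 2) (hsz : Cfsg.IsSuzukiTwoGroup ↥S) : F.IsNormal S := by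
  obtain ⟨K, hK⟩ := RankOne.Higman.exists_suzData hsz
  let Z : Subgroup Ω := (Subgroup.center ↥S).map S.subtype
  have hZle : Z ≤ S := Subgroup.map_subtype_le _
  have hmem : ∀ x : ↥S, (x : Ω) ∈ Z ↔ x * x = 1 := fun x => by
    rw [Subgroup.mem_map]
    exact ⟨fun ⟨y, hy, e⟩ => by
      rw [← (Subtype.ext e : y = x)]
      exact RankOne.Higman.center_sq hK hy, fun h => ⟨x, RankOne.Higman.inv_central hK h, rfl⟩⟩
  have hsc : F.StronglyClosed Z := by
    refine ⟨hZle, fun R hR φ hφ x => ?_⟩
    obtain ⟨hRS, him⟩ := F.le_of_mem hφ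
    refine (hmem ⟨_, him x⟩).mpr (Subtype.ext ?_)
    have h0 := (hmem ⟨_, hRS x.2⟩).mp (hR x.2)
    have h1 : x * x = 1 := Subtype.ext (congrArg Subtype.val h0 :)
    simpa using show φ x * φ x = 1 by rw [← map_mul, h1, map_one]
  refine Fusion.isNormal_of_stronglyClosed_series (p := 2) hS hF (Q := S) (n := 2) ![⊥, Z, S] rfl rfl
    ?_ ?_ ?_
  · refine Fin.monotone_iff_le_succ.mpr fun i => ?_
    fin_cases i
    · exact bot_le
    · exact hZle
  · intro i
    fin_cases i
    · exact hsc
    · exact ⟨le_rfl, fun R _ φ hφ x => (F.le_of_mem hφ).2 x⟩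
  · intro i x hx k hk
    fin_cases i
    · show x⁻¹ * (k * x * k⁻¹) ∈ (⊥ : Subgroup Ω)
      obtain ⟨y, hy, rfl⟩ := hx
      have h := congrArg Subtype.val (Subgroup.mem_center_iff.mp hy ⟨k, hk⟩)
      rw [Subgroup.mem_bot]
      simp only [Subgroup.coe_mul] at h
      rw [Subgroup.coe_subtype, h]; group
    · show x⁻¹ * (k * x * k⁻¹) ∈ Z
      have h := RankOne.Higman.comm_central hK ⟨x, hx⟩ (⟨k, hk⟩ : ↥S)⁻¹
      exact ⟨_, h, by simp; group⟩

end Cfsg.Agent.S5214
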