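import Cfsg.Statements.S5219
import Cfsg.Agent.Lib.Fusion.CentrePowers

set_option autoImplicit false
open Cfsg

namespace Cfsg.Agent.S5219

/-- Let p be a prime, n a natural number, S a nontrivial finite p-group of nilpotence class at most n(p−1)+1, and F a saturated fusion system over S with no nontrivial normal subgroup (O_p(F) = 1). Then S has exponent dividing p^(n²(p−1)+n). -/
theorem result {Ω : Type*} [Group Ω] {S : Subgroup Ω} [Finite S] (p : ℕ) [Fact p.Prime] (hS : IsPGroup p S) (F : Cfsg.FusionSystem S) (hF : F.IsSaturated p) (n : ℕ) (hS1 : S ≠ ⊥) (hcl : Subgroup.lowerCentralSeries S (n * (p - 1) + 1) = ⊥) (hcore : F.core = ⊥) : Monoid.exponent ↥S ∣ p ^ (n ^ 2 * (p - 1) + n) := by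
  set V := Cfsg.powerClosure p n (S ⊓ Subgroup.centralizer (S : Set Ω)) with hV
  have hVn := Cfsg.Agent.Fusion.isNormal_powerClosure_centre hS hF hcl
  have hVbot : V = ⊥ := le_bot_iff.mp (hcore ▸ (le_sSup hVn : V ≤ F.core))
  have hnil : Group.IsNilpotent S := hS.isNilpotent
  have hm : Subgroup.lowerCentralSeries (⊤ : Subgroup S) (n * (p - 1) + 1) = ⊥ := by
    rw [← Subgroup.map_eq_bot_iff_of_injective _ S.subtype_injective,
      Subgroup.top_subtype_lowerCentralSeries, hcl]
  rw [show p ^ (n ^ 2 * (p - 1) + n) = (p ^ n) ^ (n * (p - 1) + 1) by rw [← pow_mul]; ring_nf]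
  refine Monoid.exponent_dvd_of_forall_pow_eq_one fun x => ?_
  refine Cfsg.Agent.Fusion.pow_eq_one_of_center (fun z hz => ?_) hm x
  refine Subtype.ext ?_
  have h : (z : Ω) ^ p ^ n ∈ V := Subgroup.subset_closure ⟨z, ⟨z.2,
    Subgroup.mem_centralizer_iff.mpr fun y hy =>
      congrArg Subtype.val (Subgroup.mem_center_iff.mp hz ⟨y, hy⟩)⟩, rfl⟩
  rw [hVbot, Subgroup.mem_bot] at h
  exact h

end Cfsg.Agent.S5219
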