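import Cfsg.Statements.S5220
import Cfsg.Agent.Lib.Fusion.AgemoGenerationMain

set_option autoImplicit false
open Cfsg

namespace Cfsg.Agent.S5220

/-- Let F be a saturated fusion system over a nontrivial finite p-group S, let J(S) be the subgroup generated by the abelian subgroups of S of largest order, and let V be the subgroup generated by the p-th powers of the elements of Z(S). Then F is generated by the centralizer fusion system of V and the normalizer fusion system of J(S): every fusion system over S containing the maps of both contains every map of F. -/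
theorem result {Ω : Type*} [Group Ω] {S : Subgroup Ω} [Finite S] (p : ℕ) [Fact p.Prime] (hS : IsPGroup p S) (F : Cfsg.FusionSystem S) (hF : F.IsSaturated p) (hS1 : S ≠ ⊥) (C : Cfsg.FusionSystem (Cfsg.FusionSystem.centralizerIn S (Cfsg.powerClosure p 1 (S ⊓ Subgroup.centralizer (S : Set Ω))))) (hC : F.IsCentralizerSystem (Cfsg.powerClosure p 1 (S ⊓ Subgroup.centralizer (S : Set Ω))) C) (N : Cfsg.FusionSystem (Cfsg.FusionSystem.normalizerIn S (Cfsg.thompsonSubgroupAOf S))) (hN : F.IsNormalizerSystem (Cfsg.thompsonSubgroupAOf S) N) (E : Cfsg.FusionSystem S) (hCE : C.IsSubsystemOf E) (hNE : N.IsSubsystemOf E) : F.IsSubsystemOf E := by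
  intro P φ hφ
  have hE : Fusion.AgemoHyp F E p := by
    refine ⟨fun P f hf hfix => ?_, fun P f g hg hgf hgJ => ?_⟩
    · have hCS : Cfsg.FusionSystem.centralizerIn S
          (Cfsg.powerClosure p 1 (S ⊓ Subgroup.centralizer (S : Set Ω))) = S := by
        refine le_antisymm Fusion.centralizerIn_le fun s hs =>
          Fusion.mem_centralizerIn.mpr ⟨hs, fun w hw => ?_⟩
        have hle : Cfsg.powerClosure p 1 (S ⊓ Subgroup.centralizer (S : Set Ω)) ≤
            S ⊓ Subgroup.centralizer (S : Set Ω) := (Subgroup.closure_le _).mpr (by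
          rintro _ ⟨x, hx, rfl⟩; exact Subgroup.pow_mem _ hx _)
        exact (Subgroup.mem_centralizer_iff.mp (hle hw).2 s hs).symm
      refine Fusion.IsSubsystemOf.mapTo hCE ((Fusion.mapTo_cSys_iff hC).mpr
        ⟨hCS.symm ▸ le_sup_left.trans hf.le, fun x hx => hCS.symm ▸ hf.mem
          (Subgroup.mem_sup_left hx), f, hf, fun _ _ => rfl, hfix⟩)
    · rw [Transfer.JAb_zero] at hg hgJ
      have hJS : Cfsg.thompsonSubgroupAOf S ≤ S := Subgroup.map_subtype_le _
      have hNS : Cfsg.FusionSystem.normalizerIn S (Cfsg.thompsonSubgroupAOf S) = S := by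
        refine le_antisymm Fusion.normalizerIn_le fun s hs => ?_
        haveI := Fusion.finite_of_le hJS
        refine Fusion.mem_normalizerIn_of_forall hJS hs fun x hx => ?_
        have h1 : Fusion.img (Fusion.cj s) S = S := by
          rw [Fusion.img_cj]
          exact Subgroup.mem_normalizer_iff_map_conj_eq.mp (Subgroup.le_normalizer hs)
        have h2 := Fusion.img_JAb_zero (Fusion.mapTo_cj (F := F) le_rfl hs)
        rw [h1, Transfer.JAb_zero] at h2
        exact h2.le (Fusion.mem_img_of_mem hx)
      exact Fusion.IsSubsystemOf.mapTo hNE ((Fusion.mapTo_nSys_iff hN).mpr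
        ⟨hNS.symm ▸ le_sup_left.trans hg.le, fun x hx => hNS.symm ▸ (hgf x hx ▸
          hg.mem (Subgroup.mem_sup_left hx)), g, hg, hgf, hgJ⟩)
  exact Fusion.mapTo_ev_iff.mp (Fusion.agemoGen hS hF E hE P _ (Fusion.mapTo_ev hφ))

end Cfsg.Agent.S5220
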