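import Cfsg.Statements.S5221
import Cfsg.Agent.Lib.Fusion.ConstrainedSub

set_option autoImplicit false
open Cfsg

namespace Cfsg.Agent.S5221

/-- Let F be a sparse fusion system over a finite p-group S: a saturated fusion system, not the inner fusion system of S, whose only saturated fusion systems over S contained in it are F itself and the inner one. If p is odd, or F is S₄-free (the symmetric group of degree 4 is not involved in any model of the normalizer system of a fully normalized F-centric subgroup), then F is constrained. -/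
theorem result {Ω : Type*} [Group Ω] {S : Subgroup Ω} [Finite S] (p : ℕ) [Fact p.Prime] (hS : IsPGroup p S) (F : Cfsg.FusionSystem S) (hF : F.IsSaturated p) (hsp : ¬ (∀ P : Subgroup Ω, F.Hom P = (Cfsg.innerFusionSystem S).Hom P) ∧ ∀ E : Cfsg.FusionSystem S, E.IsSaturated p → E.IsSubsystemOf F → (∀ P : Subgroup Ω, E.Hom P = F.Hom P) ∨ (∀ P : Subgroup Ω, E.Hom P = (Cfsg.innerFusionSystem S).Hom P)) (hp : p ≠ 2 ∨ F.IsSectionFree p (Equiv.Perm (Fin 4))) : F.IsConstrained p := by
  classical
  obtain ⟨hne, hmin⟩ := hsp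
  have hF' : ¬ Cfsg.Agent.Fusion.IsInnerSys F := fun h =>
    hne (Cfsg.Agent.Fusion.IsInnerSys.hom_eq h)
  obtain ⟨W, hW, hWn, hWc, hWne⟩ :=
    Cfsg.Agent.Fusion.exists_centric_not_inner p _ _ S le_rfl hS F hF hp hF'
  have hfn := Cfsg.Agent.Fusion.isFullyNormalized_of_normal (F := F) hW hWn
  have hcen := Cfsg.Agent.Fusion.isCentric_of_isFullyCentralized
    (Cfsg.Agent.Fusion.isFullyCentralized_of_isFullyNormalized hS hF hfn) hWc
  have key : ∀ (T : Subgroup _) (E : Cfsg.FusionSystem T), T = S → E.IsSubsystemOf F →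
      E.IsConstrained p → ¬ Cfsg.Agent.Fusion.IsInnerSys E → F.IsConstrained p := by
    rintro T E rfl hsub hcon hnin
    have heq : E = F := by
      rcases hmin E hcon.1 hsub with h | h
      · exact Cfsg.Agent.Fusion.fusionSystem_ext fun P f =>
          ⟨fun ⟨φ, hφ, hf⟩ => ⟨φ, h P ▸ hφ, hf⟩, fun ⟨φ, hφ, hf⟩ => ⟨φ, (h P).symm ▸ hφ, hf⟩⟩
      · exact absurd (fun P f ⟨φ, hφ, hf⟩ => ⟨φ, h P ▸ hφ, hf⟩) hnin
    exact heq ▸ hcon
  have hsub : (Cfsg.Agent.Fusion.nSys F hW).IsSubsystemOf F := fun P φ hφ => hφ.1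
  exact key _ _ (inf_eq_left.mpr hWn) hsub
    (Cfsg.Agent.Fusion.isConstrained_normalizerSystem hS hF hfn hcen
      (Cfsg.Agent.Fusion.isNormalizerSystem_nSys F hW)) hWne

end Cfsg.Agent.S5221
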