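import Cfsg.Statements.S5223
import Cfsg.Agent.Lib.Fusion.FocalChain

set_option autoImplicit false
open Cfsg

namespace Cfsg.Agent.S5223

/-- Let F be a saturated fusion system over a finite p-group S. Suppose there are subgroups Q₀ = S, Q₁, …, Qₙ = 1 (not required to be nested) such that for each i < n the focal subgroup of Qᵢ (generated by the elements x⁻¹φ(x), x ∈ Qᵢ, φ a map of F defined on the cyclic group generated by x) lies in Qᵢ₊₁. Then F is the inner fusion system of S. -/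
theorem result {Ω : Type*} [Group Ω] {S : Subgroup Ω} [Finite S] (p : ℕ) [Fact p.Prime] (hS : IsPGroup p S) (F : Cfsg.FusionSystem S) (hF : F.IsSaturated p) (n : ℕ) (Q : Fin (n + 1) → Subgroup Ω) (hQ0 : Q 0 = S) (hQn : Q (Fin.last n) = ⊥) (hstep : ∀ i : Fin n, Subgroup.closure {y : Ω | ∃ x ∈ Q i.castSucc, ∃ φ ∈ F.Hom (Subgroup.zpowers x), y = x⁻¹ * φ ⟨x, Subgroup.mem_zpowers x⟩} ≤ Q i.succ) : ∀ P : Subgroup Ω, F.Hom P = (Cfsg.innerFusionSystem S).Hom P := by
  have hstep' : ∀ (k : ℕ) (hk : k < n + 1), F.hyperfocalSubgroup p ≤ Q ⟨k, hk⟩ := by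
    intro k
    induction k with
    | zero => intro hk; exact le_of_le_of_eq Cfsg.Agent.Fusion.hyperfocal_le hQ0.symm
    | succ k ih =>
      intro hk
      refine Cfsg.Agent.Fusion.hyperfocal_le_step hS fun P f hf x hx hxh => ?_
      obtain ⟨φ, hφ, hφf⟩ := hf.restrict (Subgroup.zpowers_le.mpr hx)
      refine hstep ⟨k, Nat.succ_lt_succ_iff.mp hk⟩ (Subgroup.subset_closure ?_)
      exact ⟨x, ih (Nat.lt_of_succ_lt hk) hxh, φ, hφ, by rw [hφf]⟩
  have h := Cfsg.Agent.Fusion.eq_inner_of_hyperfocal_eq_bot hS hF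
    (le_bot_iff.mp (le_of_le_of_eq (hstep' n (Nat.lt_succ_self n)) hQn))
  intro P
  rw [h]

end Cfsg.Agent.S5223
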