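import Cfsg.Statements.S5224
import Cfsg.Agent.Lib.Fusion.Tate
import Cfsg.Agent.Lib.Coprime23.Omega

set_option autoImplicit false
open Cfsg

namespace Cfsg.Agent.S5224

/-- Tate's Theorem for fusion systems. Let F be a saturated fusion system over a finite p-group S and H a saturated fusion system over S contained in F. Then the following are equivalent: the elementary focal subgroups Φ(S)·foc agree for F and H; the focal subgroups of F and H agree; the hyperfocal subgroups of F and H agree. -/
theorem result {Ω : Type*} [Group Ω] {S : Subgroup Ω} [Finite S] (p : ℕ) [Fact p.Prime] (hS : IsPGroup p S) (F : Cfsg.FusionSystem S) (hF : F.IsSaturated p) (H : Cfsg.FusionSystem S) (hH : H.IsSaturated p) (hHF : H.IsSubsystemOf F) : (((frattini ↥S).map S.subtype ⊔ F.focalSubgroup) = ((frattini ↥S).map S.subtype ⊔ H.focalSubgroup) ↔ F.focalSubgroup = H.focalSubgroup) ∧ (F.focalSubgroup = H.focalSubgroup ↔ F.hyperfocalSubgroup p = H.hyperfocalSubgroup p) := by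
  have hle : H ≤ F := hHF
  have hhyp : H.hyperfocalSubgroup p ≤ F.hyperfocalSubgroup p :=
    Cfsg.Agent.Fusion.hyperfocal_le_iff.mpr fun P hP => Cfsg.Agent.Fusion.oP_induction
      (C := fun α => ∀ x ∈ P, x⁻¹ * Cfsg.Agent.Fusion.autFun α x ∈ F.hyperfocalSubgroup p)
      (fun x hx => by
        rw [Cfsg.Agent.Fusion.autFun_one hx, inv_mul_cancel]; exact Subgroup.one_mem _)
      (fun a b _ _ ha hb x hx => by
        have h1 := Subgroup.mul_mem _ (hb x hx) (ha _ (Cfsg.Agent.Fusion.autFun_mem b hx))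
        rw [Cfsg.Agent.Fusion.autFun_mul _ _ hx]
        rwa [mul_assoc, mul_inv_cancel_left] at h1)
      (fun a _ ha x hx => by
        have h1 := Subgroup.inv_mem _ (ha _ (Cfsg.Agent.Fusion.autFun_mem a⁻¹ hx))
        rwa [Cfsg.Agent.Fusion.autFun_autFun_inv a hx, mul_inv_rev, inv_inv] at h1)
      fun a ha hcop x hx => Cfsg.Agent.Fusion.mem_hyperfocal hP
        (Cfsg.Agent.Fusion.mem_oP_of_coprime
          ((Cfsg.Agent.Fusion.mem_autGroup_iff hP).mpr
            ((Cfsg.Agent.Fusion.le_iff_mapTo.mp hle) _ _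
              (Cfsg.Agent.Fusion.mapTo_of_mem_autGroup hP ha))) hcop) hx
  set Φ := (frattini ↥S).map S.subtype with hΦ
  have hcΦ : ⁅S, S⁆ ≤ Φ := by
    rw [← Subgroup.map_subtype_commutator]
    have : Group.IsNilpotent S := hS.isNilpotent
    refine Subgroup.map_mono ?_
    rw [frattini, Order.radical]
    simp only [le_iInf_iff]
    exact fun K hK => (Cfsg.Agent.Coprime23.normal_coatom hS hK).2.1
  have hfoc : ∀ E : Cfsg.FusionSystem S, E.IsSaturated p →
      Φ ⊔ E.focalSubgroup = E.hyperfocalSubgroup p ⊔ Φ := fun E hE => by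
    rw [Cfsg.Agent.Fusion.focal_eq_hyperfocal_sup hS hE]
    exact le_antisymm (sup_le le_sup_right (sup_le le_sup_left (hcΦ.trans le_sup_right)))
      (sup_le (le_sup_left.trans le_sup_right) le_sup_left)
  have key : Φ ⊔ F.focalSubgroup = Φ ⊔ H.focalSubgroup →
      F.hyperfocalSubgroup p = H.hyperfocalSubgroup p := fun h => by
    refine Cfsg.Agent.Fusion.hyperfocal_eq_of_le_sup_frattini hS hF hle ?_
    rw [← hfoc H hH, ← h, hfoc F hF]
    exact le_sup_left
  have h2 : F.hyperfocalSubgroup p = H.hyperfocalSubgroup p →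
      F.focalSubgroup = H.focalSubgroup := fun h => by
    rw [Cfsg.Agent.Fusion.focal_eq_hyperfocal_sup hS hF,
      Cfsg.Agent.Fusion.focal_eq_hyperfocal_sup hS hH, h]
  exact ⟨⟨fun h => h2 (key h), fun h => by rw [h]⟩,
    fun h => key (by rw [h]), h2⟩

end Cfsg.Agent.S5224
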