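import Cfsg.Statements.S5225
import Cfsg.Agent.Lib.Fusion.YoshidaFusion

set_option autoImplicit false
open Cfsg

namespace Cfsg.Agent.S5225

/-- Yoshida's Theorem for fusion systems. Let F be a saturated fusion system over a finite p-group S and N the normalizer fusion system of S in F. If the focal subgroups of F and N differ (N does not control transfer in F), then S has a quotient isomorphic to the wreath product C_p ≀ C_p (realised as a Sylow p-subgroup of the symmetric group of degree p²). -/
theorem result {Ω : Type*} [Group Ω] {S : Subgroup Ω} [Finite S] (p : ℕ) [Fact p.Prime] (hS : IsPGroup p S) (F : Cfsg.FusionSystem S) (hF : F.IsSaturated p) (N : Cfsg.FusionSystem (Cfsg.FusionSystem.normalizerIn S S)) (hN : F.IsNormalizerSystem S N) (hne : N.focalSubgroup ≠ F.focalSubgroup) : ∃ (W : Sylow p (Equiv.Perm (Fin (p ^ 2)))) (f : ↥S →* ↥(W : Subgroup (Equiv.Perm (Fin (p ^ 2))))), Function.Surjective f := by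
  have hfn : F.IsFullyNormalized S := Fusion.isFullyNormalized_top
  have hNs : N.IsSaturated p := Fusion.isSaturated_normalizerSystem hS hF hfn hN
  have hmap : ∀ (P : Subgroup Ω) (f : Ω → Ω), Fusion.MapTo N P f → Fusion.MapTo F P f := by
    intro P f h
    obtain ⟨-, -, g, hg, hgf, -⟩ := (Fusion.mapTo_nSys_iff hN).mp h
    exact (hg.restrict le_sup_left).congr' fun x hx => (hgf x hx).symm
  have hns : Cfsg.FusionSystem.normalizerIn S S = S := inf_eq_left.mpr Subgroup.le_normalizer
  have hfull : ∀ f, Fusion.MapTo F S f → ∀ x ∈ S, x⁻¹ * f x ∈ N.focalSubgroup := by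
    intro f hf x hx
    refine Fusion.mem_focal (P := S) ((Fusion.mapTo_nSys_iff hN).mpr ⟨hns.ge,
      fun y hy => hns.ge (hf.mem hy), f, by rwa [sup_idem], fun _ _ => rfl, ?_⟩) hx
    exact Fusion.img_eq_self_of_forall hf fun y hy => hf.mem hy
  clear hN
  revert N
  rw [hns]
  intro N hne hNs hmap hfull
  exact Fusion.yoshida hS hF hNs (Fusion.le_iff_mapTo.mpr hmap) hfull hne

end Cfsg.Agent.S5225
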