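import Cfsg.Statements.S5226
import Cfsg.Agent.Lib.Fusion.Group
import Cfsg.Agent.Lib.Fusion.NormalCriteria

set_option autoImplicit false
open Cfsg

namespace Cfsg.Agent.S5226

/-- Let F be a saturated fusion system over a finite p-group S and Q a subgroup of S. Then Q is normal in F (F equals the normalizer system of Q) if and only if Q is strongly closed in F and admits a central series 1 = Q₀ ≤ Q₁ ≤ ⋯ ≤ Qₙ = Q ([Qᵢ₊₁, Q] ≤ Qᵢ) all of whose proper terms are weakly closed in F. -/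
theorem result {Ω : Type*} [Group Ω] {S : Subgroup Ω} [Finite S] (p : ℕ) [Fact p.Prime] (hS : IsPGroup p S) (F : Cfsg.FusionSystem S) (hF : F.IsSaturated p) (Q : Subgroup Ω) : F.IsNormal Q ↔ F.StronglyClosed Q ∧ ∃ (n : ℕ) (C : Fin (n + 1) → Subgroup Ω), C 0 = ⊥ ∧ C (Fin.last n) = Q ∧ Monotone C ∧ (∀ i : Fin n, ⁅C i.succ, Q⁆ ≤ C i.castSucc) ∧ ∀ i : Fin n, F.WeaklyClosed (C i.castSucc) := by
  constructor
  · intro h
    obtain ⟨n, h0, hn, hmono, hnorm, hcomm⟩ := Fusion.exists_normal_series hS h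
    refine ⟨Fusion.IsNormal.stronglyClosed h, n, fun i => Fusion.ucs Q i, h0, hn,
      fun a b hab => hmono hab, fun i => Subgroup.commutator_le.mpr fun x hx k hk => ?_,
      fun i => ⟨(hnorm _).1, fun φ hφ => ?_⟩⟩
    · have := hcomm i x⁻¹ (Subgroup.inv_mem _ hx) k hk
      rw [commutatorElement_def, show x * k * x⁻¹ * k⁻¹ = x⁻¹⁻¹ * (k * x⁻¹ * k⁻¹) by group]
      exact this
    · rw [Fusion.range_eq_img_ev]
      exact Fusion.StronglyClosed.img_eq (Fusion.IsNormal.stronglyClosed (hnorm _))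
        (Fusion.mapTo_ev hφ) le_rfl
  · rintro ⟨hQ, n, c, h0, hn, hmono, hcomm, hcl⟩
    exact Fusion.isNormal_of_series hS hF hQ c h0 hn hmono (fun i x hx k hk =>
      Fusion.comm_mem_of_commutator_le (Subgroup.commutator_comm Q (c i.succ) ▸ hcomm i) hx hk) hcl

end Cfsg.Agent.S5226
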