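import Cfsg.Statements.S5233
import Cfsg.Agent.Lib.Fusion.GenExtraspecial
import Cfsg.Agent.Lib.Basics.Frattini

set_option autoImplicit false
open Cfsg

namespace Cfsg.Agent.S5233

/-- Let F be a saturated fusion system over a finite p-group S and P a subgroup of S strongly closed in F that is generalized extraspecial (its Frattini subgroup equals its commutator subgroup and has order p) and not isomorphic to E × A with A elementary abelian and E dihedral of order 8 (p = 2) or extraspecial of order p³ and exponent p (p odd). Then P is normal in F. -/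
theorem result {Ω : Type*} [Group Ω] {S : Subgroup Ω} [Finite S] (p : ℕ) [Fact p.Prime] (hS : IsPGroup p S) (F : Cfsg.FusionSystem S) (hF : F.IsSaturated p) (P : Subgroup Ω) (hP : F.StronglyClosed P) (hge : frattini ↥P = commutator ↥P ∧ Nat.card ↥(commutator ↥P) = p) (h2 : p = 2 → ¬ ∃ (A : Type) (_ : CommGroup A), (∀ a : A, a ^ 2 = 1) ∧ Nonempty (↥P ≃* DihedralGroup 4 × A)) (hodd : p ≠ 2 → ¬ ∃ (E : Type) (_ : Group E) (A : Type) (_ : CommGroup A), Cfsg.IsExtraspecial p E ∧ Nat.card E = p ^ 3 ∧ Monoid.exponent E = p ∧ (∀ a : A, a ^ p = 1) ∧ Nonempty (↥P ≃* E × A)) : F.IsNormal P := by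
  open scoped commutatorElement in
    have := Fusion.finite_of_le hP.1
    have hPp : IsPGroup p ↥P := hS.to_le hP.1
    have hZP : (commutator ↥P).map P.subtype = ⁅P, P⁆ := Subgroup.map_subtype_commutator P
    refine Fusion.isNormal_of_genExtra hS hF hP ⁅P, P⁆ rfl ?_ (fun x hx => ?_) ?_
    · rw [← hZP, Subgroup.card_map_of_injective P.subtype_injective, hge.2]
    · rw [← hZP]
      exact ⟨(⟨x, hx⟩ : ↥P) ^ p, hge.1 ▸ Basics.pow_mem_frattini hPp _, rfl⟩
    intro w v hwp hvp hvw hMc hMe
    have hne : commutator ↥P ≠ ⊥ := fun h => by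
      have h2 := hge.2
      rw [h, Subgroup.card_bot] at h2
      exact (Fact.out : p.Prime).one_lt.ne h2
    obtain ⟨c, hc, hcc, hc1⟩ := InvChar.exists_mem_center_of_normal hPp (commutator ↥P) hne
    have hgen : Subgroup.zpowers c = commutator ↥P := by
      refine Subgroup.eq_of_le_of_card_ge (Subgroup.zpowers_le.mpr hc) ?_
      have h1 : orderOf c ∣ p := hge.2 ▸ Subgroup.orderOf_dvd_natCard (commutator ↥P) hc
      rw [hge.2, Nat.card_zpowers,
        ((Nat.dvd_prime Fact.out).mp h1).resolve_left fun h => hc1 (orderOf_eq_one_iff.mp h)]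
    have hco : orderOf c = p := by rw [← Nat.card_zpowers, hgen, hge.2]
    have hcomm : ∀ a b : ↥P, ⁅a, b⁆ ∈ Subgroup.zpowers c := fun a b =>
      hgen ▸ Subgroup.commutator_mem_commutator (Subgroup.mem_top a) (Subgroup.mem_top b)
    obtain ⟨E, A, ⟨eEA⟩, hAp, hAc, hEdef, hEcard, hEcen⟩ :=
      Fusion.exists_split c w v hcc hco hcomm hwp hvp hvw hMc hMe
    letI : CommGroup ↥A := { (inferInstance : Group ↥A) with mul_comm := hAc.is_comm.comm }
    have hApow : ∀ a : Shrink.{0} ↥A, a ^ p = 1 := fun a => Shrink.mulEquiv.injective (by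
      rw [map_pow, map_one]; exact Subtype.ext (hAp _ (Shrink.mulEquiv a).2))
    by_cases hp2 : p = 2
    · subst hp2
      have hw2 : orderOf w = 2 := orderOf_eq_prime hwp fun h => hvw (h ▸ Commute.one_right v)
      have hv2 : orderOf v = 2 := orderOf_eq_prime hvp fun h => hvw (h ▸ Commute.one_left w)
      have hsq : (w * v) ^ 2 = ⁅w, v⁆ := by
        rw [commutatorElement_def, pow_two, inv_eq_of_mul_eq_one_right (by rwa [← pow_two]),
          inv_eq_of_mul_eq_one_right (show v * v = 1 by rwa [← pow_two])]
        group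
      have hwvne : ⁅w, v⁆ ≠ 1 := fun h => hvw (commutatorElement_eq_one_iff_mul_comm.mp h).symm
      have h4 : orderOf (w * v) = 4 := orderOf_eq_prime_pow (p := 2) (n := 1)
        (by rw [pow_one, hsq]; exact hwvne)
        (by
          rw [show (2 : ℕ) ^ (1 + 1) = 2 * 2 by norm_num, pow_mul, hsq,
            ← orderOf_dvd_iff_pow_eq_one, ← hge.2]
          exact Subgroup.orderOf_dvd_natCard _ (hgen ▸ hcomm w v))
      have hcl : Subgroup.closure ({w, v} : Set ↥P) = E := by
        rw [hEdef]
        refine le_antisymm (Subgroup.closure_mono (by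
          rintro x (rfl | rfl) <;> simp)) ((Subgroup.closure_le _).mpr ?_)
        rintro x (rfl | rfl | rfl)
        · have hin : ⁅w, v⁆ ∈ Subgroup.closure ({w, v} : Set ↥P) := by
            rw [← hsq]
            exact Subgroup.pow_mem _ (Subgroup.mul_mem _ (Subgroup.subset_closure (by simp))
              (Subgroup.subset_closure (by simp))) 2
          have hgen' : Subgroup.zpowers ⁅w, v⁆ = Subgroup.zpowers x :=
            Subgroup.eq_of_le_of_card_ge (Subgroup.zpowers_le.mpr (hcomm w v)) (by
              rw [Nat.card_zpowers, Nat.card_zpowers, hco, orderOf_eq_prime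
                (orderOf_dvd_iff_pow_eq_one.mp (hge.2 ▸ Subgroup.orderOf_dvd_natCard _
                  (hgen ▸ hcomm w v))) hwvne])
          exact Subgroup.zpowers_le.mpr hin (hgen'.ge (Subgroup.mem_zpowers x))
        · exact Subgroup.subset_closure (by simp)
        · exact Subgroup.subset_closure (by simp)
      obtain ⟨d⟩ := Invol.nonempty_dihedralEquiv_pair hw2 hv2
      rw [h4, hcl] at d
      exact h2 rfl ⟨Shrink.{0} ↥A, inferInstance, hApow,
        ⟨eEA.trans (MulEquiv.prodCongr d.symm Shrink.mulEquiv.symm)⟩⟩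
    · have hEp : ∀ g ∈ E, g ^ p = 1 := by
        intro g hg
        rw [hEdef] at hg
        induction hg using Subgroup.closure_induction with
        | mem x hx =>
          rcases hx with rfl | rfl | rfl
          · exact hco ▸ pow_orderOf_eq_one x
          · exact hwp
          · exact hvp
        | one => exact one_pow p
        | mul a b _ _ ha hb =>
          have hz : ⁅b⁻¹, a⁻¹⁆ ∈ Subgroup.center ↥P := Subgroup.zpowers_le.mpr hcc (hcomm _ _)
          have hrel : b * a = a * b * ⁅b⁻¹, a⁻¹⁆ := by rw [commutatorElement_def]; group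
          obtain ⟨r, hr⟩ : 2 ∣ p - 1 := ((Fact.out : p.Prime).even_sub_one hp2).two_dvd
          have hzp : ⁅b⁻¹, a⁻¹⁆ ^ p = 1 := orderOf_dvd_iff_pow_eq_one.mp
            (hge.2 ▸ Subgroup.orderOf_dvd_natCard _ (hgen ▸ hcomm _ _))
          rw [Coprime23.mul_pow_of_central hrel (Subgroup.mem_center_iff.mp hz b).symm
            (Subgroup.mem_center_iff.mp hz a).symm, ha, hb, one_mul, one_mul, hr, mul_left_comm,
            Nat.mul_div_cancel_left _ (by norm_num), pow_mul, hzp, one_pow]
        | inv a _ ha => rw [inv_pow, ha, inv_one]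
      have hcE : c ∈ E := hEdef ▸ Subgroup.subset_closure (by simp)
      have hwE : w ∈ E := hEdef ▸ Subgroup.subset_closure (by simp)
      have hvE : v ∈ E := hEdef ▸ Subgroup.subset_closure (by simp)
      let σ : Shrink.{0} ↥E ≃* ↥E := Shrink.mulEquiv
      have hcen : Subgroup.center ↥E = Subgroup.zpowers ⟨c, hcE⟩ := by
        refine le_antisymm (fun g hg => ?_) (Subgroup.zpowers_le.mpr
          (Subgroup.mem_center_iff.mpr fun g => Subtype.ext (Subgroup.mem_center_iff.mp hcc g)))
        have hgw : Commute (g : ↥P) w :=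
          (congrArg Subtype.val (Subgroup.mem_center_iff.mp hg ⟨w, hwE⟩)).symm
        have hgv : Commute (g : ↥P) v :=
          (congrArg Subtype.val (Subgroup.mem_center_iff.mp hg ⟨v, hvE⟩)).symm
        obtain ⟨i, hi⟩ := Subgroup.mem_zpowers_iff.mp (hEcen g g.2
          (Subgroup.mem_center_iff.mpr fun h => by
            obtain ⟨n, hn⟩ := Fusion.exists_pow_mul_commute hcc hco hcomm hvw h
            have := (hgv.pow_right n).mul_right (hMc g _ hgw hn)
            rw [mul_inv_cancel_left] at this
            exact this.eq.symm))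
        exact Subgroup.mem_zpowers_iff.mpr ⟨i, Subtype.ext hi⟩
      have hpre : Invol.ExtraPairs.Pre p (Shrink.{0} ↥E) (σ.symm ⟨c, hcE⟩) := by
        refine ⟨by rw [MulEquiv.orderOf_eq, ← Subgroup.orderOf_coe, hco], ?_, fun a b => ?_, fun a => ?_⟩
        · ext x
          constructor
          · intro hx
            obtain ⟨i, hi⟩ := Subgroup.mem_zpowers_iff.mp (hcen.le (show σ x ∈ Subgroup.center ↥E from
              Subgroup.mem_center_iff.mpr fun g => by
                have := congrArg σ (Subgroup.mem_center_iff.mp hx (σ.symm g))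
                simpa using this))
            exact Subgroup.mem_zpowers_iff.mpr ⟨i, by rw [← map_zpow, hi, MulEquiv.symm_apply_apply]⟩
          · intro hx
            obtain ⟨i, rfl⟩ := Subgroup.mem_zpowers_iff.mp hx
            refine Subgroup.mem_center_iff.mpr fun g => σ.injective ?_
            rw [map_mul, map_mul, map_zpow, MulEquiv.apply_symm_apply]
            exact Subgroup.mem_center_iff.mp
              (hcen.ge (Subgroup.zpow_mem _ (Subgroup.mem_zpowers _) i)) _
        · obtain ⟨i, hi⟩ := Subgroup.mem_zpowers_iff.mp (hcomm (σ a : ↥P) (σ b : ↥P))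
          refine Subgroup.mem_zpowers_iff.mpr ⟨i, σ.injective (Subtype.ext ?_)⟩
          rw [map_zpow, MulEquiv.apply_symm_apply, Subgroup.coe_zpow, hi, map_commutatorElement]
          rfl
        · refine ⟨0, σ.injective (Subtype.ext ?_)⟩
          show ((σ ((σ.symm ⟨c, hcE⟩) ^ (0 : ℤ)) : ↥E) : ↥P) = ((σ (a ^ p) : ↥E) : ↥P)
          rw [map_pow, Subgroup.coe_pow, hEp _ (σ a).2, zpow_zero, map_one, Subgroup.coe_one]
      have hcardE : Nat.card (Shrink.{0} ↥E) = p ^ 3 := by rw [Nat.card_congr σ.toEquiv, hEcard]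
      have hexp : Monoid.exponent (Shrink.{0} ↥E) = p := by
        refine ((Nat.dvd_prime Fact.out).mp (Monoid.exponent_dvd_of_forall_pow_eq_one fun g =>
          σ.injective (Subtype.ext (by
            rw [map_pow, Subgroup.coe_pow, hEp _ (σ g).2, map_one, Subgroup.coe_one])))).resolve_left ?_
        intro h
        have h1 := Monoid.pow_exponent_eq_one (σ.symm ⟨c, hcE⟩)
        rw [h, pow_one] at h1
        exact hc1 (congrArg Subtype.val (σ.symm.injective (h1.trans (map_one σ.symm).symm)))
      exact hodd hp2 ⟨Shrink.{0} ↥E, inferInstance, Shrink.{0} ↥A, inferInstance,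
        hpre.extraspecial (by
          rw [hcardE]
          exact fun h => absurd (Nat.pow_right_injective (Fact.out : p.Prime).two_le
            (h.trans (pow_one p).symm)) (by norm_num)),
        hcardE, hexp, hApow, ⟨eEA.trans (MulEquiv.prodCongr σ.symm Shrink.mulEquiv.symm)⟩⟩

end Cfsg.Agent.S5233
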