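import Cfsg.Statements.S5236
import Cfsg.Agent.Lib.Fusion.OmegaSeries

set_option autoImplicit false
open Cfsg

namespace Cfsg.Agent.S5236

/-- Let p be an odd prime, F a saturated fusion system over a finite p-group S and P a subgroup of S strongly closed in F. Then P is normal in F if and only if Ω₁(P) (the subgroup generated by the elements of order p of P) has a chain of subgroups 1 = Q₀ ≤ Q₁ ≤ ⋯ ≤ Qₙ = Ω₁(P), each strongly closed in F, with [Qᵢ₊₁, P] ≤ Qᵢ for all i. -/
theorem result {Ω : Type*} [Group Ω] {S : Subgroup Ω} [Finite S] (p : ℕ) [Fact p.Prime] (hS : IsPGroup p S) (F : Cfsg.FusionSystem S) (hF : F.IsSaturated p) (hp : p ≠ 2) (P : Subgroup Ω) (hP : F.StronglyClosed P) : F.IsNormal P ↔ ∃ (n : ℕ) (Q : Fin (n + 1) → Subgroup Ω), Q 0 = ⊥ ∧ Q (Fin.last n) = Cfsg.omegaOne p P ∧ Monotone Q ∧ (∀ i : Fin (n + 1), F.StronglyClosed (Q i)) ∧ ∀ i : Fin n, ⁅Q i.succ, P⁆ ≤ Q i.castSucc := by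
  constructor
  · intro hN
    have := Fusion.finite_of_le hP.1
    obtain ⟨n, h0, hn, hmono, hnormal, hstep⟩ := Fusion.exists_normal_series hS hN
    have hΩP : Cfsg.omegaOne p P ≤ P := (Subgroup.closure_le _).mpr fun x hx => hx.1
    have hΩ : F.IsNormal (Cfsg.omegaOne p P) := by
      refine Fusion.isNormal_of_char hN hΩP (Subgroup.characteristic_iff_le_comap.mpr fun φ => ?_)
      have key : ∀ x ∈ Cfsg.omegaOne p P, ∀ h : x ∈ P,
          ((φ ⟨x, h⟩ : P) : Ω) ∈ Cfsg.omegaOne p P := by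
        intro x hx
        induction hx using Subgroup.closure_induction with
        | mem x hx =>
          intro h
          refine Subgroup.subset_closure ⟨(φ _).2, ?_⟩
          rw [← Subgroup.coe_pow, ← map_pow, show (⟨x, h⟩ : P) ^ p = 1 from Subtype.ext hx.2,
            map_one, Subgroup.coe_one]
        | one => intro h; rw [show (⟨1, h⟩ : P) = 1 from rfl, map_one]; exact Subgroup.one_mem _
        | mul x y hx hy ihx ihy =>
          intro h
          rw [show (⟨x * y, h⟩ : P) = ⟨x, hΩP hx⟩ * ⟨y, hΩP hy⟩ from rfl, map_mul,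
            Subgroup.coe_mul]
          exact Subgroup.mul_mem _ (ihx _) (ihy _)
        | inv x hx ih =>
          intro h
          rw [show (⟨x⁻¹, h⟩ : P) = (⟨x, hΩP hx⟩ : P)⁻¹ from rfl, map_inv, Subgroup.coe_inv]
          exact Subgroup.inv_mem _ (ih _)
      exact fun x hx => key x hx x.2
    refine ⟨n, fun i => Cfsg.omegaOne p P ⊓ Fusion.ucs P i, ?_, ?_, fun i j hij => ?_, fun i => ?_,
      fun i => ?_⟩
    · simp [h0]
    · simp [hn, hΩP]
    · exact inf_le_inf_left _ (hmono hij)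
    · exact Fusion.StronglyClosed.inf (Fusion.IsNormal.stronglyClosed hΩ)
        (Fusion.IsNormal.stronglyClosed (hnormal i))
    · refine Subgroup.commutator_le.mpr fun x hx k hk => ?_
      have hx' : x⁻¹ ∈ Cfsg.omegaOne p P ⊓ Fusion.ucs P ((i : ℕ) + 1) := Subgroup.inv_mem _ hx
      rw [commutatorElement_def,
        show x * k * x⁻¹ * k⁻¹ = x⁻¹⁻¹ * (k * x⁻¹ * k⁻¹) by group]
      refine ⟨Subgroup.mul_mem _ (Subgroup.inv_mem _ hx'.1) ?_, hstep _ _ hx'.2 k hk⟩
      exact Fusion.StronglyClosed.conj_mem (Fusion.IsNormal.stronglyClosed hΩ) (hP.1 hk) hx'.1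
  · rintro ⟨n, Q, h0, hn, -, hsc, hstep⟩
    refine Fusion.isNormal_of_omega_series hS hF hp hP Q h0 (fun x hx hxp => ?_) hsc
      fun i x hx k hk => ?_
    · rw [hn]; exact Subgroup.subset_closure ⟨hx, hxp⟩
    · exact Fusion.comm_mem_of_commutator_le ((Subgroup.commutator_comm _ _).le.trans (hstep i)) hx hk

end Cfsg.Agent.S5236
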