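import Cfsg.Statements.S5238
import Cfsg.Agent.Lib.FGB.MaxClassGenerators
import Cfsg.Agent.Lib.FGB.MaxClassFusion
import Cfsg.Agent.S4143
import Cfsg.Agent.S0112

set_option autoImplicit false
open Cfsg

namespace Cfsg.Agent.S5238

open Subgroup in
theorem class_eq {Ω : Type*} [Group Ω] {S : Subgroup Ω} [Finite S] (p : ℕ) [Fact p.Prime] (F : Cfsg.FusionSystem S)
    (E : Subgroup Ω) (hE : F.IsEssential p E)
    (hpearl : (Nat.card E = p ^ 2 ∧ ∀ x ∈ E, x ^ p = 1 ∧ IsMulCommutative ↥E) ∨
      (Nat.card E = p ^ 3 ∧ ¬ IsMulCommutative ↥E)) (n : ℕ) (hn : Nat.card S = p ^ n) :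
    Group.nilpotencyClass S = n - 1 := by
  have hES : E ≤ S := hE.1.1
  have hcard := Nat.card_congr (Subgroup.subgroupOfEquivOfLe hES).toEquiv
  have hc : Subgroup.centralizer ((E.subgroupOf S : Subgroup S) : Set S) ≤ E.subgroupOf S := by
    intro x hx
    refine Fusion.centralizerIn_le_of_isCentric hE.1 (Fusion.mem_centralizerIn.2 ⟨x.2, fun y hy => ?_⟩)
    exact congrArg Subtype.val (Subgroup.mem_centralizer_iff.1 hx ⟨y, hES hy⟩ hy)
  rcases hpearl with ⟨hc2, hab⟩ | ⟨hc3, hna⟩
  · refine S0112.result n hn (E.subgroupOf S) (hcard.trans hc2) (le_antisymm hc fun x hx => ?_)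
    rw [Subgroup.mem_centralizer_iff]
    intro y hy
    have h1 := (hab (x : Ω) hx).2.is_comm.comm (⟨(y : Ω), hy⟩ : E) ⟨(x : Ω), hx⟩
    exact Subtype.ext (by simpa using congrArg Subtype.val h1)
  · refine S4143.result n hn (E.subgroupOf S) (hcard.trans hc3) (fun hab => hna ⟨⟨fun a b => ?_⟩⟩) hc
    have h1 := hab.is_comm.comm (⟨⟨(a : Ω), hES a.2⟩, a.2⟩ : E.subgroupOf S) ⟨⟨(b : Ω), hES b.2⟩, b.2⟩
    exact Subtype.ext (by simpa using congrArg (fun z : E.subgroupOf S => ((z : S) : Ω)) h1)

/-- Let p be an odd prime and F a saturated fusion system over a finite p-group S having a pearl: an F-essential subgroup E that is elementary abelian of order p² or nonabelian of order p³. Then S has maximal nilpotency class (if S has order pⁿ with n ≥ 3, the term of index n − 2 of its lower central series, counting S itself as the term of index 0, is nontrivial), and every subgroup of S can be generated by at most p elements (the sectional rank of S is at most p). -/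
theorem result {Ω : Type*} [Group Ω] {S : Subgroup Ω} [Finite S] (p : ℕ) [Fact p.Prime] (hS : IsPGroup p S) (F : Cfsg.FusionSystem S) (hF : F.IsSaturated p) (hp : p ≠ 2) (E : Subgroup Ω) (hE : F.IsEssential p E) (hpearl : (Nat.card E = p ^ 2 ∧ ∀ x ∈ E, x ^ p = 1 ∧ IsMulCommutative ↥E) ∨ (Nat.card E = p ^ 3 ∧ ¬ IsMulCommutative ↥E)) : (∀ n : ℕ, Nat.card S = p ^ n → 3 ≤ n → Subgroup.lowerCentralSeries S (n - 2) ≠ ⊥) ∧ ∀ H : Subgroup Ω, H ≤ S → ∃ T : Finset Ω, T.card ≤ p ∧ Subgroup.closure (T : Set Ω) = H := by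
  haveI := hS.isNilpotent
  have hcl := class_eq p F E hE hpearl
  refine ⟨fun n hn h3 hbot => ?_, fun H hH => ?_⟩
  · refine (FGB.MaxClass.isMax_of_class (by omega) hn (hcl n hn)).ne_bot ?_
    refine (Subgroup.map_eq_bot_iff_of_injective _ S.subtype_injective).1 ?_
    rw [Subgroup.map_lowerCentralSeries, ← MonoidHom.range_eq_map, Subgroup.range_subtype, hbot]
  · classical
    obtain ⟨n, hn⟩ := hS.exists_card_eq
    have hrel : (Subgroup.closure {y : S | ∃ x ∈ H.subgroupOf S, y = x ^ p}).relIndex (H.subgroupOf S) ≤ p ^ p := by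
      rcases Nat.lt_or_ge p n with hlt | hge
      · exact (FGB.MaxClass.isMax_of_class (by have := (Fact.out : p.Prime).two_le; omega) hn (hcl n hn)).relIndex_le _
      · refine (Nat.le_of_dvd Nat.card_pos (Subgroup.relIndex_dvd_card _ _)).trans ?_
        refine (Nat.le_of_dvd Nat.card_pos (Subgroup.card_subgroup_dvd_card _)).trans ?_
        rw [hn]
        exact Nat.pow_le_pow_right (Fact.out : p.Prime).pos hge
    obtain ⟨T, hT, hTH⟩ := FGB.MaxClass.exists_generators_of_relIndex hS (H.subgroupOf S) hrel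
    refine ⟨T.image S.subtype, Finset.card_image_le.trans hT, ?_⟩
    rw [Finset.coe_image, ← MonoidHom.map_closure, hTH, Subgroup.map_subgroupOf_eq_of_le hH]

end Cfsg.Agent.S5238
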