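import Cfsg.Statements.S5243
import Cfsg.Agent.Lib.Fusion.NormalTwistMain

set_option autoImplicit false
open Cfsg

namespace Cfsg.Agent.S5243

/-- Let F be a saturated fusion system over a finite p-group S, E a normal subsystem of F over T ≤ S, and χ a surjective homomorphism from Aut_F(T) onto a nontrivial finite group Δ of order prime to p whose kernel contains Aut_E(T). Then there is a proper normal subsystem F₀ of F over S containing E such that Aut_{F₀}(S) consists of those α ∈ Aut_F(S) whose restriction to T is an element of Aut_F(T) in the kernel of χ; moreover every p'-residual subsystem O^{p'}(F) of F is contained in F₀. -/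
theorem result {Ω : Type*} [Group Ω] {S : Subgroup Ω} [Finite S] (p : ℕ) [Fact p.Prime] (hS : IsPGroup p S) (F : Cfsg.FusionSystem S) (hF : F.IsSaturated p) {T : Subgroup Ω} (hTS : T ≤ S) (E : Cfsg.FusionSystem T) (hE : E.IsNormalIn F p) {Δ : Type*} [Group Δ] [Finite Δ] [Nontrivial Δ] (hΔ : (Nat.card Δ).Coprime p) (χ : ↥(F.autGroup T) →* Δ) (hχ : Function.Surjective χ) (hker : (E.autGroup T).subgroupOf (F.autGroup T) ≤ χ.ker) : ∃ F₀ : Cfsg.FusionSystem S, F₀.IsNormalIn F p ∧ ¬ (∀ P : Subgroup Ω, F₀.Hom P = F.Hom P) ∧ E.IsSubsystemOf F₀ ∧ (∀ α : MulAut ↥S, α ∈ F₀.autGroup S ↔ α ∈ F.autGroup S ∧ ∃ β : ↥(F.autGroup T), χ β = 1 ∧ ∀ t : ↥T, (((β : MulAut ↥T) t : ↥T) : Ω) = ((α ⟨(t : Ω), hTS t.2⟩ : ↥S) : Ω)) ∧ ∀ R : Cfsg.FusionSystem S, F.IsPPrimeResidual p R → R.IsSubsystemOf F₀ := by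
  have hΔfin : Finite ↥(F.autGroup T) := by
    have := Cfsg.Agent.Fusion.finite_of_le hTS
    have := Cfsg.Agent.Fusion.finite_mulAut ↥T
    infer_instance
  set K : Subgroup (MulAut ↥T) := χ.ker.map (F.autGroup T).subtype with hKd
  have hmem : ∀ a, a ∈ K ↔ ∃ β : ↥(F.autGroup T), χ β = 1 ∧ (β : MulAut ↥T) = a := fun a =>
    ⟨fun ⟨b, hb, h⟩ => ⟨b, hb, h⟩, fun ⟨b, hb, h⟩ => ⟨b, hb, h⟩⟩
  have hK : Cfsg.Agent.Fusion.TwistSub F p E K := by
    refine ⟨Subgroup.map_subtype_le _, ?_, ?_, ?_⟩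
    · rintro a ha _ ⟨k, hk, rfl⟩
      exact ⟨⟨a, ha⟩ * k * ⟨a, ha⟩⁻¹, (inferInstance : χ.ker.Normal).conj_mem k hk _, rfl⟩
    · intro a ha k hk
      refine ⟨⟨a, ha⟩, ?_, rfl⟩
      have h1 : χ ⟨a, ha⟩ ^ p ^ k = 1 := by
        rw [← map_pow]
        convert map_one χ
        exact Subtype.ext hk
      refine orderOf_eq_one_iff.mp (Nat.eq_one_of_dvd_coprimes ((Nat.Coprime.pow_left k hΔ.symm))
        (orderOf_dvd_of_pow_eq_one h1) (orderOf_dvd_natCard _))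
    · intro a ha
      exact ⟨⟨a, Cfsg.Agent.Fusion.IsSubsystemOf.autGroup_le hE.1.2.2.1 T ha⟩, hker ha, rfl⟩
  have hne : ¬ F.autGroup T ≤ K := by
    intro hle
    obtain ⟨d, hd⟩ := exists_ne (1 : Δ)
    obtain ⟨β, rfl⟩ := hχ d
    obtain ⟨b, hb, hbe⟩ := (hmem _).mp (hle β.2)
    exact hd (by rw [← Subtype.ext hbe]; exact hb)
  obtain ⟨F₀, h1, h2, h3, h4, h5⟩ := Cfsg.Agent.Fusion.exists_twisted hS hE.1 hK hne
  refine ⟨F₀, h1, h2, h3, fun α => (h4 α).trans (and_congr_right fun _ => ?_), h5⟩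
  constructor
  · rintro ⟨_, ⟨β, hβ, rfl⟩, h⟩
    refine ⟨β, hβ, fun t => ?_⟩
    rw [← Cfsg.Agent.Fusion.autFun_apply α (hTS t.2), h t t.2, Cfsg.Agent.Fusion.autFun_coe]
    rfl
  · rintro ⟨β, hβ, h⟩
    refine ⟨β, ⟨β, hβ, rfl⟩, fun t ht => ?_⟩
    rw [Cfsg.Agent.Fusion.autFun_apply α (hTS ht), Cfsg.Agent.Fusion.autFun_apply _ ht]
    exact (h ⟨t, ht⟩).symm

end Cfsg.Agent.S5243
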