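import Cfsg.Statements.S5251
import Cfsg.Agent.Lib.Fusion.Generation
import Cfsg.Agent.Lib.Fusion.Invariant
import Cfsg.Agent.Lib.Fusion.NormalCriteria

set_option autoImplicit false
open Cfsg

namespace Cfsg.Agent.S5251

/-- Let F be a saturated fusion system over a finite p-group S, E a normal subsystem of F over T, and P an F-centric subgroup of S such that P ∩ T is not E-centric. Then some F-conjugate P* of P satisfies Out_S(P*) ∩ O_p(Out_F(P*)) ≠ 1: there is an element of N_S(P*) outside P* whose conjugation action on P* lies in O_p(Aut_F(P*)). In particular P is not both centric and radical in F. -/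
theorem result {Ω : Type*} [Group Ω] {S : Subgroup Ω} [Finite S] (p : ℕ) [Fact p.Prime] (hS : IsPGroup p S) (F : Cfsg.FusionSystem S) (hF : F.IsSaturated p) {T : Subgroup Ω} (E : Cfsg.FusionSystem T) (hE : E.IsNormalIn F p) (P : Subgroup Ω) (hP : F.IsCentric P) (hPT : ¬ E.IsCentric (P ⊓ T)) : (∃ φ ∈ F.Hom P, ∃ x ∈ S ⊓ Subgroup.normalizer (φ.range : Set Ω), x ∉ φ.range ∧ ∃ α ∈ ((Cfsg.pCore p ↥(F.autGroup φ.range)).map (F.autGroup φ.range).subtype : Subgroup (MulAut ↥φ.range)), ∀ y : ↥φ.range, ((α y : ↥φ.range) : Ω) = x * (y : Ω) * x⁻¹) ∧ ¬ F.IsRadical p P := by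
  classical
  obtain ⟨⟨hEs, -, hEi⟩, -⟩ := hE
  have hTS : T ≤ S := hEi.2.1.1
  have hPS : P ≤ S := hP.1
  have hTn : S ≤ Subgroup.normalizer (T : Set Ω) := Fusion.StronglyClosed.le_normalizer hEi.2.1
  set R₀ := P ⊓ T with hR₀
  haveI := Fusion.finite_of_le hTS
  haveI := Fusion.finite_of_le hPS
  have hR₀S : R₀ ≤ S := inf_le_left.trans hPS
  -- a conjugate of `P ∩ T` in `E` violating centricity
  obtain ⟨R', hR', hR'n⟩ : ∃ R', E.IsConj R₀ R' ∧ ¬ Cfsg.FusionSystem.centralizerIn T R' ≤ R' := by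
    by_contra h
    push Not at h
    exact hPT ⟨inf_le_right, h⟩
  obtain ⟨R, hconj, hRfn⟩ := Fusion.exists_isFullyNormalized (F := F) hR₀S
  obtain ⟨f, hf, hfR⟩ := Fusion.exists_isStd hS hF hRfn hconj
  have hPN : P ≤ Cfsg.FusionSystem.normalizerIn S R₀ := fun x hx => ⟨hPS hx, by
    haveI := Fusion.finite_of_le hR₀S
    refine Fusion.mem_normalizer_of_forall fun y hy => ⟨P.mul_mem (P.mul_mem hx hy.1) (P.inv_mem hx), ?_⟩
    exact Fusion.StronglyClosed.conj_mem hEi.2.1 (hPS hx) hy.2⟩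
  have hfP := hf.restrict hPN
  -- the centralizer of the image is not contained in it
  have hRn : ¬ Cfsg.FusionSystem.centralizerIn T R ≤ R := by
    intro hle
    have hR'R : F.IsConj R' R := Fusion.isConj_trans
      (Fusion.isConj_symm (Fusion.IsSubsystemOf.isConj hEi.1 hR')) hconj
    obtain ⟨g, hg, hgR⟩ := Fusion.isConj_iff.mp hR'R
    obtain ⟨g', hg', hg'g⟩ := (Fusion.isReceptive_iff.mp
      (Fusion.isReceptive_of_isFullyNormalized hS hF hRfn)).2 R' g hg hgR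
    refine hR'n fun c hc => ?_
    have hcS : c ∈ Cfsg.FusionSystem.centralizerIn S R' :=
      Fusion.mem_centralizerIn.mpr ⟨hTS hc.1, (Fusion.mem_centralizerIn.mp hc).2⟩
    have hcE := Fusion.centralizerIn_le_extSub hg hcS
    have hgc : g' c ∈ Cfsg.FusionSystem.centralizerIn T R := Fusion.mem_centralizerIn.mpr
      ⟨Fusion.StronglyClosed.map_mem hEi.2.1 hg' hcE hc.1, fun y hy => by
        obtain ⟨z, hz, rfl⟩ := (hg.mem_img_iff le_rfl).mp (hgR.ge hy)
        rw [← hg'g z hz, ← hg'.map_mul (Fusion.le_extSub hg hz) hcE,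
          ← hg'.map_mul hcE (Fusion.le_extSub hg hz), (Fusion.mem_centralizerIn.mp hc).2 z hz]⟩
    obtain ⟨z, hz, hzc⟩ := (hg.mem_img_iff le_rfl).mp (hgR.ge (hle hgc))
    rw [← hg'g z hz] at hzc
    exact hg'.inj (Fusion.le_extSub hg hz) hcE hzc ▸ hz
  set Q := Fusion.img f P with hQdef
  have hQS : Q ≤ S := hfP.img_le
  haveI := Fusion.finite_of_le hQS
  have hQT : Q ⊓ T = R := by
    rw [← hfR]
    refine le_antisymm ?_ (Fusion.img_le_of_forall fun y hy =>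
      ⟨Fusion.mem_img_of_mem hy.1, Fusion.StronglyClosed.map_mem hEi.2.1 hfP hy.1 hy.2⟩)
    rintro y ⟨hyQ, hyT⟩
    obtain ⟨k, hk, hkf, hfk, -⟩ := hfP.exists_iso_inverse
    obtain ⟨x, hx, rfl⟩ := (hfP.mem_img_iff le_rfl).mp hyQ
    refine Fusion.mem_img_of_mem ⟨hx, ?_⟩
    have := Fusion.StronglyClosed.map_mem hEi.2.1 hk hyQ hyT
    rwa [hkf x hx] at this
  set C := Cfsg.FusionSystem.centralizerIn T R with hC
  have hRT : R ≤ T := hQT ▸ inf_le_right
  have hQC : Q ≤ Subgroup.normalizer (C : Set Ω) := by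
    intro x hx
    haveI : Finite C := Fusion.finite_of_le (inf_le_left.trans hTS)
    refine Fusion.mem_normalizer_of_forall fun y hy => Fusion.mem_centralizerIn.mpr
      ⟨Fusion.StronglyClosed.conj_mem hEi.2.1 (hQS hx) hy.1, fun r hr => ?_⟩
    have hr' : x⁻¹ * r * x ∈ R := by
      rw [← hQT] at hr ⊢
      refine ⟨Q.mul_mem (Q.mul_mem (Q.inv_mem hx) hr.1) hx, ?_⟩
      simpa using Fusion.StronglyClosed.conj_mem hEi.2.1 (S.inv_mem (hQS hx)) hr.2
    have h1 := (Fusion.mem_centralizerIn.mp hy).2 _ hr'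
    calc r * (x * y * x⁻¹) = x * ((x⁻¹ * r * x) * y) * x⁻¹ := by group
      _ = x * y * x⁻¹ * r := by rw [h1]; group
  obtain ⟨k, hkC, hkQ, hkN⟩ := Fusion.exists_mem_normalizer_not_mem hS hQS
    (inf_le_left.trans hTS : C ≤ S) hQC fun h => hRn fun c hc => hQT ▸ ⟨h hc, hc.1⟩
  -- it stabilizes the series `1 ≤ Q ∩ T ≤ Q`
  let c : Fin (2 + 1) → Subgroup Ω := ![⊥, R, Q]
  have hRQ : R ≤ Q := hQT ▸ inf_le_left
  have hle : ∀ i, c i ≤ Q := by
    intro i
    fin_cases i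
    · exact bot_le
    · exact hRQ
    · exact le_rfl
  have hinv : ∀ i, ∀ α ∈ F.autGroup Q, ∀ x ∈ c i, Fusion.autFun α x ∈ c i := by
    intro i α hα x hx
    fin_cases i
    · have hx1 : x = 1 := Subgroup.mem_bot.mp hx
      subst hx1
      exact Subgroup.mem_bot.mpr (Fusion.mapTo_of_mem_autGroup hQS hα).map_one
    · show Fusion.autFun α x ∈ R
      have hx' : x ∈ Q ⊓ T := hQT.ge hx
      exact hQT.le ⟨Fusion.autFun_mem α hx'.1, Fusion.StronglyClosed.map_mem hEi.2.1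
        (Fusion.mapTo_of_mem_autGroup hQS hα) hx'.1 hx'.2⟩
    · exact Fusion.autFun_mem α hx
  obtain ⟨γ, hγ⟩ := Fusion.exists_conjAut hkN.2
  have hγA : γ ∈ Cfsg.autInducedBy S Q := Fusion.mem_autInducedBy_iff_cj.mpr ⟨k, hkN.1, hγ⟩
  set K := Fusion.stabSeries F c hle hinv with hK
  haveI := Fusion.finite_mulAut Q
  have hKp : IsPGroup p K :=
    Fusion.isPGroup_stabilizer_series (hS.to_le hQS) c rfl rfl hle K fun α hα => hα.2
  have hstab : ∀ i : Fin 2, ∀ x ∈ c i.succ, x⁻¹ * (k * x * k⁻¹) ∈ c i.castSucc := by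
    intro i x hx
    fin_cases i
    · refine Subgroup.mem_bot.mpr ?_
      rw [← (Fusion.mem_centralizerIn.mp hkC).2 x hx]
      group
    · show x⁻¹ * (k * x * k⁻¹) ∈ R
      have hxQ : x ∈ Q := hx
      refine hQT.le ⟨Q.mul_mem (Q.inv_mem hxQ)
        ((Subgroup.mem_normalizer_iff.mp hkN.2 x).mp hxQ), ?_⟩
      rw [show x⁻¹ * (k * x * k⁻¹) = (x⁻¹ * k * x⁻¹⁻¹) * k⁻¹ by group]
      exact T.mul_mem (Fusion.StronglyClosed.conj_mem hEi.2.1 (S.inv_mem (hQS hxQ)) hkC.1)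
        (T.inv_mem hkC.1)
  have hnorm : (K.subgroupOf (F.autGroup Q)).Normal := by
    refine ⟨fun β hβ α => ⟨Subgroup.mul_mem _ (Subgroup.mul_mem _ α.2 hβ.1) (Subgroup.inv_mem _ α.2),
      fun i x hx => ?_⟩⟩
    show x⁻¹ * Fusion.autFun ((α : MulAut Q) * (β : MulAut Q) * (α : MulAut Q)⁻¹) x ∈ _
    have hz := hinv _ _ (Subgroup.inv_mem _ α.2) x hx
    set z := Fusion.autFun (α : MulAut Q)⁻¹ x with hzdef
    have hzP := hle _ hz
    have hw := hinv _ _ α.2 _ (hβ.2 i z hz)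
    rw [Fusion.autFun_mul _ _ (hle _ hx), Fusion.autFun_mul _ _ (Fusion.autFun_mem _ (hle _ hx))]
    convert hw using 1
    have hm := Fusion.mapTo_of_mem_autGroup hQS α.2
    show x⁻¹ * Fusion.autFun (α : MulAut Q) (Fusion.autFun (β : MulAut Q) z) = _
    rw [hm.map_mul (Q.inv_mem hzP) (Fusion.autFun_mem _ hzP), hm.map_inv hzP, hzdef,
      Fusion.autFun_autFun_inv _ (hle _ hx)]
    rfl
  have hγK : γ ∈ K := ⟨Fusion.autInducedBy_le_autGroup hQS hγA, fun i x hx => by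
    rw [hγ x (hle _ hx)]; exact hstab i x hx⟩
  have hKle : K ≤ F.autGroup Q := fun α hα => hα.1
  haveI := hnorm
  have hcore : (⟨γ, hKle hγK⟩ : F.autGroup Q) ∈ Cfsg.pCore p (F.autGroup Q) :=
    Fusion.le_pCore hnorm (hKp.comap_of_injective _ (Subgroup.subtype_injective _)) hγK
  obtain ⟨φ, hφ, hφf⟩ := hfP
  have hφQ : φ.range = Q := Fusion.range_eq_img hφf
  refine ⟨⟨φ, hφ, k, ?_, ?_, ?_⟩, fun hrad => hkQ ?_⟩
  · rw [hφQ]; exact ⟨hkN.1, hkN.2⟩
  · rw [hφQ]; exact hkQ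
  · rw [hφQ]
    exact ⟨γ, ⟨⟨γ, hKle hγK⟩, hcore, rfl⟩, fun y => by
      rw [← Fusion.autFun_coe γ y]; exact hγ y y.2⟩
  -- transport to `P`
  have hfP' : Fusion.MapTo F P f := ⟨φ, hφ, hφf⟩
  set e := MulAut.congr (Fusion.isoEquiv hfP' rfl) with he
  have hmap := Fusion.map_congr_autGroup hfP' (rfl : Fusion.img f P = Q)
  haveI := Fusion.finite_mulAut P
  let e' : F.autGroup P →* F.autGroup Q :=
    (e.toMonoidHom.comp (F.autGroup P).subtype).codRestrict _ fun a => hmap.le ⟨a, a.2, rfl⟩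
  have he'inj : Function.Injective e' := fun a b hab =>
    Subtype.ext (e.injective (congrArg Subtype.val hab))
  obtain ⟨a, ha, hae⟩ := hmap.ge (hKle hγK)
  have hmem : (⟨a, ha⟩ : F.autGroup P) ∈ (K.subgroupOf (F.autGroup Q)).comap e' := by
    show e a ∈ K
    rw [show e a = γ from hae]; exact hγK
  have hinn : a ∈ Cfsg.Inn P := by
    rw [← hrad.2]
    refine ⟨⟨a, ha⟩, Fusion.le_pCore inferInstance ?_ hmem, rfl⟩
    exact (hKp.comap_of_injective _ (Subgroup.subtype_injective _)).comap_of_injective _ he'inj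
  rw [Fusion.inn_eq_autInducedBy, Fusion.mem_autInducedBy_iff_cj] at hinn
  obtain ⟨w, hw, hwa⟩ := hinn
  refine Fusion.mem_of_cj_mem_inn
    (Fusion.centralizerIn_le_of_isCentric (Fusion.isCentric_of_isConj hP
      (Fusion.isConj_iff.mpr ⟨f, hfP', rfl⟩))) hkN.1 hγ ?_ hQS
  rw [Fusion.inn_eq_autInducedBy, Fusion.mem_autInducedBy_iff_cj]
  refine ⟨f w, Fusion.mem_img_of_mem hw, fun y hy => ?_⟩
  obtain ⟨x, hx, rfl⟩ := (hfP'.mem_img_iff le_rfl).mp hy
  rw [← hae]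
  show Fusion.autFun (MulAut.congr (Fusion.isoEquiv hfP' rfl) a) (f x) = _
  rw [Fusion.autFun_congr hfP' rfl a hx, hwa x hx, Fusion.cj_apply, Fusion.cj_apply,
    hfP'.map_conj hw hx]

end Cfsg.Agent.S5251
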