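import Cfsg.Statements.S5253
import Cfsg.Agent.Lib.Fusion.CenterJ

set_option autoImplicit false
universe u
open Cfsg

namespace Cfsg.Agent.S5253

open Subgroup Cfsg.Agent.Transfer
open scoped commutatorElement Pointwise IsMulCommutative
theorem map_functor {p : ℕ} {W : ∀ (Q : Type u) [Group Q], Subgroup Q}
    (hW2 : ∀ (Q R : Type u) [Group Q] [Group R] [Finite Q], IsPGroup p Q → ∀ φ : Q ≃* R, (W Q).map φ.toMonoidHom = W R)
    {A B : Type u} [Group A] [Group B] {T : Subgroup A} [Finite T] (hT : IsPGroup p T) (f : A →* B)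
    (hf : Function.Injective f) {T' : Subgroup B} (h : T.map f = T') :
    ((W ↥T).map T.subtype).map f = (W ↥T').map T'.subtype := by
  subst h
  rw [← hW2 ↥T ↥(T.map f) hT (T.equivMapOfInjective f hf), Subgroup.map_map, Subgroup.map_map]
  rfl

/-- Let p be a prime and W a positive characteristic p-functor with Z(Q) ≤ W(Q): W assigns to every finite p-group Q (in a fixed universe) a subgroup W(Q), nontrivial when Q is, carried to W(R) by every isomorphism Q ≅ R, and containing the centre of Q. Suppose that for every finite group G with Sylow p-subgroup P in which W(P) is not normal there is g ∈ P outside O_p(G) with [Z(O_p(G)), g, g] = 1. Then for every saturated fusion system F over a finite p-group S and every normalizer fusion system N of W(S) in F, every p-th power of an element of Z(S) that lies in the centre of N lies in the centre of F. -/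
theorem result {p : ℕ} [Fact p.Prime] (W : ∀ (Q : Type u) [Group Q], Subgroup Q) (hW1 : ∀ (Q : Type u) [Group Q] [Finite Q], IsPGroup p Q → Nontrivial Q → W Q ≠ ⊥) (hW2 : ∀ (Q R : Type u) [Group Q] [Group R] [Finite Q], IsPGroup p Q → ∀ φ : Q ≃* R, (W Q).map φ.toMonoidHom = W R) (hWZ : ∀ (Q : Type u) [Group Q] [Finite Q], IsPGroup p Q → Subgroup.center Q ≤ W Q) (hq : ∀ (G : Type u) [Group G] [Finite G] (P : Sylow p G), ¬ (((W ↥(P : Subgroup G)).map (P : Subgroup G).subtype : Subgroup G)).Normal → ∃ g : G, g ∈ (P : Subgroup G) ∧ g ∉ Cfsg.pCore p G ∧ ⁅⁅Subgroup.center ↥(Cfsg.pCore p G) |>.map (Cfsg.pCore p G).subtype, Subgroup.zpowers g⁆, Subgroup.zpowers g⁆ = ⊥) {Ω : Type u} [Group Ω] {S : Subgroup Ω} [Finite S] (hS : IsPGroup p S) (F : Cfsg.FusionSystem S) (hF : F.IsSaturated p) (N : Cfsg.FusionSystem (Cfsg.FusionSystem.normalizerIn S ((W ↥S).map S.subtype))) (hN : F.IsNormalizerSystem ((W ↥S).map S.subtype) N) : Subgroup.closure ((fun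 z => z ^ p) '' ((S ⊓ Subgroup.centralizer (S : Set Ω) : Subgroup Ω) : Set Ω)) ⊓ N.center ≤ F.center := by
  have hn : S ≤ Subgroup.normalizer (((W ↥S).map S.subtype : Subgroup Ω) : Set Ω) := by
    intro s hs
    refine (Cfsg.Agent.Fusion.mem_normalizerIn_of_forall (S := S) (Subgroup.map_subtype_le _) hs
      fun z hz => ?_).2
    have h := Cfsg.Agent.Fusion.img_functorIn (F := F) W hW2 hS (f := Cfsg.Agent.Fusion.cj s)
      (T := S) (Cfsg.Agent.Fusion.mapTo_cj le_rfl hs)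
    rw [Cfsg.Agent.Fusion.img_eq_self_of_forall (Cfsg.Agent.Fusion.mapTo_cj (F := F) le_rfl hs)
      fun y hy => S.mul_mem (S.mul_mem hs hy) (S.inv_mem hs)] at h
    exact h.le (Cfsg.Agent.Fusion.mem_img_of_mem (f := Cfsg.Agent.Fusion.cj s) hz)
  rintro x ⟨hxp, hx⟩
  obtain ⟨z, hz, hzx⟩ := Cfsg.Agent.Fusion.exists_pow_of_mem_closure hxp
  obtain ⟨hxS, hxc, hfix⟩ :=
    Cfsg.Agent.Fusion.mem_center_normalizerSystem (Subgroup.map_subtype_le _) hn hN hx
  have hxW : ∀ T : Subgroup Ω, T ≤ S → x ∈ T → x ∈ Cfsg.Agent.Fusion.functorIn W T :=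
    fun T hT => Cfsg.Agent.Fusion.mem_functorIn_of_center W hWZ hS hT hxc
  refine Cfsg.Agent.Fusion.mem_center_of_local hS hF hxS hxc (Cfsg.Agent.Fusion.functorIn W)
    (fun T _ => Cfsg.Agent.Fusion.functorIn_le W T) hxW
    (fun T f hf => Cfsg.Agent.Fusion.img_functorIn W hW2 hS hf) (hfix (hxW S le_rfl hxS)) ?_
  intro R hRn hRc E hE G _ ι hmod ha
  obtain ⟨hfin, hreal, ⟨P, hP⟩, hcon⟩ := hmod
  have hTS : Cfsg.FusionSystem.normalizerIn S R ≤ S := Cfsg.Agent.Fusion.normalizerIn_le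
  haveI := Cfsg.Agent.Fusion.finite_of_le hTS
  have hcT : ∀ w : Ω, w ∈ S → w ∈ Subgroup.centralizer (S : Set Ω) →
      w ∈ Cfsg.FusionSystem.normalizerIn S R := fun w hw hwc =>
    Cfsg.Agent.Fusion.centralizerIn_le_normalizerIn (Cfsg.Agent.Fusion.mem_centralizerIn.mpr
      ⟨hw, fun y hy => mem_centralizer_iff.mp hwc y (hRn.1 hy)⟩)
  have hxT := hcT x hxS hxc
  have hzT := hcT z hz.1 hz.2
  have hcP : ∀ w : Ω, w ∈ S → w ∈ Subgroup.centralizer (S : Set Ω) →
      Cfsg.Agent.Fusion.th ι w ∈ (P : Subgroup G) ⊓ Subgroup.centralizer ((P : Subgroup G) : Set G) := by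
    intro w hw hwc
    have hwT := hcT w hw hwc
    refine ⟨hP ▸ Cfsg.Agent.Fusion.th_mem_range ι w, mem_centralizer_iff.mpr fun q hq => ?_⟩
    rw [SetLike.mem_coe, hP] at hq
    obtain ⟨v, hv, rfl⟩ := Cfsg.Agent.Fusion.exists_th_eq hq
    rw [← Cfsg.Agent.Fusion.th_mul ι hv hwT, ← Cfsg.Agent.Fusion.th_mul ι hwT hv,
      mem_centralizer_iff.mp hwc v (hTS hv)]
  have hzx' : Cfsg.Agent.Fusion.th ι z ^ p = Cfsg.Agent.Fusion.th ι x := by
    rw [Cfsg.Agent.Fusion.th_apply ι hzT, ← map_pow, Cfsg.Agent.Fusion.th_apply ι hxT]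
    exact congrArg ι (Subtype.ext hzx)
  have hU := Cfsg.Agent.Fusion.imageAlong_functorIn W hW2 (hS.to_le hTS) hreal.1 hP
  refine le_centralizer_of_constrained P (Cfsg.Agent.Fusion.th ι x) (hcP x hxS hxc).1 (hcP x hxS hxc).2
    hcon _ (fun n hn' => mem_centralizer_iff.mpr fun b hb => by
      rw [Set.mem_singleton_iff.mp hb]; exact (ha n hn').symm) ?_
  intro H P' hPH hP' _ hWH x' hx' _ _ hx'Q hK
  obtain ⟨g, hgP, hgQ, hg⟩ := hq ↥H P' (fun hnorm => by
    refine normalizer_ne_top_of_map (W' := (W ↥(P' : Subgroup ↥H)).map (P' : Subgroup ↥H).subtype)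
      ?_ hWH (@normalizer_eq_top _ _ _ hnorm)
    rw [hU, map_functor hW2 P'.2 H.subtype H.subtype_injective hP'])
  have hzP : (⟨Cfsg.Agent.Fusion.th ι z, hPH (hcP z hz.1 hz.2).1⟩ : ↥H) ∈
      (P' : Subgroup ↥H) ⊓ centralizer ((P' : Subgroup ↥H) : Set ↥H) := by
    refine ⟨(mem_map_iff_mem H.subtype_injective).mp (hP'.ge (hcP z hz.1 hz.2).1),
      mem_centralizer_iff.mpr fun s hs => Subtype.ext ?_⟩
    exact mem_centralizer_iff.mp (hcP z hz.1 hz.2).2 (s : G)
      (hP'.le (mem_map_of_mem H.subtype hs))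
  refine central_of_pow P' x' hx'Q ⟨_, hzP, Subtype.ext (by rw [hx']; simpa using hzx')⟩ hK g hgP hgQ ?_
  rw [← hg]
  congr 2
  ext y
  constructor
  · intro hy
    exact ⟨⟨y, hy.1⟩, mem_center_iff.mpr fun w => Subtype.ext (mem_centralizer_iff.mp hy.2 (w : ↥H) w.2), rfl⟩
  · rintro ⟨w, hw, rfl⟩
    exact ⟨w.2, mem_centralizer_iff.mpr fun v hv => congrArg Subtype.val (mem_center_iff.mp hw ⟨v, hv⟩)⟩

end Cfsg.Agent.S5253
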