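import Cfsg.Statements.S5254
import Cfsg.Agent.Lib.Fusion.AbelianIndexP

set_option autoImplicit false
open Cfsg

namespace Cfsg.Agent.S5254

/-- Let p be an odd prime, S a finite nonabelian p-group with a unique abelian subgroup A of index p, and F a saturated fusion system over S. Then every F-essential subgroup P is A, or Z(S)⟨x⟩ for some x ∈ S outside A, or (when the second centre Z₂(S) lies in A) Z₂(S)⟨x⟩ for some x ∈ S outside A; and P has index p in its normalizer in S. -/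
theorem result {Ω : Type*} [Group Ω] {S : Subgroup Ω} [Finite S] (p : ℕ) [Fact p.Prime] (hS : IsPGroup p S) (F : Cfsg.FusionSystem S) (hF : F.IsSaturated p) (hp : p ≠ 2) (hna : ¬ IsMulCommutative ↥S) (A : Subgroup Ω) (hA : A ≤ S ∧ IsMulCommutative ↥A ∧ (A.subgroupOf S).index = p) (huniq : ∀ B : Subgroup Ω, B ≤ S → IsMulCommutative ↥B → (B.subgroupOf S).index = p → B = A) (P : Subgroup Ω) (hP : F.IsEssential p P) : (P = A ∨ (∃ x ∈ S, x ∉ A ∧ P = (S ⊓ Subgroup.centralizer (S : Set Ω)) ⊔ Subgroup.zpowers x) ∨ (((upperCentralSeries ↥S 2).map S.subtype) ≤ A ∧ ∃ x ∈ S, x ∉ A ∧ P = ((upperCentralSeries ↥S 2).map S.subtype) ⊔ Subgroup.zpowers x)) ∧ (P.subgroupOf (S ⊓ Subgroup.normalizer (P : Set Ω))).index = p := by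
  have hA' : Fusion.AbIndexP p S A := ⟨hA.1,
    fun a ha b hb => congrArg Subtype.val (hA.2.1.is_comm.comm ⟨a, ha⟩ ⟨b, hb⟩), hA.2.2, hS,
    fun hc => hna ⟨⟨fun a b => Subtype.ext (hc a a.2 b b.2)⟩⟩⟩
  have hu : ∀ B : Subgroup Ω, B ≤ S → (∀ a ∈ B, ∀ b ∈ B, Commute a b) →
      (B.subgroupOf S).index = p → B = A := fun B hB hBc hBi =>
    huniq B hB ⟨⟨fun a b => Subtype.ext (hBc a a.2 b b.2)⟩⟩ hBi
  have := Fusion.finite_of_le hP.1.1
  by_cases hPA : P = A
  · refine ⟨Or.inl hPA, ?_⟩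
    subst hPA
    rw [inf_eq_left.mpr fun s hs => Fusion.mem_normalizer_of_forall fun a ha => hA'.conj_mem hs ha]
    exact hA.2.2
  · obtain ⟨x, hx, hxA, -, hform, hN, hK, hne⟩ := Fusion.essential_data hF hA' hu hP hPA
    refine ⟨Or.inr ?_, ?_⟩
    · rcases hform with h1 | h1
      · exact Or.inl ⟨x, hx, hxA, h1⟩
      · have h2 := hA'.ucs_two_eq_sec hx hxA hne
        refine Or.inr ⟨h2.le.trans fun a ha => ha.1, x, hx, hxA, ?_⟩
        exact h1.trans (congrArg (· ⊔ _) h2.symm)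
    · have h1 := Fusion.card_mul_relIndex (Fusion.le_normalizerIn hP.1.1)
      rw [hN, mul_comm p] at h1
      exact Nat.eq_of_mul_eq_mul_left Nat.card_pos h1

end Cfsg.Agent.S5254
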