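import Cfsg.Statements.S5255
import Cfsg.Agent.Lib.Fusion.ImageSaturation

set_option autoImplicit false
open Cfsg

namespace Cfsg.Agent.S5255

/-- Let F be a saturated fusion system over a finite p-group S and T a subgroup of S strongly closed in F. Then T·C_S(T) is strongly closed in F. -/
theorem result {Ω : Type*} [Group Ω] {S : Subgroup Ω} [Finite S] (p : ℕ) [Fact p.Prime] (hS : IsPGroup p S) (F : Cfsg.FusionSystem S) (hF : F.IsSaturated p) (T : Subgroup Ω) (hT : F.StronglyClosed T) : F.StronglyClosed (T ⊔ Cfsg.FusionSystem.centralizerIn S T) := by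
  refine Cfsg.Agent.Fusion.stronglyClosed_iff.mpr
    ⟨sup_le hT.1 Cfsg.Agent.Fusion.centralizerIn_le, fun R f hR hf x hx => ?_⟩
  obtain ⟨g, hg, hgf⟩ := Cfsg.Agent.Fusion.exists_map_mod hS hF hT hf
  have hx' : x ∈ ((Cfsg.FusionSystem.centralizerIn S T ⊔ T : Subgroup Ω) : Set Ω) :=
    sup_comm T (Cfsg.FusionSystem.centralizerIn S T) ▸ hR hx
  rw [Subgroup.coe_mul_of_left_le_normalizer_right _ _
    (Cfsg.Agent.Fusion.centralizerIn_le.trans
      (Cfsg.Agent.Fusion.StronglyClosed.le_normalizer hT))] at hx'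
  obtain ⟨c, hc, t, ht, hct⟩ := hx'
  have hct' : c * t = x := hct
  have htR : t ∈ R ⊔ T := Subgroup.mem_sup_right ht
  have hcR : c ∈ R ⊔ T := by
    have := Subgroup.mul_mem _ (Subgroup.mem_sup_left (T := T) hx) (Subgroup.inv_mem _ htR)
    rwa [← hct', mul_inv_cancel_right] at this
  have h1 := hg.map_mem_centralizerIn (P := T) le_sup_right hcR hc
  rw [Cfsg.Agent.Fusion.StronglyClosed.img_eq hT hg le_sup_right] at h1
  have hgx : g x ∈ T ⊔ Cfsg.FusionSystem.centralizerIn S T := by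
    rw [← hct', hg.map_mul hcR htR]
    exact Subgroup.mul_mem _ (Subgroup.mem_sup_right h1)
      (Subgroup.mem_sup_left (Cfsg.Agent.Fusion.StronglyClosed.map_mem hT hg htR ht))
  have := Subgroup.mul_mem _ hgx (Subgroup.inv_mem _
    (Subgroup.mem_sup_left (T := Cfsg.FusionSystem.centralizerIn S T) (hgf x hx)))
  rwa [mul_inv_rev, inv_inv, mul_inv_cancel_left] at this

end Cfsg.Agent.S5255
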