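import Cfsg.Statements.S5256
import Cfsg.Agent.Lib.Fusion.Hyperfocal
import Cfsg.Agent.Lib.Fusion.ImageSaturation

set_option autoImplicit false
open Cfsg

namespace Cfsg.Agent.S5256

/-- Let F be a saturated fusion system over a finite p-group S, T a subgroup of S strongly closed in F, and E a factor system F/T realised along a homomorphism θ of S with kernel T. Then the hyperfocal subgroup of E is the image under θ of the hyperfocal subgroup of F (hyp(F/T) = T·hyp(F)/T). -/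
theorem result {Ω : Type*} [Group Ω] {S : Subgroup Ω} [Finite S] (p : ℕ) [Fact p.Prime] (hS : IsPGroup p S) (F : Cfsg.FusionSystem S) (hF : F.IsSaturated p) (T : Subgroup Ω) (hT : F.StronglyClosed T) {Ω' : Type*} [Group Ω'] {S' : Subgroup Ω'} (θ : ↥S →* Ω') (E : Cfsg.FusionSystem S') (hE : F.IsFactorSystem T θ E) : E.hyperfocalSubgroup p = ((F.hyperfocalSubgroup p).subgroupOf S).map θ := by
  have hmor := (Cfsg.Agent.Fusion.IsFactorSystem.isSurjectiveMorphism hS hF hT hE)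
  have hr := hE.2.2.1
  refine le_antisymm (Cfsg.Agent.Fusion.hyperfocal_le_iff.mpr fun P' hP' => ?_) ?_
  · suffices key : ∀ Q, Q ≤ S → Cfsg.Agent.Fusion.kerIn θ ≤ Q →
        ∀ τ ∈ Cfsg.Agent.Fusion.oP E p (Cfsg.FusionSystem.imageAlong θ Q),
        ∀ y ∈ Cfsg.FusionSystem.imageAlong θ Q,
          y⁻¹ * Cfsg.Agent.Fusion.autFun τ y ∈ ((F.hyperfocalSubgroup p).subgroupOf S).map θ by
      have := key _ Cfsg.Agent.Fusion.preimageAlong_le
        (Cfsg.Agent.Fusion.kerIn_le_preimageAlong (θ := θ) (P' := P'))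
      rwa [Cfsg.Agent.Fusion.imageAlong_preimageAlong (hr.symm ▸ hP')] at this
    intro Q hQS hker τ hτ y hy
    have := Cfsg.Agent.Fusion.finite_of_le hQS
    have := Cfsg.Agent.Fusion.finite_mulAut Q
    obtain ⟨Φ, hΦ⟩ := Cfsg.Agent.Fusion.IsMorphism.exists_autHom hmor.1 hQS
    have hsurj := Cfsg.Agent.Fusion.autHom_surjective hmor hQS hker hΦ
    obtain ⟨t, ht, rfl⟩ := hτ
    rw [← Cfsg.Agent.Transfer.map_pResidual_eq hsurj] at ht
    obtain ⟨σ, hσ, rfl⟩ := ht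
    obtain ⟨x, hx, rfl⟩ := (Cfsg.Agent.Fusion.mem_imageAlong hQS).mp hy
    have h1 := hΦ σ x hx
    have hσx := hQS (Cfsg.Agent.Fusion.autFun_mem (σ : MulAut Q) hx)
    refine ⟨⟨x⁻¹ * Cfsg.Agent.Fusion.autFun (σ : MulAut Q) x,
      S.mul_mem (S.inv_mem (hQS hx)) hσx⟩,
      Cfsg.Agent.Fusion.mem_hyperfocal hQS ⟨σ, hσ, rfl⟩ hx, ?_⟩
    rw [← Cfsg.Agent.Fusion.th_apply θ, Cfsg.Agent.Fusion.th_mul θ (S.inv_mem (hQS hx)) hσx,
      Cfsg.Agent.Fusion.th_inv θ (hQS hx), ← h1]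
    rfl
  · rintro _ ⟨s, hs, rfl⟩
    have hle : F.hyperfocalSubgroup p ≤ ((E.hyperfocalSubgroup p).comap θ).map S.subtype := by
      refine Cfsg.Agent.Fusion.hyperfocal_le_iff.mpr fun P hP α hα x hx => ?_
      obtain ⟨Φ, hΦ⟩ := Cfsg.Agent.Fusion.IsMorphism.exists_autHom hmor.1 hP
      obtain ⟨σ, hσ, rfl⟩ := hα
      have h1 := Cfsg.Agent.Fusion.mem_hyperfocal (p := p) (hr ▸ Cfsg.Agent.Fusion.imageAlong_le_range)
        ⟨Φ σ, Cfsg.Agent.Transfer.map_pResidual_le Φ ⟨σ, hσ, rfl⟩, rfl⟩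
        (Cfsg.Agent.Fusion.th_mem_imageAlong hP hx)
      have hσx := hP (Cfsg.Agent.Fusion.autFun_mem (σ : MulAut P) hx)
      have hmem := S.mul_mem (S.inv_mem (hP hx)) hσx
      refine ⟨⟨_, hmem⟩, ?_, rfl⟩
      show θ ⟨_, hmem⟩ ∈ E.hyperfocalSubgroup p
      rw [← Cfsg.Agent.Fusion.th_apply θ, Cfsg.Agent.Fusion.th_mul θ (S.inv_mem (hP hx)) hσx,
        Cfsg.Agent.Fusion.th_inv θ (hP hx), ← hΦ σ x hx]
      exact h1
    obtain ⟨t, ht, hts⟩ := hle hs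
    rw [show t = s from Subtype.ext hts] at ht
    exact ht

end Cfsg.Agent.S5256
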