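import Cfsg.Statements.S5257
import Cfsg.Agent.Lib.Fusion.AbelianIndexP

set_option autoImplicit false
open Cfsg

namespace Cfsg.Agent.S5257

/-- Let p be an odd prime, S a finite nonabelian p-group with a unique abelian subgroup A of index p, and F a saturated fusion system over S having an F-essential subgroup other than A. Then the second centre Z₂(S) lies in A; Z(S) ∩ [S, S] has order p; Z(S)[S, S] has index p in A; Z(S) has index p in Z₂(S); and S/Z(S) has maximal nilpotency class (if S/Z(S) has order pᵐ with m ≥ 3 then the term of index m − 2 of the lower central series of S, counting S as index 0, is not contained in Z(S)). -/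
theorem result {Ω : Type*} [Group Ω] {S : Subgroup Ω} [Finite S] (p : ℕ) [Fact p.Prime] (hS : IsPGroup p S) (F : Cfsg.FusionSystem S) (hF : F.IsSaturated p) (hp : p ≠ 2) (hna : ¬ IsMulCommutative ↥S) (A : Subgroup Ω) (hA : A ≤ S ∧ IsMulCommutative ↥A ∧ (A.subgroupOf S).index = p) (huniq : ∀ B : Subgroup Ω, B ≤ S → IsMulCommutative ↥B → (B.subgroupOf S).index = p → B = A) (P : Subgroup Ω) (hP : F.IsEssential p P) (hPA : P ≠ A) : ((upperCentralSeries ↥S 2).map S.subtype) ≤ A ∧ Nat.card ↥((S ⊓ Subgroup.centralizer (S : Set Ω)) ⊓ ((commutator ↥S).map S.subtype)) = p ∧ (((S ⊓ Subgroup.centralizer (S : Set Ω)) ⊔ ((commutator ↥S).map S.subtype)).subgroupOf A).index = p ∧ (((S ⊓ Subgroup.centralizer (S : Set Ω))).subgroupOf ((upperCentralSeries ↥S 2).map S.subtype)).index = p ∧ ∀ m : ℕ, ((S ⊓ Subgroup.centralizer (S : Set Ω)).subgroupOf S).index = p ^ m → 3 ≤ m → ¬ Subgroup.lowerCentralSeries S (m - 2) ≤ (S ⊓ Subgroup.centralizer (S : Set Ω)) := by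
  open scoped commutatorElement in
    have hA' : Fusion.AbIndexP p S A := ⟨hA.1,
      fun a ha b hb => congrArg Subtype.val (hA.2.1.is_comm.comm ⟨a, ha⟩ ⟨b, hb⟩), hA.2.2, hS,
      fun hc => hna ⟨⟨fun a b => Subtype.ext (hc a a.2 b b.2)⟩⟩⟩
    have hu : ∀ B : Subgroup Ω, B ≤ S → (∀ a ∈ B, ∀ b ∈ B, Commute a b) →
        (B.subgroupOf S).index = p → B = A := fun B hB hBc hBi =>
      huniq B hB ⟨⟨fun a b => Subtype.ext (hBc a a.2 b b.2)⟩⟩ hBi
    obtain ⟨x, hx, hxA, -, -, -, hK, hne⟩ := Fusion.essential_data hF hA' hu hP hPA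
    have hZs : (S ⊓ Subgroup.centralizer (S : Set Ω)) = Cfsg.FusionSystem.centralizerIn S S := rfl
    have hcomm : (commutator ↥S).map S.subtype = ⁅S, S⁆ := Subgroup.map_subtype_commutator S
    have hZsec : Cfsg.FusionSystem.centralizerIn S S ≤ hA'.sec x hx := fun z hz =>
      ⟨hA'.zs_le hz, by
        rw [commutatorElement_eq_one_iff_mul_comm.mpr
          ((Fusion.mem_centralizerIn.mp hz).2 x hx).symm]
        exact Subgroup.one_mem _⟩
    have h2 := hA'.ucs_two_eq_sec hx hxA hne
    rw [hZs, hcomm, show (upperCentralSeries ↥S 2).map S.subtype = hA'.sec x hx from h2]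
    refine ⟨fun a ha => ha.1, hA'.card_inf_commutator hx hxA hK,
      hA'.relIndex_sup_commutator hx hxA hK, ?_, fun m hm h3 hle => ?_⟩
    · have h1 := Fusion.card_mul_relIndex hZsec
      rw [hK, mul_comm p] at h1
      have := Fusion.finite_of_le (hA'.zs_le.trans hA.1)
      exact Nat.eq_of_mul_eq_mul_left Nat.card_pos h1
    · obtain ⟨V, -, hVL, hV⟩ := hA'.card_le_pow_mul_card hx hxA hK (m - 2)
      rw [sup_eq_left.mpr (hVL.trans hle)] at hV
      have h1 := Fusion.card_mul_relIndex (hA'.zs_le.trans hA.1)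
      rw [show (Cfsg.FusionSystem.centralizerIn S S).relIndex S = p ^ m from hm,
        hA'.relIndex_eq le_rfl hx hxA, inf_eq_right.mpr hA.1] at h1
      have := Fusion.finite_of_le (hA'.zs_le.trans hA.1)
      have h4 : p * (p ^ (m - 2) * Nat.card ↥(Cfsg.FusionSystem.centralizerIn S S)) <
          Nat.card ↥(Cfsg.FusionSystem.centralizerIn S S) * p ^ m := by
        rw [← mul_assoc, ← pow_succ', mul_comm]
        exact Nat.mul_lt_mul_of_pos_left
          (Nat.pow_lt_pow_right (Fact.out : p.Prime).one_lt (by omega)) Nat.card_pos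
      exact absurd (h1.le.trans (Nat.mul_le_mul_left p hV)) h4.not_ge

end Cfsg.Agent.S5257
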