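import Cfsg.Statements.S5271
import Cfsg.Agent.Lib.Fusion.InnerCriteria
import Cfsg.Agent.Lib.Fusion.SolvableSystem
import Cfsg.Agent.Lib.Fusion.CentralQuotient
import Cfsg.Agent.Lib.Fusion.Transfer
import Cfsg.Agent.Lib.Fusion.Hyperfocal
import Cfsg.Agent.Lib.Fusion.CoreDecomp
import Cfsg.Agent.Lib.FGB.PGroupBasic
import Cfsg.Agent.S5128

set_option autoImplicit false
open Cfsg

namespace Cfsg.Agent.S5271

open Cfsg.Agent.Fusion
open Cfsg.FusionSystem (centralizerIn normalizerIn imageAlong preimageAlong)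

universe w

section Product

variable {G : Type*} [Group G]

theorem card_sup_le {A B : Subgroup G} [Finite A] [Finite B]
    (h : A ≤ Subgroup.normalizer (B : Set G)) :
    Nat.card (A ⊔ B : Subgroup G) ≤ Nat.card A * Nat.card B := by
  rw [← Nat.card_prod]
  refine Nat.card_le_card_of_surjective (fun w => (⟨(w.1 : G) * w.2,
    mul_mem (Subgroup.mem_sup_left w.1.2) (Subgroup.mem_sup_right w.2.2)⟩ : ↥(A ⊔ B))) ?_
  rintro ⟨x, hx⟩
  rw [← SetLike.mem_coe, Subgroup.coe_mul_of_left_le_normalizer_right A B h] at hx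
  obtain ⟨a, ha, b, hb, hab⟩ := hx
  exact ⟨(⟨a, ha⟩, ⟨b, hb⟩), Subtype.ext hab⟩

theorem card_sup_eq {A B : Subgroup G} [Finite A] [Finite B] [Finite ↥(A ⊔ B)]
    (h : A ≤ Subgroup.normalizer (B : Set G)) (hd : A ⊓ B = ⊥) :
    Nat.card (A ⊔ B : Subgroup G) = Nat.card A * Nat.card B := by
  refine le_antisymm (card_sup_le h) ?_
  rw [← Nat.card_prod]
  refine Nat.card_le_card_of_injective (fun w => (⟨(w.1 : G) * w.2,
    mul_mem (Subgroup.mem_sup_left w.1.2) (Subgroup.mem_sup_right w.2.2)⟩ : ↥(A ⊔ B))) ?_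
  rintro ⟨a, b⟩ ⟨a', b'⟩ e
  have e' : (a : G) * b = a' * b' := congrArg Subtype.val e
  have hm : (a' : G)⁻¹ * a ∈ A ⊓ B := Subgroup.mem_inf.mpr ⟨mul_mem (inv_mem a'.2) a.2, by
    rw [show (a' : G)⁻¹ * a = (b' : G) * (b : G)⁻¹ by
      rw [eq_mul_inv_iff_mul_eq, mul_assoc, e', inv_mul_cancel_left]]
    exact mul_mem b'.2 (inv_mem b.2)⟩
  rw [hd, Subgroup.mem_bot, inv_mul_eq_one] at hm
  refine Prod.ext (Subtype.ext hm.symm) (Subtype.ext ?_)
  rw [← hm] at e'
  exact mul_left_cancel e'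

theorem commute_of_disjoint {A B : Subgroup G} (hA : B ≤ Subgroup.normalizer (A : Set G))
    (hB : A ≤ Subgroup.normalizer (B : Set G)) (h : A ⊓ B = ⊥) {a b : G} (ha : a ∈ A) (hb : b ∈ B) :
    a * b = b * a := by
  have h1 : a * b * a⁻¹ * b⁻¹ ∈ A ⊓ B := by
    refine Subgroup.mem_inf.mpr ⟨?_, mul_mem ((Subgroup.mem_normalizer_iff.mp (hB ha) b).mp hb) (inv_mem hb)⟩
    rw [show a * b * a⁻¹ * b⁻¹ = a * (b * a⁻¹ * b⁻¹) by group]
    exact mul_mem ha ((Subgroup.mem_normalizer_iff.mp (hA hb) _).mp (inv_mem ha))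
  rw [h, Subgroup.mem_bot] at h1
  exact mul_inv_eq_iff_eq_mul.mp (mul_inv_eq_one.mp h1)

theorem commutator_bot_of_comm {A : Subgroup G} (h : ∀ a ∈ A, ∀ b ∈ A, a * b = b * a) :
    ⁅A, A⁆ ≤ (⊥ : Subgroup G) := Subgroup.commutator_le.mpr fun x hx y hy => by
  rw [Subgroup.mem_bot, commutatorElement_def, h x hx y hy, mul_inv_cancel_right, mul_inv_cancel]

end Product

variable {Ω : Type w} [Group Ω] {S : Subgroup Ω} {p : ℕ}

theorem exists_le_card [Finite S] [Fact p.Prime] (hS : IsPGroup p S) {H K : Subgroup Ω} (hHK : H ≤ K)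
    (hK : K ≤ S) {j : ℕ} (h1 : Nat.card H ≤ p ^ j) (h2 : p ^ j ≤ Nat.card K) :
    ∃ T, H ≤ T ∧ T ≤ K ∧ Nat.card T = p ^ j := by
  have hp := (Fact.out : p.Prime)
  haveI := finite_of_le hK
  haveI : Finite H := finite_of_le (hHK.trans hK)
  obtain ⟨n, hn⟩ := IsPGroup.iff_card.mp ((hS.to_le hK).to_le hHK)
  obtain ⟨m, hm⟩ := IsPGroup.iff_card.mp (hS.to_le hK)
  rw [hn] at h1
  rw [hm] at h2
  have hnj := (Nat.pow_le_pow_iff_right hp.one_lt).mp h1
  have hjm := (Nat.pow_le_pow_iff_right hp.one_lt).mp h2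
  have hcard : Nat.card (H.subgroupOf K) = p ^ n := by
    rw [Nat.card_congr (Subgroup.subgroupOfEquivOfLe hHK).toEquiv, hn]
  obtain ⟨T, hT, hHT⟩ := Sylow.exists_subgroup_card_pow_prime_le p
    (hm ▸ pow_dvd_pow p hjm : p ^ j ∣ Nat.card K) (H.subgroupOf K) hcard hnj
  refine ⟨T.map K.subtype, ?_, Subgroup.map_subtype_le _, ?_⟩
  · rw [← Subgroup.map_subgroupOf_eq_of_le hHK]; exact Subgroup.map_mono hHT
  · rw [Subgroup.card_map_of_injective K.subtype_injective, hT]

theorem lt_card_of_not_le [Finite S] {A B : Subgroup Ω} (hA : A ≤ S) (hBA : B ≤ A) (h : ¬ A ≤ B) :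
    Nat.card B < Nat.card A := by
  haveI := finite_of_le hA
  exact lt_of_le_of_ne (Subgroup.card_le_of_le hBA) fun e =>
    h (le_of_eq (Subgroup.eq_of_le_of_card_ge hBA e.ge).symm)

/-- The weak embedding hypothesis. -/
def WE (F : Cfsg.FusionSystem S) (d : ℕ) : Prop :=
  ∀ Q : Subgroup Ω, Q ≤ S → Nat.card Q = d → ∃ P : Subgroup Ω,
    F.StronglyClosed P ∧ F.StronglyClosed (Q ⊔ P) ∧ F.StronglyClosed (Q ⊓ P)

/-- The normalizer systems are inner. -/
def NI (F : Cfsg.FusionSystem S) (d : ℕ) : Prop :=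
  ∀ H : Subgroup Ω, F.IsFullyNormalized H → Nat.card H = d → ∀ (P : Subgroup Ω) (f : Ω → Ω),
    P ≤ normalizerIn S H → (∀ x ∈ P, f x ∈ normalizerIn S H) →
    (∃ g, MapTo F (P ⊔ H) g ∧ (∀ x ∈ P, g x = f x) ∧ img g H = H) →
    ∃ s ∈ normalizerIn S H, ∀ x ∈ P, f x = s * x * s⁻¹

/-- Minimal nontrivial strongly closed subgroups. -/
def IsMin (F : Cfsg.FusionSystem S) (N : Subgroup Ω) : Prop :=
  F.StronglyClosed N ∧ N ≠ ⊥ ∧ ∀ T, F.StronglyClosed T → T ≤ N → T = ⊥ ∨ T = N

theorem exists_isMin [Finite S] (F : Cfsg.FusionSystem S) : ∀ (n : ℕ) (T : Subgroup Ω),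
    Nat.card T ≤ n → F.StronglyClosed T → T ≠ ⊥ → ∃ N ≤ T, IsMin F N := by
  intro n
  induction n with
  | zero =>
    intro T h hT _
    haveI := finite_of_le hT.1
    exact absurd Nat.card_pos (not_lt.mpr h)
  | succ n ih =>
    intro T h hT hne
    by_cases hmin : IsMin F T
    · exact ⟨T, le_rfl, hmin⟩
    · simp only [IsMin, hT, hne, true_and, ne_eq, not_false_eq_true, not_forall, not_or] at hmin
      obtain ⟨U, hU, hUT, hU1, hU2⟩ := hmin
      have := lt_card_of_not_le hT.1 hUT (fun hle => hU2 (le_antisymm hUT hle))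
      obtain ⟨N, hN, hNm⟩ := ih U (by omega) hU hU1
      exact ⟨N, hN.trans hUT, hNm⟩

theorem IsMin.inf [Finite S] {F : Cfsg.FusionSystem S} {N T : Subgroup Ω} (hN : IsMin F N)
    (hT : F.StronglyClosed T) : N ⊓ T = ⊥ ∨ N ≤ T := by
  rcases hN.2.2 _ (StronglyClosed.inf hN.1 hT) inf_le_left with h | h
  · exact Or.inl h
  · exact Or.inr (inf_eq_left.mp h)

theorem exists_central_prime [Finite S] [Fact p.Prime] (hS : IsPGroup p S) {T : Subgroup Ω}
    (hTS : T ≤ S) (hn : S ≤ Subgroup.normalizer (T : Set Ω)) (hT : T ≠ ⊥) :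
    ∃ z ∈ T, orderOf z = p ∧ ∀ s ∈ S, s * z = z * s := by
  have hne := inf_centralizer_ne_bot hS hTS hn hT
  set U := T ⊓ Subgroup.centralizer (S : Set Ω)
  haveI := finite_of_le (inf_le_left.trans hTS : U ≤ S)
  obtain ⟨k, hk⟩ := IsPGroup.iff_card.mp (hS.to_le (inf_le_left.trans hTS : U ≤ S))
  have hk0 : k ≠ 0 := by
    rintro rfl
    rw [pow_zero] at hk
    exact hne (Subgroup.card_eq_one.mp hk)
  obtain ⟨⟨z, hz⟩, hzo⟩ := exists_prime_orderOf_dvd_card' (G := U) p (hk ▸ dvd_pow_self p hk0)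
  refine ⟨z, hz.1, by rw [← hzo, Subgroup.orderOf_mk], fun s hs => ?_⟩
  exact Subgroup.mem_centralizer_iff.mp hz.2 s hs

/-- Being inner, in terms of maps. -/
def Inner (F : Cfsg.FusionSystem S) : Prop :=
  ∀ (P : Subgroup Ω) (f : Ω → Ω), MapTo F P f → ∃ s ∈ S, ∀ x ∈ P, f x = s * x * s⁻¹

theorem Inner.mapTo {F : Cfsg.FusionSystem S} (h : Inner F) (R : Subgroup Ω) (g : Ω → Ω)
    (hg : MapTo F R g) : MapTo (Cfsg.innerFusionSystem S) R g :=
  mapTo_inner_iff.mpr ⟨hg.le, h R g hg⟩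

theorem inner_of_eq {F : Cfsg.FusionSystem S} (h : F = Cfsg.innerFusionSystem S) : Inner F := by
  subst h
  exact fun P f hf => (mapTo_inner_iff.mp hf).2

theorem inner_of_abelian [Finite S] [Fact p.Prime] (hS : IsPGroup p S) {F : Cfsg.FusionSystem S}
    (hF : F.IsSaturated p) {d : ℕ} (hni : NI F d) {T : Subgroup Ω} (hT : F.StronglyClosed T)
    (hab : ⁅T, T⁆ ≤ (⊥ : Subgroup Ω)) (hcard : Nat.card T = d) : Inner F := by
  intro P f hf
  have hn := isNormal_of_abelian_stronglyClosed hS hF hT hab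
  have hST := IsNormal.le_normalizer hn
  have e : normalizerIn S T = S := inf_eq_left.mpr hST
  obtain ⟨g, hg, hgf, hgT⟩ := (isNormal_iff.mp hn).2 P f hf
  obtain ⟨s, hs, hsx⟩ := hni T (isFullyNormalized_of_normal hT.1 hST) hcard P f
    (e.symm ▸ hf.le) (fun x hx => e.symm ▸ hf.mem hx) ⟨g, hg, hgf, hgT⟩
  exact ⟨s, normalizerIn_le hs, hsx⟩

theorem hyperfocal_le_ker [Finite S] [Fact p.Prime] {Ω' : Type w} [Group Ω'] {S' : Subgroup Ω'}
    [Finite S'] (hS' : IsPGroup p S') {F : Cfsg.FusionSystem S} {E : Cfsg.FusionSystem S'}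
    {θ : S →* Ω'} (h : F.IsSurjectiveMorphism E θ) (hE : Inner E) :
    F.hyperfocalSubgroup p ≤ kerIn θ := by
  refine hyperfocal_le_iff.mpr fun P hP α hα => ?_
  have := finite_of_le hP
  obtain ⟨Φ, hΦ⟩ := IsMorphism.exists_autHom h.1 hP
  have himS : imageAlong θ P ≤ S' := h.2.1 ▸ imageAlong_le_range
  have hEp : IsPGroup p (E.autGroup (imageAlong θ P)) := isPGroup_autGroup_of_inner hS' hE.mapTo himS
  have key : ∀ a (ha : a ∈ F.autGroup P), (orderOf a).Coprime p → Φ ⟨a, ha⟩ = 1 := by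
    intro a ha hc
    obtain ⟨k, hk⟩ := hEp (Φ ⟨a, ha⟩)
    have h1 : orderOf (Φ ⟨a, ha⟩) ∣ orderOf a :=
      (orderOf_map_dvd Φ _).trans (by rw [Subgroup.orderOf_mk])
    exact orderOf_eq_one_iff.mp (Nat.eq_one_of_dvd_coprimes (hc.pow_right k) h1
      (orderOf_dvd_of_pow_eq_one hk))
  have hall : ∀ a ∈ oP F p P, ∀ ha : a ∈ F.autGroup P, Φ ⟨a, ha⟩ = 1 := by
    refine oP_induction (C := fun a => ∀ ha : a ∈ F.autGroup P, Φ ⟨a, ha⟩ = 1)
      (fun ha => map_one Φ) (fun a b ha hb iha ihb hab => ?_) (fun a ha iha hai => ?_)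
      (fun a ha hc _ => key a ha hc)
    · rw [show (⟨a * b, hab⟩ : F.autGroup P) = ⟨a, ha⟩ * ⟨b, hb⟩ from rfl, map_mul, iha, ihb, mul_one]
    · rw [show (⟨a⁻¹, hai⟩ : F.autGroup P) = (⟨a, ha⟩ : F.autGroup P)⁻¹ from rfl, map_inv, iha, inv_one]
  intro x hx
  refine (th_eq_iff (hP hx) (hP (autFun_mem α hx))).mp ?_
  rw [← hΦ ⟨α, oP_le hα⟩ x hx, hall α hα, OneMemClass.coe_one,
    autFun_one (th_mem_imageAlong hP hx)]

theorem main : ∀ (n : ℕ) (Ω : Type w) [Group Ω] (S : Subgroup Ω) [Finite S] (p : ℕ) [Fact p.Prime],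
    Nat.card S ≤ n → IsPGroup p S → ∀ F : Cfsg.FusionSystem S, F.IsSaturated p → ∀ j : ℕ, 1 ≤ j →
    p ^ j < Nat.card S → WE F (p ^ j) → NI F (p ^ j) → Inner F := by
  intro n
  induction n with
  | zero => intro Ω _ S _ p _ hn; exact absurd Nat.card_pos (not_lt.mpr hn)
  | succ n ih =>
  intro Ω _ S _ p _ hn hS F hF j hj hjS hWE hNI
  have hp := (Fact.out : p.Prime)
  by_contra hne
  have hd1 : 1 < p ^ j := Nat.one_lt_pow (by omega) hp.one_lt
  have fin : ∀ {A : Subgroup Ω}, A ≤ S → Finite A := fun h => finite_of_le h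
  have scn : ∀ {A : Subgroup Ω}, F.StronglyClosed A → S ≤ Subgroup.normalizer (A : Set Ω) :=
    fun h => StronglyClosed.le_normalizer h
  -- a nonabelian minimal subgroup of order at least `p ^ j` is impossible
  have small : ∀ N, IsMin F N → Nat.card N < p ^ j := by
    intro N hN
    by_contra hcon
    rw [not_lt] at hcon
    haveI := fin hN.1.1
    rcases hcon.lt_or_eq with hlt | heq
    · obtain ⟨Q, -, hQN, hQc⟩ := exists_le_card hS (bot_le : (⊥ : Subgroup Ω) ≤ N) hN.1.1
        (by simpa using hd1.le) hcon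
      obtain ⟨P, hP, hQP, hQiP⟩ := hWE Q (hQN.trans hN.1.1) hQc
      haveI := fin (hQN.trans hN.1.1)
      haveI := fin hP.1
      haveI := fin (sup_le hN.1.1 hP.1)
      have hQP1 : Q ⊓ P = ⊥ := by
        rcases hN.2.2 _ hQiP (inf_le_left.trans hQN) with h | h
        · exact h
        · exfalso
          have h1 : N ≤ Q := h ▸ inf_le_left
          have := Subgroup.card_le_of_le h1
          omega
      have hNP : N ⊓ P = ⊥ := (hN.inf hP).resolve_right fun h => by
        rw [inf_eq_left.mpr (hQN.trans h)] at hQP1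
        rw [hQP1, Subgroup.card_bot] at hQc
        omega
      have hle : N ≤ Q ⊔ P := (hN.inf hQP).resolve_left fun h => by
        have h1 : Q = ⊥ := le_bot_iff.mp (h ▸ le_inf hQN le_sup_left)
        rw [h1, Subgroup.card_bot] at hQc
        omega
      haveI := fin (sup_le (hQN.trans hN.1.1) hP.1)
      have h1 := Subgroup.card_le_of_le (sup_le hle le_sup_right : N ⊔ P ≤ Q ⊔ P)
      rw [card_sup_eq (hN.1.1.trans (scn hP)) hNP] at h1
      have h2 := card_sup_le ((hQN.trans hN.1.1).trans (scn hP))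
      rw [hQc] at h2
      have h3 : p ^ j * Nat.card P < Nat.card N * Nat.card P := Nat.mul_lt_mul_of_pos_right hlt Nat.card_pos
      omega
    have hnab : ¬ ∀ a ∈ N, ∀ b ∈ N, a * b = b * a := fun hab =>
      hne (inner_of_abelian hS hF hNI hN.1 (commutator_bot_of_comm hab) heq.symm)
    have hj2 : 2 ≤ j := by
      by_contra hj2
      refine hnab fun a ha b hb => ?_
      obtain rfl : j = 1 := by omega
      haveI : IsCyclic N := isCyclic_of_prime_card (p := p) (by rw [← heq, pow_one])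
      exact congrArg Subtype.val ((IsCyclic.isMulCommutative (α := N)).is_comm.comm ⟨a, ha⟩ ⟨b, hb⟩)
    by_cases hsec : ∃ T, F.StronglyClosed T ∧ T ≠ ⊥ ∧ N ⊓ T = ⊥
    · obtain ⟨T, hT, hT1, hNT⟩ := hsec
      obtain ⟨z, hzT, hzo, hzc⟩ := exists_central_prime hS hT.1 (scn hT) hT1
      obtain ⟨N1, -, hN1, hN1c⟩ := exists_le_card (j := j - 1) hS (bot_le : (⊥ : Subgroup Ω) ≤ N) hN.1.1
        (by simpa using Nat.one_le_pow _ _ hp.pos)
        (heq ▸ Nat.pow_le_pow_right hp.pos (by omega))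
      have hzS : z ∈ S := hT.1 hzT
      have hzn : N1 ≤ Subgroup.normalizer ((Subgroup.zpowers z : Subgroup Ω) : Set Ω) := by
        intro a ha
        refine Subgroup.mem_normalizer_iff_map_conj_eq.mpr ?_
        show (Subgroup.zpowers z).map (MulAut.conj a).toMonoidHom = _
        rw [MonoidHom.map_zpowers, show (MulAut.conj a).toMonoidHom z = z by
          simp [hzc a (hN.1.1 (hN1 ha))]]
      have hd : N1 ⊓ Subgroup.zpowers z = ⊥ :=
        le_bot_iff.mp (hNT ▸ inf_le_inf hN1 (Subgroup.zpowers_le.mpr hzT))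
      set Q := N1 ⊔ Subgroup.zpowers z with hQdef
      have hQS : Q ≤ S := sup_le (hN1.trans hN.1.1) (Subgroup.zpowers_le.mpr hzS)
      haveI := fin hQS
      haveI := fin (hN1.trans hN.1.1)
      haveI := fin (Subgroup.zpowers_le.mpr hzS)
      have hQc : Nat.card Q = p ^ j := by
        rw [hQdef, card_sup_eq hzn hd, hN1c, Nat.card_zpowers, hzo, ← pow_succ]
        congr 1
        omega
      have hN1ne : N1 ≠ ⊥ := fun h => by
        rw [h, Subgroup.card_bot] at hN1c
        have := Nat.one_lt_pow (n := j - 1) (by omega) hp.one_lt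
        omega
      obtain ⟨P, hP, hQP, hQiP⟩ := hWE Q hQS hQc
      haveI := fin hP.1
      haveI := fin (sup_le hN.1.1 hP.1)
      haveI := fin (sup_le hQS hP.1)
      have hNP : N ⊓ P = ⊥ := (hN.inf hP).resolve_right fun h => by
        rcases hN.inf hQiP with h2 | h2
        · exact hN1ne (le_bot_iff.mp (h2 ▸ le_inf hN1 (le_inf le_sup_left (hN1.trans h))))
        · have h3 : N ≤ Q := h2.trans inf_le_left
          have h4 : N = Q := Subgroup.eq_of_le_of_card_ge h3 (by omega)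
          have h5 : z = 1 := Subgroup.mem_bot.mp (hNT ▸
            ⟨h4 ▸ Subgroup.mem_sup_right (Subgroup.mem_zpowers z), hzT⟩ : z ∈ (⊥ : Subgroup Ω))
          rw [h5, orderOf_one] at hzo
          exact absurd hzo.symm hp.one_lt.ne'
      have hle : N ≤ Q ⊔ P := (hN.inf hQP).resolve_left fun h =>
        hN1ne (le_bot_iff.mp (h ▸ le_inf hN1 (le_sup_left.trans le_sup_left)))
      have hNPc := card_sup_eq (hN.1.1.trans (scn hP)) hNP
      have hsup : N ⊔ P = Q ⊔ P := Subgroup.eq_of_le_of_card_ge (sup_le hle le_sup_right) (by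
        rw [hNPc, ← heq]
        have := card_sup_le (hQS.trans (scn hP))
        rwa [hQc] at this)
      have hzNP : z ∈ ((N ⊔ P : Subgroup Ω) : Set Ω) :=
        hsup ▸ Subgroup.mem_sup_left (Subgroup.mem_sup_right (Subgroup.mem_zpowers z))
      rw [Subgroup.coe_mul_of_left_le_normalizer_right N P (hN.1.1.trans (scn hP))] at hzNP
      obtain ⟨a, haN, b, hbP, hab⟩ := hzNP
      have ha1 : a ≠ 1 := by
        intro ha1
        have hzP : z ∈ P := by
          have h3 : a * b = z := hab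
          rw [ha1, one_mul] at h3
          exact h3 ▸ hbP
        have h4 : Q ⊔ P ≤ N1 ⊔ P :=
          sup_le (sup_le le_sup_left ((Subgroup.zpowers_le.mpr hzP).trans le_sup_right)) le_sup_right
        haveI := fin (sup_le (hN1.trans hN.1.1) hP.1)
        have h5 := Subgroup.card_le_of_le (hsup.le.trans h4)
        rw [hNPc, ← heq] at h5
        have h6 := card_sup_le ((hN1.trans hN.1.1).trans (scn hP))
        rw [hN1c] at h6
        have h7 : p ^ (j - 1) * Nat.card P < p ^ j * Nat.card P :=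
          Nat.mul_lt_mul_of_pos_right (Nat.pow_lt_pow_right hp.one_lt (by omega)) Nat.card_pos
        omega
      have hTP : F.StronglyClosed (T ⊔ P) := S5128.result p hS F hF T P hT hP
      have hNle : N ≤ T ⊔ P := (hN.inf hTP).resolve_left fun h => ha1 (Subgroup.mem_bot.mp (h ▸ ⟨haN, by
        have h3 : a * b = z := hab
        have h4 : a = z * b⁻¹ := by rw [← h3, mul_inv_cancel_right]
        rw [h4]
        exact mul_mem (Subgroup.mem_sup_left hzT) (Subgroup.mem_sup_right (inv_mem hbP))⟩))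
      refine hnab fun x hx y hy => ?_
      have hy' : y ∈ ((T ⊔ P : Subgroup Ω) : Set Ω) := hNle hy
      rw [Subgroup.coe_mul_of_left_le_normalizer_right T P (hT.1.trans (scn hP))] at hy'
      obtain ⟨t, ht, q, hq, rfl⟩ := hy'
      have c1 := commute_of_disjoint (hT.1.trans (scn hN.1)) (hN.1.1.trans (scn hT)) hNT hx ht
      have c2 := commute_of_disjoint (hP.1.trans (scn hN.1)) (hN.1.1.trans (scn hP)) hNP hx hq
      exact ((show Commute x t from c1).mul_right (show Commute x q from c2)).eq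
    · push Not at hsec
      obtain ⟨z, hzN, hzo, hzc⟩ := exists_central_prime hS hN.1.1 (scn hN.1) hN.2.1
      obtain ⟨k, hk⟩ := IsPGroup.iff_card.mp hS
      have hjk : j < k := (Nat.pow_lt_pow_iff_right hp.one_lt).mp (hk ▸ hjS)
      obtain ⟨T0, hNT0, hT0S, hT0c⟩ := exists_le_card (j := j + 1) hS hN.1.1 (le_refl S)
        (heq ▸ Nat.pow_le_pow_right hp.pos (by omega))
        (hk ▸ Nat.pow_le_pow_right hp.pos (by omega))
      haveI := fin hT0S
      obtain ⟨x, hxT, hxN⟩ := SetLike.not_le_iff_exists.mp (fun hle : T0 ≤ N => by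
        have := Subgroup.card_le_of_le hle
        rw [hT0c, ← heq] at this
        have := (Nat.pow_le_pow_iff_right hp.one_lt).mp this
        omega)
      set K := Subgroup.closure ({z, x} : Set Ω) with hK
      have hKT : K ≤ T0 := (Subgroup.closure_le _).mpr
        (Set.insert_subset (hNT0 hzN) (Set.singleton_subset_iff.mpr hxT))
      haveI := fin (hKT.trans hT0S)
      by_cases hKT0 : T0 ≤ K
      · refine hnab fun a ha b hb => ?_
        have hcomm : ∀ u ∈ ({z, x} : Set Ω), ∀ v ∈ ({z, x} : Set Ω), u * v = v * u := by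
          intro u hu v hv
          rcases hu with hu | hu <;> rcases hv with hv | hv
          · rw [hu, hv]
          · rw [hu, hv]; exact (hzc x (hT0S hxT)).symm
          · rw [hu, hv]; exact hzc x (hT0S hxT)
          · rw [hu, hv]
        haveI : IsMulCommutative K := Subgroup.isMulCommutative_closure hcomm
        exact congrArg Subtype.val ((inferInstance : IsMulCommutative K).is_comm.comm
          ⟨a, hKT0 (hNT0 ha)⟩ ⟨b, hKT0 (hNT0 hb)⟩)
      · have hKlt := lt_card_of_not_le hT0S hKT hKT0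
        obtain ⟨i, hi⟩ := IsPGroup.iff_card.mp (hS.to_le (hKT.trans hT0S))
        rw [hi, hT0c] at hKlt
        have hij : i < j + 1 := (Nat.pow_lt_pow_iff_right hp.one_lt).mp hKlt
        obtain ⟨M, hKM, hMT, hMc⟩ := exists_le_card (j := j) hS hKT hT0S
          (hi ▸ Nat.pow_le_pow_right hp.pos (by omega))
          (hT0c ▸ Nat.pow_le_pow_right hp.pos (by omega))
        haveI := fin (hMT.trans hT0S)
        have hzM : z ∈ M := hKM (Subgroup.subset_closure (Set.mem_insert _ _))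
        have hxM : x ∈ M := hKM (Subgroup.subset_closure (Set.mem_insert_of_mem _ rfl))
        have hNM : ¬ N ≤ M := fun h =>
          hxN (by rw [Subgroup.eq_of_le_of_card_ge h (by omega)]; exact hxM)
        obtain ⟨P, hP, hQP, hQiP⟩ := hWE M (hMT.trans hT0S) hMc
        by_cases hP1 : P = ⊥
        · rw [hP1, sup_bot_eq] at hQP
          have hM1 : M ≠ ⊥ := fun h => by rw [h, Subgroup.card_bot] at hMc; omega
          exact hsec M hQP hM1 ((hN.inf hQP).resolve_right hNM)
        · have hNP := (hN.inf hP).resolve_left (hsec P hP hP1)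
          have hz1 : M ⊓ P ≠ ⊥ := fun h => by
            have := Subgroup.mem_bot.mp (h ▸ ⟨hzM, hNP hzN⟩ : z ∈ (⊥ : Subgroup Ω))
            rw [this, orderOf_one] at hzo
            exact absurd hzo.symm hp.one_lt.ne'
          exact hNM (((hN.inf hQiP).resolve_left (hsec _ hQiP hz1)).trans inf_le_left)
  have hS1 : S ≠ ⊥ := fun h => by rw [h, Subgroup.card_bot] at hjS; omega
  obtain ⟨N, -, hN⟩ := exists_isMin F (Nat.card S) S le_rfl
    ⟨le_rfl, fun R _ φ hφ x => (F.le_of_mem hφ).2 x⟩ hS1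
  -- the hyperfocal subgroup lies in every minimal strongly closed subgroup
  have quot : ∀ N, IsMin F N → ∃ (Ω' : Type w) (_ : Group Ω') (S' : Subgroup Ω') (θ : S →* Ω')
      (E : Cfsg.FusionSystem S'), F.IsSurjectiveMorphism E θ ∧ kerIn θ = N ∧ Finite S' ∧
        IsPGroup p S' ∧ Inner E := by
    intro N hN
    obtain ⟨Ω', _, S', θ, E, hmor, hker, hE, _, hS', hlt⟩ := exists_quotient hS hF hN.1
    refine ⟨Ω', inferInstance, S', θ, E, hmor, hker, inferInstance, hS', ?_⟩
    haveI := fin hN.1.1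
    obtain ⟨i, hi⟩ := IsPGroup.iff_card.mp (hS.to_le hN.1.1)
    have hij : i < j := (Nat.pow_lt_pow_iff_right hp.one_lt).mp (hi ▸ small N hN)
    have hpre : preimageAlong θ S' = S :=
      le_antisymm preimageAlong_le fun x hx => mem_preimageAlong.mpr ⟨hx, hmor.2.1 ▸ th_mem_range θ x⟩
    have hcard := card_preimageAlong hmor (le_refl S')
    rw [hpre, hker, hi] at hcard
    have hsplit : p ^ j = p ^ i * p ^ (j - i) := by rw [← pow_add]; congr 1; omega
    refine ih Ω' S' p (by have := hlt hN.2.1; omega) hS' E hE (j - i) (by omega) ?_ ?_ ?_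
    · have : p ^ i * p ^ (j - i) < p ^ i * Nat.card S' := by rw [← hsplit, ← hcard]; exact hjS
      exact Nat.lt_of_mul_lt_mul_left this
    · intro Q' hQ' hQc
      have hQS : preimageAlong θ Q' ≤ S := preimageAlong_le
      obtain ⟨P, hP, hQP, hQiP⟩ := hWE _ hQS (by rw [card_preimageAlong hmor hQ', hker, hi, hQc, hsplit])
      have himg : imageAlong θ (preimageAlong θ Q') = Q' :=
        imageAlong_preimageAlong (hmor.2.1.symm ▸ hQ')
      have e1 : imageAlong θ (preimageAlong θ Q' ⊔ P) = Q' ⊔ imageAlong θ P := by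
        conv_rhs => rw [← himg]
        unfold Cfsg.FusionSystem.imageAlong
        rw [Subgroup.subgroupOf_sup hQS hP.1, Subgroup.map_sup]
      have e2 : imageAlong θ (preimageAlong θ Q' ⊓ P) = Q' ⊓ imageAlong θ P := by
        ext y
        constructor
        · intro hy
          obtain ⟨x, ⟨hx1, hx2⟩, rfl⟩ := (mem_imageAlong (inf_le_left.trans hQS)).mp hy
          exact ⟨(mem_preimageAlong.mp hx1).2, th_mem_imageAlong hP.1 hx2⟩
        · rintro ⟨hy1, hy2⟩
          obtain ⟨x, hx, rfl⟩ := (mem_imageAlong hP.1).mp hy2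
          exact th_mem_imageAlong (inf_le_left.trans hQS) ⟨mem_preimageAlong.mpr ⟨hP.1 hx, hy1⟩, hx⟩
      refine ⟨imageAlong θ P, stronglyClosed_imageAlong hmor hP, ?_, ?_⟩
      · rw [← e1]; exact stronglyClosed_imageAlong hmor hQP
      · rw [← e2]; exact stronglyClosed_imageAlong hmor hQiP
    · intro H' hH' hHc P' f' hP' hf' hext
      obtain ⟨g', hg', hgf, hgH⟩ := hext
      set H := preimageAlong θ H' with hHdef
      have hHfn : F.IsFullyNormalized H := isFullyNormalized_preimage hmor hH'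
      have hHc' : Nat.card H = p ^ j := by
        rw [hHdef, card_preimageAlong hmor hH'.1, hker, hi, hHc, hsplit]
      obtain ⟨hle', g, hg, hgg⟩ := IsSurjectiveMorphism.exists_lift hmor hg'
      have hN' := preimageAlong_normalizerIn hmor hH'.1
      set P := preimageAlong θ P'
      have hPle : P ≤ normalizerIn S H := by
        rw [← hN']
        intro x hx
        exact mem_preimageAlong.mpr ⟨(mem_preimageAlong.mp hx).1, hP' (mem_preimageAlong.mp hx).2⟩
      have hsub : P ⊔ H ≤ preimageAlong θ (P' ⊔ H') := sup_le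
        (fun x hx => mem_preimageAlong.mpr ⟨(mem_preimageAlong.mp hx).1,
          Subgroup.mem_sup_left (mem_preimageAlong.mp hx).2⟩)
        (fun x hx => mem_preimageAlong.mpr ⟨(mem_preimageAlong.mp hx).1,
          Subgroup.mem_sup_right (mem_preimageAlong.mp hx).2⟩)
      have hgPH := hg.restrict hsub
      have hgval : ∀ x ∈ P, th θ (g x) = f' (th θ x) := fun x hx => by
        rw [← hgg x (hsub (Subgroup.mem_sup_left hx)), hgf _ (mem_preimageAlong.mp hx).2]
      haveI := fin hHfn.1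
      have hgHH : img g H = H := img_eq_self_of_forall (hgPH.restrict le_sup_right) fun x hx => by
        refine mem_preimageAlong.mpr ⟨hgPH.mem (Subgroup.mem_sup_right hx), ?_⟩
        rw [← hgg x (hsub (Subgroup.mem_sup_right hx)), ← hgH]
        exact mem_img_of_mem (mem_preimageAlong.mp hx).2
      obtain ⟨s, hs, hsx⟩ := hNI H hHfn hHc' P g hPle (fun x hx => by
        rw [← hN']
        refine mem_preimageAlong.mpr ⟨hgPH.mem (Subgroup.mem_sup_left hx), ?_⟩
        rw [hgval x hx]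
        exact hf' _ (mem_preimageAlong.mp hx).2) ⟨g, hgPH, fun _ _ => rfl, hgHH⟩
      have hs' : s ∈ preimageAlong θ (normalizerIn S' H') := hN'.symm ▸ hs
      obtain ⟨hsS, hs''⟩ := mem_preimageAlong.mp hs'
      refine ⟨th θ s, hs'', fun y hy => ?_⟩
      obtain ⟨x, hx, rfl⟩ := exists_preimage
        (hmor.2.1.symm ▸ (hP'.trans normalizerIn_le) : P' ≤ θ.range) hy
      rw [← hgval x hx, hsx x hx, th_conj θ hsS (preimageAlong_le hx)]
  obtain ⟨Ω', _, S', θ, E, hmor, hker, _, hS', hE⟩ := quot N hN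
  have hhN : F.hyperfocalSubgroup p ≤ N := hker ▸ hyperfocal_le_ker hS' hmor hE
  have huniq : ∀ T, F.StronglyClosed T → T ≠ ⊥ → N ≤ T := by
    intro T hT hT1
    refine (hN.inf hT).resolve_left fun h => hne ?_
    obtain ⟨N2, hN2, hN2m⟩ := exists_isMin F (Nat.card T) T le_rfl hT hT1
    obtain ⟨_, _, _, θ2, E2, hmor2, hker2, _, hS2, hE2⟩ := quot N2 hN2m
    have h2 : F.hyperfocalSubgroup p ≤ N2 := hker2 ▸ hyperfocal_le_ker hS2 hmor2 hE2
    exact inner_of_eq (eq_inner_of_hyperfocal_eq_bot hS hF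
      (le_bot_iff.mp (h ▸ le_inf hhN (h2.trans hN2))))
  haveI := fin hN.1.1
  have hNd := small N hN
  obtain ⟨i, hi⟩ := IsPGroup.iff_card.mp (hS.to_le hN.1.1)
  rcases Nat.lt_or_ge i 2 with hi2 | hi2
  · have hi1 : i = 1 := by
      rcases i with _ | i
      · exact absurd (Subgroup.card_eq_one.mp (by simpa using hi)) hN.2.1
      · omega
    rw [hi1, pow_one] at hi
    obtain ⟨z, hzN, hzo, hzc⟩ := exists_central_prime hS hN.1.1 (scn hN.1) hN.2.1
    have hNz : Subgroup.zpowers z = N :=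
      Subgroup.eq_of_le_of_card_ge (Subgroup.zpowers_le.mpr hzN) (by rw [Nat.card_zpowers, hzo, hi])
    have hcen : ∀ x ∈ N, ∀ s ∈ S, s * x = x * s := by
      intro x hx s hs
      rw [← hNz] at hx
      obtain ⟨k, rfl⟩ := Subgroup.mem_zpowers_iff.mp hx
      exact ((show Commute s z from hzc s hs).zpow_right k).eq
    have hNn := isNormal_of_abelian_stronglyClosed hS hF hN.1
      (commutator_bot_of_comm fun a ha b hb => hcen b hb a (hN.1.1 ha))
    have hNfn : F.IsFullyNormalized N := isFullyNormalized_of_normal hN.1.1 (scn hN.1)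
    obtain ⟨Q0, hNQ0, hQ0S, hQ0c⟩ := exists_le_card (j := j) hS hN.1.1 (le_refl S) hNd.le hjS.le
    obtain ⟨Q, hconj, hQfn⟩ := Fusion.exists_isFullyNormalized (F := F) hQ0S
    obtain ⟨c, hc, hcQ⟩ := Fusion.isConj_iff.mp hconj
    have hNQ : N ≤ Q := by
      rw [← hcQ]
      exact (StronglyClosed.img_eq hN.1 hc hNQ0).ge.trans (img_mono hNQ0)
    have hQc : Nat.card Q = p ^ j := by rw [← hcQ, hc.card_img le_rfl, hQ0c]
    have htriv : ∀ α ∈ F.autGroup N, α = 1 := by
      intro α hα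
      have hm := mapTo_of_mem_autGroup hN.1.1 hα
      obtain ⟨g, hg, hgα⟩ := (isReceptive_iff.mp (isReceptive_of_isFullyNormalized hS hF hNfn)).2
        N _ hm (img_autFun α)
      have hle : S ≤ extSub S hm := fun s hs => centralizerIn_le_extSub hm
        (mem_centralizerIn.mpr ⟨hs, fun x hx => (hcen x hx s hs).symm⟩)
      have hgS := hg.restrict hle
      obtain ⟨g', hg', hgg⟩ := IsMorphism.exists_map hmor.1 hgS
      obtain ⟨t, ht, htx⟩ := hE _ _ hg'
      obtain ⟨s, hs, rfl⟩ : ∃ s ∈ S, th θ s = t :=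
        exists_th_eq (hmor.2.1.symm ▸ ht : t ∈ θ.range)
      have hgdiff : ∀ x ∈ S, (s * x * s⁻¹)⁻¹ * g x ∈ N := fun x hx => by
        have e := (hgg x hx).symm.trans (htx _ (th_mem_imageAlong le_rfl hx))
        rw [← th_conj θ hs hx] at e
        exact hker ▸ (th_eq_iff (S.mul_mem (S.mul_mem hs hx) (S.inv_mem hs)) (hgS.mem hx)).mp e.symm
      have hh : MapTo F S (fun x => cj s⁻¹ (g x)) :=
        hgS.comp (mapTo_cj le_rfl (S.inv_mem hs)) fun x hx => hgS.mem hx
      have hhQ : ∀ x ∈ Q, cj s⁻¹ (g x) ∈ Q := by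
        intro x hx
        have h1 := hgdiff x (hQfn.1 hx)
        have e : cj s⁻¹ (g x) = x * (s⁻¹ * ((s * x * s⁻¹)⁻¹ * g x) * s) := by
          simp only [cj]; group
        rw [e]
        refine mul_mem hx (hNQ ?_)
        rw [mul_assoc, ← hcen _ h1 s hs, inv_mul_cancel_left]
        exact h1
      haveI := fin hQfn.1
      have hNQN : N ≤ normalizerIn S Q := hNQ.trans (le_normalizerIn hQfn.1)
      obtain ⟨u, hu, hux⟩ := hNI Q hQfn hQc N (fun x => cj s⁻¹ (g x)) hNQN
        (fun x hx => le_normalizerIn hQfn.1 (hhQ x (hNQ hx)))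
        ⟨_, hh.restrict (sup_le hN.1.1 hQfn.1), fun _ _ => rfl,
          img_eq_self_of_forall (hh.restrict hQfn.1) hhQ⟩
      refine autFun_ext fun x hx => ?_
      rw [autFun_one hx, ← hgα x hx]
      have h1 : cj s⁻¹ (g x) = x := by
        rw [show cj s⁻¹ (g x) = u * x * u⁻¹ from hux x hx, hcen x hx u (normalizerIn_le hu), mul_inv_cancel_right]
      have hgx : g x ∈ N := StronglyClosed.map_mem hN.1 hgS (hN.1.1 hx) hx
      rw [cj, inv_inv, hcen _ hgx _ (S.inv_mem hs), inv_mul_cancel_right] at h1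
      exact h1
    exact hne (inner_of_eq (eq_inner_of_quotient hS hF hmor (hker.symm ▸ hNn)
      (by rw [hker]; exact fun a => ⟨0, by rw [pow_zero, pow_one]; exact Subtype.ext (htriv _ a.2)⟩)
      hS' hE.mapTo))
  · have hhyp : ¬ F.hyperfocalSubgroup p ≤ (frattini S).map S.subtype := fun h =>
      hne (inner_of_eq (eq_inner_of_hyperfocal_eq_bot hS hF (hyperfocal_eq_bot_of_le_frattini hS hF h)))
    have hNF : ¬ N.subgroupOf S ≤ frattini S := fun h => hhyp (hhN.trans (by
      rw [← Subgroup.map_subgroupOf_eq_of_le hN.1.1]; exact Subgroup.map_mono h))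
    obtain ⟨M, hM, hNM⟩ : ∃ M : Subgroup S, IsCoatom M ∧ ¬ N.subgroupOf S ≤ M := by
      by_contra h
      push Not at h
      exact hNF (le_iInf fun M => le_iInf fun hM => h M hM)
    obtain ⟨hMn, hMi⟩ := FGB.coatom_normal_and_index hS hM
    set M0 := M.map S.subtype with hM0
    have hM0S : M0 ≤ S := Subgroup.map_subtype_le _
    haveI := fin hM0S
    have hNM0 : ¬ N ≤ M0 := fun h => hNM fun x hx => by
      obtain ⟨y, hy, hyx⟩ := h (Subgroup.mem_subgroupOf.mp hx)
      rwa [← Subtype.ext hyx]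
    have hM0n : S ≤ Subgroup.normalizer (M0 : Set Ω) := by
      refine (Subgroup.normal_subgroupOf_iff_le_normalizer hM0S).mp ?_
      rw [hM0, Subgroup.subgroupOf, Subgroup.comap_map_eq_self_of_injective S.subtype_injective]
      exact hMn
    have hM0c : Nat.card M0 * p = Nat.card S := by
      rw [hM0, Subgroup.card_map_of_injective S.subtype_injective, ← hMi, Subgroup.card_mul_index]
    have hMN : N ⊓ M0 ≠ ⊥ := by
      intro h
      haveI := fin (sup_le hN.1.1 hM0S)
      have h1 := Subgroup.card_le_of_le (sup_le hN.1.1 hM0S)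
      rw [card_sup_eq (hN.1.1.trans hM0n) h, hi, ← hM0c, mul_comm (Nat.card M0)] at h1
      have h2 := Nat.le_of_mul_le_mul_right h1 Nat.card_pos
      have h3 : p ^ 2 ≤ p ^ i := Nat.pow_le_pow_right hp.pos hi2
      have h4 : p < p ^ 2 := by
        calc p = p ^ 1 := (pow_one p).symm
          _ < p ^ 2 := Nat.pow_lt_pow_right hp.one_lt (by omega)
      omega
    obtain ⟨k, hk⟩ := IsPGroup.iff_card.mp hS
    have hjk : j < k := (Nat.pow_lt_pow_iff_right hp.one_lt).mp (hk ▸ hjS)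
    obtain ⟨m, hm⟩ := IsPGroup.iff_card.mp (hS.to_le hM0S)
    have hkm : m + 1 = k := by
      apply Nat.pow_right_injective hp.two_le
      show p ^ (m + 1) = p ^ k
      rw [pow_succ, ← hm, hM0c, hk]
    obtain ⟨Q, hNQ, hQM, hQc⟩ := exists_le_card (j := j) hS (inf_le_right : N ⊓ M0 ≤ M0) hM0S
      ((Subgroup.card_le_of_le (inf_le_left : N ⊓ M0 ≤ N)).trans hNd.le)
      (hm ▸ Nat.pow_le_pow_right hp.pos (by omega))
    obtain ⟨P, hP, hQP, hQiP⟩ := hWE Q (hQM.trans hM0S) hQc
    by_cases hP1 : P = ⊥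
    · rw [hP1, sup_bot_eq] at hQP
      exact hNM0 ((huniq Q hQP fun h => by rw [h, Subgroup.card_bot] at hQc; omega).trans hQM)
    · refine hNM0 ((huniq _ hQiP fun h => hMN (le_bot_iff.mp ?_)).trans (inf_le_left.trans hQM))
      exact h ▸ le_inf hNQ (inf_le_left.trans (huniq P hP hP1))

/-- A nilpotency criterion for fusion systems. Let F be a saturated fusion system over a finite p-group S of order at least p². Call a subgroup Q of S weakly embedded in F when there is a subgroup P of S strongly closed in F such that both the product QP and the intersection Q ∩ P are strongly closed in F. Then F is the inner fusion system of S if and only if there is a subgroup D of S with 1 < D < S such that every subgroup of S of the same order as D is weakly embedded in F and, for every fully normalized subgroup H of S of that order, the normalizer fusion system of H in F is the inner fusion system of N_S(H). -/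
theorem result {Ω : Type*} [Group Ω] {S : Subgroup Ω} [Finite S] (p : ℕ) [Fact p.Prime] (hS : IsPGroup p ↥S) (F : Cfsg.FusionSystem S) (hF : F.IsSaturated p) (hcard : p ^ 2 ≤ Nat.card S) : (∀ P : Subgroup Ω, F.Hom P = (Cfsg.innerFusionSystem S).Hom P) ↔ ∃ D : Subgroup Ω, ⊥ < D ∧ D < S ∧ (∀ Q : Subgroup Ω, Q ≤ S → Nat.card ↥Q = Nat.card ↥D → ∃ P : Subgroup Ω, F.StronglyClosed P ∧ F.StronglyClosed (Q ⊔ P) ∧ F.StronglyClosed (Q ⊓ P)) ∧ (∀ H : Subgroup Ω, F.IsFullyNormalized H → Nat.card ↥H = Nat.card ↥D → ∀ N : Cfsg.FusionSystem (Cfsg.FusionSystem.normalizerIn S H), F.IsNormalizerSystem H N → ∀ P : Subgroup Ω, N.Hom P = (Cfsg.innerFusionSystem (Cfsg.FusionSystem.normalizerIn S H)).Hom P) := by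
  have hp := (Fact.out : p.Prime)
  constructor
  · intro hin
    have hinner : ∀ (P : Subgroup Ω) (f : Ω → Ω), Fusion.MapTo F P f → ∃ s ∈ S, ∀ x ∈ P, f x = s * x * s⁻¹ := by
      intro P f hf
      obtain ⟨φ, hφ, hφf⟩ := hf
      exact (Fusion.mapTo_inner_iff.mp ⟨φ, hin P ▸ hφ, hφf⟩).2
    obtain ⟨k, hk⟩ := IsPGroup.iff_card.mp hS
    have hk2 : 2 ≤ k := (Nat.pow_le_pow_iff_right hp.one_lt).mp (hk ▸ hcard)
    obtain ⟨D, -, hDS, hDc⟩ := exists_le_card (j := k - 1) hS (bot_le : (⊥ : Subgroup Ω) ≤ S) le_rfl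
      (by simpa using Nat.one_le_pow _ _ hp.pos) (hk ▸ Nat.pow_le_pow_right hp.pos (by omega))
    have hd1 : 1 < p ^ (k - 1) := Nat.one_lt_pow (by omega) hp.one_lt
    have hd2 : p ^ (k - 1) < p ^ k := Nat.pow_lt_pow_right hp.one_lt (by omega)
    refine ⟨D, bot_lt_iff_ne_bot.mpr fun h => ?_, lt_of_le_of_ne hDS fun h => ?_, fun Q hQS hQc => ?_,
      fun H _ _ N hN => ?_⟩
    · rw [h, Subgroup.card_bot] at hDc; omega
    · rw [h, hk] at hDc; omega
    · refine ⟨⊥, Fusion.IsNormal.stronglyClosed (Fusion.isNormal_bot F), ?_,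
        by rw [inf_bot_eq]; exact Fusion.IsNormal.stronglyClosed (Fusion.isNormal_bot F)⟩
      rw [sup_bot_eq]
      haveI : Finite Q := Fusion.finite_of_le hQS
      have hidx : (Q.subgroupOf S).index = p := by
        have h1 := Subgroup.card_mul_index (Q.subgroupOf S)
        rw [Nat.card_congr (Subgroup.subgroupOfEquivOfLe hQS).toEquiv, hQc, hDc, hk] at h1
        refine Nat.eq_of_mul_eq_mul_left (pow_pos hp.pos (k - 1)) (h1.trans ?_)
        rw [← pow_succ]; congr 1; omega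
      have hn : (Q.subgroupOf S).Normal := Subgroup.normal_of_index_eq_minFac_card (by
        rw [hidx, hk, Nat.Prime.pow_minFac hp (by omega)])
      refine Fusion.stronglyClosed_iff.mpr ⟨hQS, fun R f hR hf x hx => ?_⟩
      obtain ⟨s, hs, hsx⟩ := hinner R f hf
      rw [hsx x hx]
      exact hn.conj_mem ⟨x, hQS (hR hx)⟩ (hR hx) ⟨s, hs⟩
    · refine fun P => Set.ext fun φ => ⟨fun hφ => ?_, fun hφ => ?_⟩
      · obtain ⟨hP, hf, g, hg, hgf, hgH⟩ := (Fusion.mapTo_nSys_iff hN).mp (Fusion.mapTo_ev hφ)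
        obtain ⟨s, hs, hsx⟩ := hinner _ g hg
        refine Fusion.mapTo_ev_iff.mp (Fusion.mapTo_inner_iff.mpr ⟨hP, s, ⟨hs, ?_⟩, fun x hx => ?_⟩)
        · refine Subgroup.mem_normalizer_iff_map_conj_eq.mpr ?_
          show H.map (MulAut.conj s).toMonoidHom = H
          rw [← Fusion.img_cj, Fusion.img_congr (f := Fusion.cj s) (g := g) fun x hx =>
            (hsx x (Subgroup.mem_sup_right hx)).symm]
          exact hgH
        · rw [← hgf x hx, hsx x (Subgroup.mem_sup_left hx)]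
      · exact Fusion.mapTo_ev_iff.mp
          (Fusion.le_iff_mapTo.mp (Fusion.inner_le N) P _ (Fusion.mapTo_ev hφ))
  · rintro ⟨D, hD1, hD2, hWE, hNI⟩
    haveI : Finite D := Fusion.finite_of_le hD2.le
    obtain ⟨j, hj⟩ := IsPGroup.iff_card.mp (hS.to_le hD2.le)
    have hj1 : 1 ≤ j := by
      rcases Nat.eq_zero_or_pos j with rfl | h
      · exact absurd (Subgroup.card_eq_one.mp (by simpa using hj)) hD1.ne'
      · exact h
    have hlt : p ^ j < Nat.card S := hj ▸ lt_card_of_not_le le_rfl hD2.le (not_le_of_gt hD2)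
    have h := main (Nat.card S) Ω S p le_rfl hS F hF j hj1 hlt
      (fun Q hQ hQc => hWE Q hQ (hQc.trans hj.symm))
      (fun H hH hHc P f hP hf hext => (Fusion.mapTo_inner_iff.mp (by
        have hns := Fusion.isNormalizerSystem_nSys F hH.1
        obtain ⟨φ, hφ, hφf⟩ := (Fusion.mapTo_nSys_iff hns).mpr ⟨hP, hf, hext⟩
        exact ⟨φ, hNI H hH (hHc.trans hj.symm) _ hns P ▸ hφ, hφf⟩)).2)
    intro P
    refine Set.ext fun φ => ⟨fun hφ => ?_, fun hφ => ?_⟩
    · exact Fusion.mapTo_ev_iff.mp (h.mapTo P _ (Fusion.mapTo_ev hφ))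
    · exact Fusion.mapTo_ev_iff.mp
        (Fusion.le_iff_mapTo.mp (Fusion.inner_le F) P _ (Fusion.mapTo_ev hφ))

end Cfsg.Agent.S5271
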