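import Cfsg.Statements.S5272
import Cfsg.Agent.Lib.Fusion.AxiomaticGT

set_option autoImplicit false
open Cfsg

namespace Cfsg.Agent.S5272

/-- An axiomatic Glauberman–Thompson nilpotency criterion for fusion systems. Let p be an odd prime, F a saturated fusion system over a finite p-group S, and 𝒜 a nonempty family of abelian subgroups of S. For Q ≤ S write I(Q) for the intersection of the members of 𝒜 contained in Q. Assume (invariance) that for every Q ≤ S containing a member of 𝒜, every F-automorphism of Q maps I(Q) into itself, and (replacement) that for every subgroup B of S of nilpotency class at most 2, if some member of 𝒜 contains [B,B] but not B, then B normalizes some member of 𝒜 that contains [B,B] but not B. Then F is the inner fusion system of S if and only if the normalizer fusion system of I(S) in F is the inner fusion system of N_S(I(S)). -/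
theorem result {Ω : Type*} [Group Ω] {S : Subgroup Ω} [Finite S] (p : ℕ) [Fact p.Prime] (hS : IsPGroup p ↥S) (F : Cfsg.FusionSystem S) (hF : F.IsSaturated p) (hp : p ≠ 2) (𝒜 : Set (Subgroup Ω)) (h𝒜 : ∀ A ∈ 𝒜, A ≤ S ∧ IsMulCommutative ↥A) (hne : 𝒜.Nonempty) (hinv : ∀ Q : Subgroup Ω, Q ≤ S → (∃ A ∈ 𝒜, A ≤ Q) → ∀ α ∈ F.autGroup Q, ∀ x : ↥Q, (x : Ω) ∈ (⨅ A ∈ {A : Subgroup Ω | A ∈ 𝒜 ∧ A ≤ Q}, A) → (((α : MulAut ↥Q) x : ↥Q) : Ω) ∈ (⨅ A ∈ {A : Subgroup Ω | A ∈ 𝒜 ∧ A ≤ Q}, A)) (hrep : ∀ B : Subgroup Ω, B ≤ S → ⁅⁅B, B⁆, B⁆ = ⊥ → (∃ A ∈ 𝒜, ⁅B, B⁆ ≤ A ∧ ¬ B ≤ A) → ∃ A ∈ 𝒜, ⁅B, B⁆ ≤ A ∧ ¬ B ≤ A ∧ B ≤ Subgroup.normalizer (A : Set Ω)) : (∀ P : Subgroup Ω, F.Hom P = (Cfsg.innerFusionSystem S).Hom P) ↔ ∀ N : Cfsg.FusionSystem (Cfsg.FusionSystem.normalizerIn S (⨅ A ∈ 𝒜, A)), F.IsNormalizerSystem (⨅ A ∈ 𝒜, A) N → ∀ P : Subgroup Ω, N.Hom P = (Cfsg.innerFusionSystem (Cfsg.FusionSystem.normalizerIn S (⨅ A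 ∈ 𝒜, A))).Hom P := by
  refine Cfsg.Agent.Fusion.axiomaticGT_iff hS hF hp hne ?_ ?_ ?_
    (fun x => by simp only [Subgroup.mem_iInf])
  · exact fun A hA => ⟨(h𝒜 A hA).1, fun a ha b hb =>
      congrArg Subtype.val ((h𝒜 A hA).2.is_comm.comm ⟨a, ha⟩ ⟨b, hb⟩)⟩
  · intro Q hQ hex α hα x hx hall A hA hAQ
    have h := hinv Q hQ hex α hα ⟨x, hx⟩ (by
      simp only [Subgroup.mem_iInf]
      exact fun B hB => hall B hB.1 hB.2)
    simp only [Subgroup.mem_iInf] at h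
    have h' := h A ⟨hA, hAQ⟩
    rwa [← Cfsg.Agent.Fusion.autFun_coe] at h'
  · intro B hB hcl hex
    obtain ⟨A, hA, -, hnA, hn⟩ := hrep B hB hcl hex
    exact ⟨A, hA, hnA, fun b hb a ha => (Subgroup.mem_normalizer_iff.mp (hn hb) a).mp ha⟩

end Cfsg.Agent.S5272
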