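import Cfsg.Statements.S5276
import Cfsg.Agent.Lib.Fusion.Transfer
import Cfsg.Agent.Lib.Fusion.ImageSaturation
import Cfsg.Agent.Lib.Basics.Frattini

set_option autoImplicit false
open Cfsg

namespace Cfsg.Agent.S5276

/-- Let p be a prime and F a saturated fusion system over a finite p-group S. Then F is the inner fusion system of S if and only if the normalizer fusion system of S itself in F is the inner fusion system (equivalently, Aut_F(S) is induced by S) and the Frattini subgroup Φ(S) is strongly closed in F. -/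
theorem result {Ω : Type*} [Group Ω] {S : Subgroup Ω} [Finite S] (p : ℕ) [Fact p.Prime] (hS : IsPGroup p ↥S) (F : Cfsg.FusionSystem S) (hF : F.IsSaturated p) : (∀ P : Subgroup Ω, F.Hom P = (Cfsg.innerFusionSystem S).Hom P) ↔ (∀ N : Cfsg.FusionSystem (Cfsg.FusionSystem.normalizerIn S S), F.IsNormalizerSystem S N → ∀ P : Subgroup Ω, N.Hom P = (Cfsg.innerFusionSystem (Cfsg.FusionSystem.normalizerIn S S)).Hom P) ∧ F.StronglyClosed ((frattini ↥S).map S.subtype) := by
  have hnS : Cfsg.FusionSystem.normalizerIn S S = S :=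
    le_antisymm Cfsg.Agent.Fusion.normalizerIn_le (Cfsg.Agent.Fusion.le_normalizerIn le_rfl)
  have hTS : (frattini ↥S).map S.subtype ≤ S := Subgroup.map_subtype_le _
  have hTn : ∀ s ∈ S, ∀ x ∈ (frattini ↥S).map S.subtype,
      s * x * s⁻¹ ∈ (frattini ↥S).map S.subtype := by
    rintro s hs _ ⟨y, hy, rfl⟩
    exact ⟨⟨s, hs⟩ * y * ⟨s, hs⟩⁻¹, (inferInstance : (frattini ↥S).Normal).conj_mem y hy _, rfl⟩
  constructor
  · intro h
    have hiff : ∀ {P : Subgroup Ω} {f : Ω → Ω}, Cfsg.Agent.Fusion.MapTo F P f →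
        Cfsg.Agent.Fusion.MapTo (Cfsg.innerFusionSystem S) P f :=
      fun {P f} ⟨φ, hφ, hf⟩ => ⟨φ, h P ▸ hφ, hf⟩
    refine ⟨fun N hN P => ?_, Cfsg.Agent.Fusion.stronglyClosed_iff.mpr
      ⟨hTS, fun R f hR hf x hx => ?_⟩⟩
    · rw [hN P]
      ext φ
      refine ⟨fun hφ => ?_, fun ⟨hP, g, hg, hgx⟩ => ?_⟩
      · obtain ⟨hP, g, hg, hgx⟩ : φ ∈ (Cfsg.innerFusionSystem S).Hom P := h P ▸ hφ.1
        exact ⟨hnS.symm ▸ hP, g, hnS.symm ▸ hg, hgx⟩
      · rw [hnS] at hP hg
        refine (Cfsg.Agent.Fusion.mem_normalizerHom_iff (f := Cfsg.Agent.Fusion.cj g) hgx).mpr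
          ⟨hnS.symm ▸ hP, fun x hx => hnS.symm ▸ S.mul_mem (S.mul_mem hg (hP hx)) (S.inv_mem hg),
            Cfsg.Agent.Fusion.cj g, Cfsg.Agent.Fusion.mapTo_cj (sup_le hP le_rfl) hg,
            fun x _ => rfl, ?_⟩
        exact Cfsg.Agent.Fusion.img_eq_self_of_forall
          (Cfsg.Agent.Fusion.mapTo_cj (F := F) le_rfl hg)
          fun x hx => S.mul_mem (S.mul_mem hg hx) (S.inv_mem hg)
    · obtain ⟨-, g, hg, hgx⟩ := Cfsg.Agent.Fusion.mapTo_inner_iff.mp (hiff hf)
      rw [hgx x hx]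
      exact hTn g hg x (hR hx)
  · rintro ⟨hN, hT⟩
    have hNs := Cfsg.Agent.Fusion.isNormalizerSystem_nSys F (le_refl S)
    have hAut : ∀ {f : Ω → Ω}, Cfsg.Agent.Fusion.MapTo F S f →
        ∃ g ∈ S, ∀ x ∈ S, f x = g * x * g⁻¹ := by
      intro f hf
      have hm : Cfsg.Agent.Fusion.MapTo (Cfsg.Agent.Fusion.nSys F (le_refl S)) S f :=
        (Cfsg.Agent.Fusion.mapTo_nSys_iff hNs).mpr ⟨hnS.symm.le, fun x hx => hnS.symm ▸ hf.mem hx,
          f, by rwa [sup_idem], fun _ _ => rfl,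
          Cfsg.Agent.Fusion.img_eq_self_of_forall hf fun x hx => hf.mem hx⟩
      obtain ⟨φ, hφ, hφf⟩ := hm
      rw [hN _ hNs S] at hφ
      obtain ⟨-, g, hg, hgx⟩ := hφ
      exact ⟨g, hnS ▸ hg, fun x hx => (hφf ⟨x, hx⟩).symm.trans (hgx ⟨x, hx⟩)⟩
    set T := (frattini ↥S).map S.subtype with hTdef
    have hnorm : (T.subgroupOf S).Normal :=
      ⟨fun n hn g => hTn g g.2 n hn⟩
    set θ := QuotientGroup.mk' (T.subgroupOf S) with hθ
    have hk : Cfsg.Agent.Fusion.kerIn θ = T := by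
      rw [Cfsg.Agent.Fusion.kerIn, hθ, QuotientGroup.ker_mk',
        Subgroup.map_subgroupOf_eq_of_le hTS]
    have hr : θ.range = ⊤ := MonoidHom.range_eq_top.mpr (QuotientGroup.mk'_surjective _)
    have hsc : F.StronglyClosed (Cfsg.Agent.Fusion.kerIn θ) := hk.symm ▸ hT
    have hfac := Cfsg.Agent.Fusion.isFactorSystem_factorSys F θ hr hsc
    have hmor := Cfsg.Agent.Fusion.IsFactorSystem.isSurjectiveMorphism hS hF hsc hfac
    set E := Cfsg.Agent.Fusion.factorSys F θ hr hsc with hEdef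
    have hEsat := Cfsg.Agent.Fusion.isSaturated_image hS hF hmor
    have := hS.isNilpotent
    have hab : ∀ a b : ↥S ⧸ T.subgroupOf S, a * b = b * a := by
      intro a b
      obtain ⟨x, rfl⟩ := QuotientGroup.mk_surjective a
      obtain ⟨y, rfl⟩ := QuotientGroup.mk_surjective b
      rw [← QuotientGroup.mk_mul, ← QuotientGroup.mk_mul, QuotientGroup.eq]
      refine Subgroup.mem_subgroupOf.mpr ⟨(x * y)⁻¹ * (y * x),
        Cfsg.Agent.Basics.commutator_le_frattini ?_, rfl⟩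
      have := Subgroup.commutator_mem_commutator (Subgroup.mem_top y⁻¹) (Subgroup.mem_top x⁻¹)
      rw [← commutator_def] at this
      convert this using 1
      rw [commutatorElement_def]
      group
    have hfoc : F.focalSubgroup ≤ T := by
      refine Cfsg.Agent.Fusion.focal_le_iff.mpr fun P f hf x hx => ?_
      obtain ⟨f', hf', hff⟩ := Cfsg.Agent.Fusion.IsMorphism.exists_map hmor.1 hf
      have hQn : E.IsFullyNormalized (Cfsg.Agent.Fusion.img f'
          (Cfsg.FusionSystem.imageAlong θ P)) := by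
        refine ⟨hf'.img_le, fun R hR => ?_⟩
        have hcentral : ∀ U : Subgroup (↥S ⧸ T.subgroupOf S),
            Cfsg.FusionSystem.normalizerIn ⊤ U = ⊤ := fun U => by
          rw [eq_top_iff]
          intro z _
          refine Cfsg.Agent.Fusion.mem_normalizerIn.mpr ⟨trivial, fun y => ?_⟩
          rw [hab z y, mul_inv_cancel_right]
        rw [hcentral, hcentral]
      have : Finite (⊤ : Subgroup (↥S ⧸ T.subgroupOf S)) := inferInstance
      have hpT : IsPGroup p (⊤ : Subgroup (↥S ⧸ T.subgroupOf S)) :=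
        (hS.to_quotient _).to_subgroup ⊤
      obtain ⟨g, hg, hgf⟩ := (Cfsg.Agent.Fusion.isReceptive_iff.mp
        (Cfsg.Agent.Fusion.isReceptive_of_isFullyNormalized hpT hEsat hQn)).2 _ f' hf' rfl
      have hext : Cfsg.Agent.Fusion.extSub ⊤ hf' = ⊤ := by
        rw [eq_top_iff]
        intro z _
        refine ⟨Cfsg.Agent.Fusion.mem_normalizerIn.mpr ⟨trivial, fun y => ?_⟩, 1,
          Subgroup.one_mem _, fun y _ => ?_⟩
        · rw [hab z y, mul_inv_cancel_right]
        · rw [hab z y, mul_inv_cancel_right, one_mul, inv_one, mul_one]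
      rw [hext] at hg
      obtain ⟨-, f₁, hf₁, hf₁g⟩ := Cfsg.Agent.Fusion.IsFactorSystem.exists_lift hfac hg
      have hpre : ∀ z ∈ S, z ∈ Cfsg.FusionSystem.preimageAlong θ ⊤ := fun z hz =>
        Cfsg.Agent.Fusion.mem_preimageAlong.mpr ⟨hz, trivial⟩
      obtain ⟨s, hs, hsx⟩ := hAut (hf₁.restrict hpre)
      have hxS := hf.le hx
      have h1 : Cfsg.Agent.Fusion.th θ (f x) = Cfsg.Agent.Fusion.th θ x := by
        rw [← hff x hx, ← hgf _ (Cfsg.Agent.Fusion.th_mem_imageAlong hf.le hx),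
          hf₁g x (hpre x hxS), hsx x hxS, Cfsg.Agent.Fusion.th_conj θ hs hxS,
          hab (Cfsg.Agent.Fusion.th θ s), mul_inv_cancel_right]
      exact hk ▸ (Cfsg.Agent.Fusion.th_eq_iff hxS (hf.mem hx)).mp h1.symm
    have hbot := Cfsg.Agent.Fusion.hyperfocal_eq_bot_of_le_frattini hS hF
      (Cfsg.Agent.Fusion.hyperfocal_le_focal.trans hfoc)
    intro P
    rw [Cfsg.Agent.Fusion.eq_inner_of_hyperfocal_eq_bot hS hF hbot]

end Cfsg.Agent.S5276
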