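import Cfsg.Statements.S5284
import Cfsg.Agent.Lib.Fusion.SolvableSystem
import Cfsg.Agent.Lib.Fusion.Realized

set_option autoImplicit false
open Cfsg

namespace Cfsg.Agent.S5284

open Cfsg.Agent.Fusion

section Cyclic

/-- In a finite group, elements of order dividing `p` in a common cyclic subgroup are proportional. -/
theorem mem_zpowers_of_pow_eq_one {Q : Type*} [Group Q] [Finite Q] {p : ℕ} (hp : p.Prime) {g u v : Q}
    (hu : u ∈ Subgroup.zpowers g) (hv : v ∈ Subgroup.zpowers g) (hup : u ^ p = 1) (hvp : v ^ p = 1)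
    (hu1 : u ≠ 1) : v ∈ Subgroup.zpowers u := by
  haveI := Fact.mk hp
  let K : Subgroup Q := Subgroup.zpowers g
  let _ : CommGroup K := IsCyclic.commGroup
  haveI : IsCyclic K := inferInstance
  have hker := IsCyclic.card_powMonoidHom_ker (G := K) p
  set N := (powMonoidHom p : K →* K).ker
  have hle : Nat.card N ≤ p := hker ▸ Nat.gcd_le_right _ hp.pos
  have huN : (⟨u, hu⟩ : K) ∈ N := Subtype.ext (by simpa using hup)
  have hvN : (⟨v, hv⟩ : K) ∈ N := Subtype.ext (by simpa using hvp)
  have ho : orderOf (⟨u, hu⟩ : K) = p :=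
    orderOf_eq_prime (Subtype.ext (by simpa using hup)) fun e => hu1 (congrArg Subtype.val e)
  have heq : Subgroup.zpowers (⟨u, hu⟩ : K) = N :=
    Subgroup.eq_of_le_of_card_ge (Subgroup.zpowers_le.mpr huN) (by rw [Nat.card_zpowers, ho]; exact hle)
  rw [← heq] at hvN
  obtain ⟨k, hk⟩ := Subgroup.mem_zpowers_iff.mp hvN
  exact Subgroup.mem_zpowers_iff.mpr ⟨k, by simpa using congrArg Subtype.val hk⟩

end Cyclic

section Layers

variable {A : Type*} [CommGroup A]

/-- The elements of order dividing `p` which are `p ^ i`-th powers. -/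
def lay (p i : ℕ) (A : Type*) [CommGroup A] : Subgroup A :=
  (powMonoidHom p : A →* A).ker ⊓ (powMonoidHom (p ^ i) : A →* A).range

/-- The elements whose `p ^ t`-th power lies in the `i`-th layer. -/
def lay2 (p t i : ℕ) (A : Type*) [CommGroup A] : Subgroup A :=
  (lay p i A).comap (powMonoidHom (p ^ t))

theorem mem_lay {p i : ℕ} {x : A} : x ∈ lay p i A ↔ x ^ p = 1 ∧ ∃ y, y ^ p ^ i = x := by
  simp [lay, MonoidHom.mem_range]

theorem map_mem_lay2 {p t i : ℕ} (e : A ≃* A) {x : A} (hx : x ∈ lay2 p t i A) :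
    e x ∈ lay2 p t i A := by
  simp only [lay2, Subgroup.mem_comap, powMonoidHom_apply, mem_lay] at hx ⊢
  obtain ⟨h1, y, hy⟩ := hx
  exact ⟨by rw [← map_pow, ← map_pow, h1, map_one], e y, by rw [← map_pow, hy, map_pow]⟩

theorem zmod_dvd_of_killed {p a : ℕ} (hp : p.Prime) {z : ZMod (p ^ a)} (h : p • z = 0) (d : ℕ)
    (hd : d + 1 ≤ a) : ∃ w : ZMod (p ^ a), p ^ d • w = z := by
  haveI : NeZero (p ^ a) := ⟨pow_ne_zero _ hp.ne_zero⟩
  have h1 : p ^ a ∣ p * z.val := by
    rw [← ZMod.natCast_eq_zero_iff, Nat.cast_mul, ZMod.natCast_zmod_val, ← nsmul_eq_mul, h]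
  obtain ⟨b, rfl⟩ : ∃ b, a = d + 1 + b := ⟨a - (d + 1), by omega⟩
  have h2 : p ^ d ∣ z.val := by
    refine Nat.dvd_of_mul_dvd_mul_left hp.pos (dvd_trans ?_ h1)
    rw [← pow_succ']
    exact pow_dvd_pow p (by omega)
  obtain ⟨q, hq⟩ := h2
  exact ⟨(q : ZMod _), by rw [nsmul_eq_mul, ← Nat.cast_mul, ← hq, ZMod.natCast_zmod_val]⟩

theorem lay_step {ι : Type} {p : ℕ} (hp : p.Prime) (a : ι → ℕ) (ha : Function.Injective a)
    (e : A ≃* ((j : ι) → Multiplicative (ZMod (p ^ a j)))) (i : ℕ) {u w : A}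
    (hu : u ∈ lay p i A) (hu' : u ∉ lay p (i + 1) A) (hw : w ∈ lay p i A) :
    ∃ k : ℤ, w * (u ^ k)⁻¹ ∈ lay p (i + 1) A := by
  have hlow : ∀ x ∈ lay p i A, (∀ j, a j = i + 1 → e x j = 1) → x ∈ lay p (i + 1) A := by
    intro x hx hz
    obtain ⟨hxp, y, hy⟩ := mem_lay.mp hx
    have hc : ∀ j, ∃ z : Multiplicative (ZMod (p ^ a j)), z ^ p ^ (i + 1) = e x j := by
      intro j
      rcases lt_trichotomy (a j) (i + 1) with h | h | h
      · refine ⟨1, ?_⟩
        rw [one_pow, ← hy, map_pow, Pi.pow_apply]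
        obtain ⟨d, hd⟩ : ∃ d, i = a j + d := ⟨i - a j, by omega⟩
        rw [hd, pow_add, pow_mul]
        have : (e y j) ^ p ^ a j = 1 := by
          apply Multiplicative.toAdd.injective
          rw [toAdd_pow, toAdd_one, nsmul_eq_mul, ZMod.natCast_self, zero_mul]
        rw [this, one_pow]
      · exact ⟨1, by rw [one_pow, hz j h]⟩
      · obtain ⟨z, hz'⟩ := zmod_dvd_of_killed hp (z := (e x j).toAdd) (by
          rw [← toAdd_pow, ← Pi.pow_apply, ← map_pow, hxp, map_one, Pi.one_apply, toAdd_one]) (i + 1)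
          (by omega)
        refine ⟨Multiplicative.ofAdd z, ?_⟩
        rw [← ofAdd_nsmul, hz', ofAdd_toAdd]
    choose z hz' using hc
    exact mem_lay.mpr ⟨hxp, e.symm z, e.injective (by
      rw [map_pow, MulEquiv.apply_symm_apply]; exact funext hz')⟩
  by_cases hj : ∃ j, a j = i + 1
  · obtain ⟨j, hj⟩ := hj
    have huj : e u j ≠ 1 := fun h => hu' (hlow u hu fun k hk => by
      rw [ha (hk.trans hj.symm)]; exact h)
    haveI : NeZero (p ^ a j) := ⟨pow_ne_zero _ hp.ne_zero⟩
    obtain ⟨g, hg⟩ := (inferInstance : IsCyclic (Multiplicative (ZMod (p ^ a j)))).exists_generator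
    have hv := mem_zpowers_of_pow_eq_one hp (hg (e u j)) (hg (e w j))
      (by rw [← Pi.pow_apply, ← map_pow, (mem_lay.mp hu).1, map_one, Pi.one_apply])
      (by rw [← Pi.pow_apply, ← map_pow, (mem_lay.mp hw).1, map_one, Pi.one_apply]) huj
    obtain ⟨k, hk⟩ := Subgroup.mem_zpowers_iff.mp hv
    refine ⟨k, hlow _ (mul_mem hw (inv_mem (zpow_mem hu k))) fun l hl => ?_⟩
    rw [ha (hl.trans hj.symm), map_mul, map_inv, map_zpow, Pi.mul_apply, Pi.inv_apply, Pi.pow_apply, hk,
      mul_inv_cancel]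
  · exact absurd (hlow u hu fun k hk => absurd ⟨k, hk⟩ hj) hu'

/-- Splitting off two factors. -/
def piSplitTwo {ι : Type} [DecidableEq ι] (M : ι → Type) [∀ i, CommGroup (M i)] {j k : ι} (hjk : j ≠ k) :
    ((i : ι) → M i) ≃* (M j × M k) × ((l : {l : ι // l ≠ j ∧ l ≠ k}) → M l.1) where
  toFun f := ((f j, f k), fun l => f l.1)
  invFun t := fun i => if h : i = j then h ▸ t.1.1 else if h' : i = k then h' ▸ t.1.2 else t.2 ⟨i, h, h'⟩
  left_inv f := by
    funext i
    by_cases h : i = j
    · subst h; simp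
    · by_cases h' : i = k
      · subst h'; simp [h]
      · simp [h, h']
  right_inv t := by
    obtain ⟨⟨x, y⟩, g⟩ := t
    refine Prod.ext (Prod.ext ?_ ?_) (funext fun l => ?_)
    · simp
    · simp [hjk.symm]
    · simp [l.2.1, l.2.2]
  map_mul' f g := rfl

end Layers

section Systems

variable {Ω : Type*} [Group Ω] {S : Subgroup Ω}

/-- The system of an automorphism group of an abelian group. -/
def autSys (hab : IsMulCommutative S) (A : Subgroup (MulAut S)) : Cfsg.FusionSystem S where
  Hom P := {φ | ∃ hP : P ≤ S, ∃ α ∈ A, ∀ x : P, φ x = ((α ⟨x, hP x.2⟩ : S) : Ω)}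
  le_of_mem := by
    rintro P φ ⟨hP, α, -, h⟩
    exact ⟨hP, fun x => (h x).symm ▸ (α _).2⟩
  injective_of_mem := by
    rintro P φ ⟨hP, α, -, h⟩ x y hxy
    rw [h, h] at hxy
    have h1 := α.injective (Subtype.ext hxy)
    exact Subtype.ext (congrArg (fun s : S => (s : Ω)) h1)
  conj_mem := by
    intro P g hP hg
    refine ⟨hP, 1, one_mem _, fun x => ?_⟩
    have h : g * (x : Ω) = (x : Ω) * g := congrArg Subtype.val (hab.is_comm.comm ⟨g, hg⟩ ⟨x, hP x.2⟩)
    show g * (x : Ω) * g⁻¹ = x
    rw [h, mul_inv_cancel_right]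
  comp_mem := by
    rintro P Q φ ψ ⟨hP, α, hα, hφ⟩ ⟨hQ, β, hβ, hψ⟩ h
    refine ⟨hP, β * α, mul_mem hβ hα, fun x => ?_⟩
    rw [MonoidHom.comp_apply, hψ, MulAut.mul_apply]
    exact congrArg (fun s : S => ((β s : S) : Ω)) (Subtype.ext (hφ x))
  inv_mem := by
    rintro P φ ⟨hP, α, hα, hφ⟩
    have hr : φ.range ≤ S := by
      rintro _ ⟨x, rfl⟩; rw [hφ]; exact (α _).2
    refine ⟨S.subtype.comp (α⁻¹.toMonoidHom.comp (Subgroup.inclusion hr)),
      ⟨hr, α⁻¹, inv_mem hα, fun _ => rfl⟩, fun x => ?_⟩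
    have e : (⟨φ x, hr ⟨x, rfl⟩⟩ : S) = α ⟨x, hP x.2⟩ := Subtype.ext (hφ x)
    show ((α⁻¹ (⟨φ x, hr ⟨x, rfl⟩⟩ : S) : S) : Ω) = x
    rw [e, MulAut.inv_apply_self]

theorem isSaturated_autSys [Finite S] {p : ℕ} [Fact p.Prime] (hS : IsPGroup p S)
    (hab : IsMulCommutative S) (A : Subgroup (MulAut S)) (hA : ¬ p ∣ Nat.card A) :
    (autSys hab A).IsSaturated p := by
  haveI : Finite (MulAut S) := finite_mulAut S
  let act : A →* MulAut S := A.subtype
  haveI : Finite (S ⋊[act] A) := Finite.of_equiv _ SemidirectProduct.equivProd.symm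
  have hcardT : Nat.card (SemidirectProduct.inl : S →* S ⋊[act] A).range = Nat.card S :=
    (Nat.card_congr (MonoidHom.ofInjective SemidirectProduct.inl_injective).toEquiv).symm
  have hTp : IsPGroup p (SemidirectProduct.inl : S →* S ⋊[act] A).range :=
    hS.of_equiv (MonoidHom.ofInjective SemidirectProduct.inl_injective)
  have hidx : (SemidirectProduct.inl : S →* S ⋊[act] A).range.index = Nat.card A := by
    have h1 := Subgroup.card_mul_index (SemidirectProduct.inl : S →* S ⋊[act] A).range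
    rw [hcardT, SemidirectProduct.card] at h1
    exact Nat.eq_of_mul_eq_mul_left Nat.card_pos h1
  refine IsRealizedBy.isSaturated (ι := (SemidirectProduct.inl : S →* S ⋊[act] A)) ?_
    (hTp.toSylow (by rw [hidx]; exact hA)) rfl
  have key : ∀ (g : S ⋊[act] A) (s : S),
      g * SemidirectProduct.inl s * g⁻¹ = SemidirectProduct.inl ((g.right : MulAut S) s) := by
    intro g s
    ext
    · simp [SemidirectProduct.mul_left, SemidirectProduct.inv_left, act]
      exact congrArg Subtype.val (by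
        rw [hab.is_comm.comm g.left, mul_inv_cancel_right] :
          g.left * (g.right : MulAut S) s * g.left⁻¹ = (g.right : MulAut S) s)
    · simp
  refine ⟨SemidirectProduct.inl_injective, fun P hP φ hφ => ⟨?_, ?_⟩⟩
  · rintro ⟨_, α, hα, h⟩
    refine ⟨SemidirectProduct.inr ⟨α, hα⟩, fun x => ?_⟩
    rw [key]
    exact congrArg _ (Subtype.ext (h x))
  · rintro ⟨g, hg⟩
    refine ⟨hP, (g.right : MulAut S), g.right.2, fun x => ?_⟩
    have h1 := hg x
    rw [key] at h1
    exact congrArg Subtype.val (SemidirectProduct.inl_injective h1)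

/-- A series from `⊥` of strongly closed subgroups with cyclic steps. -/
def Reach (F : Cfsg.FusionSystem S) (C : Subgroup Ω) : Prop :=
  ∃ (m : ℕ) (c : Fin (m + 1) → Subgroup Ω), c 0 = ⊥ ∧ c (Fin.last m) = C ∧
    (∀ i : Fin (m + 1), F.StronglyClosed (c i)) ∧
    ∀ i : Fin m, c i.castSucc ≤ c i.succ ∧ ∃ x ∈ S, c i.succ = c i.castSucc ⊔ Subgroup.zpowers x

theorem Reach.step {F : Cfsg.FusionSystem S} {C D : Subgroup Ω} (h : Reach F C) (hD : F.StronglyClosed D)
    (hle : C ≤ D) {x : Ω} (hx : x ∈ S) (he : D = C ⊔ Subgroup.zpowers x) : Reach F D := by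
  obtain ⟨m, c, h0, hl, hsc, hst⟩ := h
  refine ⟨m + 1, Fin.snoc c D, ?_, Fin.snoc_last _ _, fun i => ?_, fun i => ?_⟩
  · rw [show (0 : Fin (m + 2)) = (0 : Fin (m + 1)).castSucc from rfl, Fin.snoc_castSucc, h0]
  · induction i using Fin.lastCases with
    | last => rw [Fin.snoc_last]; exact hD
    | cast i => rw [Fin.snoc_castSucc]; exact hsc i
  · induction i using Fin.lastCases with
    | last =>
      rw [Fin.succ_last, Fin.snoc_last, Fin.snoc_castSucc, hl]
      exact ⟨hle, x, hx, he⟩
    | cast i =>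
      rw [Fin.succ_castSucc, Fin.snoc_castSucc, Fin.snoc_castSucc]
      exact hst i

end Systems

section Lines

variable {q : ℕ}

/-- A companion automorphism. -/
def comp2 (c : (ZMod q)ˣ) (d : ZMod q) : (ZMod q × ZMod q) ≃+ (ZMod q × ZMod q) where
  toFun v := ((c : ZMod q) * v.2, v.1 + d * v.2)
  invFun v := (v.2 - d * ((c⁻¹ : (ZMod q)ˣ) : ZMod q) * v.1, ((c⁻¹ : (ZMod q)ˣ) : ZMod q) * v.1)
  left_inv v := by
    refine Prod.ext ?_ (by simp)
    show v.1 + d * v.2 - d * ((c⁻¹ : (ZMod q)ˣ) : ZMod q) * ((c : ZMod q) * v.2) = v.1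
    rw [mul_assoc, Units.inv_mul_cancel_left]; ring
  right_inv v := by
    refine Prod.ext (by simp) ?_
    simp [mul_assoc]
  map_add' v w := by ext <;> simp <;> ring

theorem exists_lineFree {p n : ℕ} [Fact p.Prime] (hn : 0 < n) :
    ∃ (c : (ZMod (p ^ n))ˣ) (d : ZMod (p ^ n)) (N : ℕ), 0 < N ∧ ¬ p ∣ N ∧
      (∀ v, (comp2 c d)^[N] v = v) ∧
      ∀ k : ZMod p, k ^ 2 - (ZMod.castHom (dvd_pow_self p hn.ne') (ZMod p) d) * k -
        ZMod.castHom (dvd_pow_self p hn.ne') (ZMod p) (c : ZMod (p ^ n)) ≠ 0 := by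
  have hp := (Fact.out : p.Prime)
  rcases hp.eq_two_or_odd' with rfl | hodd
  · refine ⟨-1, -1, 3, by norm_num, by norm_num, fun v => ?_, ?_⟩
    · simp [comp2]
    · simp only [Units.val_neg, Units.val_one, map_neg, map_one]
      intro k
      fin_cases k <;> norm_num <;> decide +revert
  · have hp2 : ringChar (ZMod p) ≠ 2 := by
      rw [ZMod.ringChar_zmod_n]; rintro rfl; exact absurd hodd (by decide)
    obtain ⟨c0, hc0⟩ := FiniteField.exists_nonsquare hp2
    have hc0ne : c0 ≠ 0 := fun h => hc0 (h ▸ IsSquare.zero)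
    have hco : c0.val.Coprime (p ^ n) := by
      refine Nat.Coprime.pow_right _ (Nat.Coprime.symm (hp.coprime_iff_not_dvd.mpr fun h => hc0ne ?_))
      rw [← ZMod.natCast_zmod_val c0, ZMod.natCast_eq_zero_iff]; exact h
    set u := ZMod.unitOfCoprime c0.val hco
    have hpos : 0 < p - 1 := by have := hp.two_le; omega
    refine ⟨u ^ p ^ n, 0, 2 * (p - 1), by omega, ?_, fun v => ?_, fun k => ?_⟩
    · intro h
      rcases (Nat.Prime.dvd_mul hp).mp h with h | h
      · exact absurd ((Nat.prime_dvd_prime_iff_eq hp Nat.prime_two).mp h)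
          (fun e => absurd (e ▸ hodd) (by decide))
      · have := Nat.le_of_dvd hpos h; omega
    · have hiter : ∀ j : ℕ, (comp2 (u ^ p ^ n) 0)^[2 * j] v =
          (((u ^ p ^ n) ^ j : (ZMod (p ^ n))ˣ) : ZMod (p ^ n)) • v := by
        intro j
        induction j with
        | zero => simp
        | succ j ih =>
          rw [show 2 * (j + 1) = (2 * j) + 1 + 1 by ring, Function.iterate_succ_apply',
            Function.iterate_succ_apply', ih]
          refine Prod.ext ?_ ?_ <;> simp [comp2, pow_succ] <;> ring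
      have hu1 : (u ^ p ^ n) ^ (p - 1) = 1 := by
        have e : p ^ n * (p - 1) = Nat.totient (p ^ n) * p := by
          obtain ⟨m, rfl⟩ : ∃ m, n = m + 1 := ⟨n - 1, by omega⟩
          rw [Nat.totient_prime_pow_succ hp]; ring
        rw [← pow_mul, e, pow_mul, ZMod.pow_totient, one_pow]
      rw [hiter, hu1]; simp
    · simp only [map_zero, zero_mul, sub_zero, Units.val_pow_eq_pow_val, map_pow, u,
        ZMod.coe_unitOfCoprime, map_natCast, ZMod.natCast_zmod_val]
      rw [ZMod.pow_card_pow]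
      intro h
      exact hc0 ⟨k, by linear_combination -h⟩

end Lines

theorem stronglyClosed_of_invariant {Ω : Type*} [Group Ω] {S : Subgroup Ω} [Finite S] {p : ℕ}
    [Fact p.Prime] (hS : IsPGroup p S) {F : Cfsg.FusionSystem S} (hF : F.IsSaturated p)
    (hcomm : ⁅S, S⁆ ≤ (⊥ : Subgroup Ω)) (C : Subgroup S) (hC : ∀ (α : MulAut S), ∀ x ∈ C, α x ∈ C) :
    F.StronglyClosed (C.map S.subtype) := by
  have hn := isNormal_of_abelian_stronglyClosed hS hF
    (show F.StronglyClosed S from ⟨le_rfl, fun R _ φ hφ x => (F.le_of_mem hφ).2 x⟩) hcomm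
  refine Fusion.stronglyClosed_iff.mpr ⟨Subgroup.map_subtype_le _, fun R f hR hf x hx => ?_⟩
  obtain ⟨g, hg, hgf, hgS⟩ := (isNormal_iff.mp hn).2 R f hf
  obtain ⟨y, hy, rfl⟩ := hR hx
  have hg' : MapTo F S g := hg.restrict le_sup_right
  refine ⟨autOf hg' hgS y, hC _ y hy, ?_⟩
  rw [← hgf _ hx]
  exact (autFun_apply (autOf hg' hgS) y.2).symm.trans (autFun_autOf hg' hgS y.2)

/-- Let S be a finite abelian p-group. Every saturated fusion system over S is supersoluble (S has a chain of F-strongly closed subgroups from 1 to S with cyclic steps) if and only if the invariants of S are pairwise distinct, that is, S is not isomorphic to a direct product (Z/p^n × Z/p^n) × H with n ≥ 1. -/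
theorem result {Ω : Type*} [Group Ω] {S : Subgroup Ω} [Finite S] (p : ℕ) [Fact p.Prime] (hS : IsPGroup p ↥S) (hab : IsMulCommutative ↥S) : (∀ F : Cfsg.FusionSystem S, F.IsSaturated p → (∃ (m : ℕ) (c : Fin (m + 1) → Subgroup Ω), c 0 = ⊥ ∧ c (Fin.last m) = S ∧ (∀ i : Fin (m + 1), F.StronglyClosed (c i)) ∧ ∀ i : Fin m, c i.castSucc ≤ c i.succ ∧ ∃ x ∈ S, c i.succ = c i.castSucc ⊔ Subgroup.zpowers x)) ↔ ¬ ∃ (n : ℕ) (H : Type) (_ : CommGroup H), 0 < n ∧ Nonempty (↥S ≃* (Multiplicative (ZMod (p ^ n)) × Multiplicative (ZMod (p ^ n))) × H) := by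
  haveI := hab
  letI cg : CommGroup ↥S := { (inferInstance : Group ↥S) with mul_comm := hab.is_comm.comm }
  have hcomm : ⁅S, S⁆ ≤ (⊥ : Subgroup Ω) := Subgroup.commutator_le.mpr fun x hx y hy => by
    have h : x * y = y * x := congrArg Subtype.val (hab.is_comm.comm ⟨x, hx⟩ ⟨y, hy⟩)
    rw [Subgroup.mem_bot, commutatorElement_def, h, mul_inv_cancel_right, mul_inv_cancel]
  have hp := (Fact.out : p.Prime)
  constructor
  · rintro hall ⟨n, H, _, hn, ⟨e⟩⟩
    obtain ⟨c, d, N, hN, hpN, hiter, hfree⟩ := exists_lineFree (p := p) hn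
    let σ : MulAut (Multiplicative (ZMod (p ^ n)) × Multiplicative (ZMod (p ^ n))) :=
      (MulEquiv.prodMultiplicative _ _).symm.trans
        ((AddEquiv.toMultiplicative (comp2 c d)).trans (MulEquiv.prodMultiplicative _ _))
    let α : MulAut ↥S := e.trans ((MulEquiv.prodCongr σ (MulEquiv.refl H)).trans e.symm)
    have hα : ∀ x, e (α x) = (σ (e x).1, (e x).2) := fun x => by
      simp only [α, MulEquiv.trans_apply, MulEquiv.apply_symm_apply]; rfl
    have hpow : ∀ (j : ℕ) x, e ((α ^ j) x) = (Prod.map Multiplicative.ofAdd Multiplicative.ofAdd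
        ((comp2 c d)^[j] ((e x).1.1.toAdd, (e x).1.2.toAdd)), (e x).2) := by
      intro j
      induction j with
      | zero => intro x; simp
      | succ j ih =>
        intro x
        rw [pow_succ', MulAut.mul_apply, hα, ih, Function.iterate_succ_apply']
        rfl
    have hord : α ^ N = 1 := MulEquiv.ext fun x => e.injective (by
      rw [hpow, hiter, MulAut.one_apply]; rfl)
    have hcop : ¬ p ∣ Nat.card (Subgroup.zpowers α) := by
      rw [Nat.card_zpowers]
      exact fun h => hpN (h.trans (orderOf_dvd_of_pow_eq_one hord))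
    obtain ⟨m, ch, h0, hl, hsc, hst⟩ := hall _ (isSaturated_autSys hS hab (Subgroup.zpowers α) hcop)
    have key : ∀ i : Fin (m + 1), ∀ x : ↥S, (e x).2 = 1 → x ^ p = 1 → (x : Ω) ∈ ch i → x = 1 := by
      intro i
      induction i using Fin.induction with
      | zero => intro x _ _ hx; rw [h0, Subgroup.mem_bot] at hx; exact Subtype.ext hx
      | succ i ih =>
        intro x hx2 hxp hx
        by_contra hx1
        obtain ⟨hle, g, hg, hge⟩ := hst i
        set C := (ch i.castSucc).subgroupOf S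
        set π := QuotientGroup.mk' C
        have hgen : ∀ y : ↥S, (y : Ω) ∈ ch i.succ → π y ∈ Subgroup.zpowers (π ⟨g, hg⟩) := by
          intro y hy
          have : y ∈ C ⊔ Subgroup.zpowers (⟨g, hg⟩ : ↥S) := by
            have hy' : y ∈ (ch i.succ).subgroupOf S := hy
            rwa [hge, Subgroup.subgroupOf_sup (hsc _).1 (Subgroup.zpowers_le.mpr hg),
              show (Subgroup.zpowers g).subgroupOf S = Subgroup.zpowers (⟨g, hg⟩ : ↥S) from
                Subgroup.map_injective S.subtype_injective (by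
                  rw [Subgroup.map_subgroupOf_eq_of_le (Subgroup.zpowers_le.mpr hg),
                    MonoidHom.map_zpowers]; rfl)] at hy'
          obtain ⟨a, ha, b, hb, rfl⟩ := Subgroup.mem_sup.mp this
          obtain ⟨j, rfl⟩ := Subgroup.mem_zpowers_iff.mp hb
          rw [map_mul, show π a = 1 from (QuotientGroup.eq_one_iff a).mpr ha, one_mul, map_zpow]
          exact Subgroup.zpow_mem _ (Subgroup.mem_zpowers _) _
        have hαm : ((α x : ↥S) : Ω) ∈ ch i.succ := by
          refine (hsc i.succ).2 (Subgroup.zpowers (x : Ω)) (Subgroup.zpowers_le.mpr hx)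
            (S.subtype.comp (α.toMonoidHom.comp (Subgroup.inclusion (Subgroup.zpowers_le.mpr x.2))))
            ⟨Subgroup.zpowers_le.mpr x.2, α, Subgroup.mem_zpowers α, fun _ => rfl⟩
            ⟨x, Subgroup.mem_zpowers _⟩
        have hne : π x ≠ 1 := fun h => hx1 (ih x hx2 hxp ((QuotientGroup.eq_one_iff x).mp h))
        have hv := mem_zpowers_of_pow_eq_one hp (hgen x hx) (hgen (α x) hαm)
          (by rw [← map_pow, hxp, map_one])
          (by rw [← map_pow, ← map_pow, hxp, map_one, map_one]) hne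
        obtain ⟨k, hk⟩ := Subgroup.mem_zpowers_iff.mp hv
        have hd : α x * (x ^ k)⁻¹ = 1 := ih _
          (by rw [map_mul, map_inv, map_zpow, Prod.snd_mul, Prod.snd_inv, hα]; simp [hx2])
          (by rw [mul_pow, inv_pow, ← map_pow, hxp, map_one, one_mul,
            show (x ^ k) ^ p = (x ^ p) ^ k by rw [← zpow_natCast, ← zpow_natCast, ← zpow_mul,
              ← zpow_mul, mul_comm], hxp, one_zpow, inv_one])
          ((QuotientGroup.eq_one_iff (N := C) _).mp (by
            rw [show ((α x * (x ^ k)⁻¹ : ↥S) : ↥S ⧸ C) = π (α x * (x ^ k)⁻¹) from rfl, map_mul, map_inv,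
              map_zpow, hk, mul_inv_cancel]))
        have he1 := congrArg (fun y => (e y).1) (mul_inv_eq_one.mp hd)
        simp only [hα, map_zpow, Prod.pow_fst] at he1
        set a := (e x).1.1.toAdd with hadef
        set b := (e x).1.2.toAdd with hbdef
        have ea : (c : ZMod (p ^ n)) * b = (k : ZMod (p ^ n)) * a := by
          have := congrArg (fun v => v.1.toAdd) he1
          simpa [σ, comp2] using this
        have eb : a + d * b = (k : ZMod (p ^ n)) * b := by
          have := congrArg (fun v => v.2.toAdd) he1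
          simpa [σ, comp2] using this
        have h3 : ((k : ZMod (p ^ n)) ^ 2 - d * k - c) * b = 0 := by
          linear_combination -ea - (k : ZMod (p ^ n)) * eb
        have hunit : IsUnit ((k : ZMod (p ^ n)) ^ 2 - d * k - c) := by
          haveI : NeZero (p ^ n) := ⟨pow_ne_zero _ hp.ne_zero⟩
          set r := (k : ZMod (p ^ n)) ^ 2 - d * k - c with hr
          rw [← ZMod.natCast_zmod_val r, ZMod.isUnit_iff_coprime]
          refine Nat.Coprime.pow_right _ (Nat.Coprime.symm (hp.coprime_iff_not_dvd.mpr fun hd => ?_))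
          refine hfree (k : ZMod p) ?_
          have : ZMod.castHom (dvd_pow_self p hn.ne') (ZMod p) r = 0 := by
            rw [← ZMod.natCast_zmod_val r, map_natCast, (ZMod.natCast_eq_zero_iff _ _).mpr hd]
          rwa [hr, map_sub, map_sub, map_mul, map_pow, map_intCast] at this
        have hb0 : b = 0 := by simpa using hunit.mul_right_eq_zero.mp h3 
        have ha0 : a = 0 := by simpa [hb0] using eb
        refine hx1 (e.injective ?_)
        rw [map_one]
        exact Prod.ext (Prod.ext (Multiplicative.toAdd.injective (by rw [← hadef, ha0]; rfl))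
          (Multiplicative.toAdd.injective (by rw [← hbdef, hb0]; rfl))) hx2
    haveI : Nontrivial (ZMod (p ^ n)) := by
      haveI : Fact (1 < p ^ n) := ⟨Nat.one_lt_pow hn.ne' hp.one_lt⟩
      infer_instance
    set z : ZMod (p ^ n) := ((p ^ (n - 1) : ℕ) : ZMod (p ^ n))
    have hz : z ≠ 0 := by
      intro h
      have h1 := Nat.le_of_dvd (pow_pos hp.pos _) ((ZMod.natCast_eq_zero_iff _ _).mp h)
      exact absurd h1 (not_le.mpr (Nat.pow_lt_pow_right hp.one_lt (by omega)))
    have hpz : p • z = 0 := by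
      rw [nsmul_eq_mul, ← Nat.cast_mul, ← pow_succ', Nat.sub_add_cancel hn, ZMod.natCast_self]
    have := key (Fin.last m) (e.symm ((Multiplicative.ofAdd z, 1), 1)) (by simp)
      (e.injective (by
        rw [map_pow, MulEquiv.apply_symm_apply, map_one]
        refine Prod.ext (Prod.ext ?_ (one_pow _)) (one_pow _)
        show Multiplicative.ofAdd z ^ p = 1
        rw [← ofAdd_nsmul, hpz]; rfl))
      (hl.symm ▸ SetLike.coe_mem _)
    have h2 := congrArg (fun y => (e y).1.1.toAdd) this
    simp at h2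
    exact hz h2
  · intro hno F hF
    obtain ⟨ι, _, nn, hn1, ⟨e⟩⟩ := CommGroup.equiv_prod_multiplicative_zmod_of_finite ↥S
    obtain ⟨N, hN⟩ := IsPGroup.iff_card.mp hS
    have hdvd : ∀ j, nn j ∣ p ^ N := by
      intro j
      classical
      haveI : NeZero (nn j) := ⟨by have := hn1 j; omega⟩
      have := orderOf_dvd_natCard (e.symm (Pi.mulSingle j (Multiplicative.ofAdd (1 : ZMod (nn j)))))
      rwa [hN, MulEquiv.orderOf_eq, orderOf_piMulSingle, orderOf_ofAdd_eq_addOrderOf, ZMod.addOrderOf_one] at this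
    choose a ha hna using fun j => (Nat.dvd_prime_pow hp).mp (hdvd j)
    obtain rfl : nn = fun j => p ^ a j := funext hna
    have hinj : Function.Injective a := by
      intro j k hjk
      by_contra hne
      classical
      refine hno ⟨a j, (l : {l : ι // l ≠ j ∧ l ≠ k}) → Multiplicative (ZMod (p ^ a l.1)), inferInstance, ?_,
        ⟨e.trans ((piSplitTwo (fun i => Multiplicative (ZMod (p ^ a i))) hne).trans
          (MulEquiv.prodCongr (MulEquiv.prodCongr (MulEquiv.refl _) (MulEquiv.cast (M := fun q => Multiplicative (ZMod (p ^ q))) hjk.symm))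
            (MulEquiv.refl _)))⟩⟩
      have := hn1 j
      rcases Nat.eq_zero_or_pos (a j) with h | h
      · simp [h] at this
      · exact h
    have hkill : ∀ x : ↥S, x ^ p ^ N = 1 := fun x => hN ▸ pow_card_eq_one'
    have hsc : ∀ t i, F.StronglyClosed ((lay2 p t i ↥S).map S.subtype) := fun t i =>
      stronglyClosed_of_invariant hS hF hcomm _ fun α x hx => map_mem_lay2 α hx
    have hbase : lay2 p 0 N ↥S = ⊥ := by
      refine (Subgroup.eq_bot_iff_forall _).mpr fun x hx => ?_
      simp only [lay2, Subgroup.mem_comap, powMonoidHom_apply, pow_zero, pow_one, mem_lay] at hx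
      obtain ⟨-, y, rfl⟩ := hx
      exact hkill y
    have hnext : ∀ t, lay2 p (t + 1) N ↥S = lay2 p t 0 ↥S := by
      intro t
      ext x
      simp only [lay2, Subgroup.mem_comap, powMonoidHom_apply, mem_lay, pow_zero, pow_one, exists_eq,
        and_true]
      constructor
      · rintro ⟨-, y, hy⟩
        rw [← pow_mul, ← pow_succ, ← hy, hkill]
      · intro h
        rw [pow_succ, pow_mul, h]
        exact ⟨one_pow _, 1, one_pow _⟩
    have htop : lay2 p N N ↥S = ⊤ := by
      refine eq_top_iff.mpr fun x _ => ?_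
      simp only [lay2, Subgroup.mem_comap, powMonoidHom_apply, mem_lay, hkill]
      exact ⟨by simp, 1, by simp⟩
    have hdown : ∀ t, Reach F ((lay2 p t N ↥S).map S.subtype) →
        ∀ d i, i + d = N → Reach F ((lay2 p t i ↥S).map S.subtype) := by
      intro t ht d
      induction d with
      | zero => intro i hi; obtain rfl : i = N := by omega
                exact ht
      | succ d ih =>
        intro i hi
        have hr := ih (i + 1) (by omega)
        have hle : lay2 p t (i + 1) ↥S ≤ lay2 p t i ↥S := by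
          intro x hx
          simp only [lay2, Subgroup.mem_comap, powMonoidHom_apply, mem_lay] at hx ⊢
          obtain ⟨h1, y, hy⟩ := hx
          exact ⟨h1, y ^ p, by rw [← pow_mul, ← pow_succ']; exact hy⟩
        by_cases hge : lay2 p t i ↥S ≤ lay2 p t (i + 1) ↥S
        · rwa [le_antisymm hge hle]
        obtain ⟨x, hx, hx'⟩ := SetLike.not_le_iff_exists.mp hge
        refine hr.step (hsc t i) (Subgroup.map_mono hle) (SetLike.coe_mem x) ?_
        rw [show Subgroup.zpowers ((x : ↥S) : Ω) = (Subgroup.zpowers x).map S.subtype from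
          (MonoidHom.map_zpowers S.subtype x).symm, ← Subgroup.map_sup]
        congr 1
        refine le_antisymm (fun w hw => ?_) (sup_le hle (Subgroup.zpowers_le.mpr hx))
        obtain ⟨k, hk⟩ := lay_step hp a hinj e i (u := x ^ p ^ t) (w := w ^ p ^ t) hx hx' hw
        have hk' : w * (x ^ k)⁻¹ ∈ lay2 p t (i + 1) ↥S := by
          simp only [lay2, Subgroup.mem_comap, powMonoidHom_apply]
          rw [mul_pow, inv_pow, show (x ^ k) ^ p ^ t = (x ^ p ^ t) ^ k by
            rw [← zpow_natCast, ← zpow_natCast, ← zpow_mul, ← zpow_mul, mul_comm]]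
          exact hk
        rw [show w = w * (x ^ k)⁻¹ * x ^ k by group]
        exact mul_mem (Subgroup.mem_sup_left hk') (Subgroup.mem_sup_right ⟨k, rfl⟩)
    have hall : ∀ t, Reach F ((lay2 p t N ↥S).map S.subtype) := by
      intro t
      induction t with
      | zero =>
        refine ⟨0, fun _ => ⊥, rfl, ?_, fun _ => ?_, fun i => i.elim0⟩
        · rw [hbase, Subgroup.map_bot]
        · have := hsc 0 N
          rwa [hbase, Subgroup.map_bot] at this
      | succ t ih =>
        rw [hnext]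
        exact hdown t ih N 0 (by omega)
    have := hall N
    rw [htop, ← MonoidHom.range_eq_map, Subgroup.range_subtype] at this
    exact this

end Cfsg.Agent.S5284
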