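import Cfsg.Statements.S5292
import Cfsg.Agent.Lib.Fusion.ModelUniqueness
import Cfsg.Agent.Lib.Fusion.ModelExistence
import Cfsg.Agent.Lib.Fusion.ModelBasic
import Cfsg.Agent.Lib.Fusion.RealizedNormal
import Cfsg.Agent.Lib.Transfer.Constrained
import Cfsg.Agent.Lib.Blocks.InvariantCover

set_option autoImplicit false
universe u
open Cfsg

namespace Cfsg.Agent.S5292

open Cfsg.Agent.Fusion
open Cfsg.FusionSystem (preimageAlong imageAlong)

universe w

theorem isPSolvable_of_ker {G H : Type w} [Group G] [Finite G] [Group H] {p : ℕ} [Fact p.Prime] (f : G →* H)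
    (hf : Function.Surjective f) (hker : IsPGroup p f.ker) (h : Cfsg.IsPSolvable p H) :
    Cfsg.IsPSolvable p G := by
  obtain ⟨n, C, h0, h1, hmono, hn, hfac⟩ := h
  refine ⟨n + 1, Fin.cons ⊥ (fun i => (C i).comap f), Fin.cons_zero _ _, ?_, ?_, ?_, ?_⟩
  · rw [← Fin.succ_last, Fin.cons_succ, h1, Subgroup.comap_top]
  · rw [Fin.monotone_iff_le_succ]
    intro i
    induction i using Fin.cases with
    | zero => simp
    | succ i =>
      rw [← Fin.succ_castSucc, Fin.cons_succ, Fin.cons_succ]
      exact Subgroup.comap_mono (hmono (Fin.castSucc_lt_succ (i := i)).le)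
  · intro i
    induction i using Fin.cases with
    | zero => rw [Fin.cons_zero]; infer_instance
    | succ i => rw [Fin.cons_succ]; exact (hn i).comap f
  · intro i
    induction i using Fin.cases with
    | zero =>
      left
      obtain ⟨m, hm⟩ := IsPGroup.iff_card.mp hker
      refine ⟨m, ?_⟩
      rw [Fin.cons_succ, Fin.castSucc_zero, Fin.cons_zero, Subgroup.relIndex_bot_left, h0,
        MonoidHom.comap_bot]
      exact hm
    | succ i =>
      rw [← Fin.succ_castSucc, Fin.cons_succ, Fin.cons_succ, Subgroup.relIndex_comap,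
        Subgroup.map_comap_eq_self_of_surjective hf]
      exact hfac i

theorem core_eq {Ω : Type w} [Group Ω] {S : Subgroup Ω} [Finite S] {p : ℕ} {F : Cfsg.FusionSystem S}
    [Fact p.Prime] {X : Type*} [Group X] {ι : S →* X} (h : F.IsModel p X ι) :
    F.core = preimageAlong ι (Cfsg.pCore p X) :=
  le_antisymm (IsModel.le_core_preimage h (isNormal_core F))
    (le_sSup (IsModel.isNormal_core_preimage h))

/-- Let F be a saturated fusion system over a finite p-group S. Then F is the fusion system of some finite p-solvable group on a Sylow p-subgroup if and only if F is constrained (some subgroup normal in F is centric in F) and the group of automorphisms that F induces on its largest normal subgroup O_p(F) is p-solvable. -/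
theorem result {Ω : Type u} [Group Ω] {S : Subgroup Ω} [Finite S] (p : ℕ) [Fact p.Prime] (hS : IsPGroup p S)
    (F : Cfsg.FusionSystem S) (hF : F.IsSaturated p) :
    (∃ (G : Type u) (_ : Group G) (_ : Finite G) (ι : S →* G), Cfsg.IsPSolvable p G ∧ F.IsRealizedBy ι ∧
        ∃ T : Sylow p G, (T : Subgroup G) = ι.range) ↔
      (F.IsConstrained p ∧ Cfsg.IsPSolvable p ↥(F.autGroup F.core)) := by
  constructor
  · rintro ⟨G, _, _, ι, hG, hι, T, hT⟩
    set N := Cfsg.pPrimeCore p G
    have hN : ι.range ⊓ N = ⊥ := by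
      refine Subgroup.inf_eq_bot_of_coprime ?_
      obtain ⟨k, hk⟩ := IsPGroup.iff_card.mp (T.2 : IsPGroup p (T : Subgroup G))
      rw [← hT, hk]
      exact (Components.pPrimeCore_coprime (p := p) (G := G)).symm.pow_left k
    have hmod : F.IsModel p (G ⧸ N) ((QuotientGroup.mk' N).comp ι) := by
      refine ⟨inferInstance, IsRealizedBy.quotient hι T hT N hN,
        ⟨T.mapSurjective (QuotientGroup.mk'_surjective N), ?_⟩, ?_⟩
      · show (T : Subgroup G).map _ = _
        rw [hT, MonoidHom.range_comp]
      · exact Transfer.centralizer_pCore_le_of_pSolvable Components.pPrimeCore_quotient_eq_bot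
          (Blocks.isPSolvable_subgroup (Coprime23.isPSolvable_map _ (QuotientGroup.mk'_surjective N) hG) _)
    refine ⟨IsModel.isConstrained hmod, ?_⟩
    obtain ⟨κ, -, hκ, hκs⟩ := IsModel.exists_conjHom hmod (isNormal_core F)
    exact Coprime23.isPSolvable_map (κ.codRestrict _ hκ)
      (fun β => (hκs β β.2).imp fun g hg => Subtype.ext hg)
      (Coprime23.isPSolvable_map _ (QuotientGroup.mk'_surjective N) hG)
  · rintro ⟨hc, hs⟩
    obtain ⟨X, _, ι, hι⟩ := exists_model hS hc
    haveI := hι.1
    obtain ⟨κ, hκc, hκ, hκs⟩ := IsModel.exists_conjHom hι (isNormal_core F)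
    have hcen : F.IsCentric F.core := core_eq hι ▸ IsModel.isCentric_core_preimage hι
    obtain ⟨T, hT⟩ := hι.2.2.1
    refine ⟨X, inferInstance, hι.1, ι, isPSolvable_of_ker (κ.codRestrict _ hκ)
      (fun β => (hκs β β.2).imp fun g hg => Subtype.ext hg) ?_ hs, hι.2.1, T, hT⟩
    rintro ⟨c, hc'⟩
    have hc1 : κ c = 1 := congrArg Subtype.val hc'
    obtain ⟨z, hz, -, rfl⟩ := IsModel.centralizer_eq hι (isNormal_core F) hcen (c := c) fun x hx => by
      have h1 := hκc c ⟨x, hx⟩
      rw [hc1, MulAut.one_apply] at h1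
      exact mul_inv_eq_iff_eq_mul.mp h1.symm
    obtain ⟨e, he⟩ := hS ⟨z, (isNormal_core F).1 hz⟩
    refine ⟨e, Subtype.ext ?_⟩
    show th ι z ^ p ^ e = 1
    rw [th_apply ι ((isNormal_core F).1 hz), ← map_pow, he, map_one]

end Cfsg.Agent.S5292
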