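import Cfsg.Statements.S5293
import Cfsg.Agent.Lib.Fusion.FocalCentralizerMain

set_option autoImplicit false
open Cfsg

namespace Cfsg.Agent.S5293

/-- Let F be a saturated fusion system over a finite p-group S, E a normal subsystem of F over T ≤ S, and C the join of the subgroups X ≤ C_S(T) such that E is contained in the centralizer system C_F(X). Then for the centralizer fusion system C_F(T) over C_S(T), the focal subgroup of C_F(T) is contained in C. -/
theorem result {Ω : Type*} [Group Ω] {S : Subgroup Ω} [Finite S] (p : ℕ) [Fact p.Prime] (hS : IsPGroup p S)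
    (F : Cfsg.FusionSystem S) (hF : F.IsSaturated p)
    {T : Subgroup Ω} (E : Cfsg.FusionSystem T) (hE : E.IsNormalIn F p)
    (C : Subgroup Ω)
    (hC : C = sSup {X : Subgroup Ω | X ≤ Cfsg.FusionSystem.centralizerIn S T ∧ ∀ P : Subgroup Ω, E.Hom P ⊆ F.centralizerHom X P})
    (D : Cfsg.FusionSystem (Cfsg.FusionSystem.centralizerIn S T)) (hD : F.IsCentralizerSystem T D) :
    D.focalSubgroup ≤ C := by
  have hTS : T ≤ S := hE.1.2.2.2.1.1
  have hD' : D.focalSubgroup = (Fusion.cSys F hTS).focalSubgroup := by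
    unfold Cfsg.FusionSystem.focalSubgroup
    simp only [hD _]
    rfl
  rw [hD', hC]
  refine le_sSup ⟨?_, fun P φ hφ => ?_⟩
  · exact Fusion.focal_le_iff.mpr fun R g hg x hx =>
      Subgroup.mul_mem _ (Subgroup.inv_mem _ (hg.le hx)) (hg.mem hx)
  have hm : Fusion.MapTo E P (Fusion.ev φ) := Fusion.mapTo_ev hφ
  obtain ⟨g, hg, hgf, hgX⟩ := Fusion.extFix_focal hS hE hTS hm
  have hcomm : ∀ y ∈ T, y ∈ Cfsg.FusionSystem.centralizerIn S (Fusion.cSys F hTS).focalSubgroup := by
    intro y hy
    refine Fusion.mem_centralizerIn.mpr ⟨hTS hy, fun x hx => ?_⟩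
    have hxC : x ∈ Cfsg.FusionSystem.centralizerIn S T :=
      (Fusion.focal_le_iff.mpr fun R g hg z hz =>
        Subgroup.mul_mem _ (Subgroup.inv_mem _ (hg.le hz)) (hg.mem hz)) hx
    exact ((Fusion.mem_centralizerIn.mp hxC).2 y hy).symm
  exact (Fusion.mem_centralizerHom_iff fun x => (Fusion.ev_coe φ x).symm).mpr
    ⟨fun x hx => hcomm x (hm.le hx), fun x hx => hcomm _ (hm.mem hx), g, hg, hgf, hgX⟩

end Cfsg.Agent.S5293
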