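import Cfsg.Statements.S5297
import Cfsg.Agent.Lib.Fusion.OmegaCriteria

set_option autoImplicit false
universe u
open Cfsg

namespace Cfsg.Agent.S5297

/-- Let F be a saturated fusion system over a finite p-group S. If every map of F between cyclic subgroups of the hyperfocal subgroup of F of order p or 4 is a map of the normalizer system of S (it extends to a map of F defined on all of S), then S is normal in F. -/
theorem result {Ω : Type u} [Group Ω] {S : Subgroup Ω} [Finite S] (p : ℕ) [Fact p.Prime] (hS : IsPGroup p S)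
    (F : Cfsg.FusionSystem S) (hF : F.IsSaturated p)
    (h : ∀ A B : Subgroup Ω, A ≤ (F.hyperfocalSubgroup p) → B ≤ (F.hyperfocalSubgroup p) → IsCyclic ↥A → (Nat.card ↥A = p ∨ Nat.card ↥A = 4) → IsCyclic ↥B → (Nat.card ↥B = p ∨ Nat.card ↥B = 4) →
      F.homSet A B ⊆ F.normalizerHom S A) :
    F.IsNormal S := by
  refine Cfsg.Agent.Fusion.isNormal_top_of_good hS hF fun P hP α hα x hx hg => ?_
  by_cases hx1 : x = 1
  · subst hx1
    exact ⟨1, by
      rw [(Cfsg.Agent.Fusion.mapTo_of_mem_autGroup hP.1.1 hα).map_one,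
        Cfsg.Agent.Fusion.autFun_one S.one_mem]⟩
  obtain ⟨φ, hφ, hφx, h1, h2, h3, h4⟩ :=
    Cfsg.Agent.Fusion.exists_small_hom hS hF hP.2.1 hα hx hg hx1
  have hm := h _ _ h1 h2 inferInstance h3 inferInstance h4 hφ
  obtain ⟨-, -, g, hg', hgf, hgS⟩ :=
    (Cfsg.Agent.Fusion.mem_normalizerHom_iff fun y => (Cfsg.Agent.Fusion.ev_coe φ y).symm).mp hm
  have hgS' := hg'.restrict le_sup_right
  have hxS : x ∈ S := hP.1.1 hx.1
  exact ⟨Cfsg.Agent.Fusion.autOf hgS' hgS, by
    rw [Cfsg.Agent.Fusion.autFun_autOf hgS' hgS hxS, hgf x (Subgroup.mem_zpowers x),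
      Cfsg.Agent.Fusion.ev_apply φ (Subgroup.mem_zpowers x), hφx]⟩

end Cfsg.Agent.S5297
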