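import Cfsg.Statements.S5299
import Cfsg.Agent.Lib.SL2Dickson.Stability

set_option autoImplicit false
universe u
open Cfsg

namespace Cfsg.Agent.S5299

/-- Let F be a saturated fusion system over a finite p-group S, H a finite group and Q a p-subgroup of H. If Q is not involved in S (no section of S is isomorphic to Q), then F is H-free: H is involved in no model of the normalizer system of a fully normalized centric subgroup. -/
theorem result {Ω : Type u} [Group Ω] {S : Subgroup Ω} [Finite S] (p : ℕ) [Fact p.Prime] (hS : IsPGroup p S)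
    (F : Cfsg.FusionSystem S) (hF : F.IsSaturated p) (H : Type*) [Group H] [Finite H] (Q : Subgroup H) (hQ : IsPGroup p Q)
    (hfree : ¬ Cfsg.Involves (↥Q) (↥S)) : F.IsSectionFree p H := by
  intro Q0 _ _ N _ L _ ι hmod hinv
  haveI := hmod.1
  obtain ⟨K, R, hR, ⟨e⟩⟩ := hinv
  haveI := hR
  let π : ↥K →* H := e.toMonoidHom.comp (QuotientGroup.mk' (R.subgroupOf K))
  have hπ : Function.Surjective π := e.surjective.comp (QuotientGroup.mk'_surjective _)
  let K' : Subgroup ↥K := Q.comap π
  let f : ↥K' →* ↥Q := (π.comp K'.subtype).codRestrict Q fun k => k.2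
  have hf : Function.Surjective f := by
    rintro ⟨q, hq⟩
    obtain ⟨k, rfl⟩ := hπ q
    exact ⟨⟨k, hq⟩, rfl⟩
  obtain ⟨T0⟩ := (inferInstance : Nonempty (Sylow p ↥K'))
  have hT0 : ((T0 : Subgroup ↥K').map f) = ⊤ :=
    ((T0.mapSurjective hf).is_maximal' (hQ.to_subgroup ⊤) le_top).symm
  let j : ↥K' →* L := K.subtype.comp K'.subtype
  obtain ⟨T, hT⟩ := (T0.2.map j).exists_le_sylow
  obtain ⟨Ts, hTs⟩ := hmod.2.2.1
  obtain ⟨l, hl⟩ := MulAction.exists_smul_eq L T Ts
  have hι : Function.Injective ι := hmod.2.1.1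
  let c : ↥(T0 : Subgroup ↥K') →* ↥ι.range :=
    ((MulAut.conj l).toMonoidHom.comp (j.comp (T0 : Subgroup ↥K').subtype)).codRestrict ι.range fun t => by
      rw [← hTs, ← hl]
      exact ⟨j t, hT (Subgroup.mem_map_of_mem j t.2), rfl⟩
  have hcinj : Function.Injective c := by
    intro a b hab
    have h1 := congrArg Subtype.val hab
    simp only [c, MonoidHom.codRestrict_apply, MonoidHom.comp_apply] at h1
    exact Subtype.ext (Subtype.ext (Subtype.ext ((MulAut.conj l).injective h1)))
  let emb : ↥(T0 : Subgroup ↥K') →* ↥S :=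
    ((Subgroup.inclusion inf_le_left).comp (MonoidHom.ofInjective hι).symm.toMonoidHom).comp c
  refine hfree (SL2Dickson.involves_of_hom emb ?_ (f.comp (T0 : Subgroup ↥K').subtype) ?_)
  · exact (((Subgroup.inclusion_injective
      (inf_le_left : Cfsg.FusionSystem.normalizerIn S Q0 ≤ S)).comp
      (MonoidHom.ofInjective hι).symm.injective).comp hcinj)
  · intro q
    obtain ⟨t, ht, htq⟩ := Subgroup.mem_map.mp (hT0.symm ▸ Subgroup.mem_top q : q ∈ (T0 : Subgroup ↥K').map f)
    exact ⟨⟨t, ht⟩, htq⟩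

end Cfsg.Agent.S5299
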