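import Cfsg.Statements.S5301
import Cfsg.Agent.Lib.Fusion.OmegaCriteria

set_option autoImplicit false
universe u
open Cfsg

namespace Cfsg.Agent.S5301

/-- Let F be a saturated fusion system over a finite p-group S. If for every subgroup P of S that is fully normalized, centric and radical in F the automorphism group that F induces on P has a normal Sylow p-subgroup, then S is normal in F. -/
theorem result {Ω : Type u} [Group Ω] {S : Subgroup Ω} [Finite S] (p : ℕ) [Fact p.Prime] (hS : IsPGroup p S)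
    (F : Cfsg.FusionSystem S) (hF : F.IsSaturated p)
    (hcl : ∀ P : Subgroup Ω, F.IsFullyNormalized P → F.IsCentric P → F.IsRadical p P →
      ∃ R : Sylow p ↥(F.autGroup P), (R : Subgroup ↥(F.autGroup P)).Normal) :
    F.IsNormal S := by
  refine Cfsg.Agent.Fusion.isNormal_top_of_stab hS hF fun P hP => ?_
  have hPS := hP.1.1
  have := Cfsg.Agent.Fusion.finite_of_le hPS
  have := Cfsg.Agent.Fusion.finite_mulAut P
  obtain ⟨R, hR⟩ := hcl P hP.2.1 hP.1 (Cfsg.Agent.Fusion.isRadical_of_isEssential hS hP)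
  refine ⟨(R : Subgroup (F.autGroup P)).map (F.autGroup P).subtype, ?_, R.isPGroup'.map _, ?_⟩
  · rintro g hg _ ⟨a, ha, rfl⟩ -
    exact ⟨⟨g, hg⟩ * a * ⟨g, hg⟩⁻¹, hR.conj_mem a ha _, rfl⟩
  · intro γ hγ
    have hle : (Cfsg.autInducedBy S P).subgroupOf (F.autGroup P) ≤ R := by
      obtain ⟨R', hR'⟩ := ((Cfsg.Agent.Fusion.isPGroup_autInducedBy hS P).comap_of_injective
        (F.autGroup P).subtype (Subgroup.subtype_injective _)).exists_le_sylow
      obtain ⟨g, hg⟩ := MulAction.exists_smul_eq (F.autGroup P) R R'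
      rw [← hg, Sylow.smul_eq_of_normal] at hR'
      exact hR'
    exact ⟨⟨γ, Cfsg.Agent.Fusion.autInducedBy_le_autGroup hPS hγ⟩, hle hγ, rfl⟩

end Cfsg.Agent.S5301
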