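import Cfsg.Statements.S5306
import Cfsg.Agent.Lib.Transfer.JSubgroup
import Cfsg.Agent.Lib.Fusion.Group

set_option autoImplicit false
open Cfsg

namespace Cfsg.Agent.S5306

open Subgroup Cfsg.Agent.Transfer
open scoped Pointwise

theorem eq_thompson_of_le {X : Type*} [Group X] [Finite X] {p : ℕ} [Fact p.Prime] (P : Sylow p X)
    (T : Sylow p X) (h : Cfsg.thompsonSubgroupOf p (P : Subgroup X) ≤ (T : Subgroup X)) :
    Cfsg.thompsonSubgroupOf p (T : Subgroup X) = Cfsg.thompsonSubgroupOf p (P : Subgroup X) := by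
  obtain ⟨t, ht⟩ := MulAction.exists_smul_eq X P T
  have hT : (T : Subgroup X) = (P : Subgroup X).map (MulAut.conj t).toMonoidHom := by
    rw [← ht]; rfl
  have hcard : ∀ A : Subgroup X, Nat.card (A.map (MulAut.conj t).toMonoidHom) = Nat.card A := fun A =>
    card_map_of_injective (MulAut.conj t).injective
  have hJT : Cfsg.thompsonSubgroupOf p (T : Subgroup X) =
      (Cfsg.thompsonSubgroupOf p (P : Subgroup X)).map (MulAut.conj t).toMonoidHom := by
    rw [hT, map_thompsonSubgroupOf _ _ (MulAut.conj t).injective.injOn]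
  refine (Subgroup.eq_of_le_of_card_ge ?_ (by rw [hJT, hcard])).symm
  rw [thompsonSubgroupOf_eq]
  refine sSup_le fun A hA => le_thompsonSubgroupOf ⟨(le_thompsonSubgroupOf hA).trans h, hA.2.1, ?_⟩
  intro B hB hBe
  have hB' : B.map (MulAut.conj t⁻¹).toMonoidHom ≤ (P : Subgroup X) := by
    rw [map_le_iff_le_comap]
    refine hB.trans fun b hb => ?_
    rw [hT] at hb
    obtain ⟨a, ha, rfl⟩ := hb
    simp only [MulEquiv.coe_toMonoidHom, MulAut.conj_apply, Subgroup.mem_comap]
    have e : t⁻¹ * (t * a * t⁻¹) * t⁻¹⁻¹ = a := by group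
    rw [e]
    exact ha
  have := hA.2.2 _ hB' (ea_map hBe _)
  rwa [card_map_of_injective (MulAut.conj t⁻¹).injective] at this

/-- Let P be a Sylow p-subgroup of the finite group X and J = J(P) its Thompson subgroup (generated by the elementary abelian subgroups of P of largest order). If x and y lie in the centre of J and y = g x g⁻¹ for some g in X, then y = n x n⁻¹ for some n in the normalizer N_X(J). -/
theorem result {X : Type*} [Group X] [Finite X] (p : ℕ) [Fact p.Prime] (P : Sylow p X) (J : Subgroup X) (hJ : J = Cfsg.thompsonSubgroupOf p (P : Subgroup X))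
    (x y : X) (hx : x ∈ J ∧ ∀ j ∈ J, Commute j x) (hy : y ∈ J ∧ ∀ j ∈ J, Commute j y) (g : X) (hg : g * x * g⁻¹ = y) :
    ∃ n ∈ Subgroup.normalizer (J : Set X), n * x * n⁻¹ = y := by
  set C := Subgroup.centralizer ({y} : Set X)
  have hJC : J ≤ C := fun j hj => Subgroup.mem_centralizer_singleton_iff.mpr (hy.2 j hj).eq
  set J' := J.map (MulAut.conj g).toMonoidHom
  have hJ'C : J' ≤ C := by
    rintro _ ⟨j, hj, rfl⟩
    refine Subgroup.mem_centralizer_singleton_iff.mpr ?_
    have h := ((hx.2 j hj).map (MulAut.conj g).toMonoidHom).eq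
    have e : (MulAut.conj g).toMonoidHom x = y := by simpa using hg
    rwa [e] at h
  have hJP : J ≤ (P : Subgroup X) := hJ ▸ Transfer.thompsonSubgroupOf_le _
  have hJp : IsPGroup p J := P.2.to_le hJP
  obtain ⟨R, hJR, hR⟩ := Fusion.exists_isSylowIn (p := p) hJC hJp
  obtain ⟨c, hc, hcR⟩ := hR.2.2 J' hJ'C (hJp.map _)
  obtain ⟨T, hT⟩ := hR.2.1.exists_le_sylow
  have hJT : Cfsg.thompsonSubgroupOf p (T : Subgroup X) = J :=
    hJ.symm ▸ eq_thompson_of_le P T (hJ ▸ hJR.trans hT)
  have hmap : J.map (MulAut.conj (c * g)).toMonoidHom ≤ (T : Subgroup X) := by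
    rintro _ ⟨j, hj, rfl⟩
    refine hT ?_
    have := hcR _ (show g * j * g⁻¹ ∈ J' from ⟨j, hj, rfl⟩)
    simpa [mul_assoc] using this
  obtain ⟨P', hP'⟩ : ∃ P' : Sylow p X,
      (P' : Subgroup X) = (P : Subgroup X).map (MulAut.conj (c * g)).toMonoidHom :=
    ⟨(c * g) • P, rfl⟩
  have hJ' : J.map (MulAut.conj (c * g)).toMonoidHom = Cfsg.thompsonSubgroupOf p (P' : Subgroup X) := by
    rw [hP', hJ, Transfer.map_thompsonSubgroupOf _ _ (MulAut.conj (c * g)).injective.injOn]
  refine ⟨c * g, Subgroup.mem_normalizer_iff_map_conj_eq.mpr ?_, ?_⟩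
  · have h1 := eq_thompson_of_le P' T (hJ' ▸ hmap)
    show J.map (MulAut.conj (c * g)).toMonoidHom = J
    rw [hJ', ← h1, hJT]
  · have hc' : c * y = y * c := Subgroup.mem_centralizer_singleton_iff.mp hc
    calc c * g * x * (c * g)⁻¹ = c * (g * x * g⁻¹) * c⁻¹ := by group
      _ = y := by rw [hg, hc', mul_inv_cancel_right]

end Cfsg.Agent.S5306
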