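import Cfsg.Statements.S5311
import Cfsg.Agent.Lib.Fusion.IsoSubnormal

set_option autoImplicit false
open Cfsg Cfsg.Agent.Fusion

namespace Cfsg.Agent.S5311

/-- The layer of a saturated fusion system F over a finite p-group S is characteristic in F: for every automorphism α of S that is an automorphism of F (α and its inverse are morphisms from F to F) and every layer E of F over T, α carries T onto T and, for every map φ of E with source P, the map induced by α on α(P) (that is, α ∘ φ ∘ α⁻¹) is a map of E. -/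
theorem result {Ω : Type*} [Group Ω] {S : Subgroup Ω} [Finite S] (p : ℕ) [Fact p.Prime] (hS : IsPGroup p S) (F : Cfsg.FusionSystem S) (hF : F.IsSaturated p)
    (α : ↥S ≃* ↥S) (hα : F.IsMorphism F (S.subtype.comp α.toMonoidHom))
    (hα' : F.IsMorphism F (S.subtype.comp α.symm.toMonoidHom))
    {T : Subgroup Ω} (E : Cfsg.FusionSystem T) (hE : E.IsLayerOf F p) :
    Cfsg.FusionSystem.imageAlong (S.subtype.comp α.toMonoidHom) T = T ∧
      ∀ (P : Subgroup Ω) (φ : ↥P →* Ω), φ ∈ E.Hom P →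
        ∀ φ' : ↥(Cfsg.FusionSystem.imageAlong (S.subtype.comp α.toMonoidHom) P) →* Ω,
          Cfsg.FusionSystem.InducedAlong (S.subtype.comp α.toMonoidHom) φ φ' →
            φ' ∈ E.Hom (Cfsg.FusionSystem.imageAlong (S.subtype.comp α.toMonoidHom) P) := by
  set θ := S.subtype.comp α.toMonoidHom with hθ
  set θ' := S.subtype.comp α.symm.toMonoidHom with hθ'
  have hu : ∀ {x : Ω} (hx : x ∈ S), th θ x = α ⟨x, hx⟩ := fun hx => th_apply θ hx
  have hv : ∀ {x : Ω} (hx : x ∈ S), th θ' x = α.symm ⟨x, hx⟩ := fun hx => th_apply θ' hx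
  have hb : Bij S S (th θ) (th θ') :=
    ⟨fun x hx => (hu hx).symm ▸ (α ⟨x, hx⟩).2, fun x hx => (hv hx).symm ▸ (α.symm ⟨x, hx⟩).2,
      fun x hx => by rw [hu hx, hv (α ⟨x, hx⟩).2, Subtype.coe_eta, α.symm_apply_apply],
      fun x hx => by rw [hv hx, hu (α.symm ⟨x, hx⟩).2, Subtype.coe_eta, α.apply_symm_apply],
      fun x hx y hy => th_mul θ hx hy⟩
  have himg : ∀ {η : S →* Ω} {P : Subgroup Ω}, P ≤ S →
      FusionSystem.imageAlong η P = imgX (th η) P := fun {η P} hP =>
    le_antisymm (fun y hy => by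
      obtain ⟨x, hx, rfl⟩ := (mem_imageAlong hP).mp hy
      exact mem_imgX_of_mem hx) (imgX_le_of_forall fun x hx => th_mem_imageAlong hP hx)
  have key : ∀ {η η' : S →* Ω}, Bij S S (th η) (th η') → F.IsMorphism F η →
      ∀ (P : Subgroup Ω) (f : Ω → Ω), MapTo F P f →
        MapTo F (imgX (th η) P) (fun y => th η (f (th η' y))) := by
    intro η η' hb hm P f hf
    obtain ⟨f', hf', hff⟩ := IsMorphism.exists_map hm hf
    rw [himg hf.le] at hf'
    refine hf'.congr' fun y hy => ?_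
    obtain ⟨x, hx, rfl⟩ := (hb.mem_imgX_iff hf.le).mp hy
    show th η (f (th η' (th η x))) = f' (th η x)
    rw [hb.left x (hf.le hx), hff x hx]
  have hFF : SysIso F F (th θ) (th θ') := ⟨hb, key hb hα, key hb.symm hα'⟩
  have hTS : T ≤ S := hE.1.1.2.2.2.1.1
  -- images of the layer contain all components
  have hlay : ∀ {u v : Ω → Ω}, SysIso F F u v → ∀ (hbT : Bij T (imgX u T) u v),
      E.IsSubsystemOf (imgSys E hbT) := by
    intro u v hFF hbT
    have hiso := sysIso_imgSys E hbT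
    refine hE.2.2 _ _ (hFF.isNormalIn hS hiso hE.1) fun U C hC => ?_
    have hUS : U ≤ S := IsSubnormalIn.le hC.1
    have hbU := hFF.symm.bij.restrict hUS
    have hisoU := sysIso_imgSys C hbU
    have := Cfsg.Agent.Fusion.finite_of_le hUS
    have hC' : (imgSys C hbU).IsComponentIn F p :=
      ⟨IsSubnormalIn.transport hC.1 hS hFF.symm hisoU, hisoU.quasisimple (hS.to_le hUS) hC.2⟩
    intro P φ hφ
    have h1 := IsSubsystemOf.mapTo (hE.2.1 _ _ hC') (hisoU.map P _ (mapTo_ev hφ))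
    have hPU : P ≤ U := (C.le_of_mem hφ).1
    refine mapTo_ev_iff.mp (hiso.mapTo_iff.mpr ⟨fun x hx => ?_, fun x hx => ?_, h1⟩)
    · rw [← hFF.bij.right x (hUS (hPU hx))]
      exact mem_imgX_of_mem (h1.le (mem_imgX_of_mem hx))
    · rw [← hFF.bij.right _ (hUS ((mapTo_ev hφ).mem hx))]
      have := h1.mem (mem_imgX_of_mem (u := v) hx)
      rw [hFF.bij.right x (hUS (hPU hx))] at this
      exact mem_imgX_of_mem this
  have h1 := hlay hFF (hb.restrict hTS)
  have h2 := hlay hFF.symm (hb.symm.restrict hTS)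
  have hT1 : T ≤ imgX (th θ) T := (IsSubsystemOf.mapTo h1 (mapTo_id E le_rfl)).le
  have hT2 : T ≤ imgX (th θ') T := (IsSubsystemOf.mapTo h2 (mapTo_id E le_rfl)).le
  have hTeq : imgX (th θ) T = T := le_antisymm
    ((imgX_mono hT2).trans (hb.symm.imgX_imgX hTS).le) hT1
  refine ⟨(himg hTS).trans hTeq, fun P φ hφ φ' hind => ?_⟩
  have hPT : P ≤ T := (E.le_of_mem hφ).1
  have hPS : P ≤ S := hPT.trans hTS
  have h3 := ((mapTo_imgSys_iff (hb.symm.restrict hTS)).mp (IsSubsystemOf.mapTo h2 (mapTo_ev hφ))).2.2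
  rw [← himg hPS] at h3
  refine h3.hom_mem fun y => ?_
  obtain ⟨x, hx, hxy⟩ := (mem_imageAlong hPS).mp y.2
  have h4 := ((inducedAlong_iff (f' := ev φ') hPS (fun z hz => hTS ((mapTo_ev hφ).mem hz))
    (fun z => (ev_coe φ z).symm) (fun y => (ev_coe φ' y).symm)).mp hind x hx).2
  show φ' y = th θ (ev φ (th θ' y))
  rw [← ev_coe φ' y, ← hxy, h4, hb.left x (hPS hx)]

end Cfsg.Agent.S5311
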