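import Cfsg.Statements.S5315
import Cfsg.Agent.Lib.Fusion.Hyperfocal
import Cfsg.Agent.Lib.Fusion.ImageSaturation
import Cfsg.Agent.Lib.Fusion.NormalCriteria

set_option autoImplicit false
open Cfsg

namespace Cfsg.Agent.S5315

/-- An analogue of Grün's lemma for fusion systems. Let F be a saturated fusion system over a finite p-group S that is perfect in the sense that its hyperfocal subgroup is all of S (F coincides with its p-residual subsystem). Then the second centre of F equals its centre: every fusion system over S/(Z(F) ∩ S) that is the factor system of F modulo its centre Z(F), read through the quotient map, has trivial centre. -/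
theorem result {Ω : Type*} [Group Ω] {S : Subgroup Ω} [Finite S] (p : ℕ) [Fact p.Prime] (hS : IsPGroup p S) (F : Cfsg.FusionSystem S) (hF : F.IsSaturated p)
    (hperf : F.hyperfocalSubgroup p = S)
    (E : Cfsg.FusionSystem (⊤ : Subgroup (↥S ⧸ (F.center).subgroupOf S)))
    (hE : F.IsFactorSystem F.center (QuotientGroup.mk' ((F.center).subgroupOf S)) E) : E.center = ⊥ := by
  set Z := F.center with hZdef
  have hZ : F.IsCentral Z := Cfsg.Agent.Fusion.isCentral_center F
  have hZn := Cfsg.Agent.Fusion.IsCentral.isNormal hZ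
  have hZsc := Cfsg.Agent.Fusion.IsNormal.stronglyClosed hZn
  set θ := QuotientGroup.mk' (Z.subgroupOf S) with hθ
  have hk := Cfsg.Agent.Fusion.IsFactorSystem.kerIn_eq hE
  have hmor := Cfsg.Agent.Fusion.IsFactorSystem.isSurjectiveMorphism hS hF hZsc hE
  have hEC := Cfsg.Agent.Fusion.isCentral_center E
  set W := Cfsg.FusionSystem.preimageAlong θ E.center with hW
  have hWS : W ≤ S := Cfsg.Agent.Fusion.preimageAlong_le
  have hZW : Z ≤ W := hk.symm.le.trans Cfsg.Agent.Fusion.kerIn_le_preimageAlong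
  have hWfix : ∀ {R : Subgroup Ω} {f : Ω → Ω}, Cfsg.Agent.Fusion.MapTo F R f →
      ∀ z ∈ R, z ∈ W → z⁻¹ * f z ∈ Z := by
    intro R f hf z hz hzW
    obtain ⟨f', hf', hff⟩ := Cfsg.Agent.Fusion.IsMorphism.exists_map hmor.1 hf
    obtain ⟨g, -, hgf, hgC⟩ := (Cfsg.Agent.Fusion.isCentral_iff.mp hEC).2 _ _ hf'
    have hzC := (Cfsg.Agent.Fusion.mem_preimageAlong.mp hzW).2
    have h1 : f' (Cfsg.Agent.Fusion.th θ z) = Cfsg.Agent.Fusion.th θ z :=
      (hgf _ (Cfsg.Agent.Fusion.th_mem_imageAlong hf.le hz)).symm.trans (hgC _ hzC)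
    rw [hff z hz] at h1
    exact hk.le ((Cfsg.Agent.Fusion.th_eq_iff (hWS hzW) (hf.mem hz)).mp h1.symm)
  have hWsc : F.StronglyClosed W := Cfsg.Agent.Fusion.stronglyClosed_iff.mpr
    ⟨hWS, fun R f hR hf z hz => by
      have := W.mul_mem (hR hz) (hZW (hWfix hf z hz (hR hz)))
      rwa [mul_inv_cancel_left] at this⟩
  have hZc : ∀ s ∈ S, ∀ d ∈ Z, s * d = d * s := fun s hs d hd => by
    obtain ⟨g, -, hgf, hgZ⟩ := (Cfsg.Agent.Fusion.isCentral_iff.mp hZ).2 S _
      (Cfsg.Agent.Fusion.mapTo_cj le_rfl hs)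
    have h1 := hgZ d hd
    rw [hgf d (hZ.1 hd), Cfsg.Agent.Fusion.cj_apply] at h1
    exact mul_inv_eq_iff_eq_mul.mp h1
  have hZfix : ∀ {R : Subgroup Ω} {f : Ω → Ω}, Cfsg.Agent.Fusion.MapTo F R f →
      ∀ d ∈ R, d ∈ Z → f d = d := fun {R f} hf d hd hdZ => by
    obtain ⟨g, -, hgf, hgZ⟩ := (Cfsg.Agent.Fusion.isCentral_iff.mp hZ).2 R f hf
    rw [← hgf d hd, hgZ d hdZ]
  have hcomm : ∀ z ∈ W, ∀ s ∈ S, z⁻¹ * (s * z * s⁻¹) ∈ Z := fun z hz s hs =>
    hWfix (Cfsg.Agent.Fusion.mapTo_cj hWS hs) z hz hz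
  have hWn : F.IsNormal W := by
    refine Cfsg.Agent.Fusion.isNormal_of_stronglyClosed_series hS hF (n := 2)
      ![⊥, Z, W] rfl rfl ?_ ?_ ?_
    · refine Fin.monotone_iff_le_succ.mpr fun i => ?_
      fin_cases i
      · exact bot_le
      · exact hZW
    · intro i
      fin_cases i
      · exact hZsc
      · exact hWsc
    · intro i x hx k hk'
      fin_cases i
      · show _ ∈ (⊥ : Subgroup Ω)
        rw [Subgroup.mem_bot, hZc k (hWS hk') x hx]
        group
      · exact hcomm x hx k (hWS hk')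
  have hWP : ∀ P : Subgroup Ω, P = S ∨ F.IsEssential p P → W ≤ P := fun P hP =>
    (Cfsg.Agent.Fusion.le_and_invariant_of_isNormal hS hWn P hP).1
  -- p'-automorphisms fix W
  have hβfix : ∀ P : Subgroup Ω, P ≤ S → W ≤ P → ∀ β ∈ Cfsg.Agent.Fusion.oP F p P,
      ∀ z ∈ W, Cfsg.Agent.Fusion.autFun β z = z := by
    intro P hP hWP'
    refine Cfsg.Agent.Fusion.oP_induction (C := fun β => ∀ z ∈ W,
      Cfsg.Agent.Fusion.autFun β z = z) ?_ ?_ ?_ ?_
    · exact fun z hz => Cfsg.Agent.Fusion.autFun_one (hWP' hz)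
    · intro a b _ _ ha hb z hz
      rw [Cfsg.Agent.Fusion.autFun_mul _ _ (hWP' hz), hb z hz, ha z hz]
    · intro a _ ha z hz
      conv_lhs => rw [← ha z hz]
      exact Cfsg.Agent.Fusion.autFun_inv_autFun a (hWP' hz)
    · intro a ha hcop z hz
      have hm := Cfsg.Agent.Fusion.mapTo_of_mem_autGroup hP ha
      set d := z⁻¹ * Cfsg.Agent.Fusion.autFun a z with hd
      have hdZ : d ∈ Z := hWfix hm z (hWP' hz) hz
      have hdP : d ∈ P := hWP' (hZW hdZ)
      have hn : ∀ n : ℕ, Cfsg.Agent.Fusion.autFun (a ^ n) z = z * d ^ n := by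
        intro n
        induction n with
        | zero => rw [pow_zero, pow_zero, Cfsg.Agent.Fusion.autFun_one (hWP' hz), mul_one]
        | succ n ih =>
            rw [pow_succ', Cfsg.Agent.Fusion.autFun_mul _ _ (hWP' hz), ih,
              hm.map_mul (hWP' hz) (P.pow_mem hdP n),
              hZfix hm _ (P.pow_mem hdP n) (Z.pow_mem hdZ n), pow_succ', ← mul_assoc,
              show Cfsg.Agent.Fusion.autFun a z = z * d by rw [hd, mul_inv_cancel_left]]
      have h1 := hn (orderOf a)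
      rw [pow_orderOf_eq_one, Cfsg.Agent.Fusion.autFun_one (hWP' hz), eq_comm, mul_eq_left] at h1
      obtain ⟨i, hi⟩ := hS ⟨d, hZ.1 hdZ⟩
      have hd1 : d = 1 := by
        refine orderOf_eq_one_iff.mp (Nat.eq_one_of_dvd_coprimes (hcop.pow_right i)
          (orderOf_dvd_of_pow_eq_one h1) (orderOf_dvd_of_pow_eq_one ?_))
        exact congrArg Subtype.val hi
      have h2 : z⁻¹ * Cfsg.Agent.Fusion.autFun a z = 1 := hd1
      exact (inv_mul_eq_one.mp h2).symm
  -- commutator with W is an F-invariant homomorphism on S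
  have hWcentral : ∀ z ∈ W, ∀ s ∈ S, s * z * s⁻¹ = z := by
    intro z hz
    let K : Subgroup Ω :=
      { carrier := {s | s ∈ S ∧ s * z * s⁻¹ = z}
        one_mem' := ⟨S.one_mem, by group⟩
        mul_mem' := by
          rintro a b ⟨ha, ha'⟩ ⟨hb, hb'⟩
          refine ⟨S.mul_mem ha hb, ?_⟩
          calc a * b * z * (a * b)⁻¹ = a * (b * z * b⁻¹) * a⁻¹ := by group
            _ = z := by rw [hb', ha']
        inv_mem' := by
          rintro a ⟨ha, ha'⟩
          refine ⟨S.inv_mem ha, ?_⟩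
          calc a⁻¹ * z * a⁻¹⁻¹ = a⁻¹ * (a * z * a⁻¹) * a⁻¹⁻¹ := by rw [ha']
            _ = z := by group }
    have hKiff : ∀ x ∈ S, ∀ y ∈ S, x⁻¹ * y ∈ K ↔ y * z * y⁻¹ = x * z * x⁻¹ := by
      intro x hx y hy
      refine ⟨fun ⟨_, h⟩ => ?_, fun h => ⟨S.mul_mem (S.inv_mem hx) hy, ?_⟩⟩
      · calc y * z * y⁻¹ = x * ((x⁻¹ * y) * z * (x⁻¹ * y)⁻¹) * x⁻¹ := by group
          _ = _ := by rw [h]
      · calc (x⁻¹ * y) * z * (x⁻¹ * y)⁻¹ = x⁻¹ * (y * z * y⁻¹) * x := by group
          _ = x⁻¹ * (x * z * x⁻¹) * x := by rw [h]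
          _ = z := by group
    have hfoc : F.focalSubgroup ≤ K := by
      refine Cfsg.Agent.Fusion.focal_le_iff.mpr fun P f hf x hx =>
        (hKiff x (hf.le hx) (f x) (hf.mem hx)).mpr ?_
      refine Cfsg.Agent.Fusion.alperin_prop hS hF
        (fun P f => ∀ x ∈ P, f x * z * (f x)⁻¹ = x * z * x⁻¹)
        (fun {P f g} _ h hg x hx => by rw [hg x hx]; exact h x hx) ?_ ?_ ?_ ?_ hf x hx
      · intro P g hP hg x hx
        rw [Cfsg.Agent.Fusion.cj_apply]
        set d := z⁻¹ * (x * z * x⁻¹) with hd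
        have hdZ : d ∈ Z := hcomm z hz x (hP hx)
        set e := z⁻¹ * (g⁻¹ * z * g) with he
        have heZ : e ∈ Z := by simpa using hcomm z hz g⁻¹ (S.inv_mem hg)
        have hx' : x * z * x⁻¹ = z * d := by rw [hd, mul_inv_cancel_left]
        have he' : g⁻¹ * z * g = z * e := by rw [he, mul_inv_cancel_left]
        have hxe : x * e * x⁻¹ = e := by rw [hZc x (hP hx) e heZ]; group
        calc g * x * g⁻¹ * z * (g * x * g⁻¹)⁻¹
            = g * (x * (g⁻¹ * z * g) * x⁻¹) * g⁻¹ := by group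
          _ = g * (x * z * x⁻¹ * (x * e * x⁻¹)) * g⁻¹ := by rw [he']; group
          _ = g * (z * (d * e)) * g⁻¹ := by rw [hx', hxe]; group
          _ = g * (z * (e * d)) * g⁻¹ := by rw [hZc d (hZ.1 hdZ) e heZ]
          _ = g * (z * e) * d * g⁻¹ := by group
          _ = z * (g * d * g⁻¹) := by rw [← he']; group
          _ = x * z * x⁻¹ := by rw [hZc g hg d hdZ, hx']; group
      · intro P R f g _ _ hm h1 h2 x hx
        exact (h2 _ (hm x hx)).trans (h1 x hx)
      · intro P f g hf' _ hgf h y hy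
        obtain ⟨x, hx, rfl⟩ := (hf'.mem_img_iff le_rfl).mp hy
        rw [hgf x hx]
        exact (h x hx).symm
      · intro P hP α hα x hx
        have hPn := Cfsg.Agent.Fusion.isFullyNormalized_of_eq_top_or_essential hP
        obtain ⟨β, hβ, c, hc, rfl⟩ :=
          Cfsg.Agent.Fusion.exists_eq_mul_of_isFullyNormalized hS hF hPn hα
        obtain ⟨s, hs, hsc⟩ := Cfsg.Agent.Fusion.mem_autInducedBy_iff_cj.mp hc
        rw [Cfsg.Agent.Fusion.autFun_mul _ _ hx]
        set y := Cfsg.Agent.Fusion.autFun c x with hy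
        have hyP : y ∈ P := Cfsg.Agent.Fusion.autFun_mem c hx
        have hzP : z ∈ P := hWP P hP hz
        have hm := Cfsg.Agent.Fusion.mapTo_of_mem_autGroup hPn.1 (Cfsg.Agent.Fusion.oP_le hβ)
        have h1 : Cfsg.Agent.Fusion.autFun β (y * z * y⁻¹) = y * z * y⁻¹ :=
          hβfix P hPn.1 (hWP P hP) β hβ _
            (Cfsg.Agent.Fusion.StronglyClosed.conj_mem hWsc (hPn.1 hyP) hz)
        rw [hm.map_conj hyP hzP, hβfix P hPn.1 (hWP P hP) β hβ z hz] at h1
        rw [h1, hy, hsc x hx, Cfsg.Agent.Fusion.cj_apply]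
        set d := z⁻¹ * (x * z * x⁻¹) with hd
        have hdZ : d ∈ Z := hcomm z hz x (hPn.1 hx)
        set e := z⁻¹ * (s⁻¹ * z * s) with he
        have heZ : e ∈ Z := by simpa using hcomm z hz s⁻¹ (S.inv_mem hs)
        have hx' : x * z * x⁻¹ = z * d := by rw [hd, mul_inv_cancel_left]
        have he' : s⁻¹ * z * s = z * e := by rw [he, mul_inv_cancel_left]
        have hxe : x * e * x⁻¹ = e := by rw [hZc x (hPn.1 hx) e heZ]; group
        calc s * x * s⁻¹ * z * (s * x * s⁻¹)⁻¹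
            = s * (x * (s⁻¹ * z * s) * x⁻¹) * s⁻¹ := by group
          _ = s * (x * z * x⁻¹ * (x * e * x⁻¹)) * s⁻¹ := by rw [he']; group
          _ = s * (z * (d * e)) * s⁻¹ := by rw [hx', hxe]; group
          _ = s * (z * (e * d)) * s⁻¹ := by rw [hZc d (hZ.1 hdZ) e heZ]
          _ = s * (z * e) * d * s⁻¹ := by group
          _ = z * (s * d * s⁻¹) := by rw [← he']; group
          _ = x * z * x⁻¹ := by rw [hZc s hs d hdZ, hx']; group
    intro s hs
    exact (hfoc (Cfsg.Agent.Fusion.hyperfocal_le_focal (p := p) (hperf.symm ▸ hs))).2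
  have hWcent : F.IsCentral W := by
    have hfix : ∀ {R : Subgroup Ω} {f : Ω → Ω}, Cfsg.Agent.Fusion.MapTo F R f →
        ∀ z ∈ R, z ∈ W → f z = z := by
      intro R f hf
      refine Cfsg.Agent.Fusion.alperin_prop hS hF (fun P f => ∀ z ∈ P, z ∈ W → f z = z)
        (fun {P f g} _ h hg z hz hzW => (hg z hz).trans (h z hz hzW)) ?_ ?_ ?_ ?_ hf
      · intro P g hP hg z _ hzW
        exact hWcentral z hzW g hg
      · intro P R f g _ _ _ h1 h2 z hz hzW
        show g (f z) = z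
        rw [h1 z hz hzW]
        exact h2 z (h1 z hz hzW ▸ ‹∀ x ∈ P, f x ∈ R› z hz) hzW
      · intro P f g hf' _ hgf h y hy hyW
        obtain ⟨x, hx, rfl⟩ := (hf'.mem_img_iff le_rfl).mp hy
        have hxW : x ∈ W := Cfsg.Agent.Fusion.StronglyClosed.mem_of_map_mem hWsc hf' hx hyW
        rw [hgf x hx, h x hx hxW]
      · intro P hP α hα z hz hzW
        have hPn := Cfsg.Agent.Fusion.isFullyNormalized_of_eq_top_or_essential hP
        obtain ⟨β, hβ, c, hc, rfl⟩ :=
          Cfsg.Agent.Fusion.exists_eq_mul_of_isFullyNormalized hS hF hPn hα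
        obtain ⟨s, hs, hsc⟩ := Cfsg.Agent.Fusion.mem_autInducedBy_iff_cj.mp hc
        rw [Cfsg.Agent.Fusion.autFun_mul _ _ hz, hsc z hz, Cfsg.Agent.Fusion.cj_apply,
          hWcentral z hzW s hs]
        exact hβfix P hPn.1 (hWP P hP) β hβ z hzW
    refine Cfsg.Agent.Fusion.isCentral_iff.mpr ⟨hWS, fun P f hf => ?_⟩
    obtain ⟨g, hg, hgf, -⟩ := (Cfsg.Agent.Fusion.isNormal_iff.mp hWn).2 P f hf
    exact ⟨g, hg, hgf, fun z hz => hfix hg z (Subgroup.mem_sup_right hz) hz⟩
  have hle : W ≤ Z := le_sSup hWcent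
  rw [eq_bot_iff]
  intro y hy
  obtain ⟨x, hx, rfl⟩ := Cfsg.Agent.Fusion.exists_preimage (θ := θ) (hE.2.2.1.symm ▸ hEC.1) hy
  exact (Cfsg.Agent.Fusion.mem_kerIn.mp (hk.symm ▸ hle hx)).2

end Cfsg.Agent.S5315
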