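import Cfsg.Statements.S5316
import Cfsg.Agent.Lib.Fusion.MaxClassSmallSide
import Cfsg.Agent.Lib.Fusion.EssentialSmall
import Cfsg.Agent.Lib.FGB.MaxClassFusion

set_option autoImplicit false
open Cfsg

namespace Cfsg.Agent.S5316

/-- Let p ≥ 5 be a prime, S a finite p-group of maximal class of order p^n with n ≥ 5 (nilpotency class n − 1), F a saturated fusion system over S, and E an F-essential subgroup that is not a pearl (not elementary abelian of order p² and not extraspecial of order p³ and exponent p). Then E has order at least p⁴. -/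
theorem result {Ω : Type*} [Group Ω] {S : Subgroup Ω} [Finite S] (p : ℕ) [Fact p.Prime] (hp : 5 ≤ p) (hS : IsPGroup p ↥S) (n : ℕ) (hn : Nat.card S = p ^ n) (h5 : 5 ≤ n)
    (hmax : Subgroup.lowerCentralSeries S (n - 2) ≠ ⊥) (F : Cfsg.FusionSystem S) (hF : F.IsSaturated p)
    (E : Subgroup Ω) (hE : F.IsEssential p E)
    (hnp : ¬ ((Nat.card ↥E = p ^ 2 ∧ Cfsg.IsElementaryAbelian p E) ∨ (Nat.card ↥E = p ^ 3 ∧ Cfsg.IsExtraspecial p ↥E ∧ Monoid.exponent ↥E = p))) :
    p ^ 4 ≤ Nat.card ↥E := by
  have hM := Cfsg.Agent.FGB.MaxClass.isMax_of_lcs hn (by omega) hmax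
  have hES : E ≤ S := hE.1.1
  haveI := Fusion.finite_of_le hES
  have hEp : IsPGroup p E := hS.to_le hES
  have hpr : p.Prime := Fact.out
  obtain ⟨e, he⟩ := IsPGroup.iff_card.mp hEp
  by_contra hlt
  have he3 : e ≤ 3 := by
    by_contra h4
    exact hlt (he ▸ Nat.pow_le_pow_right hpr.pos (by omega))
  rcases Nat.lt_or_ge e 3 with he2 | he3'
  · -- an abelian group of rank at most two is elementary of order `p ^ 2`
    refine hnp (Or.inl ?_)
    have hab : IsMulCommutative E := by
      rcases (show e = 0 ∨ e = 1 ∨ e = 2 by omega) with rfl | rfl | rfl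
      · haveI := (Nat.card_eq_one_iff_unique.mp (he.trans (pow_zero p))).1
        exact ⟨⟨fun a b => Subsingleton.elim _ _⟩⟩
      · haveI : IsCyclic E := isCyclic_of_prime_card (p := p) (he.trans (pow_one p))
        exact IsCyclic.isMulCommutative
      · exact IsPGroup.isMulCommutative_of_card_eq_prime_sq he
    obtain ⟨k, -, ⟨φ⟩, hk⟩ := Fusion.abelian_essential_structure hS hE hab (by
      refine le_trans (Nat.le_of_dvd Nat.card_pos (frattini E).index_dvd_card) ?_
      rw [he]
      exact Nat.pow_le_pow_right hpr.pos (by omega))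
    obtain rfl := hk hp
    haveI : NeZero (p ^ 1) := ⟨pow_ne_zero _ hpr.ne_zero⟩
    refine ⟨?_, hab, fun a ha => ?_⟩
    · rw [Nat.card_congr φ.toEquiv, Nat.card_congr Multiplicative.toAdd, Nat.card_prod, Nat.card_zmod]
      ring
    · have h1 : φ ((⟨a, ha⟩ : E) ^ p) = 1 := by
        rw [map_pow]
        apply Multiplicative.toAdd.injective
        rw [toAdd_pow, toAdd_one]
        have hz : ∀ z : ZMod (p ^ 1), p • z = 0 := fun z => by
          rw [nsmul_eq_mul]
          have : ((p : ℕ) : ZMod (p ^ 1)) = 0 := by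
            rw [ZMod.natCast_eq_zero_iff]
            exact dvd_of_eq (pow_one p)
          rw [this, zero_mul]
        exact Prod.ext (hz _) (hz _)
      rw [← map_one φ] at h1
      exact congrArg Subtype.val (φ.injective h1)
  obtain rfl : e = 3 := by omega
  rcases Fusion.essential_card_cube hS hE he with hel | ⟨-, hex, hexp⟩ | ⟨h2, -⟩
  · have hs : Fusion.IsSmallEss p F E := Fusion.isSmall_of_isEssential hE
      (fun a ha b hb => congrArg Subtype.val (hel.1.is_comm.comm ⟨a, ha⟩ ⟨b, hb⟩)) hel.2 he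
    rcases Fusion.MaxSmall.small_cases hM h5 hs with ⟨hZ, -⟩ | ⟨h6, hE1, hexc, hEL, hT, hsup⟩
    · exact Fusion.MaxSmall.false_of_center_two hM (by omega) h5 hF hs hZ
    · subst h6
      exact Fusion.MaxSmall.false_side hM hp hF hs hE1 hexc hEL hT hsup
  · refine hnp (Or.inr ⟨he, hex, ?_⟩)
    have hdvd : Monoid.exponent E ∣ p :=
      Monoid.exponent_dvd_of_forall_pow_eq_one fun a => Subtype.ext (by simpa using hexp a a.2)
    refine ((Nat.dvd_prime hpr).mp hdvd).resolve_left fun h1 => ?_
    haveI := Monoid.exp_eq_one_iff.mp h1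
    have := Nat.card_unique (α := E)
    rw [he] at this
    exact absurd this (Nat.one_lt_pow (by norm_num) hpr.one_lt).ne'
  · omega

end Cfsg.Agent.S5316
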