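import Cfsg.Statements.S5327
import Cfsg.Agent.Lib.Fusion.Generation

set_option autoImplicit false
open Cfsg

namespace Cfsg.Agent.S5327

/-- Let F be a saturated fusion system over a finite p-group S. Call a family of subgroups of S generating when every fusion system over S whose automorphism group of each member R contains Aut_F(R) contains every map of F. If two families are each closed under F-conjugacy and each generating, then their intersection is generating. -/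
theorem result {Ω : Type*} [Group Ω] {S : Subgroup Ω} [Finite S] (p : ℕ) [Fact p.Prime] (hS : IsPGroup p S) (F : Cfsg.FusionSystem S) (hF : F.IsSaturated p) (𝒬₁ 𝒬₂ : Set (Subgroup Ω)) (h₁ : ∀ R ∈ 𝒬₁, ∀ R' : Subgroup Ω, F.IsConj R R' → R' ∈ 𝒬₁) (h₂ : ∀ R ∈ 𝒬₂, ∀ R' : Subgroup Ω, F.IsConj R R' → R' ∈ 𝒬₂) (hg₁ : ∀ E : Cfsg.FusionSystem S, (∀ R ∈ 𝒬₁, F.autGroup R ≤ E.autGroup R) → F ≤ E) (hg₂ : ∀ E : Cfsg.FusionSystem S, (∀ R ∈ 𝒬₂, F.autGroup R ≤ E.autGroup R) → F ≤ E) (E : Cfsg.FusionSystem S) (hE : ∀ R ∈ 𝒬₁ ∩ 𝒬₂, F.autGroup R ≤ E.autGroup R) : F ≤ E := by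
  have hess : ∀ (𝒬 : Set (Subgroup Ω)), (∀ R ∈ 𝒬, ∀ R' : Subgroup Ω, F.IsConj R R' → R' ∈ 𝒬) →
      (∀ E : Cfsg.FusionSystem S, (∀ R ∈ 𝒬, F.autGroup R ≤ E.autGroup R) → F ≤ E) →
      ∀ Q, F.IsEssential p Q → Q ∈ 𝒬 := by
    intro 𝒬 hcl hgen Q hQ
    by_contra hQmem
    obtain ⟨E', hE', hne⟩ :=
      Fusion.exists_system_avoiding hS hF hQ (Fusion.ne_top_of_isEssential hS hF hQ)
    refine hne (hgen E' fun R hR => ?_)
    by_cases hRS : R ≤ S
    · exact hE' R hRS fun hc => hQmem (hcl R hR Q (Fusion.isConj_symm hc))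
    · rw [Fusion.autGroup_eq_bot_of_not_le hRS]; exact bot_le
  have htop : ∀ (𝒬 : Set (Subgroup Ω)),
      (∀ E : Cfsg.FusionSystem S, (∀ R ∈ 𝒬, F.autGroup R ≤ E.autGroup R) → F ≤ E) →
      S ∉ 𝒬 → F.autGroup S ≤ Cfsg.Inn S := by
    intro 𝒬 hgen hSmem
    let C : (P : Subgroup Ω) → (Ω → Ω) → Prop :=
      fun P f => P = S → ∃ g ∈ S, ∀ x ∈ P, f x = g * x * g⁻¹
    have hle := hgen (Fusion.restrictSys F C
      (fun {P f g} _ h hfg hP => by
        obtain ⟨a, ha, h1⟩ := h hP; exact ⟨a, ha, fun x hx => (hfg x hx).trans (h1 x hx)⟩)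
      (fun {P g} _ hg _ => ⟨g, hg, fun x _ => rfl⟩)
      (fun {P R f g} hf hg hfR h₁ h₂ hP => by
        obtain ⟨a, ha, h1⟩ := h₁ hP
        have hR : R = S := le_antisymm hg.le fun y hy => by
          have hy' : a⁻¹ * y * a ∈ P := by
            rw [hP]; exact S.mul_mem (S.mul_mem (S.inv_mem ha) hy) ha
          have := hfR _ hy'
          rw [h1 _ hy'] at this
          simpa [mul_assoc] using this
        obtain ⟨b, hb, h2⟩ := h₂ hR
        refine ⟨b * a, S.mul_mem hb ha, fun x hx => ?_⟩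
        show g (f x) = _
        rw [h2 _ (hfR x hx), h1 x hx]
        group)
      (fun {P f g} hf _ hgf h₁ hP => by
        have hPS : P = S := Subgroup.eq_of_le_of_card_ge hf.le (by
          rw [← hf.card_img le_rfl, hP])
        obtain ⟨a, ha, h1⟩ := h₁ hPS
        refine ⟨a⁻¹, S.inv_mem ha, fun y hy => ?_⟩
        obtain ⟨x, hx, rfl⟩ := (hf.mem_img_iff le_rfl).mp hy
        rw [hgf x hx, h1 x hx]
        group)) (fun R hR α hα => by
      by_cases hRS : R ≤ S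
      · exact Subgroup.subset_closure
          ⟨Fusion.mapTo_autFun_iff_hom.mp (Fusion.mapTo_of_mem_autGroup hRS hα),
            fun he => absurd (he ▸ hR) hSmem⟩
      · rw [Fusion.autGroup_eq_bot_of_not_le hRS, Subgroup.mem_bot] at hα
        rw [hα]; exact Subgroup.one_mem _)
    intro α hα
    obtain ⟨g, hg, h1⟩ :=
      (hle S (Fusion.mapTo_autFun_iff_hom.mp (Fusion.mapTo_of_mem_autGroup le_rfl hα))).2 rfl
    exact (Fusion.inn_eq_autInducedBy S).symm ▸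
      Fusion.mem_autInducedBy_iff_cj.mpr ⟨g, hg, h1⟩
  refine Fusion.le_iff_mapTo.mpr (Fusion.alperin hS hF E ?_)
  rintro P (rfl | hP)
  · by_cases h1 : P ∈ 𝒬₁
    · by_cases h2 : P ∈ 𝒬₂
      · exact hE P ⟨h1, h2⟩
      · exact (htop 𝒬₂ hg₂ h2).trans (Fusion.inn_le_autGroup le_rfl)
    · exact (htop 𝒬₁ hg₁ h1).trans (Fusion.inn_le_autGroup le_rfl)
  · exact hE P ⟨hess 𝒬₁ h₁ hg₁ P hP, hess 𝒬₂ h₂ hg₂ P hP⟩

end Cfsg.Agent.S5327
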