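import Cfsg.Statements.S5328
import Cfsg.Agent.Lib.Fusion.Transfer

set_option autoImplicit false
universe u
open Cfsg

namespace Cfsg.Agent.S5328

/-- Every fusion system over a finite p-group S, saturated or not, is realized inside some finite group: there is a finite group G and an injective homomorphism ι of S into G such that the maps of the system are exactly the homomorphisms between subgroups of S that become conjugations by elements of G (the image of S need not be a Sylow p-subgroup of G). -/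
theorem result {Ω : Type u} [Group Ω] {S : Subgroup Ω} [Finite S] (p : ℕ) [Fact p.Prime] (hS : IsPGroup p S) (F : Cfsg.FusionSystem S) : ∃ (G : Type u) (_ : Group G) (_ : Finite G) (ι : ↥S →* G), F.IsRealizedBy ι := by
  obtain ⟨X, hX⟩ := Cfsg.Agent.Fusion.exists_stableBiset' (F := F) hS
  let := Cfsg.Agent.Fusion.pairAct X
  let G : Subgroup (Equiv.Perm X.carrier) :=
    { carrier := {e | ∀ (x : X.carrier) (b : S),
        e (Cfsg.Agent.Fusion.rm x b) = Cfsg.Agent.Fusion.rm (e x) b}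
      one_mem' := fun _ _ => rfl
      mul_mem' := fun {a b} ha hb x c => by
        show a (b (Cfsg.Agent.Fusion.rm x c)) = _
        rw [hb x c, ha (b x) c]
        rfl
      inv_mem' := fun {a} ha x c => a.injective (by
        show a (a.symm _) = a (Cfsg.Agent.Fusion.rm (a.symm x) c)
        rw [ha, Equiv.apply_symm_apply, Equiv.apply_symm_apply]) }
  let pm : S → G := fun a =>
    ⟨MulAction.toPerm ((a, 1) : S × S), fun x b => Cfsg.Agent.Fusion.lm_rm a x b⟩
  let ι : S →* G := MonoidHom.mk' pm fun a b => Subtype.ext (Equiv.ext fun x =>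
    (Cfsg.Agent.Fusion.lm_lm a b x).symm)
  have hι : ∀ (a : S) (x : X.carrier),
      (ι a : Equiv.Perm X.carrier) x = Cfsg.Agent.Fusion.lm a x := fun _ _ => rfl
  obtain ⟨x₀, hx₀⟩ := hX.full
  obtain ⟨α, hα, hαx⟩ := hX.graph x₀
  rw [hx₀] at hα
  have hfix0 : ∀ (a : Ω) (ha : a ∈ S),
      ((⟨a, ha⟩, ⟨α a, hα.mem ha⟩) : S × S) • x₀ = x₀ := by
    intro a ha
    have hmem : (a, α a) ∈ Cfsg.Agent.Fusion.stb X x₀ := by
      obtain ⟨c, hc, hca⟩ := (hx₀.symm ▸ ha : a ∈ Cfsg.Agent.Fusion.pr₁ _)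
      obtain rfl : c.1 = a := hca
      rwa [← hαx c hc, Prod.mk.eta]
    exact (Cfsg.Agent.Fusion.mem_stb.mp hmem).2
  refine ⟨G, inferInstance, inferInstance, ι, ?_, fun P hP φ hφ => ?_⟩
  · intro a b hab
    have h1 : Cfsg.Agent.Fusion.lm a x₀ = Cfsg.Agent.Fusion.lm b x₀ := by
      rw [← hι a, ← hι b, hab]
    have h2 : Cfsg.Agent.Fusion.lm (b⁻¹ * a) x₀ = x₀ := by
      rw [← Cfsg.Agent.Fusion.lm_lm, h1, Cfsg.Agent.Fusion.lm_lm, inv_mul_cancel]
      exact one_smul (S × S) x₀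
    have h3 : ((((b⁻¹ * a : S) : Ω), ((1 : S) : Ω)) : Ω × Ω) ∈ Cfsg.Agent.Fusion.stb X x₀ :=
      (Cfsg.Agent.Fusion.coe_mem_stb
        (a := (⟨_, Subgroup.mem_prod.mpr ⟨(b⁻¹ * a : S).2, (1 : S).2⟩⟩ : S.prod S))).mpr h2
    have h4 : α ((b⁻¹ * a : S) : Ω) = 1 := (hαx _ h3).symm
    have h5 : ((b⁻¹ * a : S) : Ω) = 1 :=
      hα.inj (b⁻¹ * a : S).2 S.one_mem (h4.trans hα.map_one.symm)
    exact (inv_mul_eq_one.mp (Subtype.ext h5 : b⁻¹ * a = 1)).symm
  · constructor
    · intro hmem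
      obtain ⟨e, he1, he2⟩ := hX.translate (Cfsg.Agent.Fusion.mapTo_ev hmem)
      refine ⟨⟨e, he1⟩, fun a => ?_⟩
      rw [eq_mul_inv_iff_mul_eq]
      refine Subtype.ext (Equiv.ext fun x => ?_)
      show Cfsg.Agent.Fusion.lm (⟨φ a, hφ a⟩ : S) (e x) = e (Cfsg.Agent.Fusion.lm (⟨a, hP a.2⟩ : S) x)
      rw [he2 a a.2 x]
      congr 1
      exact Subtype.ext (Cfsg.Agent.Fusion.ev_coe φ a).symm
    · rintro ⟨g, hg⟩
      have hgx : ∀ (a : P) (x : X.carrier),
          (g : Equiv.Perm X.carrier) (Cfsg.Agent.Fusion.lm (⟨a, hP a.2⟩ : S) x) =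
            Cfsg.Agent.Fusion.lm (⟨φ a, hφ a⟩ : S) ((g : Equiv.Perm X.carrier) x) := by
        intro a x
        have h1 : ι ⟨φ a, hφ a⟩ * g = g * ι ⟨a, hP a.2⟩ := by rw [hg a, inv_mul_cancel_right]
        exact (congrArg (fun u : G => (u : Equiv.Perm X.carrier) x) h1).symm
      obtain ⟨ψ, hψ, hψy⟩ := hX.graph ((g : Equiv.Perm X.carrier) x₀)
      have hmem : ∀ a : P, (φ a, α a) ∈ Cfsg.Agent.Fusion.stb X ((g : Equiv.Perm X.carrier) x₀) := by
        intro a
        have h1 := hfix0 a (hP a.2)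
        refine (Cfsg.Agent.Fusion.coe_mem_stb
          (a := (⟨_, Subgroup.mem_prod.mpr ⟨hφ a, hα.mem (hP a.2)⟩⟩ : S.prod S))).mpr ?_
        show ((⟨φ a, hφ a⟩, ⟨α a, hα.mem (hP a.2)⟩) : S × S) • (g : Equiv.Perm X.carrier) x₀ = _
        have h2 : ∀ (c d : S) (x : X.carrier), ((c, d) : S × S) • x =
            Cfsg.Agent.Fusion.rm (Cfsg.Agent.Fusion.lm c x) d⁻¹ := fun c d x => by
          simp [Cfsg.Agent.Fusion.rm, Cfsg.Agent.Fusion.lm, smul_smul]
        rw [h2, ← hgx a x₀, ← g.2, ← h2, h1]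
      obtain ⟨τ, hτ, hτψ, -, -⟩ := hψ.exists_iso_inverse
      have hαm : ∀ a ∈ P, α a ∈ Cfsg.Agent.Fusion.img ψ
          (Cfsg.Agent.Fusion.pr₁ (Cfsg.Agent.Fusion.stb X ((g : Equiv.Perm X.carrier) x₀))) :=
        fun a ha => by
          have h := hmem ⟨a, ha⟩
          have h' := hψy _ h
          simp only at h'
          rw [h']
          exact Cfsg.Agent.Fusion.mem_img_of_mem (Cfsg.Agent.Fusion.fst_mem_pr₁ h)
      refine ((hα.restrict hP).comp hτ hαm).hom_mem fun a => ?_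
      have h := hmem a
      have h' := hψy _ h
      simp only at h'
      show φ a = τ (α a)
      rw [h', hτψ _ (Cfsg.Agent.Fusion.fst_mem_pr₁ h)]

end Cfsg.Agent.S5328
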