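import Cfsg.Statements.S5330
import Cfsg.Agent.Lib.Fusion.Transfer

set_option autoImplicit false
open Cfsg

namespace Cfsg.Agent.S5330

/-- Let F be a saturated fusion system over a finite abelian p-group S. Then S is the internal direct product of the centre of the system and the focal subgroup: Z(F) ∩ foc(F) = 1 and Z(F)·foc(F) = S. -/
theorem result {Ω : Type*} [Group Ω] {S : Subgroup Ω} [Finite S] (p : ℕ) [Fact p.Prime] (hS : IsPGroup p S) (F : Cfsg.FusionSystem S) (hF : F.IsSaturated p) (hab : ∀ x ∈ S, ∀ y ∈ S, x * y = y * x) : F.center ⊓ F.focalSubgroup = ⊥ ∧ F.center ⊔ F.focalSubgroup = S := by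
  classical
  have hcomm : ⁅S, S⁆ = ⊥ := by
    rw [eq_bot_iff, Subgroup.commutator_le]
    intro a ha b hb
    rw [Subgroup.mem_bot, commutatorElement_def, hab a ha b hb]
    group
  refine ⟨?_, ?_⟩
  · rw [inf_comm, eq_bot_iff, ← hcomm]
    exact Cfsg.Agent.Fusion.focal_inf_center_le hS hF
  have hfocS : F.focalSubgroup ≤ S := Cfsg.Agent.Fusion.focal_le_iff.mpr fun P f hf x hx =>
    S.mul_mem (S.inv_mem (hf.le hx)) (hf.mem hx)
  have hC := Cfsg.Agent.Fusion.isCentral_center F
  refine le_antisymm (sup_le hC.1 hfocS) fun x hx => ?_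
  have hnorm : ∀ U : Subgroup Ω, U ≤ S → Cfsg.FusionSystem.normalizerIn S U = S := fun U hU =>
    le_antisymm Cfsg.Agent.Fusion.normalizerIn_le fun s hs =>
      Cfsg.Agent.Fusion.mem_normalizerIn_of_forall hU hs fun y hy => by
        rwa [hab s hs y (hU hy), mul_inv_cancel_right]
  have hext : ∀ {P : Subgroup Ω} {f : Ω → Ω}, Cfsg.Agent.Fusion.MapTo F P f →
      ∃ g, Cfsg.Agent.Fusion.MapTo F S g ∧ ∀ z ∈ P, g z = f z := by
    intro P f hf
    have hn : F.IsFullyNormalized (Cfsg.Agent.Fusion.img f P) := ⟨hf.img_le, fun R hR => by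
      rw [hnorm _ hf.img_le, hnorm _ (Cfsg.Agent.Fusion.isConj_le_right hR)]⟩
    obtain ⟨g, hg, hgf⟩ := (Cfsg.Agent.Fusion.isReceptive_iff.mp
      (Cfsg.Agent.Fusion.isReceptive_of_isFullyNormalized hS hF hn)).2 P f hf rfl
    refine ⟨g, hg.restrict fun s hs => ⟨(hnorm P hf.le).symm ▸ hs, 1, S.one_mem, fun z hz => ?_⟩,
      hgf⟩
    rw [hab s hs z (hf.le hz), mul_inv_cancel_right]
    simp
  have := Cfsg.Agent.Fusion.finite_mulAut S
  have := Fintype.ofFinite (F.autGroup S)
  let : CommGroup S := { (inferInstance : Group S) with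
    mul_comm := fun a b => Subtype.ext (hab a a.2 b b.2) }
  set y : S := ∏ α : F.autGroup S, (α : MulAut S) ⟨x, hx⟩ with hy
  have hyfix : ∀ α : F.autGroup S, (α : MulAut S) y = y := fun α => by
    rw [hy, map_prod]
    exact Fintype.prod_equiv (Equiv.mulLeft α) _ _ fun β => rfl
  have hyC : (y : Ω) ∈ F.center := by
    have hQ : F.IsCentral (Subgroup.zpowers (y : Ω)) := by
      refine Cfsg.Agent.Fusion.isCentral_iff.mpr ⟨(Subgroup.zpowers_le).mpr y.2, fun P f hf => ?_⟩
      obtain ⟨g, hg, hgf⟩ := hext hf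
      refine ⟨g, hg.restrict (sup_le hf.le ((Subgroup.zpowers_le).mpr y.2)), hgf, ?_⟩
      have himg := Cfsg.Agent.Fusion.img_eq_self_of_forall hg fun z hz => hg.mem hz
      have h1 : g (y : Ω) = y := by
        have h2 := hyfix ⟨_, Cfsg.Agent.Fusion.autOf_mem hg himg⟩
        rw [← Cfsg.Agent.Fusion.autFun_autOf hg himg y.2, Cfsg.Agent.Fusion.autFun_coe]
        exact congrArg Subtype.val h2
      rintro _ ⟨k, rfl⟩
      show g ((y : Ω) ^ k) = (y : Ω) ^ k
      induction k using Int.induction_on with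
      | zero => simp [hg.map_one]
      | succ k ih => rw [zpow_add_one, hg.map_mul (S.zpow_mem y.2 _) y.2, ih, h1]
      | pred k ih =>
          rw [zpow_sub_one, hg.map_mul (S.zpow_mem y.2 _) (S.inv_mem y.2), hg.map_inv y.2, ih, h1]
    exact (le_sSup hQ : Subgroup.zpowers (y : Ω) ≤ F.center) (Subgroup.mem_zpowers _)
  have hdiff : ((⟨x, hx⟩ : S)⁻¹ ^ Fintype.card (F.autGroup S) * y) ∈
      (F.center ⊔ F.focalSubgroup).subgroupOf S := by
    rw [hy, ← Finset.card_univ, ← Finset.prod_const, ← Finset.prod_mul_distrib]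
    refine Subgroup.prod_mem _ fun α _ => ?_
    refine Subgroup.mem_subgroupOf.mpr (Subgroup.mem_sup_right ?_)
    have := Cfsg.Agent.Fusion.mem_focal
      (Cfsg.Agent.Fusion.mapTo_of_mem_autGroup le_rfl α.2) hx
    rwa [Cfsg.Agent.Fusion.autFun_apply _ hx] at this
  have hpow : x ^ Fintype.card (F.autGroup S) ∈ F.center ⊔ F.focalSubgroup := by
    have := Subgroup.mul_mem _ (Subgroup.mem_sup_left (T := F.focalSubgroup) hyC)
      (Subgroup.inv_mem _ (Subgroup.mem_subgroupOf.mp hdiff))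
    rw [Subgroup.coe_mul, mul_inv_rev, mul_inv_cancel_left, Subgroup.coe_pow, Subgroup.coe_inv,
      inv_pow, inv_inv] at this
    exact this
  have hcard : ¬ p ∣ Fintype.card (F.autGroup S) := by
    have hinn : Cfsg.Inn ↥S = ⊥ := by
      rw [eq_bot_iff]
      rintro _ ⟨g, rfl⟩
      rw [Subgroup.mem_bot]
      exact MulEquiv.ext fun z => by
        show g * z * g⁻¹ = z
        rw [mul_comm g z, mul_inv_cancel_right]
    have h5 := ((Cfsg.Agent.Fusion.isFullyAutomized_iff hS).mp
      (Cfsg.Agent.Fusion.isFullyAutomized_of_isFullyNormalized hS hF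
        (Cfsg.Agent.Fusion.isFullyNormalized_top (F := F)))).2
    rw [Cfsg.Agent.Fusion.autInducedBy_self_eq_inn, hinn, Subgroup.relIndex_bot_left,
      Nat.card_eq_fintype_card] at h5
    exact h5
  obtain ⟨k, hk⟩ := hS ⟨x, hx⟩
  have hxk : x ^ p ^ k = 1 := congrArg Subtype.val hk
  have hcop : Nat.Coprime (Fintype.card (F.autGroup S)) (orderOf x) :=
    ((((Fact.out : p.Prime).coprime_iff_not_dvd).mpr hcard).symm.pow_right k).coprime_dvd_right
      (orderOf_dvd_of_pow_eq_one hxk)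
  obtain ⟨e, he⟩ := exists_pow_eq_self_of_coprime hcop
  rw [← he]
  exact Subgroup.pow_mem _ hpow e

end Cfsg.Agent.S5330
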