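import Cfsg.Statements.S5331
import Cfsg.Agent.Lib.Fusion.DistinctExponents

set_option autoImplicit false
open Cfsg

namespace Cfsg.Agent.S5331

/-- Let S be a finite abelian 2-group that is a direct product of cyclic groups of pairwise distinct orders 2^{a_1} < 2^{a_2} < ⋯ < 2^{a_n} (all a_i ≥ 1). Then every saturated fusion system over S is the inner one: its maps are exactly the conjugations by elements of S. -/
theorem result {Ω : Type*} [Group Ω] {S : Subgroup Ω} [Finite S] (n : ℕ) (a : Fin n → ℕ) (ha : StrictMono a) (ha1 : ∀ i, 1 ≤ a i) (e : ↥S ≃* Multiplicative ((i : Fin n) → ZMod (2 ^ a i))) (F : Cfsg.FusionSystem S) (hF : F.IsSaturated 2) (P : Subgroup Ω) : F.Hom P = (Cfsg.innerFusionSystem S).Hom P := by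
  have hS' : IsPGroup 2 S := by
    refine fun s => ⟨∑ j, a j, e.injective ?_⟩
    rw [map_pow, map_one]
    refine Multiplicative.toAdd.injective ?_
    rw [toAdd_pow, toAdd_one]
    funext j
    obtain ⟨d, hd⟩ : ∃ d, ∑ j, a j = a j + d :=
      Nat.exists_eq_add_of_le (Finset.single_le_sum (fun j _ => Nat.zero_le (a j)) (Finset.mem_univ j))
    rw [Pi.smul_apply, hd, pow_add, mul_nsmul, Fusion.DistinctExponents.two_pow_nsmul, smul_zero]
    rfl
  haveI : Fact (Nat.Prime 2) := ⟨Nat.prime_two⟩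
  rw [Fusion.eq_inner_of_isPGroup_autGroup hS' hF fun Q hQ => ?_]
  have hQS : Q = S := by
    rcases hQ with h | h
    · exact h
    refine le_antisymm h.1.1 fun s hs => Fusion.centralizerIn_le_of_isCentric h.1
      (Fusion.mem_centralizerIn.mpr ⟨hs, fun x hx => ?_⟩)
    have h1 : (⟨x, h.1.1 hx⟩ : S) * ⟨s, hs⟩ = ⟨s, hs⟩ * ⟨x, h.1.1 hx⟩ :=
      e.injective (by rw [map_mul, map_mul, mul_comm])
    exact congrArg Subtype.val h1
  subst hQS
  exact (Fusion.DistinctExponents.isPGroup_mulAut ha ha1 e).to_subgroup _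

end Cfsg.Agent.S5331
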