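import Cfsg.Statements.S5332
import Cfsg.Agent.Lib.Fusion.ConstrainedSub

set_option autoImplicit false
open Cfsg

namespace Cfsg.Agent.S5332

/-- Let p be odd and F a saturated fusion system over a finite p-group S that is not the inner system of S. Then F contains a saturated constrained subsystem over S that is itself not the inner system. -/
theorem result {Ω : Type*} [Group Ω] {S : Subgroup Ω} [Finite S] (p : ℕ) [Fact p.Prime] (hS : IsPGroup p S) (F : Cfsg.FusionSystem S) (hF : F.IsSaturated p) (hp : p ≠ 2) (hne : ∃ P : Subgroup Ω, F.Hom P ≠ (Cfsg.innerFusionSystem S).Hom P) : ∃ E : Cfsg.FusionSystem S, E ≤ F ∧ E.IsConstrained p ∧ ∃ P : Subgroup Ω, E.Hom P ≠ (Cfsg.innerFusionSystem S).Hom P := by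
  classical
  have hF' : ¬ Cfsg.Agent.Fusion.IsInnerSys F := fun h =>
    hne.elim fun P hP => hP (Cfsg.Agent.Fusion.IsInnerSys.hom_eq h P)
  obtain ⟨W, hW, hWn, hWc, hWne⟩ :=
    Cfsg.Agent.Fusion.exists_centric_not_inner p _ _ S le_rfl hS F hF (Or.inl hp) hF'
  have hfn := Cfsg.Agent.Fusion.isFullyNormalized_of_normal (F := F) hW hWn
  have hcen := Cfsg.Agent.Fusion.isCentric_of_isFullyCentralized
    (Cfsg.Agent.Fusion.isFullyCentralized_of_isFullyNormalized hS hF hfn) hWc
  have key : ∀ (T : Subgroup _) (E : Cfsg.FusionSystem T), T = S → E.IsSubsystemOf F →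
      E.IsConstrained p → ¬ Cfsg.Agent.Fusion.IsInnerSys E →
      ∃ E : Cfsg.FusionSystem S, E ≤ F ∧ E.IsConstrained p ∧
        ∃ P : Subgroup _, E.Hom P ≠ (Cfsg.innerFusionSystem S).Hom P := by
    rintro T E rfl hsub hcon hnin
    refine ⟨E, hsub, hcon, ?_⟩
    by_contra! h
    refine hnin fun P f hf => ?_
    obtain ⟨φ, hφ, hφf⟩ := hf
    exact ⟨φ, h P ▸ hφ, hφf⟩
  have hsub : (Cfsg.Agent.Fusion.nSys F hW).IsSubsystemOf F := fun P φ hφ => hφ.1
  exact key _ _ (inf_eq_left.mpr hWn) hsub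
    (Cfsg.Agent.Fusion.isConstrained_normalizerSystem hS hF hfn hcen
      (Cfsg.Agent.Fusion.isNormalizerSystem_nSys F hW)) hWne

end Cfsg.Agent.S5332
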