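import Cfsg.Statements.S5334
import Cfsg.Agent.Lib.Fusion.CentricRestrict

set_option autoImplicit false
open Cfsg

namespace Cfsg.Agent.S5334

/-- Let F′ ≤ F be saturated fusion systems over the same finite p-group S, let Q and R be F-centric subgroups, φ a map of F with source Q and values in R, and ψ a map of F with source R. If two of φ, ψ and the composite ψ ∘ φ are maps of F′ then so is the third. -/
theorem result {Ω : Type*} [Group Ω] {S : Subgroup Ω} [Finite S] (p : ℕ) [Fact p.Prime] (hS : IsPGroup p S) (F : Cfsg.FusionSystem S) (hF : F.IsSaturated p) (F' : Cfsg.FusionSystem S) (hF' : F'.IsSaturated p) (hle : F' ≤ F) (Q R : Subgroup Ω) (hQ : F.IsCentric Q) (hR : F.IsCentric R) (φ : ↥Q →* Ω) (hφ : φ ∈ F.Hom Q) (hφR : ∀ x : Q, φ x ∈ R) (ψ : ↥R →* Ω) (hψ : ψ ∈ F.Hom R) : (φ ∈ F'.Hom Q → ψ ∈ F'.Hom R → ψ.comp (φ.codRestrict R hφR) ∈ F'.Hom Q) ∧ (ψ ∈ F'.Hom R → ψ.comp (φ.codRestrict R hφR)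 ∈ F'.Hom Q → φ ∈ F'.Hom Q) ∧ (φ ∈ F'.Hom Q → ψ.comp (φ.codRestrict R hφR) ∈ F'.Hom Q → ψ ∈ F'.Hom R) := by
  have hEF : ∀ P f, Fusion.MapTo F' P f → Fusion.MapTo F P f := Fusion.le_iff_mapTo.mp hle
  have hcomp : ∀ x : Q, (ψ.comp (φ.codRestrict R hφR)) x = Fusion.ev ψ (Fusion.ev φ x) := by
    intro x
    rw [Fusion.ev_apply φ x.2, Fusion.ev_apply ψ (hφR x)]
    rfl
  have hf := Fusion.mapTo_ev hφ
  have hfR : ∀ x ∈ Q, Fusion.ev φ x ∈ R := fun x hx => by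
    rw [Fusion.ev_apply φ hx]; exact hφR ⟨x, hx⟩
  have himg : Fusion.img (Fusion.ev φ) Q ≤ R := Fusion.img_le_of_forall hfR
  have hg := (Fusion.mapTo_ev hψ).restrict himg
  refine ⟨fun h1 h2 => F'.comp_mem h1 h2 hφR, fun h1 h2 => ?_, fun h1 h2 => ?_⟩
  · have hgE := (Fusion.mapTo_ev h1).restrict himg
    obtain ⟨k, hk, hkg, -, -⟩ := hgE.exists_iso_inverse
    have h2' : Fusion.MapTo F' Q (fun x => Fusion.ev ψ (Fusion.ev φ x)) := ⟨_, h2, hcomp⟩
    exact Fusion.mapTo_ev_iff.mp ((h2'.comp hk fun x hx => Fusion.mem_img_of_mem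
      (Fusion.mem_img_of_mem hx)).congr' fun x hx => (hkg _ (Fusion.mem_img_of_mem hx)).symm)
  · obtain ⟨k, hk, hkf, hfk, -⟩ := (Fusion.mapTo_ev h1).exists_iso_inverse
    have h2' : Fusion.MapTo F' Q (fun x => Fusion.ev ψ (Fusion.ev φ x)) := ⟨_, h2, hcomp⟩
    have hgE : Fusion.MapTo F' (Fusion.img (Fusion.ev φ) Q) (Fusion.ev ψ) := by
      refine (hk.comp h2' fun y hy => ?_).congr' fun y hy => by rw [hfk y hy]
      obtain ⟨x, hx, rfl⟩ := (hf.mem_img_iff le_rfl).mp hy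
      rw [hkf x hx]
      exact hx
    exact Fusion.mapTo_ev_iff.mp (Fusion.mapTo_of_restrict_centric hS hF hF' hEF
      (Fusion.isCentric_of_isConj hQ hf.isConj) himg (Fusion.mapTo_ev hψ) hgE)

end Cfsg.Agent.S5334
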