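import Cfsg.Statements.S5336
import Cfsg.Agent.Lib.Fusion.NormalSubgroupSystem

set_option autoImplicit false
open Cfsg

namespace Cfsg.Agent.S5336

/-- Let G be a finite group with Sylow p-subgroup S whose fusion system F_S(G) is simple. If G has no nontrivial normal subgroup of order prime to p and no proper subgroup H containing S induces the same fusion system on S as G does, then G is a simple group. -/
theorem result {G : Type*} [Group G] [Finite G] (p : ℕ) [Fact p.Prime] (S : Sylow p G) (hsimple : (Cfsg.groupFusionSystem (S : Subgroup G)).IsSimple p) (hcore : Cfsg.pPrimeCore p G = ⊥) (hmin : ∀ (H : Subgroup G) (hSH : (S : Subgroup G) ≤ H), H ≠ ⊤ → ∃ P : Subgroup G, (Cfsg.fusionSystemOfSubgroup H (S : Subgroup G) hSH).Hom P ≠ (Cfsg.groupFusionSystem (S : Subgroup G)).Hom P) : IsSimpleGroup G := by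
  obtain ⟨-, hSne, hS⟩ := hsimple
  have : Nontrivial G := by
    obtain ⟨x, -, hx⟩ := (Subgroup.bot_or_exists_ne_one (S : Subgroup G)).resolve_left hSne
    exact ⟨⟨x, 1, hx⟩⟩
  refine ⟨fun N hN => ?_⟩
  by_contra hcon
  obtain ⟨hNb, hNt⟩ := not_or.mp hcon
  haveI := hN
  rcases hS _ _ (Cfsg.Agent.Fusion.isNormalIn_fsSub S N) with hT | ⟨hT, hE⟩
  · obtain ⟨T, hTeq⟩ := Cfsg.Agent.Fusion.exists_sylow_inf S N
    rw [hT, Subgroup.bot_subgroupOf] at hTeq
    have h1 : ¬ p ∣ Nat.card N := by
      have h2 := T.not_dvd_index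
      rwa [hTeq, Subgroup.index_bot] at h2
    have h3 : (Nat.card N).Coprime p :=
      Nat.Coprime.symm ((Fact.out : p.Prime).coprime_iff_not_dvd.mpr h1)
    have h4 : N ≤ Cfsg.pPrimeCore p G := le_sSup ⟨hN, h3⟩
    exact hNb (le_bot_iff.mp (hcore ▸ h4))
  · have key : ∀ (T : Subgroup G) (hTN : T ≤ N), T = (S : Subgroup G) →
        (∀ P : Subgroup G, (Cfsg.fusionSystemOfSubgroup N T hTN).Hom P =
          (Cfsg.groupFusionSystem (S : Subgroup G)).Hom P) → False := by
      rintro T hTN rfl hP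
      obtain ⟨P, hP'⟩ := hmin N hTN hNt
      exact hP' (hP P)
    exact key _ inf_le_right hT hE

end Cfsg.Agent.S5336
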