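import Cfsg.Statements.S5338
import Cfsg.Agent.Lib.Fusion.Group
import Cfsg.Agent.Lib.Fusion.Invariant

set_option autoImplicit false
open Cfsg

namespace Cfsg.Agent.S5338

/-- Let F be a saturated fusion system over a finite p-group S and F′ ≤ F a saturated subsystem over all of S that is invariant under F in the conjugation sense: for every map φ of F with source Q and every map ψ of F′ between subgroups R ≤ Q (with values in Q), the transported map φψφ⁻¹ defined on φ(R) is again a map of F′. If moreover Aut_{F′}(S) = Aut_F(S), then F′ = F. -/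
theorem result {Ω : Type*} [Group Ω] {S : Subgroup Ω} [Finite S] (p : ℕ) [Fact p.Prime] (hS : IsPGroup p S) (F : Cfsg.FusionSystem S) (hF : F.IsSaturated p) (F' : Cfsg.FusionSystem S) (hF' : F'.IsSaturated p) (hle : F' ≤ F) (hinv : ∀ (Q : Subgroup Ω) (φ : ↥Q →* Ω), φ ∈ F.Hom Q → ∀ (R : Subgroup Ω) (hRQ : R ≤ Q) (ψ : ↥R →* Ω), ψ ∈ F'.Hom R → ∀ (hψQ : ∀ x : R, ψ x ∈ Q), ∃ χ ∈ F'.Hom ((R.subgroupOf Q).map φ), ∀ (x : R) (hx : φ ⟨(x : Ω), hRQ x.2⟩ ∈ (R.subgroupOf Q).map φ), χ ⟨φ ⟨(x : Ω), hRQ x.2⟩, hx⟩ = φ ⟨ψ x, hψQ x⟩) (htop : F'.autGroup S = F.autGroup S) (P : Subgroup Ω) : F'.Hom P = F.Hom P := by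
  have hsub : F'.IsSubsystemOf F := hle
  have hconj : ∀ {P Q : Subgroup Ω} {f ψ : Ω → Ω}, P ≤ Q → Q ≤ S → Fusion.MapTo F' P f →
      (∀ x ∈ P, f x ∈ Q) → Fusion.MapTo F Q ψ →
      ∃ g, Fusion.MapTo F' (Fusion.img ψ P) g ∧ ∀ x ∈ P, g (ψ x) = ψ (f x) := by
    rintro P Q f ψ hPQ hQS ⟨φ, hφ, hφf⟩ hfQ ⟨χ₀, hχ₀, hχ₀ψ⟩
    have hφQ : ∀ x : P, φ x ∈ Q := fun x => by rw [hφf]; exact hfQ x x.2
    obtain ⟨χ, hχ, hχx⟩ := hinv Q χ₀ hχ₀ P hPQ φ hφ hφQ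
    have he := Fusion.map_subgroupOf_eq_img hχ₀ψ hPQ
    refine ⟨Fusion.ev χ, he ▸ Fusion.mapTo_ev hχ, fun x hx => ?_⟩
    have hm : χ₀ ⟨x, hPQ hx⟩ ∈ (P.subgroupOf Q).map χ₀ := ⟨⟨x, hPQ hx⟩, hx, rfl⟩
    have h1 := hχx ⟨x, hx⟩ hm
    have h2 : χ₀ ⟨x, hPQ hx⟩ = ψ x := hχ₀ψ _
    rw [← h2, Fusion.ev_apply χ hm, h1, hχ₀ψ]
    exact congrArg ψ (hφf ⟨x, hx⟩)
  refine Set.Subset.antisymm (hle P) fun φ hφ => ?_
  have hscS : F.StronglyClosed S :=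
    Fusion.stronglyClosed_iff.mpr ⟨le_rfl, fun R f _ hf x hx => hf.mem hx⟩
  obtain ⟨α, hα, f₀, hf₀, hx⟩ := Fusion.frattini_of_conj hS hF hsub hscS hconj
    (F.le_of_mem hφ).1 (Fusion.mapTo_ev hφ)
  exact Fusion.mapTo_ev_iff.mp ((hf₀.comp (Fusion.mapTo_of_mem_autGroup le_rfl (htop ▸ hα))
    fun x hx' => hf₀.mem hx').congr' hx)

end Cfsg.Agent.S5338
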