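import Cfsg.Statements.S5340
import Cfsg.Agent.Lib.Fusion.Group
import Cfsg.Agent.Lib.Fusion.Invariant

set_option autoImplicit false
open Cfsg

namespace Cfsg.Agent.S5340

/-- Let F be a saturated fusion system over a nontrivial finite p-group S such that S is generated by its elements of order p, any two subgroups of S of order p are F-conjugate, and Aut_F(S) consists of inner automorphisms only. Then F is simple. -/
theorem result {Ω : Type*} [Group Ω] {S : Subgroup Ω} [Finite S] (p : ℕ) [Fact p.Prime] (hS : IsPGroup p S) (F : Cfsg.FusionSystem S) (hF : F.IsSaturated p) (hS1 : S ≠ ⊥) (hgen : Subgroup.closure {x : Ω | x ∈ S ∧ orderOf x = p} = S) (htr : ∀ A B : Subgroup Ω, A ≤ S → B ≤ S → Nat.card A = p → Nat.card B = p → F.IsConj A B) (htop : F.autGroup S = Cfsg.Inn ↥S) : F.IsSimple p := by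
  refine Fusion.isSimple_of_autGroup_eq_inn hF hS1 htop fun T hT => ?_
  refine or_iff_not_imp_left.mpr fun hT1 => le_antisymm hT.1 ?_
  have := Fusion.finite_of_le hT.1
  have : Nontrivial T := (Subgroup.nontrivial_iff_ne_bot T).mpr hT1
  obtain ⟨t, ht⟩ : ∃ t : T, orderOf t = p := by
    refine exists_prime_orderOf_dvd_card' p ?_
    obtain ⟨k, hk⟩ := IsPGroup.iff_card.mp (hS.to_le hT.1)
    rw [hk]
    refine dvd_pow_self p ?_
    rintro rfl
    exact not_subsingleton T (Nat.card_eq_one_iff_unique.mp hk).1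
  conv_lhs => rw [← hgen]
  refine (Subgroup.closure_le T).mpr fun x ⟨hx, hxp⟩ => ?_
  obtain ⟨φ, hφ, hφr⟩ := htr (Subgroup.zpowers (t : Ω)) (Subgroup.zpowers x)
    (Subgroup.zpowers_le.mpr (hT.1 t.2)) (Subgroup.zpowers_le.mpr hx)
    (by rw [Nat.card_zpowers, Subgroup.orderOf_coe, ht]) (by rw [Nat.card_zpowers, hxp])
  obtain ⟨y, hy⟩ : x ∈ φ.range := hφr ▸ Subgroup.mem_zpowers x
  rw [← hy]
  exact hT.2 _ (Subgroup.zpowers_le.mpr t.2) φ hφ y

end Cfsg.Agent.S5340
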