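import Cfsg.Statements.S5341
import Cfsg.Agent.Lib.Fusion.Saturation
import Cfsg.Agent.Lib.Fusion.Group
import Cfsg.Agent.Lib.Fusion.Normal

set_option autoImplicit false
open Cfsg

namespace Cfsg.Agent.S5341

/-- Let F be a saturated fusion system over a finite p-group S, T a subgroup strongly closed in F, and F′ any fusion system over T all of whose maps are maps of F. For a subgroup Q ≤ T: if Q is fully centralized in F then it is fully centralized in F′, and if Q is fully normalized in F then it is fully normalized in F′. -/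
theorem result {Ω : Type*} [Group Ω] {S : Subgroup Ω} [Finite S] (p : ℕ) [Fact p.Prime] (hS : IsPGroup p S) (F : Cfsg.FusionSystem S) (hF : F.IsSaturated p) (T : Subgroup Ω) (hT : F.StronglyClosed T) (F' : Cfsg.FusionSystem T) (hsub : F'.IsSubsystemOf F) (Q : Subgroup Ω) (hQT : Q ≤ T) : (F.IsFullyCentralized Q → F'.IsFullyCentralized Q) ∧ (F.IsFullyNormalized Q → F'.IsFullyNormalized Q) := by
  have hconj : ∀ R, F'.IsConj Q R → F.IsConj R Q := fun R ⟨φ, hφ, hr⟩ =>
    Fusion.isConj_symm ⟨φ, hsub Q hφ, hr⟩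
  have hTS : T ≤ S := hT.1
  have hfin := Fusion.finite_of_le hTS
  refine ⟨fun hQc => ⟨hQT, fun R hR => ?_⟩, fun hQn => ⟨hQT, fun R hR => ?_⟩⟩
  · obtain ⟨f, hf, hfQ⟩ := Fusion.isConj_iff.mp (hconj R hR)
    have hrec := Fusion.isReceptive_of_isFullyCentralized hS hF hQc
    obtain ⟨g, hg, hgf⟩ := (Fusion.isReceptive_iff.mp hrec).2 R f hf hfQ
    have hle : Cfsg.FusionSystem.centralizerIn T R ≤ Fusion.extSub S hf :=
      fun z hz => Fusion.centralizerIn_le_extSub hf ⟨hTS hz.1, hz.2⟩
    rw [← hg.card_img hle]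
    have := Fusion.finite_of_le (Fusion.centralizerIn_le (S := T) (P := Q))
    refine Subgroup.card_le_of_le (Fusion.img_le_of_forall fun z hz =>
      ⟨Fusion.StronglyClosed.map_mem hT hg (hle hz) hz.1, ?_⟩)
    have h := hg.map_mem_centralizerIn (Fusion.le_extSub hf) (hle hz)
      (⟨hTS hz.1, hz.2⟩ : z ∈ Cfsg.FusionSystem.centralizerIn S R)
    rw [Fusion.img_congr hgf, hfQ] at h
    exact h.2
  · have hRS := Fusion.isConj_le_left (hconj R hR)
    obtain ⟨g, hg, hgQ⟩ := Fusion.exists_map_normalizerIn hS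
      (Fusion.isFullyAutomized_of_isFullyNormalized hS hF hQn)
      (Fusion.isReceptive_of_isFullyNormalized hS hF hQn) (hconj R hR)
    have hle : Cfsg.FusionSystem.normalizerIn T R ≤ Cfsg.FusionSystem.normalizerIn S R :=
      fun z hz => ⟨hTS hz.1, hz.2⟩
    rw [← hg.card_img hle]
    have := Fusion.finite_of_le (Fusion.normalizerIn_le (S := T) (P := Q))
    refine Subgroup.card_le_of_le (Fusion.img_le_of_forall fun z hz =>
      ⟨Fusion.StronglyClosed.map_mem hT hg (hle hz) hz.1, ?_⟩)
    have h := hg.map_mem_normalizerIn (Fusion.le_normalizerIn hRS) (hle hz) (hle hz)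
    rw [hgQ] at h
    exact h.2

end Cfsg.Agent.S5341
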