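import Cfsg.Statements.S5343
import Cfsg.Agent.Lib.Fusion.RealizedNormal

set_option autoImplicit false
universe u
open Cfsg

namespace Cfsg.Agent.S5343

/-- Let F be a simple saturated fusion system over a finite p-group S that is realized by some finite group on a Sylow p-subgroup. Then F is realized by a finite simple group on a Sylow p-subgroup. -/
theorem result {Ω : Type u} [Group Ω] {S : Subgroup Ω} [Finite S] (p : ℕ) [Fact p.Prime] (hS : IsPGroup p S) (F : Cfsg.FusionSystem S) (hsimple : F.IsSimple p) (hreal : F.IsRealizable p) : ∃ (G : Type u) (_ : Group G) (_ : Finite G) (_ : IsSimpleGroup G) (ι : ↥S →* G), F.IsRealizedBy ι ∧ ∃ T : Sylow p G, (T : Subgroup G) = ι.range := by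
  classical
  obtain ⟨hsat, hSne, hS'⟩ := hsimple
  let Q : ℕ → Prop := fun n => ∃ (G : Type u) (_ : Group G) (_ : Finite G) (ι : ↥S →* G),
    F.IsRealizedBy ι ∧ (∃ T : Sylow p G, (T : Subgroup G) = ι.range) ∧ Nat.card G = n
  have hex : ∃ n, Q n := by
    obtain ⟨G, hG, hf, ι, h, hT⟩ := hreal
    exact ⟨_, G, hG, hf, ι, h, hT, rfl⟩
  obtain ⟨G, hG, hf, ι, h, ⟨T, hT⟩, hcard⟩ := Nat.find_spec hex
  have hmin : ∀ m, Q m → Nat.card G ≤ m := fun m hm => hcard ▸ Nat.find_min' hex hm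
  have hnt : Nontrivial G := by
    obtain ⟨x, hx, hx1⟩ := (Subgroup.bot_or_exists_ne_one S).resolve_left hSne
    refine ⟨⟨ι ⟨x, hx⟩, 1, fun hh => hx1 ?_⟩⟩
    exact congrArg Subtype.val (h.1 (hh.trans (map_one ι).symm))
  have hsimpleG : IsSimpleGroup G := by
    refine ⟨fun N hN => ?_⟩
    by_contra hcon
    obtain ⟨hNb, hNt⟩ := not_or.mp hcon
    have := hN
    rcases hS' _ _ (Cfsg.Agent.Fusion.IsRealizedBy.isNormalIn_sub h T hT N) with h0 | ⟨h0, hE⟩
    · have hinf : ι.range ⊓ N = ⊥ := by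
        refine (Subgroup.eq_bot_iff_forall _).mpr fun y hy => ?_
        obtain ⟨x, hx, rfl⟩ := Cfsg.Agent.Fusion.exists_th_eq hy.1
        have hx0 : x ∈ Cfsg.FusionSystem.preimageAlong ι N :=
          Cfsg.Agent.Fusion.mem_preimageAlong.mpr ⟨hx, hy.2⟩
        rw [h0, Subgroup.mem_bot] at hx0
        rw [hx0, Cfsg.Agent.Fusion.th_one]
      have hq := Cfsg.Agent.Fusion.IsRealizedBy.quotient h T hT N hinf
      let T' := T.mapSurjective (QuotientGroup.mk'_surjective N)
      have hT' : (T' : Subgroup (G ⧸ N)) = ((QuotientGroup.mk' N).comp ι).range := by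
        rw [MonoidHom.range_comp, ← hT, Sylow.coe_mapSurjective]
      have h1 := hmin _ ⟨G ⧸ N, inferInstance, inferInstance, _, hq, ⟨T', hT'⟩, rfl⟩
      have h2 := Subgroup.card_eq_card_quotient_mul_card_subgroup N
      have h3 : 1 < Nat.card N := (Subgroup.one_lt_card_iff_ne_bot N).mpr hNb
      have h4 : 0 < Nat.card (G ⧸ N) := Nat.card_pos
      have h5 : Nat.card (G ⧸ N) * 1 < Nat.card (G ⧸ N) * Nat.card N :=
        Nat.mul_lt_mul_of_pos_left h3 h4
      omega
    · have hle : ι.range ≤ N := by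
        rintro _ ⟨s, rfl⟩
        have hs : (s : Ω) ∈ Cfsg.FusionSystem.preimageAlong ι N := h0.symm ▸ s.2
        have h1 := (Cfsg.Agent.Fusion.mem_preimageAlong.mp hs).2
        rwa [Cfsg.Agent.Fusion.th_coe] at h1
      let ιN : ↥S →* N := ι.codRestrict N fun s => hle ⟨s, rfl⟩
      have hN' : F.IsRealizedBy ιN := by
        refine ⟨fun x y hxy => h.1 (congrArg Subtype.val hxy), fun P hP φ hφ => ?_⟩
        rw [← hE P]
        constructor
        · rintro ⟨-, -, g, hg, hgx⟩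
          refine ⟨⟨g, hg⟩, fun x => Subtype.ext ?_⟩
          have h1 := hgx x
          rw [Cfsg.Agent.Fusion.th_apply ι (hφ x), Cfsg.Agent.Fusion.th_apply ι (hP x.2)] at h1
          exact h1
        · rintro ⟨g, hg⟩
          refine ⟨h0.symm ▸ hP, fun x => h0.symm ▸ hφ x, g, g.2, fun x => ?_⟩
          rw [Cfsg.Agent.Fusion.th_apply ι (hφ x), Cfsg.Agent.Fusion.th_apply ι (hP x.2)]
          exact congrArg Subtype.val (hg x)
      have hTN : (T : Subgroup G) ≤ N := hT ▸ hle
      have hT' : ((T.subtype hTN : Sylow p N) : Subgroup N) = ιN.range := by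
        ext ⟨y, hy⟩
        show y ∈ (T : Subgroup G) ↔ _
        rw [hT]
        exact ⟨fun ⟨s, hs⟩ => ⟨s, Subtype.ext hs⟩, fun ⟨s, hs⟩ => ⟨s, congrArg Subtype.val hs⟩⟩
      have h1 := hmin _ ⟨↥N, inferInstance, inferInstance, ιN, hN', ⟨T.subtype hTN, hT'⟩, rfl⟩
      exact hNt (Subgroup.eq_top_of_card_eq N (le_antisymm (Subgroup.card_le_card_group N) h1))
  exact ⟨G, hG, hf, hsimpleG, ι, h, T, hT⟩

end Cfsg.Agent.S5343
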