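import Cfsg.Statements.S5345
import Cfsg.Agent.Lib.ClassK.ThreeTransp
-- import your own Cfsg.Agent.* helpers here

set_option autoImplicit false
open Cfsg

namespace Cfsg.Agent.S5345

/-- Let D be a conjugation-invariant generating set of 3-transpositions of a finite group G and T a Sylow 2-subgroup of G. Then the members of D lying in T generate an abelian subgroup, and their number is the width of D (the largest number of pairwise commuting members of D). -/
theorem result {G : Type*} [Group G] [Finite G] {D : Set G} (hD : Cfsg.IsThreeTranspositionGroup D) (T : Sylow 2 G) : IsMulCommutative (Subgroup.closure {d : G | d ∈ D ∧ d ∈ T}) ∧ {d : G | d ∈ D ∧ d ∈ T}.ncard = Cfsg.commutingWidth D := by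
  haveI := Fact.mk Nat.prime_two
  have hcomm : ∀ d ∈ {d : G | d ∈ D ∧ d ∈ T}, ∀ e ∈ {d : G | d ∈ D ∧ d ∈ T}, Commute d e := by
    rintro d ⟨hd, hdT⟩ e ⟨he, heT⟩
    rw [Cfsg.Agent.ClassK.tt_commute_iff hD.1 hd he]
    rcases hD.1.2 d hd e he with h | h
    · exact h
    · obtain ⟨k, hk⟩ := T.isPGroup' ⟨d * e, mul_mem hdT heT⟩
      have hk' : (d * e) ^ 2 ^ k = 1 := congrArg Subtype.val hk
      have h1 : d * e = 1 := orderOf_eq_one_iff.1 (Nat.eq_one_of_dvd_coprimes
        (((Nat.coprime_primes Nat.prime_two Nat.prime_three).2 (by norm_num)).pow_left k)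
        (orderOf_dvd_of_pow_eq_one hk') (orderOf_dvd_of_pow_eq_one h))
      rw [h1, one_pow]
  refine ⟨?_, ?_⟩
  · refine ⟨⟨fun a b => Subtype.ext ?_⟩⟩
    have hle : Subgroup.closure {d : G | d ∈ D ∧ d ∈ T} ≤
        Subgroup.centralizer (Subgroup.closure {d : G | d ∈ D ∧ d ∈ T} : Set G) := by
      rw [Subgroup.centralizer_closure, Subgroup.closure_le]
      intro d hd
      exact Subgroup.mem_centralizer_iff.2 fun e he => hcomm e he d hd
    exact Subgroup.mem_centralizer_iff.1 (hle b.2) a a.2
  · refine le_antisymm (le_csSup ?_ ⟨_, fun d hd => hd.1, Set.toFinite _, hcomm, rfl⟩) (csSup_le' ?_)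
    · refine ⟨Nat.card G, ?_⟩
      rintro n ⟨E, -, -, -, rfl⟩
      rw [← Set.ncard_univ]
      exact Set.ncard_le_ncard (Set.subset_univ E)
    · rintro n ⟨E, hED, -, hE, rfl⟩
      have hP : IsPGroup 2 (Subgroup.closure E) := by
        rintro ⟨x, hx⟩
        refine ⟨1, Subtype.ext ?_⟩
        show x ^ 2 ^ 1 = 1
        rw [pow_one, pow_two]
        have hcen : Subgroup.closure E ≤ Subgroup.centralizer (Subgroup.closure E : Set G) := by
          rw [Subgroup.centralizer_closure, Subgroup.closure_le]
          intro d hd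
          exact Subgroup.mem_centralizer_iff.2 fun e he => hE e he d hd
        induction hx using Subgroup.closure_induction with
        | mem y hy => exact Cfsg.Agent.ClassK.tt_mul_self hD.1 (hED hy)
        | one => exact mul_one 1
        | mul u v hu hv h1 h2 =>
          rw [(show Commute v u from Subgroup.mem_centralizer_iff.1 (hcen hu) v hv).mul_mul_mul_comm, h1, h2, one_mul]
        | inv u hu h1 => rw [← mul_inv_rev, h1, inv_one]
      obtain ⟨T', hT'⟩ := hP.exists_le_sylow
      obtain ⟨g, rfl⟩ := MulAction.exists_smul_eq G T T'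
      refine Set.ncard_le_ncard_of_injOn (fun x => g⁻¹ * x * g) (fun x hx => ⟨?_, ?_⟩) (fun x _ y _ h => by simpa using h)
      · have h := hD.2.1 g⁻¹ x (hED hx)
        rwa [inv_inv] at h
      · have h := hT' (Subgroup.subset_closure hx)
        rw [Sylow.smul_def] at h
        obtain ⟨y, hy, hxy⟩ := h
        show g⁻¹ * x * g ∈ (T : Subgroup G)
        have : x = g * y * g⁻¹ := hxy.symm
        rw [this, show g⁻¹ * (g * y * g⁻¹) * g = y by group]
        exact hy

end Cfsg.Agent.S5345
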