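import Cfsg.Statements.S5347
import Cfsg.Agent.Lib.Invol.Basic
-- import your own Cfsg.Agent.* helpers here

set_option autoImplicit false
open Cfsg

namespace Cfsg.Agent.S5347

/-- Let D be a conjugation-invariant generating set of 3-transpositions of a finite group G, p a prime bigger than 3, and P a p-subgroup of G. If a member d of D normalizes P then d centralizes P. -/
theorem result {G : Type*} [Group G] [Finite G] {D : Set G} (hD : Cfsg.IsThreeTranspositionGroup D) {p : ℕ} (hp : p.Prime) (hp3 : 3 < p) (P : Subgroup G) (hP : IsPGroup p P) {d : G} (hd : d ∈ D) (hnorm : d ∈ Subgroup.normalizer (P : Set G)) : ∀ x ∈ P, Commute d x := by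
  intro x hx
  have hd2 : orderOf d = 2 := hD.1.1 d hd
  have hdinv := Cfsg.Agent.Invol.inv_of_orderOf_two hd2
  have hmem : d * (x * d * x⁻¹) ∈ P := by
    have h1 := (Subgroup.mem_normalizer_iff.1 hnorm x).1 hx
    rw [hdinv] at h1
    rw [show d * (x * d * x⁻¹) = d * x * d * x⁻¹ by group]
    exact mul_mem h1 (inv_mem hx)
  obtain ⟨k, hk⟩ := hP ⟨_, hmem⟩
  have hk' : (d * (x * d * x⁻¹)) ^ p ^ k = 1 := congrArg Subtype.val hk
  have h1 : d * (x * d * x⁻¹) = 1 := by
    rcases hD.1.2 d hd _ (hD.2.1 x d hd) with h | h <;> refine orderOf_eq_one_iff.1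
      (Nat.eq_one_of_dvd_coprimes ?_ (orderOf_dvd_of_pow_eq_one hk') (orderOf_dvd_of_pow_eq_one h))
    · exact ((Nat.coprime_primes hp Nat.prime_two).2 (by omega)).pow_left k
    · exact ((Nat.coprime_primes hp Nat.prime_three).2 (by omega)).pow_left k
  have h2 := inv_eq_of_mul_eq_one_right h1
  rw [hdinv] at h2
  show d * x = x * d
  calc d * x = x * d * x⁻¹ * x := by rw [← h2]
    _ = x * d := by group

end Cfsg.Agent.S5347
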