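import Cfsg.Statements.S5350
import Cfsg.Agent.Lib.Fischer3.Orbits

set_option autoImplicit false
open Cfsg

namespace Cfsg.Agent.S5350

/-- Let D be a conjugacy class of 3-transpositions generating the finite group G, with at least two members, and d a member of D. Then the set of members w of D whose commuting partners in D (other than w) are exactly those of d (other than d) coincides with the set of members of D lying in the coset of d modulo the largest normal 3-subgroup of G, and also with the orbit of d under conjugation by that normal 3-subgroup. -/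
theorem result {G : Type*} [Group G] [Finite G] {D : Set G} (hD : Cfsg.IsThreeTranspositionClass D) (hD2 : ∃ a ∈ D, ∃ b ∈ D, a ≠ b) {d : G} (hd : d ∈ D) : {w : G | w ∈ D ∧ {y : G | y ∈ D ∧ y ≠ d ∧ Commute d y} = {y : G | y ∈ D ∧ y ≠ w ∧ Commute w y}} = {w : G | w ∈ D ∧ d⁻¹ * w ∈ Cfsg.pCore 3 G} ∧ {w : G | w ∈ D ∧ {y : G | y ∈ D ∧ y ≠ d ∧ Commute d y} = {y : G | y ∈ D ∧ y ≠ w ∧ Commute w y}} = {w : G | ∃ g ∈ Cfsg.pCore 3 G, w = g * d * g⁻¹} := by
  open Cfsg.Agent.Fischer3 in
  have hG := class_group hD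
  have hinv := Cfsg.Agent.ClassK.tt_inv hG.1 hd
  have hset : ∀ w : G, {y : G | y ∈ D ∧ y ≠ d ∧ Commute d y} =
      {y : G | y ∈ D ∧ y ≠ w ∧ Commute w y} ↔ RelW D w d := fun w => by
    rw [Set.ext_iff]
    constructor
    · intro h e he
      exact ⟨fun hw => ((h e).2 ⟨he, hw⟩).2, fun hd => ((h e).1 ⟨he, hd⟩).2⟩
    · intro h e
      exact ⟨fun hx => ⟨hx.1, (h e hx.1).2 hx.2⟩, fun hx => ⟨hx.1, (h e hx.1).1 hx.2⟩⟩
  have h1 := fun v (hv : v ∈ D) => relW_iff hG hv hd
  refine ⟨?_, ?_⟩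
  · ext v
    simp only [Set.mem_ofPred_eq, hset, hinv]
    exact and_congr_right (h1 v)
  · ext v
    simp only [Set.mem_ofPred_eq, hset]
    refine ⟨fun h => relW_orbit hG h.1 hd h.2, ?_⟩
    rintro ⟨g, hg, rfl⟩
    exact ⟨hG.2.1 g d hd, (h1 _ (hG.2.1 g d hd)).2 (inv_mul_mem_of_conj hG hd hg)⟩

end Cfsg.Agent.S5350
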