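import Cfsg.Statements.S5352
import Cfsg.Agent.Lib.Fischer3.Quasisimple

set_option autoImplicit false
open Cfsg

namespace Cfsg.Agent.S5352

/-- Let D be a conjugacy class of 3-transpositions generating the finite group G, with at least two members, and suppose the largest normal 2-subgroup and the largest normal 3-subgroup of G are both central. Then G has a quasisimple normal subgroup L such that the generalized Fitting subgroup of G is the product of L and the centre; and either L = G or the image of D in G/L has width 1, in the sense that two members of D whose commutator lies in L have the same image modulo L. -/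
theorem result {G : Type*} [Group G] [Finite G] {D : Set G} (hD : Cfsg.IsThreeTranspositionClass D) (hD2 : ∃ a ∈ D, ∃ b ∈ D, a ≠ b) (h2 : Cfsg.pCore 2 G ≤ Subgroup.center G) (h3 : Cfsg.pCore 3 G ≤ Subgroup.center G) : ∃ L : Subgroup G, L.Normal ∧ Cfsg.IsQuasisimple L ∧ Cfsg.generalizedFittingSubgroup G = L ⊔ Subgroup.center G ∧ (L = ⊤ ∨ ∀ a ∈ D, ∀ b ∈ D, a * b * a⁻¹ * b⁻¹ ∈ L → a⁻¹ * b ∈ L) := by
  open Cfsg.Agent in
  have hG := Fischer3.class_group hD
  obtain ⟨L, hL⟩ : ∃ L : Subgroup G, Cfsg.IsComponent L := by
    by_contra! h
    exact Fischer3.layer_ne_bot hD hD2 h2 h3 (Components.layer_eq_bot_iff.2 h)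
  have hn := Fischer3.component_normal hD hL
  have hlayer : Cfsg.layer G = L := le_antisymm (Components.layer_le_iff.2 fun M hM =>
    le_of_eq (Fischer3.component_unique hD hD2 h2 h3 hM hL)) (Components.component_le_layer hL)
  have hfit : Cfsg.fittingSubgroup G = Subgroup.center G :=
    le_antisymm (Fischer3.fitting_le_center hD h2 h3) Fischer3.center_le_fitting
  refine ⟨L, hn, hL.2, by rw [Cfsg.generalizedFittingSubgroup, hlayer, hfit], .inr ?_⟩
  intro a ha b hb hab
  have hai := ClassK.tt_inv hG.1 ha
  have hbi := ClassK.tt_inv hG.1 hb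
  rw [hai, hbi] at hab
  rw [hai]
  by_cases hc : Commute a b
  · exact Fischer3.mul_mem_of_commute_component hD hL ha hb hc
  · have h6 := ClassK.tt_noncommute_cube hG.1 ha hb hc
    have h7 : a * b = a * b * a * b * (a * b * a * b) := by
      have e : a * b * a * b = (a * b) ^ 2 := by rw [sq, mul_assoc (a * b)]
      rw [e, ← sq, ← pow_mul]
      calc a * b = (a * b) ^ 3 * (a * b) := by rw [h6, one_mul]
        _ = _ := by rw [← pow_succ]
    rw [h7]; exact mul_mem hab hab

end Cfsg.Agent.S5352
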