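import Cfsg.Statements.S5358
import Cfsg.Agent.Lib.Forms.Orth
-- import your own Cfsg.Agent.* helpers here

set_option autoImplicit false
open scoped MatrixGroups
open Cfsg

namespace Cfsg.Agent.S5358

open Matrix in
theorem comm_iff_aux {F : Type*} [Field F] {n : ℕ} (Q : QuadraticForm F (Fin n → F)) (u v : Fin n → F)
    (k : F) (hk : k = (Q u)⁻¹) (huv : Q u = Q v) (x : Fin n → F) :
    (Cfsg.reflectionMatrix ⇑Q u * Cfsg.reflectionMatrix ⇑Q v) *ᵥ x -
      (Cfsg.reflectionMatrix ⇑Q v * Cfsg.reflectionMatrix ⇑Q u) *ᵥ x =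
      (k * k * QuadraticMap.polar Q v u) • (QuadraticMap.polar Q x v • u - QuadraticMap.polar Q x u • v) := by
  have key : ∀ w y : Fin n → F, Cfsg.reflectionMatrix ⇑Q w *ᵥ y = y - ((Q w)⁻¹ * QuadraticMap.polar Q y w) • w := by
    intro w y
    rw [Cfsg.reflectionMatrix, Matrix.sub_mulVec, Matrix.one_mulVec, Matrix.smul_mulVec,
      Matrix.vecMulVec_mulVec, op_smul_eq_smul, smul_smul, Cfsg.Agent.FormsLib.polarVec_dotProduct]
  rw [← Matrix.mulVec_mulVec, ← Matrix.mulVec_mulVec, key v x, key u x, key u, key v, ← huv, ← hk]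
  have e : ∀ a b : Fin n → F, ∀ c : F, ∀ w, QuadraticMap.polar Q (a - c • b) w = QuadraticMap.polar Q a w - c * QuadraticMap.polar Q b w := by
    intro a b c w
    rw [← QuadraticMap.polarBilin_apply_apply, ← QuadraticMap.polarBilin_apply_apply, ← QuadraticMap.polarBilin_apply_apply]
    simp
  rw [e, e, QuadraticMap.polar_comm (⇑Q) u v]
  module

/-- Let Q be a non-degenerate quadratic form on the n-dimensional coordinate space over the field with three elements and u, v vectors of the same non-zero norm Q(u) = Q(v) spanning different lines (v ≠ u and v ≠ −u). Then the reflection matrices of u and v commute if and only if u and v are orthogonal for the polar form of Q. -/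
theorem result (n : ℕ) (Q : QuadraticForm (ZMod 3) (Fin n → ZMod 3)) (hQ : (QuadraticMap.polarBilin Q).Nondegenerate) (u v : Fin n → ZMod 3) (hu : Q u ≠ 0) (huv : Q u = Q v) (h1 : v ≠ u) (h2 : v ≠ -u) : Commute (Cfsg.reflectionMatrix (⇑Q) u) (Cfsg.reflectionMatrix (⇑Q) v) ↔ QuadraticMap.polar (⇑Q) u v = 0 := by
  open Matrix in
  constructor
  · intro hc
    by_contra hb
    have hk0 : (Q u)⁻¹ ≠ 0 := inv_ne_zero hu
    have h := comm_iff_aux Q u v _ rfl huv u
    rw [hc.eq, sub_self] at h
    have hcoef : (Q u)⁻¹ * (Q u)⁻¹ * QuadraticMap.polar Q v u ≠ 0 :=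
      mul_ne_zero (mul_ne_zero hk0 hk0) (by rwa [QuadraticMap.polar_comm] at hb)
    have h' := (smul_eq_zero.1 h.symm).resolve_left hcoef
    rw [sub_eq_zero, Cfsg.Agent.FormsLib.polar_self'] at h'
    have h20 : (2 : ZMod 3) * Q u ≠ 0 := mul_ne_zero (by decide) hu
    set t : ZMod 3 := ((2 : ZMod 3) * Q u)⁻¹ * QuadraticMap.polar Q u v
    have hv : v = t • u := by
      rw [mul_smul, h', smul_smul, inv_mul_cancel₀ h20, one_smul]
    rcases (by decide : ∀ a : ZMod 3, a = 0 ∨ a = 1 ∨ a = -1) t with ht | ht | ht <;> rw [ht] at hv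
    · rw [zero_smul] at hv
      rw [hv, map_zero] at huv
      exact hu huv
    · exact h1 (by rw [hv, one_smul])
    · exact h2 (by rw [hv, neg_smul, one_smul])
  · intro hb
    refine Matrix.ext_of_mulVec_single fun i => ?_
    have h := comm_iff_aux Q u v _ rfl huv (Pi.single i 1)
    rw [QuadraticMap.polar_comm (⇑Q) v u, hb, mul_zero, zero_smul, sub_eq_zero] at h
    exact h

end Cfsg.Agent.S5358
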