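import Cfsg.Statements.S5363
import Cfsg.Agent.Lib.Invol.Basic
-- import your own Cfsg.Agent.* helpers here

set_option autoImplicit false
open Cfsg

namespace Cfsg.Agent.S5363

/-- Let D be a conjugation-invariant set of involutions of a finite group G. Then every product of two members of D has odd order or order 2 if and only if, for every a in D and every b in D different from a and commuting with a, the members of D commuting with a b are exactly those commuting with both a and b. -/
theorem result {G : Type*} [Group G] [Finite G] {D : Set G} (hinv : ∀ d ∈ D, orderOf d = 2) (hconj : ∀ g : G, ∀ d ∈ D, g * d * g⁻¹ ∈ D) : (∀ a ∈ D, ∀ b ∈ D, Odd (orderOf (a * b)) ∨ orderOf (a * b) = 2) ↔ ∀ a ∈ D, ∀ b ∈ D, b ≠ a → Commute a b → {y : G | y ∈ D ∧ Commute (a * b) y} = {y : G | y ∈ D ∧ Commute a y} ∩ {y : G | y ∈ D ∧ Commute b y} := by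
  have hsq : ∀ d ∈ D, d * d = 1 := fun d hd => Cfsg.Agent.Invol.mul_self_of_orderOf_two (hinv d hd)
  constructor
  · intro h a ha b hb hba hab
    ext y
    refine ⟨fun ⟨hy, hc⟩ => ?_, fun ⟨⟨hy, h1⟩, _, h2⟩ => ⟨hy, h1.mul_left h2⟩⟩
    have hcy : Commute a y := by
      have hca : Commute (a * b) a := (Commute.refl a).mul_left hab.symm
      rcases h y hy a ha with hodd | h2
      · -- `(a b)` commutes with `y a`, so the order of `y b = (y a)(a b)` is twice that of `y a`
        have hcomm : Commute (y * a) (a * b) := (hc.mul_right hca).symm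
        have hu : orderOf (a * b) = 2 := Cfsg.Agent.Invol.orderOf_two_of_mul_self
          (by rw [hab.symm.mul_mul_mul_comm, hsq a ha, hsq b hb, mul_one]) fun e => hba (by
            rw [← mul_left_cancel (a := a) (b := a) (c := b) (by rw [hsq a ha, e])])
        have hyb : y * b = (y * a) * (a * b) := by
          rw [mul_assoc, ← mul_assoc a a b, hsq a ha, one_mul]
        have hord : orderOf (y * b) = orderOf (y * a) * 2 := by
          rw [hyb, hcomm.orderOf_mul_eq_mul_orderOf_of_coprime (by rw [hu]; exact hodd.coprime_two_right), hu]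
        rcases h y hy b hb with h3 | h3
        · rw [hord] at h3
          exact absurd h3 (by rw [Nat.not_odd_iff_even]; exact even_two.mul_left _)
        · rw [hord] at h3
          have : y * a = 1 := orderOf_eq_one_iff.1 (by omega)
          have hyy : a = y := mul_left_cancel (a := y) (by rw [this, hsq y hy])
          exact hyy ▸ Commute.refl a
      · have : (y * a) * (y * a) = 1 := Cfsg.Agent.Invol.mul_self_of_orderOf_two h2
        show a * y = y * a
        calc a * y = (y * a)⁻¹ := by rw [mul_inv_rev, Cfsg.Agent.Invol.inv_of_orderOf_two (hinv a ha), Cfsg.Agent.Invol.inv_of_orderOf_two (hinv y hy)]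
          _ = y * a := inv_eq_of_mul_eq_one_right this
    refine ⟨⟨hy, hcy⟩, hy, ?_⟩
    have : Commute (a * (a * b)) y := hcy.mul_left hc
    rwa [← mul_assoc, hsq a ha, one_mul] at this
  · intro h a ha b hb
    rw [or_iff_not_imp_left, Nat.not_odd_iff_even]
    intro heven
    by_contra hne2
    set d := a * b with hd
    have hinvd := Cfsg.Agent.Invol.conj_mul_eq_inv (hsq a ha) (hsq b hb)
    have hmem : ∀ m : ℕ, a * d ^ m ∈ D := by
      intro m
      induction m using Nat.strong_induction_on with
      | _ m ih =>
        match m with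
        | 0 => simpa using ha
        | 1 => rw [pow_one, hd, ← mul_assoc, hsq a ha, one_mul]; exact hb
        | m + 2 =>
          have h1 := hconj d⁻¹ _ (ih m (by omega))
          have e : d⁻¹ * (a * d ^ m) * d⁻¹⁻¹ = a * d ^ (m + 2) := by
            have hda : d⁻¹ * a = a * d := by
              rw [← hd] at hinvd
              rw [← hinvd, inv_mul_cancel_right]
            rw [inv_inv, pow_succ, pow_succ', ← mul_assoc d⁻¹, hda]
            group
          rwa [e] at h1
    set c := d ^ (orderOf d / 2)
    have hc2 : orderOf c = 2 := Cfsg.Agent.Invol.orderOf_pow_half heven (orderOf_pos d).ne'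
    have hca : Commute c a := Cfsg.Agent.Invol.commute_pow_half hinvd heven
    have hcb : Commute c b := Cfsg.Agent.Invol.commute_pow_half (Cfsg.Agent.Invol.conj_mul_eq_inv' (hsq a ha) (hsq b hb)) heven
    have hacD : a * c ∈ D := hmem _
    have hne : a * c ≠ a := fun e => Cfsg.Agent.Invol.ne_one_of_orderOf_two hc2 (mul_eq_left.1 e)
    have hset := h a ha (a * c) hacD hne ((Commute.refl a).mul_right hca.symm)
    have hb' : b ∈ {y : G | y ∈ D ∧ Commute (a * (a * c)) y} := ⟨hb, by rw [← mul_assoc, hsq a ha, one_mul]; exact hcb⟩
    rw [hset] at hb'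
    have hab : Commute a b := hb'.1.2
    refine hne2 (Cfsg.Agent.Invol.orderOf_two_of_mul_self ?_ ?_)
    · rw [hd, hab.symm.mul_mul_mul_comm, hsq a ha, hsq b hb, mul_one]
    · intro e
      rw [e, orderOf_one] at heven
      exact absurd heven (by decide)

end Cfsg.Agent.S5363
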