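import Cfsg.Statements.S5364
import Cfsg.Agent.Lib.Invol.Basic
-- import your own Cfsg.Agent.* helpers here

set_option autoImplicit false
open Cfsg

namespace Cfsg.Agent.S5364

/-- Let D be a conjugation-invariant set of involutions of a finite group G and t an involution in the centre of G such that d t does not lie in D for any d in D. If the images of the members of D in G modulo the subgroup generated by t satisfy the 3-transposition order conditions (each has order 2 and any two have product of order at most 3), then so do the members of D. -/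
theorem result {G : Type*} [Group G] [Finite G] {D : Set G} (hinv : ∀ d ∈ D, orderOf d = 2) (hconj : ∀ g : G, ∀ d ∈ D, g * d * g⁻¹ ∈ D) (t : G) (ht : orderOf t = 2) (htZ : t ∈ Subgroup.center G) (hDt : ∀ d ∈ D, d * t ∉ D) [(Subgroup.zpowers t).Normal] (himg : Cfsg.IsThreeTranspositionSet ((QuotientGroup.mk : G → G ⧸ Subgroup.zpowers t) '' D)) : Cfsg.IsThreeTranspositionSet D := by
  refine ⟨hinv, fun d hd e he => ?_⟩
  have ht2 : t * t = 1 := Cfsg.Agent.Invol.mul_self_of_orderOf_two ht
  have htc := Subgroup.mem_center_iff.1 htZ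
  have hmem : ∀ x : G, x ∈ Subgroup.zpowers t → x = 1 ∨ x = t := by
    rintro x ⟨k, rfl⟩
    rcases Int.even_or_odd k with ⟨j, rfl⟩ | ⟨j, rfl⟩
    · left; show t ^ (j + j) = 1
      rw [← two_mul, zpow_mul, zpow_two, ht2, one_zpow]
    · right; show t ^ (2 * j + 1) = t
      rw [zpow_add, zpow_mul, zpow_two, ht2, one_zpow, one_mul, zpow_one]
  have hsq : ∀ x ∈ D, x * x = 1 := fun x hx => Cfsg.Agent.Invol.mul_self_of_orderOf_two (hinv x hx)
  have hde := himg.2 _ ⟨d, hd, rfl⟩ _ ⟨e, he, rfl⟩
  rw [← QuotientGroup.mk_mul, ← QuotientGroup.mk_pow, ← QuotientGroup.mk_pow, QuotientGroup.eq_one_iff,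
    QuotientGroup.eq_one_iff] at hde
  rcases hde with h | h <;> rcases hmem _ h with h1 | h1
  · exact Or.inl h1
  · -- `e` is conjugated by `d` to `e t`
    exfalso
    refine hDt e he ?_
    have h2 := hconj d e he
    have e2 : d * e * d⁻¹ = t * e := by
      rw [Cfsg.Agent.Invol.inv_of_orderOf_two (hinv d hd), ← h1, sq]
      calc d * e * d = d * e * d * (e * e) := by rw [hsq e he, mul_one]
        _ = d * e * (d * e) * e := by group
    rw [e2, ← htc e] at h2
    exact h2
  · exact Or.inr h1
  · exfalso
    refine hDt e he ?_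
    have h2 := hconj (e * d) _ (show d ∈ D from hd)
    have e2 : e * d * d * (e * d)⁻¹ = e * d * e := by
      rw [mul_inv_rev, Cfsg.Agent.Invol.inv_of_orderOf_two (hinv d hd), Cfsg.Agent.Invol.inv_of_orderOf_two (hinv e he)]
      calc e * d * d * (d * e) = e * d * (d * d) * e := by group
        _ = e * d * e := by rw [hsq d hd, mul_one]
    rw [e2] at h2
    have h3 := hconj d _ h2
    have e3 : d * (e * d * e) * d⁻¹ = t * e := by
      rw [Cfsg.Agent.Invol.inv_of_orderOf_two (hinv d hd), ← h1]
      calc d * (e * d * e) * d = d * (e * d * e) * d * (e * e) := by rw [hsq e he, mul_one]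
        _ = (d * e) ^ 3 * e := by rw [pow_succ, sq]; group
    rw [e3, ← htc e] at h3
    exact h3

end Cfsg.Agent.S5364
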