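import Cfsg.Statements.S5387
import Cfsg.Agent.Lib.CoverL34.Main
-- import your own Cfsg.Agent.* helpers here

set_option autoImplicit false
open Cfsg

namespace Cfsg.Agent.S5387

open scoped commutatorElement

/-- A surjection of groups onto `Z`-cosets from a perfect group is onto. -/
theorem eq_top_of_sup_center {L : Type*} [Group L] (hL : commutator L = ⊤) (R : Subgroup L)
    (h : ∀ x : L, ∃ r ∈ R, r⁻¹ * x ∈ Subgroup.center L) : R = ⊤ := by
  rw [eq_top_iff, ← hL, commutator_def, Subgroup.commutator_le]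
  intro x _ y _
  obtain ⟨a, ha, hza⟩ := h x
  obtain ⟨b, hb, hzb⟩ := h y
  obtain ⟨u, hu⟩ : ∃ u, a⁻¹ * x = u := ⟨_, rfl⟩
  obtain ⟨v, hv⟩ : ∃ v, b⁻¹ * y = v := ⟨_, rfl⟩
  rw [hu] at hza
  rw [hv] at hzb
  have hx : x = a * u := by rw [← hu]; group
  have hy : y = b * v := by rw [← hv]; group
  have cu := fun g => Subgroup.mem_center_iff.1 hza g
  have cv := fun g => Subgroup.mem_center_iff.1 hzb g
  have : ⁅x, y⁆ = ⁅a, b⁆ := by
    subst hx hy
    simp only [commutatorElement_def, mul_inv_rev]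
    calc a * u * (b * v) * (u⁻¹ * a⁻¹) * (v⁻¹ * b⁻¹)
        = a * u * b * (v * (u⁻¹ * a⁻¹)) * v⁻¹ * b⁻¹ := by group
      _ = a * u * b * ((u⁻¹ * a⁻¹) * v) * v⁻¹ * b⁻¹ := by rw [← cv]
      _ = a * (u * b) * u⁻¹ * a⁻¹ * b⁻¹ := by group
      _ = a * (b * u) * u⁻¹ * a⁻¹ * b⁻¹ := by rw [← cu]
      _ = a * b * a⁻¹ * b⁻¹ := by group
  rw [this, commutatorElement_def]
  exact mul_mem (mul_mem (mul_mem ha hb) (inv_mem ha)) (inv_mem hb)


/-- Up to isomorphism there is at most one quasisimple group whose centre is elementary abelian of order 4 and whose central quotient is isomorphic to the projective special linear group of dimension 3 over the field with four elements: any two such groups are isomorphic. -/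
theorem result {L₁ L₂ : Type*} [Group L₁] [Finite L₁] [Group L₂] [Finite L₂] (F : Type) [Field F] [Fintype F] (hF : Fintype.card F = 4) (h₁ : Cfsg.IsQuasisimple L₁) (h₂ : Cfsg.IsQuasisimple L₂) (hc₁ : Nat.card (Subgroup.center L₁) = 4) (hc₂ : Nat.card (Subgroup.center L₂) = 4) (he₁ : ∀ x ∈ Subgroup.center L₁, x * x = 1) (he₂ : ∀ x ∈ Subgroup.center L₂, x * x = 1) (e₁ : L₁ ⧸ Subgroup.center L₁ ≃* Matrix.ProjectiveSpecialLinearGroup (Fin 3) F) (e₂ : L₂ ⧸ Subgroup.center L₂ ≃* Matrix.ProjectiveSpecialLinearGroup (Fin 3) F) : Nonempty (L₁ ≃* L₂) := by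
  classical
  have hp₁ : commutator L₁ = ⊤ := by rw [commutator_def]; exact h₁.1.commutator_eq_top
  have hp₂ : commutator L₂ = ⊤ := by rw [commutator_def]; exact h₂.1.commutator_eq_top
  let π₁ : L₁ →* Matrix.ProjectiveSpecialLinearGroup (Fin 3) F :=
    e₁.toMonoidHom.comp (QuotientGroup.mk' (Subgroup.center L₁))
  let π₂ : L₂ →* Matrix.ProjectiveSpecialLinearGroup (Fin 3) F :=
    e₂.toMonoidHom.comp (QuotientGroup.mk' (Subgroup.center L₂))
  have hs₁ : Function.Surjective π₁ :=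
    e₁.surjective.comp (QuotientGroup.mk'_surjective _)
  have hs₂ : Function.Surjective π₂ :=
    e₂.surjective.comp (QuotientGroup.mk'_surjective _)
  have hk₁ : ∀ x, π₁ x = 1 ↔ x ∈ Subgroup.center L₁ := fun x => by
    show e₁ (QuotientGroup.mk' (Subgroup.center L₁) x) = 1 ↔ _
    rw [MulEquiv.map_eq_one_iff, QuotientGroup.mk'_apply, QuotientGroup.eq_one_iff]
  have hk₂ : ∀ x, π₂ x = 1 ↔ x ∈ Subgroup.center L₂ := fun x => by
    show e₂ (QuotientGroup.mk' (Subgroup.center L₂) x) = 1 ↔ _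
    rw [MulEquiv.map_eq_one_iff, QuotientGroup.mk'_apply, QuotientGroup.eq_one_iff]
  have hpG : commutator (Matrix.ProjectiveSpecialLinearGroup (Fin 3) F) = ⊤ := by
    have h := Subgroup.map_commutator (⊤ : Subgroup L₁) ⊤ π₁
    rw [Subgroup.map_top_of_surjective _ hs₁, ← commutator_def, ← commutator_def, hp₁,
      Subgroup.map_top_of_surjective _ hs₁] at h
    exact h.symm
  -- minimal subgroup of the fibre product covering the quotient
  let σ : Set (Subgroup (L₁ × L₂)) := {R | (∀ r ∈ R, π₁ r.1 = π₂ r.2) ∧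
    ∀ g, ∃ r ∈ R, π₁ r.1 = g}
  let P : Subgroup (L₁ × L₂) :=
    { carrier := {r | π₁ r.1 = π₂ r.2}
      one_mem' := by simp
      mul_mem' := fun {a b} (ha : π₁ a.1 = π₂ a.2) (hb : π₁ b.1 = π₂ b.2) => by
        show π₁ (a * b).1 = π₂ (a * b).2
        rw [Prod.fst_mul, Prod.snd_mul, map_mul, map_mul, ha, hb]
      inv_mem' := fun {a} (ha : π₁ a.1 = π₂ a.2) => by
        show π₁ a⁻¹.1 = π₂ a⁻¹.2
        rw [Prod.fst_inv, Prod.snd_inv, map_inv, map_inv, ha] }
  have hne : σ.Nonempty := ⟨P, fun r hr => hr, fun g => by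
    obtain ⟨a, ha⟩ := hs₁ g
    obtain ⟨b, hb⟩ := hs₂ g
    exact ⟨(a, b), (ha.trans hb.symm : π₁ a = π₂ b), ha⟩⟩
  obtain ⟨R, hR⟩ := (Set.toFinite σ).exists_minimal hne
  obtain ⟨⟨hRP, hRs⟩, hmin⟩ := hR
  let ρ : R →* Matrix.ProjectiveSpecialLinearGroup (Fin 3) F :=
    (π₁.comp (MonoidHom.fst L₁ L₂)).comp R.subtype
  have hρ : ∀ r : R, ρ r = π₁ (r : L₁ × L₂).1 := fun _ => rfl
  have hρs : Function.Surjective ρ := fun g => by
    obtain ⟨r, hr, h⟩ := hRs g
    exact ⟨⟨r, hr⟩, h⟩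
  have hperf : commutator R = ⊤ := by
    let R' : Subgroup (L₁ × L₂) := (commutator R).map R.subtype
    have hle : R' ≤ R := Subgroup.map_subtype_le _
    have hmem : R' ∈ σ := by
      refine ⟨fun r hr => hRP r (hle hr), fun g => ?_⟩
      have hg : g ∈ (commutator R).map ρ := by
        rw [commutator_def, Subgroup.map_commutator, Subgroup.map_top_of_surjective _ hρs,
          ← commutator_def, hpG]
        trivial
      obtain ⟨r, hr, rfl⟩ := hg
      exact ⟨r, Subgroup.mem_map_of_mem _ hr, rfl⟩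
    have heq : R' = R := le_antisymm hle (hmin hmem hle)
    apply Subgroup.map_injective R.subtype_injective
    rw [← MonoidHom.range_eq_map, R.range_subtype]
    exact heq
  have hkerc : ∀ r : R, ρ r = 1 →
      (r : L₁ × L₂).1 ∈ Subgroup.center L₁ ∧ (r : L₁ × L₂).2 ∈ Subgroup.center L₂ := by
    intro r hr
    refine ⟨(hk₁ _).1 hr, (hk₂ _).1 ?_⟩
    rw [← hRP _ r.2]
    exact hr
  have hc : ρ.ker ≤ Subgroup.center R := fun r hr => by
    obtain ⟨a, b⟩ := hkerc r (MonoidHom.mem_ker.1 hr)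
    rw [Subgroup.mem_center_iff]
    intro x
    exact Subtype.ext (Prod.ext (Subgroup.mem_center_iff.1 a _) (Subgroup.mem_center_iff.1 b _))
  have h2 : ∀ v ∈ ρ.ker, v * v = 1 := fun v hv => by
    obtain ⟨a, b⟩ := hkerc v (MonoidHom.mem_ker.1 hv)
    exact Subtype.ext (Prod.ext (he₁ _ a) (he₂ _ b))
  have hle4 := Cfsg.Agent.CoverL34.card_ker_le hF ρ hρs hc h2 hperf
  let p₁ : R →* L₁ := (MonoidHom.fst L₁ L₂).comp R.subtype
  let p₂ : R →* L₂ := (MonoidHom.snd L₁ L₂).comp R.subtype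
  have hps₁ : Function.Surjective p₁ := by
    rw [← MonoidHom.range_eq_top]
    apply eq_top_of_sup_center hp₁
    intro x
    obtain ⟨r, hr⟩ := hρs (π₁ x)
    refine ⟨p₁ r, ⟨r, rfl⟩, (hk₁ _).1 ?_⟩
    rw [map_mul, map_inv, ← hr]
    exact inv_mul_cancel (ρ r)
  have hps₂ : Function.Surjective p₂ := by
    rw [← MonoidHom.range_eq_top]
    apply eq_top_of_sup_center hp₂
    intro x
    obtain ⟨r, hr⟩ := hρs (π₂ x)
    refine ⟨p₂ r, ⟨r, rfl⟩, (hk₂ _).1 ?_⟩
    rw [map_mul, map_inv, ← hr, hρ, hRP _ r.2]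
    exact inv_mul_cancel (π₂ (p₂ r))
  have hcard : Nat.card R ≤
      Nat.card (Matrix.ProjectiveSpecialLinearGroup (Fin 3) F) * 4 := by
    rw [Subgroup.card_eq_card_quotient_mul_card_subgroup ρ.ker,
      Nat.card_congr (QuotientGroup.quotientKerEquivOfSurjective ρ hρs).toEquiv]
    exact Nat.mul_le_mul_left _ hle4
  have b₁ : Function.Bijective p₁ := hps₁.bijective_of_nat_card_le <| by
    rwa [Subgroup.card_eq_card_quotient_mul_card_subgroup (Subgroup.center L₁), hc₁,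
      Nat.card_congr e₁.toEquiv]
  have b₂ : Function.Bijective p₂ := hps₂.bijective_of_nat_card_le <| by
    rwa [Subgroup.card_eq_card_quotient_mul_card_subgroup (Subgroup.center L₂), hc₂,
      Nat.card_congr e₂.toEquiv]
  exact ⟨(MulEquiv.ofBijective p₁ b₁).symm.trans (MulEquiv.ofBijective p₂ b₂)⟩

end Cfsg.Agent.S5387
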