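import Cfsg.Statements.S5393
import Cfsg.Agent.Lib.Golay.Modules
-- import your own Cfsg.Agent.* helpers here

set_option autoImplicit false
open Cfsg

namespace Cfsg.Agent.S5393

/-- The length-24 code built from the squares modulo 23 contains the all-ones word, and the code modulo the all-ones word is an irreducible module over the field with two elements for the code's automorphism group: a subspace of the code that contains the all-ones word and is invariant under every coordinate permutation preserving the code is either the span of the all-ones word or the whole code. -/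
theorem result : (fun _ : Cfsg.GolayPt => (1 : ZMod 2)) ∈ Cfsg.golayCode ∧ ∀ W : Submodule (ZMod 2) (Cfsg.GolayPt → ZMod 2), (fun _ => (1 : ZMod 2)) ∈ W → W ≤ Cfsg.golayCode → (∀ σ ∈ Cfsg.M24, ∀ w ∈ W, (fun p => w (σ.symm p)) ∈ W) → W = Submodule.span (ZMod 2) {fun _ => (1 : ZMod 2)} ∨ W = Cfsg.golayCode := by
  have h1 : (fun _ : Cfsg.GolayPt => (1 : ZMod 2)) ∈ Cfsg.golayCode := by
    have := (Golay24.wordOf_mem_iff (m := 16777215) (by norm_num)).2
      ((Golay24.mem_codeList_iff_inCode (by norm_num)).2 (by decide +kernel))
    rwa [Golay24.wordOf_full] at this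
  refine ⟨h1, fun W hmem hle hst => ?_⟩
  by_cases hex : ∃ w ∈ W, w ≠ 0 ∧ w ≠ 1
  · obtain ⟨w, hw, h0, hne⟩ := hex
    exact Or.inr (le_antisymm hle (Golay24.code_le_of_mem hst hw (hle hw) h0 hne))
  push Not at hex
  refine Or.inl (le_antisymm (fun w hw => ?_) ((Submodule.span_singleton_le_iff_mem _ _).2 hmem))
  by_cases h0 : w = 0
  · rw [h0]; exact Submodule.zero_mem _
  · rw [hex w hw h0]; exact Submodule.mem_span_singleton_self _

end Cfsg.Agent.S5393
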