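import Cfsg.Statements.S5394
import Cfsg.Agent.Lib.Golay.Classes
-- import your own Cfsg.Agent.* helpers here

set_option autoImplicit false
open Cfsg
open scoped Pointwise

namespace Cfsg.Agent.S5394

/-- The automorphism group of the length-24 code built from the squares modulo 23 has exactly two conjugacy classes of involutions: an involution either fixes exactly the eight points of an octad or has no fixed points, both kinds occur, and any two involutions of the same kind are conjugate in the group. -/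
theorem result : (∀ g ∈ Cfsg.M24, orderOf g = 2 → (Finset.univ.filter fun p => g p = p) ∈ Cfsg.octads ∨ ∀ p, g p ≠ p) ∧ (∃ g ∈ Cfsg.M24, orderOf g = 2 ∧ (Finset.univ.filter fun p => g p = p) ∈ Cfsg.octads) ∧ (∃ g ∈ Cfsg.M24, orderOf g = 2 ∧ ∀ p, g p ≠ p) ∧ ∀ g ∈ Cfsg.M24, ∀ h ∈ Cfsg.M24, orderOf g = 2 → orderOf h = 2 → ((∀ p, g p ≠ p) ↔ (∀ p, h p ≠ p)) → ∃ k ∈ Cfsg.M24, k * g * k⁻¹ = h := by
  have hcount : ∀ g, Golay24.fixCount g = (Finset.univ.filter fun p => g p = p).card := fun g => rfl
  have h8rep : (Finset.univ.filter fun p => Golay24.toPerm Golay24.invEight p = p) ∈ Cfsg.octads := by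
    have hv : Golay24.validP Golay24.invEight = true := by decide +kernel
    have e : (Finset.univ.filter fun p => Golay24.toPerm Golay24.invEight p = p) =
        Finset.univ.filter fun x : Cfsg.GolayPt =>
          Golay24.app Golay24.invEight (Golay24.idx x) = (Golay24.idx x : ℕ) :=
      Finset.filter_congr fun x _ => by
        rw [← Golay24.idx_toPerm hv, ← Fin.ext_iff, Golay24.idx_inj]
    rw [e, Golay24.mem_octads_iff]
    decide +kernel
  refine ⟨fun g hg h2 => ?_, ⟨_, Golay24.invEight_spec.1, Golay24.invEight_spec.2.1, h8rep⟩,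
    ⟨_, Golay24.invNone_spec.1, Golay24.invNone_spec.2.1,
      (Golay24.fixCount_eq_zero_iff _).1 Golay24.invNone_spec.2.2⟩,
    fun g hg h hh hg2 hh2 hiff => ?_⟩
  · rcases Golay24.involution_fix hg h2 with hf | hf
    · left
      obtain ⟨k, hk, hc⟩ := Golay24.conj_eight hg h2 hf
      have e : (Finset.univ.filter fun p => g p = p) =
          k⁻¹ • (Finset.univ.filter fun p => Golay24.toPerm Golay24.invEight p = p) := by
        ext p
        rw [Finset.mem_inv_smul_finset_iff]
        simp [← hc]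
      rw [e]
      exact Golay24.smul_mem_octads (Cfsg.M24.inv_mem hk) h8rep
    · exact Or.inr ((Golay24.fixCount_eq_zero_iff g).1 hf)
  · rw [← Golay24.fixCount_eq_zero_iff, ← Golay24.fixCount_eq_zero_iff] at hiff
    obtain ⟨k, hk, r, hkr, k', hk', hkr'⟩ : ∃ k ∈ Cfsg.M24, ∃ r, k * g * k⁻¹ = r ∧
        ∃ k' ∈ Cfsg.M24, k' * h * k'⁻¹ = r := by
      rcases Golay24.involution_fix hg hg2 with hf | hf
      · obtain ⟨k, hk, hc⟩ := Golay24.conj_eight hg hg2 hf
        have hf' : Golay24.fixCount h = 8 :=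
          (Golay24.involution_fix hh hh2).resolve_right fun e => by
            rw [hiff.2 e] at hf; omega
        obtain ⟨k', hk', hc'⟩ := Golay24.conj_eight hh hh2 hf'
        exact ⟨k, hk, _, hc, k', hk', hc'⟩
      · obtain ⟨k, hk, hc⟩ := Golay24.conj_none hg hg2 hf
        obtain ⟨k', hk', hc'⟩ := Golay24.conj_none hh hh2 (hiff.1 hf)
        exact ⟨k, hk, _, hc, k', hk', hc'⟩
    refine ⟨k'⁻¹ * k, Cfsg.M24.mul_mem (Cfsg.M24.inv_mem hk') hk, ?_⟩
    calc k'⁻¹ * k * g * (k'⁻¹ * k)⁻¹ = k'⁻¹ * (k * g * k⁻¹) * k' := by group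
      _ = h := by rw [hkr, ← hkr']; group

end Cfsg.Agent.S5394
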