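import Cfsg.Statements.S5395
import Cfsg.Agent.Lib.Invol.ExtraspecialClass
-- import your own Cfsg.Agent.* helpers here

set_option autoImplicit false
open Cfsg

namespace Cfsg.Agent.S5395

open Subgroup Invol.ExtraPairs
open scoped commutatorElement

universe u

/-- Every homomorphism to the centre trivial on the centre is a commutator map. -/
theorem exists_comm_map : ∀ (n : ℕ) (E : Type u) [Group E] [Finite E] (z : E), Pre 2 E z → Nat.card E ≤ n →
    ∀ δ : E → E, (∀ x, δ x ∈ zpowers z) → (∀ x y, δ (x * y) = δ x * δ y) → δ z = 1 →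
      ∃ g : E, ∀ x, ⁅g, x⁆ = δ x := by
  haveI : Fact (Nat.Prime 2) := ⟨Nat.prime_two⟩
  intro n
  induction n with
  | zero => intro E _ _ z _ hn; have := Nat.card_pos (α := E); omega
  | succ n ih =>
    intro E _ _ z h hn δ hδ hmul hz
    have h1 : δ 1 = 1 := by
      have := hmul 1 1
      rwa [one_mul, eq_comm, mul_eq_left] at this
    have hpow : ∀ (x : E) (i : ℕ), δ (x ^ i) = δ x ^ i := by
      intro x i
      induction i with
      | zero => simp [h1]
      | succ i ih' => rw [pow_succ, hmul, ih', pow_succ]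
    by_cases hE : Nat.card E = 2
    · refine ⟨1, fun x => ?_⟩
      have hx : x ∈ zpowers z := by rw [← h.center_eq, h.center_eq_top_iff.2 hE]; exact mem_top x
      obtain ⟨i, -, rfl⟩ := h.exists_pow hx
      rw [commutatorElement_one_left, hpow, hz, one_pow]
    obtain ⟨x, hx⟩ := h.exists_noncentral hE
    obtain ⟨y, hxy⟩ := h.exists_pair hx
    have hcard := h.card_eq hxy
    have hpos : 0 < Nat.card (Pre.rest x y) := Nat.card_pos
    let δ' : Pre.rest x y → Pre.rest x y := fun c => ⟨δ c, zpowers_le.2 (h.z_mem_rest x y) (hδ c)⟩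
    obtain ⟨g', hg'⟩ := ih (Pre.rest x y) _ (h.pre_rest hxy) (by omega) δ'
      (fun c => by
        obtain ⟨i, hi⟩ := hδ c
        exact ⟨i, Subtype.ext (by simpa [δ'] using hi)⟩)
      (fun c d => Subtype.ext (hmul c d)) (Subtype.ext hz)
    obtain ⟨a, -, ha⟩ := h.exists_pow (hδ y)
    obtain ⟨b, -, hb⟩ := h.exists_pow (hδ x)
    refine ⟨x ^ a * y ^ b * g', fun e => ?_⟩
    obtain ⟨he1, he2⟩ := h.comm_eval hxy a b g'.2
    have hgx : ⁅x ^ a * y ^ b * (g' : E), x⁆ = δ x := by
      rw [← commutatorElement_inv, he2, ← hb, inv_eq_iff_mul_eq_one, ← pow_add, ← two_mul]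
      exact Invol.ExtraspecialClass.zeven h b
    have hgy : ⁅x ^ a * y ^ b * (g' : E), y⁆ = δ y := he1.trans ha
    have hgc : ∀ c : Pre.rest x y, ⁅x ^ a * y ^ b * (g' : E), (c : E)⁆ = δ c := by
      intro c
      obtain ⟨hc1, hc2⟩ := Pre.mem_rest.1 c.2
      rw [h.comm_mul_left, h.comm_mul_left, h.comm_pow_left, h.comm_pow_left,
        commutatorElement_eq_one_iff_mul_comm.2 hc1.eq.symm, commutatorElement_eq_one_iff_mul_comm.2 hc2.eq.symm,
        one_pow, one_pow, one_mul, one_mul]
      have := congrArg Subtype.val (hg' c)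
      simpa [commutatorElement_def, δ'] using this
    obtain ⟨i, j, c, rfl⟩ := h.decomp hxy e
    rw [h.comm_mul_right, h.comm_mul_right, h.comm_pow_right, h.comm_pow_right, hgx, hgy, hgc, hmul, hmul,
      hpow, hpow]

/-- For a finite extraspecial 2-group E, an automorphism of E that induces the identity on E modulo its centre is inner (so these automorphisms form exactly the inner automorphism group, an elementary abelian 2-group of order |E|/2). -/
theorem result {E : Type*} [Group E] [Finite E] (hE : Cfsg.IsExtraspecial 2 E) (φ : E ≃* E) (hφ : ∀ x : E, φ x * x⁻¹ ∈ Subgroup.center E) : ∃ g : E, ∀ x : E, φ x = g * x * g⁻¹ := by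
  haveI : Fact (Nat.Prime 2) := ⟨Nat.prime_two⟩
  obtain ⟨z, h⟩ := pre_of_extraspecial hE
  have hzc : z ∈ center E := by rw [h.center_eq]; exact mem_zpowers z
  have hφz : φ z = z := by
    have hz' : φ z ∈ center E := mem_center_iff.2 fun g => φ.symm.injective (by
      simp only [map_mul, MulEquiv.symm_apply_apply]; exact mem_center_iff.1 hzc _)
    rw [h.center_eq] at hz'
    obtain ⟨i, hi, hi'⟩ := h.exists_pow hz'
    obtain rfl | rfl : i = 0 ∨ i = 1 := by omega
    · rw [pow_zero] at hi'
      exact absurd (φ.injective (hi'.symm.trans (map_one φ).symm)) (Invol.ExtraspecialClass.z_ne h)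
    · rw [← hi', pow_one]
  obtain ⟨g, hg⟩ := exists_comm_map (Nat.card E) E z h le_rfl (fun x => φ x * x⁻¹)
    (fun x => h.center_eq ▸ hφ x) (fun x y => by
      rw [map_mul]
      calc φ x * φ y * (x * y)⁻¹ = φ x * ((φ y * y⁻¹) * x⁻¹) := by group
        _ = φ x * (x⁻¹ * (φ y * y⁻¹)) := by rw [← mem_center_iff.1 (hφ y) x⁻¹]
        _ = φ x * x⁻¹ * (φ y * y⁻¹) := by group) (by rw [hφz, mul_inv_cancel])
  refine ⟨g, fun x => ?_⟩
  have := hg x
  rw [commutatorElement_def] at this
  exact mul_right_cancel this.symm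

end Cfsg.Agent.S5395
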