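import Cfsg.Statements.S5396
import Cfsg.Agent.Lib.Invol.ExtraspecialModel
-- import your own Cfsg.Agent.* helpers here

set_option autoImplicit false
open Cfsg

namespace Cfsg.Agent.S5396

open Invol.ExtraspecialModel

theorem sup_eq {E : Type} [Group E] [Finite E] {r : ℕ} (hle : PRankLE 2 r E)
    (hA : ∃ A : Subgroup E, IsElementaryAbelian 2 A ∧ Nat.card A = 2 ^ r) :
    sSup {k : ℕ | ∃ A : Subgroup E, Cfsg.IsElementaryAbelian 2 A ∧ Nat.card A = 2 ^ k} = r := by
  refine IsGreatest.csSup_eq ⟨hA, ?_⟩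
  rintro k ⟨A, hA', hk⟩
  have := hle A hA'.1 hA'.2
  rwa [hk, Nat.pow_le_pow_iff_right (by norm_num)] at this

/-- For every n ≥ 1 there exist finite extraspecial 2-groups of order 2^(2n+1) whose 2-rank (the largest rank of an elementary abelian subgroup) is n, and ones whose 2-rank is n + 1 (so for each such order there are two non-isomorphic extraspecial 2-groups, told apart by their 2-rank). -/
theorem result (n : ℕ) (hn : 1 ≤ n) : ∀ r ∈ ({n, n + 1} : Set ℕ), ∃ (E : Type) (_ : Group E) (_ : Finite E), Cfsg.IsExtraspecial 2 E ∧ Nat.card E = 2 ^ (2 * n + 1) ∧ sSup {k : ℕ | ∃ A : Subgroup E, Cfsg.IsElementaryAbelian 2 A ∧ Nat.card A = 2 ^ k} = r := by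
  obtain ⟨k, rfl⟩ : ∃ k, n = k + 1 := ⟨n - 1, by omega⟩
  intro r hr
  rcases hr with rfl | rfl
  · refine ⟨Tw k 1, inferInstance, inferInstance, Tw.extraspecial, Tw.card, ?_⟩
    obtain ⟨m, hm1, hm, hcases⟩ := Invol.ExtraspecialClass.rank_cases (Tw.extraspecial (k := k) (ε := 1))
    have hmk : m = k + 1 := by
      have := Nat.pow_right_injective le_rfl (hm.symm.trans Tw.card); omega
    subst hmk
    rcases hcases with ⟨a, -⟩ | ⟨-, hle, hA⟩
    · have := Tw.cnt_minus (k := k)
      have : 0 < 2 ^ (k + 1) := by positivity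
      omega
    · exact sup_eq hle hA
  · refine ⟨Tw k 0, inferInstance, inferInstance, Tw.extraspecial, Tw.card, sup_eq ?_ Tw.exists_plus⟩
    exact fun A hA _ => Invol.ExtraspecialClass.elementary_le Tw.extraspecial Tw.card A hA

end Cfsg.Agent.S5396
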