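import Cfsg.Statements.S5410
import Cfsg.Agent.Lib.Monster.Results

set_option autoImplicit false
open Cfsg

namespace Cfsg.Agent.S5410

/-- Let G be a finite group of Monster type at the involution z with Q the extraspecial normal subgroup of order 2^25 of C = C_G(z) (so C/Q is identified with the first Conway group with Q modulo its centre the Leech lattice modulo 2, and z is not weakly closed in Q). Let g in G with s = g z g⁻¹ a member of Q other than z, let X be the image in C/Q of the centralizer of s in C, and let E be the image in C/Q of the intersection of g Q g⁻¹ with C. Then E is a normal subgroup of X, elementary abelian of order 2^11, and it has a complement in X isomorphic to the Mathieu group of degree 24 (the automorphism group of the length-24 binary Golay code). -/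
theorem result {G : Type*} [Group G] [Finite G] (z : G) (Q : Subgroup (Subgroup.centralizer ({z} : Set G))) [Q.Normal] (hM : Cfsg.IsOfMonsterType z Q) (s : G) (hsQ : ∃ hsc : s ∈ Subgroup.centralizer ({z} : Set G), (⟨s, hsc⟩ : Subgroup.centralizer ({z} : Set G)) ∈ Q) (hs : IsConj z s) (hs1 : s ≠ z) (g : G) (hg : g * z * g⁻¹ = s) (X E : Subgroup ((Subgroup.centralizer ({z} : Set G)) ⧸ Q)) (hX : X = ((Subgroup.centralizer ({z} : Set G) ⊓ Subgroup.centralizer ({s} : Set G)).subgroupOf (Subgroup.centralizer ({z} : Set G))).map (QuotientGroup.mk' Q)) (hE : E = (((Q.map (Subgroup.centralizer ({z} : Set G)).subtype).map (MulAut.conj g).toMonoidHom ⊓ Subgroup.centralizer ({z} : Set G)).subgroupOf (Subgroup.centralizer ({z} : Set G))).map (QuotientGroup.mk' Q)) : E ≤ X ∧ (∀ x ∈ X, ∀ y ∈ E, x * y * x⁻¹ ∈ E) ∧ Cfsg.IsElementaryAbelian 2 E ∧ Nat.card E = 2 ^ 11 ∧ ∃ K : Subgroup ((Subgroup.centralizer ({z} : Set G)) ⧸ Q), K ≤ X ∧ E ⊓ K = ⊥ ∧ E ⊔ K = X ∧ Nonempty (K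 ≃* Cfsg.M24) := by
  obtain ⟨hcore, e, ψ, hψ⟩ := hM
  have D : Cfsg.Agent.Monster.Data Q e ψ := ⟨hcore, hψ⟩
  obtain ⟨hsc, hsm⟩ := hsQ
  obtain ⟨π, hker, hX', hE'⟩ := D.quotient_structure (a := ⟨_, hsm⟩) hg hs1
  have hXe : X = Cfsg.Agent.Leech.frame.map π := by rw [hX]; exact hX'
  have hEe : E = Cfsg.Agent.Leech.signs.map π := by rw [hE]; exact hE'
  subst hXe hEe
  refine ⟨Subgroup.map_mono Cfsg.Agent.Leech.signs_le_frame, ?_, ⟨⟨⟨?_⟩⟩, ?_⟩, ?_,
    (Cfsg.Agent.Leech.permHom.range).map π, ?_, ?_, ?_, ?_⟩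
  · rintro _ ⟨x, hx, rfl⟩ _ ⟨y, hy, rfl⟩
    rw [← map_inv, ← map_mul, ← map_mul]
    exact Subgroup.mem_map_of_mem _ (Cfsg.Agent.Leech.signs_normalized hx hy)
  · rintro ⟨_, _, ⟨u, rfl⟩, rfl⟩ ⟨_, _, ⟨w, rfl⟩, rfl⟩
    refine Subtype.ext ?_
    show π _ * π _ = π _ * π _
    rw [← map_mul, ← map_mul, ← map_mul, ← map_mul, mul_comm]
  · rintro _ ⟨_, ⟨u, rfl⟩, rfl⟩
    rw [← map_pow, ← map_pow]
    have : u ^ 2 = 1 := by
      apply Multiplicative.toAdd.injective
      rw [pow_two]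
      exact ZModModule.add_self (Multiplicative.toAdd u)
    rw [this, map_one, map_one]
  · haveI := Cfsg.Agent.Monster.Data.finite_Co0 (Q := Q) e
    have h1 := Cfsg.Agent.Monster.card_map_mul π Cfsg.Agent.Leech.signs
    have h2 := Cfsg.Agent.Monster.card_map_mul (QuotientGroup.mk' (Subgroup.center ↥Cfsg.Co0)) Cfsg.Agent.Leech.signs
      (A := ↥Cfsg.Co0)
    rw [hker] at h1
    rw [QuotientGroup.ker_mk', Cfsg.Agent.Leech.signs_card_mod_center] at h2
    exact Nat.eq_of_mul_eq_mul_right Nat.card_pos (h1.trans h2.symm)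
  · refine Subgroup.map_mono ?_
    rw [Cfsg.Agent.Monster.frame_eq_signs_sup]
    exact le_sup_right
  · refine eq_bot_iff.2 ?_
    rintro _ ⟨⟨s', hs', rfl⟩, ⟨_, ⟨σ, rfl⟩, hσ⟩⟩
    have hc : (s')⁻¹ * Cfsg.Agent.Leech.permHom σ ∈ Subgroup.center ↥Cfsg.Co0 := by
      rw [← hker, MonoidHom.mem_ker, map_mul, map_inv, hσ, inv_mul_cancel]
    have := Cfsg.Agent.Monster.perm_signs_trivial hs' hc (by rw [mul_inv_cancel_left])
    rw [this, map_one, map_one] at hσ
    rw [Subgroup.mem_bot, ← hσ]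
  · rw [← Subgroup.map_sup, ← Cfsg.Agent.Monster.frame_eq_signs_sup]
  · have hinj : Function.Injective (π.comp Cfsg.Agent.Leech.permHom) := by
      refine (injective_iff_map_eq_one _).2 fun σ hσ => ?_
      refine Cfsg.Agent.Monster.perm_signs_trivial (one_mem _) (?_ : Cfsg.Agent.Leech.permHom σ ∈ _) (one_mul _).symm
      rw [← hker]; exact hσ
    exact ⟨(MulEquiv.subgroupCongr (MonoidHom.map_range π Cfsg.Agent.Leech.permHom)).trans (MonoidHom.ofInjective hinj).symm⟩

end Cfsg.Agent.S5410
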