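import Cfsg.Statements.S5420
import Cfsg.Agent.Lib.Invol.LargeExtra
-- import your own Cfsg.Agent.* helpers here

set_option autoImplicit false
open Cfsg

namespace Cfsg.Agent.S5420

/-- Let Q be an extraspecial 2-subgroup of the finite group G whose centralizer in G is its centre Z and which is normal in the centralizer of Z. If Z lies in the largest normal 2-subgroup of G, then Q is a large extraspecial 2-subgroup of G: it normalizes no non-trivial subgroup of G of odd order. -/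
theorem result {G : Type*} [Group G] [Finite G] (Q : Subgroup G) (hL1 : Cfsg.IsExtraspecial 2 ↥Q) (hL2 : Subgroup.centralizer (Q : Set G) = ((Subgroup.center ↥Q).map Q.subtype)) (hL3 : Subgroup.centralizer (((Subgroup.center ↥Q).map Q.subtype) : Set G) ≤ Subgroup.normalizer (Q : Set G)) (hZ : ((Subgroup.center ↥Q).map Q.subtype) ≤ Cfsg.pCore 2 G) : Cfsg.IsLargeExtraspecial Q := by
  obtain ⟨z, hz2, hzQ, hZeq, hzc, -⟩ := Cfsg.Agent.Invol.LargeExtra.exists_gen hL1
  refine ⟨hL1, hL2, hL3, fun K hK hQK => (Subgroup.eq_bot_iff_forall _).2 fun k hk => ?_⟩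
  haveI := Fact.mk Nat.prime_two
  have hzO : z ∈ Cfsg.pCore 2 G := hZ (hZeq.symm ▸ Subgroup.mem_zpowers z)
  have h1 : z * k * z⁻¹ * k⁻¹ ∈ K := mul_mem ((Subgroup.mem_normalizer_iff.1 (hQK hzQ) k).1 hk) (inv_mem hk)
  have h2 : z * k * z⁻¹ * k⁻¹ ∈ Cfsg.pCore 2 G := by
    rw [mul_assoc, mul_assoc, ← mul_assoc k]
    exact mul_mem hzO ((inferInstance : (Cfsg.pCore 2 G).Normal).conj_mem _ (inv_mem hzO) k)
  have h3 := Cfsg.Agent.Invol.LargeExtra.one_of_odd_of_two hK (Cfsg.Agent.Basics.pCore_isPGroup 2) h1 h2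
  rw [mul_inv_eq_one, mul_inv_eq_iff_eq_mul] at h3
  refine Cfsg.Agent.Invol.LargeExtra.one_of_mem_normalizer hL1 (hL2.trans hZeq) hzQ hK hQK hk (hL3 ?_)
  rw [hZeq, Subgroup.mem_centralizer_iff]
  rintro _ ⟨i, rfl⟩
  exact ((show Commute z k from h3).zpow_left i).eq

end Cfsg.Agent.S5420
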