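import Cfsg.Statements.S5421
import Cfsg.Agent.Lib.Invol.LargeExtra
-- import your own Cfsg.Agent.* helpers here

set_option autoImplicit false
open Cfsg

namespace Cfsg.Agent.S5421

open Subgroup in
open scoped commutatorElement in
theorem inverts_of_fpf {G : Type*} [Group G] [Finite G] {K : Subgroup G} {b : G} (hb : b * b = 1)
    (hbK : b ∈ normalizer (K : Set G)) (hfix : ∀ k ∈ K, b * k * b⁻¹ = k → k = 1) :
    ∀ k ∈ K, b * k * b⁻¹ = k⁻¹ := by
  intro k hk
  let φ : K →* K :=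
    { toFun := fun y => ⟨b * y * b⁻¹, (mem_normalizer_iff.1 hbK y).1 y.2⟩
      map_one' := Subtype.ext (by simp)
      map_mul' := fun x y => Subtype.ext (by simp [mul_assoc]) }
  have hfpf : MonoidHom.FixedPointFree φ := fun c hc => Subtype.ext (hfix c c.2 (congrArg Subtype.val hc))
  have hinv : Function.Involutive φ := fun y => Subtype.ext (by
    show b * (b * (y : G) * b⁻¹) * b⁻¹ = y
    rw [show b * (b * (y : G) * b⁻¹) * b⁻¹ = (b * b) * y * (b * b)⁻¹ by group, hb]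
    simp)
  exact congrArg Subtype.val (congrFun (hfpf.coe_eq_inv_of_involutive hinv) ⟨k, hk⟩)

/-- Let Q be an extraspecial 2-subgroup of the finite group G whose centralizer in G is its centre Z and which is normal in the centralizer of Z. If some involution b of Q outside Z has Z inside the largest normal 2-subgroup of the centralizer of b, then Q is a large extraspecial 2-subgroup of G. -/
theorem result {G : Type*} [Group G] [Finite G] (Q : Subgroup G) (hL1 : Cfsg.IsExtraspecial 2 ↥Q) (hL2 : Subgroup.centralizer (Q : Set G) = ((Subgroup.center ↥Q).map Q.subtype)) (hL3 : Subgroup.centralizer (((Subgroup.center ↥Q).map Q.subtype) : Set G) ≤ Subgroup.normalizer (Q : Set G)) (b : G) (hbQ : b ∈ Q) (hbZ : b ∉ ((Subgroup.center ↥Q).map Q.subtype)) (hb : orderOf b = 2) (hZ : ((Subgroup.center ↥Q).map Q.subtype) ≤ (Cfsg.pCore 2 ↥(Subgroup.centralizer ({b} : Set G))).map (Subgroup.centralizer ({b} : Set G)).subtype) : Cfsg.IsLargeExtraspecial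 Q := by
  haveI := Fact.mk Nat.prime_two
  obtain ⟨z, hz2, hzQ, hZeq, hzc, hpair⟩ := Cfsg.Agent.Invol.LargeExtra.exists_gen hL1
  refine ⟨hL1, hL2, hL3, fun K hK hQK => (Subgroup.eq_bot_iff_forall _).2 ?_⟩
  set C := Subgroup.centralizer ({b} : Set G) with hC
  have hCz : ∀ k ∈ K, Commute z k → k = 1 := fun k hk hc =>
    Cfsg.Agent.Invol.LargeExtra.one_of_mem_normalizer hL1 (hL2.trans hZeq) hzQ hK hQK hk (hL3 (by
      rw [hZeq, Subgroup.mem_centralizer_iff]
      rintro _ ⟨i, rfl⟩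
      exact (hc.zpow_left i).eq))
  have hfix : ∀ k ∈ K, b * k * b⁻¹ = k → k = 1 := by
    intro k hk hbk
    have hkC : k ∈ C := Subgroup.mem_centralizer_singleton_iff.2 (mul_inv_eq_iff_eq_mul.1 hbk).symm
    obtain ⟨z', hz', hz'e⟩ := hZ (hZeq.symm ▸ Subgroup.mem_zpowers z)
    have h1 : z * k * z⁻¹ * k⁻¹ ∈ K := mul_mem ((Subgroup.mem_normalizer_iff.1 (hQK hzQ) k).1 hk) (inv_mem hk)
    have h2 : z * k * z⁻¹ * k⁻¹ ∈ (Cfsg.pCore 2 C).map C.subtype := by
      refine ⟨z' * ⟨k, hkC⟩ * z'⁻¹ * (⟨k, hkC⟩ : C)⁻¹, ?_, by simp [← hz'e]⟩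
      rw [mul_assoc, mul_assoc, ← mul_assoc (⟨k, hkC⟩ : C)]
      exact mul_mem hz' ((inferInstance : (Cfsg.pCore 2 C).Normal).conj_mem _ (inv_mem hz') _)
    have h3 := Cfsg.Agent.Invol.LargeExtra.one_of_odd_of_two hK
      ((Cfsg.Agent.Basics.pCore_isPGroup 2).map C.subtype) h1 h2
    rw [mul_inv_eq_one, mul_inv_eq_iff_eq_mul] at h3
    exact hCz k hk h3
  have hb2 := Cfsg.Agent.Invol.mul_self_of_orderOf_two hb
  obtain ⟨y, hyQ, hy⟩ := hpair b hbQ (fun h => hbZ (hZeq.symm ▸ h))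
  have hzinv : z⁻¹ = z := Cfsg.Agent.Invol.inv_of_orderOf_two hz2
  have hbinv : b⁻¹ = b := Cfsg.Agent.Invol.inv_eq_self_of_mul_self hb2
  have hyb : y * b * y⁻¹ = b * z := by
    rw [commutatorElement_def, hbinv] at hy
    rw [← hy]
    calc y * b * y⁻¹ = (b * b) * (y * b * y⁻¹) := by rw [hb2, one_mul]
      _ = b * (b * y * b * y⁻¹) := by group
  have hbz2 : (b * z) * (b * z) = 1 := by
    rw [(show Commute z b from (hzc b hbQ).symm).mul_mul_mul_comm, hb2,
      Cfsg.Agent.Invol.mul_self_of_orderOf_two hz2, one_mul]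
  have hfix' : ∀ k ∈ K, (b * z) * k * (b * z)⁻¹ = k → k = 1 := by
    intro k hk hbk
    have hy' := (Subgroup.mem_normalizer_iff.1 (hQK (inv_mem hyQ)) k).1 hk
    rw [inv_inv] at hy'
    have h1 := hfix _ hy' (by
      rw [← hyb] at hbk
      calc b * (y⁻¹ * k * y) * b⁻¹ = y⁻¹ * ((y * b * y⁻¹) * k * (y * b * y⁻¹)⁻¹) * y := by group
        _ = y⁻¹ * k * y := by rw [hbk])
    calc k = y * (y⁻¹ * k * y) * y⁻¹ := by group
      _ = 1 := by rw [h1]; simp
  intro k hk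
  have hi1 := inverts_of_fpf hb2 (hQK hbQ) hfix
  have hi2 := inverts_of_fpf hbz2 (hQK (mul_mem hbQ hzQ)) hfix' k hk
  refine hCz k hk (mul_inv_eq_iff_eq_mul.1 ?_)
  have h4 : b * (z * k * z⁻¹) * b⁻¹ = k⁻¹ := by rw [← hi2]; group
  calc z * k * z⁻¹ = (b * b) * (z * k * z⁻¹) * (b * b)⁻¹ := by rw [hb2]; simp
    _ = b * (b * (z * k * z⁻¹) * b⁻¹) * b⁻¹ := by group
    _ = b * k⁻¹ * b⁻¹ := by rw [h4]
    _ = k := by rw [hi1 _ (inv_mem hk), inv_inv]

end Cfsg.Agent.S5421
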