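import Cfsg.Statements.S5422
import Cfsg.Agent.Lib.BigExtra.Radical

set_option autoImplicit false
open Cfsg

namespace Cfsg.Agent.S5422

/-- Let Q be an extraspecial 2-subgroup of the finite group G whose centralizer in G is its centre Z and which is normal in the centralizer of Z; suppose Q has width at least 2 (order 2^(2w+1) with w ≥ 2) and g is an element of G not normalizing Z with g Z g⁻¹ inside Q. Then Z lies inside g Q g⁻¹; writing V for the subgroup generated by Z and g Z g⁻¹ (a four-group), the normalizer of V induces on V its full automorphism group, that is, the centralizer of V has index 6 in the normalizer of V; and Q is a large extraspecial 2-subgroup of G. -/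
theorem result {G : Type*} [Group G] [Finite G] (Q : Subgroup G) (hL1 : Cfsg.IsExtraspecial 2 ↥Q) (hL2 : Subgroup.centralizer (Q : Set G) = ((Subgroup.center ↥Q).map Q.subtype)) (hL3 : Subgroup.centralizer (((Subgroup.center ↥Q).map Q.subtype) : Set G) ≤ Subgroup.normalizer (Q : Set G)) (w : ℕ) (hw : 2 ≤ w) (hcard : Nat.card ↥Q = 2 ^ (2 * w + 1)) (g : G) (hg : g ∉ Subgroup.normalizer (((Subgroup.center ↥Q).map Q.subtype) : Set G)) (hZg : (((Subgroup.center ↥Q).map Q.subtype)).map (MulAut.conj g).toMonoidHom ≤ Q) : ((Subgroup.center ↥Q).map Q.subtype) ≤ (Q).map (MulAut.conj g).toMonoidHom ∧ (Subgroup.centralizer ((((Subgroup.center ↥Q).map Q.subtype) ⊔ (((Subgroup.center ↥Q).map Q.subtype)).map (MulAut.conj g).toMonoidHom : Subgroup G) : Set G)).relIndex (Subgroup.normalizer ((((Subgroup.center ↥Q).map Q.subtype) ⊔ (((Subgroup.center ↥Q).map Q.subtype)).map (MulAut.conj g).toMonoidHom : Subgroup G) : Set G)) = 6 ∧ Cfsg.IsLargeExtraspecial Q := by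
  haveI := Fact.mk Nat.prime_two
  obtain ⟨c, hc⟩ := Cfsg.Agent.Invol.ExtraPairs.pre_of_extraspecial hL1
  have hz : (Subgroup.center ↥Q).map Q.subtype = Subgroup.zpowers (c : G) := by
    rw [hc.center_eq, MonoidHom.map_zpowers]; rfl
  have h := BigExtra.exData_of_center hL1 hz hL2 hL3
  rw [hz] at hg hZg ⊢
  have hgQ : g * c * g⁻¹ ∈ Q := hZg ⟨c, Subgroup.mem_zpowers _, rfl⟩
  have hne : g * c * g⁻¹ ≠ c := fun e => hg (by
    refine Subgroup.centralizer_le_normalizer _ (Subgroup.mem_centralizer_iff.2 ?_)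
    rintro _ ⟨k, rfl⟩
    exact ((show Commute g (c : G) from mul_inv_eq_iff_eq_mul.1 e).zpow_right k).eq.symm)
  have h9 : 9 ≤ Nat.card Q := by
    calc 9 ≤ 2 ^ 5 := by norm_num
      _ ≤ Nat.card Q := by rw [hcard]; exact Nat.pow_le_pow_right (by norm_num) (by omega)
  have d := BigExtra.Four.of_conj h h9 hgQ hne
  refine ⟨Subgroup.zpowers_le.2 d.memQ', ?_, hL1, hL2, hL3, fun K hK hQK =>
    h.odd_eq_bot (IsPGroup.of_card hcard) h9 hgQ hne hK hQK⟩
  have e : Subgroup.zpowers (c : G) ⊔ (Subgroup.zpowers (c : G)).map (MulAut.conj g).toMonoidHom =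
      BigExtra.fourV (c : G) (g * c * g⁻¹) := by
    rw [MonoidHom.map_zpowers, Subgroup.zpowers_eq_closure, Subgroup.zpowers_eq_closure,
      ← Subgroup.closure_union, Set.singleton_union]
    rfl
  rw [e]
  exact d.relIndex_eq

end Cfsg.Agent.S5422
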