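import Cfsg.Statements.S5423
import Cfsg.Agent.Lib.Invol.ElemAut
import Cfsg.Agent.Lib.Invol.ExtraPairs
import Cfsg.Agent.Lib.Monster.ExtraBound
import Cfsg.Agent.Lib.ClassK.Extraspecial
import Cfsg.Agent.Lib.Basics.Cores
-- import your own Cfsg.Agent.* helpers here

set_option autoImplicit false
open Cfsg

namespace Cfsg.Agent.S5423

set_option maxHeartbeats 1000000 in
/-- Let G be a finite group that is the split extension of an elementary abelian normal subgroup U of order 2^(n+1), n ≥ 1, by its full automorphism group: U has a complement M in G whose conjugation action on U is faithful and realizes every automorphism of U. Let Z be a subgroup of U of order 2 and Q the largest normal 2-subgroup of the centralizer C of Z. Then Q is extraspecial of order 2^(2n+1) with an elementary abelian subgroup of order 2^(n+1) (plus type), Q is a large extraspecial 2-subgroup of G, and C is the split extension of Q by the general linear group of degree n over the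 field with two elements. -/
theorem result {G : Type*} [Group G] [Finite G] (n : ℕ) (hn : 1 ≤ n) (U M : Subgroup G) [U.Normal] (hU : Cfsg.IsElementaryAbelian 2 U) (hUcard : Nat.card ↥U = 2 ^ (n + 1)) (hUM : U ⊓ M = ⊥) (hUM' : U ⊔ M = ⊤) (hfaith : ∀ m ∈ M, (∀ u ∈ U, m * u * m⁻¹ = u) → m = 1) (hfull : ∀ φ : ↥U ≃* ↥U, ∃ m ∈ M, ∀ u : ↥U, ((φ u : ↥U) : G) = m * u * m⁻¹) (Z : Subgroup G) (hZU : Z ≤ U) (hZ : Nat.card ↥Z = 2) (Q : Subgroup G) (hQ : Q = (Cfsg.pCore 2 ↥(Subgroup.centralizer (Z : Set G))).map (Subgroup.centralizer (Z : Set G)).subtype) : Cfsg.IsExtraspecial 2 ↥Q ∧ Nat.card ↥Q = 2 ^ (2 * n + 1) ∧ (∃ E : Subgroup G, E ≤ Q ∧ Cfsg.IsElementaryAbelian 2 E ∧ Nat.card ↥E = 2 ^ (n + 1)) ∧ Cfsg.IsLargeExtraspecial Q ∧ ∃ K : Subgroup G, K ≤ Subgroup.centralizer (Z : Set G) ∧ Q ⊓ K = ⊥ ∧ Q ⊔ K = Subgroup.centralizer (Z : Set G) ∧ Nonempty (↥K ≃* Matrix.GeneralLinearGroup (Fin n) (ZMod 2)) := by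
  open Subgroup in
  open scoped commutatorElement in
  classical
  haveI := Fact.mk Nat.prime_two
  haveI hUcomm := hU.1
  have hU2 : ∀ u ∈ U, u * u = 1 := fun u hu => by rw [← pow_two]; exact hU.2 u hu
  letI : CommGroup U :=
    { (inferInstance : Group U) with mul_comm := fun a b => hUcomm.is_comm.comm a b }
  have hUc : ∀ a ∈ U, ∀ b ∈ U, a * b = b * a := fun a ha b hb => congrArg Subtype.val (hUcomm.is_comm.comm (⟨a, ha⟩ : U) ⟨b, hb⟩)
  -- the generator of `Z`
  obtain ⟨⟨z, hzZ⟩, hzord⟩ := exists_prime_orderOf_dvd_card' 2 (dvd_of_eq hZ.symm : 2 ∣ Nat.card Z)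
  rw [Subgroup.orderOf_mk] at hzord
  have hZeq : Z = Subgroup.zpowers z :=
    (Subgroup.eq_of_le_of_card_ge (Subgroup.zpowers_le.2 hzZ) (by rw [Nat.card_zpowers, hzord, hZ])).symm
  have hzU : z ∈ U := hZU hzZ
  have hz2 : z * z = 1 := hU2 z hzU
  have hzne : z ≠ 1 := fun h => by rw [h, orderOf_one] at hzord; omega
  have hmemz : ∀ x, x ∈ Subgroup.zpowers z → x = 1 ∨ x = z := by
    rintro x ⟨k, rfl⟩
    rcases Int.even_or_odd k with ⟨j, rfl⟩ | ⟨j, rfl⟩
    · left; show z ^ (j + j) = 1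
      rw [← two_mul, zpow_mul, zpow_two, hz2, one_zpow]
    · right; show z ^ (2 * j + 1) = z
      rw [zpow_add, zpow_mul, zpow_two, hz2, one_zpow, one_mul, zpow_one]
  set C := Subgroup.centralizer (Z : Set G) with hC
  have hCz : ∀ x, x ∈ C ↔ x * z = z * x := by
    intro x
    rw [hC, hZeq, Subgroup.mem_centralizer_iff]
    constructor
    · intro h; exact (h z (Subgroup.mem_zpowers z)).symm
    · rintro h _ ⟨i, rfl⟩
      exact ((show Commute x z from h).zpow_right i).symm.eq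
  -- the hyperplane complement `W`
  have h2' : ∀ u : U, u * u = 1 := fun u => Subtype.ext (hU2 u u.2)
  set e : U := ⟨z, hzU⟩ with he
  have he1 : e ≠ 1 := fun h => hzne (congrArg Subtype.val h)
  obtain ⟨W, heW, hout, hcardW⟩ := QuadZero.exists_hyperplane h2' he1
  have hWn : Nat.card W = 2 ^ n := by
    rw [hUcard, pow_succ] at hcardW; omega
  have hWpair : ∀ a b : U, a ∉ W → b ∉ W → a * b ∈ W := by
    intro a b ha hb
    have := mul_mem (hout a ha) (hout b hb)
    rwa [mul_mul_mul_comm, h2' e, mul_one] at this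
  let π : U →* W :=
    { toFun := fun u => if h : u ∈ W then ⟨u, h⟩ else ⟨u * e, hout u h⟩
      map_one' := by simp [one_mem]
      map_mul' := fun a b => by
        by_cases ha : a ∈ W <;> by_cases hb : b ∈ W
        · simp [ha, hb, mul_mem ha hb]
        · have : a * b ∉ W := fun h => hb ((W.mul_mem_cancel_left ha).1 h)
          simp [ha, hb, this, mul_assoc]
        · have : a * b ∉ W := fun h => ha ((W.mul_mem_cancel_right hb).1 h)
          simp [ha, hb, this, mul_right_comm]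
        · simp [ha, hb, hWpair a b ha hb]
          rw [mul_mul_mul_comm, h2' e, mul_one] }
  have hπW : ∀ w : W, π w = w := fun w => dif_pos w.2
  have hπe : π e = 1 := by
    refine (dif_neg heW).trans (Subtype.ext ?_)
    exact h2' e
  have hπz : ∀ u : U, (π u : U) = u ∨ (π u : U) = u * e := by
    intro u
    by_cases hu : u ∈ W
    · exact Or.inl (congrArg Subtype.val (dif_pos hu : π u = _))
    · exact Or.inr (congrArg Subtype.val (dif_neg hu : π u = _))
  -- the action of `C` on `W`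
  let cU : G → U →* U := fun x =>
    { toFun := fun u => ⟨x * u * x⁻¹, (inferInstance : U.Normal).conj_mem _ u.2 x⟩
      map_one' := Subtype.ext (by simp)
      map_mul' := fun a b => Subtype.ext (by simp [mul_assoc]) }
  have hcUe : ∀ x ∈ C, cU x e = e := fun x hx => Subtype.ext (by
    show x * z * x⁻¹ = z
    rw [(hCz x).1 hx, mul_inv_cancel_right])
  have hcUmul : ∀ x y u, cU (x * y) u = cU x (cU y u) := fun x y u => Subtype.ext (by
    show x * y * (u : G) * (x * y)⁻¹ = x * (y * (u : G) * y⁻¹) * x⁻¹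
    group)
  have hπc : ∀ x ∈ C, ∀ u, π (cU x (π u)) = π (cU x u) := by
    intro x hx u
    rcases hπz u with h | h <;> rw [h]
    rw [map_mul, map_mul, hcUe x hx, hπe, mul_one]
  let ev : C → W → W := fun x w => π (cU x w)
  have hev : ∀ x y w, ev (x * y) w = ev x (ev y w) := by
    intro x y w
    show π (cU ((x : G) * y) w) = π (cU x (π (cU y w)))
    rw [hcUmul, hπc x x.2]
  have hev1 : ∀ w, ev 1 w = w := by
    intro w
    show π (cU 1 w) = w
    rw [show cU 1 (w : U) = w from Subtype.ext (by show (1 : G) * _ * (1 : G)⁻¹ = _; simp), hπW]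
  let Θ : C →* MulAut W :=
    { toFun := fun x =>
        { toFun := ev x
          invFun := ev x⁻¹
          left_inv := fun w => by rw [← hev, inv_mul_cancel, hev1]
          right_inv := fun w => by rw [← hev, mul_inv_cancel, hev1]
          map_mul' := fun a b => by show π (cU x (a * b : W)) = _; rw [Subgroup.coe_mul, map_mul, map_mul] }
      map_one' := MulEquiv.ext hev1
      map_mul' := fun x y => MulEquiv.ext (hev x y) }
  -- decomposition `G = U M`
  have hdec : ∀ x : G, ∃ u ∈ U, ∃ m ∈ M, x = u * m := by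
    intro x
    have hx : x ∈ U ⊔ M := hUM' ▸ Subgroup.mem_top x
    rw [Subgroup.mem_sup_of_normal_left] at hx
    obtain ⟨u, hu, m, hm, rfl⟩ := hx
    exact ⟨u, hu, m, hm, rfl⟩
  have hUC : U ≤ C := fun u hu => (hCz u).2 (hUc u hu z hzU)
  have hcent : ∀ x : G, (∀ u ∈ U, x * u * x⁻¹ = u) → x ∈ U := by
    intro x hx
    obtain ⟨v, hv, m, hm, rfl⟩ := hdec x
    have : m = 1 := hfaith m hm fun u hu => by
      have h := hx u hu
      calc m * u * m⁻¹ = v⁻¹ * (v * m * u * (v * m)⁻¹) * v := by group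
        _ = v⁻¹ * u * v := by rw [h]
        _ = u := by rw [mul_assoc, hUc u hu v hv, inv_mul_cancel_left]
    rw [this, mul_one]; exact hv
  -- the kernel
  have hker : ∀ x : C, Θ x = 1 ↔ ∀ u ∈ U, (x : G) * u * (x : G)⁻¹ = u ∨ (x : G) * u * (x : G)⁻¹ = u * z := by
    intro x
    constructor
    · intro h u hu
      have h1 : π (cU x (π ⟨u, hu⟩)) = π ⟨u, hu⟩ := MulEquiv.congr_fun h (π ⟨u, hu⟩)
      rw [hπc x x.2] at h1
      have hcases : ∀ a b : U, π a = π b → a = b ∨ a = b * e := by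
        intro a b hab
        have hab' := congrArg Subtype.val hab
        rcases hπz a with ha | ha <;> rcases hπz b with hb | hb <;> rw [ha, hb] at hab'
        · exact Or.inl hab'
        · exact Or.inr hab'
        · exact Or.inr (by rw [← hab', mul_assoc, h2' e, mul_one])
        · exact Or.inl (mul_right_cancel hab')
      rcases hcases _ _ h1 with h' | h'
      · exact Or.inl (congrArg Subtype.val h')
      · exact Or.inr (congrArg Subtype.val h')
    · intro h
      refine MulEquiv.ext fun w => ?_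
      show π (cU x w) = w
      rcases h (w : U) (w : U).2 with h' | h'
      · rw [show cU x (w : U) = w from Subtype.ext h', hπW]
      · rw [show cU x (w : U) = (w : U) * e from Subtype.ext h', map_mul, hπW, hπe, mul_one]
  set Q0 : Subgroup G := Θ.ker.map C.subtype with hQ0
  have hmemQ0 : ∀ x : G, x ∈ Q0 ↔ x ∈ C ∧ ∀ u ∈ U, x * u * x⁻¹ = u ∨ x * u * x⁻¹ = u * z := by
    intro x
    constructor
    · rintro ⟨y, hy, rfl⟩
      exact ⟨y.2, (hker y).1 hy⟩
    · rintro ⟨hxC, hx⟩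
      exact ⟨⟨x, hxC⟩, (hker _).2 hx, rfl⟩
  have hUQ : U ≤ Q0 := fun u hu => (hmemQ0 u).2 ⟨hUC hu, fun v hv => Or.inl (by rw [hUc u hu v hv, mul_inv_cancel_right])⟩
  have hQC : Q0 ≤ C := fun x hx => ((hmemQ0 x).1 hx).1
  have hzc : ∀ x ∈ Q0, x * z = z * x := fun x hx => (hCz x).1 (hQC hx)
  -- squares and commutators
  have hform : ∀ x ∈ Q0, ∃ u ∈ U, ∃ m ∈ M, x = u * m ∧ m ∈ Q0 ∧ m * m = 1 ∧ m * z = z * m := by
    intro x hx
    obtain ⟨u, hu, m, hm, rfl⟩ := hdec x
    have hmQ : m ∈ Q0 := by simpa using mul_mem (inv_mem (hUQ hu)) hx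
    have hmz := hzc m hmQ
    refine ⟨u, hu, m, hm, rfl, hmQ, hfaith _ (mul_mem hm hm) fun v hv => ?_, hmz⟩
    rcases ((hmemQ0 m).1 hmQ).2 v hv with h | h
    · calc m * m * v * (m * m)⁻¹ = m * (m * v * m⁻¹) * m⁻¹ := by group
        _ = v := by rw [h, h]
    · calc m * m * v * (m * m)⁻¹ = m * (m * v * m⁻¹) * m⁻¹ := by group
        _ = (m * v * m⁻¹) * (m * z * m⁻¹) := by nth_rewrite 1 [h]; group
        _ = v * z * z := by rw [hmz, mul_inv_cancel_right, h]
        _ = v := by rw [mul_assoc, hz2, mul_one]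
  have hsq : ∀ x ∈ Q0, x * x ∈ Subgroup.zpowers z := by
    intro x hx
    obtain ⟨u, hu, m, hm, rfl, hmQ, hm2, hmz⟩ := hform x hx
    have e1 : (u * m) * (u * m) = u * (m * u * m⁻¹) * (m * m) := by group
    rw [e1, hm2, mul_one]
    rcases ((hmemQ0 m).1 hmQ).2 u hu with h | h <;> rw [h]
    · rw [hU2 u hu]; exact one_mem _
    · rw [← mul_assoc, hU2 u hu, one_mul]; exact Subgroup.mem_zpowers z
  have hcomm : ∀ x ∈ Q0, ∀ y ∈ Q0, x * y * x⁻¹ * y⁻¹ ∈ Subgroup.zpowers z := by
    intro x hx y hy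
    have sqz : ∀ w ∈ Q0, w * w = 1 ∨ w * w = z := fun w hw => hmemz _ (hsq w hw)
    have hzi : z⁻¹ = z := inv_eq_of_mul_eq_one_right hz2
    have : x * y * x⁻¹ * y⁻¹ = (x * y) * (x * y) * ((y⁻¹ * x⁻¹ * y) * (y⁻¹ * x⁻¹ * y)) * ((y⁻¹) * y⁻¹) := by group
    rw [this]
    refine mul_mem (mul_mem (hsq _ (mul_mem hx hy)) ?_) (hsq _ (inv_mem hy))
    exact hsq _ (mul_mem (mul_mem (inv_mem hy) (inv_mem hx)) hy)
  have hzQ : z ∈ Q0 := hUQ hzU
  -- transvections
  have htrans : ∀ u ∈ U, u ∉ Subgroup.zpowers z → ∃ m ∈ Q0, m * u * m⁻¹ = u * z := by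
    intro u hu hnz
    have hu1 : (⟨u, hu⟩ : U) ≠ 1 := fun h => hnz (by rw [show u = 1 from congrArg Subtype.val h]; exact one_mem _)
    have hue : (⟨u, hu⟩ : U) * e ≠ 1 := fun h => hnz (by
      have h' : u * z = 1 := congrArg Subtype.val h
      rw [eq_inv_of_mul_eq_one_left h']; exact inv_mem (Subgroup.mem_zpowers z))
    obtain ⟨φ, hφ, hφc, hφu⟩ := ElemAut.exists_transvection h2' hu1 hue
    have hc : (⟨u, hu⟩ : U) * (⟨u, hu⟩ * e) = e := by rw [← mul_assoc, h2', one_mul]
    rw [hc] at hφc hφu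
    obtain ⟨m, hm, hmφ⟩ := hfull φ
    refine ⟨m, (hmemQ0 m).2 ⟨(hCz m).2 (mul_inv_eq_iff_eq_mul.1 ((hmφ e).symm.trans (congrArg Subtype.val hφc))), ?_⟩,
      (hmφ ⟨u, hu⟩).symm.trans (congrArg Subtype.val hφ)⟩
    intro v hv
    rcases hφu ⟨v, hv⟩ with h | h
    · exact Or.inl ((hmφ ⟨v, hv⟩).symm.trans (congrArg Subtype.val h))
    · exact Or.inr ((hmφ ⟨v, hv⟩).symm.trans (congrArg Subtype.val h))
  have hcenQ : ∀ x : G, x ∈ Q0 → (∀ y ∈ Q0, y * x = x * y) → x ∈ Subgroup.zpowers z := by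
    intro x hx hc
    have hxU : x ∈ U := hcent x fun u hu => by rw [← hc u (hUQ hu), mul_inv_cancel_right]
    by_contra hnz
    obtain ⟨m, hm, h⟩ := htrans x hxU hnz
    rw [hc m hm, mul_inv_cancel_right] at h
    exact hzne (mul_left_cancel ((mul_one x).trans h)).symm
  have hpre : Cfsg.Agent.Invol.ExtraPairs.Pre 2 Q0 ⟨z, hzQ⟩ := by
    have hmem : ∀ s : Q0, (s : G) ∈ Subgroup.zpowers z → s ∈ Subgroup.zpowers (⟨z, hzQ⟩ : Q0) := by
      rintro s ⟨i, hi⟩
      exact ⟨i, Subtype.ext (by simpa using hi)⟩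
    refine ⟨by rw [Subgroup.orderOf_mk, hzord], ?_, fun a b => hmem _ ?_, fun a => hmem _ ?_⟩
    · ext s
      constructor
      · intro hs
        exact hmem s (hcenQ s s.2 fun t ht => congrArg Subtype.val (Subgroup.mem_center_iff.1 hs ⟨t, ht⟩))
      · rintro ⟨i, rfl⟩
        exact zpow_mem (Subgroup.mem_center_iff.2 fun t => Subtype.ext (hzc t t.2)) i
    · simpa [commutatorElement_def] using hcomm a a.2 b b.2
    · simpa [pow_two] using hsq a a.2
  have hne : Nat.card Q0 ≠ 2 := by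
    intro h
    have h1 := Subgroup.card_le_of_le hUQ
    have h2n : (2 : ℕ) ^ 2 ≤ 2 ^ (n + 1) := Nat.pow_le_pow_right (by norm_num) (by omega)
    rw [hUcard, h] at h1
    omega
  have hES : Cfsg.IsExtraspecial 2 Q0 := hpre.extraspecial hne
  have hcardQ0 : Nat.card Q0 = 2 ^ (2 * n + 1) := by
    have hcZ : Subgroup.center Q0 ≤ U.subgroupOf Q0 := fun x hx => by
      rw [Subgroup.mem_subgroupOf]
      rcases hmemz _ (hcenQ x x.2 fun t ht => congrArg Subtype.val (Subgroup.mem_center_iff.1 hx ⟨t, ht⟩)) with h | h <;> rw [h]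
      · exact one_mem U
      · exact hzU
    have hcc : Subgroup.centralizer ((U.subgroupOf Q0 : Subgroup Q0) : Set Q0) = U.subgroupOf Q0 := by
      ext x
      rw [Subgroup.mem_centralizer_iff, Subgroup.mem_subgroupOf]
      exact ⟨fun h => hcent x fun u hu => by
          rw [show (x : G) * u = u * x from congrArg Subtype.val (h ⟨u, hUQ hu⟩ hu).symm, mul_inv_cancel_right],
        fun h y hy => Subtype.ext (hUc y hy x h)⟩
    have hcU' : Nat.card (U.subgroupOf Q0) = 2 ^ (n + 1) := by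
      rw [Nat.card_congr (Subgroup.subgroupOfEquivOfLe hUQ).toEquiv, hUcard]
    have a1 := Cfsg.Agent.ClassK.card_centralizer_mul_card hES _ hcZ
    have a2 := Cfsg.Agent.Monster.card_mul_centralizer_le hES (U.subgroupOf Q0)
    rw [hcc, hcU', ← pow_add] at a1 a2
    rw [show n + 1 + (n + 1) = (2 * n + 1) + 1 by ring, pow_succ] at a1 a2
    omega
  -- surjectivity, and the complement
  have hsurj : ∀ φ : MulAut W, ∃ k : C, (k : G) ∈ M ∧ (∀ w : W, cU k w ∈ W) ∧ Θ k = φ := by
    intro φ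
    have hd : ∀ u : U, π (u * (π u : U)) = 1 := fun u => by rw [map_mul, hπW]; exact Subtype.ext (h2' _)
    have hkey : ∀ (ψ : MulAut W) (u : U), π ((ψ (π u) : U) * (u * (π u : U))) = ψ (π u) := fun ψ u => by
      rw [map_mul, hd, mul_one, hπW]
    have hinv : ∀ (ψ : MulAut W) (u : U),
        (ψ.symm (π ((ψ (π u) : U) * (u * (π u : U)))) : U) *
          (((ψ (π u) : U) * (u * (π u : U))) * (π ((ψ (π u) : U) * (u * (π u : U))) : U)) = u := by
      intro ψ u
      rw [hkey, MulEquiv.symm_apply_apply, mul_right_comm (ψ (π u) : U), h2', one_mul,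
        mul_left_comm, h2', mul_one]
    let Φ : U ≃* U :=
      { toFun := fun u => (φ (π u) : U) * (u * (π u : U))
        invFun := fun u => (φ.symm (π u) : U) * (u * (π u : U))
        left_inv := fun u => hinv φ u
        right_inv := fun u => by
          have := hinv φ.symm u
          rwa [MulEquiv.symm_symm] at this
        map_mul' := fun a b => by
          simp only [map_mul, Subgroup.coe_mul]
          rw [mul_mul_mul_comm a b, mul_mul_mul_comm (φ (π a) : U)] }
    obtain ⟨m, hm, hmΦ⟩ := hfull Φ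
    have hcm : ∀ u : U, cU m u = Φ u := fun u => Subtype.ext (hmΦ u).symm
    have hΦW : ∀ w : W, Φ w = φ w := fun w => by
      show (φ (π w) : U) * ((w : U) * (π w : U)) = φ w
      rw [hπW, h2', mul_one]
    have hΦe : Φ e = e := by
      show (φ (π e) : U) * (e * (π e : U)) = e
      rw [hπe, map_one]
      simp
    refine ⟨⟨m, (hCz m).2 (mul_inv_eq_iff_eq_mul.1 (congrArg Subtype.val ((hcm e).trans hΦe)))⟩, hm,
      fun w => by rw [hcm, hΦW]; exact (φ w).2, MulEquiv.ext fun w => ?_⟩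
    show π (cU m w) = φ w
    rw [hcm, hΦW, hπW]
  have hΘs : Function.Surjective Θ := fun φ => by
    obtain ⟨k, -, -, hk⟩ := hsurj φ; exact ⟨k, hk⟩
  have hkerp : IsPGroup 2 Θ.ker := by
    intro x
    refine ⟨2, Subtype.ext (Subtype.ext ?_)⟩
    show ((x : C) : G) ^ 2 ^ 2 = 1
    rw [pow_two 2, pow_mul, pow_two ((x : C) : G), pow_two]
    rcases hmemz _ (hsq _ ⟨x.1, x.2, rfl⟩) with h | h <;> rw [show ((x : C) : G) * ((x : C) : G) = _ from h]
    · exact one_mul 1
    · exact hz2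
  have hpc : Cfsg.pCore 2 C = Θ.ker := by
    refine le_antisymm ?_ (Cfsg.Agent.Basics.le_pCore hkerp)
    haveI : ((Cfsg.pCore 2 C).map Θ).Normal := Subgroup.Normal.map inferInstance _ hΘs
    have h1 := ElemAut.normal_two_group_eq_bot (fun w : W => Subtype.ext (h2' w)) ((Cfsg.pCore 2 C).map Θ)
      ((Cfsg.Agent.Basics.pCore_isPGroup (G := C) 2).map Θ)
    intro x hx
    have : Θ x ∈ (Cfsg.pCore 2 C).map Θ := Subgroup.mem_map_of_mem _ hx
    rw [h1, Subgroup.mem_bot] at this
    exact this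
  have hQeq : Q = Q0 := by rw [hQ, hpc]
  subst hQeq
  have hmapc : (Subgroup.center Q0).map Q0.subtype = Subgroup.zpowers z := by
    rw [hpre.center_eq, MonoidHom.map_zpowers]; rfl
  refine ⟨hES, hcardQ0, ⟨U, hUQ, hU, hUcard⟩, ⟨hES, ?_, ?_, ?_⟩, ?_⟩
  · rw [hmapc]
    refine le_antisymm (fun x hx => ?_) (Subgroup.zpowers_le.2 (Subgroup.mem_centralizer_iff.2 fun y hy => hzc y hy))
    have hxU : x ∈ U := hcent x fun u hu => by
      rw [← Subgroup.mem_centralizer_iff.1 hx u (hUQ hu), mul_inv_cancel_right]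
    exact hcenQ x (hUQ hxU) fun y hy => Subgroup.mem_centralizer_iff.1 hx y hy
  · rw [hmapc, ← hZeq]
    intro c hc
    have key : ∀ c ∈ C, ∀ x ∈ Q0, c * x * c⁻¹ ∈ Q0 := by
      intro c hc x hx
      refine (hmemQ0 _).2 ⟨mul_mem (mul_mem hc (hQC hx)) (inv_mem hc), fun u hu => ?_⟩
      have hcu : c⁻¹ * u * c ∈ U := by simpa using (inferInstance : U.Normal).conj_mem u hu c⁻¹
      rcases ((hmemQ0 x).1 hx).2 _ hcu with h | h
      · left
        calc c * x * c⁻¹ * u * (c * x * c⁻¹)⁻¹ = c * (x * (c⁻¹ * u * c) * x⁻¹) * c⁻¹ := by group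
          _ = u := by rw [h]; group
      · right
        calc c * x * c⁻¹ * u * (c * x * c⁻¹)⁻¹ = c * (x * (c⁻¹ * u * c) * x⁻¹) * c⁻¹ := by group
          _ = u * (c * z * c⁻¹) := by rw [h]; group
          _ = u * z := by rw [(hCz c).1 hc, mul_inv_cancel_right]
    exact Subgroup.mem_normalizer_iff.2 fun x => ⟨key c hc x, fun h => by
      have := key c⁻¹ (inv_mem hc) _ h
      simpa [mul_assoc] using this⟩
  · intro K hK hQK
    rw [Subgroup.eq_bot_iff_forall]
    intro k hk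
    have hint : ∀ x ∈ K, x ∈ U → x = 1 := by
      intro x hxK hxU
      by_contra hx1
      have h2x : orderOf x = 2 := orderOf_eq_prime (hU.2 x hxU) hx1
      have := Subgroup.orderOf_dvd_natCard K hxK
      rw [h2x] at this
      exact (Nat.not_even_iff_odd.2 hK) (even_iff_two_dvd.2 this)
    have hkU : k ∈ U := hcent k fun u hu => by
      have h1 : u * k * u⁻¹ * k⁻¹ ∈ K := mul_mem ((Subgroup.mem_normalizer_iff.1 (hQK (hUQ hu)) k).1 hk) (inv_mem hk)
      have h2u : u * k * u⁻¹ * k⁻¹ ∈ U := by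
        rw [show u * k * u⁻¹ * k⁻¹ = u * (k * u⁻¹ * k⁻¹) by group]
        exact mul_mem hu ((inferInstance : U.Normal).conj_mem _ (inv_mem hu) k)
      have h3 := hint _ h1 h2u
      rw [mul_inv_eq_one, mul_inv_eq_iff_eq_mul] at h3
      rw [← h3, mul_inv_cancel_right]
    exact hint k hk hkU
  · let K : Subgroup G :=
      { carrier := {x | x ∈ C ∧ x ∈ M ∧ ∀ w : U, cU x w ∈ W ↔ w ∈ W}
        one_mem' := ⟨one_mem C, one_mem M, fun w => by
          rw [show cU 1 w = w from Subtype.ext (by show (1 : G) * _ * (1 : G)⁻¹ = _; simp)]⟩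
        mul_mem' := fun {a b} ha hb => ⟨mul_mem ha.1 hb.1, mul_mem ha.2.1 hb.2.1, fun w => by
          rw [hcUmul, ha.2.2, hb.2.2]⟩
        inv_mem' := fun {a} ha => ⟨inv_mem ha.1, inv_mem ha.2.1, fun w => by
          rw [← ha.2.2, ← hcUmul, mul_inv_cancel, show cU 1 w = w from Subtype.ext (by show (1 : G) * _ * (1 : G)⁻¹ = _; simp)]⟩ }
    have hkK : ∀ k : C, (k : G) ∈ M → (∀ w : W, cU k w ∈ W) → (k : G) ∈ K := by
      intro k hk hW
      refine ⟨k.2, hk, fun w => ⟨fun h => ?_, fun h => hW ⟨w, h⟩⟩⟩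
      by_contra hw
      have h2w := hW ⟨w * e, hout w hw⟩
      rw [map_mul, hcUe k k.2] at h2w
      exact heW ((W.mul_mem_cancel_left h).1 h2w)
    have hKinj : ∀ x ∈ K, ∀ h : x ∈ C, Θ ⟨x, h⟩ = 1 → x = 1 := by
      intro x hx h hΘ
      refine hfaith x hx.2.1 fun u hu => ?_
      have hW' : ∀ w : W, cU x w = w := fun w => by
        have h1 : π (cU x w) = w := MulEquiv.congr_fun hΘ w
        exact ((congrArg Subtype.val (hπW ⟨_, (hx.2.2 w).2 w.2⟩)).symm).trans (congrArg Subtype.val h1)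
      by_cases huW : (⟨u, hu⟩ : U) ∈ W
      · exact congrArg Subtype.val (hW' ⟨_, huW⟩)
      · have h1 := hW' ⟨_, hout _ huW⟩
        rw [map_mul, hcUe x h] at h1
        exact congrArg Subtype.val (mul_right_cancel h1)
    refine ⟨K, fun x hx => hx.1, ?_, ?_, ?_⟩
    · rw [Subgroup.eq_bot_iff_forall]
      rintro x ⟨⟨y, hy, rfl⟩, hxK⟩
      exact hKinj _ hxK y.2 hy
    · refine le_antisymm (sup_le hQC fun x hx => hx.1) fun x hx => ?_
      obtain ⟨k, hkM, hkW, hk⟩ := hsurj (Θ ⟨x, hx⟩)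
      rw [show x = (x * (k : G)⁻¹) * k by group]
      refine Subgroup.mul_mem_sup ⟨⟨x, hx⟩ * k⁻¹, ?_, rfl⟩ (hkK k hkM hkW)
      show Θ _ = 1
      rw [map_mul, map_inv, hk, mul_inv_cancel]
    · obtain ⟨E⟩ := ElemAut.mulAut_equiv_GL (fun w : W => Subtype.ext (h2' w)) hWn
      let f : K →* MulAut W := Θ.comp (Subgroup.inclusion (show K ≤ C from fun x hx => hx.1))
      refine ⟨(MulEquiv.ofBijective f ⟨?_, ?_⟩).trans E⟩
      · rw [injective_iff_map_eq_one]
        intro x hx
        exact Subtype.ext (hKinj x x.2 x.2.1 hx)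
      · intro φ
        obtain ⟨k, hkM, hkW, hk⟩ := hsurj φ
        exact ⟨⟨k, hkK k hkM hkW⟩, hk⟩

end Cfsg.Agent.S5423
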