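import Cfsg.Statements.S5424
import Cfsg.Agent.Lib.BigExtra.SLModel

set_option autoImplicit false
open Cfsg

namespace Cfsg.Agent.S5424

/-- Let G be the special linear group of degree n + 2 over the field with two elements, n ≥ 2, let z be a transvection, and let Q be the largest normal 2-subgroup of the centralizer C of z. Then Q is extraspecial of order 2^(2n+1) with an elementary abelian subgroup of order 2^(n+1) (plus type), Q is a large extraspecial 2-subgroup of G, and C is the split extension of Q by the special linear group of degree n over the field with two elements. -/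
theorem result (n : ℕ) (hn : 2 ≤ n) (z : Matrix.SpecialLinearGroup (Fin (n + 2)) (ZMod 2)) (hz : (z : Matrix (Fin (n + 2)) (Fin (n + 2)) (ZMod 2)) = Matrix.transvection 0 1 1) (Q : Subgroup (Matrix.SpecialLinearGroup (Fin (n + 2)) (ZMod 2))) (hQ : Q = (Cfsg.pCore 2 ↥(Subgroup.centralizer ({z} : Set (Matrix.SpecialLinearGroup (Fin (n + 2)) (ZMod 2))))).map (Subgroup.centralizer ({z} : Set (Matrix.SpecialLinearGroup (Fin (n + 2)) (ZMod 2)))).subtype) : Cfsg.IsExtraspecial 2 ↥Q ∧ Nat.card ↥Q = 2 ^ (2 * n + 1) ∧ (∃ E : Subgroup (Matrix.SpecialLinearGroup (Fin (n + 2)) (ZMod 2)), E ≤ Q ∧ Cfsg.IsElementaryAbelian 2 E ∧ Nat.card ↥E = 2 ^ (n + 1)) ∧ Cfsg.IsLargeExtraspecial Q ∧ ∃ K : Subgroup (Matrix.SpecialLinearGroup (Fin (n + 2)) (ZMod 2)), K ≤ Subgroup.centralizer ({z} : Set (Matrix.SpecialLinearGroup (Fin (n + 2)) (ZMod 2))) ∧ Q ⊓ K = ⊥ ∧ Q ⊔ K = Subgroup.centralizer ({z} : Set (Matrix.SpecialLinearGroup (Fin (n + 2)) (ZMod 2)))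 ∧ Nonempty (↥K ≃* Matrix.SpecialLinearGroup (Fin n) (ZMod 2)) := by
  haveI := Fact.mk Nat.prime_two
  obtain rfl : z = BigExtra.SLModel.zt := Subtype.ext (hz.trans BigExtra.SLModel.zt_val.symm)
  rw [BigExtra.SLModel.pCore_eq hn] at hQ
  subst hQ
  have hlarge := BigExtra.SLModel.large hn
  refine ⟨hlarge.1, BigExtra.SLModel.card_rad, ⟨_, BigExtra.SLModel.elem_le,
    BigExtra.SLModel.elem_props⟩, hlarge, (BigExtra.SLModel.kemb n).range, ?_, ?_, ?_, ?_⟩
  · rintro _ ⟨D, rfl⟩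
    exact BigExtra.SLModel.mem_cent_iff.2 ⟨0, 0, 0, D, rfl⟩
  · rw [eq_bot_iff]
    rintro _ ⟨⟨a, b, c, e⟩, D, rfl⟩
    obtain ⟨-, -, -, h4⟩ := BigExtra.SLModel.el_inj e
    rw [Subgroup.mem_bot, h4, map_one]
  · refine le_antisymm (sup_le BigExtra.SLModel.rad_le ?_) fun g hg => ?_
    · rintro _ ⟨D, rfl⟩
      exact BigExtra.SLModel.mem_cent_iff.2 ⟨0, 0, 0, D, rfl⟩
    · obtain ⟨a, b, c, D, rfl⟩ := BigExtra.SLModel.mem_cent_iff.1 hg
      rw [BigExtra.SLModel.decomp]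
      exact mul_mem (Subgroup.mem_sup_left ⟨_, _, _, rfl⟩) (Subgroup.mem_sup_right ⟨D, rfl⟩)
  · exact ⟨(MonoidHom.ofInjective BigExtra.SLModel.kemb_injective).symm⟩

end Cfsg.Agent.S5424
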