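import Cfsg.Statements.S5425
import Cfsg.Agent.Lib.Golay.OctCent

set_option autoImplicit false
open Cfsg
open scoped commutatorElement

namespace Cfsg.Agent.S5425

/-- In the Mathieu group of degree 24 (the automorphism group of the length-24 binary Golay code, acting on the 24 coordinates), let z be an involution whose fixed points form an octad (the support of a code word of weight 8), and let Q be the largest normal 2-subgroup of the centralizer C of z. Then Q is extraspecial of order 2^7 with an elementary abelian subgroup of order 16 (plus type), Q is a large extraspecial 2-subgroup, and C is the split extension of Q by the special linear group of degree 3 over the field with two elements. -/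
theorem result (z : ↥Cfsg.M24) (hz : orderOf z = 2) (hfix : (Finset.univ.filter fun p : Cfsg.GolayPt => (z : Equiv.Perm Cfsg.GolayPt) p = p) ∈ Cfsg.octads) (Q : Subgroup ↥Cfsg.M24) (hQ : Q = (Cfsg.pCore 2 ↥(Subgroup.centralizer ({z} : Set ↥Cfsg.M24))).map (Subgroup.centralizer ({z} : Set ↥Cfsg.M24)).subtype) : Cfsg.IsExtraspecial 2 ↥Q ∧ Nat.card ↥Q = 2 ^ 7 ∧ (∃ E : Subgroup ↥Cfsg.M24, E ≤ Q ∧ Cfsg.IsElementaryAbelian 2 E ∧ Nat.card ↥E = 2 ^ 4) ∧ Cfsg.IsLargeExtraspecial Q ∧ ∃ K : Subgroup ↥Cfsg.M24, K ≤ Subgroup.centralizer ({z} : Set ↥Cfsg.M24) ∧ Q ⊓ K = ⊥ ∧ Q ⊔ K = Subgroup.centralizer ({z} : Set ↥Cfsg.M24) ∧ Nonempty (↥K ≃* Matrix.SpecialLinearGroup (Fin 3) (ZMod 2)) := by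
  classical
  haveI := Fact.mk Nat.prime_two
  set o := Finset.univ.filter fun p : GolayPt => (z : Equiv.Perm GolayPt) p = p with ho_def
  have ho : o ∈ octads := hfix
  have hz2 : orderOf (z : Equiv.Perm GolayPt) = 2 := by rw [Subgroup.orderOf_coe]; exact hz
  have hz8 : Golay24.fixCount (z : Equiv.Perm GolayPt) = 8 := ho.2
  obtain ⟨hzM, hz02, -, -⟩ := Golay24.OctCent.zStd_spec
  obtain ⟨hRle, hLle, hzR, hRcard, hsq, hpair, hnorm, hinf, hsup, ⟨e⟩⟩ :=
    Golay24.OctCent.local_std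
  set z₀ : ↥M24 := ⟨Golay24.OctCent.zStd, hzM⟩
  obtain ⟨k₁, hk₁, e₁⟩ := Golay24.conj_eight z.2 hz2 hz8
  obtain ⟨k₂, hk₂, e₂⟩ := Golay24.conj_eight hzM hz02 Golay24.OctCent.fixCount_zStd
  set φ : ↥M24 ≃* ↥M24 := MulAut.conj (⟨k₁⁻¹ * k₂, mul_mem (inv_mem hk₁) hk₂⟩ : ↥M24)
  have hφz : φ z₀ = z := by
    refine Subtype.ext ?_
    show k₁⁻¹ * k₂ * Golay24.OctCent.zStd * (k₁⁻¹ * k₂)⁻¹ = z
    rw [show k₁⁻¹ * k₂ * Golay24.OctCent.zStd * (k₁⁻¹ * k₂)⁻¹ =
      k₁⁻¹ * (k₂ * Golay24.OctCent.zStd * k₂⁻¹) * k₁ by group, e₂, ← e₁]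
    group
  set C := Subgroup.centralizer ({z} : Set ↥M24) with hCdef
  set R := Golay24.OctCent.radGrp
  set L := Golay24.OctCent.levGrp
  have hC0 : Subgroup.centralizer ({z₀} : Set ↥M24) =
      (M24 ⊓ Subgroup.centralizer {Golay24.OctCent.zStd}).subgroupOf M24 := by
    ext g
    rw [Subgroup.mem_subgroupOf, Subgroup.mem_inf, Subgroup.mem_centralizer_singleton_iff,
      Subgroup.mem_centralizer_singleton_iff]
    exact ⟨fun h => ⟨g.2, congrArg Subtype.val h⟩, fun h => Subtype.ext h.2⟩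
  have hC : ∀ g, g ∈ Subgroup.centralizer ({z₀} : Set ↥M24) ↔ φ g ∈ C := fun g => by
    rw [hCdef, Subgroup.mem_centralizer_singleton_iff, Subgroup.mem_centralizer_singleton_iff,
      ← hφz, ← map_mul, ← map_mul, φ.injective.eq_iff]
  have hCmap : (Subgroup.centralizer ({z₀} : Set ↥M24)).map φ.toMonoidHom = C := by
    ext g
    refine ⟨?_, fun hg => ⟨φ.symm g, (hC _).2 (by simpa using hg), by simp⟩⟩
    rintro ⟨y, hy, rfl⟩
    exact (hC y).1 hy
  set P := (R.subgroupOf M24).map φ.toMonoidHom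
  set K := (L.subgroupOf M24).map φ.toMonoidHom
  have hRM : R ≤ M24 := hRle.trans inf_le_left
  have hLM : L ≤ M24 := hLle.trans inf_le_left
  have hsupC : P ⊔ K = C := by
    rw [← Subgroup.map_sup, ← Subgroup.subgroupOf_sup hRM hLM, hsup, ← hC0, hCmap]
  have hPC : P ≤ C := hsupC ▸ le_sup_left
  have hKC : K ≤ C := hsupC ▸ le_sup_right
  have hPK : P ⊓ K = ⊥ := by
    rw [← Subgroup.map_inf _ _ _ φ.injective, eq_bot_iff]
    rintro _ ⟨g, hg, rfl⟩
    have hg' : (g : Equiv.Perm GolayPt) ∈ R ⊓ L := hg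
    rw [hinf, Subgroup.mem_bot] at hg'
    rw [show g = 1 from Subtype.ext hg', map_one]
    exact one_mem _
  have hPcard : Nat.card P = 128 := by
    rw [Subgroup.card_map_of_injective φ.injective,
      Nat.card_congr (Subgroup.subgroupOfEquivOfLe hRM).toEquiv, hRcard]
  have hP2 : IsPGroup 2 P := IsPGroup.of_card (n := 7) (by rw [hPcard]; norm_num)
  have hPn : ∀ c ∈ C, ∀ a ∈ P, c * a * c⁻¹ ∈ P := by
    rw [← hCmap]
    rintro _ ⟨c, hc, rfl⟩ _ ⟨a, ha, rfl⟩
    refine ⟨c * a * c⁻¹, ?_, by simp⟩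
    rw [hC0] at hc
    exact hnorm _ hc _ ha
  have eK : K ≃* Golay24.OctCent.SL32 :=
    ((L.subgroupOf M24).equivMapOfInjective φ.toMonoidHom φ.injective).symm.trans
      ((Subgroup.subgroupOfEquivOfLe hLM).trans e)
  have hPn' : (P.subgroupOf C).Normal := ⟨fun a ha c => hPn c c.2 a ha⟩
  have hQP : Q = P := by
    subst hQ
    refine le_antisymm ?_ ?_
    · set M := (pCore 2 ↥C).map C.subtype
      have hPM : P ≤ M := fun a ha => ⟨⟨a, hPC ha⟩, Basics.le_pCore
        (N := P.subgroupOf C) (hP2.comap_of_injective C.subtype C.subtype_injective) ha, rfl⟩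
      have hM2 : IsPGroup 2 M := (Basics.pCore_isPGroup 2).map _
      haveI : IsSimpleGroup K := eK.isSimpleGroup
      have hMn : (M.subgroupOf K).Normal := ⟨by
        intro a ha k
        obtain ⟨a', ha', hae⟩ := ha
        exact ⟨⟨k, hKC k.2⟩ * a' * ⟨k, hKC k.2⟩⁻¹,
          Subgroup.Normal.conj_mem inferInstance a' ha' _, by simpa using hae⟩⟩
      have hMK : M ⊓ K = ⊥ := by
        rcases hMn.eq_bot_or_eq_top with h | h
        · rw [eq_bot_iff]
          rintro g ⟨hgM, hgK⟩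
          have : (⟨g, hgK⟩ : K) ∈ M.subgroupOf K := hgM
          rw [h, Subgroup.mem_bot] at this
          exact Subgroup.mem_bot.2 (congrArg Subtype.val this)
        · exfalso
          have hKM : K ≤ M := Subgroup.subgroupOf_eq_top.1 h
          obtain ⟨n, hn⟩ := IsPGroup.iff_card.1 (hM2.to_le hKM)
          let T : Golay24.OctCent.SL32 := Golay24.OctCent.matSL 0
          have h168 : Nat.card K = 168 := by
            rw [Nat.card_congr eK.toEquiv,
              ← Nat.card_congr (Equiv.ofBijective _ Golay24.OctCent.matSL_bijective), Nat.card_fin]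
          rw [h168] at hn
          have h7 : 7 ∣ 2 ^ n := hn ▸ (by norm_num)
          exact absurd ((by norm_num : Nat.Prime 7).dvd_of_dvd_pow h7) (by norm_num)
      intro m hm
      have hmC : m ∈ P ⊔ K := by rw [hsupC]; exact Subgroup.map_subtype_le _ hm
      have hKN : K ≤ Subgroup.normalizer (P : Set ↥M24) :=
        hKC.trans ((Subgroup.normal_subgroupOf_iff_le_normalizer hPC).1 hPn')
      rw [← SetLike.mem_coe, Subgroup.coe_mul_of_right_le_normalizer_left P K hKN] at hmC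
      obtain ⟨p, hp, k, hk, rfl⟩ := hmC
      have hkM : k ∈ M := by simpa using mul_mem (inv_mem (hPM hp)) hm
      have : k = 1 := Subgroup.mem_bot.1 (hMK ▸ (⟨hkM, hk⟩ : k ∈ M ⊓ K))
      simpa [this] using hp
    · exact fun a ha => ⟨⟨a, hPC ha⟩, Basics.le_pCore
        (N := P.subgroupOf C) (hP2.comap_of_injective C.subtype C.subtype_injective) ha, rfl⟩
  have hzP : z ∈ P := ⟨z₀, hzR, hφz⟩
  have hspec := Golay24.octFix_spec ho
  set E : Subgroup ↥M24 := (Golay24.octFix o).subgroupOf M24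
  have hzE : z ∈ E := Golay24.mem_octFix.2 ⟨z.2, fun x hx => (Finset.mem_filter.1 hx).2⟩
  have hEcomm : ∀ a ∈ E, ∀ b ∈ E, a * b = b * a := fun a ha b hb => by
    have hs : ∀ c ∈ E, c⁻¹ = c := fun c hc =>
      inv_eq_of_mul_eq_one_right (Subtype.ext (hspec.1 _ hc))
    rw [← hs _ (mul_mem ha hb), mul_inv_rev, hs a ha, hs b hb]
  have hEC : E ≤ C := fun a ha => Subgroup.mem_centralizer_singleton_iff.2 (hEcomm a ha z hzE)
  have hEn : (E.subgroupOf C).Normal := ⟨by
    intro a ha c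
    refine Golay24.mem_octFix.2 ⟨((c * a * c⁻¹ : C) : ↥M24).2, fun x hx => ?_⟩
    have hx' : ((c : ↥M24) : Equiv.Perm GolayPt)⁻¹ x ∈ o := by
      have hcz := congrArg (fun p : ↥M24 => (p : Equiv.Perm GolayPt))
        (Subgroup.mem_centralizer_singleton_iff.1 (inv_mem c.2))
      have := congrArg (fun p : Equiv.Perm GolayPt => p x) hcz
      simp only [Subgroup.coe_mul, Subgroup.coe_inv, Equiv.Perm.mul_apply,
        (Finset.mem_filter.1 hx).2] at this
      exact Finset.mem_filter.2 ⟨Finset.mem_univ _, this.symm⟩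
    have ha' := (Golay24.mem_octFix.1 ha).2 _ hx'
    show ((c : ↥M24) : Equiv.Perm GolayPt) (((a : ↥M24) : Equiv.Perm GolayPt)
      (((c : ↥M24) : Equiv.Perm GolayPt)⁻¹ x)) = x
    rw [show ((a : ↥M24) : Equiv.Perm GolayPt) (((c : ↥M24) : Equiv.Perm GolayPt)⁻¹ x) = _ from ha']
    simp⟩
  have hE2 : IsPGroup 2 E := fun g => ⟨1, by
    rw [pow_one, pow_two]; exact Subtype.ext (Subtype.ext (hspec.1 _ g.2))⟩
  have hEQ : E ≤ Q := by
    rw [hQ]
    exact fun a ha => ⟨⟨a, hEC ha⟩, Basics.le_pCore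
      (N := E.subgroupOf C) (hE2.comap_of_injective C.subtype C.subtype_injective) ha, rfl⟩
  rw [hQP] at hEQ
  subst hQP
  have hzz : z * z = 1 := by rw [← pow_two, ← hz, pow_orderOf_eq_one]
  have hPsq : ∀ a ∈ P, a * a = 1 ∨ a * a = z := by
    rintro _ ⟨a, ha, rfl⟩
    rcases hsq _ ha with h | h
    · left; rw [← map_mul, show a * a = 1 from Subtype.ext h, map_one]
    · right
      rw [← map_mul, show a * a = z₀ from Subtype.ext h]
      exact hφz
  have hcz : ∀ a ∈ P, Commute a z := fun a ha => Subgroup.mem_centralizer_singleton_iff.1 (hPC ha)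
  have hcomm : ∀ a ∈ P, ∀ b ∈ P, ⁅a, b⁆ = 1 ∨ ⁅a, b⁆ = z := by
    intro a ha b hb
    have e' : ⁅a, b⁆ = (a * a) * ((a⁻¹ * b) * (a⁻¹ * b)) * (b * b)⁻¹ := by
      rw [commutatorElement_def]; group
    rw [e']
    rcases hPsq a ha with h1 | h1 <;> rcases hPsq _ (mul_mem (inv_mem ha) hb) with h2 | h2 <;>
      rcases hPsq b hb with h3 | h3 <;>
      simp [h1, h2, h3, hzz, inv_eq_of_mul_eq_one_right hzz]
  have hmove : ∀ a ∈ P, a ≠ 1 → a ≠ z → ∃ b ∈ P, ⁅a, b⁆ = z := by
    rintro _ ⟨a, ha, rfl⟩ ha1 haz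
    obtain ⟨b, hb, hne⟩ := hpair _ ha
      (fun h => ha1 (by rw [show a = 1 from Subtype.ext h, map_one]))
      (fun h => haz (by rw [show a = z₀ from Subtype.ext h]; exact hφz))
    have hbP : φ ⟨b, hRM hb⟩ ∈ P := ⟨⟨b, hRM hb⟩, hb, rfl⟩
    refine ⟨_, hbP, (hcomm _ ⟨a, ha, rfl⟩ _ hbP).resolve_left fun h => hne ?_⟩
    have hh : a * ⟨b, hRM hb⟩ = ⟨b, hRM hb⟩ * a := φ.injective (by
      rw [map_mul, map_mul]; exact (commutatorElement_eq_one_iff_commute.1 h).eq)
    exact congrArg Subtype.val hh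
  have hself : ∀ a : ↥M24, (∀ b ∈ P, Commute a b) → a = 1 ∨ a = z := by
    intro a ha
    have haP : a ∈ P := hEQ (Golay24.OctCent.mem_octFix_of_commute ho a.2 fun b hb =>
      congrArg Subtype.val (ha ⟨b, (Golay24.mem_octFix.1 hb).1⟩ (hEQ hb)).eq.symm)
    by_contra! h
    obtain ⟨b, hb, hab⟩ := hmove a haP h.1 h.2
    rw [commutatorElement_eq_one_iff_commute.2 (ha b hb)] at hab
    rw [← hab, orderOf_one] at hz
    omega
  have hX : BigExtra.ExData P z :=
    ⟨hz, hzP, hcz, fun c hc a ha => hPn c (Subgroup.mem_centralizer_singleton_iff.2 hc.eq) a ha,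
      hPsq, hcomm, hmove, hself⟩
  have h9 : 9 ≤ Nat.card P := by rw [hPcard]; norm_num
  refine ⟨hX.isExtraspecial h9, by rw [hPcard]; norm_num, ⟨E, hEQ, ⟨⟨⟨fun a b =>
      Subtype.ext (hEcomm a a.2 b b.2)⟩⟩, fun a ha => by
        rw [pow_two]; exact Subtype.ext (hspec.1 _ ha)⟩, ?_⟩,
    hX.isLargeExtraspecial h9 fun U hU hN => Golay24.OctCent.odd_eq_bot ho U hU fun a ha => hN (hEQ ha),
    K, hKC, hPK, hsupC, ⟨eK⟩⟩
  rw [Nat.card_congr (Subgroup.subgroupOfEquivOfLe (inf_le_left : Golay24.octFix o ≤ M24)).toEquiv,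
    Golay24.card_octFix ho]
  norm_num

end Cfsg.Agent.S5425
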