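import Cfsg.Statements.S5427
import Cfsg.Agent.Lib.BigExtra.Criteria
import Cfsg.Agent.Lib.Invol.LargeExtra

set_option autoImplicit false
open Cfsg

namespace Cfsg.Agent.S5427

/-- Let z be an involution of the finite group G whose centralizer C has generalized Fitting subgroup Q, an extraspecial 2-group of width at least 2 (order 2^(2w+1), w ≥ 2). Let K be a subgroup of G such that the subgroup U generated by the K-conjugates of z is abelian and C is generated by the C-conjugates of U. Suppose that either some K-conjugate of z other than z lies in Q, or some element u of U ∩ Q outside the subgroup generated by z has z in the largest normal 2-subgroup of its centralizer. Then G is simple and Q is a large extraspecial 2-subgroup of G. -/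
theorem result {G : Type*} [Group G] [Finite G] (z : G) (hz : orderOf z = 2) (Q : Subgroup G) (hQC : Q ≤ Subgroup.centralizer ({z} : Set G)) (hF : (Cfsg.generalizedFittingSubgroup ↥(Subgroup.centralizer ({z} : Set G))).map (Subgroup.centralizer ({z} : Set G)).subtype = Q) (hQ : Cfsg.IsExtraspecial 2 ↥Q) (w : ℕ) (hw : 2 ≤ w) (hcard : Nat.card ↥Q = 2 ^ (2 * w + 1)) (K U : Subgroup G) (hU : U = Subgroup.closure {x : G | ∃ k ∈ K, x = k * z * k⁻¹}) (hUab : IsMulCommutative ↥U) (hgen : Subgroup.closure {x : G | ∃ c ∈ Subgroup.centralizer ({z} : Set G), ∃ u ∈ U, x = c * u * c⁻¹} = Subgroup.centralizer ({z} : Set G)) (h3 : (∃ k ∈ K, k * z * k⁻¹ ∈ Q ∧ k * z * k⁻¹ ≠ z) ∨ ∃ u ∈ U ⊓ Q, u ∉ Subgroup.zpowers z ∧ (∃ hz' : z ∈ Subgroup.centralizer ({u} : Set G), (⟨z, hz'⟩ : ↥(Subgroup.centralizer ({u} : Set G))) ∈ Cfsg.pCore 2 ↥(Subgroup.centralizer ({u} : Set G)))) : IsSimpleGroup G ∧ Cfsg.IsLargeExtraspecial Q := by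
  haveI := Fact.mk Nat.prime_two
  obtain ⟨h, -⟩ := BigExtra.exData_of_fStar hz hQC hF hQ
  have hQ2 : IsPGroup 2 Q := IsPGroup.of_card hcard
  have h9 : 9 ≤ Nat.card Q := by
    calc 9 ≤ 2 ^ 5 := by norm_num
      _ ≤ Nat.card Q := by rw [hcard]; exact Nat.pow_le_pow_right (by norm_num) (by omega)
  have hzU : z ∈ U := hU ▸ Subgroup.subset_closure ⟨1, one_mem K, by simp⟩
  have hodd : ∀ L : Subgroup G, Odd (Nat.card L) → Q ≤ Subgroup.normalizer (L : Set G) → L = ⊥ := by
    intro L hL hQL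
    rcases h3 with ⟨k, -, hkQ, hkz⟩ | ⟨u, hu, huz, hz', hzO⟩
    · exact h.odd_eq_bot hQ2 h9 hkQ hkz hL hQL
    · have hu2 : u * u = 1 := by
        suffices key : ∀ v ∈ U, v * v = 1 from key u hu.1
        intro v hu'
        rw [hU] at hu'
        clear hu huz hz' hzO u
        induction hu' using Subgroup.closure_induction'' with
        | mem a ha =>
          obtain ⟨k, -, rfl⟩ := ha
          rw [show k * z * k⁻¹ * (k * z * k⁻¹) = k * (z * z) * k⁻¹ by group, h.mul_self]; group
        | inv_mem a ha =>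
          obtain ⟨k, -, rfl⟩ := ha
          rw [show (k * z * k⁻¹)⁻¹ * (k * z * k⁻¹)⁻¹ = k * (z * z)⁻¹ * k⁻¹ by group, h.mul_self]
          group
        | one => simp
        | mul a b ha hb iha ihb =>
          rw [← hU] at ha hb
          have hab : a * b = b * a := congrArg Subtype.val (hUab.is_comm.comm ⟨a, ha⟩ ⟨b, hb⟩)
          rw [mul_assoc, ← mul_assoc b a b, ← hab, mul_assoc a b b, ihb, mul_one, iha]
      refine h.odd_eq_bot_of hQ2 hu.2 hu2 (fun e => huz (e ▸ one_mem _))
        (fun e => huz (e ▸ Subgroup.mem_zpowers z)) hL hQL fun k hk hku hz1 => ?_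
      have hzc : z ∈ BigExtra.coreAt u := ⟨⟨z, hz'⟩, hzO, rfl⟩
      have h1 : k * z * k⁻¹ * z⁻¹ ∈ BigExtra.coreAt u :=
        mul_mem (BigExtra.coreAt_conj_mem hku hzc) (inv_mem hzc)
      have e : k * z * k⁻¹ * z⁻¹ = k * k := by
        rw [show k * z * k⁻¹ * z⁻¹ = k * (z * k * z⁻¹)⁻¹ by group, hz1, inv_inv]
      rw [e] at h1
      have hk2 : k * k = 1 :=
        Invol.LargeExtra.one_of_odd_of_two hL (BigExtra.coreAt_isPGroup u) (mul_mem hk hk) h1
      exact orderOf_eq_one_iff.1 (Nat.eq_one_of_dvd_coprimes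
        hL.coprime_two_right (Subgroup.orderOf_dvd_natCard L hk)
        (orderOf_dvd_of_pow_eq_one (by rw [sq, hk2])))
  refine ⟨h.isSimpleGroup hQ2 hodd fun N hN hzN => ?_, h.isLargeExtraspecial h9 hodd⟩
  have hUN : U ≤ N := by
    rw [hU, Subgroup.closure_le]
    rintro _ ⟨k, -, rfl⟩
    exact hN.conj_mem z hzN k
  rw [← hgen, Subgroup.closure_le]
  rintro _ ⟨c, -, u, hu, rfl⟩
  exact hN.conj_mem u (hUN hu) c

end Cfsg.Agent.S5427
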