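import Cfsg.Statements.S5428
import Cfsg.Agent.Lib.BigExtra.QuotientLarge
import Cfsg.Agent.Lib.Invol.LargeExtra

set_option autoImplicit false
open Cfsg

namespace Cfsg.Agent.S5428

/-- Let z be an involution of the finite group G whose centralizer C has generalized Fitting subgroup Q extraspecial (as a 2-group), let A be a subgroup of C of odd order, and let R be the centralizer of A in Q; suppose R has order at least 32, the largest normal subgroup of odd order of the centralizer of the subgroup generated by A and R lies in A, the order of that centralizer is not divisible by 4, and g is an element of G with g z g⁻¹ in R but outside the centre Z of Q. Let M be the subgroup generated by A and the centralizer of A (A is normal in it). Then: the centralizer in M of the subgroup generated by R and A, joined with A, equals the subgroup generated by A and Z; the image of R in M/A is a large extraspecial 2-subgroup of M/A; and g z g⁻¹ is conjugate to z inside the subgroup generated by R and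 the centralizer of A in g Q g⁻¹. -/
theorem result {G : Type*} [Group G] [Finite G] (z : G) (hz : orderOf z = 2) (Q : Subgroup G) (hQC : Q ≤ Subgroup.centralizer ({z} : Set G)) (hF : (Cfsg.generalizedFittingSubgroup ↥(Subgroup.centralizer ({z} : Set G))).map (Subgroup.centralizer ({z} : Set G)).subtype = Q) (hQ : Cfsg.IsExtraspecial 2 ↥Q) (A : Subgroup G) (hA : A ≤ Subgroup.centralizer ({z} : Set G)) (hAodd : Odd (Nat.card ↥A)) (R : Subgroup G) (hR : R = Q ⊓ Subgroup.centralizer (A : Set G)) (hR32 : 32 ≤ Nat.card ↥R) (hO : (Cfsg.oddCore ↥(Subgroup.centralizer ((A ⊔ R : Subgroup G) : Set G))).map (Subgroup.centralizer ((A ⊔ R : Subgroup G) : Set G)).subtype ≤ A) (h4 : ¬ 4 ∣ Nat.card ↥(Subgroup.centralizer ((A ⊔ R : Subgroup G) : Set G))) (g : G) (hgR : g * z * g⁻¹ ∈ R) (hgZ : g * z * g⁻¹ ∉ ((Subgroup.center ↥Q).map Q.subtype)) (M : Subgroup G) (hM : M = Subgroup.centralizer (A : Set G) ⊔ A) [hn : (A.subgroupOf M).Normal] : (M ⊓ Subgroup.centralizer ((R ⊔ A : Subgroup G) : Set G)) ⊔ A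 = A ⊔ ((Subgroup.center ↥Q).map Q.subtype) ∧ Cfsg.IsLargeExtraspecial ((R.subgroupOf M).map (QuotientGroup.mk' (A.subgroupOf M))) ∧ ∃ x ∈ R ⊔ ((Q).map (MulAut.conj g).toMonoidHom ⊓ Subgroup.centralizer (A : Set G)), x * (g * z * g⁻¹) * x⁻¹ = z := by
  haveI := Fact.mk Nat.prime_two
  obtain ⟨h, hcen⟩ := BigExtra.exData_of_fStar hz hQC hF hQ
  have hQ2 : IsPGroup 2 Q := hQ.1.1
  set x := g * z * g⁻¹ with hxdef
  have hRQ : R ≤ Q := hR ▸ inf_le_left
  have hRA : ∀ b ∈ R, ∀ a ∈ A, Commute b a := fun b hb a ha =>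
    (Subgroup.mem_centralizer_iff.1 (hR ▸ hb : b ∈ Q ⊓ Subgroup.centralizer (A : Set G)).2 a ha).symm
  have hmemR : ∀ b ∈ Q, (∀ a ∈ A, Commute b a) → b ∈ R := fun b hb hc =>
    hR ▸ ⟨hb, Subgroup.mem_centralizer_iff.2 fun a ha => (hc a ha).eq.symm⟩
  have hAz : ∀ a ∈ A, Commute a z := fun a ha => Subgroup.mem_centralizer_singleton_iff.1 (hA ha)
  have hzR : z ∈ R := hmemR z h.mem fun a ha => (hAz a ha).symm
  have hQA : ∀ b ∈ Q, b ∈ A → b = 1 := fun b hb hba =>
    Invol.LargeExtra.one_of_odd_of_two hAodd hQ2 hba hb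
  have hzA : z ∉ A := fun e => h.ne_one (hQA z h.mem e)
  have hx1 : x ≠ 1 := fun e => hgZ (e ▸ one_mem _)
  have hxz : x ≠ z := fun e => hgZ (by rw [e, hcen]; exact Subgroup.mem_zpowers z)
  have h9 : 9 ≤ Nat.card Q := by have := Subgroup.card_le_of_le hRQ; omega
  have hzQ' := h.orth h9 (hRQ hgR) hxz
  obtain ⟨q, hq, hqA, hqx⟩ := h.mover_fixed hQ2 hAodd hAz (hRQ hgR)
    (fun a ha => (hRA x hgR a ha).symm) hx1 hxz
  obtain ⟨r, hr, hrA, hrz⟩ := (h.conj g).mover_fixed (hQ2.map _) hAodd
    (fun a ha => (hRA x hgR a ha).symm) hzQ' hAz h.ne_one (Ne.symm hxz)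
  have hconj := BigExtra.conj_of_movers h (h.le_cent x (hRQ hgR)) hq hqx hrz
  -- the structure of `M`
  have hCA : A ≤ Subgroup.normalizer (Subgroup.centralizer (A : Set G) : Set G) := by
    have key : ∀ a ∈ A, ∀ c ∈ Subgroup.centralizer (A : Set G),
        a * c * a⁻¹ ∈ Subgroup.centralizer (A : Set G) := by
      intro a ha c hc
      refine Subgroup.mem_centralizer_iff.2 fun b hb => ?_
      have := Subgroup.mem_centralizer_iff.1 hc (a⁻¹ * b * a) (mul_mem (mul_mem (inv_mem ha) hb) ha)
      calc b * (a * c * a⁻¹) = a * ((a⁻¹ * b * a) * c) * a⁻¹ := by group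
        _ = a * c * a⁻¹ * b := by rw [this]; group
    intro a ha
    refine Subgroup.mem_normalizer_iff.2 fun c => ⟨key a ha c, fun hc => ?_⟩
    have := key a⁻¹ (inv_mem ha) _ hc
    rwa [show a⁻¹ * (a * c * a⁻¹) * a⁻¹⁻¹ = c by group] at this
  have hdec : ∀ m ∈ M, ∃ c ∈ Subgroup.centralizer (A : Set G), ∃ a ∈ A, m = c * a := by
    intro m hm
    rw [hM, ← SetLike.mem_coe, Subgroup.coe_mul_of_right_le_normalizer_left _ _ hCA] at hm
    obtain ⟨c, hc, a, ha, rfl⟩ := hm
    exact ⟨c, hc, a, ha, rfl⟩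
  have hAM : A ≤ M := hM ▸ le_sup_right
  have hCM : Subgroup.centralizer (A : Set G) ≤ M := hM ▸ le_sup_left
  have hRM : R ≤ M := fun b hb => hCM (hR ▸ hb : b ∈ Q ⊓ Subgroup.centralizer (A : Set G)).2
  have hcAR : ∀ c : G, (∀ a ∈ A, Commute c a) → (∀ b ∈ R, Commute c b) →
      c ∈ A ∨ c * z ∈ A := by
    intro c hca hcb
    have hmemC : ∀ d : G, (∀ a ∈ A, Commute d a) → (∀ b ∈ R, Commute d b) →
        d ∈ Subgroup.centralizer ((A ⊔ R : Subgroup G) : Set G) := by
      intro d h1 h2
      rw [Subgroup.sup_eq_closure, Subgroup.centralizer_closure, Subgroup.mem_centralizer_iff]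
      rintro v (hv | hv)
      exacts [(h1 v hv).eq.symm, (h2 v hv).eq.symm]
    obtain ⟨o, ho, e⟩ := BigExtra.exists_odd_mul
      (hmemC z (fun a ha => (hAz a ha).symm) fun b hb => (h.le_cent b (hRQ hb)).symm) hz
      (fun d hd => (Subgroup.mem_centralizer_iff.1 hd z (Subgroup.mem_sup_right hzR)).symm) h4
      c (hmemC c hca hcb)
    rcases e with rfl | rfl
    · exact .inl (hO ho)
    · exact .inr (by rw [mul_assoc, h.mul_self, mul_one]; exact hO ho)
  refine ⟨?_, ?_, ⟨(q * r)⁻¹, inv_mem (mul_mem (Subgroup.mem_sup_left (hmemR q hq hqA))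
    (Subgroup.mem_sup_right ⟨hr, Subgroup.mem_centralizer_iff.2 fun a ha =>
      (hrA a ha).eq.symm⟩)), hconj⟩⟩
  · rw [hcen]
    refine le_antisymm (sup_le ?_ le_sup_left) (sup_le le_sup_right
      ((Subgroup.zpowers_le.2 ?_).trans le_sup_left))
    · rintro c ⟨-, hc⟩
      have h1 : ∀ a ∈ A, Commute c a := fun a ha =>
        (Subgroup.mem_centralizer_iff.1 hc a (Subgroup.mem_sup_right ha)).symm
      have h2 : ∀ b ∈ R, Commute c b := fun b hb =>
        (Subgroup.mem_centralizer_iff.1 hc b (Subgroup.mem_sup_left hb)).symm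
      rcases hcAR c h1 h2 with e | e
      · exact Subgroup.mem_sup_left e
      · rw [show c = c * z * z⁻¹ by group]
        exact mul_mem (Subgroup.mem_sup_left e)
          (Subgroup.mem_sup_right (inv_mem (Subgroup.mem_zpowers z)))
    · refine Subgroup.mem_inf.2 ⟨hRM hzR, ?_⟩
      rw [Subgroup.sup_eq_closure, Subgroup.centralizer_closure,
        Subgroup.mem_centralizer_iff]
      rintro v (hv | hv)
      exacts [(h.le_cent v (hRQ hv)).eq, (hAz v hv).eq]
  · have hcard : 9 ≤ Nat.card ((R.subgroupOf M).map (QuotientGroup.mk' (A.subgroupOf M))) := by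
      let φ := (QuotientGroup.mk' (A.subgroupOf M)).comp (Subgroup.inclusion hRM)
      have hφ : Function.Injective φ := (injective_iff_map_eq_one φ).2 fun b hb =>
        Subtype.ext (hQA b (hRQ b.2)
          (Subgroup.mem_subgroupOf.1 ((QuotientGroup.eq_one_iff (Subgroup.inclusion hRM b)).1 hb)))
      have e : Nat.card ((R.subgroupOf M).map (QuotientGroup.mk' (A.subgroupOf M))) = Nat.card R := by
        rw [← Subgroup.inclusion_range hRM, ← MonoidHom.range_comp]
        exact (Nat.card_congr (MonoidHom.ofInjective hφ).toEquiv).symm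
      omega
    refine BigExtra.quotient_large h hRQ hQ2 hRM hzR hzA ?_ ?_ ?_ ?_ hcard hgR ?_
      (m := (q * r)⁻¹) ?_ hconj
    · intro m hm he
      obtain ⟨c, hc, a, ha, rfl⟩ := hdec m hm
      have e0 : c * a * z * (c * a)⁻¹ = c * z * c⁻¹ := by
        rw [show c * a * z * (c * a)⁻¹ = c * (a * z * a⁻¹) * c⁻¹ by group, (hAz a ha).eq,
          mul_inv_cancel_right]
      rw [e0] at he
      generalize hk : c * z * c⁻¹ * z⁻¹ = k at he
      have hk1 : c * z * c⁻¹ = k * z := by rw [← hk]; group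
      have hkk : k * k = 1 := by
        have h1 : c * z * c⁻¹ * (c * z * c⁻¹) = 1 := by
          rw [show c * z * c⁻¹ * (c * z * c⁻¹) = c * (z * z) * c⁻¹ by group, h.mul_self]; group
        rwa [hk1, (hAz k he).eq, mul_assoc, ← mul_assoc k z k, (hAz k he).eq, mul_assoc z k k,
          ← mul_assoc z z, h.mul_self, one_mul] at h1
      have hk0 : k = 1 := orderOf_eq_one_iff.1 (Nat.eq_one_of_dvd_coprimes
        hAodd.coprime_two_right (Subgroup.orderOf_dvd_natCard A he)
        (orderOf_dvd_of_pow_eq_one (by rw [sq, hkk])))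
      rw [hk0, one_mul, ← e0] at hk1
      exact mul_inv_eq_iff_eq_mul.1 hk1
    · intro c hc hcz b hb
      refine hmemR _ (h.normal c hcz b (hRQ hb)) fun a ha => ?_
      have ha' : c⁻¹ * a * c ∈ A := Subgroup.mem_subgroupOf.1
        (hn.conj_mem' ⟨a, hAM ha⟩ (Subgroup.mem_subgroupOf.2 ha) ⟨c, hc⟩)
      have := (hRA b hb _ ha').map (MulAut.conj c).toMonoidHom
      simpa [mul_assoc] using this
    · intro b hb hbA hbz
      obtain ⟨p, hp, hpA, hpb⟩ := h.mover_fixed hQ2 hAodd hAz (hRQ hb)
        (fun a ha => (hRA b hb a ha).symm) (fun e => hbA (e ▸ one_mem A))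
        (fun e => hbz (by rw [e, h.mul_self]; exact one_mem A))
      refine ⟨p, hmemR p hp hpA, ?_⟩
      rw [← commutatorElement_inv, commutatorElement_def, hpb, mul_inv_cancel_right, h.inv_eq]
    · intro m hm hmb
      obtain ⟨c, hc, a, ha, rfl⟩ := hdec m hm
      have hcA : ∀ v ∈ A, Commute c v := fun v hv =>
        (Subgroup.mem_centralizer_iff.1 hc v hv).symm
      have hcb : ∀ b ∈ R, Commute c b := by
        intro b hb
        have he := hmb b hb
        rw [commutatorElement_def, show c * a * b * (c * a)⁻¹ = c * (a * b * a⁻¹) * c⁻¹ by group,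
          (hRA b hb a ha).eq.symm, mul_inv_cancel_right] at he
        generalize hk : c * b * c⁻¹ * b⁻¹ = k at he
        have hk1 : c * b * c⁻¹ = k * b := by rw [← hk]; group
        have h4b : ∀ v ∈ Q, v ^ 4 = 1 := fun v hv => by
          rw [show 4 = 2 * 2 from rfl, pow_mul, sq v]
          rcases h.sq v hv with e | e <;> rw [e]
          · rw [one_pow]
          · rw [sq, h.mul_self]
        have hk4 : k ^ 4 = 1 := by
          have h1 : (c * b * c⁻¹) ^ 4 = 1 := by
            rw [conj_pow, h4b b (hRQ hb)]; group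
          rwa [hk1, (hRA b hb k he).symm.mul_pow, h4b b (hRQ hb), mul_one] at h1
        have hk0 : k = 1 := orderOf_eq_one_iff.1 (Nat.eq_one_of_dvd_coprimes
          (hAodd.coprime_two_right.pow_right 2) (Subgroup.orderOf_dvd_natCard A he)
          (orderOf_dvd_of_pow_eq_one (by simpa using hk4)))
        rw [hk0, one_mul] at hk1
        exact mul_inv_eq_iff_eq_mul.1 hk1
      rcases hcAR c hcA hcb with e | e
      · exact .inl (mul_mem e ha)
      · refine .inr ?_
        rw [mul_assoc, (hAz a ha).eq, ← mul_assoc]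
        exact mul_mem e ha
    · intro e
      have := hQA _ (mul_mem (hRQ hgR) h.mem) e
      exact hxz ((eq_inv_of_mul_eq_one_left this).trans h.inv_eq)
    · exact inv_mem (mul_mem (hCM (Subgroup.mem_centralizer_iff.2 fun a ha => (hqA a ha).eq.symm))
        (hCM (Subgroup.mem_centralizer_iff.2 fun a ha => (hrA a ha).eq.symm)))

end Cfsg.Agent.S5428
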