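import Cfsg.Statements.S5429
import Cfsg.Agent.Lib.BigExtra.QuotientLarge

set_option autoImplicit false
open Cfsg

namespace Cfsg.Agent.S5429

/-- Let z be an involution of the finite group G with centralizer C whose generalized Fitting subgroup Q is extraspecial of width at least 3 (order 2^(2w+1), w ≥ 3); let g be an element of G with g z g⁻¹ in Q but outside the centre Z of Q, and t an involution lying in both Q and g Q g⁻¹ that is not conjugate to z; write P for the centralizer of t in Q and suppose that the elements of C acting trivially by conjugation on P modulo the subgroup generated by t and z are exactly the elements of Q. Then the image of P in the centralizer of t modulo the subgroup generated by t is a large extraspecial 2-subgroup there, and g z g⁻¹ is conjugate to z inside the subgroup generated by P and the centralizer of t in g Q g⁻¹. -/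
theorem result {G : Type*} [Group G] [Finite G] (z : G) (hz : orderOf z = 2) (Q : Subgroup G) (hQC : Q ≤ Subgroup.centralizer ({z} : Set G)) (hF : (Cfsg.generalizedFittingSubgroup ↥(Subgroup.centralizer ({z} : Set G))).map (Subgroup.centralizer ({z} : Set G)).subtype = Q) (hQ : Cfsg.IsExtraspecial 2 ↥Q) (w : ℕ) (hw : 3 ≤ w) (hcard : Nat.card ↥Q = 2 ^ (2 * w + 1)) (g : G) (hgQ : g * z * g⁻¹ ∈ Q) (hgZ : g * z * g⁻¹ ∉ ((Subgroup.center ↥Q).map Q.subtype)) (t : G) (ht : orderOf t = 2) (htQ : t ∈ Q ⊓ (Q).map (MulAut.conj g).toMonoidHom) (htz : ¬ IsConj z t) (P : Subgroup G) (hP : P = Q ⊓ Subgroup.centralizer ({t} : Set G)) (hCP : ∀ c ∈ Subgroup.centralizer ({z} : Set G), (∀ x ∈ P, ∃ y ∈ Subgroup.closure ({t, z} : Set G), c * x * c⁻¹ = x * y) ↔ c ∈ Q) [hn : ((Subgroup.zpowers t).subgroupOf (Subgroup.centralizer ({t} : Set G))).Normal] : Cfsg.IsLargeExtraspecial ((P.subgroupOf (Subgroup.centralizer ({t} : Set G))).map (QuotientGroup.mk' ((Subgroup.zpowers t).subgroupOf (Subgroup.centralizer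 ({t} : Set G))))) ∧ ∃ x ∈ P ⊔ ((Q).map (MulAut.conj g).toMonoidHom ⊓ Subgroup.centralizer ({t} : Set G)), x * (g * z * g⁻¹) * x⁻¹ = z := by
  haveI := Fact.mk Nat.prime_two
  obtain ⟨h, hcen⟩ := BigExtra.exData_of_fStar hz hQC hF hQ
  have hQ2 : IsPGroup 2 Q := IsPGroup.of_card hcard
  have h128 : 128 ≤ Nat.card Q := by
    calc 128 = 2 ^ 7 := by norm_num
      _ ≤ Nat.card Q := by rw [hcard]; exact Nat.pow_le_pow_right (by norm_num) (by omega)
  set x := g * z * g⁻¹ with hxdef
  set T := Subgroup.centralizer ({t} : Set G) with hT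
  subst hP
  have hmemT : ∀ {c : G}, Commute c t → c ∈ T := fun hc =>
    Subgroup.mem_centralizer_singleton_iff.2 hc.eq
  have hofT : ∀ {c : G}, c ∈ T → Commute c t := fun hc =>
    Subgroup.mem_centralizer_singleton_iff.1 hc
  have ht2 : t * t = 1 := by rw [← sq, ← ht, pow_orderOf_eq_one]
  have ht1 : t ≠ 1 := fun e => by rw [e, orderOf_one] at ht; omega
  have htne : t ≠ z := fun e => htz (e ▸ IsConj.refl z)
  have htA : ∀ v, v ∈ Subgroup.zpowers t → v = 1 ∨ v = t := fun v hv => by
    obtain ⟨k, rfl⟩ := hv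
    simp only
    rw [← zpow_mod_orderOf, ht]
    rcases Int.emod_two_eq_zero_or_one k with e | e <;> simp [e]
  have htzQ : Commute t z := h.le_cent t htQ.1
  have hx1 : x ≠ 1 := fun e => hgZ (e ▸ one_mem _)
  have hxz : x ≠ z := fun e => hgZ (by rw [e, hcen]; exact Subgroup.mem_zpowers z)
  have hztconj : ¬ IsConj z (t * z) := by
    intro hc
    obtain ⟨q, hq, hqt⟩ := h.mover htQ.1 ht1 htne
    refine htz (hc.trans (isConj_iff.2 ⟨q⁻¹, ?_⟩))
    rw [htzQ.eq, ← hqt]; group
  have hzx : IsConj z x := isConj_iff.2 ⟨g, rfl⟩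
  have hxt : x ≠ t := fun e => htz (e ▸ hzx)
  have hxtz : x ≠ t * z := fun e => hztconj (e ▸ hzx)
  have hzQ' := h.orth (by omega) hgQ hxz
  have h' := h.conj g
  have hxP : x ∈ Q ⊓ T := ⟨hgQ, hmemT (h'.le_cent t htQ.2).symm⟩
  have hzP : z ∈ Q ⊓ T := ⟨h.mem, hmemT htzQ.symm⟩
  obtain ⟨q, hq, hqt, hqx⟩ := h.mover_fixing htQ.1 ht2 ht1 htne hgQ hx1 hxz hxt hxtz
  obtain ⟨r, hr, hrt, hrz⟩ := h'.mover_fixing htQ.2 ht2 ht1 (Ne.symm hxt) hzQ' h.ne_one
    (Ne.symm hxz) (Ne.symm htne) (fun e => by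
      obtain ⟨p, hp, hpt⟩ := h'.mover htQ.2 ht1 (Ne.symm hxt)
      refine htz (isConj_iff.2 ⟨p⁻¹, ?_⟩)
      rw [e, (h'.le_cent t htQ.2).eq, ← hpt]; group)
  have hconj := BigExtra.conj_of_movers h (h.le_cent x hgQ) hq hqx hrz
  refine ⟨?_, (q * r)⁻¹, inv_mem (mul_mem (Subgroup.mem_sup_left ⟨hq, hmemT hqt⟩)
    (Subgroup.mem_sup_right ⟨hr, hmemT hrt⟩)), hconj⟩
  refine BigExtra.quotient_large h inf_le_left hQ2 inf_le_right hzP ?_ ?_ ?_ ?_ ?_ ?_ hxP ?_
    (m := (q * r)⁻¹) (inv_mem (mul_mem (hmemT hqt) (hmemT hrt))) hconj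
  · exact fun e => (htA z e).elim h.ne_one (Ne.symm htne)
  · intro m hm he
    rcases htA _ he with e | e
    · exact mul_inv_eq_iff_eq_mul.1 (mul_inv_eq_one.1 e)
    · exact absurd (isConj_iff.2 ⟨m, mul_inv_eq_iff_eq_mul.1 e⟩) hztconj
  · intro c hc hcz b hb
    exact Subgroup.mem_inf.2 ⟨h.normal c hcz b hb.1, mul_mem (mul_mem hc hb.2) (inv_mem hc)⟩
  · intro b hb hbA hbz
    obtain ⟨p, hp, hpt, hpb⟩ := h.mover_fixing htQ.1 ht2 ht1 htne hb.1
      (fun e => hbA (e ▸ one_mem _))
      (fun e => hbz (by rw [e, h.mul_self]; exact one_mem _))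
      (fun e => hbA (e ▸ Subgroup.mem_zpowers t))
      (fun e => hbz (by rw [e, mul_assoc, h.mul_self, mul_one]; exact Subgroup.mem_zpowers t))
    refine ⟨p, ⟨hp, hmemT hpt⟩, ?_⟩
    rw [← commutatorElement_inv, commutatorElement_def, hpb, mul_inv_cancel_right, h.inv_eq]
  · intro m hm hmb
    have hmz : Commute m z := by
      have he := hmb z hzP
      rw [commutatorElement_def] at he
      rcases htA _ he with e | e
      · exact mul_inv_eq_iff_eq_mul.1 (mul_inv_eq_one.1 e)
      · exact absurd (isConj_iff.2 ⟨m, mul_inv_eq_iff_eq_mul.1 e⟩) hztconj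
    have hmQ : m ∈ Q := by
      refine (hCP m (Subgroup.mem_centralizer_singleton_iff.2 hmz.eq)).1 fun b hb => ?_
      have he := hmb b hb
      rw [commutatorElement_def] at he
      rcases htA _ he with e | e
      · exact ⟨1, one_mem _, by rw [mul_one]; exact mul_inv_eq_one.1 e⟩
      · refine ⟨t, Subgroup.subset_closure (by simp), ?_⟩
        rw [mul_inv_eq_iff_eq_mul.1 e]
        exact (hofT hb.2).eq.symm
    have hperp : ∀ p ∈ Q, Commute p t → Commute m p := by
      intro p hp hpt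
      have he := hmb p ⟨hp, hmemT hpt⟩
      refine commutatorElement_eq_one_iff_commute.1 ((h.comm m hmQ p hp).resolve_right fun e => ?_)
      rw [e] at he
      exact (htA z he).elim h.ne_one (Ne.symm htne)
    rcases h.centralizer_perp htQ.1 ht2 ht1 htne hmQ hperp with e | e | e | e <;> rw [e]
    · exact .inl (one_mem _)
    · exact .inr (by rw [h.mul_self]; exact one_mem _)
    · exact .inl (Subgroup.mem_zpowers t)
    · exact .inr (by rw [mul_assoc, h.mul_self, mul_one]; exact Subgroup.mem_zpowers t)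
  · have h1 := BigExtra.card_le_two_mul_perp h htQ.1 ht1 htne
    have h2 := BigExtra.card_le_mul_map (A := Subgroup.zpowers t) (M := T) (R := Q ⊓ T) inf_le_right
    rw [Nat.card_zpowers, ht] at h2
    simp only [T, BigExtra.perpIn] at h1 h2 ⊢
    omega
  · intro e
    rcases htA _ e with e | e
    · exact hxz ((eq_inv_of_mul_eq_one_left e).trans h.inv_eq)
    · exact hxtz (by rw [← e, mul_assoc, h.mul_self, mul_one])

end Cfsg.Agent.S5429
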