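import Cfsg.Statements.S5431
import Cfsg.Agent.Lib.BigExtra.Radical

set_option autoImplicit false
open Cfsg

namespace Cfsg.Agent.S5431

/-- Let Q be a large extraspecial 2-subgroup of the finite group G (extraspecial; centralizer equal to its centre; normal in the centralizer of its centre; normalizing no non-trivial subgroup of odd order) with centre generated by z, an involution, of width w ≥ 2 (order 2^(2w+1)); let g be an element outside the centralizer H of z with g z g⁻¹ in Q; write V for the subgroup generated by z and g z g⁻¹, X for the subgroup generated by Q and g Q g⁻¹, R for the subgroup generated by the centralizer of z in g Q g⁻¹ and the centralizer of g z g⁻¹ in Q, and E for the intersection of Q and g Q g⁻¹. Then V is the centre of R, E lies in the second centre of R, R is nilpotent of class at most 3, E and R/E are elementary abelian, R/E is the direct product of the images of the centralizer of g z g⁻¹ in Q and of the centralizer of z in g Q g⁻¹ (R is their product and they meet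 in E), and the commutator subgroup of X and E lies in V. -/
theorem result {G : Type*} [Group G] [Finite G] (Q : Subgroup G) (hQ : Cfsg.IsLargeExtraspecial Q) (z : G) (hz : ((Subgroup.center ↥Q).map Q.subtype) = Subgroup.zpowers z) (hz2 : orderOf z = 2) (w : ℕ) (hw : 2 ≤ w) (hcard : Nat.card ↥Q = 2 ^ (2 * w + 1)) (g : G) (hgH : g ∉ Subgroup.centralizer ({z} : Set G)) (hgQ : g * z * g⁻¹ ∈ Q) (V X R E : Subgroup G) (hV : V = Subgroup.closure ({z, g * z * g⁻¹} : Set G)) (hX : X = Q ⊔ (Q).map (MulAut.conj g).toMonoidHom) (hR : R = ((Q).map (MulAut.conj g).toMonoidHom ⊓ Subgroup.centralizer ({z} : Set G)) ⊔ (Q ⊓ Subgroup.centralizer ({g * z * g⁻¹} : Set G))) (hE : E = Q ⊓ (Q).map (MulAut.conj g).toMonoidHom) : (Subgroup.center ↥R).map R.subtype = V ∧ E ≤ (Subgroup.upperCentralSeries ↥R 2).map R.subtype ∧ Subgroup.upperCentralSeries ↥R 3 = ⊤ ∧ Cfsg.IsElementaryAbelian 2 E ∧ (∀ x ∈ R, ∀ y ∈ R, x * y * x⁻¹ * y⁻¹ ∈ E ∧ x ^ 2 ∈ E) ∧ ((Q).map (MulAut.conj g).toMonoidHom ⊓ Subgroup.centralizer ({z} : Set G)) ⊓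 (Q ⊓ Subgroup.centralizer ({g * z * g⁻¹} : Set G)) = E ∧ ⁅X, E⁆ ≤ V := by
  have d := BigExtra.four_of_large hQ hz hw hcard hgH hgQ
  subst hV hX hR hE
  set R := BigExtra.radR Q (Q.map (MulAut.conj g).toMonoidHom) z (g * z * g⁻¹)
  have hc := d.center_radR
  have hV1 : ∀ t : R, (t : G) ∈ BigExtra.fourV z (g * z * g⁻¹) →
      t ∈ Subgroup.upperCentralSeries R 1 := by
    intro t ht
    rw [Subgroup.upperCentralSeries_one]
    rw [← hc] at ht
    obtain ⟨s, hs, hst⟩ := ht
    exact Subtype.ext hst ▸ hs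
  have hE2 : ∀ t : R, (t : G) ∈ Q ⊓ Q.map (MulAut.conj g).toMonoidHom →
      t ∈ Subgroup.upperCentralSeries R 2 := fun t ht =>
    Subgroup.mem_upperCentralSeries_succ_iff.2 fun y => hV1 _ (by
      rw [← commutatorElement_inv]
      have := inv_mem (d.commutator_inter (d.radR_le_sup y.2) ht)
      simpa [commutatorElement_def, mul_assoc] using this)
  refine ⟨hc, fun a ha => ?_, ?_, ?_, fun x hx y hy => ⟨?_, ?_⟩, d.inter_eq, ?_⟩
  · have haR : a ∈ R := Subgroup.mem_sup_left (d.inter_eq.ge ha).1
    exact ⟨⟨a, haR⟩, hE2 _ ha, rfl⟩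
  · refine eq_top_iff.2 fun t _ => Subgroup.mem_upperCentralSeries_succ_iff.2 fun y => hE2 _ ?_
    have := d.commutator_radR t.2 y.2
    exact this
  · exact ⟨⟨⟨fun a b => Subtype.ext (d.inter_comm a.2 b.2).eq⟩⟩,
      fun a ha => by rw [sq]; exact d.inter_sq ha⟩
  · exact d.commutator_radR hx hy
  · rw [sq]; exact d.sq_radR hx
  · exact Subgroup.commutator_le.2 fun u hu a ha => d.commutator_inter hu ha

end Cfsg.Agent.S5431
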