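import Cfsg.Statements.S5432
import Cfsg.Agent.Lib.BigExtra.OutModel
import Cfsg.Agent.Lib.Invol.ExtraspecialModel

set_option autoImplicit false
open Cfsg
open scoped Matrix

namespace Cfsg.Agent.S5432

open Invol.ExtraspecialModel

theorem model_plus (k : ℕ) :
    Nonempty (Cfsg.Out (Tw k 0) ≃* Cfsg.isometryGroup (ZMod 2) (Cfsg.quadFormPlus (k + 1) (ZMod 2))) := by
  let M : BigExtra.TwistModel (Tw k 0) (Fin (k + 1) ⊕ Fin (k + 1)) :=
    { e := Tw.equivProd.trans ((Equiv.prodAssoc _ _ _).symm.trans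
        ((Equiv.sumArrowEquivProdArrow _ _ _).symm.prodCongr (Equiv.refl _)))
      B := Matrix.fromBlocks 0 1 0 0
      e_mul := fun g h => by
        refine Prod.ext ?_ ?_
        · funext i; cases i <;> rfl
        · simp [Tw.equivProd, Matrix.fromBlocks_mulVec, Equiv.sumArrowEquivProdArrow, dotProduct,
            Fintype.sum_sum_type]
      polar_sq := by
        rw [Matrix.fromBlocks_transpose, Matrix.fromBlocks_add, Matrix.fromBlocks_multiply,
          ← Matrix.fromBlocks_one]
        simp }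
  have hform : M.form = Cfsg.quadFormPlus (k + 1) (ZMod 2) := by
    funext v
    simp [M, BigExtra.TwistModel.form, Cfsg.quadFormPlus, Matrix.fromBlocks_mulVec, dotProduct,
      Fintype.sum_sum_type]
  exact hform ▸ M.out_iso

theorem model_minus (k : ℕ) :
    Nonempty (Cfsg.Out (Tw k 1) ≃* Cfsg.isometryGroup (ZMod 2) (Cfsg.quadFormMinus k (ZMod 2) 1 1)) := by
  let J : (Fin (k + 1) → ZMod 2) × (Fin (k + 1) → ZMod 2) ≃ ((Fin k ⊕ Fin k) ⊕ Fin 2 → ZMod 2) :=
    { toFun := fun p => Sum.elim (Sum.elim (Fin.tail p.1) (Fin.tail p.2)) ![p.1 0, p.2 0]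
      invFun := fun v => (Fin.cons (v (.inr 0)) fun i => v (.inl (.inl i)),
        Fin.cons (v (.inr 1)) fun i => v (.inl (.inr i)))
      left_inv := fun p => Prod.ext (Fin.cons_self_tail _) (Fin.cons_self_tail _)
      right_inv := fun v => by
        funext i
        rcases i with (i | i) | i
        · simp
        · simp
        · fin_cases i <;> simp }
  let M : BigExtra.TwistModel (Tw k 1) ((Fin k ⊕ Fin k) ⊕ Fin 2) :=
    { e := Tw.equivProd.trans ((Equiv.prodAssoc _ _ _).symm.trans (J.prodCongr (Equiv.refl _)))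
      B := Matrix.fromBlocks (Matrix.fromBlocks 0 1 0 0) 0 0 !![1, 1; 0, 1]
      e_mul := fun g h => by
        refine Prod.ext ?_ ?_
        · funext i
          rcases i with (i | i) | i
          · rfl
          · rfl
          · fin_cases i <;> rfl
        · simp [Tw.equivProd, J, Matrix.fromBlocks_mulVec, dotProduct, Fintype.sum_sum_type,
            Fin.sum_univ_succ, Fin.tail, Matrix.mulVec, Matrix.one_apply]
          ring
      polar_sq := by
        rw [Matrix.fromBlocks_transpose, Matrix.fromBlocks_transpose, Matrix.fromBlocks_add,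
          Matrix.fromBlocks_add, Matrix.fromBlocks_multiply, ← Matrix.fromBlocks_one]
        have h2 : (!![1, 1; 0, 1] + (!![1, 1; 0, 1] : Matrix (Fin 2) (Fin 2) (ZMod 2))ᵀ) *
            (!![1, 1; 0, 1] + (!![1, 1; 0, 1] : Matrix (Fin 2) (Fin 2) (ZMod 2))ᵀ) = 1 := by decide
        simp [Matrix.fromBlocks_multiply, h2, Matrix.fromBlocks_one] }
  have hform : M.form = Cfsg.quadFormMinus k (ZMod 2) 1 1 := by
    funext v
    simp [M, BigExtra.TwistModel.form, Cfsg.quadFormMinus, Matrix.fromBlocks_mulVec, dotProduct,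
      Fintype.sum_sum_type, Matrix.mulVec, Fin.sum_univ_succ, Matrix.one_apply, pow_two,
      (by decide : ∀ x : ZMod 2, x * x = x)]
    ring_nf
    simp [(by decide : ∀ x : ZMod 2, x ^ 2 = x), add_comm]
  exact hform ▸ M.out_iso

theorem out_congr {E F : Type*} [Group E] [Group F] (φ : E ≃* F) :
    Nonempty (Cfsg.Out E ≃* Cfsg.Out F) := by
  refine ⟨QuotientGroup.congr _ _ (MulAut.congr φ) ?_⟩
  ext a
  constructor
  · rintro ⟨_, ⟨g, rfl⟩, rfl⟩
    refine ⟨φ g, MulEquiv.ext fun x => ?_⟩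
    simp
  · rintro ⟨g, rfl⟩
    refine ⟨MulAut.conj (φ.symm g), ⟨_, rfl⟩, MulEquiv.ext fun x => ?_⟩
    simp

/-- Let E be an extraspecial 2-group of order 2^(2n+1), n ≥ 1. If E contains an elementary abelian subgroup of order 2^(n+1) (plus type), then its outer automorphism group is isomorphic to the full isometry group of the hyperbolic quadratic form in dimension 2n over the field with two elements; otherwise (minus type) it is isomorphic to the full isometry group of the elliptic quadratic form in dimension 2n over that field. -/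
theorem result {E : Type*} [Group E] [Finite E] (hE : Cfsg.IsExtraspecial 2 E) (n : ℕ) (hn : 1 ≤ n) (hcard : Nat.card E = 2 ^ (2 * n + 1)) : ((∃ A : Subgroup E, Cfsg.IsElementaryAbelian 2 A ∧ Nat.card ↥A = 2 ^ (n + 1)) → Nonempty (Cfsg.Out E ≃* Cfsg.isometryGroup (ZMod 2) (Cfsg.quadFormPlus n (ZMod 2)))) ∧ ((¬ ∃ A : Subgroup E, Cfsg.IsElementaryAbelian 2 A ∧ Nat.card ↥A = 2 ^ (n + 1)) → Nonempty (Cfsg.Out E ≃* Cfsg.isometryGroup (ZMod 2) (Cfsg.quadFormMinus (n - 1) (ZMod 2) 1 1))) := by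
  haveI := Fact.mk Nat.prime_two
  obtain ⟨k, rfl⟩ : ∃ k, n = k + 1 := ⟨n - 1, by omega⟩
  obtain ⟨z, h⟩ := Invol.ExtraPairs.pre_of_extraspecial hE
  have hT : ∀ ε : ZMod 2, Nat.card (Tw k ε) = 2 ^ (2 * (k + 1) + 1) := fun ε => Tw.card
  constructor
  · rintro ⟨A, hA, hAc⟩
    obtain ⟨A', hA', hAc'⟩ := (Tw.exists_plus : ∃ A : Subgroup (Tw k 0), _)
    obtain ⟨φ⟩ := Invol.ExtraspecialClass.iso_two hE Tw.extraspecial (hcard.trans (hT 0).symm)
      ((Invol.ExtraspecialClass.cnt_of_elementary h hcard hA hAc).trans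
        (Invol.ExtraspecialClass.cnt_of_elementary Tw.pre (hT 0) hA' hAc').symm)
    obtain ⟨e1⟩ := out_congr φ
    obtain ⟨e2⟩ := model_plus k
    exact ⟨e1.trans e2⟩
  · intro hno
    rcases Invol.ExtraspecialClass.classify (k + 1) E z h hcard with ⟨-, hA⟩ | ⟨-, hc, -⟩
    · exact absurd hA hno
    have hc' : Invol.ExtraspecialClass.cnt (Tw k 1) + 2 ^ (k + 1) = 2 ^ (2 * (k + 1)) := Tw.cnt_minus
    obtain ⟨φ⟩ := Invol.ExtraspecialClass.iso_two hE Tw.extraspecial (hcard.trans (hT 1).symm)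
      (by omega)
    obtain ⟨e1⟩ := out_congr φ
    obtain ⟨e2⟩ := model_minus k
    exact ⟨e1.trans e2⟩

end Cfsg.Agent.S5432
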