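import Cfsg.Statements.S5433
import Cfsg.Agent.Lib.Invol.LargeExtra
-- import your own Cfsg.Agent.* helpers here

set_option autoImplicit false
open Cfsg

namespace Cfsg.Agent.S5433

/-- Let Q be a large extraspecial 2-subgroup of the finite group G (extraspecial; centralizer equal to its centre; normal in the centralizer of its centre; normalizing no non-trivial subgroup of odd order), and L a normal subgroup of G containing Q. Then G is the product of L and the normalizer of Q. -/
theorem result {G : Type*} [Group G] [Finite G] (Q : Subgroup G) (hQ : Cfsg.IsLargeExtraspecial Q) (L : Subgroup G) [L.Normal] (hQL : Q ≤ L) : L ⊔ Subgroup.normalizer (Q : Set G) = ⊤ := by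
  haveI := Fact.mk Nat.prime_two
  obtain ⟨hex, hC, hN, -⟩ := hQ
  obtain ⟨z, hz2, hzQ, hZeq, hzc, -⟩ := Cfsg.Agent.Invol.LargeExtra.exists_gen hex
  obtain ⟨S, hS⟩ := (hex.1.1.comap_subtype (K := L)).exists_le_sylow
  set S' := (S : Subgroup L).map L.subtype with hS'
  have hQS : Q ≤ S' := fun q hq => ⟨⟨q, hQL hq⟩, hS (show q ∈ Q from hq), rfl⟩
  have hfr : Subgroup.normalizer (S' : Set G) ⊔ L = ⊤ := Sylow.normalizer_sup_eq_top S
  have hmem : ∀ w : G, (∀ q ∈ Q, q * w = w * q) → w ∈ Subgroup.zpowers z := fun w hw => by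
    rw [← hZeq, ← hC]; exact Subgroup.mem_centralizer_iff.2 hw
  have hzord : ∀ w ∈ Subgroup.zpowers z, w = 1 ∨ w = z := by
    have hzz := Cfsg.Agent.Invol.mul_self_of_orderOf_two hz2
    rintro _ ⟨i, rfl⟩
    rcases Int.even_or_odd i with ⟨j, rfl⟩ | ⟨j, rfl⟩
    · left; show z ^ (j + j) = 1
      rw [← two_mul, zpow_mul, zpow_two, hzz, one_zpow]
    · right; show z ^ (2 * j + 1) = z
      rw [zpow_add, zpow_mul, zpow_two, hzz, one_zpow, one_mul, zpow_one]
  have hzS : ∀ s ∈ S', s * z = z * s := by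
    haveI : Nontrivial (S : Subgroup L) := by
      refine Subgroup.nontrivial_iff_ne_bot _ |>.2 fun h => ?_
      have h1 : (⟨z, hQL hzQ⟩ : L) ∈ (⊥ : Subgroup L) := h ▸ hS (show z ∈ Q from hzQ)
      rw [Subgroup.mem_bot] at h1
      rw [show z = 1 from congrArg Subtype.val h1, orderOf_one] at hz2
      omega
    haveI := S.isPGroup'.center_nontrivial
    obtain ⟨⟨w, hw⟩, hw1⟩ := exists_ne (1 : Subgroup.center (S : Subgroup L))
    have hwS : ∀ s ∈ S', s * ((w : L) : G) = ((w : L) : G) * s := by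
      rintro _ ⟨s, hs, rfl⟩
      exact congrArg (fun u : (S : Subgroup L) => ((u : L) : G)) (Subgroup.mem_center_iff.1 hw ⟨s, hs⟩)
    rcases hzord _ (hmem _ fun q hq => hwS q (hQS hq)) with h | h
    · exact absurd (Subtype.ext (Subtype.ext (Subtype.ext h))) hw1
    · rw [← h]; exact hwS
  refine top_le_iff.1 (hfr.ge.trans (sup_le (fun g hg => Subgroup.mem_sup_right (hN ?_)) le_sup_left))
  rw [hZeq, Subgroup.mem_centralizer_iff]
  have hgz : g * z * g⁻¹ = z := by
    have h1 : ∀ q ∈ Q, q * (g * z * g⁻¹) = (g * z * g⁻¹) * q := by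
      intro q hq
      have h2 : g⁻¹ * q * g ∈ S' := by
        have := (Subgroup.mem_normalizer_iff.1 (inv_mem hg) q).1 (hQS hq)
        rwa [inv_inv] at this
      calc q * (g * z * g⁻¹) = g * ((g⁻¹ * q * g) * z) * g⁻¹ := by group
        _ = g * (z * (g⁻¹ * q * g)) * g⁻¹ := by rw [hzS _ h2]
        _ = (g * z * g⁻¹) * q := by group
    rcases hzord _ (hmem _ h1) with h | h
    · rw [conj_eq_one_iff] at h
      rw [h, orderOf_one] at hz2
      omega
    · exact h
  rintro _ ⟨i, rfl⟩
  exact ((show Commute z g from (mul_inv_eq_iff_eq_mul.1 hgz).symm).zpow_left i).eq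

end Cfsg.Agent.S5433
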