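import Cfsg.Statements.S5434
import Cfsg.Agent.Lib.Invol.ExtraPairs
import Cfsg.Agent.Lib.Invol.LargeExtra
import Cfsg.Agent.Lib.Basics.CoprimeAction
-- import your own Cfsg.Agent.* helpers here

set_option autoImplicit false
open Cfsg

namespace Cfsg.Agent.S5434

open Subgroup in
open scoped commutatorElement in
/-- A subgroup `S` of `Q` through `z` whose centre is `⟨z⟩` is extraspecial. -/
theorem sub_extraspecial {G : Type*} [Group G] [Finite G] {Q S : Subgroup G} {z : G} (hSQ : S ≤ Q)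
    (hz : orderOf z = 2) (hzS : z ∈ S) (hzc : ∀ q ∈ Q, q * z = z * q)
    (hcomm : ∀ a ∈ Q, ∀ b ∈ Q, ⁅a, b⁆ ∈ zpowers z) (hsq : ∀ a ∈ Q, a ^ 2 ∈ zpowers z)
    (hcen : ∀ s ∈ S, (∀ t ∈ S, t * s = s * t) → s ∈ zpowers z) (hne : S ≠ zpowers z) :
    Cfsg.IsExtraspecial 2 S := by
  haveI := Fact.mk Nat.prime_two
  have hmem : ∀ s : S, (s : G) ∈ zpowers z → s ∈ zpowers (⟨z, hzS⟩ : S) := by
    rintro s ⟨i, hi⟩
    exact ⟨i, Subtype.ext (by simpa using hi)⟩
  have hpre : Cfsg.Agent.Invol.ExtraPairs.Pre 2 S ⟨z, hzS⟩ :=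
    { ordz := by rw [Subgroup.orderOf_mk, hz]
      center_eq := by
        ext s
        constructor
        · intro hs
          exact hmem s (hcen s s.2 fun t ht => congrArg Subtype.val (mem_center_iff.1 hs ⟨t, ht⟩))
        · rintro ⟨i, rfl⟩
          refine zpow_mem (mem_center_iff.2 fun t => Subtype.ext ?_) i
          exact hzc t (hSQ t.2)
      comm_mem := fun a b => hmem _ (by simpa [commutatorElement_def] using hcomm a (hSQ a.2) b (hSQ b.2))
      pow_mem := fun a => hmem _ (by simpa using hsq a (hSQ a.2)) }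
  refine hpre.extraspecial fun h => hne ?_
  refine (Subgroup.eq_of_le_of_card_ge (zpowers_le.2 hzS) ?_).symm
  rw [h, Nat.card_zpowers, hz]

/-- Let Q be a large extraspecial 2-subgroup of the finite group G (extraspecial; centralizer equal to its centre; normal in the centralizer of its centre; normalizing no non-trivial subgroup of odd order), and A a non-trivial subgroup of odd order of the normalizer of Q. Then Q is the central product of the centralizer of A in Q and the commutator subgroup [Q, A] (they generate Q and commute elementwise), [Q, A] is extraspecial, and the centralizer of A in Q is either the centre of Q or extraspecial. -/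
theorem result {G : Type*} [Group G] [Finite G] (Q : Subgroup G) (hQ : Cfsg.IsLargeExtraspecial Q) (A : Subgroup G) (hA : A ≤ Subgroup.normalizer (Q : Set G)) (hAodd : Odd (Nat.card ↥A)) (hA1 : A ≠ ⊥) : (Q ⊓ Subgroup.centralizer (A : Set G)) ⊔ ⁅Q, A⁆ = Q ∧ (∀ x ∈ Q ⊓ Subgroup.centralizer (A : Set G), ∀ y ∈ ⁅Q, A⁆, x * y = y * x) ∧ Cfsg.IsExtraspecial 2 ↥⁅Q, A⁆ ∧ (Q ⊓ Subgroup.centralizer (A : Set G) = ((Subgroup.center ↥Q).map Q.subtype) ∨ Cfsg.IsExtraspecial 2 ↥(Q ⊓ Subgroup.centralizer (A : Set G))) := by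
  open Subgroup in
  open scoped commutatorElement in
  haveI := Fact.mk Nat.prime_two
  obtain ⟨z, hz2, hzQ, hZeq, hzc, hpair⟩ := Cfsg.Agent.Invol.LargeExtra.exists_gen hQ.1
  obtain ⟨⟨z0, hz0⟩, hpre⟩ := Cfsg.Agent.Invol.ExtraPairs.pre_of_extraspecial hQ.1
  have hz0eq : Subgroup.zpowers z0 = Subgroup.zpowers z := by
    rw [← hZeq, hpre.center_eq, MonoidHom.map_zpowers]; rfl
  have hcomm : ∀ a ∈ Q, ∀ b ∈ Q, a * b * a⁻¹ * b⁻¹ ∈ Subgroup.zpowers z := by
    intro a ha b hb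
    rw [← hz0eq]
    obtain ⟨i, hi⟩ := hpre.comm_mem ⟨a, ha⟩ ⟨b, hb⟩
    exact ⟨i, by simpa [commutatorElement_def] using congrArg Subtype.val hi⟩
  have hsq : ∀ a ∈ Q, a ^ 2 ∈ Subgroup.zpowers z := by
    intro a ha
    rw [← hz0eq]
    obtain ⟨i, hi⟩ := hpre.pow_mem ⟨a, ha⟩
    exact ⟨i, by simpa using congrArg Subtype.val hi⟩
  have hQ2 : IsPGroup 2 Q := hQ.1.1.1
  have hcop : (Nat.card A).Coprime (Nat.card Q) := by
    obtain ⟨k, hk⟩ := IsPGroup.iff_card.1 hQ2
    rw [hk]; exact hAodd.coprime_two_right.pow_right k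
  have hsolv : Group.IsSolvable A ∨ Group.IsSolvable Q :=
    Or.inr (haveI := hQ2.isNilpotent; inferInstance)
  have hcQ : Subgroup.centralizer (Q : Set G) = Subgroup.zpowers z := hQ.2.1.trans hZeq
  have hzA : ∀ a ∈ A, a * z = z * a := by
    intro a ha
    have hmem : a * z * a⁻¹ ∈ Subgroup.centralizer (Q : Set G) := by
      rw [Subgroup.mem_centralizer_iff]
      intro q hq
      have h1 := hzc _ ((Subgroup.mem_normalizer_iff.1 (hA (inv_mem ha)) q).1 hq)
      rw [inv_inv] at h1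
      calc q * (a * z * a⁻¹) = a * ((a⁻¹ * q * a) * z) * a⁻¹ := by group
        _ = a * (z * (a⁻¹ * q * a)) * a⁻¹ := by rw [h1]
        _ = a * z * a⁻¹ * q := by group
    rw [hcQ] at hmem
    obtain ⟨i, hi⟩ := hmem
    rcases Int.even_or_odd i with ⟨k, hk⟩ | ⟨k, hk⟩
    · exfalso
      have h1 : z ^ i = 1 := by
        rw [hk, ← two_mul, zpow_mul, zpow_ofNat, show z ^ 2 = 1 from hz2 ▸ pow_orderOf_eq_one z, one_zpow]
      have h2 : a * z * a⁻¹ = 1 := by rw [← hi]; exact h1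
      rw [mul_inv_eq_one, mul_eq_left] at h2
      rw [h2, orderOf_one] at hz2; omega
    · have h1 : z ^ i = z := by
        rw [hk, zpow_add, zpow_one, zpow_mul, zpow_ofNat, show z ^ 2 = 1 from hz2 ▸ pow_orderOf_eq_one z, one_zpow, one_mul]
      exact mul_inv_eq_iff_eq_mul.1 (hi.symm.trans h1)
  set C := Q ⊓ Subgroup.centralizer (A : Set G) with hC
  set D := ⁅Q, A⁆ with hD
  have hDQ : D ≤ Q := Subgroup.le_normalizer_iff_commutator_le_left.mp hA
  have hgen : C ⊔ D = Q := by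
    rw [sup_comm]; exact Cfsg.Agent.Basics.commutator_sup_inf_centralizer A Q hA hcop hsolv
  have hzA' : Subgroup.zpowers z ≤ Subgroup.centralizer (A : Set G) :=
    Subgroup.zpowers_le.2 (Subgroup.mem_centralizer_iff.2 fun a ha => hzA a ha)
  have hQQ : ⁅Q, Q⁆ ≤ Subgroup.zpowers z := Subgroup.commutator_le.2 fun a ha b hb => by
    rw [commutatorElement_def]; exact hcomm a ha b hb
  have hDC : ⁅D, C⁆ = ⊥ := by
    apply Subgroup.commutator_commutator_eq_bot_of_rotate
    · rw [Subgroup.commutator_eq_bot_iff_le_centralizer.2 (Subgroup.le_centralizer_iff.1 inf_le_right),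
        Subgroup.commutator_bot_left]
    · rw [Subgroup.commutator_eq_bot_iff_le_centralizer]
      exact ((Subgroup.commutator_mono inf_le_left le_rfl).trans hQQ).trans hzA'
  have hDcen : D ≤ Subgroup.centralizer (C : Set G) := Subgroup.commutator_eq_bot_iff_le_centralizer.1 hDC
  have hcd : ∀ x ∈ C, ∀ y ∈ D, x * y = y * x := fun x hx y hy =>
    Subgroup.mem_centralizer_iff.1 (hDcen hy) x hx
  have hzC : z ∈ C := ⟨hzQ, hzA' (Subgroup.mem_zpowers z)⟩
  have hDne : ¬ D ≤ Subgroup.zpowers z := by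
    intro h
    have h1 : ⁅⁅Q, A⁆, A⁆ = ⊥ := Subgroup.commutator_eq_bot_iff_le_centralizer.2 (h.trans hzA')
    have h2 := Cfsg.Agent.Basics.le_centralizer_of_commutator_commutator_eq_bot A Q hA hcop hsolv h1
    refine hA1 ((Subgroup.eq_bot_iff_forall _).2 fun a ha => ?_)
    exact Cfsg.Agent.Invol.LargeExtra.one_of_odd_of_two hAodd hQ2 ha
      ((Subgroup.zpowers_le.2 hzQ) (hcQ ▸ h2 ha))
  have hcenS : ∀ S T : Subgroup G, S ≤ Q → S ⊔ T = Q → (∀ x ∈ S, ∀ y ∈ T, y * x = x * y) →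
      ∀ s ∈ S, (∀ t ∈ S, t * s = s * t) → s ∈ Subgroup.zpowers z := by
    intro S T hS hST hxy s hs hcs
    rw [← hcQ]
    have : Q ≤ Subgroup.centralizer ({s} : Set G) := by
      rw [← hST]
      exact sup_le (fun t ht => Subgroup.mem_centralizer_singleton_iff.2 (hcs t ht))
        (fun t ht => Subgroup.mem_centralizer_singleton_iff.2 (hxy s hs t ht))
    exact Subgroup.mem_centralizer_iff.2 fun q hq => Subgroup.mem_centralizer_singleton_iff.1 (this hq)
  have hDnab : ¬ ∀ a ∈ D, ∀ b ∈ D, a * b = b * a := fun h =>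
    hDne fun d hd => hcenS D C hDQ (sup_comm D C ▸ hgen) (fun x hx y hy => hcd y hy x hx) d hd
      (fun t ht => h t ht d hd)
  have hzD : z ∈ D := by
    push Not at hDnab
    obtain ⟨a, ha, b, hb, hab⟩ := hDnab
    have hmem := hcomm a (hDQ ha) b (hDQ hb)
    have hmemD : a * b * a⁻¹ * b⁻¹ ∈ D := mul_mem (mul_mem (mul_mem ha hb) (inv_mem ha)) (inv_mem hb)
    obtain ⟨i, hi⟩ := hmem
    rcases Int.even_or_odd i with ⟨k, hk⟩ | ⟨k, hk⟩
    · exfalso
      have h1 : z ^ i = 1 := by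
        rw [hk, ← two_mul, zpow_mul, zpow_ofNat, show z ^ 2 = 1 from hz2 ▸ pow_orderOf_eq_one z, one_zpow]
      have h2 : a * b * a⁻¹ * b⁻¹ = 1 := hi.symm.trans h1
      exact hab (by rwa [mul_inv_eq_one, mul_inv_eq_iff_eq_mul] at h2)
    · have h1 : z ^ i = z := by
        rw [hk, zpow_add, zpow_one, zpow_mul, zpow_ofNat, show z ^ 2 = 1 from hz2 ▸ pow_orderOf_eq_one z, one_zpow, one_mul]
      rwa [show a * b * a⁻¹ * b⁻¹ = z from hi.symm.trans h1] at hmemD
  have hcomm' : ∀ a ∈ Q, ∀ b ∈ Q, ⁅a, b⁆ ∈ Subgroup.zpowers z := fun a ha b hb => by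
    rw [commutatorElement_def]; exact hcomm a ha b hb
  refine ⟨hgen, hcd, ?_, ?_⟩
  · exact sub_extraspecial hDQ hz2 hzD hzc hcomm' hsq
      (hcenS D C hDQ (sup_comm D C ▸ hgen) fun x hx y hy => hcd y hy x hx) (fun h => hDne h.le)
  · rcases eq_or_ne C (Subgroup.zpowers z) with h | h
    · exact Or.inl (h.trans hZeq.symm)
    · exact Or.inr (sub_extraspecial inf_le_left hz2 hzC hzc hcomm' hsq
        (hcenS C D inf_le_left hgen fun x hx y hy => (hcd x hx y hy).symm) h)

end Cfsg.Agent.S5434
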