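import Cfsg.Statements.S5435
import Cfsg.Agent.S4216
import Cfsg.Agent.Lib.Invol.Dihedral
import Cfsg.Agent.Lib.Basics.Frattini
-- import your own Cfsg.Agent.* helpers here

set_option autoImplicit false
open Cfsg

namespace Cfsg.Agent.S5435

/-- Let L be a finite non-abelian simple group with an involution z whose centralizer R is a Sylow 2-subgroup of L whose Frattini subgroup is the subgroup generated by z. Then R is dihedral of order 8. -/
theorem result {L : Type*} [Group L] [Finite L] [IsSimpleGroup L] (hL : ¬ IsMulCommutative L) (z : L) (hz : orderOf z = 2) (R : Sylow 2 L) (hR : (R : Subgroup L) = Subgroup.centralizer ({z} : Set L)) (hΦ : (frattini ↥(R : Subgroup L)).map (R : Subgroup L).subtype = Subgroup.zpowers z) : Nonempty (↥(R : Subgroup L) ≃* DihedralGroup 4) := by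
  open Subgroup in
  open scoped commutatorElement in
  classical
  haveI := Fact.mk Nat.prime_two
  have hz2 : z * z = 1 := Cfsg.Agent.Invol.mul_self_of_orderOf_two hz
  have hzne : z ≠ 1 := fun h => by rw [h, orderOf_one] at hz; omega
  have hmemz : ∀ x, x ∈ Subgroup.zpowers z → x = 1 ∨ x = z := by
    rintro x ⟨k, rfl⟩
    rcases Int.even_or_odd k with ⟨j, rfl⟩ | ⟨j, rfl⟩
    · left; show z ^ (j + j) = 1
      rw [← two_mul, zpow_mul, zpow_two, hz2, one_zpow]
    · right; show z ^ (2 * j + 1) = z
      rw [zpow_add, zpow_mul, zpow_two, hz2, one_zpow, one_mul, zpow_one]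
  set S : Subgroup L := (R : Subgroup L) with hS
  haveI hnil : Group.IsNilpotent S := R.isPGroup'.isNilpotent
  have hsq : ∀ x ∈ S, x * x = 1 ∨ x * x = z := fun x hx => hmemz _ (by
    rw [← hΦ, ← pow_two]
    exact ⟨⟨x, hx⟩ ^ 2, Cfsg.Agent.Basics.pow_mem_frattini R.isPGroup' _, by simp⟩)
  have hcm : ∀ x ∈ S, ∀ y ∈ S, x * y * x⁻¹ * y⁻¹ = 1 ∨ x * y * x⁻¹ * y⁻¹ = z := fun x hx y hy => hmemz _ (by
    rw [← hΦ]
    refine ⟨⁅(⟨x, hx⟩ : S), ⟨y, hy⟩⁆, Cfsg.Agent.Basics.commutator_le_frattini
      (Subgroup.commutator_mem_commutator (Subgroup.mem_top _) (Subgroup.mem_top _)), ?_⟩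
    simp [commutatorElement_def])
  have hzS : z ∈ S := by
    rw [hR]; exact Subgroup.mem_centralizer_singleton_iff.2 rfl
  have hSz : ∀ x ∈ S, x * z = z * x := fun x hx => by
    rw [hR] at hx; exact Subgroup.mem_centralizer_singleton_iff.1 hx
  -- self-normalizing
  have hNS : Subgroup.normalizer (S : Set L) ≤ S := by
    intro g hg
    have h1 : ((frattini S).map S.subtype).map (MulAut.conj g).toMonoidHom ≤ (frattini S).map S.subtype := by
      rintro _ ⟨_, ⟨⟨y, hy⟩, hyf, rfl⟩, rfl⟩
      let e : S ≃* S :=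
        { toFun := fun y => ⟨g * y * g⁻¹, (Subgroup.mem_normalizer_iff.1 hg y).1 y.2⟩
          invFun := fun y => ⟨g⁻¹ * y * g, (Subgroup.mem_normalizer_iff.1 hg _).2 (by simp [mul_assoc])⟩
          left_inv := fun y => Subtype.ext (by simp [mul_assoc])
          right_inv := fun y => Subtype.ext (by simp [mul_assoc])
          map_mul' := fun a b => Subtype.ext (by simp [mul_assoc]) }
      have hch : (frattini S).map e.toMonoidHom = frattini S :=
        (Subgroup.characteristic_iff_map_eq.1 inferInstance) e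
      exact ⟨e ⟨y, hy⟩, hch ▸ Subgroup.mem_map_of_mem _ hyf, rfl⟩
    rw [hΦ] at h1
    rw [hR]
    refine Subgroup.mem_centralizer_singleton_iff.2 ?_
    rcases hmemz _ (h1 ⟨z, Subgroup.mem_zpowers z, rfl⟩) with h | h
    · exact absurd (show z = 1 from (MulAut.conj g).injective (h.trans (map_one _).symm)) hzne
    · have h' : g * z * g⁻¹ = z := h
      exact mul_inv_eq_iff_eq_mul.1 h'
  -- perfect
  have hperf : commutator L = ⊤ := by
    rcases (inferInstance : (commutator L).Normal).eq_bot_or_eq_top with h | h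
    · refine absurd ⟨⟨fun a b => ?_⟩⟩ hL
      have : ⁅a, b⁆ ∈ commutator L := Subgroup.commutator_mem_commutator (Subgroup.mem_top a) (Subgroup.mem_top b)
      rw [h, Subgroup.mem_bot] at this
      exact commutatorElement_eq_one_iff_mul_comm.1 this
    · exact h
  -- Grün
  have hgen : S ≤ Subgroup.closure {v : L | v ∈ S ∧ ∃ g : L, g * z * g⁻¹ = v} := by
    have hG := S4216.result (p := 2) R
    rw [hperf, inf_top_eq] at hG
    have hder : ⁅S, S⁆ ≤ Subgroup.zpowers z := Subgroup.commutator_le.2 fun x hx y hy => by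
      rw [commutatorElement_def]
      rcases hcm x hx y hy with h | h <;> rw [h]
      · exact one_mem _
      · exact Subgroup.mem_zpowers z
    refine hG.le.trans (sup_le ?_ (iSup_le fun g => ?_))
    · refine inf_le_right.trans ((Subgroup.commutator_mono hNS hNS).trans (hder.trans (Subgroup.zpowers_le.2 ?_)))
      exact Subgroup.subset_closure ⟨hzS, 1, by simp⟩
    · rintro x ⟨hxS, y, hy, rfl⟩
      rcases hmemz y (hder hy) with rfl | rfl
      · simp [one_mem]
      · exact Subgroup.subset_closure ⟨hxS, g, rfl⟩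
  -- conjugates of `z` in `S`
  have hmax : ∀ v g : L, g * z * g⁻¹ = v → Subgroup.centralizer ({v} : Set L) = S.map (MulAut.conj g).toMonoidHom := by
    intro v g hv
    ext x
    rw [Subgroup.mem_centralizer_singleton_iff, Subgroup.mem_map_equiv, MulAut.conj_symm_apply, hR,
      Subgroup.mem_centralizer_singleton_iff, ← hv]
    constructor
    · intro h
      calc g⁻¹ * x * g * z = g⁻¹ * (x * (g * z * g⁻¹)) * g := by group
        _ = g⁻¹ * ((g * z * g⁻¹) * x) * g := by rw [h]
        _ = z * (g⁻¹ * x * g) := by group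
    · intro h
      calc x * (g * z * g⁻¹) = g * (g⁻¹ * x * g * z) * g⁻¹ := by group
        _ = g * (z * (g⁻¹ * x * g)) * g⁻¹ := by rw [h]
        _ = g * z * g⁻¹ * x := by group
  have hcard : ∀ v g : L, g * z * g⁻¹ = v → Nat.card (Subgroup.centralizer ({v} : Set L)) = Nat.card S := fun v g hv => by
    rw [hmax v g hv, Subgroup.card_map_of_injective (MulAut.conj g).injective]
  -- squares and commutators inside `C(v)`
  have hcmv : ∀ v g : L, g * z * g⁻¹ = v → ∀ x y : L, x * v = v * x → y * v = v * y →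
      (x * x = 1 ∨ x * x = v) ∧ (x * y * x⁻¹ * y⁻¹ = 1 ∨ x * y * x⁻¹ * y⁻¹ = v) := by
    intro v g hv x y hx hy
    have hx' := (hmax v g hv).le (Subgroup.mem_centralizer_singleton_iff.2 hx)
    have hy' := (hmax v g hv).le (Subgroup.mem_centralizer_singleton_iff.2 hy)
    obtain ⟨a, ha, rfl⟩ := hx'
    obtain ⟨b, hb, rfl⟩ := hy'
    rw [← map_mul, ← map_inv, ← map_inv, ← map_mul, ← map_mul, ← map_mul]
    refine ⟨?_, ?_⟩
    · rcases hsq a ha with h | h <;> rw [h]
      · exact Or.inl (map_one _)
      · exact Or.inr hv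
    · rcases hcm a ha b hb with h | h <;> rw [h]
      · exact Or.inl (map_one _)
      · exact Or.inr hv
  have hdet : ∀ v g w g' : L, g * z * g⁻¹ = v → g' * z * g'⁻¹ = w →
      Subgroup.centralizer ({v} : Set L) ≤ Subgroup.centralizer ({w} : Set L) → v = w := by
    intro v g w g' hv hw hle
    have heq := Subgroup.eq_of_le_of_card_ge hle (by rw [hcard v g hv, hcard w g' hw])
    have h1 : g'⁻¹ * g ∈ Subgroup.normalizer (S : Set L) := by
      rw [hmax v g hv, hmax w g' hw] at heq
      refine Subgroup.mem_normalizer_iff.2 fun y => ?_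
      have h2 := SetLike.ext_iff.1 heq (g * y * g⁻¹)
      rw [Subgroup.mem_map_equiv, Subgroup.mem_map_equiv, MulAut.conj_symm_apply, MulAut.conj_symm_apply] at h2
      simp only [mul_assoc, inv_mul_cancel_left, inv_mul_cancel, mul_one] at h2
      simpa [mul_assoc] using h2
    have h3 := hSz _ (hNS h1)
    rw [← hv, ← hw]
    calc g * z * g⁻¹ = g' * ((g'⁻¹ * g) * z) * (g'⁻¹ * g)⁻¹ * g'⁻¹ := by group
      _ = g' * (z * (g'⁻¹ * g)) * (g'⁻¹ * g)⁻¹ * g'⁻¹ := by rw [h3]
      _ = g' * z * g'⁻¹ := by group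
  -- for a conjugate `v ≠ z` in `S`
  have hnc : ∀ v ∈ S, ∀ g, g * z * g⁻¹ = v → v ≠ z → ∃ x ∈ S, x * v * x⁻¹ = v * z := by
    intro v hvS g hv hvz
    by_contra hcon
    push Not at hcon
    refine hvz (hdet z 1 v g (by simp) hv fun x hx => ?_).symm
    have hxS : x ∈ S := by rw [hR]; exact hx
    refine Subgroup.mem_centralizer_singleton_iff.2 ?_
    rcases hcm x hxS v hvS with h | h
    · rw [mul_inv_eq_one, mul_inv_eq_iff_eq_mul] at h; exact h
    · exact absurd (by rw [hSz v hvS, ← h]; group) (hcon x hxS)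
  have helem : ∀ v ∈ S, ∀ g, g * z * g⁻¹ = v → v ≠ z → ∀ x ∈ S, ∀ y ∈ S, x * v = v * x → y * v = v * y →
      x * x = 1 ∧ x * y = y * x := by
    intro v hvS g hv hvz x hx y hy hxv hyv
    obtain ⟨h1, h2⟩ := hcmv v g hv x y hxv hyv
    refine ⟨?_, ?_⟩
    · rcases hsq x hx with h | h
      · exact h
      · rcases h1 with h' | h'
        · exact h'
        · exact absurd (h'.symm.trans h) hvz
    · rcases hcm x hx y hy with h | h
      · rwa [mul_inv_eq_one, mul_inv_eq_iff_eq_mul] at h
      · rcases h2 with h' | h'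
        · rwa [mul_inv_eq_one, mul_inv_eq_iff_eq_mul] at h'
        · exact absurd (h'.symm.trans h) hvz
  have hconj : ∀ v ∈ S, ∀ x ∈ S, x * v ≠ v * x → x * v * x⁻¹ = v * z := by
    intro v hv x hx hne
    rcases hcm x hx v hv with h | h
    · exact absurd (by rwa [mul_inv_eq_one, mul_inv_eq_iff_eq_mul] at h) hne
    · rw [hSz v hv, ← h]; group
  have hpair : ∀ p ∈ S, ∀ g, g * z * g⁻¹ = p → p ≠ z → ∀ q ∈ S, ∀ g', g' * z * g'⁻¹ = q → q ≠ z →
      p * q = q * p → q = p ∨ q = p * z := by
    intro p hp g hg hpz q hq g' hg' hqz hpq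
    by_cases hne : q = p
    · exact Or.inl hne
    right
    -- `p * q` is again a conjugate
    obtain ⟨y, hy, hyq⟩ : ∃ y, y * p = p * y ∧ ¬ y * q = q * y := by
      by_contra h
      push Not at h
      exact hne (hdet p g q g' hg hg' fun y hy => Subgroup.mem_centralizer_singleton_iff.2
        (h y (Subgroup.mem_centralizer_singleton_iff.1 hy))).symm
    have hyc : y * q * y⁻¹ = p * q := by
      rcases (hcmv p g hg y q hy hpq.symm).2 with h | h
      · exact absurd (by rwa [mul_inv_eq_one, mul_inv_eq_iff_eq_mul] at h) hyq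
      · rw [← h]; group
    have hpqc : (y * g') * z * (y * g')⁻¹ = p * q := by rw [← hyc, ← hg']; group
    by_cases hpqz : p * q = z
    · calc q = (p * p) * q := by rw [(helem p hp g hg hpz p hp p hp rfl rfl).1, one_mul]
        _ = p * (p * q) := by group
        _ = p * z := by rw [hpqz]
    exfalso
    obtain ⟨x, hx, hxp⟩ := hnc _ (mul_mem hp hq) _ hpqc hpqz
    have hx1 : x * p ≠ p * x := by
      intro hc
      have h := (helem p hp g hg hpz x hx q hq hc hpq.symm).2
      have : x * (p * q) * x⁻¹ = p * q := by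
        rw [← mul_assoc, hc, mul_assoc p x q, h]; group
      rw [this] at hxp
      exact hzne (mul_left_cancel (hxp.symm.trans (mul_one _).symm))
    have hx2 : x * q ≠ q * x := by
      intro hc
      have h := (helem q hq g' hg' hqz x hx p hp hc hpq).2
      exact hx1 h
    have e1 := hconj p hp x hx hx1
    have e2 := hconj q hq x hx hx2
    have : x * (p * q) * x⁻¹ = p * q := by
      calc x * (p * q) * x⁻¹ = (x * p * x⁻¹) * (x * q * x⁻¹) := by group
        _ = (p * z) * (q * z) := by rw [e1, e2]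
        _ = p * (z * q) * z := by group
        _ = p * q * (z * z) := by rw [← hSz q hq]; group
        _ = p * q := by rw [hz2, mul_one]
    rw [this] at hxp
    exact hzne (mul_left_cancel (hxp.symm.trans (mul_one _).symm))
  -- two non-commuting conjugates
  have hSne : S ≠ Subgroup.zpowers z := by
    intro h
    have h1 : Nat.card S = 2 := by rw [h, Nat.card_zpowers, hz]
    have h2 : frattini S = ⊥ := by
      haveI : Fact (Nat.card S).Prime := ⟨by rw [h1]; exact Nat.prime_two⟩
      refine eq_bot_iff.2 (frattini_le_coatom (K := ⊥) ⟨?_, fun K hK => ?_⟩)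
      · intro hbt
        have := congrArg (fun K : Subgroup S => Nat.card K) hbt
        simp [h1] at this
      · exact (K.eq_bot_or_eq_top_of_prime_card).resolve_left hK.ne'
    rw [h2, Subgroup.map_bot] at hΦ
    exact hzne (by simpa using (hΦ.symm ▸ Subgroup.mem_zpowers z : z ∈ (⊥ : Subgroup L)))
  obtain ⟨u, ⟨huS, gu, hgu⟩, huz⟩ : ∃ u ∈ {v : L | v ∈ S ∧ ∃ g : L, g * z * g⁻¹ = v}, u ≠ z := by
    by_contra hcon
    push Not at hcon
    refine hSne (le_antisymm (hgen.trans ((Subgroup.closure_le _).2 ?_)) (Subgroup.zpowers_le.2 hzS))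
    intro v hv
    rw [hcon v hv]; exact Subgroup.mem_zpowers z
  obtain ⟨v, ⟨hvS, gv, hgv⟩, hvu⟩ : ∃ v ∈ {v : L | v ∈ S ∧ ∃ g : L, g * z * g⁻¹ = v}, v * u ≠ u * v := by
    by_contra hcon
    push Not at hcon
    obtain ⟨x, hx, hxu⟩ := hnc u huS gu hgu huz
    have hle : S ≤ Subgroup.centralizer ({u} : Set L) :=
      hgen.trans ((Subgroup.closure_le _).2 fun v hv => Subgroup.mem_centralizer_singleton_iff.2 (hcon v hv))
    rw [Subgroup.mem_centralizer_singleton_iff.1 (hle hx), mul_inv_cancel_right] at hxu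
    exact hzne (mul_left_cancel (hxu.symm.trans (mul_one _).symm))
  have hvz : v ≠ z := fun h => hvu (by rw [h]; exact (hSz u huS).symm)
  have ho : ∀ w g, g * z * g⁻¹ = w → orderOf w = 2 := fun w g hw => by
    rw [← hw, ← hz]; exact orderOf_injective (MulAut.conj g).toMonoidHom (MulAut.conj g).injective z
  have huu := Cfsg.Agent.Invol.mul_self_of_orderOf_two (ho u gu hgu)
  have hvv := Cfsg.Agent.Invol.mul_self_of_orderOf_two (ho v gv hgv)
  have huv : (u * v) * (u * v) = z := by
    rcases hsq (u * v) (mul_mem huS hvS) with h | h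
    · exfalso
      apply hvu
      calc v * u = v * (u * v * (u * v)) * u := by rw [h, mul_one]
        _ = v * u * v * u * (v * u) := by group
        _ = u * v * (u * v) * (u * v) := by
          have e : (v * u)⁻¹ = u * v := by
            rw [mul_inv_rev, inv_eq_of_mul_eq_one_right huu, inv_eq_of_mul_eq_one_right hvv]
          have h' : v * u = (u * v) := by
            rw [eq_comm, eq_inv_of_mul_eq_one_left h, mul_inv_rev, inv_eq_of_mul_eq_one_right huu,
              inv_eq_of_mul_eq_one_right hvv]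
          rw [show v * u * v * u * (v * u) = (v * u) * (v * u) * (v * u) by group, h']
        _ = u * v := by rw [h, one_mul]
    · exact h
  have hclo : Subgroup.closure ({u, v} : Set L) = S := by
    set H := Subgroup.closure ({u, v} : Set L)
    have huH : u ∈ H := Subgroup.subset_closure (by simp)
    have hvH : v ∈ H := Subgroup.subset_closure (by simp)
    have hzH : z ∈ H := huv ▸ mul_mem (mul_mem huH hvH) (mul_mem huH hvH)
    refine le_antisymm ((Subgroup.closure_le _).2 ?_) (hgen.trans ((Subgroup.closure_le _).2 ?_))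
    · rintro x (rfl | rfl) <;> assumption
    rintro w ⟨hwS, gw, hgw⟩
    by_cases hwz : w = z
    · exact hwz ▸ hzH
    by_cases hwu : u * w = w * u
    · rcases hpair u huS gu hgu huz w hwS gw hgw hwz hwu with h | h <;> rw [h]
      · exact huH
      · exact mul_mem huH hzH
    · have hwv : (v * w) * u = u * (v * w) := by
        have e1 := hconj u huS v hvS hvu
        have e2 := hconj u huS w hwS (fun h => hwu h.symm)
        have : (v * w) * u * (v * w)⁻¹ = u := by
          calc (v * w) * u * (v * w)⁻¹ = v * (w * u * w⁻¹) * v⁻¹ := by group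
            _ = (v * u * v⁻¹) * (v * z * v⁻¹) := by rw [e2]; group
            _ = u * z * z := by rw [e1, hSz v hvS]; group
            _ = u := by rw [mul_assoc, hz2, mul_one]
        exact mul_inv_eq_iff_eq_mul.1 this
      have hsq1 := (helem u huS gu hgu huz _ (mul_mem hvS hwS) _ (mul_mem hvS hwS) hwv hwv).1
      have hcom : v * w = w * v := by
        rw [eq_inv_of_mul_eq_one_left hsq1, mul_inv_rev, inv_eq_of_mul_eq_one_right hvv,
          inv_eq_of_mul_eq_one_right (Cfsg.Agent.Invol.mul_self_of_orderOf_two (ho w gw hgw))]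
      rcases hpair v hvS gv hgv hvz w hwS gw hgw hwz hcom with h | h <;> rw [h]
      · exact hvH
      · exact mul_mem hvH hzH
  have hord : orderOf (u * v) = 4 := by
    have := orderOf_eq_prime_pow (p := 2) (n := 1) (x := u * v) (by rw [pow_one, pow_two, huv]; exact hzne)
      (by rw [show 2 ^ (1 + 1) = 2 * 2 from rfl, pow_mul, pow_two, pow_two, huv, hz2])
    simpa using this
  obtain ⟨e⟩ := Cfsg.Agent.Invol.nonempty_dihedralEquiv_pair (ho u gu hgu) (ho v gv hgv)
  rw [hord] at e
  exact ⟨(e.trans (MulEquiv.subgroupCongr hclo)).symm⟩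

end Cfsg.Agent.S5435
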