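import Cfsg.Statements.S5436
import Cfsg.Agent.Lib.BigExtra.Criteria

set_option autoImplicit false
open Cfsg

namespace Cfsg.Agent.S5436

/-- Let z be an involution of the finite group G with centralizer H whose generalized Fitting subgroup Q is extraspecial of width at least 2 (order 2^(2w+1), w ≥ 2); suppose some conjugate of z other than z lies in Q, H/Q is a non-abelian simple group, H acts irreducibly by conjugation on Q modulo the subgroup generated by z (the only H-invariant subgroups of Q containing z are that subgroup and Q), and Q is not the subgroup generated by the conjugates of z lying in H. Then G is simple. -/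
theorem result {G : Type*} [Group G] [Finite G] (z : G) (hz : orderOf z = 2) (Q : Subgroup (Subgroup.centralizer ({z} : Set G))) [Q.Normal] (hF : Cfsg.generalizedFittingSubgroup ↥(Subgroup.centralizer ({z} : Set G)) = Q) (hQ : Cfsg.IsExtraspecial 2 ↥Q) (w : ℕ) (hw : 2 ≤ w) (hcard : Nat.card ↥Q = 2 ^ (2 * w + 1)) (hnwc : ∃ g : G, (∃ hq : g * z * g⁻¹ ∈ Subgroup.centralizer ({z} : Set G), (⟨g * z * g⁻¹, hq⟩ : Subgroup.centralizer ({z} : Set G)) ∈ Q) ∧ g * z * g⁻¹ ≠ z) (hsimp : IsSimpleGroup (↥(Subgroup.centralizer ({z} : Set G)) ⧸ Q)) (hna : ¬ IsMulCommutative (↥(Subgroup.centralizer ({z} : Set G)) ⧸ Q)) (hirr : ∀ W : Subgroup (Subgroup.centralizer ({z} : Set G)), W.Normal → W ≤ Q → (W = Q ∨ ∀ x ∈ W, (x : G) ∈ Subgroup.zpowers z)) (hwcl : Subgroup.closure {x : Subgroup.centralizer ({z} : Set G) | IsConj z (x : G)} ≠ Q) : IsSimpleGroup G := by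
  classical
  haveI := Fact.mk Nat.prime_two
  let C := Subgroup.centralizer ({z} : Set G)
  set Q' := Q.map C.subtype
  let e : Q ≃* Q' := Subgroup.equivMapOfInjective Q C.subtype C.subtype_injective
  have hcard' : Nat.card Q' = 2 ^ (2 * w + 1) := (Nat.card_congr e.toEquiv).symm.trans hcard
  have hQE : Cfsg.IsExtraspecial 2 ↥Q' := by
    obtain ⟨c, hc⟩ := Invol.ExtraPairs.pre_of_extraspecial hQ
    have hm : ∀ v, v ∈ Subgroup.zpowers c → e v ∈ Subgroup.zpowers (e c) := fun v hv =>
      (MonoidHom.map_zpowers e.toMonoidHom c) ▸ Subgroup.mem_map_of_mem e.toMonoidHom hv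
    have hp : Invol.ExtraPairs.Pre 2 Q' (e c) := by
      refine ⟨by rw [MulEquiv.orderOf_eq, hc.ordz], ?_, fun a b => ?_, fun a => ?_⟩
      · refine le_antisymm (fun a ha => ?_) (Subgroup.zpowers_le.2 ?_)
        · have : e.symm a ∈ Subgroup.center Q := Subgroup.mem_center_iff.2 fun v =>
            e.injective (by simpa using Subgroup.mem_center_iff.1 ha (e v))
          rw [hc.center_eq] at this
          simpa using hm _ this
        · refine Subgroup.mem_center_iff.2 fun v => e.symm.injective ?_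
          rw [map_mul, map_mul, e.symm_apply_apply]
          exact Subgroup.mem_center_iff.1 (hc.center_eq.ge (Subgroup.mem_zpowers c)) _
      · simpa [map_commutatorElement] using hm _ (hc.comm_mem (e.symm a) (e.symm b))
      · simpa using hm _ (hc.pow_mem (e.symm a))
    refine hp.extraspecial ?_
    rw [hcard']
    exact ne_of_gt (lt_of_lt_of_le (by norm_num : 2 < 2 ^ 2)
      (Nat.pow_le_pow_right (by norm_num) (by omega)))
  obtain ⟨h, -⟩ := BigExtra.exData_of_fStar hz (Subgroup.map_subtype_le Q)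
    (congrArg (Subgroup.map C.subtype) hF) hQE
  obtain ⟨g, ⟨hgC, hgQ⟩, hgne⟩ := hnwc
  have hgQ' : g * z * g⁻¹ ∈ Q' := ⟨_, hgQ, rfl⟩
  have hQ2 : IsPGroup 2 Q' := IsPGroup.of_card hcard'
  have h9 : 9 ≤ Nat.card Q' := by
    calc 9 ≤ 2 ^ 5 := by norm_num
      _ ≤ Nat.card Q' := by rw [hcard']; exact Nat.pow_le_pow_right (by norm_num) (by omega)
  refine h.isSimpleGroup hQ2 (fun L hL hQL => h.odd_eq_bot hQ2 h9 hgQ' hgne hL hQL)
    fun N hN hzN => ?_
  let N' := N.subgroupOf C
  haveI hN' : N'.Normal := hN.subgroupOf C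
  have hxz : (⟨g * z * g⁻¹, hgC⟩ : C).1 ∉ Subgroup.zpowers z := by
    intro hh
    obtain ⟨k, hk⟩ := hh
    have : z ^ k = 1 ∨ z ^ k = z := by
      rw [← zpow_mod_orderOf, hz]
      rcases Int.emod_two_eq_zero_or_one k with e | e <;> simp [e]
    rcases this with e | e
    · exact h.ne_one (conj_eq_one_iff.1 (hk.symm.trans e))
    · exact hgne (hk.symm.trans e)
  have hxN : (⟨g * z * g⁻¹, hgC⟩ : C) ∈ N' := hN.conj_mem z hzN g
  have hQN : Q ≤ N' := by
    rcases hirr (N' ⊓ Q) inferInstance inf_le_right with h1 | h1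
    · exact inf_eq_right.1 h1
    · exact absurd (h1 _ ⟨hxN, hgQ⟩) hxz
  set S := {x : C | IsConj z (x : G)}
  have hSN : Subgroup.closure S ≤ N' := by
    rw [Subgroup.closure_le]
    intro x hx
    obtain ⟨c, hc⟩ := isConj_iff.1 hx
    show (x : G) ∈ N
    rw [← hc]; exact hN.conj_mem z hzN c
  haveI := hN'.map (QuotientGroup.mk' Q) (QuotientGroup.mk'_surjective Q)
  rcases hsimp.eq_bot_or_eq_top_of_normal (N'.map (QuotientGroup.mk' Q)) inferInstance with h1 | h1
  · exfalso
    rw [Subgroup.map_eq_bot_iff, QuotientGroup.ker_mk'] at h1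
    haveI hSn : (Subgroup.closure S).Normal := ⟨fun a ha c => by
      induction ha using Subgroup.closure_induction with
      | mem x hx =>
        refine Subgroup.subset_closure ?_
        obtain ⟨d, hd⟩ := isConj_iff.1 hx
        refine isConj_iff.2 ⟨(c : G) * d, ?_⟩
        show (c : G) * d * z * ((c : G) * d)⁻¹ = (c : G) * x * (c : G)⁻¹
        rw [← hd]; group
      | one => simp
      | mul x y _ _ ihx ihy =>
        rw [show c * (x * y) * c⁻¹ = (c * x * c⁻¹) * (c * y * c⁻¹) by group]
        exact mul_mem ihx ihy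
      | inv x _ ihx =>
        rw [show c * x⁻¹ * c⁻¹ = (c * x * c⁻¹)⁻¹ by group]
        exact inv_mem ihx⟩
    rcases hirr (Subgroup.closure S) inferInstance (hSN.trans h1) with h2 | h2
    · exact hwcl h2
    · exact hxz (h2 _ (Subgroup.subset_closure (isConj_iff.2 ⟨g, rfl⟩)))
  · intro c hc
    obtain ⟨n, hn, hne⟩ : QuotientGroup.mk' Q (⟨c, hc⟩ : C) ∈ N'.map (QuotientGroup.mk' Q) :=
      h1 ▸ Subgroup.mem_top _
    have := mul_mem hn (hQN (QuotientGroup.eq.1 hne))
    simpa [N', Subgroup.mem_subgroupOf] using this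

end Cfsg.Agent.S5436
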