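import Cfsg.Statements.S5437
import Cfsg.Agent.Lib.Invol.Basic
-- import your own Cfsg.Agent.* helpers here

set_option autoImplicit false
open Cfsg

namespace Cfsg.Agent.S5437

/-- Let I be a set of involutions of the finite group G closed under conjugation, and H a subgroup of G. The following are equivalent: (1) for every member x of I lying in H, the conjugates of x lying in H form a single H-class and the centralizer of x lies in H; (2) for every g outside H, no member of I lies in both H and g H g⁻¹; (3) every member of I lying in H fixes exactly one coset in the action of G on the cosets of H. -/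
theorem result {G : Type*} [Group G] [Finite G] (I : Set G) (hI : ∀ x ∈ I, orderOf x = 2) (hIc : ∀ g : G, ∀ x ∈ I, g * x * g⁻¹ ∈ I) (H : Subgroup G) : ((∀ x ∈ I, x ∈ H → (∀ g : G, g * x * g⁻¹ ∈ H → ∃ h ∈ H, h * x * h⁻¹ = g * x * g⁻¹) ∧ Subgroup.centralizer ({x} : Set G) ≤ H) ↔ (∀ g : G, g ∉ H → ∀ x ∈ I, ¬ (x ∈ H ∧ x ∈ (H : Subgroup G).map (MulAut.conj g).toMonoidHom))) ∧ ((∀ g : G, g ∉ H → ∀ x ∈ I, ¬ (x ∈ H ∧ x ∈ (H : Subgroup G).map (MulAut.conj g).toMonoidHom)) ↔ ∀ x ∈ I, x ∈ H → ∃! c : G ⧸ H, x • c = c) := by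
  have hmap : ∀ g x : G, x ∈ H.map (MulAut.conj g).toMonoidHom ↔ g⁻¹ * x * g ∈ H := by
    intro g x
    constructor
    · rintro ⟨y, hy, rfl⟩
      simpa [mul_assoc] using hy
    · intro hx
      exact ⟨_, hx, by simp [mul_assoc]⟩
  have hsmul : ∀ g x : G, x • (g : G ⧸ H) = g ↔ g⁻¹ * x * g ∈ H := by
    intro g x
    rw [show x • (g : G ⧸ H) = ((x * g : G) : G ⧸ H) from rfl, eq_comm, QuotientGroup.eq, mul_assoc]
  refine ⟨⟨fun h g hg x hxI ⟨hxH, hx⟩ => hg ?_, fun h x hxI hxH => ⟨fun g hgx => ?_, fun g hgx => ?_⟩⟩,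
    ⟨fun h x hxI hxH => ?_, fun h g hg x hxI ⟨hxH, hx⟩ => hg ?_⟩⟩
  · obtain ⟨h1, h2⟩ := h x hxI hxH
    rw [hmap] at hx
    obtain ⟨k, hk, hke⟩ := h1 g⁻¹ (by rwa [inv_inv])
    rw [inv_inv] at hke
    have hc : g * k ∈ Subgroup.centralizer ({x} : Set G) := by
      rw [Subgroup.mem_centralizer_singleton_iff]
      calc g * k * x = g * (k * x * k⁻¹) * k := by group
        _ = g * (g⁻¹ * x * g) * k := by rw [hke]
        _ = x * (g * k) := by group
    have := mul_mem (h2 hc) (inv_mem hk)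
    rwa [mul_inv_cancel_right] at this
  · have hg : g⁻¹ ∈ H := by
      by_contra hg
      exact h g⁻¹ hg x hxI ⟨hxH, (hmap _ _).2 (by rwa [inv_inv])⟩
    exact ⟨g, inv_mem_iff.1 hg, rfl⟩
  · by_contra hg
    refine h g hg x hxI ⟨hxH, (hmap _ _).2 ?_⟩
    rw [mul_assoc, ← Subgroup.mem_centralizer_singleton_iff.1 hgx, ← mul_assoc, inv_mul_cancel, one_mul]
    exact hxH
  · refine ⟨((1 : G) : G ⧸ H), (hsmul 1 x).2 (by simpa using hxH), fun c hc => ?_⟩
    obtain ⟨g, rfl⟩ := QuotientGroup.mk_surjective c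
    have hg : g ∈ H := by
      by_contra hg
      exact h g hg x hxI ⟨hxH, (hmap _ _).2 ((hsmul g x).1 hc)⟩
    exact QuotientGroup.eq.2 (by rw [mul_one]; exact inv_mem hg)
  · rw [hmap] at hx
    have := (h x hxI hxH).unique ((hsmul g x).2 hx) ((hsmul 1 x).2 (by simpa using hxH))
    rw [QuotientGroup.eq, mul_one] at this
    exact inv_mem_iff.1 this

end Cfsg.Agent.S5437
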