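import Cfsg.Statements.S5438
import Cfsg.Agent.Lib.Invol.Basic
-- import your own Cfsg.Agent.* helpers here

set_option autoImplicit false
open Cfsg

namespace Cfsg.Agent.S5438

theorem two_sub_le {G : Type*} [Group G] [Finite G] {H T : Subgroup G} (hT : IsPGroup 2 T) {z : G}
    (hzT : z ∈ T) (hzH : z ∈ H) (hfix : ∀ g : G, g⁻¹ * z * g ∈ H → g ∈ H) : T ≤ H := by
  haveI := Fact.mk Nat.prime_two
  haveI := hT.isNilpotent
  by_contra hTH
  have hne : H.subgroupOf T < ⊤ := lt_top_iff_ne_top.2 fun h => hTH (Subgroup.subgroupOf_eq_top.1 h)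
  obtain ⟨t, htN, htH⟩ := SetLike.exists_of_lt (Group.normalizerCondition_of_isNilpotent _ hne)
  refine htH (show (t : G) ∈ H from inv_mem_iff.1 (hfix _ ?_))
  rw [inv_inv]
  exact (Subgroup.mem_normalizer_iff.1 htN ⟨z, hzT⟩).1 hzH

/-- Let z be a 2-central involution of the finite group G (an involution central in some Sylow 2-subgroup) and H a subgroup containing z such that the coset H is the only coset of H fixed by z (in the action of G on the cosets of H). Then H has odd index in G, and for every 2-element x of H the conjugates of x lying in H form a single H-class. -/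
theorem result {G : Type*} [Group G] [Finite G] (z : G) (hz : Cfsg.IsTwoCentralInvolution z) (H : Subgroup G) (hzH : z ∈ H) (hfix : ∀ g : G, g⁻¹ * z * g ∈ H → g ∈ H) : Odd H.index ∧ ∀ x ∈ H, (∃ k : ℕ, orderOf x = 2 ^ k) → ∀ g : G, g * x * g⁻¹ ∈ H → ∃ h ∈ H, h * x * h⁻¹ = g * x * g⁻¹ := by
  haveI := Fact.mk Nat.prime_two
  obtain ⟨hz2, P, hzP, hPc⟩ := hz
  have hPH : (P : Subgroup G) ≤ H := two_sub_le P.isPGroup' hzP hzH hfix
  refine ⟨?_, ?_⟩
  · rw [Nat.odd_iff, ← Nat.two_dvd_ne_zero]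
    exact fun h => P.not_dvd_index (h.trans (Subgroup.index_dvd_of_le hPH))
  intro x hxH hx2 g hgx
  -- a conjugate of `z` in `H` commuting with a given 2-element of `H`
  have hnear : ∀ u ∈ H, (∃ k : ℕ, orderOf u = 2 ^ k) → ∃ z' ∈ H, z' * u = u * z' ∧
      (∀ w : G, w⁻¹ * z' * w ∈ H → w ∈ H) ∧ orderOf z' = 2 := by
    rintro u huH ⟨k, hk⟩
    have hp : IsPGroup 2 (Subgroup.zpowers u) := IsPGroup.of_card (n := k) (by rw [Nat.card_zpowers, hk])
    obtain ⟨R, hR⟩ := (hp.comap_subtype (K := H)).exists_le_sylow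
    obtain ⟨h, hh⟩ := MulAction.exists_smul_eq H (P.subtype hPH) R
    refine ⟨(h : G) * z * (h : G)⁻¹, mul_mem (mul_mem h.2 hzH) (inv_mem h.2), ?_, fun w hw => ?_, ?_⟩
    · have hu : (⟨u, huH⟩ : H) ∈ (R : Subgroup H) := hR (show u ∈ Subgroup.zpowers u from Subgroup.mem_zpowers u)
      rw [← hh, Sylow.coe_subgroup_smul, Subgroup.mem_pointwise_smul_iff_inv_smul_mem] at hu
      have hu' : (h : G)⁻¹ * u * h ∈ (P : Subgroup G) := by
        have h2 : ((((MulAut.conj h)⁻¹ • (⟨u, huH⟩ : H)) : H) : G) ∈ (P : Subgroup G) := hu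
        simpa [MulAut.smul_def] using h2
      calc (h : G) * z * (h : G)⁻¹ * u = h * (z * ((h : G)⁻¹ * u * h)) * (h : G)⁻¹ := by group
        _ = h * (((h : G)⁻¹ * u * h) * z) * (h : G)⁻¹ := by rw [hPc _ hu']
        _ = u * (h * z * (h : G)⁻¹) := by group
    · have h1 : ((h : G)⁻¹ * w) ∈ H := hfix _ (by
        rw [mul_inv_rev, inv_inv, show w⁻¹ * (h : G) * z * ((h : G)⁻¹ * w) = w⁻¹ * (h * z * (h : G)⁻¹) * w by group]
        exact hw)
      simpa using mul_mem h.2 h1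
    · rw [Cfsg.Agent.Invol.orderOf_conj, hz2]
  obtain ⟨z1, hz1H, hz1c, hz1f, hz1o⟩ := hnear x hxH hx2
  obtain ⟨z2, hz2H, hz2c, hz2f, hz2o⟩ := hnear _ hgx (by rwa [Cfsg.Agent.Invol.orderOf_conj])
  set C := Subgroup.centralizer ({x} : Set G)
  have hz1C : z1 ∈ C := Subgroup.mem_centralizer_singleton_iff.2 hz1c
  have hz2C : g⁻¹ * z2 * g ∈ C := Subgroup.mem_centralizer_singleton_iff.2 (by
    calc g⁻¹ * z2 * g * x = g⁻¹ * (z2 * (g * x * g⁻¹)) * g := by group
      _ = g⁻¹ * ((g * x * g⁻¹) * z2) * g := by rw [hz2c]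
      _ = x * (g⁻¹ * z2 * g) := by group)
  have h2grp : ∀ a : G, orderOf a = 2 → IsPGroup 2 (Subgroup.zpowers a) := fun a ha =>
    IsPGroup.of_card (n := 1) (by rw [Nat.card_zpowers, ha, pow_one])
  obtain ⟨T, hT⟩ := ((h2grp z1 hz1o).comap_subtype (K := C)).exists_le_sylow
  have hord : orderOf (g⁻¹ * z2 * g) = 2 := by
    have := Cfsg.Agent.Invol.orderOf_conj g⁻¹ z2
    rwa [inv_inv, hz2o] at this
  obtain ⟨T', hT'⟩ := ((h2grp _ hord).comap_subtype (K := C)).exists_le_sylow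
  obtain ⟨c, hc⟩ := MulAction.exists_smul_eq C T T'
  -- `g T' g⁻¹ ≤ H`
  have hgT : ∀ t ∈ (T' : Subgroup C), g * (t : G) * g⁻¹ ∈ H := by
    intro t ht
    have hle : ((T' : Subgroup C).map C.subtype).map (MulAut.conj g).toMonoidHom ≤ H :=
      two_sub_le ((T'.isPGroup'.map _).map _)
        ⟨g⁻¹ * z2 * g, ⟨⟨_, hz2C⟩, hT' (show g⁻¹ * z2 * g ∈ Subgroup.zpowers _ from Subgroup.mem_zpowers _), rfl⟩,
          by simp [mul_assoc]⟩ hz2H hz2f
    exact hle ⟨_, ⟨t, ht, rfl⟩, rfl⟩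
  have hmem : (⟨(c : G) * z1 * (c : G)⁻¹, mul_mem (mul_mem c.2 hz1C) (inv_mem c.2)⟩ : C) ∈ (T' : Subgroup C) := by
    rw [← hc, Sylow.coe_subgroup_smul, Subgroup.mem_pointwise_smul_iff_inv_smul_mem]
    have h1 : (⟨z1, hz1C⟩ : C) ∈ (T : Subgroup C) := hT (show z1 ∈ Subgroup.zpowers z1 from Subgroup.mem_zpowers z1)
    convert h1 using 1
    apply Subtype.ext
    simp [MulAut.smul_def, mul_assoc]
  have h3 := hgT _ hmem
  have hgc : g * c ∈ H := by
    refine inv_mem_iff.1 (hz1f _ ?_)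
    rw [inv_inv, mul_inv_rev]
    simpa [mul_assoc] using h3
  refine ⟨g * c, hgc, ?_⟩
  calc g * c * x * (g * c)⁻¹ = g * ((c : G) * x) * (c : G)⁻¹ * g⁻¹ := by group
    _ = g * (x * c) * (c : G)⁻¹ * g⁻¹ := by rw [Subgroup.mem_centralizer_singleton_iff.1 c.2]
    _ = g * x * g⁻¹ := by group

end Cfsg.Agent.S5438
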