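import Cfsg.Statements.S5439
import Cfsg.Agent.Lib.Invol.Basic
-- import your own Cfsg.Agent.* helpers here

set_option autoImplicit false
open Cfsg

namespace Cfsg.Agent.S5439

/-- Let I and J be two different conjugacy classes of involutions of the finite group G and H a subgroup such that every member of I ∪ J fixes exactly one coset in the action on the cosets of H, and such that for every a in I ∩ H and every b in (I ∪ J) ∩ H different from a and commuting with it, the centralizer of a b lies in H. Then H = G. -/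
theorem result {G : Type*} [Group G] [Finite G] (I J : Set G) (a₀ b₀ : G) (ha₀ : orderOf a₀ = 2) (hb₀ : orderOf b₀ = 2) (hI : I = {x | IsConj a₀ x}) (hJ : J = {x | IsConj b₀ x}) (hIJ : I ≠ J) (H : Subgroup G) (hfix : ∀ x ∈ I ∪ J, ∃! c : G ⧸ H, x • c = c) (hcent : ∀ a ∈ I, a ∈ H → ∀ b ∈ I ∪ J, b ∈ H → a ≠ b → a * b = b * a → Subgroup.centralizer ({a * b} : Set G) ≤ H) : H = ⊤ := by
  have hsmul : ∀ g x : G, x • (g : G ⧸ H) = g ↔ g⁻¹ * x * g ∈ H := by
    intro g x
    rw [show x • (g : G ⧸ H) = ((x * g : G) : G ⧸ H) from rfl, eq_comm, QuotientGroup.eq, mul_assoc]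
  have hI2 : ∀ x ∈ I, orderOf x = 2 := fun x hx => Cfsg.Agent.Invol.orderOf_two_of_isConj (by rw [hI] at hx; exact hx) ha₀
  have hJ2 : ∀ x ∈ J, orderOf x = 2 := fun x hx => Cfsg.Agent.Invol.orderOf_two_of_isConj (by rw [hJ] at hx; exact hx) hb₀
  have hIconj : ∀ x ∈ I, ∀ g : G, g * x * g⁻¹ ∈ I := fun x hx g => by
    rw [hI] at hx ⊢; exact hx.trans (isConj_iff.2 ⟨g, rfl⟩)
  have hJconj : ∀ x ∈ J, ∀ g : G, g * x * g⁻¹ ∈ J := fun x hx g => by
    rw [hJ] at hx ⊢; exact hx.trans (isConj_iff.2 ⟨g, rfl⟩)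
  have hdisj : ∀ x ∈ I, ∀ y ∈ J, ¬ IsConj x y := by
    intro x hx y hy hc
    refine hIJ ?_
    rw [hI] at hx
    rw [hJ] at hy
    rw [hI, hJ]
    ext z
    exact ⟨fun h => (hy.trans (hc.symm.trans hx.symm)).trans h, fun h => (hx.trans (hc.trans hy.symm)).trans h⟩
  have huniq : ∀ x ∈ I ∪ J, ∀ g : G, x ∈ H → g⁻¹ * x * g ∈ H → g ∈ H := by
    intro x hx g hxH hg
    have := (hfix x hx).unique ((hsmul g x).2 hg) ((hsmul 1 x).2 (by simpa using hxH))
    rw [QuotientGroup.eq, mul_one] at this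
    exact inv_mem_iff.1 this
  -- an element of `I` in `H`
  obtain ⟨c, hc, -⟩ := hfix a₀ (Or.inl (by rw [hI]; exact IsConj.refl a₀))
  obtain ⟨g₀, rfl⟩ := QuotientGroup.mk_surjective c
  rw [hsmul] at hc
  set a := g₀⁻¹ * a₀ * g₀ with ha
  have haI : a ∈ I := by
    have := hIconj a₀ (by rw [hI]; exact IsConj.refl a₀) g₀⁻¹
    rwa [inv_inv] at this
  have hJH : ∀ b ∈ J, b ∈ H := by
    intro b hb
    by_contra hbH
    have ha2 := Cfsg.Agent.Invol.mul_self_of_orderOf_two (hI2 a haI)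
    have hb2 := Cfsg.Agent.Invol.mul_self_of_orderOf_two (hJ2 b hb)
    have heven := Cfsg.Agent.Invol.even_of_not_isConj ha2 hb2 (hdisj a haI b hb)
    set u := (a * b) ^ (orderOf (a * b) / 2)
    have hu2 : orderOf u = 2 := Cfsg.Agent.Invol.orderOf_pow_half heven (orderOf_pos _).ne'
    have hua : Commute u a := Cfsg.Agent.Invol.commute_pow_half (Cfsg.Agent.Invol.conj_mul_eq_inv ha2 hb2) heven
    have hub : Commute u b := Cfsg.Agent.Invol.commute_pow_half (Cfsg.Agent.Invol.conj_mul_eq_inv' ha2 hb2) heven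
    have huH : u ∈ H := by
      refine huniq a (Or.inl haI) u hc ?_
      rw [mul_assoc, ← hua.eq, ← mul_assoc, inv_mul_cancel, one_mul]
      exact hc
    have hmem : a * u ∈ I ∪ J := by
      by_cases h4 : 4 ∣ orderOf (a * b)
      · obtain ⟨d, -, hd⟩ := (Cfsg.Agent.Invol.conj_pair_half_iff ha2 hb2 heven).2 h4
        exact Or.inl (hd ▸ hIconj a haI d)
      · obtain ⟨d, -, hd⟩ := Cfsg.Agent.Invol.isConj_mul_half_of_not_four_dvd ha2 hb2 heven h4
        refine Or.inr ?_
        have := hJconj b hb d⁻¹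
        rw [← hd] at this
        simpa [mul_assoc] using this
    have hne : a ≠ a * u := fun e => Cfsg.Agent.Invol.ne_one_of_orderOf_two hu2 (mul_eq_left.1 e.symm)
    have hle := hcent a haI hc (a * u) hmem (mul_mem hc huH) hne (((Commute.refl a).mul_right hua.symm).eq)
    rw [← mul_assoc, ha2, one_mul] at hle
    exact hbH (hle (Subgroup.mem_centralizer_singleton_iff.2 hub.eq.symm))
  rw [eq_top_iff]
  intro g _
  have hb0 : b₀ ∈ J := by rw [hJ]; exact IsConj.refl b₀
  have h1 := hJH _ (hJconj b₀ hb0 g⁻¹)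
  rw [inv_inv] at h1
  exact huniq b₀ (Or.inr hb0) g (hJH b₀ hb0) h1

end Cfsg.Agent.S5439
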