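import Cfsg.Statements.S5452
import Cfsg.Agent.Lib.Fischer3Tv.DoubleLift
import Cfsg.Agent.Lib.Fischer3Tv.Diag
import Cfsg.Agent.Lib.Fischer3Tv.Frame
import Cfsg.Agent.Lib.Fischer3Tv.Geom

set_option autoImplicit false
open Cfsg

namespace Cfsg.Agent.S5452


open Fischer3Tv AutPSU DoubleLift

theorem psu_lifts {F : Type} [Field F] [hQ : QField F 2] {C : Type*} [Group C] (θ : C →* Cfsg.PSU 6 F 2)
    (z : C) (hz : ∀ x : C, Commute z x) (hzz : z * z = 1) (hker : ∀ x : C, θ x = 1 → x = 1 ∨ x = z)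
    (hsurj : Function.Surjective θ) :
    ∀ x : Cfsg.PSU 6 F 2, orderOf x = 2 → ∀ y : C, θ y = x → y * y = 1 := by
  intro x hx y hy
  obtain ⟨L, -, -, horth, hprod⟩ := involution_factor (g := x) (by rw [← pow_two]; exact orderOf_dvd_iff_pow_eq_one.1 hx.dvd)
  obtain ⟨w, hw, hw0, hw1⟩ := exists_om F
  have hcomm : ∀ M : List (Pt F), (∀ p ∈ M, ∀ r ∈ M, Cfsg.hermForm 6 F 2 p.1 r.1 = 0) →
      ∀ a ∈ M.map tp, ∀ b ∈ M.map tp, Commute a b := by
    intro M hM a ha b hb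
    obtain ⟨p, hp, rfl⟩ := List.mem_map.1 ha
    obtain ⟨r, hr, rfl⟩ := List.mem_map.1 hb
    exact (tp_comm_iff p r).2 (hM p hp r hr)
  have move : ∀ (s : ↥(Cfsg.SU 6 F 2)) (p r : Pt F), app s p.1 = r.1 →
      proj 6 F 2 s * tp p * (proj 6 F 2 s)⁻¹ = tp r := fun s p r e => by
    rw [tp_conj]; congr 1; exact Subtype.ext e
  have hmem : ∀ M : List (Pt F), ∀ a ∈ M.map tp, a ∈ Set.range (tp (F := F)) := fun M a ha => by
    obtain ⟨p, -, rfl⟩ := List.mem_map.1 ha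
    exact ⟨p, rfl⟩
  -- the six points of the plane
  classical
  let P : F → F → F → Pt F := fun a b c =>
    if h : a ≠ 0 ∨ b ≠ 0 ∨ c ≠ 0 then plane a b c h else plane 1 0 0 (Or.inl one_ne_zero)
  have hP : ∀ a b c : F, (a ≠ 0 ∨ b ≠ 0 ∨ c ≠ 0) → (P a b c).1 = planeVec F a b c := fun a b c h => by
    simp only [P, dif_pos h]; rfl
  have horthP : ∀ a b c a' b' c' : F, Cfsg.hermForm 6 F 2 (P a b c).1 (P a' b' c').1 = 0 := fun a b c a' b' c' => by
    simp only [P]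
    split_ifs <;> exact plane_H ..
  have hsix : ∀ p ∈ [P 1 0 0, P 0 1 0, P 0 0 1, P 1 1 1, P 1 w ((w + 1) * 1), P 1 (w + 1) (w * 1)],
      ∃ a b c, p = P a b c := by
    simp only [List.forall_mem_cons, List.not_mem_nil, false_implies, implies_true, and_true]
    exact ⟨⟨_, _, _, rfl⟩, ⟨_, _, _, rfl⟩, ⟨_, _, _, rfl⟩, ⟨_, _, _, rfl⟩, ⟨_, _, _, rfl⟩, ⟨_, _, _, rfl⟩⟩
  have ho6 : ∀ p ∈ [P 1 0 0, P 0 1 0, P 0 0 1, P 1 1 1, P 1 w ((w + 1) * 1), P 1 (w + 1) (w * 1)],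
      ∀ r ∈ [P 1 0 0, P 0 1 0, P 0 0 1, P 1 1 1, P 1 w ((w + 1) * 1), P 1 (w + 1) (w * 1)],
      Cfsg.hermForm 6 F 2 p.1 r.1 = 0 := by
    intro p hp r hr
    obtain ⟨a, b, c, rfl⟩ := hsix p hp
    obtain ⟨a', b', c', rfl⟩ := hsix r hr
    exact horthP ..
  have hw1' : w + 1 ≠ 0 := fun e => hw1 (eq_of_add_eq_zero e)
  have h10 : (1 : F) ≠ 0 := one_ne_zero
  have ne : ∀ a b c a' b' c' : F, (a ≠ 0 ∨ b ≠ 0 ∨ c ≠ 0) → (a' ≠ 0 ∨ b' ≠ 0 ∨ c' ≠ 0) →
      (∀ t : F, a' = t * a → b' = t * b → c' ≠ t * c) → tp (P a b c) ≠ tp (P a' b' c') := by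
    intro a b c a' b' c' h h' hne e
    obtain ⟨t, ht⟩ := (tp_eq_iff _ _).1 e
    rw [hP a' b' c' h', hP a b c h] at ht
    exact hne t (congrFun ht 0) (congrFun ht 2) (congrFun ht 4)
  refine lifts_square_one θ z hz hzz hker hsurj (Set.range tp) ?_ ?_ ?_
    (six := [P 1 0 0, P 0 1 0, P 0 0 1, P 1 1 1, P 1 w ((w + 1) * 1), P 1 (w + 1) (w * 1)].map tp)
    rfl ?_ (hmem _) (hcomm _ ho6) ?_
    (odd := [P 1 0 0, P 0 1 0, P 1 1 0, P 1 w 0, P 1 (w + 1) 0].map tp)
    ⟨2, rfl⟩ (hmem _) (hcomm _ ?_) ?_ (L := L.map tp) (hmem _) (hcomm L horth) y (hy.trans hprod.symm)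
  · rintro _ ⟨p, rfl⟩
    exact tp_sq p
  · rintro _ ⟨p, rfl⟩ _ ⟨r, rfl⟩
    obtain ⟨s, hs⟩ := S0283.exists_map_vec (q := 2) (by norm_num) p.2.1 r.2.1 p.2.2 r.2.2
    exact ⟨_, move s p r hs⟩
  · rintro _ ⟨p, rfl⟩ _ ⟨r, rfl⟩ _ ⟨p', rfl⟩ _ ⟨r', rfl⟩ hne hc hne' hc'
    obtain ⟨s, hs, hs2⟩ := orth_std (indep_iff.2 hne) ((tp_comm_iff _ _).1 hc)
    obtain ⟨t, ht, ht2⟩ := orth_std (indep_iff.2 hne') ((tp_comm_iff _ _).1 hc')
    have key : ∀ (u v : Pt F), app s u.1 = app t v.1 →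
        proj 6 F 2 (t⁻¹ * s) * tp u * (proj 6 F 2 (t⁻¹ * s))⁻¹ = tp v := fun u v e => move _ u v (by
      rw [app_mul, e, ← app_mul, inv_mul_cancel, app_one])
    exact ⟨_, key p p' (hs.trans ht.symm), key r r' (hs2.trans ht2.symm)⟩
  · simp only [List.map_cons, List.map_nil, List.nodup_cons, List.mem_cons, List.not_mem_nil, or_false,
      not_or, List.nodup_nil, not_false_eq_true, and_true]
    refine ⟨⟨?_, ?_, ?_, ?_, ?_⟩, ⟨?_, ?_, ?_, ?_⟩, ⟨?_, ?_, ?_⟩, ⟨?_, ?_⟩, ?_⟩ <;>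
      refine ne _ _ _ _ _ _ (by simp) (by simp) (fun t h1 h2 h3 => ?_) <;> grind [two_zero (F := F)]
  · exact (prod_tp_iff ho6).2 (hexad_S hw h10 _ _ _ _ _ _ (hP _ _ _ (by simp)) (hP _ _ _ (by simp))
      (hP _ _ _ (by simp)) (hP _ _ _ (by simp)) (hP _ _ _ (by simp)) (hP _ _ _ (by simp)))
  · simp only [List.forall_mem_cons, List.not_mem_nil, false_implies, implies_true, and_true]
    exact ⟨⟨horthP .., horthP .., horthP .., horthP .., horthP ..⟩, ⟨horthP .., horthP .., horthP .., horthP .., horthP ..⟩,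
      ⟨horthP .., horthP .., horthP .., horthP .., horthP ..⟩, ⟨horthP .., horthP .., horthP .., horthP .., horthP ..⟩,
      ⟨horthP .., horthP .., horthP .., horthP .., horthP ..⟩⟩
  · refine (prod_tp_iff ?_).2 (line_S _ _ hw _ _ _ ?_ ?_ ?_)
    · simp only [List.forall_mem_cons, List.not_mem_nil, false_implies, implies_true, and_true]
      exact ⟨⟨horthP .., horthP .., horthP .., horthP .., horthP ..⟩, ⟨horthP .., horthP .., horthP .., horthP .., horthP ..⟩,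
        ⟨horthP .., horthP .., horthP .., horthP .., horthP ..⟩, ⟨horthP .., horthP .., horthP .., horthP .., horthP ..⟩,
        ⟨horthP .., horthP .., horthP .., horthP .., horthP ..⟩⟩
    all_goals
      rw [hP _ _ _ (by simp), hP _ _ _ (by simp), hP _ _ _ (by simp)]
      funext i
      fin_cases i <;> simp [planeVec]

/-- Let G be a finite group with an involution d whose centralizer C is quasisimple with C modulo the subgroup generated by d isomorphic to the projective special unitary group of dimension 6 over the field with four elements, and suppose some conjugate of d other than d commutes with d. Then every involution of C modulo the subgroup generated by d is the image of an involution of C, and d is not a square in G. -/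
theorem result {G : Type*} [Group G] [Finite G] (d : G) (hd : orderOf d = 2) (hq : Cfsg.IsQuasisimple ↥(Subgroup.centralizer ({d} : Set G))) [hzn : ((Subgroup.zpowers d).subgroupOf (Subgroup.centralizer ({d} : Set G))).Normal] (K : Type) [Field K] [Fintype K] (hK : Fintype.card K = 4) (e : ↥(Subgroup.centralizer ({d} : Set G)) ⧸ (Subgroup.zpowers d).subgroupOf (Subgroup.centralizer ({d} : Set G)) ≃* Cfsg.PSU 6 K 2) (hnwc : ∃ g : G, g * d * g⁻¹ ∈ Subgroup.centralizer ({d} : Set G) ∧ g * d * g⁻¹ ≠ d) : (∀ x : ↥(Subgroup.centralizer ({d} : Set G)) ⧸ (Subgroup.zpowers d).subgroupOf (Subgroup.centralizer ({d} : Set G)), orderOf x = 2 → ∃ y : ↥(Subgroup.centralizer ({d} : Set G)), orderOf y = 2 ∧ (QuotientGroup.mk y : ↥(Subgroup.centralizer ({d} : Set G)) ⧸ (Subgroup.zpowers d).subgroupOf (Subgroup.centralizer ({d} : Set G))) = x) ∧ ¬ ∃ g : G, g ^ 2 = d := by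
  haveI : QField K 2 := QField.of_card (by rw [hK]; norm_num)
  set C := Subgroup.centralizer ({d} : Set G)
  set θ : ↥C →* Cfsg.PSU 6 K 2 := e.toMonoidHom.comp (QuotientGroup.mk' _)
  let z : ↥C := ⟨d, Subgroup.mem_centralizer_singleton_iff.2 rfl⟩
  have hz : ∀ x : ↥C, Commute z x := fun x =>
    Subtype.ext (Subgroup.mem_centralizer_singleton_iff.1 x.2).symm
  have hzz : z * z = 1 := Subtype.ext (show d * d = 1 by rw [← pow_two, ← hd, pow_orderOf_eq_one])
  have hker : ∀ x : ↥C, θ x = 1 → x = 1 ∨ x = z := fun x hx => by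
    have h : (x : G) ∈ Subgroup.zpowers d := Subgroup.mem_subgroupOf.1
      ((QuotientGroup.eq_one_iff x).1 ((MulEquiv.map_eq_one_iff e).1 hx))
    obtain ⟨i, hi⟩ := Subgroup.mem_zpowers_iff.1 h
    rw [← zpow_mod_orderOf, hd] at hi
    rcases Int.emod_two_eq_zero_or_one i with h0 | h0 <;> simp only [Nat.cast_ofNat, h0] at hi
    · exact Or.inl (Subtype.ext (by simpa using hi.symm))
    · exact Or.inr (Subtype.ext (hi.symm.trans (zpow_one d)))
  have hsurj : Function.Surjective θ := e.surjective.comp (QuotientGroup.mk'_surjective _)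
  have hθz : θ z = 1 := (MulEquiv.map_eq_one_iff e).2
    ((QuotientGroup.eq_one_iff z).2 (Subgroup.mem_subgroupOf.2 (Subgroup.mem_zpowers d)))
  have hz1 : z ≠ 1 := fun h => by
    rw [show d = 1 from congrArg Subtype.val h, orderOf_one] at hd
    exact absurd hd (by norm_num)
  obtain ⟨h1, h2⟩ := conclude θ z hzz hker hsurj hz1 hθz (psu_lifts θ z hz hzz hker hsurj)
  refine ⟨fun x hx => ?_, fun ⟨g, hg⟩ => h2 ⟨g, Subgroup.mem_centralizer_singleton_iff.2 (by rw [← hg]; group)⟩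
    (Subtype.ext (by show g * g = d; rw [← pow_two, hg]))⟩
  obtain ⟨y, hy, hy'⟩ := h1 (e x) (by rw [MulEquiv.orderOf_eq, hx])
  exact ⟨y, hy, e.injective hy'⟩

end Cfsg.Agent.S5452
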