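import Cfsg.Statements.S5453
import Cfsg.Agent.Lib.Fischer3Tv.DoubleLift
import Cfsg.Agent.Lib.Fischer3Tv.FixAut
import Cfsg.Agent.Lib.Fischer3Tv.Classes

set_option autoImplicit false
open Cfsg

namespace Cfsg.Agent.S5453


open Cfsg ClassK Fischer3 Fischer3Rel Fischer3Srg Fischer3Tv AutPSU DoubleLift

universe u v

theorem exists_pair {X : Type u} [Group X] [Finite X] {E : Set X} (hM : IsOfTypeM22 X E) :
    ∃ a ∈ E, ∃ b ∈ E, a ≠ b ∧ Commute a b := by
  obtain ⟨-, a, ha, -, -, -, ⟨F, _, _, hF, ⟨f⟩⟩, -⟩ := hM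
  haveI : QField F 2 := QField.of_card (by rw [hF]; norm_num)
  by_contra! hno
  have he : {y : X | y ∈ E ∧ y ≠ a ∧ Commute a y} = ∅ :=
    Set.eq_empty_of_forall_notMem fun y hy => hno a ha y hy.1 hy.2.1.symm hy.2.2
  have hs : Subsingleton ↥(Subgroup.closure {y : X | y ∈ E ∧ y ≠ a ∧ Commute a y}) := by
    rw [he, Subgroup.closure_empty]; infer_instance
  haveI := hs
  have h1 : Nat.card (Cfsg.PSU 6 F 2) = 1 := Nat.card_eq_one_iff_unique.2
    ⟨f.symm.injective.subsingleton, ⟨1⟩⟩
  rw [card_psu] at h1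
  norm_num at h1

/-- Six and an odd number of commuting members with product one. -/
theorem relations {X : Type u} [Group X] [Finite X] {D : Set X} (hG : IsThreeTranspositionGroup D)
    (hprim : IsPrimitiveUnderConj D) (hM : IsOfTypeM22 X D) :
    (∃ six : List X, six.length = 6 ∧ six.Nodup ∧ (∀ x ∈ six, x ∈ D) ∧
      (∀ x ∈ six, ∀ y ∈ six, Commute x y) ∧ six.prod = 1) ∧
    ∃ o : List X, Odd o.length ∧ (∀ x ∈ o, x ∈ D) ∧ (∀ x ∈ o, ∀ y ∈ o, Commute x y) ∧ o.prod = 1 := by
  classical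
  have hS := hG.1
  obtain ⟨a₀, ha₀, b₀, hb₀, hne₀, hc₀⟩ := exists_pair hM
  obtain ⟨B, ⟨hBD, hBc⟩, hBmax⟩ := Set.exists_max_image
    {B : Set X | B ⊆ D ∧ ∀ a ∈ B, ∀ b ∈ B, Commute a b} Set.ncard (Set.toFinite _)
    ⟨∅, Set.empty_subset _, by simp⟩
  have hmax : ∀ x ∈ D, (∀ a ∈ B, Commute x a) → x ∈ B := by
    intro x hx hxB
    by_contra hn
    have h := hBmax (insert x B) ⟨Set.insert_subset hx hBD, by
      rintro a (rfl | ha) b (rfl | hb)
      exacts [Commute.refl _, hxB _ hb, (hxB _ ha).symm, hBc _ ha _ hb]⟩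
    rw [Set.ncard_insert_of_notMem hn] at h
    omega
  obtain ⟨h22, -, -⟩ := base_set hG hprim hM hBD hBc hmax
  obtain ⟨a, ha⟩ := Set.nonempty_of_ncard_ne_zero (s := B) (by omega)
  obtain ⟨b, hb, hba⟩ := Set.exists_ne_of_one_lt_ncard (s := B) (by omega) a
  obtain ⟨c, hc, hcab⟩ := Set.exists_mem_notMem_of_ncard_lt_ncard (s := {a, b}) (t := B) (by
    rw [Set.ncard_pair hba.symm]; omega)
  simp only [Set.mem_insert_iff, Set.mem_singleton_iff, not_or] at hcab
  have haD := hBD ha
  have hpb : b ∈ perp D a := ⟨hBD hb, hba, hBc a ha b hb⟩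
  have hpc : c ∈ perp D a := ⟨hBD hc, hcab.1, hBc a ha c hc⟩
  obtain ⟨p, q, r, hnd, hper, hcm, hpr, huniq⟩ :=
    Fischer3Tv.line hG hprim hM haD hpb hpc (Ne.symm hcab.2) (hBc b hb c hc)
  refine ⟨⟨[a, b, c, p, q, r], rfl, List.nodup_cons.2 ⟨fun h => (hper a h).2.1 rfl, hnd⟩,
    List.forall_mem_cons.2 ⟨haD, fun x hx => (hper x hx).1⟩, ?_, ?_⟩, ?_⟩
  · intro x hx y hy
    rcases List.mem_cons.1 hx with ex | hx <;> rcases List.mem_cons.1 hy with ey | hy
    exacts [ex ▸ ey ▸ Commute.refl _, ex ▸ (hper y hy).2.2, ey ▸ (hper x hx).2.2.symm, hcm x hx y hy]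
  · rw [List.prod_cons, hpr, tt_mul_self hS haD]
  obtain ⟨e, he, hen⟩ := Set.exists_mem_notMem_of_ncard_lt_ncard
    (s := (([a, b, c, p, q, r] : List X).toFinset : Set X)) (t := B) (by
      rw [Set.ncard_coe_finset]
      have := List.toFinset_card_le [a, b, c, p, q, r]
      simp only [List.length_cons, List.length_nil] at this
      omega)
  simp only [List.coe_toFinset, Set.mem_setOf_eq, List.mem_cons, List.not_mem_nil, or_false, not_or] at hen
  obtain ⟨hea, heb, hec, hep, heq, her⟩ := hen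
  have hmem : ∀ x ∈ [a, b, c, e], x ∈ B := by simp [ha, hb, hc, he]
  have hnd4 : [a, b, c, e].Nodup := by
    simp [hba.symm, Ne.symm hcab.1, Ne.symm hcab.2, Ne.symm hea, Ne.symm heb, Ne.symm hec]
  have hfac : IsFac D 4 [a, b, c, e].prod [a, b, c, e] :=
    ⟨hnd4, rfl, fun x hx => hBD (hmem x hx), fun x hx y hy => hBc x (hmem x hx) y (hmem y hy), rfl⟩
  set g := [a, b, c, e].prod with hg
  rcases prod_in_base hG hprim hM hBD hmax (g := g) (Fischer3Tv.list_sq hS hfac.2.2.1 hfac.2.2.2.1)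
    (fun x hx => Commute.list_prod_left _ _ fun y hy => hBc y (hmem y hy) x hx) with h1 | ⟨m, hm1, hm3, l, hl, hlB⟩
  · exfalso
    have h := fac_erase hS hfac (List.mem_cons_self (a := a))
    rw [h1, mul_one] at h
    exact absurd (fac_count_unique hG hprim hM le_rfl (by norm_num) (by norm_num) le_rfl
      (l := [a]) ⟨by simp, rfl, by simpa using haD, by simp, by simp⟩ h) (by norm_num)
  have hlist : ∀ x ∈ [a, b, c, e] ++ l, x ∈ B := fun x hx => (List.mem_append.1 hx).elim (hmem x) (hlB x)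
  have hprod : ([a, b, c, e] ++ l).prod = 1 := by
    rw [List.prod_append, hl.2.2.2.2]
    exact Fischer3Tv.list_sq hS hfac.2.2.1 hfac.2.2.2.1
  by_cases hm2 : m = 2
  · exfalso
    subst hm2
    by_cases hdis : ∀ x ∈ l, x ∉ [a, b, c, e]
    · obtain ⟨s, t, rfl⟩ := List.length_eq_two.1 hl.2.1
      have hs := hdis s (by simp); have ht := hdis t (by simp)
      simp only [List.mem_cons, List.not_mem_nil, or_false, not_or] at hs ht
      have hst : s ≠ t := by simpa using hl.1
      have hsB := hlB s (by simp); have htB := hlB t (by simp)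
      have hall : ∀ x ∈ [b, c, e, s, t], x ∈ B := by simp [hb, hc, he, hsB, htB]
      have hp : [b, c, e, s, t].prod = a := by
        have h1 : a * ([b, c, e, s, t].prod) = 1 := by simpa [mul_assoc] using hprod
        rw [eq_inv_of_mul_eq_one_right h1, tt_inv hS haD]
      have hn : [b, c, e, s, t].Nodup := by
        simp [Ne.symm hcab.2, Ne.symm heb, Ne.symm hec, Ne.symm hs.2.1, Ne.symm hs.2.2.1,
          Ne.symm hs.2.2.2, Ne.symm ht.2.1, Ne.symm ht.2.2.1, Ne.symm ht.2.2.2, hst]
      exact (huniq e s t ⟨hBD he, hea, hBc a ha e he⟩ ⟨hBD hsB, hs.1, hBc a ha s hsB⟩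
        ⟨hBD htB, ht.1, hBc a ha t htB⟩ hn (fun x hx y hy => hBc x (hall x hx) y (hall y hy)) hp).elim
        hep (fun h => h.elim heq her)
    · push Not at hdis
      obtain ⟨x, hxl, hx⟩ := hdis
      exact absurd (fac_count_unique hG hprim hM (by norm_num) le_rfl le_rfl (by norm_num)
        (fac_erase hS hfac hx) (fac_erase hS hl hxl)) (by norm_num)
  rcases (show m = 1 ∨ m = 3 by omega) with rfl | rfl
  all_goals exact ⟨_, ⟨by rw [List.length_append, hl.2.1]; simp [Nat.odd_iff], fun x hx => hBD (hlist x hx),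
    fun x hx y hy => hBc x (hlist x hx) y (hlist y hy), hprod⟩⟩


/-- Let G be a finite group with an involution d whose centralizer C is quasisimple, such that C modulo the subgroup generated by d is of type M(22) with respect to some conjugacy class of 3-transpositions generating it and also has an involution whose own centralizer is quasisimple with quotient by it isomorphic to the projective special unitary group of dimension 6 over the field with four elements and which is not weakly closed in that centralizer; and suppose some conjugate of d other than d commutes with d. Then every involution of C modulo the subgroup generated by d is the image of an involution of C, and d is not a square in G. -/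
theorem result {G : Type*} [Group G] [Finite G] (d : G) (hd : orderOf d = 2) (hq : Cfsg.IsQuasisimple ↥(Subgroup.centralizer ({d} : Set G))) [hzn : ((Subgroup.zpowers d).subgroupOf (Subgroup.centralizer ({d} : Set G))).Normal] (htype : ∃ E : Set (↥(Subgroup.centralizer ({d} : Set G)) ⧸ (Subgroup.zpowers d).subgroupOf (Subgroup.centralizer ({d} : Set G))), Cfsg.IsThreeTranspositionClass E ∧ Cfsg.IsOfTypeM22 _ E) (hinvol : ∃ d' : ↥(Subgroup.centralizer ({d} : Set G)) ⧸ (Subgroup.zpowers d).subgroupOf (Subgroup.centralizer ({d} : Set G)), orderOf d' = 2 ∧ Cfsg.IsQuasisimple ↥(Subgroup.centralizer ({d'} : Set _)) ∧ (∃ (K : Type) (_ : Field K) (_ : Fintype K), Fintype.card K = 4 ∧ ∃ _ : ((Subgroup.zpowers d').subgroupOf (Subgroup.centralizer ({d'} : Set _))).Normal, Nonempty (↥(Subgroup.centralizer ({d'} : Set _)) ⧸ (Subgroup.zpowers d').subgroupOf (Subgroup.centralizer ({d'} : Set _)) ≃* Cfsg.PSU 6 K 2)) ∧ ∃ g, g * d' * g⁻¹ ∈ Subgroup.centralizer ({d'} : Set _) ∧ g * d' *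 g⁻¹ ≠ d') (hnwc : ∃ g : G, g * d * g⁻¹ ∈ Subgroup.centralizer ({d} : Set G) ∧ g * d * g⁻¹ ≠ d) : (∀ x : ↥(Subgroup.centralizer ({d} : Set G)) ⧸ (Subgroup.zpowers d).subgroupOf (Subgroup.centralizer ({d} : Set G)), orderOf x = 2 → ∃ y : ↥(Subgroup.centralizer ({d} : Set G)), orderOf y = 2 ∧ (QuotientGroup.mk y : ↥(Subgroup.centralizer ({d} : Set G)) ⧸ (Subgroup.zpowers d).subgroupOf (Subgroup.centralizer ({d} : Set G))) = x) ∧ ¬ ∃ g : G, g ^ 2 = d := by
  classical
  set C := Subgroup.centralizer ({d} : Set G) with hC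
  set Z := (Subgroup.zpowers d).subgroupOf C with hZ
  set θ : ↥C →* ↥C ⧸ Z := QuotientGroup.mk' _
  let z : ↥C := ⟨d, Subgroup.mem_centralizer_singleton_iff.2 rfl⟩
  have hz : ∀ x : ↥C, Commute z x := fun x =>
    Subtype.ext (Subgroup.mem_centralizer_singleton_iff.1 x.2).symm
  have hzz : z * z = 1 := Subtype.ext (show d * d = 1 by rw [← pow_two, ← hd, pow_orderOf_eq_one])
  have hmemZ : ∀ x : ↥C, x ∈ Z → x = 1 ∨ x = z := fun x hx => by
    obtain ⟨i, hi⟩ := Subgroup.mem_zpowers_iff.1 (Subgroup.mem_subgroupOf.1 hx)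
    rw [← zpow_mod_orderOf, hd] at hi
    rcases Int.emod_two_eq_zero_or_one i with h0 | h0 <;> simp only [Nat.cast_ofNat, h0] at hi
    · exact Or.inl (Subtype.ext (by simpa using hi.symm))
    · exact Or.inr (Subtype.ext (hi.symm.trans (zpow_one d)))
  have hker : ∀ x : ↥C, θ x = 1 → x = 1 ∨ x = z := fun x hx => hmemZ x ((QuotientGroup.eq_one_iff x).1 hx)
  have hsurj : Function.Surjective θ := QuotientGroup.mk'_surjective _
  have hθz : θ z = 1 := (QuotientGroup.eq_one_iff z).2 (Subgroup.mem_subgroupOf.2 (Subgroup.mem_zpowers d))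
  have hz1 : z ≠ 1 := fun h => by
    rw [show d = 1 from congrArg Subtype.val h, orderOf_one] at hd
    exact absurd hd (by norm_num)
  obtain ⟨E, hE, hM⟩ := htype
  -- the quotient is simple
  obtain ⟨hperf, hsimp⟩ := hq
  have hcen : Subgroup.center ↥C = Z := by
    refine le_antisymm (fun x hx => ?_) fun x hx => Subgroup.mem_center_iff.2 fun y => ?_
    · have h : θ x ∈ Subgroup.center (↥C ⧸ Z) := Subgroup.mem_center_iff.2 fun y => by
        obtain ⟨y', rfl⟩ := hsurj y
        rw [← map_mul, ← map_mul, Subgroup.mem_center_iff.1 hx y']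
      rw [hM.1, Subgroup.mem_bot] at h
      exact (QuotientGroup.eq_one_iff x).1 h
    · exact (ker_central θ z hz hker ((QuotientGroup.eq_one_iff x).2 hx) y).eq.symm
  haveI : IsSimpleGroup (↥C ⧸ Z) := by
    haveI := hsimp
    exact (QuotientGroup.quotientMulEquivOfEq hcen).symm.isSimpleGroup
  have htop : commutator (↥C ⧸ Z) = ⊤ := by
    rw [commutator_def, ← MonoidHom.range_eq_top_of_surjective θ hsurj, MonoidHom.range_eq_map,
      ← Subgroup.map_commutator, ← commutator_def, hperf.commutator_eq_top]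
  have hw := exists_pair hM
  have hprim : IsPrimitiveUnderConj E := (simple_iff_primitive hE hM.1 hw).1.1 (by
    rw [htop]; exact Subgroup.topEquiv.isSimpleGroup)
  have hG := class_group hE
  obtain ⟨⟨six, h6, h6n, h6T, h6c, h6p⟩, o, ho, hoT, hoc, hop⟩ := relations hG hprim hM
  obtain ⟨h1, h2⟩ := conclude θ z hzz hker hsurj hz1 hθz fun x hx y hy => by
    obtain ⟨m, -, -, l, hl⟩ := involution_short hG hprim hM hx
    exact lifts_square_one θ z hz hzz hker hsurj E (fun x hx => tt_mul_self hG.1 hx)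
      (fun a ha b hb => class_exists_conj hE ha hb)
      (fun a ha b hb a' ha' b' hb' hne hc hne' hc' => pair_trans hE (below_base hG hprim hM).loc
        (by norm_num) ha ⟨hb, hne.symm, hc⟩ ha' ⟨hb', hne'.symm, hc'⟩)
      h6 h6n h6T h6c h6p ho hoT hoc hop hl.2.2.1 hl.2.2.2.1 y (hy.trans hl.2.2.2.2.symm)
  exact ⟨h1, fun ⟨g, hg⟩ => h2 ⟨g, Subgroup.mem_centralizer_singleton_iff.2 (by rw [← hg]; group)⟩
    (Subtype.ext (by show g * g = d; rw [← pow_two, hg]))⟩

end Cfsg.Agent.S5453
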