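import Cfsg.Statements.S5459
import Cfsg.Agent.Lib.Invol.Basic
-- import your own Cfsg.Agent.* helpers here

set_option autoImplicit false
open Cfsg

namespace Cfsg.Agent.S5459

open Subgroup in
open scoped commutatorElement in
theorem lift_connected {G : Type*} [Group G] [Finite G] (L : Subgroup G) [L.Normal] (hperf : Group.IsPerfect L)
    (hsimple : IsSimpleGroup (↥L ⧸ Subgroup.center ↥L))
    (d : G) (hd : orderOf d = 2) (hgen : L ⊔ zpowers d = ⊤) (Z : Subgroup G) [Z.Normal]
    (hZdef : Z = (Subgroup.center ↥L).map L.subtype) (hodd : Odd (Nat.card Z))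
    (hinv : ∀ c ∈ Z, d * c * d⁻¹ = c⁻¹)
    (hconn : (Cfsg.commutingGraph (conjugatesOf (QuotientGroup.mk d : G ⧸ Z))).Connected) :
    (Cfsg.commutingGraph (conjugatesOf d)).Connected := by
  have hZL : Z ≤ L := hZdef ▸ map_subtype_le _
  have hZc : ∀ c ∈ Z, ∀ l ∈ L, Commute c l := by
    intro c hc l hl
    rw [hZdef] at hc
    obtain ⟨c', hc', rfl⟩ := hc
    exact (congrArg Subtype.val (mem_center_iff.1 hc' ⟨l, hl⟩)).symm
  set D := conjugatesOf d
  have hDconj : ∀ u ∈ D, ∀ g : G, g * u * g⁻¹ ∈ D := fun u hu g =>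
    (show IsConj d u from hu).trans (isConj_iff.2 ⟨g, rfl⟩)
  have hsq : ∀ u ∈ D, u * u = 1 := fun u hu =>
    Cfsg.Agent.Invol.mul_self_of_orderOf_two (Cfsg.Agent.Invol.orderOf_two_of_isConj hu hd)
  have hDinv : ∀ u ∈ D, ∀ c ∈ Z, u * c * u⁻¹ = c⁻¹ := by
    intro u hu c hc
    obtain ⟨g, rfl⟩ := isConj_iff.1 (show IsConj d u from hu)
    have h1 := hinv _ ((inferInstance : Z.Normal).conj_mem c hc g⁻¹)
    rw [inv_inv] at h1
    calc g * d * g⁻¹ * c * (g * d * g⁻¹)⁻¹ = g * (d * (g⁻¹ * c * g) * d⁻¹) * g⁻¹ := by group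
      _ = c⁻¹ := by rw [h1]; group
  set r : G → G → Prop := fun a b => a ∈ D ∧ b ∈ D ∧ a ≠ b ∧ Commute a b with hr
  set R : Set G := {x | Relation.ReflTransGen r d x}
  have hRD : ∀ x ∈ R, x ∈ D := by
    intro x hx
    induction hx with
    | refl => exact IsConj.refl d
    | tail _ h _ => exact h.2.1
  have hsymm : ∀ {a b : G}, Relation.ReflTransGen r a b → Relation.ReflTransGen r b a := by
    intro a b h
    induction h with
    | refl => exact Relation.ReflTransGen.refl
    | tail _ h ih => exact (Relation.ReflTransGen.single ⟨h.2.1, h.1, h.2.2.1.symm, h.2.2.2.symm⟩).trans ih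
  have hmap : ∀ (g : G) {a b : G}, Relation.ReflTransGen r a b →
      Relation.ReflTransGen r (g * a * g⁻¹) (g * b * g⁻¹) := by
    intro g a b h
    induction h with
    | refl => exact Relation.ReflTransGen.refl
    | tail _ h ih =>
      refine ih.tail ⟨hDconj _ h.1 g, hDconj _ h.2.1 g, fun e => h.2.2.1 ((MulAut.conj g).injective e), ?_⟩
      exact h.2.2.2.map (MulAut.conj g)
  -- the members of `R` stabilize `R`
  let S : Subgroup G :=
    { carrier := {g | ∀ y ∈ R, g * y * g⁻¹ ∈ R ∧ g⁻¹ * y * g ∈ R}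
      one_mem' := fun y hy => by simp [hy]
      mul_mem' := fun {a b} ha hb y hy => ⟨by
          rw [show a * b * y * (a * b)⁻¹ = a * (b * y * b⁻¹) * a⁻¹ by group]
          exact (ha _ (hb y hy).1).1, by
          rw [show (a * b)⁻¹ * y * (a * b) = b⁻¹ * (a⁻¹ * y * a) * b by group]
          exact (hb _ (ha y hy).2).2⟩
      inv_mem' := fun {a} ha y hy => ⟨by rw [inv_inv]; exact (ha y hy).2, by rw [inv_inv]; exact (ha y hy).1⟩ }
  set M := closure R
  have hMS : M ≤ S := by
    refine (closure_le S).2 fun x hx y hy => ?_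
    have hxinv : x⁻¹ = x := Cfsg.Agent.Invol.inv_eq_self_of_mul_self (hsq x (hRD x hx))
    have h1 : Relation.ReflTransGen r (x * x * x⁻¹) (x * y * x⁻¹) := hmap x ((hsymm hx).trans hy)
    rw [mul_inv_cancel_right] at h1
    have h2 : x * y * x⁻¹ ∈ R := (show Relation.ReflTransGen r d x from hx).trans h1
    refine ⟨h2, ?_⟩
    rw [hxinv] at h2 ⊢
    exact h2
  have hdR : d ∈ R := Relation.ReflTransGen.refl
  have hfinal : M = ⊤ → ∀ u ∈ D, u ∈ R := by
    intro h u hu
    obtain ⟨g, rfl⟩ := isConj_iff.1 (show IsConj d u from hu)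
    exact (hMS (h ▸ mem_top g : g ∈ M) d hdR).1
  -- every class of the quotient meets `R`
  have hlift : ∀ q : conjugatesOf (QuotientGroup.mk d : G ⧸ Z), ∃ x ∈ R, QuotientGroup.mk x = (q : G ⧸ Z) := by
    intro q
    have hreach := hconn.preconnected ⟨_, IsConj.refl (QuotientGroup.mk d : G ⧸ Z)⟩ q
    rw [SimpleGraph.reachable_iff_reflTransGen] at hreach
    induction hreach with
    | refl => exact ⟨d, hdR, rfl⟩
    | @tail a b _ hab ih =>
      obtain ⟨e, he, hea⟩ := ih
      rw [Cfsg.commutingGraph, SimpleGraph.fromRel_adj] at hab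
      have hne : (a : G ⧸ Z) ≠ b := fun h => hab.1 (Subtype.ext h)
      have hcom : Commute (a : G ⧸ Z) b := hab.2.elim id Commute.symm
      obtain ⟨gb, hgb⟩ := isConj_iff.1 (show IsConj (QuotientGroup.mk d : G ⧸ Z) b from b.2)
      obtain ⟨g, rfl⟩ := QuotientGroup.mk_surjective gb
      set f := g * d * g⁻¹ with hf
      have hfD : f ∈ D := hDconj d (IsConj.refl d) g
      have hfb : (QuotientGroup.mk f : G ⧸ Z) = b := by
        rw [← hgb, hf, QuotientGroup.mk_mul, QuotientGroup.mk_mul, QuotientGroup.mk_inv]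
      have heD := hRD e he
      have hc : e * f * e * f ∈ Z := by
        rw [← QuotientGroup.eq_one_iff]
        rw [QuotientGroup.mk_mul, QuotientGroup.mk_mul, QuotientGroup.mk_mul]
        rw [hea, hfb, mul_assoc (a : G ⧸ Z) b a, ← hcom.eq, ← mul_assoc (a : G ⧸ Z) a b, ← hea,
          ← QuotientGroup.mk_mul, hsq e heD, QuotientGroup.mk_one, one_mul, ← hfb, ← QuotientGroup.mk_mul,
          hsq f hfD, QuotientGroup.mk_one]
      obtain ⟨u, hu, hu4⟩ : ∃ u ∈ Z, (u * u) * (u * u) = e * f * e * f := by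
        have ho : Odd (orderOf (e * f * e * f)) := hodd.of_dvd_nat (orderOf_dvd_natCard Z hc)
        obtain ⟨v, hv, hvv, hvo⟩ := Cfsg.Agent.Invol.exists_sqrt ho
        obtain ⟨u, hu, huu, -⟩ := Cfsg.Agent.Invol.exists_sqrt hvo
        exact ⟨u, (zpowers_le.2 ((zpowers_le.2 hc) hv)) hu, by rw [huu, hvv]⟩
      set f' := u * f * u⁻¹ with hf'
      have hf'D : f' ∈ D := hDconj f hfD u
      have hf'b : (QuotientGroup.mk f' : G ⧸ Z) = b := by
        rw [hf', QuotientGroup.mk_mul, QuotientGroup.mk_mul, (QuotientGroup.eq_one_iff u).2 hu, one_mul,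
          (QuotientGroup.eq_one_iff u⁻¹).2 (inv_mem hu), mul_one, hfb]
      refine ⟨f', (show Relation.ReflTransGen r d e from he).tail ⟨heD, hf'D, fun h => hne ?_, ?_⟩, hf'b⟩
      · rw [← hea, h, hf'b]
      · -- `e` and `f'` commute
        have hfinv := Cfsg.Agent.Invol.inv_eq_self_of_mul_self (hsq f hfD)
        have heinv := Cfsg.Agent.Invol.inv_eq_self_of_mul_self (hsq e heD)
        have hZf : ∀ c ∈ Z, c * f = f * c⁻¹ := fun c hc => by
          have := hDinv f hfD c hc
          calc c * f = (f * f) * c * f⁻¹ := by rw [hsq f hfD, one_mul, hfinv]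
            _ = f * (f * c * f⁻¹) := by group
            _ = f * c⁻¹ := by rw [this]
        have hZe : ∀ c ∈ Z, c * e = e * c⁻¹ := fun c hc => by
          have := hDinv e heD c hc
          calc c * e = (e * e) * c * e⁻¹ := by rw [hsq e heD, one_mul, heinv]
            _ = e * (e * c * e⁻¹) := by group
            _ = e * c⁻¹ := by rw [this]
        have hw : u⁻¹ * u⁻¹ ∈ Z := mul_mem (inv_mem hu) (inv_mem hu)
        have e1 : f' = f * (u⁻¹ * u⁻¹) := by rw [hf', hZf u hu, mul_assoc]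
        have h0 : e * f' * (e * f') = 1 := by
          rw [e1]
          calc e * (f * (u⁻¹ * u⁻¹)) * (e * (f * (u⁻¹ * u⁻¹)))
              = e * f * ((u⁻¹ * u⁻¹) * e) * f * (u⁻¹ * u⁻¹) := by group
            _ = e * f * (e * (u⁻¹ * u⁻¹)⁻¹) * f * (u⁻¹ * u⁻¹) := by rw [hZe _ hw]
            _ = e * f * e * ((u⁻¹ * u⁻¹)⁻¹ * f) * (u⁻¹ * u⁻¹) := by group
            _ = e * f * e * (f * (u⁻¹ * u⁻¹)⁻¹⁻¹) * (u⁻¹ * u⁻¹) := by rw [hZf _ (inv_mem hw)]
            _ = e * f * e * f * ((u * u) * (u * u))⁻¹ := by group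
            _ = 1 := by rw [hu4, mul_inv_cancel]
        show e * f' = f' * e
        calc e * f' = (e * f')⁻¹ := eq_inv_of_mul_eq_one_left h0
          _ = f' * e := by rw [mul_inv_rev, heinv, Cfsg.Agent.Invol.inv_eq_self_of_mul_self (hsq f' hf'D)]
  set N := M ⊔ Z with hN
  haveI hNn : N.Normal := by
    refine ⟨fun n hn g => ?_⟩
    have hle : N ≤ N.comap (MulAut.conj g).toMonoidHom := sup_le ((closure_le _).2 fun x hx => ?_)
      (fun c hc => mem_sup_right ((inferInstance : Z.Normal).conj_mem c hc g))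
    · exact hle hn
    · obtain ⟨y, hy, hyq⟩ := hlift ⟨QuotientGroup.mk (g * x * g⁻¹),
        (QuotientGroup.mk' Z).map_isConj (hDconj x (hRD x hx) g)⟩
      show g * x * g⁻¹ ∈ N
      have h1 : y⁻¹ * (g * x * g⁻¹) ∈ Z := QuotientGroup.eq.1 hyq
      have := mul_mem (mem_sup_left (subset_closure hy) : y ∈ N) (mem_sup_right h1)
      rwa [mul_inv_cancel_left] at this
  have hdN : d ∈ N := mem_sup_left (subset_closure hdR)
  have hcases : ∀ K : Subgroup L, K.Normal → K ≤ center L ∨ K = ⊤ := by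
    intro K hK
    haveI := hsimple
    haveI := hK
    rcases (Subgroup.Normal.map hK (QuotientGroup.mk' (center L)) (QuotientGroup.mk'_surjective _)).eq_bot_or_eq_top
      with h | h
    · left; rwa [Subgroup.map_eq_bot_iff, QuotientGroup.ker_mk'] at h
    · right
      have h1 : K ⊔ center L = ⊤ := by
        have h1 := congrArg (Subgroup.comap (QuotientGroup.mk' (center L))) h
        rwa [Subgroup.comap_map_eq, QuotientGroup.ker_mk', Subgroup.comap_top] at h1
      have h2 : commutator L ≤ K := by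
        rw [_root_.commutator_def, commutator_le]
        intro a _ b _
        obtain ⟨a1, ha1, a2, ha2, rfl⟩ := mem_sup_of_normal_right.1 (h1 ▸ mem_top a : a ∈ K ⊔ center L)
        obtain ⟨b1, hb1, b2, hb2, rfl⟩ := mem_sup_of_normal_right.1 (h1 ▸ mem_top b : b ∈ K ⊔ center L)
        have hca := mem_center_iff.1 ha2
        have hcb := mem_center_iff.1 hb2
        have e : ⁅a1 * a2, b1 * b2⁆ = ⁅a1, b1⁆ := by
          rw [commutatorElement_def, commutatorElement_def, mul_inv_rev, mul_inv_rev]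
          calc a1 * a2 * (b1 * b2) * (a2⁻¹ * a1⁻¹) * (b2⁻¹ * b1⁻¹)
              = a1 * (a2 * (b1 * b2)) * a2⁻¹ * a1⁻¹ * b2⁻¹ * b1⁻¹ := by group
            _ = a1 * b1 * (b2 * a1⁻¹) * b2⁻¹ * b1⁻¹ := by rw [← hca (b1 * b2)]; group
            _ = a1 * b1 * a1⁻¹ * b1⁻¹ := by rw [← hcb a1⁻¹]; group
        rw [e, commutatorElement_def]
        exact mul_mem (mul_mem (mul_mem ha1 hb1) (inv_mem ha1)) (inv_mem hb1)
      exact top_le_iff.1 (hperf.commutator_eq_top ▸ h2)
  by_cases hLN : L ≤ N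
  · -- `L` is perfect, so lies in `M`
    have hLM : L ≤ M := by
      intro l hl
      have hsup : ∀ a ∈ L, ∃ m ∈ M, ∃ c ∈ Z, a = m * c := fun a ha => by
        obtain ⟨m, hm, c, hc, e⟩ := mem_sup_of_normal_right.1 (hLN ha)
        exact ⟨m, hm, c, hc, e.symm⟩
      have h1 : commutator L ≤ M.subgroupOf L := by
        rw [_root_.commutator_def, commutator_le]
        rintro ⟨a, ha⟩ _ ⟨b, hb⟩ _
        obtain ⟨m, hm, c, hc, rfl⟩ := hsup a ha
        obtain ⟨m', hm', c', hc', rfl⟩ := hsup b hb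
        show ((⁅(⟨m * c, ha⟩ : L), (⟨m' * c', hb⟩ : L)⁆ : L) : G) ∈ M
        have hmL : m ∈ L := by
          have := mul_mem ha (inv_mem (hZL hc))
          rwa [mul_inv_cancel_right] at this
        have hcm' := hZc c hc (m' * c') hb
        have hc'm := hZc c' hc' m⁻¹ (inv_mem hmL)
        have e : ((⁅(⟨m * c, ha⟩ : L), (⟨m' * c', hb⟩ : L)⁆ : L) : G) = ⁅m, m'⁆ := by
          show m * c * (m' * c') * (m * c)⁻¹ * (m' * c')⁻¹ = ⁅m, m'⁆
          rw [commutatorElement_def]
          calc m * c * (m' * c') * (m * c)⁻¹ * (m' * c')⁻¹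
              = m * (c * (m' * c')) * c⁻¹ * m⁻¹ * c'⁻¹ * m'⁻¹ := by group
            _ = m * m' * (c' * m⁻¹) * c'⁻¹ * m'⁻¹ := by rw [hcm'.eq]; group
            _ = m * m' * m⁻¹ * m'⁻¹ := by rw [hc'm.eq]; group
        rw [e, commutatorElement_def]
        exact mul_mem (mul_mem (mul_mem hm hm') (inv_mem hm)) (inv_mem hm')
      rw [hperf.commutator_eq_top] at h1
      exact h1 (mem_top (⟨l, hl⟩ : L))
    have hMtop : M = ⊤ := top_le_iff.1 (hgen ▸ sup_le hLM (zpowers_le.2 (subset_closure hdR)))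
    have hreach : ∀ u ∈ R, ∃ hu : u ∈ D,
        (Cfsg.commutingGraph D).Reachable ⟨d, IsConj.refl d⟩ ⟨u, hu⟩ := by
      intro u hu
      induction hu with
      | refl => exact ⟨IsConj.refl d, SimpleGraph.Reachable.refl _⟩
      | tail _ h ih =>
        obtain ⟨ha, hr'⟩ := ih
        refine ⟨h.2.1, hr'.trans (SimpleGraph.Adj.reachable ?_)⟩
        rw [Cfsg.commutingGraph, SimpleGraph.fromRel_adj]
        exact ⟨fun e => h.2.2.1 (congrArg Subtype.val e), Or.inl h.2.2.2⟩
    haveI : Nonempty D := ⟨⟨d, IsConj.refl d⟩⟩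
    refine ⟨fun a b => ?_⟩
    obtain ⟨ha, hra⟩ := hreach a (hfinal hMtop a a.2)
    obtain ⟨hb, hrb⟩ := hreach b (hfinal hMtop b b.2)
    exact hra.symm.trans hrb
  · -- otherwise `d` centralizes `L` and its class is a singleton
    have hK : (N.subgroupOf L) ≤ center L :=
      (hcases _ inferInstance).resolve_right fun h => hLN (subgroupOf_eq_top.1 h)
    have hcomm : ∀ l : L, d * l * d⁻¹ * (l : G)⁻¹ ∈ Z := by
      intro l
      have h1 : d * l * d⁻¹ * (l : G)⁻¹ ∈ N := by
        rw [mul_assoc, mul_assoc, ← mul_assoc (l : G)]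
        exact mul_mem hdN (hNn.conj_mem _ (inv_mem hdN) l)
      have h2 : d * l * d⁻¹ * (l : G)⁻¹ ∈ L := mul_mem ((inferInstance : L.Normal).conj_mem l l.2 d) (inv_mem l.2)
      rw [hZdef]
      exact ⟨⟨_, h2⟩, hK (show (⟨_, h2⟩ : L) ∈ N.subgroupOf L from h1), rfl⟩
    let φ : L →* Z :=
      { toFun := fun l => ⟨d * l * d⁻¹ * (l : G)⁻¹, hcomm l⟩
        map_one' := Subtype.ext (by simp)
        map_mul' := fun a b => Subtype.ext (by
          show d * ((a : G) * b) * d⁻¹ * ((a : G) * b)⁻¹ = (d * a * d⁻¹ * (a : G)⁻¹) * (d * b * d⁻¹ * (b : G)⁻¹)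
          have hcb := hZc _ (hcomm b) a a.2
          calc d * ((a : G) * b) * d⁻¹ * ((a : G) * b)⁻¹
              = (d * a * d⁻¹) * ((d * b * d⁻¹ * (b : G)⁻¹) * (a : G)⁻¹) := by group
            _ = (d * a * d⁻¹) * ((a : G)⁻¹ * (d * b * d⁻¹ * (b : G)⁻¹)) := by rw [hcb.inv_right.eq]
            _ = (d * a * d⁻¹ * (a : G)⁻¹) * (d * b * d⁻¹ * (b : G)⁻¹) := by group) }
    have hφ : commutator L ≤ φ.ker := by
      rw [_root_.commutator_def, commutator_le]
      intro a _ b _
      rw [MonoidHom.mem_ker, map_commutatorElement, commutatorElement_eq_one_iff_mul_comm]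
      exact Subtype.ext (hZc _ (φ a).2 _ (hZL (φ b).2)).eq
    have hdl : L ≤ centralizer ({d} : Set G) := fun l hl => by
      rw [hperf.commutator_eq_top] at hφ
      have h1 : d * l * d⁻¹ * l⁻¹ = 1 := congrArg Subtype.val (MonoidHom.mem_ker.1 (hφ (mem_top (⟨l, hl⟩ : L))))
      rw [mul_inv_eq_one, mul_inv_eq_iff_eq_mul] at h1
      exact mem_centralizer_singleton_iff.2 h1.symm
    have hall : ∀ g : G, g ∈ centralizer ({d} : Set G) := fun g => by
      have h1 : L ⊔ zpowers d ≤ centralizer ({d} : Set G) :=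
        sup_le hdl (zpowers_le.2 (mem_centralizer_singleton_iff.2 rfl))
      exact h1 (hgen ▸ mem_top g)
    have hsingle : ∀ a : D, (a : G) = d := fun a => by
      obtain ⟨g, hg⟩ := isConj_iff.1 (show IsConj d (a : G) from a.2)
      rw [← hg, mem_centralizer_singleton_iff.1 (hall g), mul_inv_cancel_right]
    haveI : Nonempty D := ⟨⟨d, IsConj.refl d⟩⟩
    refine ⟨fun a b => ?_⟩
    rw [show a = b from Subtype.ext ((hsingle a).trans (hsingle b).symm)]

/-- Let G be a finite group with a quasisimple normal subgroup L and an involution d such that G is generated by L and d, the centre of L has odd order, and d inverts every element of the centre of L. If the commuting graph on the conjugacy class of the image of d in G modulo the centre of L is connected, then the commuting graph on the conjugacy class of d is connected. -/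
theorem result {G : Type*} [Group G] [Finite G] (L : Subgroup G) [L.Normal] (hL : Cfsg.IsQuasisimple ↥L) (d : G) (hd : orderOf d = 2) (hgen : L ⊔ Subgroup.zpowers d = ⊤) (hodd : Odd (Nat.card ↥(Subgroup.center ↥L))) (hinv : ∀ c ∈ (Subgroup.center ↥L).map L.subtype, d * c * d⁻¹ = c⁻¹) [hn : ((Subgroup.center ↥L).map L.subtype).Normal] (hconn : (Cfsg.commutingGraph (conjugatesOf (QuotientGroup.mk d : G ⧸ (Subgroup.center ↥L).map L.subtype))).Connected) : (Cfsg.commutingGraph (conjugatesOf d)).Connected := by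
  exact lift_connected L hL.1 hL.2 d hd hgen _ rfl
    (by rwa [Subgroup.card_map_of_injective (Subgroup.subtype_injective L)]) hinv hconn

end Cfsg.Agent.S5459
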