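import Cfsg.Statements.S5471
import Cfsg.Agent.Lib.Fischer3Rel.Swap
-- import your own Cfsg.Agent.* helpers here

set_option autoImplicit false
open Cfsg

namespace Cfsg.Agent.S5471

/-- Let G be a finite group with trivial centre generated by a conjugation-invariant set D of 3-transpositions on which it acts primitively, such that for some d in D the subgroup generated by the members of D other than d commuting with d has central largest normal 2- and 3-subgroups, and suppose G with D is of type M(23). Let d₁, d₂, d₃ be distinct pairwise commuting members of D and j their product. Then the joint centralizer of d₁, d₂, d₃ is normal in the centralizer of j with quotient isomorphic to the symmetric group of degree 3. -/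
theorem result {G : Type*} [Group G] [Finite G] {D : Set G} (hD : Cfsg.IsThreeTranspositionGroup D) (hprim : Cfsg.IsPrimitiveUnderConj D) (d₀ : G) (hd₀ : d₀ ∈ D) (h3 : Cfsg.pCore 3 ↥(Subgroup.closure {y : G | y ∈ D ∧ y ≠ d₀ ∧ Commute d₀ y}) ≤ Subgroup.center ↥(Subgroup.closure {y : G | y ∈ D ∧ y ≠ d₀ ∧ Commute d₀ y})) (h2 : Cfsg.pCore 2 ↥(Subgroup.closure {y : G | y ∈ D ∧ y ≠ d₀ ∧ Commute d₀ y}) ≤ Subgroup.center ↥(Subgroup.closure {y : G | y ∈ D ∧ y ≠ d₀ ∧ Commute d₀ y})) (h23 : Cfsg.IsOfTypeM23 G D) (d₁ d₂ d₃ : G) (h₁ : d₁ ∈ D) (h₂ : d₂ ∈ D) (h₃ : d₃ ∈ D) (h12 : d₁ ≠ d₂) (h13 : d₁ ≠ d₃) (h23 : d₂ ≠ d₃) (c12 : Commute d₁ d₂) (c13 : Commute d₁ d₃) (c23 : Commute d₂ d₃) (K C : Subgroup G) (hK : K = Subgroup.centralizer ({d₁, d₂, d₃} : Set G)) (hC : C = Subgroup.centralizer ({d₁ * d₂ * d₃} : Set G)) : K ≤ C ∧ ∃ _ : (K.subgroupOf C).Normal, Nonempty (↥C ⧸ K.subgroupOf C ≃* Equiv.Perm (Fin 3)) := by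
  subst hK hC
  have hC' := Fischer3.class_of_primitive hD hprim
  have hZ : Subgroup.center G = ⊥ := ‹Cfsg.IsOfTypeM23 G D›.1
  have htype : Cfsg.IsOfTypeM23 G D := ‹Cfsg.IsOfTypeM23 G D›
  have hw : ∃ a ∈ D, ∃ b ∈ D, a ≠ b ∧ Commute a b := ⟨d₁, h₁, d₂, h₂, h12, c12⟩
  have hcore : Cfsg.pCore 2 G = ⊥ := by
    have := (Fischer3.pCores_central_of_primitive hD hprim hw).1
    rw [hZ] at this
    exact le_bot_iff.1 this
  have hmemK : ∀ g : G, g ∈ Subgroup.centralizer ({d₁, d₂, d₃} : Set G) ↔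
      Commute g d₁ ∧ Commute g d₂ ∧ Commute g d₃ := by
    intro g
    rw [Subgroup.mem_centralizer_iff]
    simp only [Set.mem_insert_iff, Set.mem_singleton_iff, forall_eq_or_imp, forall_eq]
    exact ⟨fun ⟨a, b, c⟩ => ⟨a.symm, b.symm, c.symm⟩, fun ⟨a, b, c⟩ => ⟨a.eq.symm, b.eq.symm, c.eq.symm⟩⟩
  have hmemC : ∀ g : G, g ∈ Subgroup.centralizer ({d₁ * d₂ * d₃} : Set G) ↔
      Commute g (d₁ * d₂ * d₃) := fun g => Subgroup.mem_centralizer_singleton_iff
  have hle : Subgroup.centralizer ({d₁, d₂, d₃} : Set G) ≤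
      Subgroup.centralizer ({d₁ * d₂ * d₃} : Set G) := fun g hg => by
    obtain ⟨a, b, c⟩ := (hmemK g).1 hg
    exact (hmemC g).2 ((a.mul_right b).mul_right c)
  refine ⟨hle, ?_⟩
  set C := Subgroup.centralizer ({d₁ * d₂ * d₃} : Set G) with hCdef
  let v : Fin 3 → G := ![d₁, d₂, d₃]
  have hd12 : d₁ ≠ d₂ := h12
  have hd13 : d₁ ≠ d₃ := h13
  have hd23 : d₂ ≠ d₃ := ‹d₂ ≠ d₃›
  have hv : Function.Injective v := by
    intro i j e
    fin_cases i <;> fin_cases j <;> simp_all [v, eq_comm]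
  have hperm : ∀ g : ↥C, ∀ i, ∃ j, (g : G) * v i * (g : G)⁻¹ = v j := by
    intro g i
    have := Fischer3Rel.triple_perm hD hprim hd₀ h2 (Or.inl htype) (l := [d₁, d₂, d₃])
      (by simp [hd12, hd13, hd23]) (by simp)
      (by intro a ha; simp only [List.mem_cons, List.not_mem_nil, or_false] at ha;
          rcases ha with rfl | rfl | rfl <;> assumption)
      (by intro a ha b hb; simp only [List.mem_cons, List.not_mem_nil, or_false] at ha hb;
          rcases ha with rfl | rfl | rfl <;> rcases hb with rfl | rfl | rfl <;>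
            first | exact Commute.refl _ | assumption | (exact Commute.symm ‹_›))
      (g := (g : G)) (by simpa [mul_assoc] using (hmemC g).1 g.2) (v i)
      (by fin_cases i <;> simp [v])
    simp only [List.mem_cons, List.not_mem_nil, or_false] at this
    rcases this with e | e | e
    · exact ⟨0, e⟩
    · exact ⟨1, e⟩
    · exact ⟨2, e⟩
  choose σ hσ using hperm
  have hσm : ∀ g k : ↥C, ∀ i, σ (g * k) i = σ g (σ k i) := fun g k i => hv (by
    rw [← hσ, ← hσ, ← hσ, Subgroup.coe_mul]; group)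
  have hσ1 : ∀ i, σ 1 i = i := fun i => hv (by rw [← hσ]; simp)
  let φ : ↥C →* Equiv.Perm (Fin 3) :=
    { toFun := fun g => ⟨σ g, σ g⁻¹, fun i => by rw [← hσm, inv_mul_cancel, hσ1],
        fun i => by rw [← hσm, mul_inv_cancel, hσ1]⟩
      map_one' := Equiv.ext hσ1
      map_mul' := fun g k => Equiv.ext (hσm g k) }
  have hker : φ.ker = (Subgroup.centralizer ({d₁, d₂, d₃} : Set G)).subgroupOf C := by
    ext g
    rw [MonoidHom.mem_ker, Subgroup.mem_subgroupOf, hmemK]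
    constructor
    · intro h
      have hfix : ∀ i, Commute (g : G) (v i) := fun i => by
        have := hσ g i
        rw [show σ g i = i from congrArg (fun p : Equiv.Perm (Fin 3) => p i) h] at this
        exact mul_inv_eq_iff_eq_mul.1 this
      exact ⟨hfix 0, hfix 1, hfix 2⟩
    · rintro ⟨a, b, c⟩
      refine Equiv.ext fun i => hv ?_
      show v (σ g i) = v i
      rw [← hσ]
      fin_cases i
      · exact Fischer3.conj_eq_of_commute a
      · exact Fischer3.conj_eq_of_commute b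
      · exact Fischer3.conj_eq_of_commute c
  have horb : ∀ d ∈ D, ∀ x ∈ Fischer3Rel.perp D d, ∀ y ∈ Fischer3Rel.perp D d,
      ∃ k ∈ Fischer3Rel.H D d, k * x * k⁻¹ = y :=
    fun d hd x hx y hy => Fischer3Rel.perp_orbit hD hprim hZ hd hx hy
  obtain ⟨g, g1, g2, g3⟩ := Fischer3Rel.exists_swap hC' hcore h₁
    (a := d₂) (b := d₃) ⟨h₂, hd12.symm, c12⟩ ⟨h₃, hd13.symm, c13⟩ c23 (horb d₁ h₁)
  obtain ⟨k, k3, k1, k2⟩ := Fischer3Rel.exists_swap hC' hcore h₃
    (a := d₁) (b := d₂) ⟨h₁, hd13, c13.symm⟩ ⟨h₂, hd23, c23.symm⟩ c12 (horb d₃ h₃)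
  have hgC : g ∈ C := by
    refine (hmemC g).2 (mul_inv_eq_iff_eq_mul.1 ?_)
    rw [show g * (d₁ * d₂ * d₃) * g⁻¹ = (g * d₁ * g⁻¹) * (g * d₂ * g⁻¹) * (g * d₃ * g⁻¹) by group,
      g1, g2, g3, mul_assoc, ← c23.eq, ← mul_assoc]
  have hkC : k ∈ C := by
    refine (hmemC k).2 (mul_inv_eq_iff_eq_mul.1 ?_)
    rw [show k * (d₁ * d₂ * d₃) * k⁻¹ = (k * d₁ * k⁻¹) * (k * d₂ * k⁻¹) * (k * d₃ * k⁻¹) by group,
      k1, k2, k3, ← c12.eq]
  have e1 : φ ⟨g, hgC⟩ = Equiv.swap 1 2 := Equiv.ext fun i => hv (by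
    show v (σ _ i) = _
    rw [← hσ]
    fin_cases i <;> simp [v, Equiv.swap_apply_def, g1, g2, g3])
  have e2 : φ ⟨k, hkC⟩ = Equiv.swap 0 1 := Equiv.ext fun i => hv (by
    show v (σ _ i) = _
    rw [← hσ]
    fin_cases i <;> simp [v, Equiv.swap_apply_def, k1, k2, k3])
  have hsurj : Function.Surjective φ := fun p => by
    have := (show ∀ p : Equiv.Perm (Fin 3), p = 1 ∨ p = Equiv.swap 0 1 ∨ p = Equiv.swap 1 2 ∨
      p = Equiv.swap 0 1 * Equiv.swap 1 2 ∨ p = Equiv.swap 1 2 * Equiv.swap 0 1 ∨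
      p = Equiv.swap 0 1 * Equiv.swap 1 2 * Equiv.swap 0 1 by decide) p
    rw [← e1, ← e2] at this
    rcases this with rfl | rfl | rfl | rfl | rfl | rfl
    · exact ⟨1, map_one φ⟩
    all_goals first | exact ⟨_, rfl⟩ | exact ⟨_, (map_mul φ _ _)⟩ | exact ⟨⟨k, hkC⟩ * ⟨g, hgC⟩ * ⟨k, hkC⟩, by rw [map_mul, map_mul]⟩
  have hn : ((Subgroup.centralizer ({d₁, d₂, d₃} : Set G)).subgroupOf C).Normal :=
    hker ▸ MonoidHom.normal_ker φ
  refine ⟨hn, ⟨(QuotientGroup.quotientMulEquivOfEq hker.symm).trans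
    (QuotientGroup.quotientKerEquivOfSurjective φ hsurj)⟩⟩

end Cfsg.Agent.S5471
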