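import Cfsg.Statements.S5514
import Cfsg.Agent.Lib.O73.Classes

set_option autoImplicit false
open Cfsg

namespace Cfsg.Agent.S5514

/-- The commutator subgroup of the isometry group of a non-degenerate 7-dimensional quadratic form over the field with three elements, modulo its (trivial) centre — the simple group Ω(7, 3) — has exactly seven conjugacy classes of subgroups of order 3. -/
theorem result : ∃ Y : Fin 7 → Subgroup (Cfsg.POmega (ZMod 3) (Cfsg.quadFormOdd 3 (ZMod 3))), (∀ i, Nat.card (Y i) = 3) ∧ (∀ i j, (∃ g : Cfsg.POmega (ZMod 3) (Cfsg.quadFormOdd 3 (ZMod 3)), (Y i).map (MulAut.conj g).toMonoidHom = Y j) → i = j) ∧ (∀ X : Subgroup (Cfsg.POmega (ZMod 3) (Cfsg.quadFormOdd 3 (ZMod 3))), Nat.card X = 3 → ∃ i, ∃ g : Cfsg.POmega (ZMod 3) (Cfsg.quadFormOdd 3 (ZMod 3)), X.map (MulAut.conj g).toMonoidHom = Y i) := by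
  obtain ⟨e⟩ := Cfsg.Agent.Fischer3Srg.pomega_odd
  obtain ⟨Y, hY1, hY2, hY3⟩ := Cfsg.Agent.O73.classes
  have key : ∀ (g : Cfsg.Agent.O73.Om) (A : Subgroup Cfsg.Agent.O73.Om),
      (A.map e.symm.toMonoidHom).map (MulAut.conj (e.symm g)).toMonoidHom =
        (A.map (MulAut.conj g).toMonoidHom).map e.symm.toMonoidHom := fun g A => by
    rw [Subgroup.map_map, Subgroup.map_map]
    congr 1
    ext x
    simp
  refine ⟨fun i => (Y i).map e.symm.toMonoidHom, fun i => ?_, ?_, fun X hX => ?_⟩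
  · rw [Subgroup.card_map_of_injective e.symm.injective, hY1]
  · rintro i j ⟨g, hg⟩
    refine hY2 i j ⟨e g, Subgroup.map_injective (f := e.symm.toMonoidHom) e.symm.injective ?_⟩
    rw [← key, MulEquiv.symm_apply_apply]
    exact hg
  · obtain ⟨i, g, hg⟩ := hY3 (X.map e.toMonoidHom) (by rw [Subgroup.card_map_of_injective e.injective, hX])
    refine ⟨i, e.symm g, ?_⟩
    have h0 : (X.map e.toMonoidHom).map e.symm.toMonoidHom = X := by
      rw [Subgroup.map_map]
      convert Subgroup.map_id X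
      ext x
      simp
    conv_lhs => rw [← h0]
    rw [key, hg]

end Cfsg.Agent.S5514
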