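import Cfsg.Statements.S5515
import Cfsg.Agent.Lib.AutPOmega.OutPlus
import Cfsg.Agent.S1265
-- import your own Cfsg.Agent.* helpers here

set_option autoImplicit false
open Cfsg

namespace Cfsg.Agent.S5515

universe u v w

/-- A subgroup of order six of the symmetric group of degree four fixes a point. -/
theorem six_le_stabilizer (K : Subgroup (Equiv.Perm (Fin 4))) (hK : Nat.card ↥K = 6) :
    ∃ i : Fin 4, K = MulAction.stabilizer (Equiv.Perm (Fin 4)) i := by
  have h3 : (3 : ℕ) ∣ Nat.card ↥K := by rw [hK]; norm_num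
  haveI : Fact (Nat.Prime 3) := ⟨Nat.prime_three⟩
  obtain ⟨a, ha⟩ := exists_prime_orderOf_dvd_card' 3 h3
  have hidx : (Subgroup.zpowers a).index = 2 := by
    have := Subgroup.card_mul_index (Subgroup.zpowers a)
    rw [Nat.card_zpowers, ha, hK] at this
    omega
  haveI := Subgroup.normal_of_index_eq_two hidx
  have key : ∀ c : Equiv.Perm (Fin 4), c ^ 3 = 1 → c ≠ 1 → ∃ i : Fin 4,
      ∀ b : Equiv.Perm (Fin 4), (b * c * b⁻¹ = c ∨ b * c * b⁻¹ = c ^ 2 ∨ b * c * b⁻¹ = 1) → b i = i := by
    decide +kernel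
  have ha' : orderOf (a : Equiv.Perm (Fin 4)) = 3 := by rw [Subgroup.orderOf_coe, ha]
  obtain ⟨i, hi⟩ := key (a : Equiv.Perm (Fin 4)) (by rw [← ha', pow_orderOf_eq_one])
    (fun h => by rw [h, orderOf_one] at ha'; omega)
  have hle : K ≤ MulAction.stabilizer (Equiv.Perm (Fin 4)) i := by
    intro b hb
    rw [MulAction.mem_stabilizer_iff, Equiv.Perm.smul_def]
    have hm : (⟨b, hb⟩ : ↥K) * a * (⟨b, hb⟩ : ↥K)⁻¹ ∈ Subgroup.zpowers a :=
      Subgroup.Normal.conj_mem inferInstance _ (Subgroup.mem_zpowers a) _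
    rw [IsOfFinOrder.mem_zpowers_iff_mem_range_orderOf (isOfFinOrder_of_finite a)] at hm
    rw [Finset.mem_image] at hm
    obtain ⟨k, hk, he⟩ := hm
    rw [ha, Finset.mem_range] at hk
    have he' := congrArg Subtype.val he
    simp only [Subgroup.coe_mul, Subgroup.coe_inv, SubmonoidClass.coe_pow] at he'
    apply hi
    interval_cases k
    · exact Or.inr (Or.inr (by simpa using he'.symm))
    · exact Or.inl (by simpa using he'.symm)
    · exact Or.inr (Or.inl he'.symm)
  refine ⟨i, Subgroup.eq_of_le_of_card_ge hle (le_of_eq ?_)⟩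
  rw [hK]
  have : ∀ i : Fin 4, Fintype.card {b : Equiv.Perm (Fin 4) // b i = i} = 6 := by decide +kernel
  rw [← this i, ← Nat.card_eq_fintype_card]
  exact Nat.card_congr (Equiv.subtypeEquivRight fun b => by
    rw [MulAction.mem_stabilizer_iff, Equiv.Perm.smul_def])

/-- Subgroups of order six of the symmetric group of degree four are conjugate. -/
theorem six_conj (K K' : Subgroup (Equiv.Perm (Fin 4))) (hK : Nat.card ↥K = 6) (hK' : Nat.card ↥K' = 6) :
    ∃ g : Equiv.Perm (Fin 4), K.map (MulAut.conj g).toMonoidHom = K' := by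
  obtain ⟨i, rfl⟩ := six_le_stabilizer K hK
  obtain ⟨j, rfl⟩ := six_le_stabilizer K' hK'
  refine ⟨Equiv.swap i j, ?_⟩
  rw [← MulAction.stabilizer_smul_eq_stabilizer_map_conj, Equiv.Perm.smul_def, Equiv.swap_apply_left]

/-- A group with a self-centralising normal subgroup isomorphic to a centreless group is an extension
inside the automorphism group. -/
theorem exists_emb {G : Type u} [Group G] {S : Type w} [Group S]
    (hS : Function.Injective (MulAut.conj : S →* MulAut S)) (N : Subgroup G) [N.Normal] (e : ↥N ≃* S)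
    (hC : Subgroup.centralizer (N : Set G) = ⊥) :
    ∃ B : Subgroup (Cfsg.Out S), Nonempty (G ≃* ↥(B.comap (QuotientGroup.mk' (Cfsg.Inn S)))) ∧
      Nonempty (G ⧸ N ≃* ↥B) := by
  let φ : G →* MulAut S := (MulAut.congr e).toMonoidHom.comp MulAut.conjNormal
  have hφ : ∀ g : G, ∀ n : ↥N, φ g (e n) = e (MulAut.conjNormal g n) := fun g n => by
    show e (MulAut.conjNormal g (e.symm (e n))) = _
    rw [e.symm_apply_apply]
  have hφN : ∀ n : ↥N, φ (n : G) = MulAut.conj (e n) := fun n => MulEquiv.ext fun s => by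
    obtain ⟨m, rfl⟩ := e.surjective s
    rw [hφ, MulAut.conj_apply, ← map_inv, ← map_mul, ← map_mul]
    exact congrArg e (Subtype.ext (by simp [MulAut.conjNormal_apply]))
  have hinj : Function.Injective φ := by
    rw [injective_iff_map_eq_one]
    intro g hg
    have : g ∈ Subgroup.centralizer (N : Set G) := by
      rw [Subgroup.mem_centralizer_iff]
      intro x hx
      have h1 := hφ g ⟨x, hx⟩
      rw [hg, MulAut.one_apply] at h1
      have h2 := congrArg Subtype.val (e.injective h1)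
      rw [MulAut.conjNormal_apply] at h2
      change x = g * x * g⁻¹ at h2
      calc x * g = (g * x * g⁻¹) * g := by rw [← h2]
        _ = g * x := by group
    rw [hC, Subgroup.mem_bot] at this
    exact this
  let ψ : G →* Cfsg.Out S := (QuotientGroup.mk' (Cfsg.Inn S)).comp φ
  have hker : ψ.ker = N := by
    ext g
    rw [MonoidHom.mem_ker]
    constructor
    · intro hg
      obtain ⟨s, hs⟩ := (QuotientGroup.eq_one_iff _).1 hg
      obtain ⟨n, rfl⟩ := e.surjective s
      rw [← hφN] at hs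
      exact hinj hs ▸ n.2
    · intro hg
      exact (QuotientGroup.eq_one_iff _).2 ⟨e ⟨g, hg⟩, (hφN ⟨g, hg⟩).symm⟩
  refine ⟨ψ.range, ⟨(MonoidHom.ofInjective hinj).trans (MulEquiv.subgroupCongr ?_)⟩,
    ⟨(QuotientGroup.quotientMulEquivOfEq hker.symm).trans (QuotientGroup.quotientKerEquivRange ψ)⟩⟩
  ext α
  rw [Subgroup.mem_comap]
  constructor
  · rintro ⟨g, rfl⟩
    exact ⟨g, rfl⟩
  · rintro ⟨g, hg⟩
    obtain ⟨s, hs⟩ := (QuotientGroup.eq_iff_div_mem).1 hg.symm
    obtain ⟨n, rfl⟩ := e.surjective s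
    refine ⟨(n : G) * g, ?_⟩
    rw [map_mul, hφN, hs]
    exact div_mul_cancel α (φ g)

/-- Conjugate outer images give isomorphic extensions. -/
theorem iso_comap {S : Type w} [Group S] (B : Subgroup (Cfsg.Out S)) (o : Cfsg.Out S) :
    Nonempty (↥(B.comap (QuotientGroup.mk' (Cfsg.Inn S))) ≃*
      ↥((B.map (MulAut.conj o).toMonoidHom).comap (QuotientGroup.mk' (Cfsg.Inn S)))) := by
  obtain ⟨α, rfl⟩ := QuotientGroup.mk'_surjective (Cfsg.Inn S) o
  refine ⟨((MulAut.conj α).subgroupMap _).trans (MulEquiv.subgroupCongr ?_)⟩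
  ext x
  rw [Subgroup.mem_comap, Subgroup.mem_map_equiv]
  erw [Subgroup.mem_map_equiv]
  simp only [Subgroup.mem_comap, MulAut.conj_symm_apply, map_mul, map_inv]

theorem centralizer_fStar {G : Type u} [Group G] [Finite G] {S : Type w} [Group S]
    (hS : Function.Injective (MulAut.conj : S →* MulAut S))
    (e : ↥(Cfsg.generalizedFittingSubgroup G) ≃* S) :
    Subgroup.centralizer (Cfsg.generalizedFittingSubgroup G : Set G) = ⊥ := by
  rw [eq_bot_iff]
  intro g hg
  rw [Subgroup.mem_bot]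
  have hgF : g ∈ Cfsg.generalizedFittingSubgroup G := Cfsg.Agent.S1265.result hg
  have h1 : e ⟨g, hgF⟩ = 1 := hS (by
    rw [map_one]
    refine MulEquiv.ext fun s => ?_
    obtain ⟨m, rfl⟩ := e.surjective s
    rw [MulAut.conj_apply, MulAut.one_apply, ← map_inv, ← map_mul, ← map_mul]
    exact congrArg e (Subtype.ext (by
      show g * (m : G) * g⁻¹ = m
      rw [← Subgroup.mem_centralizer_iff.1 hg m m.2, mul_inv_cancel_right])))
  exact congrArg Subtype.val (e.map_eq_one_iff.1 h1)

/-- The extensions of the symmetric group of degree three by `PΩ⁺(8,3)`. -/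
theorem unique_ext {S : Type w} [Group S] (hS : Function.Injective (MulAut.conj : S →* MulAut S))
    (d : Cfsg.Out S ≃* Equiv.Perm (Fin 4))
    {G : Type u} [Group G] [Finite G] {G' : Type v} [Group G'] [Finite G']
    (e : ↥(Cfsg.generalizedFittingSubgroup G) ≃* S) (e' : ↥(Cfsg.generalizedFittingSubgroup G') ≃* S)
    [(Cfsg.generalizedFittingSubgroup G).Normal] [(Cfsg.generalizedFittingSubgroup G').Normal]
    (q : G ⧸ Cfsg.generalizedFittingSubgroup G ≃* Equiv.Perm (Fin 3))
    (q' : G' ⧸ Cfsg.generalizedFittingSubgroup G' ≃* Equiv.Perm (Fin 3)) : Nonempty (G ≃* G') := by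
  obtain ⟨B, ⟨i⟩, ⟨j⟩⟩ := exists_emb hS _ e (centralizer_fStar hS e)
  obtain ⟨B', ⟨i'⟩, ⟨j'⟩⟩ := exists_emb hS _ e' (centralizer_fStar hS e')
  have h6 : Nat.card (Equiv.Perm (Fin 3)) = 6 := by
    rw [Nat.card_perm, Nat.card_fin]; rfl
  have hB : Nat.card ↥(B.map d.toMonoidHom) = 6 := by
    refine (Nat.card_congr (d.subgroupMap B).toEquiv).symm.trans ?_
    rw [← Nat.card_congr j.toEquiv, Nat.card_congr q.toEquiv, h6]
  have hB' : Nat.card ↥(B'.map d.toMonoidHom) = 6 := by
    refine (Nat.card_congr (d.subgroupMap B').toEquiv).symm.trans ?_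
    rw [← Nat.card_congr j'.toEquiv, Nat.card_congr q'.toEquiv, h6]
  obtain ⟨g, hg⟩ := six_conj _ _ hB hB'
  have ho : B.map (MulAut.conj (d.symm g)).toMonoidHom = B' := by
    apply Subgroup.map_injective d.injective (f := d.toMonoidHom)
    rw [← hg, Subgroup.map_map, Subgroup.map_map]
    congr 1
    ext x
    simp
  obtain ⟨k⟩ := iso_comap B (d.symm g)
  exact ⟨(i.trans (k.trans (MulEquiv.subgroupCongr (by rw [ho])))).trans i'.symm⟩

theorem conj_injective_pOmega : Function.Injective (MulAut.conj :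
    Cfsg.POmega (ZMod 3) (Cfsg.quadFormPlus 4 (ZMod 3)) →*
      MulAut (Cfsg.POmega (ZMod 3) (Cfsg.quadFormPlus 4 (ZMod 3)))) := by
  haveI : Fact (Nat.Prime 3) := ⟨Nat.prime_three⟩
  have h := AutPOmega.conj_injective (AutPOmega.qset_plus (F := ZMod 3) (m := 4) (by norm_num))
  rwa [AutPOmega.coe_qPlus] at h

/-- Let G and G′ be finite groups whose generalized Fitting subgroups are isomorphic to PΩ⁺(8, 3) (the commutator subgroup of the isometry group of the hyperbolic quadratic form in dimension 8 over the field with three elements, modulo its centre) with quotients isomorphic to the symmetric group of degree 3. Then G and G′ are isomorphic. -/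
theorem result {G G' : Type*} [Group G] [Finite G] [Group G'] [Finite G'] (hF : Nonempty (↥(Cfsg.generalizedFittingSubgroup G) ≃* Cfsg.POmega (ZMod 3) (Cfsg.quadFormPlus 4 (ZMod 3)))) (hF' : Nonempty (↥(Cfsg.generalizedFittingSubgroup G') ≃* Cfsg.POmega (ZMod 3) (Cfsg.quadFormPlus 4 (ZMod 3)))) [hn : (Cfsg.generalizedFittingSubgroup G).Normal] [hn' : (Cfsg.generalizedFittingSubgroup G').Normal] (hq : Nonempty (G ⧸ Cfsg.generalizedFittingSubgroup G ≃* Equiv.Perm (Fin 3))) (hq' : Nonempty (G' ⧸ Cfsg.generalizedFittingSubgroup G' ≃* Equiv.Perm (Fin 3))) : Nonempty (G ≃* G') := by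
  obtain ⟨e⟩ := hF
  obtain ⟨e'⟩ := hF'
  obtain ⟨q⟩ := hq
  obtain ⟨q'⟩ := hq'
  haveI : Fact (Nat.Prime 3) := ⟨Nat.prime_three⟩
  obtain ⟨d⟩ := (AutPOmega.out_plus_four (F := ZMod 3) (p := 3) (f := 1) (by simp)).2 (by norm_num)
  haveI : Subsingleton (Multiplicative (ZMod 1)) := inferInstanceAs (Subsingleton (Fin 1))
  let d' : Cfsg.Out (Cfsg.POmega (ZMod 3) (Cfsg.quadFormPlus 4 (ZMod 3))) ≃* Equiv.Perm (Fin 4) :=
    d.trans
      { toFun := Prod.fst
        invFun := fun a => (a, 1)
        left_inv := fun a => Prod.ext rfl (Subsingleton.elim _ _)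
        right_inv := fun _ => rfl
        map_mul' := fun _ _ => rfl }
  exact unique_ext conj_injective_pOmega d' e e' q q'

end Cfsg.Agent.S5515
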