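import Cfsg.Statements.S5521
import Cfsg.Agent.Lib.Golay.M24
-- import your own Cfsg.Agent.* helpers here

set_option autoImplicit false
open Cfsg

namespace Cfsg.Agent.S5521

/-- The Mathieu group M₂₄ in its natural action on the 24 coordinate positions of the binary Golay code has minimal base size exactly 7: every set of at most 6 positions is fixed pointwise by some non-identity element of M₂₄, while some set of 7 positions is fixed pointwise only by the identity. -/
theorem result :
    (∀ B : Finset Cfsg.GolayPt, B.card ≤ 6 → ∃ g ∈ Cfsg.M24, g ≠ 1 ∧ ∀ b ∈ B, g b = b) ∧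
    (∃ B : Finset Cfsg.GolayPt, B.card = 7 ∧ ∀ g ∈ Cfsg.M24, (∀ b ∈ B, g b = b) → g = 1) := by
  classical
  constructor
  · intro B hB
    have hlt : Nat.card ({x // x ∈ B} ↪ Cfsg.GolayPt) < Nat.card Cfsg.M24 := by
      rw [Golay24.card_M24, Nat.card_eq_fintype_card, Fintype.card_embedding_eq, Fintype.card_coe,
        show Fintype.card Cfsg.GolayPt = 24 by decide]
      interval_cases B.card <;> decide
    obtain ⟨g, h, hne, heq⟩ : ∃ g h : Cfsg.M24, g ≠ h ∧
        (Function.Embedding.subtype (· ∈ B)).trans (g : Equiv.Perm Cfsg.GolayPt).toEmbedding =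
          (Function.Embedding.subtype (· ∈ B)).trans (h : Equiv.Perm Cfsg.GolayPt).toEmbedding := by
      by_contra hcon
      push Not at hcon
      have hinj : Function.Injective fun g : Cfsg.M24 =>
          (Function.Embedding.subtype (· ∈ B)).trans (g : Equiv.Perm Cfsg.GolayPt).toEmbedding :=
        fun g h e => by_contra fun hne => hcon g h hne e
      exact absurd (Nat.card_le_card_of_injective _ hinj) (not_le.2 hlt)
    refine ⟨((g⁻¹ * h : Cfsg.M24) : Equiv.Perm Cfsg.GolayPt), (g⁻¹ * h).2, fun e => hne ?_,
      fun b hb => ?_⟩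
    · exact (inv_mul_eq_one.1 (Subtype.ext e))
    · have := DFunLike.congr_fun heq ⟨b, hb⟩
      simp only [Function.Embedding.trans_apply, Function.Embedding.coe_subtype,
        Equiv.coe_toEmbedding] at this
      simp [← this]
  · exact ⟨Golay24.setOf (Golay24.prefMask Golay24.m24Base), by decide +kernel,
      fun g hg hfix => Golay24.eq_one_of_stages hg _ _ Golay24.m24Stages_ok hfix⟩

end Cfsg.Agent.S5521
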