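import Cfsg.Statements.S5522
import Cfsg.Agent.Lib.Golay.Classes
-- import your own Cfsg.Agent.* helpers here

set_option autoImplicit false
open Cfsg
open scoped Pointwise

namespace Cfsg.Agent.S5522

/-- The Mathieu group M₁₁, realised as the stabiliser of one point of the dodecad of squares inside the stabiliser M₁₂ of that dodecad in M₂₄, acts on the twelve coordinate positions outside the dodecad of squares (its 3-transitive action of degree 12); in this action every element of prime order fixes a point, i.e. the action is elusive. -/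
theorem result (g : Equiv.Perm Cfsg.GolayPt) (hg : g ∈ Cfsg.Spor.M11) (hord : (orderOf g).Prime) :
    ∃ x : Cfsg.GolayPt, x ∉ Cfsg.Spor.squareDodecad ∧ g x = x := by
  classical
  obtain ⟨⟨hgM, hgd⟩, hg0⟩ := hg
  have hdod : Cfsg.Spor.squareDodecad = Golay24.setOf Golay24.sqDod := by decide +kernel
  set d := Cfsg.Spor.squareDodecad with hd
  set c := Finset.univ \ d with hc
  have hd12 : d.card = 12 := by rw [hdod, Golay24.card_setOf]; decide +kernel
  have hc12 : c.card = 12 := by
    rw [hc, Finset.card_univ_sdiff, hd12, show Fintype.card Cfsg.GolayPt = 24 by decide]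
  have hmd : ∀ x ∈ d, g x ∈ d := fun x hx => by
    have := Finset.smul_mem_smul_finset (a := g) hx
    rwa [MulAction.mem_stabilizer_iff.1 hgd] at this
  have hmc : ∀ x ∈ c, g x ∈ c := fun x hx => by
    refine Finset.mem_sdiff.2 ⟨Finset.mem_univ _, fun h => (Finset.mem_sdiff.1 hx).2 ?_⟩
    have h' : g • x ∈ g • d := by rw [MulAction.mem_stabilizer_iff.1 hgd]; exact h
    exact (Finset.smul_mem_smul_finset_iff g).1 h'
  obtain ⟨p, hp⟩ : ∃ p, p = orderOf g := ⟨_, rfl⟩
  haveI : Fact p.Prime := ⟨hp ▸ hord⟩
  have hmod : ∀ s : Finset Cfsg.GolayPt, (∀ x ∈ s, g x ∈ s) →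
      (s.filter fun x => g x = x).card ≡ s.card [MOD p] := by
    intro s hs
    let y : Equiv.Perm ↥s := Equiv.ofBijective (fun x => ⟨g x, hs x x.2⟩)
      (Finite.injective_iff_bijective.1 fun a b h => Subtype.ext (g.injective (congrArg Subtype.val h)))
    have hyk : ∀ (n : ℕ) (x : ↥s), ((y ^ n) x : Cfsg.GolayPt) = (g ^ n) x := by
      intro n
      induction n with
      | zero => intro x; rfl
      | succ n ih =>
        intro x
        rw [pow_succ', pow_succ', Equiv.Perm.mul_apply, Equiv.Perm.mul_apply, ← ih]
        rfl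
    have hy : y ^ p ^ 1 = 1 := Equiv.ext fun x => Subtype.ext (by
      rw [pow_one, hyk, hp, pow_orderOf_eq_one]; rfl)
    have h1 := Equiv.Perm.card_compl_support_modEq hy
    rw [Fintype.card_coe] at h1
    have h2 : y.supportᶜ.card = (s.filter fun x => g x = x).card := by
      rw [← Finset.card_map (Function.Embedding.subtype (· ∈ s))]
      congr 1
      ext x
      simp [y, Subtype.ext_iff]
      tauto
    rwa [h2] at h1
  suffices h : (c.filter fun x => g x = x).Nonempty by
    obtain ⟨x, hx⟩ := h
    rw [Finset.mem_filter] at hx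
    exact ⟨x, (Finset.mem_sdiff.1 hx.1).2, hx.2⟩
  rw [← Finset.card_pos]
  have hcm := hmod c hmc
  have hdm := hmod d hmd
  rw [hc12] at hcm
  rw [hd12] at hdm
  have hsum : (d.filter fun x => g x = x).card + (c.filter fun x => g x = x).card =
      Golay24.fixCount g := by
    rw [Golay24.fixCount, ← Finset.card_union_of_disjoint
      (Finset.disjoint_filter_filter (by rw [hc]; exact Finset.disjoint_sdiff)), hc,
      ← Finset.filter_union, Finset.union_sdiff_of_subset (Finset.subset_univ _)]
  have hd1 : 0 < (d.filter fun x => g x = x).card := by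
    refine Finset.card_pos.2 ⟨some 0, Finset.mem_filter.2 ⟨?_, hg0⟩⟩
    rw [hdod]; decide +kernel
  have hd4 : (d.filter fun x => g x = x).card ≤ 4 := by
    by_contra h5
    apply hord.ne_one
    rw [orderOf_eq_one_iff]
    refine Golay24.M12_eq_one_of_fix ⟨hgM, hgd⟩
      (F := ((d.filter fun x => g x = x).toList).map fun x => (Golay24.idx x : ℕ)) ?_ ?_
    · refine le_trans (show 5 ≤ _ by omega) (Finset.card_le_card (fun x hx =>
        Finset.mem_filter.2 ⟨hdod ▸ (Finset.mem_filter.1 hx).1,
          List.mem_map.2 ⟨x, Finset.mem_toList.2 hx, rfl⟩⟩))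
    · intro x hx
      obtain ⟨y, hy, he⟩ := List.mem_map.1 hx
      rw [Finset.mem_toList, Finset.mem_filter] at hy
      rw [← Golay24.idx_inj.1 (Fin.ext he)]
      exact hy.2
  by_contra h0
  have hz : (c.filter fun x => g x = x).card = 0 := by omega
  rw [hz] at hcm hsum
  have hp12 : p ∣ 12 := (Nat.modEq_zero_iff_dvd).1 hcm.symm
  have hp' : p.Prime := Fact.out
  have hle := Nat.le_of_dvd (by norm_num) hp12
  have h23 : p = 2 ∨ p = 3 := by
    interval_cases p <;> first | omega | (exfalso; revert hp'; norm_num)
  rcases h23 with rfl | rfl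
  · rcases Golay24.involution_fix hgM hp.symm with h | h <;> omega
  · rcases Golay24.three_fix hgM hp.symm with h | h <;> omega

end Cfsg.Agent.S5522
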