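import Cfsg.Statements.S5541
-- import your own Cfsg.Agent.* helpers here

set_option autoImplicit false
open Cfsg

namespace Cfsg.Agent.S5541

/-- Let ρ be a representation of a group H on a finite-dimensional real vector space U whose only ρ-invariant subspaces are the zero subspace and U, and suppose U carries a non-zero ρ-invariant symmetric bilinear form. Then the following are equivalent: (1) there is a non-zero ρ-equivariant commutative bilinear product on U of which every ρ-equivariant bilinear product is a scalar multiple; (2) there is a non-zero ρ-invariant trilinear form on U that is symmetric under all permutations of its arguments and of which every ρ-invariant trilinear form is a scalar multiple. -/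
theorem result {H : Type*} [Group H] {U : Type*} [AddCommGroup U] [Module ℝ U] [FiniteDimensional ℝ U] (ρ : Representation ℝ H U) (hirr : ∀ W : Submodule ℝ U, (∀ g : H, W.map (ρ g) ≤ W) → W = ⊥ ∨ W = ⊤) (B : LinearMap.BilinForm ℝ U) (hB0 : B ≠ 0) (hBs : ∀ u v, B u v = B v u) (hBi : ∀ (g : H) (u v : U), B (ρ g u) (ρ g v) = B u v) : (∃ m : U →ₗ[ℝ] U →ₗ[ℝ] U, m ≠ 0 ∧ (∀ u v, m u v = m v u) ∧ (∀ (g : H) (u v : U), m (ρ g u) (ρ g v) = ρ g (m u v)) ∧ ∀ m' : U →ₗ[ℝ] U →ₗ[ℝ] U, (∀ (g : H) (u v : U), m' (ρ g u) (ρ g v) = ρ g (m' u v)) → ∃ c : ℝ, m' = c • m) ↔ (∃ t : U →ₗ[ℝ] U →ₗ[ℝ] U →ₗ[ℝ] ℝ, t ≠ 0 ∧ (∀ u v w, t u v w = t v u w ∧ t u v w = t u w v) ∧ (∀ (g : H) (u v w : U), t (ρ g u) (ρ g v) (ρ g w) = t u v w) ∧ ∀ t' : U →ₗ[ℝ] U →ₗ[ℝ] U →ₗ[ℝ] ℝ, (∀ (g : H) (u v w : U), t' (ρ g u) (ρ g v) (ρ g w) = t' u v w) → ∃ c : ℝ, t' = c • t) := by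
  classical
  have hinj : Function.Injective B := by
    rw [← LinearMap.ker_eq_bot]
    refine (hirr (LinearMap.ker B) fun g => ?_).resolve_right fun h => hB0 (LinearMap.ker_eq_top.1 h)
    rintro _ ⟨u, hu, rfl⟩
    rw [LinearMap.mem_ker]
    ext v
    have h2 : ρ g (ρ g⁻¹ v) = v := by
      rw [← LinearMap.comp_apply, ← Module.End.mul_eq_comp, ← map_mul, mul_inv_cancel, map_one]
      rfl
    rw [← h2, hBi, LinearMap.mem_ker.1 hu]
    rfl
  have hbij : Function.Bijective B := ⟨hinj,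
    (LinearMap.injective_iff_surjective_of_finrank_eq_finrank
      (Subspace.dual_finrank_eq (K := ℝ) (V := U)).symm).1 hinj⟩
  let e : U ≃ₗ[ℝ] Module.Dual ℝ U := LinearEquiv.ofBijective B hbij
  have he : ∀ u, e u = B u := fun u => rfl
  let M : (U →ₗ[ℝ] U →ₗ[ℝ] U →ₗ[ℝ] ℝ) → (U →ₗ[ℝ] U →ₗ[ℝ] U) := fun t =>
    t.compr₂ (e.symm : Module.Dual ℝ U →ₗ[ℝ] U)
  let T : (U →ₗ[ℝ] U →ₗ[ℝ] U) → (U →ₗ[ℝ] U →ₗ[ℝ] U →ₗ[ℝ] ℝ) := fun m => m.compr₂ B
  have hM : ∀ t u v, B (M t u v) = t u v := fun t u v => by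
    rw [← he]; exact e.apply_symm_apply _
  have hT : ∀ m u v w, T m u v w = B (m u v) w := fun m u v w => rfl
  have hgi : ∀ (g : H) (w : U), ρ g (ρ g⁻¹ w) = w := fun g w => by
    rw [← LinearMap.comp_apply, ← Module.End.mul_eq_comp, ← map_mul, mul_inv_cancel, map_one]
    rfl
  have hMeq : ∀ t : U →ₗ[ℝ] U →ₗ[ℝ] U →ₗ[ℝ] ℝ,
      (∀ (g : H) (u v w : U), t (ρ g u) (ρ g v) (ρ g w) = t u v w) →
      ∀ (g : H) (u v : U), M t (ρ g u) (ρ g v) = ρ g (M t u v) := by
    intro t ht g u v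
    apply hinj
    ext w
    rw [hM, ← hgi g w, ht, hBi, hM]
  have hTeq : ∀ m : U →ₗ[ℝ] U →ₗ[ℝ] U,
      (∀ (g : H) (u v : U), m (ρ g u) (ρ g v) = ρ g (m u v)) →
      ∀ (g : H) (u v w : U), T m (ρ g u) (ρ g v) (ρ g w) = T m u v w := by
    intro m hm g u v w
    rw [hT, hm, hBi, hT]
  constructor
  · rintro ⟨m, hm0, hmc, hmi, hmu⟩
    have huniq : ∀ t' : U →ₗ[ℝ] U →ₗ[ℝ] U →ₗ[ℝ] ℝ,
        (∀ (g : H) (u v w : U), t' (ρ g u) (ρ g v) (ρ g w) = t' u v w) →
        ∃ c : ℝ, t' = c • T m := by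
      intro t' ht'
      obtain ⟨c, hc⟩ := hmu (M t') (hMeq t' ht')
      refine ⟨c, LinearMap.ext₂ fun u v => LinearMap.ext fun w => ?_⟩
      rw [← hM t' u v, hc]
      simp [hT]
    have h12 : ∀ u v w, T m u v w = T m v u w := fun u v w => by rw [hT, hT, hmc]
    have hT0 : T m ≠ 0 := by
      intro h
      apply hm0
      refine LinearMap.ext₂ fun u v => ?_
      apply hinj
      ext w
      rw [← hT, h]
      simp
    -- exchanging the last two arguments
    let t' : U →ₗ[ℝ] U →ₗ[ℝ] U →ₗ[ℝ] ℝ :=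
      (LinearMap.lflip (R₀ := ℝ) : (U →ₗ[ℝ] U →ₗ[ℝ] ℝ) ≃ₗ[ℝ] (U →ₗ[ℝ] U →ₗ[ℝ] ℝ)).toLinearMap ∘ₗ T m
    have ht' : ∀ u v w, t' u v w = T m u w v := fun u v w => rfl
    obtain ⟨c, hc⟩ := huniq t' (fun g u v w => by rw [ht', ht', hTeq m hmi])
    have hc' : ∀ u v w, T m u w v = c * T m u v w := fun u v w => by
      rw [← ht', hc]; simp
    have hsym : ∀ u v w, T m u w v = T m u v w := by
      intro u v w
      by_contra hne
      obtain ⟨a, b, d, habd⟩ : ∃ a b d, T m a b d ≠ 0 := by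
        by_contra! h
        exact hT0 (LinearMap.ext₂ fun a b => LinearMap.ext fun d => h a b d)
      have h2 : c * c = 1 := by
        have := hc' a b d
        rw [hc' a d b] at this
        have h3 : (c * c - 1) * T m a b d = 0 := by
          rw [sub_mul, one_mul, mul_assoc, ← hc' a b d, ← hc' a d b, sub_self]
        exact sub_eq_zero.1 ((mul_eq_zero.1 h3).resolve_right habd)
      rcases mul_self_eq_one_iff.1 h2 with h | h
      · exact hne (by rw [hc', h, one_mul])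
      · apply habd
        have e1 : ∀ u v w, T m u w v = - T m u v w := fun u v w => by rw [hc', h]; ring
        have s1 := e1 a b d
        have s2 := h12 a d b
        have s3 := e1 d a b
        have s4 := h12 d b a
        have s5 := e1 b d a
        have s6 := h12 b a d
        linarith
    exact ⟨T m, hT0, fun u v w => ⟨h12 u v w, (hsym u v w).symm⟩, hTeq m hmi, huniq⟩
  · rintro ⟨t, ht0, hts, hti, htu⟩
    refine ⟨M t, fun h => ht0 ?_, fun u v => hinj ?_, hMeq t hti, fun m' hm' => ?_⟩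
    · refine LinearMap.ext₂ fun u v => LinearMap.ext fun w => ?_
      rw [← hM, h]
      simp
    · ext w
      rw [hM, hM, (hts u v w).1]
    · obtain ⟨c, hc⟩ := htu (T m') (hTeq m' hm')
      refine ⟨c, LinearMap.ext₂ fun u v => hinj ?_⟩
      ext w
      rw [← hT, hc]
      simp [hM]

end Cfsg.Agent.S5541
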