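import Cfsg.Statements.S5543
-- import your own Cfsg.Agent.* helpers here

set_option autoImplicit false
open Cfsg

namespace Cfsg.Agent.S5543

/-- Let V be a finite-dimensional real vector space with a commutative bilinear product and a positive-definite symmetric bilinear form that associates with the product and satisfies the Norton inequality (the Majorana setting of the definitions). Let X be a group of linear automorphisms of V in which every element squares to the identity, and suppose every non-identity element x of X is a Majorana involution with an axial vector a(x) of squared length 1, such that for any two distinct non-identity x, y the product a(x) ∘ a(y) equals (1/8)(a(x) + a(y) − a(xy)) (the dihedral subalgebra of type 2A whose third axis belongs to the involution xy). Then X has order at most 4. -/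
theorem result {V : Type*} [AddCommGroup V] [Module ℝ V] [FiniteDimensional ℝ V] (mul : V →ₗ[ℝ] V →ₗ[ℝ] V) (B : LinearMap.BilinForm ℝ V) (hV : Cfsg.Axial.IsMajoranaAmbient mul B) (X : Subgroup (V ≃ₗ[ℝ] V)) (hX : ∀ x ∈ X, x * x = 1) (ax : (V ≃ₗ[ℝ] V) → V) (hax : ∀ x ∈ X, x ≠ 1 → Cfsg.Axial.IsMajoranaPair mul B x (ax x)) (h1 : ∀ x ∈ X, x ≠ 1 → B (ax x) (ax x) = 1) (h2A : ∀ x ∈ X, ∀ y ∈ X, x ≠ 1 → y ≠ 1 → x ≠ y → mul (ax x) (ax y) = (1 / 8 : ℝ) • (ax x + ax y - ax (x * y))) : Nat.card ↥X ≤ 4 := by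
  by_contra hlt
  push Not at hlt
  haveI : Finite X := Nat.finite_of_card_ne_zero (by omega)
  have hinv : ∀ g ∈ X, g⁻¹ = g := fun g hg => inv_eq_of_mul_eq_one_right (hX g hg)
  have hcomm : ∀ g ∈ X, ∀ h ∈ X, g * h = h * g := fun g hg h hh => by
    rw [← hinv _ (mul_mem hg hh), mul_inv_rev, hinv g hg, hinv h hh]
  have hnot : ∀ s : List (V ≃ₗ[ℝ] V), s.length ≤ 4 → ∃ g ∈ X, g ∉ s := by
    intro s hs
    by_contra! h
    have h1 : (X : Set (V ≃ₗ[ℝ] V)) ⊆ {g | g ∈ s} := fun g hg => h g hg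
    have h2 := Set.ncard_le_ncard h1 s.finite_toSet
    have h3 : {g | g ∈ s}.ncard ≤ 4 := by
      classical
      rw [← List.coe_toFinset, Set.ncard_coe_finset]
      exact (List.toFinset_card_le s).trans hs
    rw [← Nat.card_coe_set_eq] at h2
    change Nat.card X ≤ _ at h2
    omega
  obtain ⟨x, hx, hxs⟩ := hnot [1] (by simp)
  obtain ⟨y, hy, hys⟩ := hnot [1, x] (by simp)
  obtain ⟨z, hz, hzs⟩ := hnot [1, x, y, x * y] (by simp)
  simp only [List.mem_cons, List.not_mem_nil, or_false, not_or] at hxs hys hzs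
  obtain ⟨hy1, hyx⟩ := hys
  obtain ⟨hz1, hzx, hzy, hzxy⟩ := hzs
  have hxx := hX x hx
  have hyy := hX y hy
  have hzz := hX z hz
  have hxy : x * y ∈ X := mul_mem hx hy
  have hxz : x * z ∈ X := mul_mem hx hz
  have hyz : y * z ∈ X := mul_mem hy hz
  have eq_of : ∀ g h : V ≃ₗ[ℝ] V, g * g = 1 → g * h = 1 → h = g := fun g h hg hh => by
    rw [← inv_eq_of_mul_eq_one_right hh, inv_eq_of_mul_eq_one_right hg]
  have n1 : x * y ≠ 1 := fun e => hyx (eq_of x y hxx e)
  have n2 : x * z ≠ 1 := fun e => hzx (eq_of x z hxx e)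
  have n3 : y * z ≠ 1 := fun e => hzy (eq_of y z hyy e)
  have n4 : x * (y * z) ≠ 1 := fun e => hzxy (by
    have h := eq_of x _ hxx e
    calc z = (y * y) * z := by rw [hyy, one_mul]
      _ = y * x := by rw [mul_assoc, h]
      _ = x * y := hcomm y hy x hx)
  have hxyz : x * (y * z) ∈ X := mul_mem hx hyz
  obtain ⟨hcm, hBs, -, hassoc, -⟩ := hV
  have idem : ∀ g ∈ X, g ≠ 1 → mul (ax g) (ax g) = ax g := fun g hg h1 =>
    (hax g hg h1).2.2.1.1.2.1
  -- any two axes have inner product one eighth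
  have hip : ∀ g ∈ X, ∀ h ∈ X, g ≠ 1 → h ≠ 1 → g ≠ h → B (ax g) (ax h) = 1 / 8 := by
    intro g hg h hh g1 hh1 hgh
    have hgh1 : g * h ≠ 1 := fun e => hgh (eq_of g h (hX g hg) e).symm
    have hgne : g ≠ g * h := fun e =>
      hh1 (mul_left_cancel ((mul_one g).trans e)).symm
    have e1 := hassoc (ax g) (ax g) (ax h)
    rw [idem g hg g1, h2A g hg h hh g1 hh1 hgh] at e1
    have e2 := hassoc (ax g) (ax g) (ax (g * h))
    rw [idem g hg g1, h2A g hg _ (mul_mem hg hh) g1 hgh1 hgne, ← mul_assoc g g h, hX g hg,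
      one_mul] at e2
    simp only [map_smul, map_add, map_sub, smul_eq_mul, h1 g hg g1] at e1 e2
    linarith
  -- products of axes
  have p1 := h2A y hy z hz hy1 hz1 (Ne.symm hzy)
  have p2 := h2A y hy _ hxz hy1 n2 (fun e => n4 (by
    rw [e, mul_assoc, hzz, mul_one, hxx]))
  have p3 := h2A _ hxy z hz n1 hz1 (Ne.symm hzxy)
  have p4 := h2A _ hxy _ hxz n1 n2 (fun e => hzy (mul_left_cancel e).symm)
  rw [show y * (x * z) = x * (y * z) by rw [← mul_assoc, hcomm y hy x hx, mul_assoc]] at p2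
  rw [mul_assoc] at p3
  rw [show x * y * (x * z) = y * z by
    rw [hcomm x hx y hy, mul_assoc, ← mul_assoc x x, hxx, one_mul]] at p4
  have heig : ∀ g ∈ X, g ≠ 1 → g ≠ x → ax g - ax (x * g) ∈ Cfsg.Axial.eigen mul (ax x) (1 / 4) := by
    intro g hg g1 gx
    have hxg1 : x * g ≠ 1 := fun e => gx (eq_of x g hxx e)
    have q1 := h2A x hx g hg hxs g1 (Ne.symm gx)
    have q2 := h2A x hx _ (mul_mem hx hg) hxs hxg1 (fun e =>
      g1 (mul_left_cancel ((mul_one x).trans e)).symm)
    rw [← mul_assoc, hxx, one_mul] at q2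
    rw [Cfsg.Axial.eigen, Module.End.mem_eigenspace_iff, map_sub, q1, q2]
    module
  have hu := heig y hy hy1 hyx
  have hv := heig z hz hz1 hzx
  have hw := heig (y * z) hyz n3 (fun e => n4 (by rw [e, hxx]))
  obtain ⟨-, -, ⟨hax', -⟩, -⟩ := hax x hx hxs
  have hS : ((1 : ℝ) / 4) ∈ Cfsg.Axial.majoranaSpectrum :=
    Or.inr (Or.inr (Or.inl rfl))
  have hfus := hax'.2.2.2 _ hS _ hS _ hu _ hv
  have hlaw : Cfsg.Axial.monsterLaw ((1 : ℝ) / 4) (1 / 32) (1 / 4) (1 / 4) = {1, 0} := by
    norm_num [Cfsg.Axial.monsterLaw]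
  rw [hlaw, Cfsg.Axial.eigenSum, iSup_pair, Submodule.mem_sup] at hfus
  obtain ⟨a, ha, b, hb, hab⟩ := hfus
  have hprod : mul (ax y - ax (x * y)) (ax z - ax (x * z)) =
      (-(1 / 4) : ℝ) • (ax (y * z) - ax (x * (y * z))) := by
    simp only [map_sub, LinearMap.sub_apply, p1, p2, p3, p4]
    module
  rw [hprod] at hab
  rw [Cfsg.Axial.eigen, Module.End.mem_eigenspace_iff] at ha hb hw
  set w := ax (y * z) - ax (x * (y * z)) with hwdef
  have hA := congrArg (mul (ax x)) hab
  rw [map_add, map_smul, ha, hb, hw, one_smul, zero_smul, add_zero] at hA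
  have hA2 := congrArg (mul (ax x)) hA
  rw [ha, one_smul, map_smul, map_smul, hw, hA] at hA2
  have hw0 : ((-3 : ℝ) / 64) • w = 0 := by
    have := sub_eq_zero.2 hA2
    rw [← this]; module
  have hw1 : w = 0 := (smul_eq_zero.1 hw0).resolve_left (by norm_num)
  have hne4 : y * z ≠ x * (y * z) := fun e =>
    hxs (mul_right_cancel (e.symm.trans (one_mul _).symm))
  have hB := hip _ hyz _ hxyz n3 n4 hne4
  rw [hwdef, sub_eq_zero] at hw1
  rw [← hw1, h1 _ hyz n3] at hB
  norm_num at hB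

end Cfsg.Agent.S5543
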