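import Cfsg.Statements.S5545
import Cfsg.Agent.Lib.AxialPair.Majorana

set_option autoImplicit false
open Cfsg

namespace Cfsg.Agent.S5545

/-- Let V be a finite-dimensional real vector space with a commutative bilinear product and a positive-definite symmetric bilinear form that associates with the product and satisfies the Norton inequality (the Majorana setting of the definitions). Let μ₀, μ₁ be commuting Majorana involutions with distinct axial vectors a₀ ≠ a₁ of squared length 1, each involution having no other axial vector. Then either a₀ and a₁ are orthogonal with a₀ ∘ a₁ = 0 (type 2B), or their inner product is 1/8 and, with a₂ = a₀ + a₁ − 8 a₀ ∘ a₁, the vector a₂ is an idempotent and a₀ ∘ a₂ = (1/8)(a₀ + a₂ − a₁), a₁ ∘ a₂ = (1/8)(a₁ + a₂ − a₀) (type 2A: the three idempotents span a subalgebra with aᵢ ∘ aⱼ = (1/8)(aᵢ + aⱼ − aₖ)). -/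
theorem result {V : Type*} [AddCommGroup V] [Module ℝ V] [FiniteDimensional ℝ V] (mul : V →ₗ[ℝ] V →ₗ[ℝ] V) (B : LinearMap.BilinForm ℝ V) (hV : Cfsg.Axial.IsMajoranaAmbient mul B) (μ₀ μ₁ : V ≃ₗ[ℝ] V) (a₀ a₁ : V) (h₀ : Cfsg.Axial.IsMajoranaPair mul B μ₀ a₀) (h₁ : Cfsg.Axial.IsMajoranaPair mul B μ₁ a₁) (hu₀ : ∀ a : V, Cfsg.Axial.IsMajoranaPair mul B μ₀ a → a = a₀) (hu₁ : ∀ a : V, Cfsg.Axial.IsMajoranaPair mul B μ₁ a → a = a₁) (hn₀ : B a₀ a₀ = 1) (hn₁ : B a₁ a₁ = 1) (hc : μ₀ * μ₁ = μ₁ * μ₀) (hne : a₀ ≠ a₁) : (B a₀ a₁ = 0 ∧ mul a₀ a₁ = 0) ∨ (B a₀ a₁ = 1 / 8 ∧ mul (a₀ + a₁ - (8 : ℝ) • mul a₀ a₁) (a₀ + a₁ - (8 : ℝ) • mul a₀ a₁) = a₀ + a₁ - (8 : ℝ) • mul a₀ a₁ ∧ mul a₀ (a₀ + a₁ - (8 : ℝ) • mul a₀ a₁) = (1 / 8 : ℝ) • (a₀ + (a₀ + a₁ - (8 : ℝ) • mul a₀ a₁) - a₁) ∧ mul a₁ (a₀ + a₁ - (8 : ℝ) • mul a₀ a₁) = (1 / 8 : ℝ) • (a₁ + (a₀ + a₁ - (8 : ℝ) • mul a₀ a₁) - a₀))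 := by
  have hm0 : ∀ u v, μ₀ (mul u v) = mul (μ₀ u) (μ₀ v) := h₀.1
  have hm1 : ∀ u v, μ₁ (mul u v) = mul (μ₁ u) (μ₁ v) := h₁.1
  have f01 : μ₀ a₁ = a₁ := hu₁ _ (by
    have := Cfsg.Agent.AxialPair.pair_map hm0 h₀.2.1 h₁
    rwa [hc, mul_inv_cancel_right] at this)
  have f10 : μ₁ a₀ = a₀ := hu₀ _ (by
    have := Cfsg.Agent.AxialPair.pair_map hm1 h₁.2.1 h₀
    rwa [← hc, mul_inv_cancel_right] at this)
  have haa := Cfsg.Agent.AxialPair.idem_of_pair h₀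
  have hbb := Cfsg.Agent.AxialPair.idem_of_pair h₁
  have hcm := hV.1
  rcases Cfsg.Agent.AxialPair.commuting_pair hV h₀ h₁ hn₀ hn₁ f01 f10 hne with h | ⟨h, e0, e1, ep⟩
  · exact .inl h
  refine .inr ⟨h, ?_, ?_, ?_⟩
  · simp only [map_sub, map_add, map_smul, LinearMap.sub_apply, LinearMap.add_apply,
      LinearMap.smul_apply, haa, hbb, hcm a₁ a₀, hcm (mul a₀ a₁) a₀, hcm (mul a₀ a₁) a₁, e0, e1, ep]
    module
  · simp only [map_sub, map_add, map_smul, haa, e0]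
    module
  · simp only [map_sub, map_add, map_smul, hbb, hcm a₁ a₀, e1]
    module

end Cfsg.Agent.S5545
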