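import Cfsg.Statements.S5546
import Cfsg.Agent.Lib.Leech.ModP
-- import your own Cfsg.Agent.* helpers here

set_option autoImplicit false
open Cfsg

namespace Cfsg.Agent.S5546

/-- The second Conway group (the stabilizer in the Leech lattice automorphism group of the short vector fixed in the definitions) is isomorphic to a subgroup of the general linear group of degree 23 over the field with 13 elements: there is an injective homomorphism into it. -/
theorem result : ∃ f : ↥Cfsg.Spor.Co2 →* GL (Fin 23) (ZMod 13), Function.Injective f := by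
  have hnn : ∑ i, Leech.red13 Cfsg.Spor.vecU i * Leech.red13 Cfsg.Spor.vecU i ≠ 0 := by
    decide +kernel
  classical
  haveI : Fact (Nat.Prime 13) := ⟨by norm_num⟩
  let u : Leech.V13 := Leech.red13 Cfsg.Spor.vecU
  let φ : Leech.V13 →ₗ[ZMod 13] ZMod 13 :=
    { toFun := fun v => ∑ i, v i * u i
      map_add' := fun v w => by simp [add_mul, Finset.sum_add_distrib]
      map_smul' := fun c v => by simp [Finset.mul_sum, mul_assoc, mul_add] }
  have hu : Cfsg.Spor.vecU ∈ Cfsg.leechLattice :=
    AddSubgroup.subset_closure Cfsg.Spor.vecU_mem_leechSet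
  have hφu : φ u ≠ 0 := by
    show ∑ i, u i * u i ≠ 0
    exact hnn
  let ι : ↥Cfsg.Spor.Co2 →* ↥Cfsg.Co0 := Subgroup.inclusion inf_le_left
  have hfix : ∀ g : ↥Cfsg.Spor.Co2, Leech.rep13 (ι g) u = u := fun g => by
    show Leech.act13 (ι g) u = u
    rw [Leech.act13_red (ι g) hu]
    congr 1
    have h : (ι g) • Cfsg.Spor.leechU = Cfsg.Spor.leechU := g.2.2
    exact (Leech.ap_coe (ι g) Cfsg.Spor.leechU).trans (congrArg Subtype.val h)
  have hpres : ∀ g : ↥Cfsg.Spor.Co2, ∀ v, φ (Leech.rep13 (ι g) v) = φ v := fun g v => by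
    have h := Leech.rep13_dot (ι g) v u
    rw [hfix g] at h
    exact h
  have hmem : ∀ g : ↥Cfsg.Spor.Co2, ∀ v : ↥(LinearMap.ker φ),
      Leech.rep13 (ι g) v ∈ LinearMap.ker φ := fun g v => by
    rw [LinearMap.mem_ker, hpres, LinearMap.mem_ker.1 v.2]
  let r : ↥Cfsg.Spor.Co2 →* Module.End (ZMod 13) ↥(LinearMap.ker φ) :=
    { toFun := fun g => (Leech.rep13 (ι g)).restrict fun v hv => hmem g ⟨v, hv⟩
      map_one' := by
        apply LinearMap.ext
        intro v
        apply Subtype.ext
        show Leech.rep13 (ι 1) v = (v : Leech.V13)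
        rw [map_one, map_one]
        rfl
      map_mul' := fun g h => by
        apply LinearMap.ext
        intro v
        apply Subtype.ext
        show Leech.rep13 (ι (g * h)) v = Leech.rep13 (ι g) (Leech.rep13 (ι h) v)
        rw [map_mul, map_mul]
        rfl }
  have hr : Function.Injective r := by
    rw [injective_iff_map_eq_one]
    intro g hg
    refine Subgroup.inclusion_injective (inf_le_left : Cfsg.Spor.Co2 ≤ Cfsg.Co0)
      (show ι g = ι 1 from Leech.rep13_injective ?_)
    rw [map_one, map_one]
    apply LinearMap.ext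
    intro v
    show Leech.rep13 (ι g) v = v
    have hk : v - (φ v / φ u) • u ∈ LinearMap.ker φ := by
      rw [LinearMap.mem_ker, map_sub, map_smul, smul_eq_mul, div_mul_cancel₀ _ hφu, sub_self]
    have h1 := congrArg Subtype.val (LinearMap.congr_fun hg ⟨_, hk⟩)
    change Leech.rep13 (ι g) (v - (φ v / φ u) • u) = v - (φ v / φ u) • u at h1
    rw [map_sub, map_smul, hfix g] at h1
    exact sub_left_inj.1 h1
  have hrank : Module.finrank (ZMod 13) ↥(LinearMap.ker φ) = 23 := by
    have h := LinearMap.finrank_range_add_finrank_ker φ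
    have htop : LinearMap.range φ = ⊤ := by
      refine LinearMap.range_eq_top.2 fun c => ⟨(c / φ u) • u, ?_⟩
      rw [map_smul, smul_eq_mul, div_mul_cancel₀ _ hφu]
    rw [htop, finrank_top, Module.finrank_self, Module.finrank_fintype_fun_eq_card,
      show Fintype.card Cfsg.GolayPt = 24 by decide] at h
    omega
  let b := Module.finBasisOfFinrankEq (ZMod 13) ↥(LinearMap.ker φ) hrank
  let m : Module.End (ZMod 13) ↥(LinearMap.ker φ) →* Matrix (Fin 23) (Fin 23) (ZMod 13) :=
    ((LinearMap.toMatrixAlgEquiv b).toRingEquiv.toMulEquiv).toMonoidHom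
  refine ⟨(m.comp r).toHomUnits, fun g h e => hr ((LinearMap.toMatrixAlgEquiv b).injective ?_)⟩
  exact congrArg Units.val e

end Cfsg.Agent.S5546
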