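import Cfsg.Statements.S5555
import Cfsg.Agent.Lib.Fischer3U32.Quot
import Cfsg.Agent.Lib.Fischer3U32.Model

set_option autoImplicit false
open Cfsg

namespace Cfsg.Agent.S5555

open ClassK Fischer3 Fischer3U32

/-- Let G be a finite group generated by a conjugacy class D of 3-transpositions, with trivial centre and with generalized Fitting subgroup F*(G) = O₂(G) (so the Fitting subgroup is O₂(G) too). If G/O₂(G) is isomorphic to the derived group of SU₃(2) (the group of order 54 generated by nine 3-transpositions), then O₂(G) has a complement in G. -/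
theorem result {G : Type*} [Group G] [Finite G] {D : Set G} (hD : Cfsg.IsThreeTranspositionClass D)
    (hZ : Subgroup.center G = ⊥) (hF : Cfsg.generalizedFittingSubgroup G = Cfsg.pCore 2 G)
    (hq : ∃ (F : Type) (_ : Field F) (_ : Fintype F), Fintype.card F = 4 ∧ Nonempty (G ⧸ Cfsg.pCore 2 G ≃* ↥(commutator ↥(Cfsg.SU 3 F 2)))) :
    ∃ K : Subgroup G, (Cfsg.pCore 2 G).IsComplement' K := by
  classical
  haveI : Fact (Nat.Prime 2) := ⟨Nat.prime_two⟩
  haveI : Fact (Nat.Prime 3) := ⟨Nat.prime_three⟩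
  have hG := class_group hD
  obtain ⟨d, hd, -⟩ := hD.2.1
  have hdd := tt_mul_self hG.1 hd
  have hdi := tt_inv hG.1 hd
  have hD2 : ∃ a ∈ D, ∃ b ∈ D, a ≠ b := by
    by_contra hno
    push Not at hno
    have hmem : d ∈ Subgroup.center G := by
      refine Subgroup.mem_center_iff.2 fun g => ?_
      have h1 : g * d * g⁻¹ = d := hno _ (hG.2.1 g d hd) d hd
      calc g * d = g * d * g⁻¹ * g := by group
        _ = d * g := by rw [h1]
    rw [hZ, Subgroup.mem_bot] at hmem
    have h2 := hG.1.1 d hd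
    rw [hmem, orderOf_one] at h2
    omega
  set Q := Cfsg.pCore 2 G with hQ
  obtain ⟨F, _, _, hF4, ⟨e⟩⟩ := hq
  obtain ⟨a', b', d', hrel', htop'⟩ := Fischer3U32.exists_model (F := F) hF4
  have hcard : Nat.card (G ⧸ Q) = 54 := by
    rw [Nat.card_congr e.toEquiv, ← htop', hrel'.card_eq]
  have h232 : ∃ P : Sylow 3 (G ⧸ Q), (P : Subgroup (G ⧸ Q)).Normal ∧
      ∃ k : ℕ, (P : Subgroup (G ⧸ Q)).index = 2 ^ k := by
    obtain ⟨P⟩ : Nonempty (Sylow 3 (G ⧸ Q)) := inferInstance
    have hP : Nat.card P = 27 := by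
      obtain ⟨k, hk⟩ := IsPGroup.iff_card.1 P.isPGroup'
      have h1 := Subgroup.card_mul_index (P : Subgroup (G ⧸ Q))
      have h2 := P.not_dvd_index
      rw [hcard, hk] at h1
      have hk4 : k ≤ 3 := by
        by_contra hlt
        have := (pow_dvd_pow 3 (show 4 ≤ k by omega)).trans ⟨_, h1.symm⟩
        norm_num at this
      interval_cases k <;> omega
    have hidx : (P : Subgroup (G ⧸ Q)).index = 2 := by
      have h := Subgroup.card_mul_index (P : Subgroup (G ⧸ Q))
      rw [hcard, hP] at h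
      omega
    exact ⟨P, Subgroup.normal_of_index_eq_two hidx, 1, by rw [hidx, pow_one]⟩
  have hrel : ∀ a ∈ D, ∀ b ∈ D, Commute a b → RelV D b a := fun a ha b hb hc =>
    (relV_iff hG hb ha).2 (mul_mem_of_commute' hD h232 a ha b hb hc)
  obtain ⟨P, hPd, hPtop⟩ := perp_invariant_sylow hD hD2 hd hrel
  refine ⟨Subgroup.zpowers d ⊔ (P : Subgroup G), ?_⟩
  refine Subgroup.isComplement'_of_disjoint_and_mul_eq_univ ?_ ?_
  · rw [Subgroup.disjoint_def]
    intro x hxQ hx
    have hx' : x ∈ ((Subgroup.zpowers d ⊔ (P : Subgroup G) : Subgroup G) : Set G) := hx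
    rw [Subgroup.coe_mul_of_left_le_normalizer_right _ _ (Subgroup.zpowers_le.2 hPd)] at hx'
    obtain ⟨z, hz, p, hp, rfl⟩ := Set.mem_mul.1 hx'
    obtain ⟨n, hn⟩ := (isOfFinOrder_of_finite d).mem_powers_iff_mem_zpowers.2 hz
    simp only at hn
    rcases Nat.even_or_odd n with ⟨m, rfl⟩ | ⟨m, rfl⟩
    · have : z = 1 := by rw [← hn, ← two_mul, pow_mul, sq, hdd, one_pow]
      rw [this, one_mul] at hxQ ⊢
      exact Subgroup.disjoint_def.1
        (IsPGroup.disjoint_of_ne 3 2 (by norm_num) (P : Subgroup G) Q P.isPGroup'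
          (Basics.pCore_isPGroup 2)) hp hxQ
    · have : z = d := by rw [← hn, pow_succ, pow_mul, sq, hdd, one_pow, one_mul]
      rw [this] at hxQ
      exfalso
      refine notMem_pCore_two hD hD2 hd ?_
      have h1 : QuotientGroup.mk' Q d = (QuotientGroup.mk' Q p)⁻¹ := by
        rw [eq_inv_iff_mul_eq_one, ← map_mul]; exact (QuotientGroup.eq_one_iff _).2 hxQ
      have h2 : QuotientGroup.mk' Q d = 1 := eq_one_of_isPGroup
        (P.isPGroup'.map (QuotientGroup.mk' Q)) (n := 2) (by norm_num)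
        (h1 ▸ inv_mem (Subgroup.mem_map_of_mem _ hp))
        (by rw [← map_pow, sq, hdd, map_one])
      exact (QuotientGroup.eq_one_iff d).1 h2
  · rw [← Subgroup.normal_mul, sup_comm, hPtop, Subgroup.coe_top]

end Cfsg.Agent.S5555
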