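import Cfsg.Statements.S5558
import Cfsg.Agent.Lib.Fischer3Mod.Main
import Cfsg.Agent.Lib.Components.FStar
-- import your own Cfsg.Agent.* helpers here

set_option autoImplicit false
open Cfsg

namespace Cfsg.Agent.S5558

/-- Let G be a finite group generated by a conjugacy class D of 3-transpositions, with trivial centre and with generalized Fitting subgroup F*(G) = O₂(G) (so the Fitting subgroup is O₂(G) too). If moreover O₂(G) is elementary abelian, then D is the only conjugacy class of 3-transpositions generating G. -/
theorem result {G : Type*} [Group G] [Finite G] {D : Set G} (hD : Cfsg.IsThreeTranspositionClass D)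
    (hZ : Subgroup.center G = ⊥) (hF : Cfsg.generalizedFittingSubgroup G = Cfsg.pCore 2 G)
    (hV : Cfsg.IsElementaryAbelian 2 (Cfsg.pCore 2 G)) :
    ∀ E : Set G, Cfsg.IsThreeTranspositionClass E → E = D := by
  haveI := hV.1
  set V := Cfsg.pCore 2 G with hVd
  haveI : V.Normal := Cfsg.Agent.Basics.pCore_normal 2
  letI : CommGroup ↥V := { (inferInstance : Group ↥V) with mul_comm := fun a b => IsMulCommutative.is_comm.comm a b }
  letI : DistribMulAction G (Additive ↥V) :=
    { smul := fun g v => Additive.ofMul (MulAut.conjNormal g (Additive.toMul v))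
      one_smul := fun v => show Additive.ofMul (MulAut.conjNormal (1 : G) (Additive.toMul v)) = v by simp
      mul_smul := fun g k v => show Additive.ofMul (MulAut.conjNormal (g * k) (Additive.toMul v)) =
        Additive.ofMul (MulAut.conjNormal g (MulAut.conjNormal k (Additive.toMul v))) by simp
      smul_zero := fun g => show Additive.ofMul (MulAut.conjNormal g (1 : ↥V)) = Additive.ofMul 1 by simp
      smul_add := fun g v w => show Additive.ofMul (MulAut.conjNormal g (Additive.toMul v * Additive.toMul w)) =
        Additive.ofMul (MulAut.conjNormal g (Additive.toMul v) * MulAut.conjNormal g (Additive.toMul w)) by simp }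
  have h : Cfsg.Agent.Fischer3Mod.Ctx (G := G) (M := Additive ↥V)
      (fun v => ((Additive.toMul v : ↥V) : G)) := by
    refine ⟨fun v w => rfl, fun g v => ?_, fun v w e => ?_, fun v => ?_, fun g hg => ?_, fun N hN hp g hg => ?_,
      fun g hg => ?_⟩
    · exact MulAut.conjNormal_apply g (Additive.toMul v)
    · exact Additive.toMul.injective (Subtype.ext e)
    · exact Additive.toMul.injective (Subtype.ext (by
        show ((Additive.toMul v : ↥V) : G) * (Additive.toMul v : ↥V) = 1
        rw [← pow_two]; exact hV.2 _ (Additive.toMul v).2))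
    · have hmem : g ∈ Subgroup.centralizer (Cfsg.generalizedFittingSubgroup G : Set G) := by
        rw [hF]
        refine Subgroup.mem_centralizer_iff.2 fun x hx => ?_
        have e : g * x * g⁻¹ = x :=
          congrArg (fun y : Additive ↥V => ((Additive.toMul y : ↥V) : G)) (hg (Additive.ofMul ⟨x, hx⟩))
        exact (mul_inv_eq_iff_eq_mul.1 e).symm
      have := Cfsg.Agent.Components.centralizer_fStar_le hmem
      rw [hF] at this
      exact ⟨Additive.ofMul ⟨g, this⟩, rfl⟩
    · exact ⟨Additive.ofMul ⟨g, Cfsg.Agent.Basics.le_pCore (hN := hN) hp hg⟩, rfl⟩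
    · have : g ∈ Subgroup.center G := Subgroup.mem_center_iff.2 hg
      rwa [hZ, Subgroup.mem_bot] at this
  intro E hE
  exact Cfsg.Agent.Fischer3Mod.unique h hD hE

end Cfsg.Agent.S5558
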