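import Cfsg.Statements.S5559
import Cfsg.Agent.Lib.Fischer3U32.Quot
import Cfsg.Agent.Lib.Fischer3U32.Model

set_option autoImplicit false
open Cfsg

namespace Cfsg.Agent.S5559

open ClassK Fischer3 Fischer3U32

/-- Let H be a finite group generated by a conjugacy class E of 3-transpositions with at least two members, with F*(H) = O₂(H), and such that H/O₂(H) has a normal Sylow 3-subgroup of 2-power index (that is, H = O_{2,3,2}(H)). Then H/O₂(H) is isomorphic to the symmetric group of degree 3 or to the derived group of SU₃(2) (of order 54). -/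
theorem result {H : Type*} [Group H] [Finite H] {E : Set H} (hE : Cfsg.IsThreeTranspositionClass E)
    (hE2 : ∃ a ∈ E, ∃ b ∈ E, a ≠ b) (hF : Cfsg.generalizedFittingSubgroup H = Cfsg.pCore 2 H)
    (h232 : ∃ P : Sylow 3 (H ⧸ Cfsg.pCore 2 H), (P : Subgroup (H ⧸ Cfsg.pCore 2 H)).Normal ∧
      ∃ k : ℕ, (P : Subgroup (H ⧸ Cfsg.pCore 2 H)).index = 2 ^ k) :
    Nonempty (H ⧸ Cfsg.pCore 2 H ≃* Equiv.Perm (Fin 3)) ∨
      ∃ (F : Type) (_ : Field F) (_ : Fintype F), Fintype.card F = 4 ∧
        Nonempty (H ⧸ Cfsg.pCore 2 H ≃* ↥(commutator ↥(Cfsg.SU 3 F 2))) := by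
  classical
  haveI : Fact (Nat.Prime 2) := ⟨Nat.prime_two⟩
  haveI : Fact (Nat.Prime 3) := ⟨Nat.prime_three⟩
  have hG := class_group hE
  obtain ⟨a₀, ha₀, b₀, hb₀, hab₀⟩ := hE2
  obtain ⟨d, hd, -⟩ := hE.2.1
  have hE2' : ∃ a ∈ E, ∃ b ∈ E, a ≠ b := ⟨a₀, ha₀, b₀, hb₀, hab₀⟩
  set Q := Cfsg.pCore 2 H with hQ
  have hrel : ∀ a ∈ E, ∀ b ∈ E, Commute a b → RelV E b a := fun a ha b hb hc =>
    (relV_iff hG hb ha).2 (mul_mem_of_commute' hE h232 a ha b hb hc)
  obtain ⟨P, hPd, hPtop⟩ := perp_invariant_sylow hE hE2' hd hrel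
  have hdd := tt_mul_self hG.1 hd
  have hdi := tt_inv hG.1 hd
  have hspan : ∀ h : H, ∃ p ∈ (P : Subgroup H), ∃ q ∈ Q, h = p * q ∨ h = d * p * q := by
    intro h
    have hh : h ∈ Subgroup.zpowers d ⊔ (P : Subgroup H) ⊔ Q := hPtop ▸ Subgroup.mem_top h
    obtain ⟨x, hx, q, hq, rfl⟩ := Subgroup.mem_sup_of_normal_right.1 hh
    have hx' : x ∈ ((Subgroup.zpowers d ⊔ (P : Subgroup H) : Subgroup H) : Set H) := hx
    rw [Subgroup.coe_mul_of_left_le_normalizer_right _ _ (Subgroup.zpowers_le.2 hPd)] at hx'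
    obtain ⟨e, he, p, hp, rfl⟩ := Set.mem_mul.1 hx'
    obtain ⟨n, hn⟩ := (isOfFinOrder_of_finite d).mem_powers_iff_mem_zpowers.2 he
    simp only at hn
    refine ⟨p, hp, q, hq, ?_⟩
    rcases Nat.even_or_odd n with ⟨m, rfl⟩ | ⟨m, rfl⟩
    · left; rw [← hn, ← two_mul, pow_mul, sq, hdd, one_pow, one_mul]
    · right; rw [← hn, pow_succ, pow_mul, sq, hdd, one_pow, one_mul]
  have s : Setup E Q P d :=
    { tt := hG
      cls := fun e he => by
        obtain ⟨g, hg⟩ := class_exists_conj hE hd he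
        exact ⟨g, hg.symm⟩
      mem := hd
      hQ := Basics.pCore_isPGroup 2
      normalQ := inferInstance
      hP := P.isPGroup'
      faith := by
        have := Components.centralizer_fStar_le (G := H)
        rwa [hF] at this
      norm := fun p hp => by
        have := (Subgroup.mem_normalizer_iff.1 hPd p).1 hp
        rwa [hdi] at this
      notQ := notMem_pCore_two hE hE2' hd
      span := hspan }
  let π := QuotientGroup.mk' Q
  have hπ1 : ∀ q ∈ Q, π q = 1 := fun q hq => (QuotientGroup.eq_one_iff q).2 hq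
  have hPne : (P : Subgroup H) ≠ ⊥ := by
    intro hbot
    obtain ⟨e, he, hne⟩ := exists_not_commute hE hE2' hd
    have hall : ∀ h, π h = 1 ∨ π h = π d := by
      intro h
      obtain ⟨p, hp, q, hq, rfl | rfl⟩ := hspan h <;>
        rw [hbot, Subgroup.mem_bot] at hp <;> subst hp
      · exact Or.inl (by rw [one_mul]; exact hπ1 q hq)
      · exact Or.inr (by rw [mul_one, map_mul, hπ1 q hq, mul_one])
    obtain ⟨g, hg⟩ := class_exists_conj hE hd he
    have h1 : π (d * e) = 1 := by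
      rw [← hg]
      rcases hall g with h | h <;> simp only [map_mul, map_inv, h]
      · rw [one_mul, inv_one, mul_one, ← map_mul, hdd, map_one]
      · rw [mul_inv_cancel_right, ← map_mul, hdd, map_one]
    have h2 : d * e = 1 := eq_one_of_isPGroup (Basics.pCore_isPGroup 2) (n := 3) (by norm_num)
      ((QuotientGroup.eq_one_iff _).1 h1) (tt_noncommute_cube hG.1 hd he hne)
    exact hne (by rw [eq_inv_of_mul_eq_one_left h2, tt_inv hG.1 he])
  have hπP : ∀ p ∈ (P : Subgroup H), p ≠ 1 → π p ≠ 1 := fun p hp hne h =>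
    hne (s.inter hp ((QuotientGroup.eq_one_iff p).1 h))
  rcases s.structure_thm hPne with ⟨a, ha1, haI, hall⟩ | ⟨w, x, hrel54, hwP, hxP, hle⟩
  · left
    have ha3 := s.pow_three haI
    have hd1 : π d ≠ 1 := fun h => s.notQ ((QuotientGroup.eq_one_iff d).1 h)
    have ho2 : orderOf (π d) = 2 :=
      orderOf_eq_prime (by rw [sq, ← map_mul, hdd, map_one]) hd1
    have ho3 : orderOf (π a) = 3 :=
      orderOf_eq_prime (by rw [← map_pow, ha3, map_one]) (hπP a haI.1 ha1)
    let f : Fin 3 × Fin 2 → H ⧸ Q := fun t => π (d ^ (t.2 : ℕ) * a ^ (t.1 : ℕ))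
    have hsurj : Function.Surjective f := by
      intro y
      obtain ⟨h, rfl⟩ := QuotientGroup.mk_surjective y
      obtain ⟨p, hp, q, hq, hh⟩ := hspan h
      obtain ⟨n, hn⟩ := (isOfFinOrder_of_finite a).mem_powers_iff_mem_zpowers.2 (hall p hp)
      simp only at hn
      have hn' : a ^ (n % 3) = p := by
        rw [← hn]; conv_rhs => rw [← Nat.div_add_mod n 3, pow_add, pow_mul, ha3, one_pow, one_mul]
      rcases hh with rfl | rfl
      · refine ⟨(⟨n % 3, Nat.mod_lt _ (by norm_num)⟩, 0), ?_⟩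
        show π (d ^ 0 * a ^ (n % 3)) = π (p * q)
        rw [map_mul _ p q, hπ1 q hq, mul_one, pow_zero, one_mul, hn']
      · refine ⟨(⟨n % 3, Nat.mod_lt _ (by norm_num)⟩, 1), ?_⟩
        show π (d ^ 1 * a ^ (n % 3)) = π (d * p * q)
        rw [map_mul _ (d * p) q, hπ1 q hq, mul_one, pow_one, hn']
    refine FGB.nonempty_equiv_perm_three ?_ ⟨π d, π a, fun hcm => ?_⟩
    · refine le_antisymm ((Nat.card_le_card_of_surjective f hsurj).trans (by simp)) ?_
      exact Nat.le_of_dvd Nat.card_pos (Nat.Coprime.mul_dvd_of_dvd_of_dvd (by norm_num : Nat.Coprime 2 3)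
        (by have := orderOf_dvd_natCard (π d); rwa [ho2] at this)
        (by have := orderOf_dvd_natCard (π a); rwa [ho3] at this))
    · have h1 : π a⁻¹ = π a := by
        rw [← haI.2, map_mul, map_mul, hcm, mul_assoc, ← map_mul π d d, hdd, map_one, mul_one]
      refine hπP a haI.1 ha1 ?_
      have h2 : π a * π a = 1 := by
        nth_rw 1 [← h1]; rw [← map_mul, inv_mul_cancel, map_one]
      exact orderOf_eq_one_iff.1 (Nat.eq_one_of_dvd_coprimes (by norm_num : Nat.Coprime 2 3)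
        (orderOf_dvd_of_pow_eq_one (by rw [sq]; exact h2)) (by rw [ho3]))
  · right
    let F := GaloisField 2 2
    letI : Fintype F := Fintype.ofFinite F
    have hF4 : Fintype.card F = 4 := by
      rw [← Nat.card_eq_fintype_card, GaloisField.card 2 2 (by norm_num)]; norm_num
    refine ⟨F, inferInstance, inferInstance, hF4, ?_⟩
    obtain ⟨a', b', d', hrel', htop'⟩ := Fischer3U32.exists_model (F := F) hF4
    have hr : Rel54 (π w) (π x) (π d) := hrel54.map π (hπP _
      (mul_mem (mul_mem (mul_mem hwP hxP) (inv_mem hwP)) (inv_mem hxP)) hrel54.nc)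
    obtain ⟨e⟩ := hr.nonempty_mulEquiv hrel'
    have htop : Subgroup.closure ({π w, π x, π d} : Set (H ⧸ Q)) = ⊤ := by
      rw [eq_top_iff]
      intro y _
      obtain ⟨h, rfl⟩ := QuotientGroup.mk_surjective y
      obtain ⟨p, hp, q, hq, hh⟩ := hspan h
      have hp' : π p ∈ Subgroup.closure ({π w, π x, π d} : Set (H ⧸ Q)) := by
        have h1 : π p ∈ (Subgroup.closure ({w, x} : Set H)).map π := ⟨p, hle hp, rfl⟩
        rw [MonoidHom.map_closure] at h1
        exact Subgroup.closure_mono (by rintro _ ⟨t, rfl | rfl, rfl⟩ <;> simp) h1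
      rcases hh with rfl | rfl
      · show π (p * q) ∈ _
        rwa [map_mul, hπ1 q hq, mul_one]
      · show π (d * p * q) ∈ _
        rw [map_mul, hπ1 q hq, mul_one, map_mul]
        exact mul_mem (Subgroup.subset_closure (by simp)) hp'
    exact ⟨(Subgroup.topEquiv.symm.trans (MulEquiv.subgroupCongr htop.symm)).trans
      (e.trans (MulEquiv.subgroupCongr htop'))⟩

end Cfsg.Agent.S5559
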