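import Cfsg.Statements.S5561
import Cfsg.Agent.Lib.Invol.Isolated
import Cfsg.Agent.Lib.OddLocal.PAction
import Cfsg.Agent.Lib.Basics.Cores
import Cfsg.Agent.S0215
-- import your own Cfsg.Agent.* helpers here

set_option autoImplicit false
open Cfsg

namespace Cfsg.Agent.S5561

open Subgroup in
theorem core_mem {G : Type*} [Group G] [Finite G] (d : G) (hd : orderOf d = 2)
    (hprod : ∀ a ∈ conjugatesOf d, ∀ b ∈ conjugatesOf d, ∃ k : ℕ, orderOf (a * b) = 3 ^ k) :
    ∀ a ∈ conjugatesOf d, a * d ∈ Cfsg.pCore 3 G := by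
  haveI := Fact.mk Nat.prime_two
  haveI := Fact.mk Nat.prime_three
  have hd2 := Cfsg.Agent.Invol.mul_self_of_orderOf_two hd
  have hdinv := Cfsg.Agent.Invol.inv_of_orderOf_two hd
  have hmem : ∀ g : G, g * d * g⁻¹ ∈ conjugatesOf d := fun g => isConj_iff.2 ⟨g, rfl⟩
  have hiso : Cfsg.IsIsolatedInvolution d := by
    refine ⟨hd, fun g hc => ?_⟩
    obtain ⟨k, hk⟩ := hprod d (IsConj.refl d) _ (hmem g)
    have hu2 : (g * d * g⁻¹) * (g * d * g⁻¹) = 1 := by
      rw [show (g * d * g⁻¹) * (g * d * g⁻¹) = g * (d * d) * g⁻¹ by group, hd2]; simp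
    have h1 : orderOf (d * (g * d * g⁻¹)) ∣ 2 := orderOf_dvd_of_pow_eq_one (by
      rw [hc.mul_pow, sq, sq, hd2, hu2, one_mul])
    have h2 : d * (g * d * g⁻¹) = 1 := orderOf_eq_one_iff.1 (Nat.eq_one_of_dvd_coprimes
      ((show Nat.Coprime 3 2 by decide).pow_left k) (dvd_of_eq hk) h1)
    rw [← inv_eq_of_mul_eq_one_right h2, hdinv]
  obtain ⟨P, hP⟩ := (IsPGroup.of_card (n := 1) (by rw [Nat.card_zpowers, hd, pow_one]) :
    IsPGroup 2 (zpowers d)).exists_le_sylow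
  have hdP : d ∈ (P : Subgroup G) := hP (mem_zpowers d)
  obtain ⟨N, hN, hNodd, hNc⟩ := Cfsg.Agent.S0215.result P d hd hdP fun g hg =>
    Cfsg.Agent.Invol.isolated_eq_of_mem_pGroup hiso P.isPGroup' hdP (isConj_iff.2 ⟨g, rfl⟩) hg
  haveI := hN
  set A := zpowers d
  have hAN : A ≤ normalizer (N : Set G) := le_normalizer_of_normal
  have hA2 : IsPGroup 2 A := IsPGroup.of_card (n := 1) (by rw [Nat.card_zpowers, hd, pow_one])
  have hN2 : ¬ 2 ∣ Nat.card N := by rw [Nat.two_dvd_ne_zero, ← Nat.odd_iff]; exact hNodd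
  have hsyl : ∀ q : ℕ, q.Prime → ∃ S : Subgroup G, S ≤ N ∧ IsPGroup q S ∧ d ∈ normalizer (S : Set G) ∧
      ¬ q ∣ S.relIndex N := fun q hq => by
    haveI := Fact.mk hq
    obtain ⟨S, -, h1, h2, h3, h4⟩ := Cfsg.Agent.OddLocal.exists_invariant_sylow_ge (q := q) hA2 hAN hN2
      (Y := ⊥) bot_le IsPGroup.of_bot le_normalizer_of_normal
    exact ⟨S, h1, h2, h3 (mem_zpowers d), h4⟩
  set C := N ⊓ centralizer ({d} : Set G) with hC
  obtain ⟨S3, hS3N, hS3, hdS3, hS3i⟩ := hsyl 3 Nat.prime_three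
  -- the index of `C` in `N` is a power of 3
  have hpart : ∀ q : ℕ, q.Prime → q ≠ 3 → ∀ S : Subgroup G, S ≤ N → IsPGroup q S →
      d ∈ normalizer (S : Set G) → S ≤ C := by
    intro q hq hq3 S hSN hS hdS x hx
    refine ⟨hSN hx, mem_centralizer_singleton_iff.2 ?_⟩
    obtain ⟨k, hk⟩ := hprod _ (hmem x⁻¹) d (IsConj.refl d)
    have h1 : x⁻¹ * d * x⁻¹⁻¹ * d ∈ S := by
      rw [inv_inv]
      have h2 := (mem_normalizer_iff.1 hdS x).1 hx
      rw [hdinv] at h2
      rw [show x⁻¹ * d * x * d = x⁻¹ * (d * x * d) by group]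
      exact mul_mem (inv_mem hx) h2
    haveI := Fact.mk hq
    obtain ⟨j, hj⟩ := IsPGroup.iff_orderOf.1 hS ⟨_, h1⟩
    rw [orderOf_mk] at hj
    have h3 : x⁻¹ * d * x⁻¹⁻¹ * d = 1 := orderOf_eq_one_iff.1 (Nat.eq_one_of_dvd_coprimes
      (((Nat.coprime_primes Nat.prime_three hq).2 hq3.symm).pow k j) (dvd_of_eq hk) (dvd_of_eq hj))
    rw [inv_inv, mul_eq_one_iff_eq_inv, hdinv] at h3
    calc x * d = x * (x⁻¹ * d * x) := by rw [h3]
      _ = d * x := by group
  have hCN : C ≤ N := inf_le_left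
  obtain ⟨i, hi⟩ : ∃ i, C.relIndex N = 3 ^ i := by
    refine ⟨_, Nat.eq_prime_pow_of_unique_prime_dvd ?_ ?_⟩
    · exact (Subgroup.index_ne_zero_of_finite)
    · intro q hq hqd
      by_contra hq3
      obtain ⟨S, hSN, hS, hdS, hSi⟩ := hsyl q hq
      exact hSi (hqd.trans (relIndex_dvd_of_le_left N (hpart q hq hq3 S hSN hS hdS)))
  -- conjugates under `N` come from `S3`
  have hrel : C.relIndex N = C.relIndex S3 := by
    refine le_antisymm ?_ (relIndex_le_of_le_right hS3N (Subgroup.index_ne_zero_of_finite))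
    have h1 : C.relIndex N ∣ C.relIndex S3 * S3.relIndex N := by
      rw [← inf_relIndex_right C S3, relIndex_mul_relIndex _ _ _ inf_le_right hS3N]
      exact relIndex_dvd_of_le_left N inf_le_left
    rw [hi] at h1 ⊢
    exact Nat.le_of_dvd (Nat.pos_of_ne_zero (Subgroup.index_ne_zero_of_finite))
      ((((Nat.prime_three).coprime_iff_not_dvd.2 hS3i).pow_left i).dvd_of_dvd_mul_right h1)
  have hcover : ∀ x ∈ N, ∃ y ∈ S3, y⁻¹ * x ∈ C := by
    intro x hx
    let f : S3 ⧸ C.subgroupOf S3 → N ⧸ C.subgroupOf N :=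
      Quotient.map' (fun y => (⟨y, hS3N y.2⟩ : N)) (fun a b h => by
        rw [QuotientGroup.leftRel_apply] at h ⊢
        simpa [mem_subgroupOf] using h)
    have hf : Function.Injective f := by
      rintro a b h
      obtain ⟨a, rfl⟩ := QuotientGroup.mk_surjective a
      obtain ⟨b, rfl⟩ := QuotientGroup.mk_surjective b
      have h' : (QuotientGroup.mk (⟨a, hS3N a.2⟩ : N) : N ⧸ C.subgroupOf N) = QuotientGroup.mk ⟨b, hS3N b.2⟩ := h
      rw [QuotientGroup.eq, mem_subgroupOf] at h' ⊢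
      simpa using h'
    have hbij : Function.Bijective f := (Nat.bijective_iff_injective_and_card f).2
      ⟨hf, by
        show Nat.card (S3 ⧸ C.subgroupOf S3) = Nat.card (N ⧸ C.subgroupOf N)
        exact hrel.symm⟩
    obtain ⟨q, hq⟩ := hbij.2 (QuotientGroup.mk ⟨x, hx⟩)
    obtain ⟨y, rfl⟩ := QuotientGroup.mk_surjective q
    have h' : (QuotientGroup.mk (⟨y, hS3N y.2⟩ : N) : N ⧸ C.subgroupOf N) = QuotientGroup.mk ⟨x, hx⟩ := hq
    rw [QuotientGroup.eq, mem_subgroupOf] at h'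
    exact ⟨y, y.2, by simpa using h'⟩
  set X := {u : G | ∃ x ∈ N, u = x * d * x⁻¹ * d}
  have hXS : ∀ u ∈ X, u ∈ S3 := by
    rintro _ ⟨x, hx, rfl⟩
    obtain ⟨y, hy, hc⟩ := hcover x hx
    have e : x * d * x⁻¹ = y * d * y⁻¹ := by
      have h2 : y⁻¹ * x * d = d * (y⁻¹ * x) := mem_centralizer_singleton_iff.1 hc.2
      calc x * d * x⁻¹ = y * (y⁻¹ * x * d) * x⁻¹ := by group
        _ = y * (d * (y⁻¹ * x)) * x⁻¹ := by rw [h2]
        _ = y * d * y⁻¹ := by group
    rw [e, show y * d * y⁻¹ * d = y * (d * y⁻¹ * d) by group]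
    have h3 := (mem_normalizer_iff.1 hdS3 y⁻¹).1 (inv_mem hy)
    rw [hdinv] at h3
    exact mul_mem hy h3
  set M := closure X
  have hMS : M ≤ S3 := (closure_le S3).2 hXS
  have hMn : (M.subgroupOf N).Normal := by
    refine ⟨fun u hu y => ?_⟩
    have hle : M ≤ M.comap (MulAut.conj (y : G)).toMonoidHom := by
      rw [closure_le]
      rintro _ ⟨x, hx, rfl⟩
      show (y : G) * (x * d * x⁻¹ * d) * (y : G)⁻¹ ∈ M
      have e : (y : G) * (x * d * x⁻¹ * d) * (y : G)⁻¹ =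
          ((y * x) * d * ((y : G) * x)⁻¹ * d) * ((y : G) * d * (y : G)⁻¹ * d)⁻¹ := by
        rw [mul_inv_rev, mul_inv_rev, mul_inv_rev, mul_inv_rev, inv_inv, hdinv]; group
        simp [zpow_two, mul_assoc, hd2, ← mul_assoc d d]
      rw [e]
      exact mul_mem (subset_closure ⟨_, mul_mem y.2 hx, rfl⟩) (inv_mem (subset_closure ⟨_, y.2, rfl⟩))
    exact hle hu
  have hM3 : M ≤ Cfsg.pCore 3 G := by
    haveI := hMn
    have h1 : M.subgroupOf N ≤ Cfsg.pCore 3 N := Cfsg.Agent.Basics.le_pCore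
      ((hS3.to_le hMS).comap_subtype)
    have h2 : (Cfsg.pCore 3 N).map N.subtype ≤ Cfsg.pCore 3 G := by
      haveI : (Cfsg.pCore 3 N).Characteristic := inferInstance
      exact Cfsg.Agent.Basics.le_pCore ((Cfsg.Agent.Basics.pCore_isPGroup 3).map _)
    intro u hu
    exact h2 ⟨⟨u, hS3N (hMS hu)⟩, h1 hu, rfl⟩
  intro a ha
  obtain ⟨g, rfl⟩ := isConj_iff.1 (show IsConj d a from ha)
  have hu2 := Cfsg.Agent.Invol.mul_self_of_orderOf_two (Cfsg.Agent.Invol.orderOf_two_of_isConj ha hd)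
  obtain ⟨w, hw, hwa⟩ := Cfsg.Agent.Invol.exists_conj_of_odd hd2 hu2
    (Cfsg.Agent.Invol.isolated_odd_mul hiso ha)
  have hdu : d * (g * d * g⁻¹) ∈ N := by
    have := hNc g
    rw [hdinv] at this
    rw [show d * (g * d * g⁻¹) = d * g * d * g⁻¹ by group]
    exact this
  obtain ⟨k, rfl | rfl⟩ := (Cfsg.Agent.Invol.mem_closure_pair_iff hd2 hu2).1 hw
  · refine hM3 (subset_closure ⟨_, zpow_mem hdu k, ?_⟩)
    conv_lhs => rw [← hwa]
  · refine hM3 (subset_closure ⟨d * (d * (g * d * g⁻¹)) ^ k * d⁻¹, hN.conj_mem _ (zpow_mem hdu k) d, ?_⟩)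
    conv_lhs => rw [← hwa]
    group

/-- The case p = 3 of the Z*-type result for involution classes. Let G be a finite group and d an involution of G such that the product of any two conjugates of d has order a power of 3. Then the product of any two conjugates of d lies in O₃(G); so the conjugacy class of d lies in the coset O₃(G)d. -/
theorem result {G : Type*} [Group G] [Finite G] (d : G) (hd : orderOf d = 2)
    (hprod : ∀ a ∈ conjugatesOf d, ∀ b ∈ conjugatesOf d, ∃ k : ℕ, orderOf (a * b) = 3 ^ k) :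
    ∀ a ∈ conjugatesOf d, ∀ b ∈ conjugatesOf d, a * b ∈ Cfsg.pCore 3 G := by
  intro a ha b hb
  have h1 := core_mem d hd hprod a ha
  have h2 := core_mem d hd hprod b hb
  have e : a * b = (a * d) * (b * d)⁻¹ := by
    rw [mul_inv_rev, Cfsg.Agent.Invol.inv_of_orderOf_two hd, Cfsg.Agent.Invol.inv_of_orderOf_two
      (Cfsg.Agent.Invol.orderOf_two_of_isConj hb hd), mul_assoc, ← mul_assoc d d,
      Cfsg.Agent.Invol.mul_self_of_orderOf_two hd, one_mul]
  rw [e]
  exact mul_mem h1 (inv_mem h2)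

end Cfsg.Agent.S5561
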