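import Cfsg.Statements.S5562
import Cfsg.Agent.Lib.Invol.Basic
-- import your own Cfsg.Agent.* helpers here

set_option autoImplicit false
open Cfsg

namespace Cfsg.Agent.S5562

/-- Let G be a finite group, d an involution of G whose conjugates pairwise have products of odd order, and x any involution of G. Then the conjugacy class of d is the disjoint union, over the conjugates a of d commuting with x, of the sets of conjugates of d commuting with ax: every conjugate of d commutes with ax for exactly one conjugate a of d that commutes with x. -/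
theorem result {G : Type*} [Group G] [Finite G] (d : G) (hd : orderOf d = 2)
    (hodd : ∀ a ∈ conjugatesOf d, ∀ b ∈ conjugatesOf d, Odd (orderOf (a * b)))
    (x : G) (hx : orderOf x = 2) :
    ∀ e ∈ conjugatesOf d,
      ∃! a : G, a ∈ conjugatesOf d ∧ Commute a x ∧ Commute e (a * x) := by
  intro e he
  have hconj : ∀ u ∈ conjugatesOf d, ∀ g : G, g * u * g⁻¹ ∈ conjugatesOf d := fun u hu g =>
    (show IsConj d u from hu).trans (isConj_iff.2 ⟨g, rfl⟩)
  have hsq : ∀ u ∈ conjugatesOf d, u * u = 1 := fun u hu =>
    Cfsg.Agent.Invol.mul_self_of_orderOf_two (Cfsg.Agent.Invol.orderOf_two_of_isConj hu hd)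
  have hx2 := Cfsg.Agent.Invol.mul_self_of_orderOf_two hx
  have hxinv := Cfsg.Agent.Invol.inv_of_orderOf_two hx
  have he2 := hsq e he
  have he' : x * e * x ∈ conjugatesOf d := by
    have := hconj e he x
    rwa [hxinv] at this
  set d0 := e * (x * e * x) with hd0
  have hinv := Cfsg.Agent.Invol.conj_mul_eq_inv he2 (hsq _ he')
  rw [← hd0] at hinv
  obtain ⟨s, hs, hss, hsodd⟩ := Cfsg.Agent.Invol.exists_sqrt (hodd e he _ he')
  obtain ⟨r, hr, hrr, -⟩ := Cfsg.Agent.Invol.exists_sqrt hsodd
  have hr0 : r ∈ Subgroup.zpowers d0 := (Subgroup.zpowers_le.2 hs) hr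
  have hsinv := Cfsg.Agent.Invol.inverts_of_mem_zpowers hinv hs
  have hrinv := Cfsg.Agent.Invol.inverts_of_mem_zpowers hinv hr0
  set a := e * s with ha
  have haD : a ∈ conjugatesOf d := by
    have h1 := hconj e he r⁻¹
    have h2 : r⁻¹ * e * r⁻¹⁻¹ = a := by
      rw [inv_inv, ← hrinv, ha, ← hrr]
      group
    rwa [h2] at h1
  have haea : a * e * a = x * e * x := by
    calc a * e * a = e * s * (e * e) * s := by rw [ha]; group
      _ = e * (s * s) := by rw [he2]; group
      _ = x * e * x := by rw [hss, ← mul_assoc, he2, one_mul]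
  have huniq : ∀ u ∈ conjugatesOf d, u * e * u = x * e * x → u = a := by
    intro u hu h
    refine mul_right_cancel (b := e) (Cfsg.Agent.Invol.eq_of_mul_self_eq (hodd u hu e he) (hodd a haD e he) ?_)
    rw [← mul_assoc, h, ← mul_assoc, haea]
  have hax : Commute a x := by
    have h1 : x * a * x ∈ conjugatesOf d := by
      have := hconj a haD x
      rwa [hxinv] at this
    have h2 : a * (x * e * x) * a = e := by
      calc a * (x * e * x) * a = (a * a) * e * (a * a) := by rw [← haea]; group
        _ = e := by rw [hsq a haD, one_mul, mul_one]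
    have h3 : x * a * x * e * (x * a * x) = x * e * x := by
      calc x * a * x * e * (x * a * x) = x * (a * (x * e * x) * a) * x := by group
        _ = x * e * x := by rw [h2]
    have h4 := huniq _ h1 h3
    show a * x = x * a
    calc a * x = (x * a * x) * x := by rw [h4]
      _ = x * a * (x * x) := by group
      _ = x * a := by rw [hx2, mul_one]
  refine ⟨a, ⟨haD, hax, ?_⟩, fun u ⟨hu, hux, huc⟩ => huniq u hu ?_⟩
  · show e * (a * x) = a * x * e
    calc e * (a * x) = (a * a) * e * a * x := by rw [hsq a haD]; group
      _ = a * (a * e * a) * x := by group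
      _ = a * (x * e * x) * x := by rw [haea]
      _ = a * x * e * (x * x) := by group
      _ = a * x * e := by rw [hx2, mul_one]
  · calc u * e * u = u * e * u * (x * x) := by rw [hx2, mul_one]
      _ = u * (e * (u * x)) * x := by group
      _ = u * (u * x * e) * x := by rw [huc.eq]
      _ = (u * u) * (x * e * x) := by group
      _ = x * e * x := by rw [hsq u hu, one_mul]

end Cfsg.Agent.S5562
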