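import Cfsg.Statements.S5594
import Cfsg.Agent.Lib.Leech.Stab
import Cfsg.Agent.Lib.Golay.Gens

set_option autoImplicit false
open Cfsg

namespace Cfsg.Agent.S5594

/-- The automorphism group of the Leech lattice contains the negation map, and the subgroup of order 2 it generates has no complement: the automorphism group is a non-split extension of its quotient by that subgroup (it is not the direct product of a group of order 2 with the first Conway group). -/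
theorem result :
    ∃ n : ↥Cfsg.Co0, (∀ v : ↥Cfsg.leechLattice, ((n • v : ↥Cfsg.leechLattice) : Cfsg.GolayPt → ℤ) = -(v : Cfsg.GolayPt → ℤ)) ∧
    ∀ K : Subgroup ↥Cfsg.Co0, ¬ (Subgroup.zpowers n).IsComplement' K := by
  refine ⟨Cfsg.Agent.Leech.negOne, fun v => by rw [← Cfsg.Agent.Leech.ap_coe, Cfsg.Agent.Leech.ap_negOne v.2], fun K hK => ?_⟩
  have hD : Cfsg.Agent.Leech.InC (support₂ (qrWord 0)) :=
    ⟨qrWord 0, Submodule.subset_span (Or.inl ⟨0, rfl⟩), rfl⟩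
  let g : ↥Cfsg.Co0 := Cfsg.Agent.Leech.signCo _ hD * Cfsg.Agent.Leech.permCo projInv Cfsg.Agent.Golay24.projInv_mem_M24
  have hflip : ∀ i : GolayPt, (projInv.symm i ∈ support₂ (qrWord 0) ↔ i ∉ support₂ (qrWord 0)) ∧
      projInv.symm (projInv.symm i) = i := by decide +kernel
  have hgv : ∀ x ∈ Cfsg.leechLattice, ∀ i, Cfsg.Agent.Leech.ap g x i =
      if i ∈ support₂ (qrWord 0) then -x (projInv.symm i) else x (projInv.symm i) := fun x hx i => by
    rw [Cfsg.Agent.Leech.ap_mul _ _ hx, Cfsg.Agent.Leech.ap_signCo hD (Cfsg.Agent.Leech.ap_mem _ hx),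
      Cfsg.Agent.Leech.ap_permCo _ hx]
  have hg : g * g = Cfsg.Agent.Leech.negOne := by
    refine Subtype.ext (Equiv.ext fun v => Subtype.ext ?_)
    show ((((g * g) • v : ↥Cfsg.leechLattice)) : GolayPt → ℤ) = ((Cfsg.Agent.Leech.negOne • v : ↥Cfsg.leechLattice) : GolayPt → ℤ)
    rw [← Cfsg.Agent.Leech.ap_coe, ← Cfsg.Agent.Leech.ap_coe, Cfsg.Agent.Leech.ap_negOne v.2,
      Cfsg.Agent.Leech.ap_mul _ _ v.2]
    funext i
    obtain ⟨h1, h2⟩ := hflip i
    rw [hgv _ (Cfsg.Agent.Leech.ap_mem _ v.2), hgv _ v.2, h2]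
    by_cases hi : i ∈ support₂ (qrWord 0)
    · simp [hi, show projInv.symm i ∉ support₂ (qrWord 0) from fun h => (h1.1 h) hi]
    · simp [hi, h1.2 hi]
  obtain ⟨⟨z, k⟩, hzk : (z : ↥Cfsg.Co0) * k = g⟩ := (hK : Function.Bijective _).2 g
  have hz : (z : ↥Cfsg.Co0) = 1 ∨ (z : ↥Cfsg.Co0) = Cfsg.Agent.Leech.negOne := by
    obtain ⟨n, hn⟩ := Subgroup.mem_zpowers_iff.1 z.2
    have h2 : Cfsg.Agent.Leech.negOne ^ (2 : ℤ) = (1 : ↥Cfsg.Co0) := by
      refine Subtype.ext (Equiv.ext fun v => ?_)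
      show Cfsg.Agent.Leech.negOne • (Cfsg.Agent.Leech.negOne • v) = v
      rw [Cfsg.Agent.Leech.negOne_smul, Cfsg.Agent.Leech.negOne_smul, neg_neg]
    rcases Int.even_or_odd n with ⟨m, rfl⟩ | ⟨m, rfl⟩
    · left; rw [← hn, ← two_mul, zpow_mul, h2, one_zpow]
    · right; rw [← hn, zpow_add, zpow_mul, h2, one_zpow, one_mul, zpow_one]
  have hkk : (k : ↥Cfsg.Co0) * k = Cfsg.Agent.Leech.negOne := by
    have hc := Subgroup.mem_center_iff.1 Cfsg.Agent.Leech.negOne_mem_center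
    rcases hz with h | h <;> rw [h] at hzk
    · rw [one_mul] at hzk; rw [hzk]; exact hg
    · have hn : Cfsg.Agent.Leech.negOne * Cfsg.Agent.Leech.negOne = (1 : ↥Cfsg.Co0) := by
        refine Subtype.ext (Equiv.ext fun v => ?_)
        show Cfsg.Agent.Leech.negOne • (Cfsg.Agent.Leech.negOne • v) = v
        rw [Cfsg.Agent.Leech.negOne_smul, Cfsg.Agent.Leech.negOne_smul, neg_neg]
      rw [← hg, ← hzk, Cfsg.Agent.Leech.negOne_central (k : ↥Cfsg.Co0)]
      rw [mul_assoc (k : ↥Cfsg.Co0) Cfsg.Agent.Leech.negOne ((k : ↥Cfsg.Co0) * Cfsg.Agent.Leech.negOne),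
        ← mul_assoc Cfsg.Agent.Leech.negOne (k : ↥Cfsg.Co0), Cfsg.Agent.Leech.negOne_central (k : ↥Cfsg.Co0),
        mul_assoc (k : ↥Cfsg.Co0) Cfsg.Agent.Leech.negOne, hn, mul_one]
  have hmem : Cfsg.Agent.Leech.negOne ∈ K := hkk ▸ mul_mem k.2 k.2
  exact Cfsg.Agent.Leech.negOne_ne_one (Subgroup.disjoint_def.1 hK.disjoint (Subgroup.mem_zpowers _) hmem)

end Cfsg.Agent.S5594
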