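import Cfsg.Statements.S5599
import Cfsg.Agent.Lib.Golay.PairStab
-- import your own Cfsg.Agent.* helpers here

set_option autoImplicit false
open scoped Pointwise
open Cfsg
open scoped Pointwise

namespace Cfsg.Agent.S5599

/-- In the automorphism group of the length-24 code, the two-point Mathieu group (permutations of the code's group fixing the extra point and the residue 0) has index 2 in the setwise stabiliser of that pair of points, and an element of the code's group interchanging the two points normalises the two-point group and induces on it, by conjugation, an automorphism that is not inner. -/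
theorem result (g : Equiv.Perm Cfsg.GolayPt) (hg : g ∈ Cfsg.M24) (h₁ : g none = some 0) (h₂ : g (some 0) = none) : Cfsg.Spor.M22.relIndex (Cfsg.M24 ⊓ MulAction.stabilizer (Equiv.Perm Cfsg.GolayPt) ({none, some 0} : Finset Cfsg.GolayPt)) = 2 ∧ (∀ x ∈ Cfsg.Spor.M22, g * x * g⁻¹ ∈ Cfsg.Spor.M22) ∧ ¬ ∃ h ∈ Cfsg.Spor.M22, ∀ x ∈ Cfsg.Spor.M22, g * x * g⁻¹ = h * x * h⁻¹ := by
  classical
  have hfix : ∀ x ∈ Cfsg.Spor.M22, x none = none ∧ x (some 0) = some 0 := fun x hx => ⟨hx.1.2, hx.2⟩
  have hswap : ∀ x ∈ Cfsg.M24 ⊓ MulAction.stabilizer (Equiv.Perm Cfsg.GolayPt)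
      ({none, some 0} : Finset Cfsg.GolayPt), (x none = none ∧ x (some 0) = some 0) ∨
        (x none = some 0 ∧ x (some 0) = none) := by
    intro x hx
    have hm : ∀ q ∈ ({none, some 0} : Finset Cfsg.GolayPt), x q = none ∨ x q = some 0 := by
      intro q hq
      have := Finset.smul_mem_smul_finset (a := x) hq
      rw [MulAction.mem_stabilizer_iff.1 hx.2] at this
      simpa using this
    have hne : x none ≠ x (some 0) := fun e => absurd (x.injective e) (by simp)
    rcases hm none (by simp) with h | h <;> rcases hm (some 0) (by simp) with h' | h'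
    · exact absurd (h.trans h'.symm) hne
    · exact Or.inl ⟨h, h'⟩
    · exact Or.inr ⟨h, h'⟩
    · exact absurd (h.trans h'.symm) hne
  have hgi : g⁻¹ none = some 0 ∧ g⁻¹ (some 0) = none := by
    constructor <;> rw [Equiv.Perm.coe_inv, Equiv.symm_apply_eq]
    · exact h₂.symm
    · exact h₁.symm
  have hmem : ∀ x ∈ Cfsg.M24, x none = none → x (some 0) = some 0 → x ∈ Cfsg.Spor.M22 :=
    fun x hx a b => ⟨⟨hx, a⟩, b⟩
  refine ⟨?_, fun x hx => hmem _ (Cfsg.M24.mul_mem (Cfsg.M24.mul_mem hg hx.1.1) (Cfsg.M24.inv_mem hg))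
      (by simp only [Equiv.Perm.mul_apply, hgi.1, (hfix x hx).2, h₂])
      (by simp only [Equiv.Perm.mul_apply, hgi.2, (hfix x hx).1, h₁]), ?_⟩
  · rw [Subgroup.relIndex, Subgroup.index_eq_two_iff]
    refine ⟨⟨g, hg, ?_⟩, fun b => ?_⟩
    · show g • ({none, some 0} : Finset Cfsg.GolayPt) = _
      simp [Finset.smul_finset_insert, h₁, h₂, Finset.pair_comm]
    · rcases hswap b b.2 with ⟨hb1, hb2⟩ | ⟨hb1, hb2⟩
      · refine Or.inr ⟨hmem _ b.2.1 hb1 hb2, fun h => ?_⟩
        have h' := (hfix _ (Subgroup.mem_subgroupOf.1 h)).1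
        simp [h₁, hb2] at h'
      · refine Or.inl ⟨Subgroup.mem_subgroupOf.2 (hmem _ (Cfsg.M24.mul_mem b.2.1 hg) ?_ ?_), fun h => ?_⟩
        · simp [h₁, hb2]
        · simp [h₂, hb1]
        · have h' := (hfix _ (Subgroup.mem_subgroupOf.1 h)).1
          simp [hb1] at h'
  · rintro ⟨h, hh, hconj⟩
    exact Golay24.no_swap_central (Cfsg.M24.mul_mem (Cfsg.M24.inv_mem hh.1.1) hg)
      (by rw [Equiv.Perm.mul_apply, h₁, Equiv.Perm.coe_inv, Equiv.symm_apply_eq, (hfix h hh).2])
      fun x hx => by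
        have e := hconj x hx
        calc h⁻¹ * g * x = h⁻¹ * (g * x * g⁻¹) * g := by group
          _ = x * (h⁻¹ * g) := by rw [e]; group

end Cfsg.Agent.S5599
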