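import Cfsg.Statements.S5600
import Cfsg.Agent.Lib.Golay.SixSets
-- import your own Cfsg.Agent.* helpers here

set_option autoImplicit false
open scoped Pointwise
open Cfsg
open scoped Pointwise

namespace Cfsg.Agent.S5600

/-- Although the group of the length-24 code is only 5-transitive on the 24 points, it induces the full symmetric group on every 6-element subset: every permutation of a 6-set E is the restriction of an element of the group mapping E to itself. The pointwise stabiliser of E has order 16 when E lies in an octad and order 3 otherwise; in the latter case the setwise stabiliser of E has order 2160. -/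
theorem result (E : Finset Cfsg.GolayPt) (hE : E.card = 6) : (∀ σ : Equiv.Perm ↥E, ∃ g ∈ Cfsg.M24, ∀ p : ↥E, g p = σ p) ∧ ((∃ o ∈ Cfsg.octads, E ⊆ o) → Nat.card {g : Equiv.Perm Cfsg.GolayPt // g ∈ Cfsg.M24 ∧ ∀ p ∈ E, g p = p} = 16) ∧ ((¬ ∃ o ∈ Cfsg.octads, E ⊆ o) → Nat.card {g : Equiv.Perm Cfsg.GolayPt // g ∈ Cfsg.M24 ∧ ∀ p ∈ E, g p = p} = 3 ∧ Nat.card ↥(MulAction.stabilizer Cfsg.M24 E) = 2160) := by
  classical
  let e := E.equivFinOfCardEq hE
  let x : Fin 6 ↪ Cfsg.GolayPt := e.symm.toEmbedding.trans (Function.Embedding.subtype _)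
  have hxE : ∀ p : ↥E, x (e p) = p := fun p => by simp [x]
  have hin : Golay24.InOctad x ↔ ∃ o ∈ Cfsg.octads, E ⊆ o := by
    constructor
    · rintro ⟨o, ho, h⟩
      exact ⟨o, ho, fun p hp => by have := h (e ⟨p, hp⟩); rwa [hxE] at this⟩
    · rintro ⟨o, ho, h⟩
      exact ⟨o, ho, fun i => h (e.symm i).2⟩
  have hset : {g : Equiv.Perm Cfsg.GolayPt | g ∈ Cfsg.M24 ∧ ∀ p ∈ E, g p = p} =
      Golay24.sixFixer x := by
    ext g
    refine ⟨fun h => ⟨h.1, fun i => h.2 _ (e.symm i).2⟩, fun h => ⟨h.1, fun p hp => ?_⟩⟩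
    have := h.2 (e ⟨p, hp⟩)
    rwa [hxE] at this
  have hperm : ∀ σ : Equiv.Perm ↥E, ∃ g ∈ Cfsg.M24, ∀ p : ↥E, g p = σ p := by
    intro σ
    obtain ⟨g, hg, h⟩ := Golay24.exists_six_perm x ((e.symm.trans σ).trans e)
    refine ⟨g, hg, fun p => ?_⟩
    rw [← hxE p, h, ← hxE (σ p)]
    simp
  have hcard : Nat.card {g : Equiv.Perm Cfsg.GolayPt // g ∈ Cfsg.M24 ∧ ∀ p ∈ E, g p = p} =
      (Golay24.sixFixer x).ncard := by
    rw [← hset, ← Nat.card_coe_set_eq]
    rfl
  refine ⟨hperm, fun h => hcard.trans ((Golay24.ncard_sixFixer x).1 (hin.2 h)),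
    fun h => ⟨hcard.trans ((Golay24.ncard_sixFixer x).2 (mt hin.1 h)), ?_⟩⟩
  have hmem : ∀ (g : ↥(MulAction.stabilizer Cfsg.M24 E)) (p : Cfsg.GolayPt),
      p ∈ E → ((g : ↥Cfsg.M24) : Equiv.Perm Cfsg.GolayPt) p ∈ E := fun g p hp => by
    have := Finset.smul_mem_smul_finset (a := (g : ↥Cfsg.M24)) hp
    rwa [MulAction.mem_stabilizer_iff.1 g.2] at this
  let r : ↥(MulAction.stabilizer Cfsg.M24 E) →* Equiv.Perm ↥E :=
    { toFun := fun g => Equiv.ofBijective (fun p => ⟨_, hmem g p p.2⟩)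
        (Finite.injective_iff_bijective.1 fun p q h =>
          Subtype.ext (((g : ↥Cfsg.M24) : Equiv.Perm Cfsg.GolayPt).injective (congrArg Subtype.val h)))
      map_one' := Equiv.ext fun p => Subtype.ext rfl
      map_mul' := fun g k => Equiv.ext fun p => Subtype.ext rfl }
  have hsurj : Function.Surjective r := fun σ => by
    obtain ⟨g, hg, hgp⟩ := hperm σ
    have hstab : (⟨g, hg⟩ : ↥Cfsg.M24) ∈ MulAction.stabilizer Cfsg.M24 E := by
      rw [MulAction.mem_stabilizer_iff]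
      refine Finset.eq_of_subset_of_card_le (fun p hp => ?_) (by rw [Finset.card_smul_finset])
      obtain ⟨q, hq, rfl⟩ := Finset.mem_smul_finset.1 hp
      show g q ∈ E
      rw [hgp ⟨q, hq⟩]
      exact (σ _).2
    exact ⟨⟨⟨g, hg⟩, hstab⟩, Equiv.ext fun p => Subtype.ext (hgp p)⟩
  have hker : Nat.card r.ker = 3 := by
    rw [← (Golay24.ncard_sixFixer x).2 (mt hin.1 h), ← hcard]
    refine Nat.card_congr ⟨fun g => ⟨((g : ↥(MulAction.stabilizer Cfsg.M24 E)) : ↥Cfsg.M24).1,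
      ((g : ↥(MulAction.stabilizer Cfsg.M24 E)) : ↥Cfsg.M24).2, fun p hp =>
        congrArg Subtype.val (congrArg (fun f : Equiv.Perm ↥E => f ⟨p, hp⟩) g.2)⟩,
      fun g => ⟨⟨⟨g.1, g.2.1⟩, ?_⟩, Equiv.ext fun p => Subtype.ext (g.2.2 p p.2)⟩,
      fun g => rfl, fun g => rfl⟩
    rw [MulAction.mem_stabilizer_iff]
    refine Finset.eq_of_subset_of_card_le (fun p hp => ?_) (by rw [Finset.card_smul_finset])
    obtain ⟨q, hq, rfl⟩ := Finset.mem_smul_finset.1 hp
    show g.1 q ∈ E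
    rw [g.2.2 q hq]
    exact hq
  rw [Subgroup.card_eq_card_quotient_mul_card_subgroup r.ker,
    Nat.card_congr (QuotientGroup.quotientKerEquivOfSurjective r hsurj).toEquiv, hker,
    Nat.card_perm, Nat.card_eq_fintype_card, Fintype.card_coe, hE]
  rfl

end Cfsg.Agent.S5600
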