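import Cfsg.Statements.S5601
import Cfsg.Agent.Lib.Golay.Classes
-- import your own Cfsg.Agent.* helpers here

set_option autoImplicit false
open scoped Pointwise
open Cfsg
open scoped Pointwise

namespace Cfsg.Agent.S5601

/-- The group of the length-24 code has exactly two conjugacy classes of subgroups of order 3: a subgroup of order 3 fixes either exactly 6 of the 24 points or none of them, both cases occur, and two subgroups of order 3 with the same number of fixed points are conjugate. -/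
theorem result : (∀ X : Subgroup ↥Cfsg.M24, Nat.card X = 3 → {p : Cfsg.GolayPt | ∀ x ∈ X, ((x : ↥Cfsg.M24) : Equiv.Perm Cfsg.GolayPt) p = p}.ncard = 6 ∨ {p : Cfsg.GolayPt | ∀ x ∈ X, ((x : ↥Cfsg.M24) : Equiv.Perm Cfsg.GolayPt) p = p}.ncard = 0) ∧ (∃ X : Subgroup ↥Cfsg.M24, Nat.card X = 3 ∧ {p : Cfsg.GolayPt | ∀ x ∈ X, ((x : ↥Cfsg.M24) : Equiv.Perm Cfsg.GolayPt) p = p}.ncard = 6) ∧ (∃ X : Subgroup ↥Cfsg.M24, Nat.card X = 3 ∧ {p : Cfsg.GolayPt | ∀ x ∈ X, ((x : ↥Cfsg.M24) : Equiv.Perm Cfsg.GolayPt) p = p}.ncard = 0) ∧ ∀ X Y : Subgroup ↥Cfsg.M24, Nat.card X = 3 → Nat.card Y = 3 → {p : Cfsg.GolayPt | ∀ x ∈ X, ((x : ↥Cfsg.M24) : Equiv.Perm Cfsg.GolayPt) p = p}.ncard = {p : Cfsg.GolayPt | ∀ x ∈ Y, ((x : ↥Cfsg.M24) : Equiv.Perm Cfsg.GolayPt) p = p}.ncard → ∃ k : ↥Cfsg.M24, MulAut.conj k • X = Y := by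
  haveI : Fact (Nat.Prime 3) := ⟨Nat.prime_three⟩
  have hgen : ∀ X : Subgroup ↥Cfsg.M24, Nat.card X = 3 → ∃ x : ↥Cfsg.M24,
      orderOf (x : Equiv.Perm Cfsg.GolayPt) = 3 ∧ X = Subgroup.zpowers x ∧
      {p : Cfsg.GolayPt | ∀ y ∈ X, ((y : ↥Cfsg.M24) : Equiv.Perm Cfsg.GolayPt) p = p}.ncard =
        Golay24.fixCount (x : Equiv.Perm Cfsg.GolayPt) := by
    intro X hX
    obtain ⟨⟨x, hxX⟩, hx⟩ := exists_prime_orderOf_dvd_card' (G := X) 3 (by rw [hX])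
    rw [Subgroup.orderOf_mk] at hx
    have hz : X = Subgroup.zpowers x :=
      (Subgroup.eq_of_le_of_card_ge (Subgroup.zpowers_le.2 hxX)
        (by rw [hX, Nat.card_zpowers, hx])).symm
    refine ⟨x, by rw [Subgroup.orderOf_coe]; exact hx, hz, ?_⟩
    rw [Golay24.fixCount, ← Set.ncard_coe_finset]
    congr 1
    ext p
    simp only [Finset.coe_filter, Finset.mem_univ, true_and, Set.mem_ofPred_eq]
    refine ⟨fun h => h x hxX, fun h y hy => ?_⟩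
    rw [hz] at hy
    obtain ⟨n, rfl⟩ := Subgroup.mem_zpowers_iff.1 hy
    rw [SubgroupClass.coe_zpow]
    exact Equiv.Perm.zpow_apply_eq_self_of_apply_eq_self h n
  have hex : ∀ r : Equiv.Perm Cfsg.GolayPt, ∀ n, r ∈ Cfsg.M24 → orderOf r = 3 →
      Golay24.fixCount r = n → ∃ X : Subgroup ↥Cfsg.M24, Nat.card X = 3 ∧
        {p : Cfsg.GolayPt | ∀ x ∈ X, ((x : ↥Cfsg.M24) : Equiv.Perm Cfsg.GolayPt) p = p}.ncard = n := by
    intro r n hr h3 hn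
    refine ⟨Subgroup.zpowers ⟨r, hr⟩, by rw [Nat.card_zpowers, Subgroup.orderOf_mk, h3], ?_⟩
    rw [← hn, Golay24.fixCount, ← Set.ncard_coe_finset]
    congr 1
    ext p
    simp only [Finset.coe_filter, Finset.mem_univ, true_and, Set.mem_ofPred_eq]
    refine ⟨fun h => h ⟨r, hr⟩ (Subgroup.mem_zpowers _), fun h y hy => ?_⟩
    obtain ⟨m, rfl⟩ := Subgroup.mem_zpowers_iff.1 hy
    rw [SubgroupClass.coe_zpow]
    exact Equiv.Perm.zpow_apply_eq_self_of_apply_eq_self h m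
  refine ⟨fun X hX => ?_, hex _ 6 Golay24.triSix_spec.1 Golay24.triSix_spec.2.1
    Golay24.triSix_spec.2.2, hex _ 0 Golay24.triNone_spec.1 Golay24.triNone_spec.2.1
    Golay24.triNone_spec.2.2, fun X Y hX hY he => ?_⟩
  · obtain ⟨x, hx, -, hn⟩ := hgen X hX
    rw [hn]
    exact Golay24.three_fix x.2 hx
  · obtain ⟨x, hx, hXz, hn⟩ := hgen X hX
    obtain ⟨y, hy, hYz, hm⟩ := hgen Y hY
    rw [hn, hm] at he
    obtain ⟨k, hk, r, hkr, k', hk', hkr'⟩ : ∃ k ∈ Cfsg.M24, ∃ r,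
        k * (x : Equiv.Perm Cfsg.GolayPt) * k⁻¹ = r ∧
        ∃ k' ∈ Cfsg.M24, k' * (y : Equiv.Perm Cfsg.GolayPt) * k'⁻¹ = r := by
      rcases Golay24.three_fix x.2 hx with hf | hf
      · obtain ⟨k, hk, hc⟩ := Golay24.conj_triSix x.2 hx hf
        obtain ⟨k', hk', hc'⟩ := Golay24.conj_triSix y.2 hy (he ▸ hf)
        exact ⟨k, hk, _, hc, k', hk', hc'⟩
      · obtain ⟨k, hk, hc⟩ := Golay24.conj_triNone x.2 hx hf
        obtain ⟨k', hk', hc'⟩ := Golay24.conj_triNone y.2 hy (he ▸ hf)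
        exact ⟨k, hk, _, hc, k', hk', hc'⟩
    refine ⟨⟨k'⁻¹ * k, Cfsg.M24.mul_mem (Cfsg.M24.inv_mem hk') hk⟩, ?_⟩
    rw [hXz, hYz, Subgroup.pointwise_smul_def]
    refine (MonoidHom.map_zpowers _ _).trans (congrArg Subgroup.zpowers (Subtype.ext ?_))
    show k'⁻¹ * k * (x : Equiv.Perm Cfsg.GolayPt) * (k'⁻¹ * k)⁻¹ = y
    calc _ = k'⁻¹ * (k * (x : Equiv.Perm Cfsg.GolayPt) * k⁻¹) * k' := by group
      _ = (y : Equiv.Perm Cfsg.GolayPt) := by rw [hkr, ← hkr']; group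

end Cfsg.Agent.S5601
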