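import Cfsg.Statements.S5608
import Cfsg.Agent.Lib.Golay.SixSets
-- import your own Cfsg.Agent.* helpers here

set_option autoImplicit false
open scoped Pointwise
open Cfsg

namespace Cfsg.Agent.S5608

/-- If an element of order 3 and an involution of the group of the length-24 code commute, then either the element of order 3 has exactly 6 fixed points and the involution exactly 8, or both are fixed-point-free. -/
theorem result (x s : Equiv.Perm Cfsg.GolayPt) (hx : x ∈ Cfsg.M24) (hs : s ∈ Cfsg.M24) (h₃ : orderOf x = 3) (h₂ : orderOf s = 2) (hc : Commute x s) : ((Finset.univ.filter fun p => x p = p).card = 6 ∧ (Finset.univ.filter fun p => s p = p).card = 8) ∨ ((Finset.univ.filter fun p => x p = p).card = 0 ∧ (Finset.univ.filter fun p => s p = p).card = 0) := by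
  classical
  have hcx : ∀ p, x (s p) = s (x p) := fun p => congrArg (fun e : Equiv.Perm Cfsg.GolayPt => e p) hc
  rcases Golay24.three_fix hx h₃ with h6 | h0
  · refine Or.inl ⟨h6, ?_⟩
    rcases Golay24.involution_fix hs h₂ with h8 | h0'
    · exact h8
    exfalso
    rw [Golay24.fixCount_eq_zero_iff] at h0'
    set F := Finset.univ.filter fun p => x p = p with hF
    have hF6 : F.card = 6 := h6
    have hmap : ∀ p ∈ F, s p ∈ F := fun p hp => Finset.mem_filter.2
      ⟨Finset.mem_univ _, by rw [hcx, (Finset.mem_filter.1 hp).2]⟩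
    have hss : ∀ p, s (s p) = p := fun p => by
      have h2 := pow_orderOf_eq_one s
      rw [h₂, pow_two] at h2
      exact congrArg (fun e : Equiv.Perm Cfsg.GolayPt => e p) h2
    obtain ⟨a, ha⟩ := Finset.card_pos.1 (show 0 < F.card by omega)
    obtain ⟨b, hb⟩ := Finset.card_pos.1 (show 0 < (F \ {a, s a}).card by
      have := Finset.le_card_sdiff {a, s a} F
      have := Finset.card_le_two (a := a) (b := s a)
      omega)
    obtain ⟨c, hcm⟩ := Finset.card_pos.1 (show 0 < (F \ {a, s a, b, s b}).card by
      have := Finset.le_card_sdiff {a, s a, b, s b} F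
      have := Finset.card_le_four (a := a) (b := s a) (c := b) (d := s b)
      omega)
    simp only [Finset.mem_sdiff, Finset.mem_insert, Finset.mem_singleton, not_or] at hb hcm
    obtain ⟨hbF, hba, hbsa⟩ := hb
    obtain ⟨hcF, hca, hcsa, hcb, hcsb⟩ := hcm
    have hflip : ∀ p q, p ≠ s q → s p ≠ q := fun p q h e => h (by rw [← e, hss])
    have hne : ∀ p q, p ≠ q → s p ≠ s q := fun p q h e => h (s.injective e)
    let v : Fin 6 → Cfsg.GolayPt := ![a, s a, b, s b, c, s c]
    have hv : Function.Injective v := by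
      rw [← List.nodup_ofFn]
      simp [v, (h0' a).symm, (h0' b).symm, (h0' c).symm, Ne.symm hba, Ne.symm hbsa, Ne.symm hca,
        Ne.symm hcsa, Ne.symm hcb, Ne.symm hcsb, (hflip b a hbsa).symm, (hflip c a hcsa).symm,
        (hflip c b hcsb).symm, (hne b a hba).symm, (hne c a hca).symm, (hne c b hcb).symm]
    have hvF : ∀ i, v i ∈ F := by
      intro i; fin_cases i <;> simp [v] <;> first | assumption | exact hmap _ (by assumption)
    have hxfix : x ∈ Golay24.sixFixer v := ⟨hx, fun i => (Finset.mem_filter.1 (hvF i)).2⟩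
    have hx1 : x ≠ 1 := fun e => by rw [e, orderOf_one] at h₃; omega
    have hout : ¬Golay24.InOctad ⟨v, hv⟩ := by
      intro hin
      have h16 := (Golay24.ncard_sixFixer ⟨v, hv⟩).1 hin
      let K : Subgroup (Equiv.Perm Cfsg.GolayPt) :=
        Cfsg.M24 ⊓ fixingSubgroup (Equiv.Perm Cfsg.GolayPt) (Set.range v)
      have hK : (K : Set (Equiv.Perm Cfsg.GolayPt)) = Golay24.sixFixer v := by
        ext g
        simp [K, Golay24.sixFixer, mem_fixingSubgroup_iff]
      have hmem : x ∈ K := by rw [← SetLike.mem_coe, hK]; exact hxfix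
      have hdvd := orderOf_dvd_natCard (⟨x, hmem⟩ : K)
      rw [Subgroup.orderOf_mk, h₃, ← SetLike.coe_sort_coe, hK, Nat.card_coe_set_eq] at hdvd
      change 3 ∣ (Golay24.sixFixer (⟨v, hv⟩ : Fin 6 ↪ Cfsg.GolayPt)).ncard at hdvd
      rw [h16] at hdvd
      omega
    refine Golay24.commute_not_three_swap hout hxfix hx1 hs (fun i => ?_) hc
    fin_cases i <;> simp [v, hss]
  · refine Or.inr ⟨h0, ?_⟩
    rcases Golay24.involution_fix hs h₂ with h8 | h0'
    · exfalso
      rw [Golay24.fixCount_eq_zero_iff] at h0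
      set O := Finset.univ.filter fun p => s p = p with hO
      have hO8 : O.card = 8 := h8
      have hxm : ∀ p ∈ O, x p ∈ O := fun p hp => Finset.mem_filter.2
        ⟨Finset.mem_univ _, by rw [← hcx, (Finset.mem_filter.1 hp).2]⟩
      have hxx : ∀ p, x (x (x p)) = p := fun p => by
        have h3 := pow_orderOf_eq_one x
        rw [h₃, pow_succ, pow_succ, pow_one] at h3
        exact congrArg (fun e : Equiv.Perm Cfsg.GolayPt => e p) h3
      let y : Equiv.Perm ↥O := ⟨fun p => ⟨x p, hxm p p.2⟩, fun p => ⟨x (x p), hxm _ (hxm p p.2)⟩,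
        fun p => Subtype.ext (hxx p), fun p => Subtype.ext (hxx p)⟩
      have hy : y ^ 3 ^ 1 = 1 := Equiv.ext fun p => Subtype.ext (hxx p)
      haveI : Fact (Nat.Prime 3) := ⟨Nat.prime_three⟩
      obtain ⟨p, hp⟩ := Equiv.Perm.exists_fixed_point_of_prime (p := 3) (σ := y)
        (by rw [Fintype.card_coe, hO8]; norm_num) hy
      exact h0 p (congrArg Subtype.val hp)
    · exact h0'

end Cfsg.Agent.S5608
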