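import Cfsg.Statements.S5623
import Cfsg.Agent.Lib.Steiner.SelfDual24
-- import your own Cfsg.Agent.* helpers here

set_option autoImplicit false
open Cfsg

namespace Cfsg.Agent.S5623

/-- Let C be a self-dual binary code of length 24 with minimum weight at least 8 (a 12-dimensional subspace of the 24-dimensional space over the field with two elements, any two of whose words have dot product zero, with no non-zero word of weight below 8 — an abstract extended binary Golay code). Then every coset w + C of C in the ambient space contains either exactly one word of weight at most 4, which then has weight at most 3, or exactly six words of weight at most 4, all of weight exactly 4 and with pairwise disjoint supports (a sextet). -/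
theorem result (C : Submodule (ZMod 2) (Fin 24 → ZMod 2)) (hdim : Module.finrank (ZMod 2) C = 12) (horth : ∀ v ∈ C, ∀ w ∈ C, ∑ i, v i * w i = 0) (hmin : ∀ w ∈ C, w ≠ 0 → 8 ≤ hammingNorm w) (w : Fin 24 → ZMod 2) : (∃ u : Fin 24 → ZMod 2, {u : Fin 24 → ZMod 2 | u - w ∈ C ∧ hammingNorm u ≤ 4} = {u} ∧ hammingNorm u ≤ 3) ∨ ({u : Fin 24 → ZMod 2 | u - w ∈ C ∧ hammingNorm u ≤ 4}.ncard = 6 ∧ ∀ u ∈ {u : Fin 24 → ZMod 2 | u - w ∈ C ∧ hammingNorm u ≤ 4}, hammingNorm u = 4 ∧ ∀ u' ∈ {u : Fin 24 → ZMod 2 | u - w ∈ C ∧ hammingNorm u ≤ 4}, u ≠ u' → Disjoint (Finset.univ.filter fun i => u i ≠ 0) (Finset.univ.filter fun i => u' i ≠ 0)) := by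
  classical
  obtain ⟨e, he⟩ := Steiner.exists_golay_relabel (Fintype.card_fin 24) C hdim hmin
  let T : (Fin 24 → ZMod 2) → (Cfsg.GolayPt → ZMod 2) := fun u p => u (e.symm p)
  have hTn : ∀ u, hammingNorm (T u) = hammingNorm u := Steiner.hammingNorm_relabel e
  have hTi : Function.Injective T := fun u v h => funext fun i => by
    simpa [T] using congrFun h (e i)
  have hTs : ∀ u : Fin 24 → ZMod 2,
      (Finset.univ.filter fun i => u i ≠ 0).image e = Cfsg.support₂ (T u) := by
    intro u
    ext x
    simp only [Finset.mem_image, Finset.mem_filter, Finset.mem_univ, true_and, Cfsg.support₂, T]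
    exact ⟨fun ⟨a, ha, hax⟩ => by simpa [← hax] using ha, fun h => ⟨_, h, by simp⟩⟩
  have hdiff : ∀ u v : Fin 24 → ZMod 2, u - w ∈ C → v - w ∈ C → T v - T u ∈ Cfsg.golayCode :=
    fun u v hu hv => (he (v - u)).1 (by simpa using C.sub_mem hv hu)
  have hshort : ∀ u v : Fin 24 → ZMod 2, u - w ∈ C → v - w ∈ C → hammingNorm u ≤ 4 →
      hammingNorm v ≤ 4 → u = v ∨ (hammingNorm u = 4 ∧ hammingNorm v = 4 ∧
        Disjoint (Cfsg.support₂ (T u)) (Cfsg.support₂ (T v)) ∧
          Cfsg.support₂ (T u) ∪ Cfsg.support₂ (T v) ∈ Cfsg.octads) := by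
    intro u v hu hv hu4 hv4
    rcases Golay24.short_words (v := T u) (u := T v) (by rw [hTn]; exact hu4)
      (by rw [hTn]; exact hv4) (hdiff u v hu hv) with h | ⟨a, b, c, d⟩
    · exact Or.inl (hTi h).symm
    · exact Or.inr ⟨by rwa [hTn] at a, by rwa [hTn] at b, c, d⟩
  obtain ⟨v', hv', hn'⟩ := Golay24.exists_leader (T w)
  set v : Fin 24 → ZMod 2 := fun i => v' (e i) with hv
  have hTv : T v = v' := funext fun p => by simp [T, hv]
  have hvC : v - w ∈ C := by
    rw [← neg_sub]
    refine C.neg_mem ((he _).2 ?_)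
    show T (w - v) ∈ Cfsg.golayCode
    rw [show T (w - v) = T w - T v from rfl, hTv]
    exact hv'
  have hvn : hammingNorm v ≤ 4 := by rw [← hTn, hTv]; omega
  by_cases h3 : hammingNorm v ≤ 3
  · refine Or.inl ⟨v, Set.eq_singleton_iff_unique_mem.2 ⟨⟨hvC, hvn⟩, fun u hu => ?_⟩, h3⟩
    rcases hshort v u hvC hu.1 hvn hu.2 with h | h
    · exact h.symm
    · omega
  have hv4 : hammingNorm v = 4 := by omega
  have hall : ∀ u, u - w ∈ C → hammingNorm u ≤ 4 → hammingNorm u = 4 := by
    intro u hu hu4
    rcases hshort v u hvC hu hvn hu4 with h | h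
    · rw [← h]; exact hv4
    · exact h.2.1
  refine Or.inr ⟨?_, fun u hu => ⟨hall u hu.1 hu.2, fun u' hu' hne => ?_⟩⟩
  · set A := Cfsg.support₂ (T v) with hA
    have hA4 : A.card = 4 := by rw [← Golay24.hammingNorm_eq_card, hTn]; exact hv4
    have hsplit : {u : Fin 24 → ZMod 2 | u - w ∈ C ∧ hammingNorm u ≤ 4} =
        insert v ({u | u - w ∈ C ∧ hammingNorm u ≤ 4} \ {v}) := by
      rw [Set.insert_sdiff_singleton, Set.insert_eq_of_mem]
      exact ⟨hvC, hvn⟩
    rw [hsplit, Set.ncard_insert_of_notMem (by simp) (Set.toFinite _)]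
    have h5 : ({u : Fin 24 → ZMod 2 | u - w ∈ C ∧ hammingNorm u ≤ 4} \ {v}).ncard =
        {o | o ∈ Cfsg.octads ∧ A ⊆ o}.ncard := by
      refine Set.ncard_congr (fun u _ => A ∪ Cfsg.support₂ (T u)) ?_ ?_ ?_
      · rintro u ⟨⟨hu, hu4⟩, hne⟩
        rcases hshort v u hvC hu hvn hu4 with h | h
        · exact absurd h.symm hne
        · exact ⟨h.2.2.2, Finset.subset_union_left⟩
      · rintro u u' ⟨⟨hu, hu4⟩, hne⟩ ⟨⟨hu', hu4'⟩, hne'⟩ h
        rcases hshort v u hvC hu hvn hu4 with g | ⟨-, -, hd, -⟩
        · exact absurd g.symm hne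
        rcases hshort v u' hvC hu' hvn hu4' with g | ⟨-, -, hd', -⟩
        · exact absurd g.symm hne'
        have h := congrArg (fun s => s \ A) h
        have e1 : Cfsg.support₂ (T u) \ A = Cfsg.support₂ (T u) :=
          Finset.sdiff_eq_self_iff_disjoint.2 hd.symm
        have e2 : Cfsg.support₂ (T u') \ A = Cfsg.support₂ (T u') :=
          Finset.sdiff_eq_self_iff_disjoint.2 hd'.symm
        simp only [Finset.union_sdiff_left] at h
        rw [e1, e2] at h
        exact hTi (Golay24.support₂_injective h)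
      · rintro o ⟨⟨⟨c, hc, hcs⟩, ho8⟩, hAo⟩
        let u : Fin 24 → ZMod 2 := v + fun i => c (e i)
        have hTu : T u = T v + c := funext fun p => by simp [T, u]
        have hsu : Cfsg.support₂ (T u) = o \ A := by
          rw [hTu, ← hcs]
          ext x
          have hx : x ∈ A → x ∈ Cfsg.support₂ c := fun h => hcs.symm ▸ hAo h
          simp only [hA, Cfsg.support₂, Finset.mem_filter, Finset.mem_univ, true_and] at hx
          simp only [hA, Cfsg.support₂, Finset.mem_sdiff, Finset.mem_filter, Finset.mem_univ,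
            true_and, Pi.add_apply]
          rcases Golay24.zmod2_cases (T v x) with h1 | h1 <;>
            rcases Golay24.zmod2_cases (c x) with h2 | h2 <;> simp [h1, h2] at hx ⊢ <;> decide
        have hu4 : hammingNorm u = 4 := by
          rw [← hTn, Golay24.hammingNorm_eq_card, hsu, Finset.card_sdiff_of_subset hAo, ho8, hA4]
        have huC : u - w ∈ C := by
          have : u - w = (v - w) + fun i => c (e i) := by simp [u]; abel
          rw [this]
          exact C.add_mem hvC ((he _).2 (by simpa using hc))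
        refine ⟨u, ⟨⟨huC, hu4.le⟩, fun h => ?_⟩, ?_⟩
        · have h' : Cfsg.support₂ (T u) = A := by rw [hA, show u = v from h]
          rw [hsu] at h'
          have : A = ∅ := by
            ext x
            constructor
            · intro hx
              have := h'.symm ▸ hx
              exact absurd hx (Finset.mem_sdiff.1 this).2
            · simp
          simp [this] at hA4
        · show A ∪ Cfsg.support₂ (T u) = o
          rw [hsu, Finset.union_sdiff_of_subset hAo]
    rw [h5, Golay24.five_octads A hA4]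
  · rcases hshort u u' hu.1 hu'.1 hu.2 hu'.2 with h | ⟨-, -, h, -⟩
    · exact absurd h hne
    · rw [← Finset.disjoint_image e.injective, hTs, hTs]
      exact h

end Cfsg.Agent.S5623
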