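import Cfsg.Statements.S5624
import Cfsg.Agent.Lib.Steiner.SelfDual24
-- import your own Cfsg.Agent.* helpers here

set_option autoImplicit false
open Cfsg

namespace Cfsg.Agent.S5624

/-- Let C be a self-dual binary code of length 24 with minimum weight at least 8 (a 12-dimensional subspace of the 24-dimensional space over the field with two elements, any two of whose words have dot product zero, with no non-zero word of weight below 8 — an abstract extended binary Golay code). Then C is spanned, as a vector space over the field with two elements, by its words of weight 8. -/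
theorem result (C : Submodule (ZMod 2) (Fin 24 → ZMod 2)) (hdim : Module.finrank (ZMod 2) C = 12) (horth : ∀ v ∈ C, ∀ w ∈ C, ∑ i, v i * w i = 0) (hmin : ∀ w ∈ C, w ≠ 0 → 8 ≤ hammingNorm w) : Submodule.span (ZMod 2) {w : Fin 24 → ZMod 2 | w ∈ C ∧ hammingNorm w = 8} = C := by
  classical
  obtain ⟨e, he⟩ := Steiner.exists_golay_relabel (Fintype.card_fin 24) C hdim hmin
  refine le_antisymm (Submodule.span_le.2 fun w hw => hw.1) fun w hw => ?_
  have key : ∀ v ∈ Cfsg.golayCode, (fun i => v (e i)) ∈
      Submodule.span (ZMod 2) {w : Fin 24 → ZMod 2 | w ∈ C ∧ hammingNorm w = 8} := by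
    intro v hv
    rw [Golay24.golayCode_eq_span] at hv
    refine Submodule.span_induction ?_ ?_ ?_ ?_ hv
    · rintro _ ⟨i, rfl⟩
      refine Submodule.subset_span ⟨(he _).2 ?_, ?_⟩
      · simpa using Golay24.basisWord_mem i
      · have hcard : hammingNorm (Golay24.basisWord i) = 8 := by
          revert i
          decide +kernel
        rw [← Steiner.hammingNorm_relabel e]
        simpa using hcard
    · exact Submodule.zero_mem _
    · exact fun a b _ _ ha hb => Submodule.add_mem _ ha hb
    · exact fun t a _ ha => Submodule.smul_mem _ t ha
  simpa using key _ ((he w).1 hw)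

end Cfsg.Agent.S5624
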