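import Cfsg.Statements.S5625
import Cfsg.Agent.Lib.Steiner.Counting
-- import your own Cfsg.Agent.* helpers here

set_option autoImplicit false
open Cfsg

namespace Cfsg.Agent.S5625

open Finset in
theorem moment {α : Type*} [Fintype α] [DecidableEq α] {B : Set (Finset α)} (hB : Cfsg.IsSteinerSystem 5 8 B)
    (hα : Fintype.card α = 24) (Y : Finset α) (hY : Y.card = 3) (j l : ℕ) (hj : j ≤ 3)
    (hpos : 0 < (8 - j).choose (5 - j)) (hl : l * (8 - j).choose (5 - j) = (24 - j).choose (5 - j)) :
    ∑ b ∈ Steiner.blocks B, (b ∩ Y).card.choose j = Nat.choose 3 j * l := by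
  have h1 : ∀ b : Finset α, (b ∩ Y).card.choose j = ∑ s ∈ Y.powersetCard j, if s ⊆ b then 1 else 0 := by
    intro b
    rw [← Finset.card_powersetCard, ← Finset.card_filter]
    congr 1
    ext s
    simp only [mem_powersetCard, mem_filter, subset_inter_iff]
    tauto
  simp only [h1]
  rw [Finset.sum_comm, Finset.sum_congr rfl fun s hs => show _ = l from ?_, Finset.sum_const, Finset.card_powersetCard,
    hY, smul_eq_mul]
  rw [← Finset.card_filter]
  rw [mem_powersetCard] at hs
  exact Steiner.card_through hB hα j l hs.2 (by omega) hpos hl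

/-- In any Steiner system S(5, 8, 24) and for any set Y of three points, the blocks meeting Y in exactly 3, 2, 1 and 0 points number 21, 168, 360 and 210 respectively (so there are 759 blocks in all). -/
theorem result (α : Type*) [Fintype α] [DecidableEq α] (hα : Fintype.card α = 24) (B : Set (Finset α)) (hB : Cfsg.IsSteinerSystem 5 8 B) (Y : Finset α) (hY : Y.card = 3) : {b : Finset α | b ∈ B ∧ (b ∩ Y).card = 3}.ncard = 21 ∧ {b : Finset α | b ∈ B ∧ (b ∩ Y).card = 2}.ncard = 168 ∧ {b : Finset α | b ∈ B ∧ (b ∩ Y).card = 1}.ncard = 360 ∧ {b : Finset α | b ∈ B ∧ (b ∩ Y).card = 0}.ncard = 210 := by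
  classical
  have hsum : ∀ j : ℕ, ∑ b ∈ Steiner.blocks B, (b ∩ Y).card.choose j =
      ∑ i ∈ Finset.range 4, ((Steiner.blocks B).filter fun b => (b ∩ Y).card = i).card * i.choose j := by
    intro j
    rw [← Finset.sum_fiberwise_of_maps_to (g := fun b => (b ∩ Y).card) (t := Finset.range 4) (fun b _ => Finset.mem_range.2 (by
      have := Finset.card_le_card (Finset.inter_subset_right (s₁ := b) (s₂ := Y))
      omega))]
    refine Finset.sum_congr rfl fun i _ => ?_
    rw [Finset.sum_congr rfl fun b hb => by rw [(Finset.mem_filter.1 hb).2], Finset.sum_const, smul_eq_mul]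
  have e0 := (hsum 0).symm.trans (moment hB hα Y hY 0 759 (by norm_num) (by decide) (by decide))
  have e1 := (hsum 1).symm.trans (moment hB hα Y hY 1 253 (by norm_num) (by decide) (by decide))
  have e2 := (hsum 2).symm.trans (moment hB hα Y hY 2 77 (by norm_num) (by decide) (by decide))
  have e3 := (hsum 3).symm.trans (moment hB hα Y hY 3 21 (by norm_num) (by decide) (by decide))
  simp only [Finset.sum_range_succ, Finset.sum_range_zero] at e0 e1 e2 e3
  norm_num [Nat.choose] at e0 e1 e2 e3
  simp only [Steiner.ncard_filter_eq (fun b => (b ∩ Y).card = _)]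
  simp only [Finset.card_eq_zero]
  omega

end Cfsg.Agent.S5625
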