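import Cfsg.Agent.Lib.TransvMax.Frame
-- import your own Cfsg.Agent.* helpers here

set_option autoImplicit false
open Cfsg

namespace Cfsg.Agent.S5635

open Cfsg.Agent Matrix

variable {F : Type*} [Field F] [Fintype F]

/-- The number of non-zero members, reduced modulo the characteristic. -/
noncomputable def ind {m : ℕ} (a : Fin m → F) : F := by
  classical exact if a = 0 then 0 else 1

theorem ind_one (a : Fin 1 → F) : ind a = a 0 ^ (Fintype.card F - 1) := by
  rw [ind]
  split_ifs with h
  · have hq := Fintype.one_lt_card (α := F)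
    simp only [h, Pi.zero_apply]
    rw [zero_pow (by omega)]
  · rw [FiniteField.pow_card_sub_one_eq_one _ (fun h0 => h (funext fun i => by
      rw [Subsingleton.elim i 0]; exact h0))]

theorem ind_two (h2 : Fintype.card F = 2) (a : Fin 2 → F) :
    ind a = a 0 ^ 2 + a 0 * a 1 + a 1 ^ 2 := by
  have h01 : ∀ u : F, u = 0 ∨ u = 1 := fun u => by
    by_cases hu : u = 0
    · exact Or.inl hu
    · right
      have := FiniteField.pow_card_sub_one_eq_one u hu
      rwa [h2, pow_one] at this
  have hc : (2 : F) = 0 := by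
    have := FiniteField.cast_card_eq_zero F
    rw [h2] at this
    exact_mod_cast this
  rw [ind]
  split_ifs with h
  · simp [h]
  · rcases h01 (a 0) with e0 | e0 <;> rcases h01 (a 1) with e1 | e1 <;> rw [e0, e1]
    · exact absurd (funext fun i => by fin_cases i <;> assumption) h
    · ring
    · ring
    · linear_combination (-1 : F) * hc

theorem sum_update {t : ℕ} (S : Finset (Fin t)) (u v : Fin t → F) (hout : ∀ i, i ∉ S → u i = v i)
    (hin : ∑ i ∈ S, u i = ∑ i ∈ S, v i) : ∑ i, u i = ∑ i, v i := by
  rw [← Finset.sum_add_sum_compl S u, ← Finset.sum_add_sum_compl S v, hin]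
  congr 1
  exact Finset.sum_congr rfl fun i hi => hout i (Finset.mem_compl.mp hi)

/-- For a finite field F with q elements and n ≥ 13, let D be a decomposition of F^n into t ≥ 2 independent subspaces of equal dimension m spanning F^n, where m = 1 and q ≤ 4, or m = 2 and q = 2. Then the elements of SL_n(F) permuting the members of D form a subgroup that is not maximal: some subgroup lies strictly between it and SL_n(F). -/
theorem result {F : Type*} [Field F] [Fintype F] (n : ℕ) (hn : 13 ≤ n) {t : ℕ} (m : ℕ) (D : Fin t → Submodule F (Fin n → F)) (hD : Cfsg.Geo.IsMDecomposition m D) (h : (m = 1 ∧ Fintype.card F ≤ 4) ∨ (m = 2 ∧ Fintype.card F = 2)) : ∃ K : Subgroup (Matrix.GeneralLinearGroup (Fin n) F), Cfsg.Geo.decompositionStabilizer D ⊓ Cfsg.Geo.specialLinear (Fin n) F < K ∧ K < Cfsg.Geo.specialLinear (Fin n) F := by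
  classical
  obtain ⟨c, hc⟩ := FrameLib.exists_coords hD
  have hm12 : m = 1 ∨ m = 2 := h.elim (fun h => Or.inl h.1) (fun h => Or.inr h.1)
  have ht : t * m = n := by
    have := c.finrank_eq
    simp [Module.finrank_pi_fintype] at this
    exact this.symm
  have ht5 : 5 ≤ t := by rcases hm12 with rfl | rfl <;> omega
  have hm0 : 0 < m := hD.pos
  set N : (Fin n → F) → F := fun x => ∑ i, ind (c x i)
  set a₀ : Fin m := ⟨0, hm0⟩
  let p : Fin 5 → Fin t := fun k => ⟨k.val, by omega⟩
  have hp : Function.Injective p := fun a b e => Fin.ext (by simpa [p] using congrArg Fin.val e)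
  let E : Fin t → Fin m → (Fin n → F) := fun i a => c.symm (Pi.single i (Pi.single a 1))
  have hE : ∀ i a, c (E i a) = Pi.single i (Pi.single a 1) := fun i a => c.apply_symm_apply _
  let P : Fin t → Fin m → ((Fin n → F) →ₗ[F] F) := fun i a =>
    ((LinearMap.proj a).comp (LinearMap.proj i)).comp c.toLinearMap
  have hP : ∀ i a x, P i a x = c x i a := fun i a x => rfl
  refine ⟨FrameLib.presGroup N ⊓ Cfsg.Geo.specialLinear (Fin n) F,
    lt_of_le_of_ne (fun g hg => ⟨?_, hg.2⟩) ?_, lt_of_le_of_ne inf_le_right ?_⟩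
  · obtain ⟨σ, hσ⟩ := FrameLib.stab_comp hc hg.1
    intro x
    show ∑ i, ind (c _ i) = ∑ i, ind (c x i)
    rw [← Equiv.sum_comp σ]
    refine Finset.sum_congr rfl fun i _ => ?_
    simp only [ind, hσ]
  · intro hK
    suffices key : ∃ g, g ∈ FrameLib.presGroup N ⊓ Cfsg.Geo.specialLinear (Fin n) F ∧ ∃ x j₁ j₂ i,
        j₁ ≠ j₂ ∧ (∀ l, l ≠ i → c x l = 0) ∧ c ((g : Matrix (Fin n) (Fin n) F) *ᵥ x) j₁ ≠ 0 ∧
        c ((g : Matrix (Fin n) (Fin n) F) *ᵥ x) j₂ ≠ 0 by
      obtain ⟨g, hg, x, j₁, j₂, i, hne, hx, h1, h2⟩ := key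
      rw [← hK] at hg
      obtain ⟨σ, hσ⟩ := FrameLib.stab_comp hc hg.1
      have e1 : j₁ = σ i := by
        by_contra e
        exact h1 (by
          have := (hσ x (σ.symm j₁)).2 (hx _ (fun e' => e (by rw [← e', Equiv.apply_symm_apply])))
          rwa [Equiv.apply_symm_apply] at this)
      have e2 : j₂ = σ i := by
        by_contra e
        exact h2 (by
          have := (hσ x (σ.symm j₂)).2 (hx _ (fun e' => e (by rw [← e', Equiv.apply_symm_apply])))
          rwa [Equiv.apply_symm_apply] at this)
      exact hne (e1.trans e2.symm)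
    rcases h with ⟨rfl, hq⟩ | ⟨rfl, hq⟩
    · -- one dimensional members
      set S : Finset (Fin t) := {p 0, p 1, p 2, p 3}
      have hS4 : S.card = 4 := by simp [S, hp.eq_iff]
      set v : Fin n → F := ∑ i ∈ S, E i a₀
      set φ : (Fin n → F) →ₗ[F] F := ∑ i ∈ S, P i a₀
      have hcv : ∀ l, c v l = if l ∈ S then 1 else 0 := fun l => by
        simp only [v, map_sum, hE, Finset.sum_apply, Finset.sum_pi_single]
        split_ifs
        · funext a; simp [Subsingleton.elim a a₀]
        · rfl
      have hφv : φ v = 4 := by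
        simp only [φ, LinearMap.sum_apply, hP, hcv]
        rw [Finset.sum_congr rfl (fun i hi => by rw [if_pos hi]; rfl : ∀ i ∈ S, _ = (1 : F)),
          Finset.sum_const, hS4]
        simp
      have hq' : Fintype.card F = 2 ∨ Fintype.card F = 3 ∨ Fintype.card F = 4 := by
        have := Fintype.one_lt_card (α := F); omega
      have hcast := FiniteField.cast_card_eq_zero F
      obtain ⟨ε, hε, hdet, hid⟩ : ∃ ε : F, ε ^ (Fintype.card F - 1) = 1 ∧ (1 + 4) * ε = 1 ∧
          ∀ a b c' d : F, (a + (a + b + c' + d)) ^ (Fintype.card F - 1) + (b + (a + b + c' + d)) ^ (Fintype.card F - 1)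
            + (c' + (a + b + c' + d)) ^ (Fintype.card F - 1) + (d + (a + b + c' + d)) ^ (Fintype.card F - 1)
            = a ^ (Fintype.card F - 1) + b ^ (Fintype.card F - 1) + c' ^ (Fintype.card F - 1) + d ^ (Fintype.card F - 1) := by
        rcases hq' with e | e | e <;> rw [e] at hcast ⊢ <;> push_cast at hcast
        · exact ⟨1, one_pow _, by linear_combination 2 * hcast, fun a b c' d => by
            linear_combination (2 * (a + b + c' + d)) * hcast⟩
        · exact ⟨-1, by norm_num, by linear_combination (-2 : F) * hcast, fun a b c' d => by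
            linear_combination (2 * (a + b + c' + d) ^ 2) * hcast⟩
        · have h2 : (2 : F) = 0 := by
            have : (2 : F) * 2 = 0 := by linear_combination hcast
            exact mul_self_eq_zero.mp this
          exact ⟨1, one_pow _, by linear_combination 2 * h2, fun a b c' d => by
            linear_combination (5 * (a + b + c' + d) ^ 3 -
              3 * (a + b + c' + d) * (a * b + a * c' + a * d + b * c' + b * d + c' * d)) * h2⟩
      obtain ⟨g₁, hg₁, hd₁⟩ := FrameLib.exists_rankOne φ v (by
        rw [hφv]; intro e; rw [e, zero_mul] at hdet; exact zero_ne_one hdet)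
      obtain ⟨g₂, hg₂, hd₂⟩ := FrameLib.exists_rankOne ((ε - 1) • P (p 4) a₀) (E (p 4) a₀) (by
        simp [hP, hE]; intro e; rw [e, mul_zero] at hdet; exact zero_ne_one hdet)
      have h4S : p 4 ∉ S := by simp [S, hp.eq_iff]
      have hn1 : g₁ ∈ FrameLib.presGroup N := by
        intro x
        refine sum_update S _ _ (fun l hl => ?_) ?_
        · rw [hg₁, map_add, map_smul, Pi.add_apply, Pi.smul_apply, hcv, if_neg hl, smul_zero, add_zero]
        · have hval : ∀ l ∈ S, c ((g₁ : Matrix (Fin n) (Fin n) F) *ᵥ x) l 0 = c x l 0 + φ x := by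
            intro l hl
            rw [hg₁, map_add, map_smul, Pi.add_apply, Pi.smul_apply, hcv, if_pos hl]
            simp
          rw [Finset.sum_congr rfl (fun l hl => by rw [ind_one, hval l hl] :
            ∀ l ∈ S, ind (c ((g₁ : Matrix (Fin n) (Fin n) F) *ᵥ x) l) = (c x l 0 + φ x) ^ (Fintype.card F - 1))]
          simp only [ind_one]
          simp [S, φ, hP, a₀, Finset.sum_insert, hp.eq_iff, ← add_assoc]
          have := hid (c x (p 0) 0) (c x (p 1) 0) (c x (p 2) 0) (c x (p 3) 0)
          linear_combination this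
      have hn2 : g₂ ∈ FrameLib.presGroup N := by
        intro x
        refine Finset.sum_congr rfl fun l _ => ?_
        rw [ind_one, ind_one, hg₂, map_add, map_smul, hE]
        by_cases hl : l = p 4
        · subst hl
          simp [hP, a₀]
          rw [show c x (p 4) 0 + (ε - 1) * c x (p 4) 0 = ε * c x (p 4) 0 by ring, mul_pow, hε, one_mul]
        · simp [Pi.single_eq_of_ne hl]
      refine ⟨g₂ * g₁, ⟨mul_mem hn2 hn1, ?_⟩, E (p 0) a₀, p 1, p 2, p 0, by simp [hp.eq_iff], ?_, ?_⟩
      · show g₂ * g₁ ∈ Cfsg.Geo.specialLinear (Fin n) F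
        rw [FrameLib.mem_SL_iff, Units.val_mul, Matrix.det_mul, hd₁, hd₂, hφv]
        simp [hP, hE]; linear_combination hdet
      · intro l hl; rw [hE, Pi.single_eq_of_ne hl]
      · have hv1 : φ (E (p 0) a₀) = 1 := by
          simp [φ, hP, hE, S, Finset.sum_insert, hp.eq_iff, Pi.single_apply]
        have hcS : ∀ l, l = p 1 ∨ l = p 2 →
            c (((g₂ * g₁ : GL (Fin n) F) : Matrix (Fin n) (Fin n) F) *ᵥ E (p 0) a₀) l 0 = 1 := by
          intro l hl
          have hne : l ≠ p 4 ∧ l ≠ p 0 ∧ l ∈ S := by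
            rcases hl with rfl | rfl <;> simp [S, hp.eq_iff]
          rw [Units.val_mul, ← Matrix.mulVec_mulVec, hg₂, hg₁, hv1, map_add, map_smul, hE, map_add,
            map_smul, hE]
          simp [hcv, hE, Pi.single_eq_of_ne hne.1, Pi.single_eq_of_ne hne.2.1, hne.2.2, Pi.add_apply]
        exact ⟨fun e => one_ne_zero ((hcS _ (Or.inl rfl)).symm.trans (congrFun e 0)),
          fun e => one_ne_zero ((hcS _ (Or.inr rfl)).symm.trans (congrFun e 0))⟩
    · -- two dimensional members over two elements
      have h2 : (2 : F) = 0 := by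
        have := FiniteField.cast_card_eq_zero F
        rw [hq] at this
        exact_mod_cast this
      set S : Finset (Fin t) := {p 0, p 1, p 2}
      set v : Fin n → F := ∑ i ∈ S, E i 0
      set φ : (Fin n → F) →ₗ[F] F := ∑ i ∈ S, P i 1
      have hcv : ∀ l, c v l = if l ∈ S then Pi.single 0 1 else 0 := fun l => by
        simp only [v, map_sum, hE, Finset.sum_apply, Finset.sum_pi_single]
      have hφv : φ v = 0 := by
        simp only [φ, LinearMap.sum_apply, hP, hcv]
        exact Finset.sum_eq_zero fun x hx => by rw [if_pos hx]; simp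
      obtain ⟨g, hg, hd⟩ := FrameLib.exists_rankOne φ v (by rw [hφv, add_zero]; exact one_ne_zero)
      have hn1 : g ∈ FrameLib.presGroup N := by
        intro x
        refine sum_update S _ _ (fun l hl => ?_) ?_
        · rw [hg, map_add, map_smul, Pi.add_apply, Pi.smul_apply, hcv, if_neg hl, smul_zero, add_zero]
        · have hval : ∀ l ∈ S, ind (c ((g : Matrix (Fin n) (Fin n) F) *ᵥ x) l) =
              (c x l 0 + φ x) ^ 2 + (c x l 0 + φ x) * c x l 1 + c x l 1 ^ 2 := by
            intro l hl
            rw [ind_two hq, hg, map_add, map_smul, Pi.add_apply, Pi.smul_apply, hcv, if_pos hl]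
            simp
          rw [Finset.sum_congr rfl hval]
          simp only [ind_two hq]
          simp [S, φ, hP, Finset.sum_insert, hp.eq_iff]
          linear_combination ((c x (p 0) 0 + c x (p 1) 0 + c x (p 2) 0) * (c x (p 0) 1 + c x (p 1) 1 + c x (p 2) 1)
            + 2 * (c x (p 0) 1 + c x (p 1) 1 + c x (p 2) 1) ^ 2) * h2
      refine ⟨g, ⟨hn1, ?_⟩, E (p 0) 1, p 1, p 2, p 0, by simp [hp.eq_iff], ?_, ?_⟩
      · show g ∈ Cfsg.Geo.specialLinear (Fin n) F
        rw [FrameLib.mem_SL_iff, hd, hφv, add_zero]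
      · intro l hl; rw [hE, Pi.single_eq_of_ne hl]
      · have hv1 : φ (E (p 0) 1) = 1 := by
          simp [φ, hP, hE, S, Finset.sum_insert, hp.eq_iff, Pi.single_apply]
        have hcS : ∀ l, l = p 1 ∨ l = p 2 → c ((g : Matrix (Fin n) (Fin n) F) *ᵥ E (p 0) 1) l 0 = 1 := by
          intro l hl
          have hne : l ≠ p 0 ∧ l ∈ S := by
            rcases hl with rfl | rfl <;> simp [S, hp.eq_iff]
          rw [hg, hv1, map_add, map_smul, hE]
          simp [hcv, Pi.single_eq_of_ne hne.1, hne.2]
        exact ⟨fun e => one_ne_zero ((hcS _ (Or.inl rfl)).symm.trans (congrFun e 0)),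
          fun e => one_ne_zero ((hcS _ (Or.inr rfl)).symm.trans (congrFun e 0))⟩
  · intro hK
    obtain ⟨g, hg, hd⟩ := FrameLib.exists_rankOne (P (p 0) a₀) (E (p 1) a₀) (by
      simp [hP, hE, hp.eq_iff])
    have hgS : g ∈ Cfsg.Geo.specialLinear (Fin n) F := by
      rw [FrameLib.mem_SL_iff, hd]; simp [hP, hE, hp.eq_iff]
    rw [← hK] at hgS
    have := hgS.1 (E (p 0) a₀)
    have hone : ∀ i, ind (Pi.single a₀ 1 : Fin m → F) = 1 := fun i : Unit => by
      rw [ind, if_neg]; intro e; simpa using congrFun e a₀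
    have hN : ∀ S : Finset (Fin t), ∑ i, (if i ∈ S then (1 : F) else 0) = S.card := fun S => by
      simp
    change ∑ i, ind (c _ i) = ∑ i, ind (c _ i) at this
    have e1 : ∀ i, ind (c ((g : Matrix (Fin n) (Fin n) F) *ᵥ E (p 0) a₀) i) =
        if i ∈ ({p 0, p 1} : Finset (Fin t)) then 1 else 0 := by
      intro i
      rw [hg, map_add, map_smul, hP, hE, hE, Pi.single_eq_same, Pi.single_eq_same, one_smul]
      by_cases h0 : i = p 0
      · subst h0
        rw [Pi.add_apply, Pi.single_eq_same, Pi.single_eq_of_ne (by simp [hp.eq_iff]), add_zero, hone ()]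
        simp
      · by_cases h1 : i = p 1
        · subst h1
          rw [Pi.add_apply, Pi.single_eq_same, Pi.single_eq_of_ne (by simp [hp.eq_iff]), zero_add, hone ()]
          simp
        · rw [Pi.add_apply, Pi.single_eq_of_ne h0, Pi.single_eq_of_ne h1, add_zero, ind, if_pos rfl]
          simp [h0, h1]
    have e2 : ∀ i, ind (c (E (p 0) a₀) i) = if i ∈ ({p 0} : Finset (Fin t)) then 1 else 0 := by
      intro i
      by_cases h0 : i = p 0
      · subst h0
        rw [hE, Pi.single_eq_same, hone ()]
        simp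
      · rw [hE, Pi.single_eq_of_ne h0, ind, if_pos rfl]
        simp [h0]
    rw [Finset.sum_congr rfl (fun i _ => e1 i), Finset.sum_congr rfl (fun i _ => e2 i), hN, hN] at this
    simp [hp.eq_iff] at this
    exact one_ne_zero (by linear_combination this : (1 : F) = 0)

end Cfsg.Agent.S5635
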