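import Cfsg.Agent.Lib.TransvMax.TensorTwo
-- import your own Cfsg.Agent.* helpers here

set_option autoImplicit false
open Cfsg

namespace Cfsg.Agent.S5638

open Cfsg.Agent
open scoped Matrix

/-- Over the field with 2 elements, for n = 2 n₂ ≥ 13, the stabiliser in SL_n of a tensor decomposition with factors of dimensions 2 and n₂ (the conjugate by any P of the Kronecker-product subgroup transported along any bijection Fin n ≃ Fin 2 × Fin n₂, intersected with SL_n) is not a maximal subgroup: some subgroup lies strictly between it and SL_n. -/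
theorem result {F : Type*} [Field F] [Fintype F] (n : ℕ) (hn : 13 ≤ n) (hq : Fintype.card F = 2) (n₂ : ℕ) (e : Fin n ≃ Fin 2 × Fin n₂) (P : Matrix.GeneralLinearGroup (Fin n) F) : ∃ K : Subgroup (Matrix.GeneralLinearGroup (Fin n) F), Cfsg.Geo.tensorProductSubgroup 2 n₂ e P ⊓ Cfsg.Geo.specialLinear (Fin n) F < K ∧ K < Cfsg.Geo.specialLinear (Fin n) F := by
  classical
  have h20 := TensorSmall.two_eq_zero hq
  obtain ⟨J, hJ, hJi, hle⟩ := TensorSmall.exists_order_three e P hq
  have hn₂ : 2 ≤ n₂ := by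
    have := Fintype.card_congr e
    simp at this
    omega
  set j : Fin n₂ := ⟨0, by omega⟩
  set k : Fin n₂ := ⟨1, by omega⟩
  have hjk : j ≠ k := by simp [j, k]
  have hsl : ∀ g : Matrix.GeneralLinearGroup (Fin n) F, g ∈ Cfsg.Geo.specialLinear (Fin n) F := by
    intro g
    rw [Cfsg.Geo.specialLinear, MonoidHom.mem_ker]
    refine Units.ext ?_
    rcases TensorSmall.two_cases hq (Matrix.GeneralLinearGroup.det g : F) with h | h
    · exact absurd h (Units.ne_zero _)
    · exact h
  let N : Matrix (Fin n₂) (Fin n₂) F := Matrix.vecMulVec (Pi.single j 1) (Pi.single k 1)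
  have hd : (Pi.single k 1 : Fin n₂ → F) ⬝ᵥ Pi.single j 1 = 0 := by simp [hjk.symm]
  obtain ⟨B, -, hB⟩ := TensorSmall.exists_tensor_elt e P 1 (TransvMax.trv (Pi.single j 1) (Pi.single k 1) hd)
  let M : Matrix (Fin n) (Fin n) F := (J : Matrix (Fin n) (Fin n) F) * ((B : Matrix (Fin n) (Fin n) F) - 1)
  have hM : ∀ p q, M *ᵥ TensorSmall.pairVec e P p q =
      TensorSmall.pairVec e P (q k • Pi.single j 1) ((p k + q k) • Pi.single j 1) := by
    intro p q
    rw [← Matrix.mulVec_mulVec, Matrix.sub_mulVec, Matrix.one_mulVec]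
    have h1 : ((B : Matrix (Fin n) (Fin n) F) *ᵥ TensorSmall.pairVec e P p q) =
        TensorSmall.pairVec e P p q +
          TensorSmall.pairVec e P (p k • Pi.single j 1) (q k • Pi.single j 1) := by
      rw [TensorSmall.pairVec, Matrix.mulVec_add, hB, hB]
      simp only [Units.val_one, Matrix.one_mulVec, TransvMax.trv_mulVec, single_dotProduct, one_mul]
      simp only [TensorSmall.pairVec, TensorSmall.tp_add_right]
      abel
    rw [h1, add_sub_cancel_left, hJ, add_smul]
  have hM2 : M * M = 0 := by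
    refine Matrix.ext_iff_mulVec.2 fun v => ?_
    obtain ⟨p, q, rfl⟩ := TensorSmall.exists_pairVec e P v
    rw [← Matrix.mulVec_mulVec, hM, hM, Matrix.zero_mulVec]
    simp [hjk.symm, TensorSmall.pairVec, TensorSmall.tp_zero_right]
  let T : Matrix.GeneralLinearGroup (Fin n) F := ⟨1 + M, 1 - M,
    by rw [add_mul, mul_sub, mul_sub, hM2]; simp, by rw [sub_mul, mul_add, mul_add, hM2]; simp⟩
  have hT : ∀ p q, (T : Matrix (Fin n) (Fin n) F) *ᵥ TensorSmall.pairVec e P p q =
      TensorSmall.pairVec e P (p + q k • Pi.single j 1) (q + (p k + q k) • Pi.single j 1) := by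
    intro p q
    show (1 + M) *ᵥ _ = _
    rw [Matrix.add_mulVec, Matrix.one_mulVec, hM, TensorSmall.pairVec_add]
  let i0 : Fin n := e.symm (0, k)
  let φ : Fin n → F := fun l => ((P⁻¹ : Matrix.GeneralLinearGroup (Fin n) F) : Matrix (Fin n) (Fin n) F) i0 l
  have hφ : ∀ p q, φ ⬝ᵥ TensorSmall.pairVec e P p q = p k :=
    fun p q => (TensorSmall.pairVec_apply e P p q k).1
  have hdot : φ ⬝ᵥ TensorSmall.pairVec e P (Pi.single j 1) 0 = 0 := by rw [hφ]; simp [hjk.symm]
  refine TensorSmall.two_not_max e P hle T (hsl T) ?_ (fun hmem => ?_)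
    (TransvMax.trv _ φ hdot) (hsl _) (TensorSmall.pairVec e P 0 (Pi.single k 1)) ?_ ?_
  · refine TransvMax.gl_ext fun v => ?_
    obtain ⟨p, q, rfl⟩ := TensorSmall.exists_pairVec e P v
    rw [Units.val_mul, Units.val_mul, ← Matrix.mulVec_mulVec, ← Matrix.mulVec_mulVec, hJ, hT, hT, hJ]
    congr 1 <;> funext l <;> simp only [Pi.add_apply, Pi.smul_apply, smul_eq_mul]
    all_goals ring
  · obtain ⟨a, b, hab⟩ := TensorSmall.mem_tensor e P hmem
    have h1 := hT (Pi.single k 1) 0
    rw [TensorSmall.pairVec, TensorSmall.tp_zero_right, add_zero, hab,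
      TensorSmall.tp_eq_pairVec] at h1
    obtain ⟨hp, hq'⟩ := TensorSmall.pairVec_inj e P h1
    have e1 := congrFun hp k
    have e2 := congrFun hp j
    have e3 := congrFun hq' j
    simp [hjk, hjk.symm] at e1 e2 e3
    rcases e2 with h | h <;> simp [h] at e1 e3
  · rw [hJ, TransvMax.trv_mulVec, TransvMax.trv_mulVec, hφ, hφ, TensorSmall.pairVec_smul,
      TensorSmall.pairVec_smul, TensorSmall.pairVec_add, TensorSmall.pairVec_add, hJ]
    intro h
    have := congrFun (TensorSmall.pairVec_inj e P h).1 j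
    simp [hjk, hjk.symm] at this
  · rw [hJ, TransvMax.trv_mulVec, TransvMax.trv_mulVec, hφ, hφ, TensorSmall.pairVec_smul,
      TensorSmall.pairVec_smul, TensorSmall.pairVec_add, TensorSmall.pairVec_add, hJi]
    intro h
    have := congrFun (TensorSmall.pairVec_inj e P h).2 k
    simp [hjk, hjk.symm] at this

end Cfsg.Agent.S5638
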