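import Cfsg.Statements.S5645
import Cfsg.Agent.Lib.TransvMax.SubspaceSp

set_option autoImplicit false
open Cfsg

namespace Cfsg.Agent.S5645

open Cfsg.Agent

/-- For a finite field F and m ≥ 7, in the symplectic group Sp_2m(F) of the standard alternating form on F^(2m) (as a subgroup of GL_2m(F)), the stabiliser of any non-zero subspace on which the form vanishes identically is a maximal subgroup. -/
theorem result {F : Type*} [Field F] [Fintype F] (m : ℕ) (hm : 7 ≤ m) (W : Submodule F (Fin m ⊕ Fin m → F)) (hW0 : W ≠ ⊥) (hW : Cfsg.Geo.IsTotallySingularFor (Cfsg.sympForm m F) W) : Cfsg.Geo.IsMaximalIn (Cfsg.spGL m F) (Cfsg.Geo.subspaceStabilizer W ⊓ Cfsg.spGL m F) := by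
  refine TransvMax.maximal_in_spGL _ inf_le_right ?_ fun K hHK hK ⟨g, hgK, hg⟩ => ?_
  · -- a transvection moving the subspace
    obtain ⟨w, hwW, hw0⟩ := Submodule.exists_mem_ne_zero_of_ne_bot hW0
    obtain ⟨x, hx⟩ : ∃ x, FormsLib.spB m F w x ≠ 0 := by
      by_contra h
      push Not at h
      exact hw0 (FormsLib.spB_nondeg.1 w h)
    refine ⟨_, FormsLib.tau_mem FormsLib.spB_alt x 1, fun h => ?_⟩
    have h1 := TransvMax.glOf_mem_subspaceStab.1 h.1 w hwW
    rw [FormsLib.tau_apply, one_mul] at h1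
    have h2 : x ∈ W := by
      simpa [smul_smul, inv_mul_cancel₀ hx] using W.smul_mem (FormsLib.spB m F w x)⁻¹ (W.sub_mem h1 hwW)
    exact hx (by rw [← TransvMax.sympForm_eq_spB]; exact hW w hwW x h2)
  · have hg' : ¬ ∀ v ∈ W, g v ∈ W := fun h =>
      hg ⟨TransvMax.glOf_mem_subspaceStab.2 h, TransvMax.glOf_mem_spGL.2 (hK hgK)⟩
    push Not at hg'
    obtain ⟨w₀, hw₀, hgw₀⟩ := hg'
    exact TransvMax.tauGroup_le_of_over_isotropic FormsLib.spB_alt FormsLib.spB_nondeg
      (fun x hx y hy => by rw [← TransvMax.sympForm_eq_spB]; exact hW x hx y hy)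
      hK (fun h hh hs => hHK ⟨TransvMax.glOf_mem_subspaceStab.2 hs, TransvMax.glOf_mem_spGL.2 hh⟩)
      hgK hw₀ hgw₀

end Cfsg.Agent.S5645
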