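import Cfsg.Statements.S5646
import Cfsg.Agent.Lib.TransvMax.SubspaceSp

set_option autoImplicit false
open Cfsg

namespace Cfsg.Agent.S5646

open Cfsg.Agent

/-- For a finite field F and m ≥ 7, in the symplectic group Sp_2m(F) of the standard alternating form on F^(2m), the stabiliser of any non-zero subspace W on which the form is non-degenerate and with dim W < m is a maximal subgroup. -/
theorem result {F : Type*} [Field F] [Fintype F] (m : ℕ) (hm : 7 ≤ m) (W : Submodule F (Fin m ⊕ Fin m → F)) (hW0 : W ≠ ⊥) (hW : Cfsg.Geo.IsNondegenerateOn (Cfsg.sympForm m F) W) (hdim : Module.finrank F W < m) : Cfsg.Geo.IsMaximalIn (Cfsg.spGL m F) (Cfsg.Geo.subspaceStabilizer W ⊓ Cfsg.spGL m F) := by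
  refine TransvMax.maximal_in_spGL _ inf_le_right ?_ fun K hHK hK ⟨g, hgK, hg⟩ => ?_
  · -- a transvection moving the subspace
    obtain ⟨w, hwW, hw0⟩ := Submodule.exists_mem_ne_zero_of_ne_bot hW0
    obtain ⟨y, hyW, hy⟩ : ∃ y, y ∉ W ∧ FormsLib.spB m F w y ≠ 0 := by
      obtain ⟨x, hx, hxw⟩ := (hW w hwW hw0).2
      rw [TransvMax.sympForm_eq_spB] at hxw
      obtain ⟨z, hz⟩ : ∃ z, z ∉ W := by
        by_contra hc
        push Not at hc
        have := Submodule.eq_top_iff'.2 hc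
        rw [this, finrank_top, Module.finrank_fintype_fun_eq_card, Fintype.card_sum, Fintype.card_fin] at hdim
        omega
      by_cases hzw : FormsLib.spB m F w z = 0
      · refine ⟨x + z, fun h => hz (by simpa using W.sub_mem h hx), ?_⟩
        rwa [map_add, hzw, add_zero]
      · exact ⟨z, hz, hzw⟩
    refine ⟨_, FormsLib.tau_mem FormsLib.spB_alt y 1, fun h => ?_⟩
    have h1 := TransvMax.glOf_mem_subspaceStab.1 h.1 w hwW
    rw [FormsLib.tau_apply, one_mul] at h1
    exact hyW (by simpa [smul_smul, inv_mul_cancel₀ hy] using W.smul_mem (FormsLib.spB m F w y)⁻¹ (W.sub_mem h1 hwW))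
  · have hg' : ¬ ∀ v ∈ W, g v ∈ W := fun h =>
      hg ⟨TransvMax.glOf_mem_subspaceStab.2 h, TransvMax.glOf_mem_spGL.2 (hK hgK)⟩
    push Not at hg'
    obtain ⟨w₀, hw₀, hgw₀⟩ := hg'
    exact TransvMax.tauGroup_le_of_over_nondeg FormsLib.spB_alt FormsLib.spB_nondeg
      (fun w hw hw0 => by obtain ⟨x, hx, h⟩ := (hW w hw hw0).1; exact ⟨x, hx, by rwa [← TransvMax.sympForm_eq_spB]⟩)
      (by rw [Module.finrank_fintype_fun_eq_card, Fintype.card_sum, Fintype.card_fin]; omega)
      hK (fun h hh hs => hHK ⟨TransvMax.glOf_mem_subspaceStab.2 hs, TransvMax.glOf_mem_spGL.2 hh⟩)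
      hgK hw₀ hgw₀

end Cfsg.Agent.S5646
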