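import Cfsg.Statements.S5647
import Cfsg.Agent.Lib.TransvMax.DecompSp

set_option autoImplicit false
open Cfsg

namespace Cfsg.Agent.S5647

open Cfsg.Agent

/-- For a finite field F with q elements and m ≥ 7, let D be a decomposition of F^(2m) into t ≥ 2 pairwise orthogonal subspaces of equal dimension k on each of which the standard alternating form is non-degenerate, spanning F^(2m). Unless k = 2 and q = 2, the elements of Sp_2m(F) permuting the members of D form a maximal subgroup of Sp_2m(F). -/
theorem result {F : Type*} [Field F] [Fintype F] (m : ℕ) (hm : 7 ≤ m) {t : ℕ} (k : ℕ) (D : Fin t → Submodule F (Fin m ⊕ Fin m → F)) (hD : Cfsg.Geo.IsNondegenerateMDecomposition (Cfsg.sympForm m F) k D) (hex : ¬ (k = 2 ∧ Fintype.card F = 2)) : Cfsg.Geo.IsMaximalIn (Cfsg.spGL m F) (Cfsg.Geo.decompositionStabilizer D ⊓ Cfsg.spGL m F) := by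
  classical
  have S := TransvMax.decSetting_of_nondeg hD
  refine TransvMax.maximal_in_spGL _ inf_le_right ?_ fun K hHK hK ⟨g, hgK, hg⟩ =>
    S.tauGroup_le_of_over hK
      (fun h hh hs => hHK ⟨TransvMax.glOf_mem_decStab.2 hs, TransvMax.glOf_mem_spGL.2 hh⟩) ?_ hgK
      (fun hs => hg ⟨TransvMax.glOf_mem_decStab.2 hs, TransvMax.glOf_mem_spGL.2 (hK hgK)⟩)
  · obtain ⟨g, hg, hg'⟩ := S.exists_not_stab
    exact ⟨g, hg, fun h => hg' (TransvMax.glOf_mem_decStab.1 h.1)⟩
  · intro hk
    by_contra hcon
    push Not at hcon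
    refine hex ⟨hk, ?_⟩
    have : (Finset.univ : Finset F) = {0, 1} := by
      ext x
      simp only [Finset.mem_univ, Finset.mem_insert, Finset.mem_singleton, true_iff]
      by_cases hx : x = 0
      · exact Or.inl hx
      · exact Or.inr (hcon x hx)
    rw [← Finset.card_univ, this, Finset.card_pair zero_ne_one]

end Cfsg.Agent.S5647
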