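import Cfsg.Statements.S5648
import Cfsg.Agent.Lib.TransvMax.DecompSp

set_option autoImplicit false
open Cfsg

namespace Cfsg.Agent.S5648

open Cfsg.Agent
open scoped Matrix

section

variable {F : Type*} [Field F] {V : Type*} [AddCommGroup V] [Module F V] [FiniteDimensional F V]
  {B : LinearMap.BilinForm F V} {t : ℕ} {D : Fin t → Submodule F V}

open Classical in
/-- The indicator of a non-zero component in `D i`. -/
noncomputable def comp01 (B : LinearMap.BilinForm F V) (D : Fin t → Submodule F V) (i : Fin t) (v : V) : F :=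
  if ∀ x ∈ D i, B x v = 0 then 0 else 1

/-- The number of non-zero components, in the prime field. -/
noncomputable def suppForm (B : LinearMap.BilinForm F V) (D : Fin t → Submodule F V) (v : V) : F :=
  ∑ i, comp01 B D i v

theorem comp01_eq (S : TransvMax.DecSetting B 2 D) {c : Fin t → V} (hc : ∀ i, c i ∈ D i) (i : Fin t) :
    (c i = 0 → comp01 B D i (∑ j, c j) = 0) ∧ (c i ≠ 0 → comp01 B D i (∑ j, c j) = 1) := by
  classical
  refine ⟨fun h => if_pos fun x hx => by rw [S.pair_comp hc hx, h, map_zero], fun h => if_neg ?_⟩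
  intro hall
  obtain ⟨x, hx, hxc⟩ := S.nd i _ (hc i) h
  exact hxc (by rw [← S.pair_comp hc hx]; exact hall x hx)

theorem suppForm_single (S : TransvMax.DecSetting B 2 D) {i : Fin t} {a : V} (ha : a ∈ D i)
    (ha0 : a ≠ 0) : suppForm B D a = 1 := by
  classical
  unfold suppForm
  rw [Finset.sum_eq_single i]
  · refine if_neg fun hall => ?_
    obtain ⟨x, hx, hxa⟩ := S.nd i a ha ha0
    exact hxa (hall x hx)
  · exact fun j _ hj => if_pos fun x hx => S.orth j i hj x hx a ha
  · simp

theorem suppForm_add (S : TransvMax.DecSetting B 2 D) (h2 : ∀ x : F, x = 0 ∨ x = 1) (u v : V) :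
    suppForm B D (u + v) = suppForm B D u + suppForm B D v + B u v := by
  classical
  have h11 : (1 : F) + 1 = 0 := (h2 (1 + 1)).resolve_right fun e => one_ne_zero (left_eq_add.1 e.symm)
  obtain ⟨a, ha, rfl⟩ := S.exists_comp u
  obtain ⟨b, hb, rfl⟩ := S.exists_comp v
  have hB : B (∑ i, a i) (∑ i, b i) = ∑ i, B (a i) (b i) := by
    rw [map_sum B, LinearMap.sum_apply]
    exact Finset.sum_congr rfl fun i _ => S.pair_comp hb (ha i)
  rw [hB, ← Finset.sum_add_distrib]
  unfold suppForm
  rw [← Finset.sum_add_distrib, ← Finset.sum_add_distrib]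
  refine Finset.sum_congr rfl fun i _ => ?_
  have hab := comp01_eq S (c := fun i => a i + b i) (fun i => (D i).add_mem (ha i) (hb i)) i
  have hai := comp01_eq S ha i
  have hbi := comp01_eq S hb i
  by_cases ha0 : a i = 0
  · rw [hai.1 ha0, ha0, map_zero, LinearMap.zero_apply, zero_add, add_zero]
    by_cases hb0 : b i = 0
    · rw [hbi.1 hb0, hab.1 (by simp [ha0, hb0])]
    · rw [hbi.2 hb0, hab.2 (by simp [ha0, hb0])]
  rw [hai.2 ha0]
  by_cases hb0 : b i = 0
  · rw [hbi.1 hb0, hab.2 (by simp [ha0, hb0]), hb0, map_zero, add_zero, add_zero]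
  rw [hbi.2 hb0]
  by_cases he : a i + b i = 0
  · rw [hab.1 he, eq_neg_of_add_eq_zero_right he, map_neg, S.alt, neg_zero, add_zero, h11]
  rw [hab.2 he]
  rcases h2 (B (a i) (b i)) with h | h
  · exfalso
    have hnot : b i ∉ Submodule.span F {a i} := by
      rw [Submodule.mem_span_singleton]
      rintro ⟨s, hs⟩
      rcases h2 s with rfl | rfl
      · exact hb0 (by simpa using hs.symm)
      · rw [one_smul] at hs
        refine he ?_
        rw [← hs, ← two_smul F (a i), show (2 : F) = 1 + 1 from one_add_one_eq_two.symm, h11, zero_smul]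
    have hlt : Submodule.span F {a i} < Submodule.span F {a i} ⊔ Submodule.span F {b i} :=
      lt_of_le_of_ne le_sup_left fun e => hnot (e ▸ Submodule.mem_sup_right (Submodule.mem_span_singleton_self _))
    have hle : Submodule.span F {a i} ⊔ Submodule.span F {b i} ≤ D i :=
      sup_le (by simpa using ha i) (by simpa using hb i)
    have heq := Submodule.eq_of_le_of_finrank_le hle (by
      have := Submodule.finrank_lt_finrank_of_lt hlt
      rw [finrank_span_singleton ha0] at this
      rw [S.finrank]
      omega)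
    obtain ⟨x, hx, hxa⟩ := S.nd i _ (ha i) ha0
    rw [← heq, Submodule.mem_sup] at hx
    obtain ⟨p, hp, q, hq, rfl⟩ := hx
    obtain ⟨s, rfl⟩ := Submodule.mem_span_singleton.1 hp
    obtain ⟨r, rfl⟩ := Submodule.mem_span_singleton.1 hq
    refine hxa ?_
    rw [map_add, map_smul, map_smul, LinearMap.add_apply, LinearMap.smul_apply, LinearMap.smul_apply,
      S.alt, FormsLib.alt_swap S.alt (a i) (b i), h, neg_zero, smul_zero, smul_zero, add_zero]
  · rw [h, h11, zero_add]

end

/-- Over the field with 2 elements and for m ≥ 7, let D be a decomposition of F^(2m) into t pairwise orthogonal non-degenerate 2-dimensional subspaces for the standard alternating form (t = m ≥ 2). Then the elements of Sp_2m(2) permuting the members of D form a subgroup that is not maximal: some subgroup lies strictly between it and Sp_2m(2). -/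
theorem result {F : Type*} [Field F] [Fintype F] (m : ℕ) (hm : 7 ≤ m) (hq : Fintype.card F = 2) {t : ℕ} (D : Fin t → Submodule F (Fin m ⊕ Fin m → F)) (hD : Cfsg.Geo.IsNondegenerateMDecomposition (Cfsg.sympForm m F) 2 D) : ∃ K : Subgroup (Matrix.GeneralLinearGroup (Fin m ⊕ Fin m) F), Cfsg.Geo.decompositionStabilizer D ⊓ Cfsg.spGL m F < K ∧ K < Cfsg.spGL m F := by
  classical
  have S := TransvMax.decSetting_of_nondeg hD
  have h2 : ∀ x : F, x = 0 ∨ x = 1 := by
    intro x
    by_contra hcon
    push Not at hcon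
    have := Finset.card_le_univ ({0, 1, x} : Finset F)
    rw [Finset.card_insert_of_notMem (by simp [hcon.1.symm]), Finset.card_pair hcon.2.symm, hq] at this
    omega
  have h11 : (1 : F) + 1 = 0 := (h2 (1 + 1)).resolve_right fun e => one_ne_zero (left_eq_add.1 e.symm)
  set Q := suppForm (FormsLib.spB m F) D with hQ
  refine ⟨Cfsg.Geo.quadSimilarityGroup Q ⊓ Cfsg.spGL m F, ?_, ?_⟩
  · have hle : Cfsg.Geo.decompositionStabilizer D ⊓ Cfsg.spGL m F ≤
        Cfsg.Geo.quadSimilarityGroup Q ⊓ Cfsg.spGL m F := by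
      rintro g ⟨hgD, hgS⟩
      refine ⟨⟨1, fun v => ?_⟩, hgS⟩
      rw [← TransvMax.glOf_linOf g] at hgD hgS ⊢
      obtain ⟨σ, hσ⟩ := TransvMax.glOf_mem_decStab.1 hgD
      have hiso := TransvMax.glOf_mem_spGL.1 hgS
      rw [TransvMax.glOf_mulVec, Units.val_one, one_mul, hQ]
      refine (Equiv.sum_comp σ _).symm.trans (Finset.sum_congr rfl fun i _ => ?_)
      have hiff : (∀ x ∈ D (σ i), FormsLib.spB m F x (TransvMax.linOf g v) = 0) ↔
          ∀ x ∈ D i, FormsLib.spB m F x v = 0 := by
        rw [← hσ i]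
        constructor
        · intro h x hx
          rw [← hiso x v]
          exact h _ ⟨x, hx, rfl⟩
        · rintro h _ ⟨x, hx, rfl⟩
          exact (hiso x v).trans (h x hx)
      unfold comp01
      split_ifs with h1' h2' h2'
      exacts [rfl, absurd (hiff.1 h1') h2', absurd (hiff.2 h2') h1', rfl]
    refine lt_of_le_of_ne hle fun e => ?_
    have ht : 3 ≤ t := by
      have hint : DirectSum.IsInternal D :=
        DirectSum.isInternal_submodule_of_iSupIndep_of_iSup_eq_top S.indep S.sup
      have := Module.finrank_eq_card_basis (hint.collectedBasis fun a => Module.finBasis F (D a))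
      rw [Module.finrank_fintype_fun_eq_card, Fintype.card_sigma] at this
      simp only [Fintype.card_sum, Fintype.card_fin, S.finrank, Finset.sum_const, Finset.card_univ,
        smul_eq_mul] at this
      omega
    let i : Fin t := ⟨0, by omega⟩
    let j : Fin t := ⟨1, by omega⟩
    let l : Fin t := ⟨2, by omega⟩
    have hij : i ≠ j := by simp [i, j]
    have hil : i ≠ l := by simp [i, l]
    have hjl : j ≠ l := by simp [j, l]
    obtain ⟨a, ha, ha0⟩ := S.exists_ne_zero i
    obtain ⟨b, hb, hb0⟩ := S.exists_ne_zero j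
    obtain ⟨c, hc, hc0⟩ := S.exists_ne_zero l
    have hd : Q (a + b + c) = 1 := by
      rw [hQ, suppForm_add S h2, suppForm_add S h2, suppForm_single S ha ha0, suppForm_single S hb hb0,
        suppForm_single S hc hc0, map_add, LinearMap.add_apply, S.orth i j hij a ha b hb,
        S.orth i l hil a ha c hc, S.orth j l hjl b hb c hc]
      simp [h11]
    have hmem : TransvMax.glOf (FormsLib.tau S.alt (a + b + c) 1) ∈
        Cfsg.Geo.quadSimilarityGroup Q ⊓ Cfsg.spGL m F := by
      refine ⟨⟨1, fun v => ?_⟩, TransvMax.glOf_mem_spGL.2 (FormsLib.tau_mem _ _ _)⟩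
      rw [TransvMax.glOf_mulVec, Units.val_one, one_mul, FormsLib.tau_apply, one_mul]
      rcases h2 (FormsLib.spB m F v (a + b + c)) with hB | hB
      · rw [hB, zero_smul, add_zero]
      · rw [hB, one_smul, hQ, suppForm_add S h2, ← hQ, hd, hB, add_assoc, h11, add_zero]
    rw [← e] at hmem
    obtain ⟨σ, hσ⟩ := TransvMax.glOf_mem_decStab.1 hmem.1
    obtain ⟨x, hx, hxa⟩ := S.nd i a ha ha0
    have hm : FormsLib.tau S.alt (a + b + c) 1 x ∈ D (σ i) := hσ i ▸ ⟨x, hx, rfl⟩
    have hval : FormsLib.spB m F x (a + b + c) ≠ 0 := by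
      rwa [map_add, map_add, S.orth i j hij x hx b hb, S.orth i l hil x hx c hc, add_zero, add_zero]
    have key : ∀ (p : Fin t) (y w : _), y ∈ D p → p ≠ i → FormsLib.spB m F y (a + b + c) = w →
        w ≠ 0 → σ i = p := by
      intro p y w hy hp hyw hw
      by_contra hne
      have h0 := S.orth p (σ i) (Ne.symm hne) y hy _ hm
      rw [FormsLib.tau_apply, map_add, map_smul, S.orth p i hp y hy x hx, zero_add, one_mul, hyw,
        smul_eq_mul] at h0
      exact mul_ne_zero hval hw h0
    obtain ⟨y, hy, hyb⟩ := S.nd j b hb hb0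
    obtain ⟨z, hz, hzc⟩ := S.nd l c hc hc0
    have e1 := key j y _ hy hij.symm (by
      rw [map_add, map_add, S.orth j i hij.symm y hy a ha, S.orth j l hjl y hy c hc, zero_add, add_zero])
      hyb
    have e2 := key l z _ hz hil.symm (by
      rw [map_add, map_add, S.orth l i hil.symm z hz a ha, S.orth l j hjl.symm z hz b hb, zero_add, zero_add])
      hzc
    exact hjl (e1.symm.trans e2)
  · refine lt_of_le_of_ne inf_le_right fun e => ?_
    let i : Fin t := ⟨0, by have := S.two_le; omega⟩
    let j : Fin t := ⟨1, by have := S.two_le; omega⟩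
    have hij : i ≠ j := by simp [i, j]
    obtain ⟨a, ha, ha0⟩ := S.exists_ne_zero i
    obtain ⟨b, hb, hb0⟩ := S.exists_ne_zero j
    obtain ⟨x, hx, hxa⟩ := S.nd i a ha ha0
    have hx1 : FormsLib.spB m F x (a + b) = 1 := by
      rw [map_add, S.orth i j hij x hx b hb, add_zero]
      exact (h2 _).resolve_left hxa
    have hu : Q (a + b) = 0 := by
      rw [hQ, suppForm_add S h2, suppForm_single S ha ha0, suppForm_single S hb hb0,
        S.orth i j hij a ha b hb, add_zero, h11]
    have hmem := TransvMax.glOf_mem_spGL.2 (FormsLib.tau_mem S.alt (a + b) 1)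
    rw [← e] at hmem
    obtain ⟨u, hu1⟩ := hmem.1
    have h3 := hu1 x
    rw [TransvMax.glOf_mulVec, FormsLib.tau_apply, hx1, one_mul, one_smul,
      (h2 (u : F)).resolve_left u.ne_zero, one_mul, hQ, suppForm_add S h2, ← hQ, hu, hx1, add_zero]
      at h3
    exact one_ne_zero (add_eq_left.1 h3)

end Cfsg.Agent.S5648
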