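import Cfsg.Statements.S5649
import Cfsg.Agent.Lib.TransvMax.DecompSp
import Cfsg.Agent.Lib.TransvMax.LagrPair

set_option autoImplicit false
open Cfsg

namespace Cfsg.Agent.S5649

open Cfsg.Agent

/-- For a finite field F of odd order and m ≥ 7, let D be a decomposition of F^(2m) into two complementary subspaces of dimension m on each of which the standard alternating form vanishes identically. Then the elements of Sp_2m(F) preserving or interchanging the two subspaces form a maximal subgroup of Sp_2m(F). -/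
theorem result {F : Type*} [Field F] [Fintype F] (m : ℕ) (hm : 7 ≤ m) (hodd : Odd (Fintype.card F)) (D : Fin 2 → Submodule F (Fin m ⊕ Fin m → F)) (hD : Cfsg.Geo.IsMDecomposition m D) (hts : ∀ i, Cfsg.Geo.IsTotallySingularFor (Cfsg.sympForm m F) (D i)) : Cfsg.Geo.IsMaximalIn (Cfsg.spGL m F) (Cfsg.Geo.decompositionStabilizer D ⊓ Cfsg.spGL m F) := by
  classical
  have hd : IsCompl (D 0) (D 1) := by
    refine ⟨hD.indep.pairwiseDisjoint (by simp), codisjoint_iff.2 ?_⟩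
    rw [← hD.iSup_eq_top]
    refine le_antisymm (sup_le (le_iSup D 0) (le_iSup D 1)) (iSup_le fun i => ?_)
    fin_cases i
    · exact le_sup_left
    · exact le_sup_right
  have hiso : ∀ i, ∀ x ∈ D i, ∀ y ∈ D i, FormsLib.spB m F x y = 0 := fun i x hx y hy => by
    rw [← TransvMax.sympForm_eq_spB]; exact hts i x hx y hy
  have S : TransvMax.LagrSetting (FormsLib.spB m F) (D 0) (D 1) :=
    { alt := FormsLib.spB_alt
      nondeg := FormsLib.spB_nondeg
      compl := hd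
      isoU := hiso 0
      isoW := hiso 1
      dimU := by rw [hD.finrank_eq, hD.finrank_eq]
      five := by rw [hD.finrank_eq]; omega
      odd := fun h => Nat.not_even_iff_odd.2 hodd
        (Nat.even_iff.2 (FiniteField.even_card_iff_char_two.1 h)) }
  have hiff : ∀ g : (Fin m ⊕ Fin m → F) ≃ₗ[F] (Fin m ⊕ Fin m → F),
      (∃ σ : Equiv.Perm (Fin 2), ∀ a, (D a).map (g : (Fin m ⊕ Fin m → F) →ₗ[F] _) = D (σ a)) ↔
      (((D 0).map (g : (Fin m ⊕ Fin m → F) →ₗ[F] _) = D 0 ∧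
          (D 1).map (g : (Fin m ⊕ Fin m → F) →ₗ[F] _) = D 1) ∨
        ((D 0).map (g : (Fin m ⊕ Fin m → F) →ₗ[F] _) = D 1 ∧
          (D 1).map (g : (Fin m ⊕ Fin m → F) →ₗ[F] _) = D 0)) := by
    intro g
    constructor
    · rintro ⟨σ, hσ⟩
      obtain ⟨h0, h1⟩ | ⟨h0, h1⟩ : (σ 0 = 0 ∧ σ 1 = 1) ∨ (σ 0 = 1 ∧ σ 1 = 0) := by
        exact (show ∀ σ : Equiv.Perm (Fin 2), (σ 0 = 0 ∧ σ 1 = 1) ∨ (σ 0 = 1 ∧ σ 1 = 0) by decide) σ
      · exact Or.inl ⟨by rw [hσ, h0], by rw [hσ, h1]⟩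
      · exact Or.inr ⟨by rw [hσ, h0], by rw [hσ, h1]⟩
    · rintro (⟨h0, h1⟩ | ⟨h0, h1⟩)
      · exact ⟨1, fun a => by fin_cases a <;> simp [h0, h1]⟩
      · exact ⟨Equiv.swap 0 1, fun a => by fin_cases a <;> simp [h0, h1]⟩
  refine TransvMax.maximal_in_spGL _ inf_le_right ?_ fun K hHK hK ⟨g, hgK, hg⟩ =>
    S.tauGroup_le_of_over hK
      (fun h hh hs => hHK ⟨TransvMax.glOf_mem_decStab.2 ((hiff h).2 hs), TransvMax.glOf_mem_spGL.2 hh⟩)
      hgK
      (fun hs => hg ⟨TransvMax.glOf_mem_decStab.2 ((hiff g).2 hs), TransvMax.glOf_mem_spGL.2 (hK hgK)⟩)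
  obtain ⟨g, hg, hg'⟩ := S.exists_not_stab
  exact ⟨g, hg, fun h => hg' ((hiff g).1 (TransvMax.glOf_mem_decStab.1 h.1))⟩

end Cfsg.Agent.S5649
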