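import Cfsg.Statements.S5650
import Cfsg.Agent.Lib.TransvMax.SpSubfield
import Cfsg.Agent.Lib.TransvMax.SpBridge
-- import your own Cfsg.Agent.* helpers here

set_option autoImplicit false
open Cfsg

namespace Cfsg.Agent.S5650

open Cfsg.Agent
open scoped Matrix MatrixGroups

/-- For a finite field F, a subfield F₀ with |F| = |F₀| ^ r for a prime r, and m ≥ 7, let P be an invertible matrix and ζ a non-zero scalar such that ζ times the standard alternating form takes values in F₀ on the F₀-span of the columns of P. Then the elements of Sp_2m(F) lying in the subfield group of P (the conjugate by P of the product of GL_2m(F₀) with the scalars) form a maximal subgroup of Sp_2m(F). -/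
theorem result {F : Type*} [Field F] [Fintype F] (m : ℕ) (hm : 7 ≤ m) (F₀ : Subfield F) (r : ℕ) (hr : r.Prime) (hcard : Fintype.card F = Nat.card F₀ ^ r) (P : Matrix.GeneralLinearGroup (Fin m ⊕ Fin m) F) (ζ : F) (hζ : ζ ≠ 0) (hP : Cfsg.Geo.IsFormRationalStructure (Cfsg.sympForm m F) F₀ ζ P) : Cfsg.Geo.IsMaximalIn (Cfsg.spGL m F) (Cfsg.Geo.subfieldSubgroup F₀ P ⊓ Cfsg.spGL m F) := by
  classical
  haveI := Fintype.ofFinite F₀
  set B := ζ • FormsLib.spB m F with hBdef
  have hB : ∀ u v, B u v = ζ * FormsLib.spB m F u v := fun u v => rfl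
  have S : TransvMax.RatSetting B F₀ P :=
    { alt := fun v => by rw [hB, FormsLib.spB_alt v, mul_zero]
      nondeg := by
        refine ⟨fun v hv => FormsLib.spB_nondeg.1 v fun w => ?_, fun v hv => FormsLib.spB_nondeg.2 v fun w => ?_⟩
        · exact (mul_eq_zero.1 (hv w)).resolve_left hζ
        · exact (mul_eq_zero.1 (hv w)).resolve_left hζ
      rat := fun u v => by
        rw [hB, ← TransvMax.sympForm_eq_spB]
        exact hP _ _ (fun i => (u i).2) (fun i => (v i).2)
      dim := by simp; omega }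
  have hiso : ∀ g, g ∈ FormsLib.isoGroup B ↔ g ∈ FormsLib.isoGroup (FormsLib.spB m F) := fun g =>
    ⟨fun h x y => mul_left_cancel₀ hζ (h x y), fun h x y => congrArg (ζ * ·) (h x y)⟩
  refine TransvMax.maximal_in_spGL _ inf_le_right ?_ fun K hHK hK hgK => ?_
  · -- a transvection with an irrational coefficient
    obtain ⟨ρ, hρ⟩ : ∃ ρ : F, ρ ∉ F₀ := by
      by_contra h
      push Not at h
      have hbij : Function.Bijective (Subtype.val : F₀ → F) :=
        ⟨Subtype.val_injective, fun x => ⟨⟨x, h x⟩, rfl⟩⟩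
      have h1 := Nat.card_eq_of_bijective _ hbij
      rw [Nat.card_eq_fintype_card (α := F), hcard] at h1
      have h2 : 1 < Nat.card F₀ := Finite.one_lt_card
      have h3 := Nat.pow_lt_pow_right h2 hr.one_lt
      rw [pow_one] at h3
      omega
    let y : Fin m ⊕ Fin m → F₀ := Pi.single (Sum.inl ⟨0, by omega⟩) 1
    have hy : y ≠ 0 := fun e => by simpa [y] using congrFun e (Sum.inl ⟨0, by omega⟩)
    refine ⟨FormsLib.tau S.alt (TransvMax.ratEmb F₀ P y) ρ, (hiso _).1 (FormsLib.tau_mem _ _ _),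
      fun h => hρ ?_⟩
    obtain ⟨c, hc, hall⟩ := (TransvMax.mem_subfieldSubgroup_iff F₀ P _).1 h.1
    obtain ⟨p, hp⟩ := S.exists_vals (v := ![y]) (by simp [linearIndependent_unique_iff, hy]) ![1]
    obtain ⟨z₁, hz₁⟩ := hall y
    rw [TransvMax.glOf_mulVec, FormsLib.tau_apply, S.alt, mul_zero, zero_smul, add_zero] at hz₁
    have e1 := congrArg (B (TransvMax.ratEmb F₀ P p)) hz₁
    rw [map_smul, smul_eq_mul, ← S.coe_form₀, ← S.coe_form₀, show S.form₀ p y = 1 from hp 0,
      OneMemClass.coe_one, mul_one] at e1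
    obtain ⟨z₂, hz₂⟩ := hall p
    rw [TransvMax.glOf_mulVec, FormsLib.tau_apply] at hz₂
    have e2 := congrArg (B (TransvMax.ratEmb F₀ P p)) hz₂
    rw [map_smul, map_add, map_smul, S.alt, smul_eq_mul, smul_eq_mul, zero_add, ← S.coe_form₀,
      ← S.coe_form₀, show S.form₀ p y = 1 from hp 0, OneMemClass.coe_one, mul_one, mul_one] at e2
    have hcF : c ∈ F₀ := by rw [e1]; exact SetLike.coe_mem _
    rw [show ρ = (S.form₀ p z₂ : F) / c by rw [← e2]; field_simp]
    exact div_mem (SetLike.coe_mem _) hcF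
  · obtain ⟨g, hgK, hg⟩ := hgK
    refine le_trans ((Subgroup.closure_le _).2 ?_) (S.tauGroup_le_of_over hr hcard
      (fun x hx => (hiso x).2 (hK hx)) (fun h hh hrat => hHK ⟨?_, TransvMax.glOf_mem_spGL.2 ((hiso h).1 hh)⟩)
      hgK fun hall => hg ⟨?_, TransvMax.glOf_mem_spGL.2 (hK hgK)⟩)
    · rintro _ ⟨v, e, rfl⟩
      refine Subgroup.subset_closure ⟨v, e / ζ, LinearEquiv.ext fun x => ?_⟩
      rw [FormsLib.tau_apply, FormsLib.tau_apply, hB, ← mul_assoc, div_mul_cancel₀ _ hζ]
    · refine (TransvMax.mem_subfieldSubgroup_iff F₀ P _).2 ⟨1, one_ne_zero, fun z => ?_⟩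
      simpa [TransvMax.glOf_mulVec] using hrat z
    · refine TransvMax.mem_subfieldSubgroup_of_points F₀ P _ fun z hz => ?_
      simpa [TransvMax.glOf_mulVec] using hall z hz

end Cfsg.Agent.S5650
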