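import Cfsg.Statements.S5652
import Cfsg.Agent.Lib.TransvMax.SpBridge
import Cfsg.Agent.Lib.TransvMax.QuadOver

set_option autoImplicit false
open Cfsg

namespace Cfsg.Agent.S5652

open Cfsg.Agent
open scoped Matrix

/-- For a finite field F of characteristic two and m ≥ 7, let Q be a non-degenerate quadratic form on F^(2m) whose polar form is the standard alternating form. Then the elements of Sp_2m(F) that are similarities of Q (they are exactly the isometries of Q) form a maximal subgroup of Sp_2m(F). -/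
theorem result {F : Type*} [Field F] [Fintype F] (m : ℕ) (hm : 7 ≤ m) (heven : ¬ Odd (Fintype.card F)) (Q : (Fin m ⊕ Fin m → F) → F) (hQ : Cfsg.Geo.IsNondegenerateQuadraticForm Q) (hpol : ∀ u v, QuadraticMap.polar Q u v = Cfsg.sympForm m F u v) : Cfsg.Geo.IsMaximalIn (Cfsg.spGL m F) (Cfsg.Geo.quadSimilarityGroup Q ⊓ Cfsg.spGL m F) := by
  have hc2 : ringChar F = 2 := by
    by_contra h
    exact heven (Nat.odd_iff.mpr (FiniteField.odd_card_of_char_ne_two h))
  have hchar : CharP F 2 := ringChar.of_eq hc2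
  let QF : QuadraticForm F (Fin m ⊕ Fin m → F) := QuadraticMap.ofPolar Q
    (fun a x => by rw [hQ.smul, smul_eq_mul, pow_two])
    (fun x x' y => hQ.polar_bilinear.add_left x x' y)
    (fun a x y => hQ.polar_bilinear.smul_left a x y)
  have hQF : ∀ v, QF v = Q v := fun _ => rfl
  have S : TransvMax.QuadSetting (FormsLib.spB m F) QF := by
    refine ⟨hchar, fun a => ?_, FormsLib.spB_alt, FormsLib.spB_nondeg, fun x y => ?_, ?_⟩
    · obtain ⟨b, hb⟩ := (Finite.injective_iff_surjective.mp (frobenius_inj F 2)) a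
      exact ⟨b, by rw [← hb, frobenius_def, pow_two]⟩
    · show QuadraticMap.polar Q x y = _
      rw [hpol, TransvMax.sympForm_eq_spB]
    · rw [Module.finrank_fintype_fun_eq_card, Fintype.card_sum, Fintype.card_fin]
      omega
  have hmem : ∀ g : (Fin m ⊕ Fin m → F) ≃ₗ[F] (Fin m ⊕ Fin m → F),
      TransvMax.glOf g ∈ Cfsg.Geo.quadSimilarityGroup Q ⊓ Cfsg.spGL m F ↔
        g ∈ FormsLib.oGroup QF := by
    intro g
    constructor
    · rintro ⟨⟨c, hc⟩, hsp⟩
      have hg := TransvMax.glOf_mem_spGL.1 hsp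
      simp only [TransvMax.glOf_mulVec] at hc
      obtain ⟨u, hu⟩ : ∃ u : Fin m ⊕ Fin m → F, u ≠ 0 :=
        ⟨Pi.single (.inl ⟨0, by omega⟩) 1, by simp⟩
      obtain ⟨x, hx⟩ := (hQ.nondegenerate u hu).1
      have h1 : QuadraticMap.polar Q (g x) (g u) = (c : F) * QuadraticMap.polar Q x u := by
        simp only [QuadraticMap.polar, ← map_add, hc]
        ring
      rw [hpol, TransvMax.sympForm_eq_spB, hg x u, ← TransvMax.sympForm_eq_spB, ← hpol] at h1
      have hc1 : (c : F) = 1 := by
        have h2 : ((c : F) - 1) * QuadraticMap.polar Q x u = 0 := by linear_combination -h1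
        exact sub_eq_zero.mp ((mul_eq_zero.mp h2).resolve_right hx)
      intro v
      rw [hQF, hQF, hc, hc1, one_mul]
    · intro hg
      refine ⟨⟨1, fun v => ?_⟩, TransvMax.glOf_mem_spGL.2 fun u v => ?_⟩
      · rw [TransvMax.glOf_mulVec, Units.val_one, one_mul]
        exact hg v
      · rw [← S.pol, ← S.pol]
        exact FormsLib.polar_of_mem hg u v
  refine TransvMax.maximal_in_spGL _ inf_le_right ?_ fun K hHK hK ⟨g, hgK, hg⟩ =>
    S.tauGroup_le_of_over (fun x hx => hHK ((hmem x).2 hx)) hK hgK fun h => hg ((hmem g).2 h)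
  obtain ⟨g, hg, hg'⟩ := S.exists_not_mem
  exact ⟨g, hg, fun h => hg' ((hmem g).1 h)⟩

end Cfsg.Agent.S5652
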