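import Cfsg.Statements.S5653
import Cfsg.Agent.Lib.TransvMax.SubspaceSU
import Cfsg.Agent.Lib.TransvMax.SubspaceSp
-- import your own Cfsg.Agent.* helpers here

set_option autoImplicit false
open Cfsg

namespace Cfsg.Agent.S5653

open Cfsg.Agent
open scoped Matrix MatrixGroups

/-- Let F be the field with q² elements and n ≥ 13, and let SU_n(q) be the group of matrices of determinant one preserving the standard unitary form Σ u_i v_i^q on F^n (the intersection of the unitary group GU_n with the kernel of the determinant). The elements of SU_n(q) stabilising a non-zero subspace on which the form vanishes identically form a maximal subgroup of SU_n(q). -/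
theorem result {F : Type*} [Field F] [Fintype F] (n q : ℕ) (hF : Fintype.card F = q ^ 2) (hn : 13 ≤ n) (W : Submodule F (Fin n → F)) (hW0 : W ≠ ⊥) (hW : Cfsg.Geo.IsTotallySingularFor (Cfsg.hermForm n F q) W) : Cfsg.Geo.IsMaximalIn (Cfsg.GU n F q ⊓ Cfsg.Geo.specialLinear (Fin n) F) (Cfsg.Geo.subspaceStabilizer W ⊓ (Cfsg.GU n F q ⊓ Cfsg.Geo.specialLinear (Fin n) F)) := by
  obtain ⟨σ, hσ, hf⟩ := TransvMax.exists_herm_setting hF n
  refine TransvMax.maximal_in_guSL hf hF (by omega) _ inf_le_right ?_ fun K hHK hK hgK => ?_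
  · obtain ⟨w, hwW, hw0⟩ := Submodule.exists_mem_ne_zero_of_ne_bot hW0
    obtain ⟨x, hx, hxw⟩ := TransvMax.exists_iso_values hf (v := ![w])
      (by simp [hw0]) (by rw [Fintype.card_fin]; omega) ![1]
    obtain ⟨e, he0, he⟩ := TransvMax.exists_trace_zero hf.ne_refl hf.involutive
    refine ⟨TransvMax.utrv hf hx e, TransvMax.utrv_mem_guSL hf hx he, fun h => ?_⟩
    have h1 := (h.1 w).1 hwW
    change (TransvMax.utrv hf hx e : Matrix (Fin n) (Fin n) F) *ᵥ w ∈ W at h1
    rw [TransvMax.utrv_mulVec] at h1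
    have hwx : Cfsg.hermForm n F q w x = 1 := by
      rw [hf.herm, show Cfsg.hermForm n F q x w = 1 from hxw 0, map_one]
    rw [hwx, mul_one] at h1
    have h2 : e • x ∈ W := by simpa using W.sub_mem h1 hwW
    have h3 : x ∈ W := by simpa [smul_smul, inv_mul_cancel₀ he0] using W.smul_mem e⁻¹ h2
    exact zero_ne_one ((hW w hwW x h3).symm.trans hwx)
  · obtain ⟨g, hgK, hg⟩ := hgK
    have hg' : ¬ ∀ w ∈ W, (g : Matrix (Fin n) (Fin n) F) *ᵥ w ∈ W := fun h => hg
      ⟨fun v => TransvMax.subspace_mem_iff_of_le (g := TransvMax.linOf g) h v, hK hgK⟩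
    push Not at hg'
    obtain ⟨w₀, hw₀, hgw₀⟩ := hg'
    exact TransvMax.isoCentre_of_over_singular hf (by rwa [Fintype.card_fin]) hW
      (fun g hg => (hK hg).1)
      (fun h hS hiso hs => hHK ⟨fun v => TransvMax.subspace_mem_iff_of_le (g := TransvMax.linOf h) hs v,
        hiso, hS⟩) hgK hw₀ hgw₀

end Cfsg.Agent.S5653
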