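import Cfsg.Statements.S5654
import Cfsg.Agent.Lib.TransvMax.SubspaceSU
import Cfsg.Agent.Lib.TransvMax.SubspaceSp
-- import your own Cfsg.Agent.* helpers here

set_option autoImplicit false
open Cfsg

namespace Cfsg.Agent.S5654

open Cfsg.Agent
open scoped Matrix MatrixGroups

/-- Let F be the field with q² elements and n ≥ 13. In SU_n(q) (determinant-one isometries of the standard unitary form on F^n) the stabiliser of a non-zero subspace W on which the form is non-degenerate and with 2 dim W < n is a maximal subgroup. -/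
theorem result {F : Type*} [Field F] [Fintype F] (n q : ℕ) (hF : Fintype.card F = q ^ 2) (hn : 13 ≤ n) (W : Submodule F (Fin n → F)) (hW0 : W ≠ ⊥) (hW : Cfsg.Geo.IsNondegenerateOn (Cfsg.hermForm n F q) W) (hdim : 2 * Module.finrank F W < n) : Cfsg.Geo.IsMaximalIn (Cfsg.GU n F q ⊓ Cfsg.Geo.specialLinear (Fin n) F) (Cfsg.Geo.subspaceStabilizer W ⊓ (Cfsg.GU n F q ⊓ Cfsg.Geo.specialLinear (Fin n) F)) := by
  obtain ⟨σ, hσ, hf⟩ := TransvMax.exists_herm_setting hF n
  refine TransvMax.maximal_in_guSL hf hF (by omega) _ inf_le_right ?_ fun K hHK hK hgK => ?_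
  · obtain ⟨w, hwW, hw0⟩ := Submodule.exists_mem_ne_zero_of_ne_bot hW0
    have hcd := TransvMax.hPerp_nondeg hf hW
    have hge := TransvMax.finrank_hPerp_ge hf W
    rw [Fintype.card_fin] at hge
    obtain ⟨c, hc, hc0⟩ := Submodule.exists_mem_ne_zero_of_ne_bot
      (show TransvMax.hPerp hf W ≠ ⊥ from fun h => by rw [h, finrank_bot] at hge; omega)
    obtain ⟨u, hu, huv⟩ := TransvMax.exists_iso_values hf (v := ![c, w])
      (linearIndependent_finCons.2 ⟨by simp [hw0], fun h => hc0 (by
        simp only [Matrix.range_cons, Matrix.range_empty, Set.union_empty,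
          Submodule.mem_span_singleton] at h
        obtain ⟨s, rfl⟩ := h
        exact Submodule.disjoint_def.1 hcd.disjoint _ (W.smul_mem s hwW) hc)⟩)
      (by rw [Fintype.card_fin]; omega) ![1, 1]
    obtain ⟨e, he0, he⟩ := TransvMax.exists_trace_zero hf.ne_refl hf.involutive
    refine ⟨TransvMax.utrv hf hu e, TransvMax.utrv_mem_guSL hf hu he, fun h => ?_⟩
    have h1 := (h.1 w).1 hwW
    change (TransvMax.utrv hf hu e : Matrix (Fin n) (Fin n) F) *ᵥ w ∈ W at h1
    rw [TransvMax.utrv_mulVec] at h1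
    have hwu : Cfsg.hermForm n F q w u = 1 := by
      rw [hf.herm, show Cfsg.hermForm n F q u w = 1 from huv 1, map_one]
    rw [hwu, mul_one] at h1
    have h2 : e • u ∈ W := by simpa using W.sub_mem h1 hwW
    have h3 : u ∈ W := by simpa [smul_smul, inv_mul_cancel₀ he0] using W.smul_mem e⁻¹ h2
    exact zero_ne_one ((TransvMax.herm_eq_zero_comm hf (hc u h3)).symm.trans
      (show Cfsg.hermForm n F q u c = 1 from huv 0))
  · obtain ⟨g, hgK, hg⟩ := hgK
    have hg' : ¬ ∀ w ∈ W, (g : Matrix (Fin n) (Fin n) F) *ᵥ w ∈ W := fun h => hg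
      ⟨fun v => TransvMax.subspace_mem_iff_of_le (g := TransvMax.linOf g) h v, hK hgK⟩
    push Not at hg'
    obtain ⟨w₀, hw₀, hgw₀⟩ := hg'
    exact TransvMax.isoCentre_of_over_nondeg hf (by rwa [Fintype.card_fin]) hW
      (by rwa [Fintype.card_fin]) (fun g hg => (hK hg).1)
      (fun h hS hiso hs => hHK ⟨fun v => TransvMax.subspace_mem_iff_of_le (g := TransvMax.linOf h) hs v,
        hiso, hS⟩) hgK hw₀ hgw₀

end Cfsg.Agent.S5654
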