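import Cfsg.Statements.S5655
import Cfsg.Agent.Lib.TransvMax.UFrame.Coords

set_option autoImplicit false
open Cfsg

namespace Cfsg.Agent.S5655

/-- Let F be the field with q² elements and n ≥ 13. Let D be a decomposition of F^n into t ≥ 2 pairwise orthogonal subspaces of equal dimension k, each non-degenerate for the standard unitary form, spanning F^n. Unless k = 2 and q = 2, the elements of SU_n(q) permuting the members of D form a maximal subgroup of SU_n(q). -/
theorem result {F : Type*} [Field F] [Fintype F] (n q : ℕ) (hF : Fintype.card F = q ^ 2) (hn : 13 ≤ n) {t : ℕ} (k : ℕ) (D : Fin t → Submodule F (Fin n → F)) (hD : Cfsg.Geo.IsNondegenerateMDecomposition (Cfsg.hermForm n F q) k D) (hex : ¬ (k = 2 ∧ q = 2)) : Cfsg.Geo.IsMaximalIn (Cfsg.GU n F q ⊓ Cfsg.Geo.specialLinear (Fin n) F) (Cfsg.Geo.decompositionStabilizer D ⊓ (Cfsg.GU n F q ⊓ Cfsg.Geo.specialLinear (Fin n) F)) := by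
  classical
  obtain ⟨σ, hσ, hf⟩ := TransvMax.exists_herm_setting hF n
  have S : UFrame.Sq q σ := ⟨hF, hσ, hf.involutive, hf.ne_refl⟩
  obtain ⟨blk, P, hP, hsize, hm⟩ := UFrame.exists_frame S hD
  have hiff : ∀ g : Matrix.GeneralLinearGroup (Fin n) F, g ∈ Cfsg.Geo.decompositionStabilizer D ↔
      UFrame.BlockPerm blk (P⁻¹ * g * P) :=
    fun g => UFrame.mem_stab_iff hm hD.decomp.finrank_eq
  refine TransvMax.maximal_in_guSL (S.unitary n) hF (by omega) _ inf_le_right ?_
    fun K hHK hK hgK u hu => ?_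
  · obtain ⟨g, hg, hgn⟩ :=
      UFrame.exists_not_blockPerm S hD.decomp.two_le hn hsize hD.decomp.pos
    refine ⟨P * g * P⁻¹, UFrame.conj_mem_sU hP hg, fun h => hgn ?_⟩
    have := (hiff _).1 h.1
    rwa [show P⁻¹ * (P * g * P⁻¹) * P = g by group] at this
  · let K' := K.comap (MulAut.conj P).toMonoidHom
    have O : UFrame.Over q σ blk K' :=
      { sq := S
        dim := hn
        size := ⟨k, hD.decomp.pos, hsize⟩
        le := fun g hg => by
          have h1 := UFrame.conj_mem_sU ((Cfsg.GU n F q).inv_mem hP) (hK (show P * g * P⁻¹ ∈ K from hg))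
          rwa [show P⁻¹ * (P * g * P⁻¹) * P⁻¹⁻¹ = g by group] at h1
        stab := fun g hg hb => by
          show P * g * P⁻¹ ∈ K
          refine hHK ⟨(hiff _).2 ?_, UFrame.conj_mem_sU hP hg⟩
          rwa [show P⁻¹ * (P * g * P⁻¹) * P = g by group] }
    obtain ⟨g, hg, hgn⟩ := hgK
    have hg' : P⁻¹ * g * P ∈ K' := by
      show P * (P⁻¹ * g * P) * P⁻¹ ∈ K
      rwa [show P * (P⁻¹ * g * P) * P⁻¹ = g by group]
    have hgn' : ¬ UFrame.BlockPerm blk (P⁻¹ * g * P) := fun h => hgn ⟨(hiff g).2 h, hK hg⟩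
    have hcen := O.cen_of_over hg' hgn' (fun hq2 a => by
      rw [hsize a]
      exact fun h => hex ⟨h, hq2⟩) (((P⁻¹ : Matrix.GeneralLinearGroup (Fin n) F) :
        Matrix (Fin n) (Fin n) F).mulVec u) (by
      rw [← S.herm_apply, ← TransvMax.mem_GU_iff.1 hP, TransvMax.mulVec_inv_mulVec]
      exact hu)
    have := UFrame.isoCentre_conj S hP hcen
    rwa [TransvMax.mulVec_inv_mulVec] at this

end Cfsg.Agent.S5655
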