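import Cfsg.Agent.Lib.TransvMax.Frame
import Cfsg.Agent.Lib.TransvMax.UnitaryGen
-- import your own Cfsg.Agent.* helpers here

set_option autoImplicit false
open Cfsg

namespace Cfsg.Agent.S5656

open Cfsg.Agent Matrix

variable {F : Type*} [Field F] [Fintype F] {n : ℕ} {σ : F ≃+* F}

theorem herm_rankOne (hf : Cfsg.Geo.IsUnitaryForm σ (Cfsg.hermForm n F 2))
    (h2 : (2 : F) = 0) (v : Fin n → F) (hv : Cfsg.hermForm n F 2 v v = 0) :
    ∃ g : GL (Fin n) F, g ∈ Cfsg.GU n F 2 ⊓ Cfsg.Geo.specialLinear (Fin n) F ∧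
      ∀ x, (g : Matrix (Fin n) (Fin n) F) *ᵥ x = x + Cfsg.hermForm n F 2 x v • v := by
  let φ : (Fin n → F) →ₗ[F] F :=
    { toFun := fun x => Cfsg.hermForm n F 2 x v
      map_add' := fun x y => hf.add_left x y v
      map_smul' := fun c x => hf.smul_left c x v }
  obtain ⟨g, hg, hd⟩ := FrameLib.exists_rankOne φ v (by
    show 1 + Cfsg.hermForm n F 2 v v ≠ 0
    rw [hv, add_zero]; exact one_ne_zero)
  refine ⟨g, ⟨fun x y => ?_, ?_⟩, hg⟩
  · show Cfsg.hermForm n F 2 ((g : Matrix (Fin n) (Fin n) F) *ᵥ x) ((g : Matrix (Fin n) (Fin n) F) *ᵥ y) = _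
    rw [hg, hg]
    have hr : ∀ a b c, Cfsg.hermForm n F 2 a (b + c) = Cfsg.hermForm n F 2 a b + Cfsg.hermForm n F 2 a c := by
      intro a b c
      rw [hf.herm a, hf.add_left, map_add, ← hf.herm, ← hf.herm]
    have hrs : ∀ (r : F) a b, Cfsg.hermForm n F 2 a (r • b) = σ r * Cfsg.hermForm n F 2 a b := by
      intro r a b
      rw [hf.herm a, hf.smul_left, map_mul, ← hf.herm]
    show Cfsg.hermForm n F 2 (x + φ x • v) (y + φ y • v) = _
    rw [hr, hf.add_left, hf.add_left, hrs, hrs, hf.smul_left, hf.smul_left, hv]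
    show _ + Cfsg.hermForm n F 2 x v * Cfsg.hermForm n F 2 v y +
      (σ (Cfsg.hermForm n F 2 y v) * Cfsg.hermForm n F 2 x v + _) = _
    rw [← hf.herm v y]
    linear_combination (Cfsg.hermForm n F 2 x v * Cfsg.hermForm n F 2 v y) * h2
  · show g ∈ Cfsg.Geo.specialLinear (Fin n) F
    rw [FrameLib.mem_SL_iff, hd]
    show 1 + Cfsg.hermForm n F 2 v v = 1
    rw [hv, add_zero]

theorem norm_one_iff (hF : Fintype.card F = 4) (a : F) : a * a ^ 2 = 1 ↔ a ≠ 0 := by
  refine ⟨fun h h0 => by simp [h0] at h, fun h => ?_⟩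
  have := FiniteField.pow_card_sub_one_eq_one a h
  rw [hF] at this
  linear_combination this

theorem exists_frame_pair (hF : Fintype.card F = 4) (hf : Cfsg.Geo.IsUnitaryForm σ (Cfsg.hermForm n F 2))
    (hσ : ∀ a, σ a = a ^ 2) {W : Submodule F (Fin n → F)} (hd : Module.finrank F W = 2)
    (hW : Cfsg.Geo.IsNondegenerateOn (Cfsg.hermForm n F 2) W) :
    ∃ b : Module.Basis (Fin 2) F W, ∀ i j,
      Cfsg.hermForm n F 2 (b i : Fin n → F) (b j : Fin n → F) = if i = j then 1 else 0 := by
  classical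
  set h := Cfsg.hermForm n F 2
  have hr : ∀ a b c, h a (b + c) = h a b + h a c := by
    intro a b c
    rw [hf.herm a, hf.add_left, map_add, ← hf.herm, ← hf.herm]
  have hrs : ∀ (r : F) a b, h a (r • b) = r ^ 2 * h a b := by
    intro r a b
    rw [hf.herm a, hf.smul_left, map_mul, ← hf.herm, hσ]
  have h2 : (2 : F) = 0 := by
    have hcast := FiniteField.cast_card_eq_zero F
    rw [hF] at hcast
    have : (2 : F) * 2 = 0 := by push_cast at hcast; linear_combination hcast
    exact mul_self_eq_zero.mp this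
  have hnorm : ∀ u, h u u ≠ 0 → h u u = 1 := by
    intro u hu
    have h1 : h u u = h u u ^ 2 := by rw [← hσ, ← hf.herm]
    exact mul_left_cancel₀ hu (by linear_combination -h1)
  obtain ⟨u, hu, hu1⟩ : ∃ u ∈ W, h u u ≠ 0 := by
    by_contra hall
    push Not at hall
    obtain ⟨w, hw, hw0⟩ := (Submodule.ne_bot_iff W).mp (fun e => by rw [e, finrank_bot] at hd; omega)
    obtain ⟨x, hx, hxw⟩ := (hW w hw hw0).1
    have key : ∀ r : F, r * h x w + r ^ 2 * σ (h x w) = 0 := fun r => by
      have := hall _ (W.add_mem hw (W.smul_mem r hx))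
      rw [hr, hf.add_left, hf.add_left, hrs, hrs, hf.smul_left, hf.smul_left, hall w hw, hall x hx,
        hf.herm w x] at this
      linear_combination this
    -- two scalars suffice
    obtain ⟨r, hr0, hr1⟩ : ∃ r : F, r ≠ 0 ∧ r ≠ 1 := by
      by_contra hh
      push Not at hh
      have : Fintype.card F ≤ ({0, 1} : Finset F).card := Finset.card_le_card (s := Finset.univ) (fun a _ => by
        by_cases ha : a = 0
        · simp [ha]
        · simp [hh a ha])
      have := Finset.card_le_two (a := (0 : F)) (b := 1)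
      omega
    have k1 := key 1
    have k2 := key r
    have : (r - r ^ 2) * h x w = 0 := by linear_combination k2 - r ^ 2 * k1
    rcases mul_eq_zero.mp this with e | e
    · rcases mul_eq_zero.mp (show r * (1 - r) = 0 by linear_combination e) with e' | e'
      · exact hr0 e'
      · exact hr1 (sub_eq_zero.mp e').symm
    · exact hxw e
  have hu1' := hnorm u hu1
  obtain ⟨z, hz, hzu⟩ : ∃ z ∈ W, z ∉ Submodule.span F {u} := by
    by_contra hall
    push Not at hall
    have := Submodule.finrank_mono (show W ≤ Submodule.span F {u} from hall)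
    have hu0 : u ≠ 0 := fun e => hu1 (by
      rw [e, show (0 : Fin n → F) = (0 : F) • (0 : Fin n → F) from (zero_smul ..).symm, hf.smul_left, zero_mul])
    rw [finrank_span_singleton hu0, hd] at this
    omega
  set w := z + h z u • u with hw
  have hwu : h w u = 0 := by
    rw [hw, hf.add_left, hf.smul_left, hu1']
    linear_combination (h z u) * h2
  have huw : h u w = 0 := by rw [hf.herm, hwu, map_zero]
  have hli : LinearIndependent F ![(⟨u, hu⟩ : W), ⟨w, W.add_mem hz (W.smul_mem _ hu)⟩] := by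
    rw [LinearIndependent.pair_iff]
    intro a b hab
    have hab' : a • u + b • w = 0 := congrArg Subtype.val hab
    have hb : b = 0 := by
      by_contra hb
      apply hzu
      rw [Submodule.mem_span_singleton]
      refine ⟨-(b⁻¹ * a) - h z u, ?_⟩
      have : b • z = -((a + b * h z u) • u) := by
        rw [eq_neg_iff_add_eq_zero, ← hab', hw, smul_add, add_smul, smul_smul]; abel
      calc (-(b⁻¹ * a) - h z u) • u = b⁻¹ • (-((a + b * h z u) • u)) := by
            rw [smul_neg, smul_smul, ← neg_smul]; congr 1; field_simp; ring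
        _ = z := by rw [← this, inv_smul_smul₀ hb]
    refine ⟨?_, hb⟩
    have h1 := congrArg (fun y => h y u) hab'
    simp only [hb, zero_smul, add_zero, hf.smul_left, hu1', mul_one] at h1
    rw [h1, show (0 : Fin n → F) = (0 : F) • (0 : Fin n → F) from (zero_smul ..).symm, hf.smul_left, zero_mul]
  let b := basisOfLinearIndependentOfCardEqFinrank hli (by rw [hd]; rfl)
  have hb : ∀ i, (b i : Fin n → F) = ![u, w] i := fun i => by
    rw [show b i = ![(⟨u, hu⟩ : W), ⟨w, W.add_mem hz (W.smul_mem _ hu)⟩] i from by simp [b]]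
    fin_cases i <;> rfl
  have hww : h w w = 1 := by
    refine hnorm w fun e => ?_
    have hwW : w ∈ W := W.add_mem hz (W.smul_mem _ hu)
    have hw0 : w ≠ 0 := fun e => hli.ne_zero 1 (Subtype.ext e)
    obtain ⟨x, hx, hxw⟩ := (hW w hwW hw0).1
    apply hxw
    have hsum := congrArg Subtype.val (b.sum_repr ⟨x, hx⟩)
    simp only [Fin.sum_univ_two, Submodule.coe_add, Submodule.coe_smul, hb] at hsum
    rw [← hsum, hf.add_left, hf.smul_left, hf.smul_left]
    simp [huw, e]
  refine ⟨b, fun i j => ?_⟩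
  rw [hb, hb]
  fin_cases i <;> fin_cases j <;> simp [hu1', hwu, huw, hww]

/-- Let F be the field with 4 elements (q = 2) and n ≥ 13. Let D be a decomposition of F^n into t pairwise orthogonal 2-dimensional subspaces, each non-degenerate for the standard unitary form Σ u_i v_i². Then the elements of SU_n(2) permuting the members of D form a subgroup that is not maximal: some subgroup lies strictly between it and SU_n(2). -/
theorem result {F : Type*} [Field F] [Fintype F] (n : ℕ) (hF : Fintype.card F = 4) (hn : 13 ≤ n) {t : ℕ} (D : Fin t → Submodule F (Fin n → F)) (hD : Cfsg.Geo.IsNondegenerateMDecomposition (Cfsg.hermForm n F 2) 2 D) : ∃ K : Subgroup (Matrix.GeneralLinearGroup (Fin n) F), Cfsg.Geo.decompositionStabilizer D ⊓ (Cfsg.GU n F 2 ⊓ Cfsg.Geo.specialLinear (Fin n) F) < K ∧ K < (Cfsg.GU n F 2 ⊓ Cfsg.Geo.specialLinear (Fin n) F) := by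
  classical
  obtain ⟨σ, hσ, hf⟩ := TransvMax.exists_herm_setting (q := 2) (by rw [hF]; norm_num) n
  set h := Cfsg.hermForm n F 2
  have h2 : (2 : F) = 0 := by
    have hcast := FiniteField.cast_card_eq_zero F
    rw [hF] at hcast
    have : (2 : F) * 2 = 0 := by push_cast at hcast; linear_combination hcast
    exact mul_self_eq_zero.mp this
  choose b hb using fun i => exists_frame_pair hF hf hσ (hD.decomp.finrank_eq i) (hD.nondegenerate i)
  obtain ⟨c, hc, hcb⟩ := FrameLib.exists_coords_of_basis hD.decomp.indep hD.decomp.iSup_eq_top b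
  set e : Fin t → Fin 2 → Fin n → F := fun i a => (b i a : Fin n → F)
  have hmem : ∀ i a, e i a ∈ D i := fun i a => (b i a).2
  have hee : ∀ i a j a', h (e i a) (e j a') = if i = j ∧ a = a' then 1 else 0 := by
    intro i a j a'
    by_cases hij : i = j
    · subst hij; simpa using hb i a a'
    · rw [if_neg (fun e => hij e.1)]
      exact hD.orthogonal i j hij _ (hmem i a) _ (hmem j a')
  have hce : ∀ i a, c (e i a) = Pi.single i (Pi.single a 1) := hcb
  have ht : t * 2 = n := by
    have := c.finrank_eq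
    simp [Module.finrank_pi_fintype] at this
    exact this.symm
  let p : Fin 4 → Fin t := fun k => ⟨k.val, by omega⟩
  have hp : Function.Injective p := fun a b e => Fin.ext (by simpa [p] using congrArg Fin.val e)
  set P : (Fin n → F) → Prop := fun x => ∃ (i : Fin t) (a : Fin 2) (r : F), r ≠ 0 ∧ x = r • e i a
  have hnorm : ∀ j w, w ∈ D j → (P w ↔ h w w ≠ 0) := by
    intro j w hw
    constructor
    · rintro ⟨i, a, r, hr, rfl⟩
      rw [hf.smul_left, hf.herm, hf.smul_left, map_mul, hσ, hee, if_pos ⟨rfl, rfl⟩, map_one, mul_one,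
        (norm_one_iff hF r).mpr hr]
      exact one_ne_zero
    · intro hne
      have hsum : w = (b j).repr ⟨w, hw⟩ 0 • e j 0 + (b j).repr ⟨w, hw⟩ 1 • e j 1 := by
        have := congrArg Subtype.val ((b j).sum_repr ⟨w, hw⟩)
        simp only [Fin.sum_univ_two, Submodule.coe_add, Submodule.coe_smul] at this
        exact this.symm
      generalize (b j).repr ⟨w, hw⟩ 0 = x at hsum
      generalize (b j).repr ⟨w, hw⟩ 1 = y at hsum
      have hr : ∀ (r : F) a b, h a (r • b) = r ^ 2 * h a b := by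
        intro r a b
        rw [hf.herm a, hf.smul_left, map_mul, ← hf.herm, hσ]
      have hadd : ∀ a b c, h a (b + c) = h a b + h a c := by
        intro a b c
        rw [hf.herm a, hf.add_left, map_add, ← hf.herm, ← hf.herm]
      have hval : h w w = x * x ^ 2 + y * y ^ 2 := by
        rw [hsum, hadd, hf.add_left, hf.add_left, hf.smul_left, hf.smul_left, hf.smul_left, hf.smul_left,
          hr, hr, hr, hr, hee, hee, hee, hee]
        simp
      by_cases hx : x = 0
      · by_cases hy : y = 0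
        · exact absurd (by rw [hval, hx, hy]; ring) hne
        · exact ⟨j, 1, y, hy, by rw [hsum, hx, zero_smul, zero_add]⟩
      · by_cases hy : y = 0
        · exact ⟨j, 0, x, hx, by rw [hsum, hy, zero_smul, add_zero]⟩
        · exact absurd (by rw [hval, (norm_one_iff hF x).mpr hx, (norm_one_iff hF y).mpr hy]; linear_combination h2) hne
  have hone : ∀ g : GL (Fin n) F, g ∈ Cfsg.Geo.decompositionStabilizer D → g ∈ Cfsg.GU n F 2 →
      ∀ x, P x → P ((g : Matrix (Fin n) (Fin n) F) *ᵥ x) := by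
    rintro g ⟨π, hπ⟩ hgU x hx
    obtain ⟨i, a, r, hr, hxe⟩ := id hx
    have hxD : x ∈ D i := hxe ▸ (D i).smul_mem r (hmem i a)
    have hgx : (g : Matrix (Fin n) (Fin n) F) *ᵥ x ∈ D (π i) := by
      rw [← hπ i]; exact ⟨x, hxD, Matrix.toLin'_apply ..⟩
    rw [hnorm _ _ hgx]
    show Cfsg.hermForm n F 2 _ _ ≠ 0
    rw [show Cfsg.hermForm n F 2 ((g : Matrix (Fin n) (Fin n) F) *ᵥ x) ((g : Matrix (Fin n) (Fin n) F) *ᵥ x) =
      h x x from hgU x x]
    exact (hnorm i x hxD).mp hx
  have hPe : ∀ i a, P (e i a) := fun i a => ⟨i, a, 1, one_ne_zero, (one_smul ..).symm⟩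
  refine ⟨FrameLib.presGroup P ⊓ (Cfsg.GU n F 2 ⊓ Cfsg.Geo.specialLinear (Fin n) F),
    lt_of_le_of_ne (fun g hg => ⟨fun x => propext ⟨fun hx => ?_, hone g hg.1 hg.2.1 x⟩, hg.2⟩) ?_,
    lt_of_le_of_ne inf_le_right ?_⟩
  · have := hone g⁻¹ (inv_mem hg.1) (inv_mem hg.2.1) _ hx
    rwa [Matrix.mulVec_mulVec, Units.inv_mul, Matrix.one_mulVec] at this
  · intro hK
    set v := e (p 0) 0 + e (p 1) 0 with hv
    have h01 : p 0 ≠ p 1 := by simp [hp.eq_iff]
    have hev : ∀ i a, h (e i a) v = if a = 0 ∧ (i = p 0 ∨ i = p 1) then 1 else 0 := by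
      intro i a
      rw [hf.herm, hv, hf.add_left, map_add, ← hf.herm, ← hf.herm, hee, hee]
      by_cases ha : a = 0 <;> by_cases h0 : i = p 0 <;> by_cases h1 : i = p 1 <;> simp_all
    have hvv : h v v = 0 := by
      rw [hv, hf.add_left, ← hv, hev, hev]
      simp
      linear_combination h2
    obtain ⟨g, hgU, hg⟩ := herm_rankOne hf h2 v hvv
    change ∀ x, (g : Matrix (Fin n) (Fin n) F) *ᵥ x = x + h x v • v at hg
    have g0 : (g : Matrix (Fin n) (Fin n) F) *ᵥ e (p 0) 0 = e (p 1) 0 := by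
      rw [hg, hev, if_pos ⟨rfl, Or.inl rfl⟩, one_smul, hv, ← add_assoc, ← two_smul F, h2, zero_smul, zero_add]
    have g1 : (g : Matrix (Fin n) (Fin n) F) *ᵥ e (p 1) 0 = e (p 0) 0 := by
      rw [hg, hev, if_pos ⟨rfl, Or.inr rfl⟩, one_smul, hv, add_left_comm, ← two_smul F, h2, zero_smul,
        add_zero]
    have gf : ∀ i a, ¬ (a = 0 ∧ (i = p 0 ∨ i = p 1)) →
        (g : Matrix (Fin n) (Fin n) F) *ᵥ e i a = e i a := by
      intro i a hia
      rw [hg, hev, if_neg hia, zero_smul, add_zero]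
    have hgP : ∀ x, P x → P ((g : Matrix (Fin n) (Fin n) F) *ᵥ x) := by
      rintro _ ⟨i, a, r, hr, rfl⟩
      rw [Matrix.mulVec_smul]
      by_cases hia : a = 0 ∧ (i = p 0 ∨ i = p 1)
      · obtain ⟨rfl, rfl | rfl⟩ := hia
        · exact ⟨_, _, r, hr, by rw [g0]⟩
        · exact ⟨_, _, r, hr, by rw [g1]⟩
      · exact ⟨_, _, r, hr, by rw [gf i a hia]⟩
    have hgg : ∀ x, (g : Matrix (Fin n) (Fin n) F) *ᵥ ((g : Matrix (Fin n) (Fin n) F) *ᵥ x) = x := by
      intro x
      have hgv : (g : Matrix (Fin n) (Fin n) F) *ᵥ v = v := by rw [hg, hvv, zero_smul, add_zero]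
      nth_rw 2 [hg]
      rw [Matrix.mulVec_add, Matrix.mulVec_smul, hgv, hg, add_assoc, ← two_smul F, h2, zero_smul, add_zero]
    have hgK : g ∈ FrameLib.presGroup P ⊓ (Cfsg.GU n F 2 ⊓ Cfsg.Geo.specialLinear (Fin n) F) :=
      ⟨fun x => propext ⟨fun hx => by simpa [hgg] using hgP _ hx, hgP x⟩, hgU⟩
    rw [← hK] at hgK
    obtain ⟨π, hπ⟩ := hgK.1
    have d0 : e (p 1) 0 ∈ D (π (p 0)) := by
      rw [← hπ, ← g0]; exact ⟨_, hmem _ _, Matrix.toLin'_apply ..⟩
    have d1 : e (p 0) 1 ∈ D (π (p 0)) := by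
      rw [← hπ, ← gf (p 0) 1 (by simp)]; exact ⟨_, hmem _ _, Matrix.toLin'_apply ..⟩
    have l0 : π (p 0) = p 1 := by
      by_contra hne
      have := (hc _ _).mp d0 (p 1) (Ne.symm hne)
      rw [hce, Pi.single_eq_same] at this
      simpa using congrFun this 0
    have l1 : π (p 0) = p 0 := by
      by_contra hne
      have := (hc _ _).mp d1 (p 0) (Ne.symm hne)
      rw [hce, Pi.single_eq_same] at this
      simpa using congrFun this 1
    exact h01 (l1.symm.trans l0)
  · intro hK
    set v := e (p 0) 0 + e (p 1) 0 + e (p 2) 0 + e (p 3) 0 with hv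
    have hev : ∀ k, h (e (p k) 0) v = 1 := by
      intro k
      rw [hf.herm, hv, hf.add_left, hf.add_left, hf.add_left, map_add, map_add, map_add, ← hf.herm,
        ← hf.herm, ← hf.herm, ← hf.herm, hee, hee, hee, hee]
      fin_cases k <;> simp [hp.eq_iff]
    have hvv : h v v = 0 := by
      rw [hv, hf.add_left, hf.add_left, hf.add_left, ← hv, hev, hev, hev, hev]
      linear_combination 2 * h2
    obtain ⟨g, hgU, hg⟩ := herm_rankOne hf h2 v hvv
    change ∀ x, (g : Matrix (Fin n) (Fin n) F) *ᵥ x = x + h x v • v at hg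
    rw [← hK] at hgU
    have hgP := hgU.1 (e (p 0) 0)
    obtain ⟨i, a, r, hr, heq⟩ := (cast hgP.symm (hPe _ _) : P _)
    rw [hg, hev, one_smul, hv] at heq
    have k1 := congrFun (congrFun (congrArg c heq) (p 1)) 0
    have k2 := congrFun (congrFun (congrArg c heq) (p 2)) 0
    simp only [map_add, map_smul, hce, Pi.add_apply, Pi.smul_apply, Pi.single_apply, hp.eq_iff] at k1 k2
    simp at k1 k2
    by_cases h1 : i = p 1
    · subst h1
      simp [hp.eq_iff] at k2
    · simp [Ne.symm h1] at k1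

end Cfsg.Agent.S5656
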