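import Cfsg.Statements.S5657
import Cfsg.Agent.Lib.TransvMax.LagrSU
-- import your own Cfsg.Agent.* helpers here

set_option autoImplicit false
open Cfsg

namespace Cfsg.Agent.S5657

open Cfsg.Agent
open scoped Matrix MatrixGroups

/-- Let F be the field with q² elements and n = 2k ≥ 13. Let D be a decomposition of F^n into two complementary subspaces of dimension k on each of which the standard unitary form vanishes identically. Then the elements of SU_n(q) preserving or interchanging the two subspaces form a maximal subgroup of SU_n(q). -/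
theorem result {F : Type*} [Field F] [Fintype F] (n q : ℕ) (hF : Fintype.card F = q ^ 2) (hn : 13 ≤ n) (k : ℕ) (hk : 2 * k = n) (D : Fin 2 → Submodule F (Fin n → F)) (hD : Cfsg.Geo.IsMDecomposition k D) (hts : ∀ i, Cfsg.Geo.IsTotallySingularFor (Cfsg.hermForm n F q) (D i)) : Cfsg.Geo.IsMaximalIn (Cfsg.GU n F q ⊓ Cfsg.Geo.specialLinear (Fin n) F) (Cfsg.Geo.decompositionStabilizer D ⊓ (Cfsg.GU n F q ⊓ Cfsg.Geo.specialLinear (Fin n) F)) := by
  obtain ⟨σ, hσ, hf⟩ := TransvMax.exists_herm_setting hF n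
  have hd : IsCompl (D 0) (D 1) := by
    refine ⟨hD.indep.pairwiseDisjoint (show (0 : Fin 2) ≠ 1 by decide),
      codisjoint_iff.2 (eq_top_iff.2 ?_)⟩
    rw [← hD.iSup_eq_top]
    refine iSup_le fun i => ?_
    fin_cases i
    · exact le_sup_left
    · exact le_sup_right
  have S : TransvMax.HPair σ (Cfsg.hermForm n F q) (D 0) (D 1) :=
    { herm := hf
      compl := hd
      isoU := hts 0
      isoW := hts 1
      dimU := by rw [hD.finrank_eq, hD.finrank_eq]
      five := by rw [hD.finrank_eq]; omega }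
  have hiff : ∀ g : GL (Fin n) F, g ∈ Cfsg.Geo.decompositionStabilizer D ↔
      TransvMax.MapsPair (D 0) (D 1) g := by
    intro g
    have hmem : ∀ {a b : Fin 2}, (D a).map (Matrix.toLin' (g : Matrix (Fin n) (Fin n) F)) = D b ↔
        ∀ x ∈ D a, (g : Matrix (Fin n) (Fin n) F) *ᵥ x ∈ D b := by
      intro a b
      constructor
      · intro h x hx
        rw [← h]
        exact ⟨x, hx, Matrix.toLin'_apply _ _⟩
      · intro h
        refine Submodule.eq_of_le_of_finrank_eq (by
          rintro _ ⟨x, hx, rfl⟩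
          rw [Matrix.toLin'_apply]
          exact h x hx) ?_
        rw [← LinearEquiv.finrank_eq (Submodule.equivMapOfInjective _ (fun x y hxy => by
          simpa [Matrix.toLin'_apply, TransvMax.inv_mulVec_mulVec] using
            congrArg (((g⁻¹ : GL (Fin n) F) : Matrix (Fin n) (Fin n) F) *ᵥ ·) hxy) (D a)),
          hD.finrank_eq, hD.finrank_eq]
    constructor
    · rintro ⟨π, hπ⟩
      obtain ⟨h0, h1⟩ | ⟨h0, h1⟩ : (π 0 = 0 ∧ π 1 = 1) ∨ (π 0 = 1 ∧ π 1 = 0) :=
        (show ∀ π : Equiv.Perm (Fin 2), (π 0 = 0 ∧ π 1 = 1) ∨ (π 0 = 1 ∧ π 1 = 0) by decide) π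
      · exact Or.inl ⟨hmem.1 (by rw [hπ, h0]), hmem.1 (by rw [hπ, h1])⟩
      · exact Or.inr ⟨hmem.1 (by rw [hπ, h0]), hmem.1 (by rw [hπ, h1])⟩
    · rintro (⟨h0, h1⟩ | ⟨h0, h1⟩)
      · exact ⟨1, fun a => by fin_cases a <;> simpa using hmem.2 ‹_›⟩
      · exact ⟨Equiv.swap 0 1, fun a => by fin_cases a <;> simpa using hmem.2 ‹_›⟩
  refine TransvMax.maximal_in_guSL hf hF (by omega) _ inf_le_right ?_ fun K hHK hK hgK => ?_
  · obtain ⟨u, hu, e, he, hnot⟩ := S.exists_not_maps
    exact ⟨_, TransvMax.utrv_mem_guSL hf hu he, fun h => hnot ((hiff _).1 h.1)⟩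
  · obtain ⟨g, hgK, hg⟩ := hgK
    exact S.isoCentre_of_over (fun x hx => (hK hx).1)
      (fun h hS hiso hm => hHK ⟨(hiff h).2 hm, hiso, hS⟩) hgK
      (fun hm => hg ⟨(hiff g).2 hm, hK hgK⟩)

end Cfsg.Agent.S5657
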