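import Cfsg.Statements.S5658
import Cfsg.Agent.Lib.TransvMax.UnitarySubfieldTop
-- import your own Cfsg.Agent.* helpers here

set_option autoImplicit false
open Cfsg

namespace Cfsg.Agent.S5658

open Cfsg.Agent Cfsg.Agent.TransvMax
open scoped Matrix MatrixGroups

/-- Let F be the field with q² elements, n ≥ 13, and F₀ a subfield with |F| = |F₀| ^ r for an odd prime r. Let P be an invertible matrix such that the standard unitary form takes values in F₀ on the F₀-span of the columns of P. Then the elements of SU_n(q) lying in the subfield group of P (the conjugate by P of the product of GL_n(F₀) with the scalars) form a maximal subgroup of SU_n(q). -/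
theorem result {F : Type*} [Field F] [Fintype F] (n q : ℕ) (hF : Fintype.card F = q ^ 2) (hn : 13 ≤ n) (F₀ : Subfield F) (r : ℕ) (hr : r.Prime) (hro : Odd r) (hcard : Fintype.card F = Nat.card F₀ ^ r) (P : Matrix.GeneralLinearGroup (Fin n) F) (hP : Cfsg.Geo.IsFormRationalStructure (Cfsg.hermForm n F q) F₀ 1 P) : Cfsg.Geo.IsMaximalIn (Cfsg.GU n F q ⊓ Cfsg.Geo.specialLinear (Fin n) F) (Cfsg.Geo.subfieldSubgroup F₀ P ⊓ (Cfsg.GU n F q ⊓ Cfsg.Geo.specialLinear (Fin n) F)) := by
  classical
  haveI := Fintype.ofFinite F₀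
  obtain ⟨σ, hσ, hf⟩ := exists_herm_setting hF n
  have h3r : 3 ≤ r := by
    have := hr.two_le
    rcases hro with ⟨k, hk⟩
    omega
  -- not every element is quadratic over the subfield
  have hquad : ¬ ∀ x : F, x + σ x ∈ F₀ ∧ x * σ x ∈ F₀ := by
    intro h
    obtain ⟨x, hx⟩ : ∃ x : F, x ∉ F₀ := by
      by_contra hc
      push Not at hc
      have hbij : Function.Bijective (Subtype.val : F₀ → F) :=
        ⟨Subtype.val_injective, fun x => ⟨⟨x, hc x⟩, rfl⟩⟩
      have h1 := Nat.card_eq_of_bijective _ hbij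
      rw [Nat.card_eq_fintype_card (α := F), hcard] at h1
      have h2 : 1 < Nat.card F₀ := Finite.one_lt_card
      have h3 := Nat.pow_lt_pow_right h2 hr.one_lt
      rw [pow_one] at h3
      omega
    obtain ⟨ht, hn'⟩ := h x
    let W : Set F := Set.range fun p : F₀ × F₀ => (p.1 : F) + p.2 * x
    have hW : ∀ z, z ∈ W := eq_univ_of_prime_degree F₀ hr hcard
      (fun y hy => ⟨(⟨y, hy⟩, 0), by simp⟩)
      (by rintro _ ⟨p, rfl⟩ _ ⟨p', rfl⟩; exact ⟨p + p', by simp [add_mul]; ring⟩)
      (by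
        rintro _ ⟨p, rfl⟩ _ ⟨p', rfl⟩
        refine ⟨(p.1 * p'.1 - p.2 * p'.2 * ⟨_, hn'⟩,
          p.1 * p'.2 + p.2 * p'.1 + p.2 * p'.2 * ⟨_, ht⟩), ?_⟩
        push_cast
        ring)
      (x := x) ⟨(0, 1), by simp⟩ hx
    have h1 := Nat.card_le_card_of_surjective (fun p : F₀ × F₀ => (p.1 : F) + p.2 * x) hW
    rw [Nat.card_prod, Nat.card_eq_fintype_card (α := F), hcard, ← pow_two] at h1
    have h2 : 1 < Nat.card F₀ := Finite.one_lt_card
    exact absurd h1 (not_le.2 (Nat.pow_lt_pow_right h2 (by omega)))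
  have S : HRat σ (Cfsg.hermForm n F q) F₀ P :=
    { unit := hf
      rat := fun u v => by simpa [ratEmb] using hP _ _ (fun i => (u i).2) (fun i => (v i).2)
      stable := fun x hx => by rw [hσ]; exact F₀.pow_mem hx q
      moved := by
        by_contra hc
        push Not at hc
        by_cases hfix : ∀ y, σ y = y → y ∈ F₀
        · refine hquad fun x => ⟨hfix _ ?_, hfix _ ?_⟩
          · rw [map_add, hf.involutive, add_comm]
          · rw [map_mul, hf.involutive, mul_comm]
        · push Not at hfix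
          obtain ⟨y, hy, hy0⟩ := hfix
          refine hf.ne_refl (RingEquiv.ext fun z => ?_)
          exact eq_univ_of_prime_degree F₀ hr hcard (S := {z | σ z = z}) hc
            (fun a ha b hb => by show σ (a + b) = _; rw [map_add, ha, hb])
            (fun a ha b hb => by show σ (a * b) = _; rw [map_mul, ha, hb]) hy hy0 z
      dim := by rw [Fintype.card_fin]; exact hn }
  refine maximal_in_guSL hf hF (by omega) _ inf_le_right ?_ fun K hHK hK hgK => ?_
  · -- a transvection with an irrational coefficient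
    obtain ⟨e₀, he₀, he₀t⟩ := S.exists_trace_zero₀
    obtain ⟨N, hN, hNF⟩ : ∃ N : F, σ N = N ∧ N ∉ F₀ := by
      by_contra hc
      push Not at hc
      refine hquad fun x => ⟨hc _ ?_, hc _ ?_⟩
      · rw [map_add, hf.involutive, add_comm]
      · rw [map_mul, hf.involutive, mul_comm]
    have he : (e₀ : F) * N + σ ((e₀ : F) * N) = 0 := by
      rw [map_mul, hN]; linear_combination N * he₀t
    obtain ⟨a, ha, -, han⟩ := S.exists_iso_out (k := 0) ![] (by have := S.dim; omega)
    have ha0 : a ≠ 0 := fun e => han (e ▸ Submodule.zero_mem _)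
    obtain ⟨p, hp⟩ := exists_herm_values S.unit₀ (v := ![a]) (by simp [ha0]) ![1]
    refine ⟨utrv hf (S.perp ha) ((e₀ : F) * N), utrv_mem_guSL hf (S.perp ha) he, fun h => hNF ?_⟩
    obtain ⟨c, hc, hall⟩ := (mem_subfieldSubgroup_iff F₀ P _).1 h.1
    have hpa : Cfsg.hermForm n F q (ratEmb F₀ P p) (ratEmb F₀ P a) = 1 := S.coe_eq (hp 0)
    have hap : Cfsg.hermForm n F q (ratEmb F₀ P a) (ratEmb F₀ P p) = 1 := by
      rw [hf.herm, hpa, map_one]
    obtain ⟨z₁, hz₁⟩ := hall a
    obtain ⟨z₂, hz₂⟩ := hall p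
    rw [utrv_mulVec, S.perp ha, mul_zero, zero_smul, add_zero] at hz₁
    rw [utrv_mulVec, hpa, mul_one] at hz₂
    have k1 := congrArg (fun v => Cfsg.hermForm n F q v (ratEmb F₀ P p)) hz₁
    have k2 := congrArg (fun v => Cfsg.hermForm n F q v (ratEmb F₀ P p)) hz₂
    simp only [hf.smul_left, hf.add_left, hap, mul_one, ← S.coe_form₀] at k1 k2
    have hcF : c ∈ F₀ := k1 ▸ SetLike.coe_mem _
    have he₀F : (e₀ : F) ≠ 0 := fun e => he₀ (Subtype.ext e)
    rw [show N = ((S.form₀ z₂ p : F) - c * (S.form₀ p p : F)) / (c * e₀) by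
      rw [← k2]; field_simp; ring]
    exact F₀.div_mem (F₀.sub_mem (SetLike.coe_mem _) (F₀.mul_mem hcF (SetLike.coe_mem _)))
      (F₀.mul_mem hcF e₀.2)
  · obtain ⟨g, hgK, hg⟩ := hgK
    refine S.isoCentre_of_over_subfield hr hro hcard (fun x hx => (hK hx).1)
      (fun h hS hiso hrat => hHK ⟨(mem_subfieldSubgroup_iff F₀ P h).2 ⟨1, one_ne_zero, fun y => by
        simpa using hrat y⟩, hiso, hS⟩) hgK fun hall => hg ⟨?_, hK hgK⟩
    exact (mem_subfieldSubgroup_iff F₀ P g).2 hall

end Cfsg.Agent.S5658
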