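import Cfsg.Statements.S5665
import Cfsg.Agent.Lib.TransvMax.CplxSp
import Cfsg.Agent.Lib.TransvMax.SpBridge
-- import your own Cfsg.Agent.* helpers here

set_option autoImplicit false
open Cfsg

namespace Cfsg.Agent.S5665

open Cfsg.Agent
open scoped Matrix MatrixGroups

/-- For a finite field F of odd order and m ≥ 7, let K be a subfield of the algebra of 2m × 2m matrices over F containing the scalars, of degree 2 over F, that is closed under adjoints for the standard alternating form on F^(2m) but whose elements are not all self-adjoint (so the adjoint map induces the automorphism of order two of K). Then the elements of Sp_2m(F) normalising K form a maximal subgroup of Sp_2m(F). -/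
theorem result {F : Type*} [Field F] [Fintype F] (m : ℕ) (hm : 7 ≤ m) (hodd : Odd (Fintype.card F)) (K : Subalgebra F (Matrix (Fin m ⊕ Fin m) (Fin m ⊕ Fin m) F)) (hK : Cfsg.Geo.IsFieldSubalgebra 2 K) (hac : Cfsg.Geo.IsAdjointClosedFor (Cfsg.sympForm m F) K) (hnsa : ¬ Cfsg.Geo.IsSelfAdjointFor (Cfsg.sympForm m F) K) : Cfsg.Geo.IsMaximalIn (Cfsg.spGL m F) (Cfsg.Geo.subalgebraNormalizer K ⊓ Cfsg.spGL m F) := by
  classical
  have hf : ∀ u v, Cfsg.sympForm m F u v = FormsLib.spB m F u v := TransvMax.sympForm_eq_spB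
  -- an anti-self-adjoint element
  obtain ⟨J, hJK, hJne, hJskew⟩ : ∃ J ∈ K, J ≠ 0 ∧
      ∀ u v, FormsLib.spB m F (J *ᵥ u) v = -FormsLib.spB m F u (J *ᵥ v) := by
    simp only [Cfsg.Geo.IsSelfAdjointFor] at hnsa
    push Not at hnsa
    obtain ⟨k, hk, u₀, v₀, hne⟩ := hnsa
    obtain ⟨k', hk', hadj⟩ := hac k hk
    refine ⟨k - k', K.sub_mem hk hk', fun e => hne ?_, fun u v => ?_⟩
    · rw [hadj, sub_eq_zero.1 e]
    · have h1 : FormsLib.spB m F (k *ᵥ u) v = FormsLib.spB m F u (k' *ᵥ v) := by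
        rw [← hf, ← hf, hadj]
      have h2 : FormsLib.spB m F (k' *ᵥ u) v = FormsLib.spB m F u (k *ᵥ v) := by
        rw [FormsLib.alt_swap FormsLib.spB_alt v (k' *ᵥ u), FormsLib.alt_swap FormsLib.spB_alt (k *ᵥ v) u,
          ← hf, ← hf, hadj]
      rw [Matrix.sub_mulVec, Matrix.sub_mulVec, map_sub, map_sub, LinearMap.sub_apply, h1, h2]
      ring
  have h2F : (2 : F) ≠ 0 := Ring.two_ne_zero fun h =>
    Nat.not_even_iff_odd.2 hodd (Nat.even_iff.2 (FiniteField.even_card_iff_char_two.1 h))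
  have hne0 : Nonempty (Fin m ⊕ Fin m) := ⟨Sum.inl ⟨0, by omega⟩⟩
  have hJscal : ∀ c : F, J ≠ c • 1 := by
    intro c e
    apply hJne
    obtain ⟨i⟩ := hne0
    have hv : (Pi.single i 1 : Fin m ⊕ Fin m → F) ≠ 0 := fun h => by simpa using congrFun h i
    obtain ⟨u, hu⟩ : ∃ u, FormsLib.spB m F u (Pi.single i 1) ≠ 0 := by
      by_contra h
      push Not at h
      exact hv (FormsLib.spB_nondeg.2 _ h)
    have h1 := hJskew u (Pi.single i 1)
    rw [e] at h1
    simp only [Matrix.smul_mulVec, Matrix.one_mulVec, map_smul, LinearMap.smul_apply, smul_eq_mul] at h1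
    have h2 : (2 * c) * FormsLib.spB m F u (Pi.single i 1) = 0 := by linear_combination h1
    have hc : c = 0 := (mul_eq_zero.1 ((mul_eq_zero.1 h2).resolve_right hu)).resolve_left h2F
    rw [e, hc, zero_smul]
  have hspan : ∀ k ∈ K, ∃ a b : F, k = a • 1 + b • J := by
    intro k hk
    have hli : LinearIndependent F ![(⟨1, K.one_mem⟩ : K), ⟨J, hJK⟩] := by
      rw [LinearIndependent.pair_iff]
      intro s t hst
      have hst' : s • (1 : Matrix (Fin m ⊕ Fin m) (Fin m ⊕ Fin m) F) + t • J = 0 :=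
        congrArg Subtype.val hst
      by_cases ht : t = 0
      · rw [ht, zero_smul, add_zero, smul_eq_zero] at hst'
        exact ⟨hst'.resolve_right one_ne_zero, ht⟩
      · refine absurd ?_ (hJscal (-(s / t)))
        rw [← smul_right_injective _ ht |>.eq_iff, smul_smul, mul_neg, mul_div_cancel₀ _ ht, neg_smul,
          eq_neg_iff_add_eq_zero, add_comm]
        exact hst'
    have hspan := hli.span_eq_top_of_card_eq_finrank (by
      rw [Fintype.card_fin, hK.finrank_eq])
    have hmem : (⟨k, hk⟩ : K) ∈ Submodule.span F (Set.range ![(⟨1, K.one_mem⟩ : K), ⟨J, hJK⟩]) := by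
      rw [hspan]; trivial
    obtain ⟨c, hc⟩ := Submodule.mem_span_range_iff_exists_fun F |>.1 hmem
    refine ⟨c 0, c 1, ?_⟩
    have := congrArg Subtype.val hc
    rw [Fin.sum_univ_two] at this
    exact this.symm
  -- the square is a scalar
  obtain ⟨d, hd⟩ : ∃ d : F, J * J = d • 1 := by
    obtain ⟨a, b, hab⟩ := hspan _ (K.mul_mem hJK hJK)
    refine ⟨a, ?_⟩
    rw [hab, add_eq_left]
    by_contra hb
    obtain ⟨u, v, huv⟩ : ∃ u v, FormsLib.spB m F u (J *ᵥ v) ≠ 0 := by
      by_contra h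
      push Not at h
      refine hJne (Matrix.ext_iff_mulVec.2 fun v => ?_)
      rw [Matrix.zero_mulVec]
      exact FormsLib.spB_nondeg.2 _ fun u => h u v
    have h1 : FormsLib.spB m F ((J * J) *ᵥ u) v = FormsLib.spB m F u ((J * J) *ᵥ v) := by
      rw [← Matrix.mulVec_mulVec, ← Matrix.mulVec_mulVec, hJskew, hJskew, neg_neg]
    rw [hab] at h1
    simp only [Matrix.add_mulVec, Matrix.smul_mulVec, Matrix.one_mulVec, map_add, map_smul,
      LinearMap.add_apply, LinearMap.smul_apply, smul_eq_mul, hJskew] at h1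
    have h3 : (2 * b) * FormsLib.spB m F u (J *ᵥ v) = 0 := by linear_combination -h1
    rcases mul_eq_zero.1 h3 with h4 | h4
    · exact hb (by rw [(mul_eq_zero.1 h4).resolve_left h2F, zero_smul])
    · exact huv h4
  have hnsq : ∀ e : F, e * e ≠ d := by
    intro e he
    have hmul : (J - e • 1) * (J + e • 1) = 0 := by
      simp only [sub_mul, mul_add, Matrix.smul_mul, Matrix.mul_smul, one_mul, mul_one, hd, smul_smul, he]
      abel
    have hsub : J - e • 1 ≠ 0 := fun h => hJscal e (sub_eq_zero.1 h)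
    obtain ⟨y, -, hy⟩ := hK.inv _ (K.sub_mem hJK (K.smul_mem K.one_mem e)) hsub
    have hy' : y * (J - e • 1) = 1 := mul_eq_one_comm.1 hy
    refine hJscal (-e) ?_
    rw [neg_smul, eq_neg_iff_add_eq_zero]
    calc J + e • 1 = (y * (J - e • 1)) * (J + e • 1) := by rw [hy', one_mul]
      _ = 0 := by rw [mul_assoc, hmul, mul_zero]
  have S : TransvMax.CplxSetting (FormsLib.spB m F) (Matrix.toLin' J) d :=
    { alt := FormsLib.spB_alt
      nondeg := FormsLib.spB_nondeg
      skew := fun x y => by rw [Matrix.toLin'_apply, Matrix.toLin'_apply]; exact hJskew x y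
      sq := fun x => by
        rw [Matrix.toLin'_apply, Matrix.toLin'_apply, Matrix.mulVec_mulVec, hd, Matrix.smul_mulVec,
          Matrix.one_mulVec]
      nonsq := hnsq
      odd := fun h => Nat.not_even_iff_odd.2 hodd (Nat.even_iff.2 (FiniteField.even_card_iff_char_two.1 h))
      dim := by simp only [Fintype.card_sum, Fintype.card_fin]; omega }
  have hiff : ∀ h : (Fin m ⊕ Fin m → F) ≃ₗ[F] (Fin m ⊕ Fin m → F),
      TransvMax.glOf h ∈ Cfsg.Geo.subalgebraNormalizer K ↔
        ∃ a b : F, ∀ x, h (Matrix.toLin' J x) = a • h x + b • Matrix.toLin' J (h x) := by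
    intro h
    set G : GL (Fin m ⊕ Fin m) F := TransvMax.glOf h with hG
    have hGx : ∀ x, (G : Matrix (Fin m ⊕ Fin m) (Fin m ⊕ Fin m) F) *ᵥ x = h x := TransvMax.glOf_mulVec h
    constructor
    · intro hn
      obtain ⟨a, b, hab⟩ := hspan _ ((hn J).1 hJK)
      refine ⟨a, b, fun x => ?_⟩
      have h1 := congrArg (· *ᵥ h x) hab
      simp only [← Matrix.mulVec_mulVec, Matrix.add_mulVec, Matrix.smul_mulVec, Matrix.one_mulVec] at h1
      rw [← hGx x, TransvMax.inv_mulVec_mulVec, hGx, hGx] at h1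
      simpa [Matrix.toLin'_apply] using h1
    · rintro ⟨a, b, hab⟩
      have hJimg : (G : Matrix (Fin m ⊕ Fin m) (Fin m ⊕ Fin m) F) * J *
          ((G⁻¹ : GL (Fin m ⊕ Fin m) F) : Matrix (Fin m ⊕ Fin m) (Fin m ⊕ Fin m) F) =
          a • 1 + b • J := by
        refine Matrix.ext_iff_mulVec.2 fun x => ?_
        obtain ⟨y, rfl⟩ := h.surjective x
        rw [← hGx y, ← Matrix.mulVec_mulVec, ← Matrix.mulVec_mulVec, TransvMax.inv_mulVec_mulVec,
          Matrix.add_mulVec, Matrix.smul_mulVec, Matrix.smul_mulVec, Matrix.one_mulVec, hGx, hGx]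
        simpa [Matrix.toLin'_apply] using hab y
      have hone : (G : Matrix (Fin m ⊕ Fin m) (Fin m ⊕ Fin m) F) *
          ((G⁻¹ : GL (Fin m ⊕ Fin m) F) : Matrix (Fin m ⊕ Fin m) (Fin m ⊕ Fin m) F) = 1 := by
        rw [← Units.val_mul, mul_inv_cancel, Units.val_one]
      have himg : ∀ s t : F, (G : Matrix (Fin m ⊕ Fin m) (Fin m ⊕ Fin m) F) * (s • 1 + t • J) *
          ((G⁻¹ : GL (Fin m ⊕ Fin m) F) : Matrix (Fin m ⊕ Fin m) (Fin m ⊕ Fin m) F) = (s + t * a) • 1 + (t * b) • J := by
        intro s t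
        rw [mul_add, add_mul, Matrix.mul_smul, Matrix.smul_mul, mul_one, hone, Matrix.mul_smul,
          Matrix.smul_mul, hJimg]
        module
      intro k
      constructor
      · intro hk
        obtain ⟨s, t, rfl⟩ := hspan k hk
        rw [himg]
        exact K.add_mem (K.smul_mem K.one_mem _) (K.smul_mem hJK _)
      · intro hk
        obtain ⟨s, t, hst⟩ := hspan _ hk
        have hb : b ≠ 0 := by
          intro hb
          refine hJscal a ?_
          rw [hb, zero_smul, add_zero] at hJimg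
          have h1 := congrArg (fun M => ((G⁻¹ : GL (Fin m ⊕ Fin m) F) : Matrix (Fin m ⊕ Fin m) (Fin m ⊕ Fin m) F) * M *
            (G : Matrix (Fin m ⊕ Fin m) (Fin m ⊕ Fin m) F)) hJimg
          simpa [mul_assoc, ← Units.val_mul] using h1
        have h2 : k = (s - t / b * a) • 1 + (t / b) • J := by
          have h3 := himg (s - t / b * a) (t / b)
          rw [sub_add_cancel, div_mul_cancel₀ _ hb, ← hst] at h3
          exact ((G.mul_right_inj).1 ((G⁻¹).mul_left_inj.1 h3)).symm
        rw [h2]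
        exact K.add_mem (K.smul_mem K.one_mem _) (K.smul_mem hJK _)
  refine TransvMax.maximal_in_spGL _ inf_le_right ?_ fun L hHL hL ⟨g, hgL, hg⟩ =>
    S.tauGroup_le_of_over hL (fun h hh hc => hHL ⟨(hiff h).2 ⟨0, 1, fun x => by
      rw [zero_smul, one_smul, zero_add, hc]⟩, TransvMax.glOf_mem_spGL.2 hh⟩) hgL
      (fun hn => hg ⟨(hiff g).2 hn, TransvMax.glOf_mem_spGL.2 (hL hgL)⟩)
  obtain ⟨g, hg, hg'⟩ := S.exists_not_normal
  exact ⟨g, hg, fun h => hg' ((hiff g).1 h.1)⟩

end Cfsg.Agent.S5665
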