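import Cfsg.Agent.Lib.TransvMax.TensorTrv
import Cfsg.Agent.Lib.TransvMax.SpBridge
-- import your own Cfsg.Agent.* helpers here

set_option autoImplicit false
open Cfsg

namespace Cfsg.Agent.S5667

open Cfsg.Agent
open scoped Matrix

/-- Over the field with 3 elements and for m ≥ 7, suppose the standard alternating form on F^(2m) is similar, through P and e, to the tensor product of a non-degenerate symplectic form f₁ on F^(n₁) and a non-degenerate symmetric bilinear form f₂ on F^3. Then the elements of Sp_2m(3) in the stabiliser of this tensor decomposition form a subgroup that is not maximal: some subgroup lies strictly between it and Sp_2m(3). -/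
theorem result {F : Type*} [Field F] [Fintype F] (m : ℕ) (hm : 7 ≤ m) (hq : Fintype.card F = 3) (n₁ : ℕ) (e : (Fin m ⊕ Fin m) ≃ Fin n₁ × Fin 3) (P : Matrix.GeneralLinearGroup (Fin m ⊕ Fin m) F) (f₁ : (Fin n₁ → F) → (Fin n₁ → F) → F) (f₂ : (Fin 3 → F) → (Fin 3 → F) → F) (hf₁ : Cfsg.Geo.IsSymplecticForm f₁) (hf₂ : Cfsg.Geo.IsSymmetricForm f₂) (hT : Cfsg.Geo.IsTensorFormStructure id (Cfsg.sympForm m F) f₁ f₂ e P) : ∃ K : Subgroup (Matrix.GeneralLinearGroup (Fin m ⊕ Fin m) F), Cfsg.Geo.tensorProductSubgroup n₁ 3 e P ⊓ Cfsg.spGL m F < K ∧ K < Cfsg.spGL m F := by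
  classical
  let e' := e.trans (Equiv.prodComm _ _)
  have hsym : TensorSmall.Sesq id (Cfsg.sympForm m F) := by
    refine ⟨fun x y v => ?_, fun k x v => ?_, fun x y v => ?_, fun k x v => ?_⟩ <;>
      simp only [TransvMax.sympForm_eq_spB, map_add, LinearMap.add_apply, map_smul,
        LinearMap.smul_apply, smul_eq_mul, id]
  obtain ⟨c, hc, hform⟩ := TensorSmall.form_tp e P (fun _ _ => rfl)
    (TensorSmall.sesq_of_bilinear hf₁.bilinear) (TensorSmall.sesq_of_bilinear hf₂.bilinear) hT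
  have hform' : ∀ x y x' y', Cfsg.sympForm m F (TensorSmall.tp e' P x y) (TensorSmall.tp e' P x' y') =
      c * (f₂ x x' * f₁ y y') := fun x y x' y' => by
    rw [TensorSmall.tp_swap, TensorSmall.tp_swap, hform]
    ring
  obtain ⟨d, ν, hν, hli, hd, hsim⟩ := TensorSmall.exists_o3_frame hq hf₂
  have hn₁ : 0 < n₁ := by
    have := Fintype.card_congr e
    simp at this
    omega
  obtain ⟨u, hu⟩ : ∃ u : Fin n₁ → F, u ≠ 0 := ⟨Pi.single ⟨0, hn₁⟩ 1, by simp⟩
  obtain ⟨w, hw⟩ := (hf₁.nondegenerate u hu).1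
  have hten : Cfsg.Geo.tensorProductSubgroup n₁ 3 e P ⊓ Cfsg.spGL m F ≤
      Cfsg.Geo.tensorProductSubgroup 3 n₁ e' P := by
    rintro g ⟨hg, -⟩
    obtain ⟨h, ⟨k, ⟨a, b, hab⟩, rfl⟩, rfl⟩ := hg
    refine ⟨_, ⟨Cfsg.Geo.glReindex (Equiv.prodComm _ _) k, ⟨b, a, ?_⟩, rfl⟩, ?_⟩
    · ext p q
      show (k : Matrix (Fin n₁ × Fin 3) (Fin n₁ × Fin 3) F) p.swap q.swap = _
      rw [hab]
      exact mul_comm _ _
    · exact congrArg (MulAut.conj P) (Units.ext (by ext p q; rfl))
  refine TensorSmall.trv_frame_not_max e' P hsym (TensorSmall.sesq_of_bilinear hf₁.bilinear) hc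
    hform' hν hli hd 0 1 (by decide) (hf₁.alternating u) hw inf_le_right (fun g hg => hg.2) hten hsim
    fun a ha => ?_
  have hdot : (Matrix.J (Fin m) F *ᵥ a) ⬝ᵥ a = 0 := by
    rw [dotProduct_comm]; exact ha
  refine ⟨TransvMax.trv a _ hdot, fun x y => ?_, 1, one_ne_zero, fun x => ?_⟩
  · have hx : ∀ x, (Matrix.J (Fin m) F *ᵥ a) ⬝ᵥ x = Cfsg.sympForm m F x a := fun x =>
      dotProduct_comm _ _
    show Cfsg.sympForm m F ((TransvMax.trv a _ hdot : Matrix _ _ F) *ᵥ x)
      ((TransvMax.trv a _ hdot : Matrix _ _ F) *ᵥ y) = Cfsg.sympForm m F x y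
    rw [TransvMax.trv_mulVec, TransvMax.trv_mulVec, hx, hx, hsym.add_left, hsym.add_right,
      hsym.add_right, hsym.smul_left, hsym.smul_left, hsym.smul_right, hsym.smul_right, ha,
      TransvMax.sympForm_eq_spB a y, TransvMax.sympForm_eq_spB y a, FormsLib.spB_alt.neg y a |>.symm]
    simp only [id]
    ring
  · rw [TransvMax.trv_mulVec, dotProduct_comm, one_mul]
    rfl

end Cfsg.Agent.S5667
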