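import Cfsg.Agent.Lib.TransvMax.TensorTrv
import Cfsg.Agent.Lib.TransvMax.UnitaryGen
-- import your own Cfsg.Agent.* helpers here

set_option autoImplicit false
open Cfsg

namespace Cfsg.Agent.S5671

open Cfsg.Agent
open scoped Matrix

/-- Let F be the field with 4 elements (q = 2) and n = 2 n₂ ≥ 13. Suppose the standard unitary form Σ u_i v_i² on F^n is similar, through P and e, to the tensor product of non-degenerate unitary forms f₁ on F^2 and f₂ on F^(n₂). Then the elements of SU_n(2) in the stabiliser of this tensor decomposition form a subgroup that is not maximal: some subgroup lies strictly between it and SU_n(2). -/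
theorem result {F : Type*} [Field F] [Fintype F] (n : ℕ) (hF : Fintype.card F = 4) (hn : 13 ≤ n) (n₂ : ℕ) (e : Fin n ≃ Fin 2 × Fin n₂) (P : Matrix.GeneralLinearGroup (Fin n) F) (f₁ : (Fin 2 → F) → (Fin 2 → F) → F) (f₂ : (Fin n₂ → F) → (Fin n₂ → F) → F) (hf₁ : Cfsg.Geo.IsUnitaryFormPow 2 f₁) (hf₂ : Cfsg.Geo.IsUnitaryFormPow 2 f₂) (hT : Cfsg.Geo.IsTensorFormStructure (fun x : F => x ^ 2) (Cfsg.hermForm n F 2) f₁ f₂ e P) : ∃ K : Subgroup (Matrix.GeneralLinearGroup (Fin n) F), Cfsg.Geo.tensorProductSubgroup 2 n₂ e P ⊓ (Cfsg.GU n F 2 ⊓ Cfsg.Geo.specialLinear (Fin n) F) < K ∧ K < (Cfsg.GU n F 2 ⊓ Cfsg.Geo.specialLinear (Fin n) F) := by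
  classical
  obtain ⟨σ, hσ, hf⟩ := TransvMax.exists_herm_setting (q := 2) (by rw [hF]; norm_num) n
  have hs : TensorSmall.Sesq (fun x : F => x ^ 2) (Cfsg.hermForm n F 2) :=
    ⟨hf.add_left, hf.smul_left, TransvMax.herm_add_right hf, fun k x v => by
      rw [TransvMax.herm_smul_right hf, hσ]⟩
  have hs' : ∀ {k : ℕ} {g : (Fin k → F) → (Fin k → F) → F}, Cfsg.Geo.IsUnitaryFormPow 2 g →
      TensorSmall.Sesq (fun x : F => x ^ 2) g := fun {k g} h => by
    refine ⟨h.add_left, h.smul_left, fun x y v => ?_, fun l x v => ?_⟩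
    · rw [h.herm, h.add_left, ← hσ, map_add, hσ, hσ, ← h.herm, ← h.herm]
    · rw [h.herm, h.smul_left, mul_pow, ← h.herm]
  obtain ⟨c, hc, hform⟩ := TensorSmall.form_tp e P (fun a b => mul_pow a b 2) (hs' hf₁) (hs' hf₂) hT
  obtain ⟨d, hli, hd, hsim⟩ := TensorSmall.exists_u2_frame hF hf₁ (hs' hf₁)
  have h20 : (2 : F) = 0 := by
    have := Nat.cast_card_eq_zero F
    rw [hF] at this
    exact mul_self_eq_zero.1 (by linear_combination this)
  have hn₂ : 2 ≤ n₂ := by
    have := Fintype.card_congr e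
    simp at this
    omega
  obtain ⟨u, hu0, hu⟩ : ∃ u : Fin n₂ → F, u ≠ 0 ∧ f₂ u u = 0 := by
    by_contra hc
    push Not at hc
    have hone : ∀ x, x ≠ 0 → f₂ x x = 1 := fun x hx => mul_right_cancel₀ (hc x hx)
      (by rw [one_mul]; linear_combination -(hf₂.herm x x))
    set v : Fin n₂ → F := Pi.single ⟨0, by omega⟩ 1
    have hv : v ≠ 0 := by simp [v]
    obtain ⟨w, hw, hwv⟩ : ∃ w, w ≠ 0 ∧ f₂ w v = 0 := by
      by_contra hc'
      push Not at hc'
      have hinj : Function.Injective ((hs' hf₂).leftL v) := by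
        rw [← LinearMap.ker_eq_bot, LinearMap.ker_eq_bot']
        exact fun w hw => by_contra fun h0 => hc' w h0 hw
      have := LinearMap.finrank_le_finrank_of_injective hinj
      simp at this
      omega
    have hvw : f₂ v w = 0 := by rw [hf₂.herm, hwv, zero_pow two_ne_zero]
    refine hc (v + w) (fun e0 => ?_) ?_
    · have := congrArg (fun x => f₂ x v) e0
      simp only [hf₂.add_left, hwv, (hs' hf₂).zero_left, add_zero, hone v hv] at this
      exact one_ne_zero this
    · rw [hf₂.add_left, (hs' hf₂).add_right, (hs' hf₂).add_right, hone v hv, hone w hw, hvw, hwv]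
      linear_combination h20
  obtain ⟨w, hw⟩ := (hf₂.nondegenerate u hu0).1
  refine TensorSmall.trv_frame_not_max e P hs (hs' hf₂) hc hform one_ne_zero hli hd 0 1 (by decide)
    hu hw inf_le_right (fun g hg => hg.2.1) inf_le_left hsim fun a ha => ?_
  have he : (1 : F) + σ 1 = 0 := by rw [map_one]; linear_combination h20
  refine ⟨TransvMax.utrv hf ha 1, ⟨fun x y => TransvMax.utrv_isometry hf ha he x y, ?_⟩,
    1, one_ne_zero, fun x => TransvMax.utrv_mulVec hf ha 1 x⟩
  exact (TransvMax.utrv_mem_sim hf ha he).2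

end Cfsg.Agent.S5671
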