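import Cfsg.Statements.S5674
import Cfsg.Agent.Lib.TransvMax.QuadSingular
import Cfsg.Agent.Lib.Forms.OddInvol
-- import your own Cfsg.Agent.* helpers here

set_option autoImplicit false
open Cfsg

namespace Cfsg.Agent.S5674

open Cfsg.Agent

/-- Let F be a finite field of odd order, m ≥ 6, Q the standard quadratic form x₀² + Σ x_i y_i on F^(2m+1) and Ω the commutator subgroup of its isometry group inside GL_(2m+1)(F). The elements of Ω stabilising a non-zero subspace on which Q vanishes form a maximal subgroup of Ω. -/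
theorem result {F : Type*} [Field F] [Fintype F] (hodd : Odd (Fintype.card F)) (m : ℕ) (hm : 6 ≤ m) (W : Submodule F (Unit ⊕ (Fin m ⊕ Fin m) → F)) (hW0 : W ≠ ⊥) (hW : Cfsg.Geo.IsTotallySingularQuad (Cfsg.quadFormOdd m F) W) : Cfsg.Geo.IsMaximalIn (Cfsg.Geo.omegaGL (Cfsg.quadFormOdd m F)) (Cfsg.Geo.subspaceStabilizer W ⊓ Cfsg.Geo.omegaGL (Cfsg.quadFormOdd m F)) := by
  have h2 : ringChar F ≠ 2 := fun h => by
    have := (FiniteField.even_card_iff_char_two.1 h)
    rw [Nat.odd_iff] at hodd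
    omega
  have hQ : ⇑(FormsLib.qOdd m F) = Cfsg.quadFormOdd m F := FormsLib.coe_qOdd
  have S : QMax.QSetting (FormsLib.qOdd m F) :=
    ⟨FormsLib.qOdd_nondeg (Ring.two_ne_zero h2), by simp [Fintype.card_sum]; omega⟩
  rw [← hQ]
  refine QMax.singular_maximal S hW0 (fun x hx => by rw [hQ]; exact hW x hx) fun ⟨h, _⟩ => ?_
  simp only [Fintype.card_sum, Fintype.card_unit, Fintype.card_fin] at h
  omega

end Cfsg.Agent.S5674
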