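import Cfsg.Statements.S5675
import Cfsg.Agent.Lib.TransvMax.OrthSubspace
import Cfsg.Agent.Lib.Forms.OddInvol
import Cfsg.Agent.Lib.Forms.Alt
-- import your own Cfsg.Agent.* helpers here

set_option autoImplicit false
open Cfsg

namespace Cfsg.Agent.S5675

open Cfsg.Agent

/-- Let F be a finite field of odd order q, m ≥ 6, Q the standard quadratic form on F^(2m+1) and Ω the commutator subgroup of its isometry group. Let W be a non-zero subspace of even dimension on which the polar form of Q is non-degenerate; exclude the case q = 3, dim W = 2 with Q vanishing on some line of W (a plus-type plane). Then the elements of Ω stabilising W (equivalently, stabilising its orthogonal complement, of odd dimension) form a maximal subgroup of Ω. -/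
theorem result {F : Type*} [Field F] [Fintype F] (hodd : Odd (Fintype.card F)) (m : ℕ) (hm : 6 ≤ m) (W : Submodule F (Unit ⊕ (Fin m ⊕ Fin m) → F)) (hW0 : W ≠ ⊥) (hev : Even (Module.finrank F W)) (hW : Cfsg.Geo.IsNondegenerateOn (QuadraticMap.polar (Cfsg.quadFormOdd m F)) W) (hex : ¬ (Fintype.card F = 3 ∧ Module.finrank F W = 2 ∧ Cfsg.Geo.IsPlusTypeOn (Cfsg.quadFormOdd m F) W)) : Cfsg.Geo.IsMaximalIn (Cfsg.Geo.omegaGL (Cfsg.quadFormOdd m F)) (Cfsg.Geo.subspaceStabilizer W ⊓ Cfsg.Geo.omegaGL (Cfsg.quadFormOdd m F)) := by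
  have h2 : ringChar F ≠ 2 := fun h => by
    have := (FiniteField.even_card_iff_char_two.1 h)
    rw [Nat.odd_iff] at hodd
    omega
  have hQ : ⇑(FormsLib.qOdd m F) = Cfsg.quadFormOdd m F := FormsLib.coe_qOdd
  have S : TransvMax.OSetting (FormsLib.qOdd m F) :=
    ⟨h2, FormsLib.qOdd_nondeg (Ring.two_ne_zero h2), by simp [Fintype.card_sum]; omega⟩
  obtain ⟨U, D⟩ := TransvMax.exists_ODec S W fun w hw hw0 => by
    obtain ⟨x, hx, hxw⟩ := (hW w hw hw0).1
    exact ⟨x, hx, by rw [QuadraticMap.polarBilin_apply_apply, hQ]; exact hxw⟩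
  have hsum := D.finrank_add
  simp only [Fintype.card_sum, Fintype.card_unit, Fintype.card_fin] at hsum
  have hd := D.swap
  have hmap : ∀ {A B : Submodule F (Unit ⊕ (Fin m ⊕ Fin m) → F)},
      Module.finrank F B < Module.finrank F A →
      ∀ g ∈ FormsLib.oGroup (FormsLib.qOdd m F), ¬ ∀ x ∈ A, g x ∈ B := by
    intro A B hAB g _ h
    have h1 := Submodule.finrank_mono (show A.map (g : _ →ₗ[F] _) ≤ B by
      rintro _ ⟨x, hx, rfl⟩; exact h x hx)
    rw [g.finrank_map_eq A] at h1
    omega
  obtain ⟨c, hc⟩ := hev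
  rw [← hQ]
  rcases lt_or_gt_of_ne (show Module.finrank F W ≠ Module.finrank F U by omega) with h | h
  · refine D.stab_maximal (by omega) hW0 (fun ⟨h3, hdim, z, hz, hz0, hQz⟩ => hex ?_) (hmap h)
    refine ⟨by rw [← Nat.card_eq_fintype_card]; exact h3, hdim, Submodule.span F {z},
      by simpa using hz, ?_, by rw [finrank_span_singleton hz0, hdim]⟩
    intro w hw
    obtain ⟨a, rfl⟩ := Submodule.mem_span_singleton.1 hw
    rw [← hQ, QuadraticMap.map_smul, hQz, smul_zero]
  · rw [D.stab_swap]
    refine hd.stab_maximal (by omega) (fun e => ?_) (fun ⟨_, hdim, _⟩ => by omega) (hmap h)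
    rw [e, finrank_bot] at hsum
    omega

end Cfsg.Agent.S5675
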