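import Cfsg.Statements.S5676
import Cfsg.Agent.Lib.TransvMax.QuadHalves
import Cfsg.Agent.Lib.Forms.OddInvol
-- import your own Cfsg.Agent.* helpers here

set_option autoImplicit false
open Cfsg

namespace Cfsg.Agent.S5676

open Cfsg.Agent

/-- Let F be the field with 3 elements, m ≥ 6, Q the standard quadratic form on F^(2m+1) and Ω the commutator subgroup of its isometry group. Let W be a 2-dimensional subspace on which the polar form is non-degenerate and which contains a line on which Q vanishes. Then the elements of Ω stabilising W form a subgroup that is not maximal: some subgroup lies strictly between it and Ω. -/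
theorem result {F : Type*} [Field F] [Fintype F] (hq : Fintype.card F = 3) (m : ℕ) (hm : 6 ≤ m) (W : Submodule F (Unit ⊕ (Fin m ⊕ Fin m) → F)) (hdim : Module.finrank F W = 2) (hW : Cfsg.Geo.IsNondegenerateOn (QuadraticMap.polar (Cfsg.quadFormOdd m F)) W) (hplus : Cfsg.Geo.IsPlusTypeOn (Cfsg.quadFormOdd m F) W) : ∃ K : Subgroup (Matrix.GeneralLinearGroup (Unit ⊕ (Fin m ⊕ Fin m)) F), Cfsg.Geo.subspaceStabilizer W ⊓ Cfsg.Geo.omegaGL (Cfsg.quadFormOdd m F) < K ∧ K < Cfsg.Geo.omegaGL (Cfsg.quadFormOdd m F) := by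
  have h2 : ringChar F ≠ 2 := fun h => by
    have := (FiniteField.even_card_iff_char_two.1 h)
    omega
  have hQ : ⇑(FormsLib.qOdd m F) = Cfsg.quadFormOdd m F := FormsLib.coe_qOdd
  have S : QMax.QSetting (FormsLib.qOdd m F) :=
    ⟨FormsLib.qOdd_nondeg (Ring.two_ne_zero h2), by simp [Fintype.card_sum]; omega⟩
  obtain ⟨L, hLW, hL0, hL1⟩ := hplus
  have hL : L ≠ ⊥ := fun e => by rw [e, finrank_bot] at hL1; omega
  obtain ⟨e, he, he0⟩ := (Submodule.ne_bot_iff L).1 hL
  rw [← hQ]
  exact QMax.plane_not_maximal S (by simp [Fintype.card_sum]; omega)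
    (by rw [Nat.card_eq_fintype_card]; omega) W hdim (fun w hw hw0 => by
      obtain ⟨x, hx, hxw⟩ := (hW w hw hw0).1
      exact ⟨x, hx, by rw [QuadraticMap.polarBilin_apply_apply, hQ]; exact hxw⟩)
    (hLW he) he0 (by rw [hQ]; exact hL0 e he)

end Cfsg.Agent.S5676
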