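import Cfsg.Statements.S5677
import Cfsg.Agent.Lib.TransvMax.OFrame.Main
import Cfsg.Agent.Lib.Forms.OddInvol
import Cfsg.Agent.Lib.Forms.Alt

set_option autoImplicit false
open Cfsg

namespace Cfsg.Agent.S5677

/-- Let F be a finite field of odd order q, m ≥ 6, Q the standard quadratic form on F^(2m+1) and Ω the commutator subgroup of its isometry group. Let D be a decomposition of F^(2m+1) into t ≥ 2 pairwise orthogonal, pairwise Q-isometric subspaces of equal dimension k > 1 on which the polar form is non-degenerate. Unless q = 3 and k = 3, the elements of Ω permuting the members of D form a maximal subgroup of Ω. -/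
theorem result {F : Type*} [Field F] [Fintype F] (hodd : Odd (Fintype.card F)) (m : ℕ) (hm : 6 ≤ m) {t : ℕ} (k : ℕ) (hk : 1 < k) (D : Fin t → Submodule F (Unit ⊕ (Fin m ⊕ Fin m) → F)) (hD : Cfsg.Geo.IsOrthogonalMDecomposition (Cfsg.quadFormOdd m F) k D) (hex : ¬ (Fintype.card F = 3 ∧ k = 3)) : Cfsg.Geo.IsMaximalIn (Cfsg.Geo.omegaGL (Cfsg.quadFormOdd m F)) (Cfsg.Geo.decompositionStabilizer D ⊓ Cfsg.Geo.omegaGL (Cfsg.quadFormOdd m F)) := by
  classical
  have h2 : ringChar F ≠ 2 := fun h => by
    have := (FiniteField.even_card_iff_char_two.1 h)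
    rw [Nat.odd_iff] at hodd
    omega
  have hQ : ⇑(FormsLib.qOdd m F) = Cfsg.quadFormOdd m F := FormsLib.coe_qOdd
  have S : TransvMax.OSetting (FormsLib.qOdd m F) :=
    ⟨h2, FormsLib.qOdd_nondeg (Ring.two_ne_zero h2), by simp [Fintype.card_sum]; omega⟩
  have hd := hD.decomp.decomp
  have hsum : Module.finrank F (Unit ⊕ (Fin m ⊕ Fin m) → F) = t * k := by
    have h := DirectSum.isInternal_submodule_of_iSupIndep_of_iSup_eq_top hd.indep hd.iSup_eq_top
    rw [← (LinearEquiv.ofBijective (DirectSum.coeLinearMap D) h).finrank_eq]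
    rw [Module.finrank_directSum, Finset.sum_congr rfl fun i _ => hd.finrank_eq i]
    simp
  rw [Module.finrank_fintype_fun_eq_card] at hsum
  simp only [Fintype.card_sum, Fintype.card_unit, Fintype.card_fin] at hsum
  have hkodd : k % 2 = 1 := by
    by_contra h
    obtain ⟨c, rfl⟩ : 2 ∣ k := Nat.dvd_of_mod_eq_zero (by omega)
    have : t * (2 * c) = 2 * (t * c) := by ring
    omega
  have O : TransvMax.OFrame.OF (FormsLib.qOdd m F) k D :=
    ⟨S, by rw [hQ]; exact hD, by omega, by
      rw [Nat.card_eq_fintype_card]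
      by_cases h : Fintype.card F = 3
      · left
        have : k ≠ 3 := fun e => hex ⟨h, e⟩
        omega
      · exact Or.inr h⟩
  rw [← hQ]
  exact O.stab_maximal

end Cfsg.Agent.S5677
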