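import Cfsg.Agent.Lib.TransvMax.RefineCases
import Cfsg.Agent.Lib.Forms.OddInvol
-- import your own Cfsg.Agent.* helpers here

set_option autoImplicit false
open Cfsg

namespace Cfsg.Agent.S5678

open Cfsg.Agent

/-- Let F be the field with 3 elements, m ≥ 6, Q the standard quadratic form on F^(2m+1) and Ω the commutator subgroup of its isometry group. Let D be a decomposition of F^(2m+1) into t pairwise orthogonal, pairwise Q-isometric 3-dimensional subspaces on which the polar form is non-degenerate. Then the elements of Ω permuting the members of D form a subgroup that is not maximal: some subgroup lies strictly between it and Ω. -/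
theorem result {F : Type*} [Field F] [Fintype F] (hq : Fintype.card F = 3) (m : ℕ) (hm : 6 ≤ m) {t : ℕ} (D : Fin t → Submodule F (Unit ⊕ (Fin m ⊕ Fin m) → F)) (hD : Cfsg.Geo.IsOrthogonalMDecomposition (Cfsg.quadFormOdd m F) 3 D) : ∃ K : Subgroup (Matrix.GeneralLinearGroup (Unit ⊕ (Fin m ⊕ Fin m)) F), Cfsg.Geo.decompositionStabilizer D ⊓ Cfsg.Geo.omegaGL (Cfsg.quadFormOdd m F) < K ∧ K < Cfsg.Geo.omegaGL (Cfsg.quadFormOdd m F) := by
  have h2 : ringChar F ≠ 2 := fun h => by
    have := (FiniteField.even_card_iff_char_two.1 h)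
    omega
  have hQ : ⇑(FormsLib.qOdd m F) = Cfsg.quadFormOdd m F := FormsLib.coe_qOdd
  have S : QMax.QSetting (FormsLib.qOdd m F) :=
    ⟨FormsLib.qOdd_nondeg (Ring.two_ne_zero h2), by simp [Fintype.card_sum]; omega⟩
  obtain ⟨c, -⟩ := FrameLib.exists_coords hD.decomp.decomp
  have ht : t * 3 = 1 + (m + m) := by
    have := c.finrank_eq
    simp [Module.finrank_pi_fintype] at this
    omega
  rw [← hQ] at hD ⊢
  exact QMax.Refine.not_maximal_three S hq (by omega) (Or.inr rfl) hD

end Cfsg.Agent.S5678
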