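import Cfsg.Statements.S5686
import Cfsg.Agent.Lib.TransvMax.QuadSingular
-- import your own Cfsg.Agent.* helpers here

set_option autoImplicit false
open Cfsg

namespace Cfsg.Agent.S5686

open Cfsg.Agent

/-- Let F be a finite field with q elements, n ≥ 13 even, Q a non-degenerate quadratic form on F^n of plus type (some subspace of dimension n/2 is totally singular), and Ω the commutator subgroup of the isometry group of Q, viewed inside GL_n(F). The elements of Ω stabilising a subspace of dimension n/2 − 1 on which Q vanishes form a subgroup that is not maximal: some subgroup lies strictly between it and Ω. -/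
theorem result {F : Type*} [Field F] [Fintype F] {n : ℕ} (hn : 13 ≤ n) (heven : Even n) (Q : (Fin n → F) → F) (hQ : Cfsg.Geo.IsNondegenerateQuadraticForm Q) (hplus : Cfsg.Geo.IsPlusTypeOn Q ⊤) (W : Submodule F (Fin n → F)) (hW : Cfsg.Geo.IsTotallySingularQuad Q W) (hdim : 2 * (Module.finrank F W + 1) = n) : ∃ K : Subgroup (Matrix.GeneralLinearGroup (Fin n) F), Cfsg.Geo.subspaceStabilizer W ⊓ Cfsg.Geo.omegaGL Q < K ∧ K < Cfsg.Geo.omegaGL Q := by
  let QF : QuadraticForm F (Fin n → F) := QuadraticMap.ofPolar Q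
    (fun a x => by rw [hQ.smul, smul_eq_mul, pow_two])
    (fun x x' y => hQ.polar_bilinear.add_left x x' y)
    (fun a x y => hQ.polar_bilinear.smul_left a x y)
  have hQF : ⇑QF = Q := rfl
  have S : QMax.QSetting QF := ⟨⟨fun v hv => by
      by_contra h0
      obtain ⟨x, hx⟩ := (hQ.nondegenerate v h0).2
      exact hx (hv x), fun v hv => by
      by_contra h0
      obtain ⟨x, hx⟩ := (hQ.nondegenerate v h0).1
      exact hx (hv x)⟩, by simp only [Fintype.card_fin]; omega⟩
  obtain ⟨L, -, hL, hLd⟩ := hplus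
  rw [finrank_top, Module.finrank_fintype_fun_eq_card] at hLd
  obtain ⟨X, hWX, hX, hXd⟩ := QMax.exists_half_ge S (W := W) (fun x hx => hW x hx) (L := L)
    (fun x hx => hL x hx) hLd
  simp only [Fintype.card_fin] at hXd
  rw [← hQF]
  refine ⟨Cfsg.Geo.subspaceStabilizer X ⊓ Cfsg.Geo.omegaGL ⇑QF,
    lt_of_le_of_ne (fun g hg => ⟨?_, hg.2⟩) fun h => ?_, lt_of_le_of_ne inf_le_right fun h => ?_⟩
  · have hg1 := hg.1
    rw [← TransvMax.glOf_linOf g] at hg1 ⊢
    set l := TransvMax.linOf g with hl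
    have hW' := (QMax.subspace_stab_iff S _ _).1 hg1
    refine (QMax.subspace_stab_iff S _ _).2 fun x hx => ?_
    have hmap : W.map (l : (Fin n → F) →ₗ[F] (Fin n → F)) = W := by
      refine Submodule.eq_of_le_of_finrank_eq ?_ (l.finrank_map_eq W)
      rintro _ ⟨y, hy, rfl⟩
      exact hW' y hy
    have hle : W ≤ X ⊓ X.map (l : (Fin n → F) →ₗ[F] (Fin n → F)) :=
      le_inf hWX (hmap ▸ Submodule.map_mono hWX)
    have h1 := Submodule.finrank_mono hle
    have h2 := Submodule.finrank_mono
      (inf_le_left : X ⊓ X.map (l : (Fin n → F) →ₗ[F] (Fin n → F)) ≤ X)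
    have h3 := QMax.omega_parity S (X := X) (Y := X) (m := Module.finrank F X)
      (by rw [Fintype.card_fin]; omega) hX hX rfl rfl hg.2
    rw [inf_idem, ← hl] at h3
    have h4 : X ⊓ X.map (l : (Fin n → F) →ₗ[F] (Fin n → F)) = X :=
      Submodule.eq_of_le_of_finrank_eq inf_le_left (by omega)
    have h5 : X.map (l : (Fin n → F) →ₗ[F] (Fin n → F)) = X :=
      (Submodule.eq_of_le_of_finrank_eq (inf_eq_left.1 h4) (l.finrank_map_eq X).symm).symm
    exact h5.le ⟨x, hx, rfl⟩
  · obtain ⟨p, hp, hpW⟩ := SetLike.not_le_iff_exists.1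
      (show ¬ X ≤ W from fun h => by have := Submodule.finrank_mono h; omega)
    have hW0 : W ≠ ⊥ := fun e => by rw [e, finrank_bot] at hdim; omega
    obtain ⟨a, ha, ha0⟩ := (Submodule.ne_bot_iff W).1 hW0
    have hpa : p ∉ Submodule.span F {a} := fun h =>
      hpW ((Submodule.span_singleton_le_iff_mem _ _).2 ha h)
    obtain ⟨u, -, hQu, hu⟩ := S.topDec.exists_values_in (v := ![p, a]) (fun i => Submodule.mem_top)
      (S.sing_indep_pair ha0 hpa) (by rw [S.finrank_top_eq, Fintype.card_fin]; omega) ![0, 1] 0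
    have hpu : TransvMax.pB QF p u = 0 := by rw [S.pB_comm]; exact hu 0
    have hau : TransvMax.pB QF a u = 1 := by rw [S.pB_comm]; exact hu 1
    have hxp : ∀ x ∈ X, TransvMax.pB QF x p = 0 := fun x hx =>
      QMax.isotropic_of_singular S hX hx hp
    have hmem : TransvMax.glOf (S.siegel u p hQu hpu) ∈
        Cfsg.Geo.subspaceStabilizer X ⊓ Cfsg.Geo.omegaGL ⇑QF := by
      refine ⟨(QMax.subspace_stab_iff S _ _).2 fun x hx => ?_, QMax.glOf_siegel_mem_omega S hQu hpu⟩
      rw [S.siegel_apply, TransvMax.siegelHom_apply, hxp x hx, hX p hp, zero_mul, zero_smul, sub_zero,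
        sub_zero]
      exact X.add_mem hx (X.smul_mem _ hp)
    rw [← h] at hmem
    have h1 := (QMax.subspace_stab_iff S _ _).1 hmem.1 a ha
    rw [S.siegel_apply, TransvMax.siegelHom_apply, hxp a (hWX ha), hX p hp, zero_mul, zero_smul,
      sub_zero, sub_zero, hau, one_smul] at h1
    exact hpW (by simpa using W.sub_mem h1 ha)
  · have hX0 : X ≠ ⊥ := fun e => by rw [e, finrank_bot] at hXd; omega
    obtain ⟨a, ha, ha0⟩ := (Submodule.ne_bot_iff X).1 hX0
    obtain ⟨g, hg, hg'⟩ := QMax.exists_siegel_move S hX ha ha0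
    rw [← h] at hg
    exact hg' hg.1

end Cfsg.Agent.S5686
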