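import Cfsg.Statements.S5687
import Cfsg.Agent.Lib.TransvMax.QuadSingular
-- import your own Cfsg.Agent.* helpers here

set_option autoImplicit false
open Cfsg

namespace Cfsg.Agent.S5687

open Cfsg.Agent

/-- Let F be a finite field with q elements, n ≥ 13 even, Q a non-degenerate quadratic form on F^n of minus type (no subspace of dimension n/2 is totally singular), and Ω the commutator subgroup of the isometry group of Q, viewed inside GL_n(F). The elements of Ω stabilising a non-zero subspace on which Q vanishes form a maximal subgroup of Ω. -/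
theorem result {F : Type*} [Field F] [Fintype F] {n : ℕ} (hn : 13 ≤ n) (heven : Even n) (Q : (Fin n → F) → F) (hQ : Cfsg.Geo.IsNondegenerateQuadraticForm Q) (hminus : ¬ Cfsg.Geo.IsPlusTypeOn Q ⊤) (W : Submodule F (Fin n → F)) (hW0 : W ≠ ⊥) (hW : Cfsg.Geo.IsTotallySingularQuad Q W) : Cfsg.Geo.IsMaximalIn (Cfsg.Geo.omegaGL Q) (Cfsg.Geo.subspaceStabilizer W ⊓ Cfsg.Geo.omegaGL Q) := by
  let QF : QuadraticForm F (Fin n → F) := QuadraticMap.ofPolar Q
    (fun a x => by rw [hQ.smul, smul_eq_mul, pow_two])
    (fun x x' y => hQ.polar_bilinear.add_left x x' y)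
    (fun a x y => hQ.polar_bilinear.smul_left a x y)
  have hQF : ⇑QF = Q := rfl
  have S : QMax.QSetting QF := ⟨⟨fun v hv => by
      by_contra h0
      obtain ⟨x, hx⟩ := (hQ.nondegenerate v h0).2
      exact hx (hv x), fun v hv => by
      by_contra h0
      obtain ⟨x, hx⟩ := (hQ.nondegenerate v h0).1
      exact hx (hv x)⟩, by simp only [Fintype.card_fin]; omega⟩
  rw [← hQF]
  refine QMax.singular_maximal S hW0 (fun x hx => hW x hx) fun ⟨_, X, hX, hXd⟩ => hminus ?_
  refine ⟨X, le_top, hX, ?_⟩
  rw [finrank_top, Module.finrank_fintype_fun_eq_card, hXd]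

end Cfsg.Agent.S5687
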