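import Cfsg.Statements.S5688
import Cfsg.Agent.Lib.TransvMax.QuadHalves
-- import your own Cfsg.Agent.* helpers here

set_option autoImplicit false
open Cfsg

namespace Cfsg.Agent.S5688

open Cfsg.Agent

/-- Let F be a finite field with q elements, n ≥ 13 even, Q a non-degenerate quadratic form on F^n of plus type (some subspace of dimension n/2 is totally singular), and Ω the commutator subgroup of the isometry group of Q, viewed inside GL_n(F). Let W be a non-zero proper subspace with dim W ≠ n/2 on which the polar form of Q is non-degenerate. Exclude the case q ≤ 3 in which W, or its orthogonal complement, is a plane containing a line on which Q vanishes. Then the elements of Ω stabilising W form a maximal subgroup of Ω. -/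
theorem result {F : Type*} [Field F] [Fintype F] {n : ℕ} (hn : 13 ≤ n) (heven : Even n) (Q : (Fin n → F) → F) (hQ : Cfsg.Geo.IsNondegenerateQuadraticForm Q) (hplus : Cfsg.Geo.IsPlusTypeOn Q ⊤) (W : Submodule F (Fin n → F)) (hW0 : W ≠ ⊥) (hW1 : W ≠ ⊤) (hdim : 2 * Module.finrank F W ≠ n) (hW : Cfsg.Geo.IsNondegenerateOn (QuadraticMap.polar Q) W) (hex : ¬ (Fintype.card F ≤ 3 ∧ (∃ U : Submodule F (Fin n → F), Module.finrank F U = 2 ∧ Cfsg.Geo.IsNondegenerateOn (QuadraticMap.polar Q) U ∧ Cfsg.Geo.IsPlusTypeOn Q U ∧ (U = W ∨ (Cfsg.Geo.AreOrthogonalFor (QuadraticMap.polar Q) U W ∧ Module.finrank F U + Module.finrank F W = n))))) : Cfsg.Geo.IsMaximalIn (Cfsg.Geo.omegaGL Q) (Cfsg.Geo.subspaceStabilizer W ⊓ Cfsg.Geo.omegaGL Q) := by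
  let QF : QuadraticForm F (Fin n → F) := QuadraticMap.ofPolar Q
    (fun a x => by rw [hQ.smul, smul_eq_mul, pow_two])
    (fun x x' y => hQ.polar_bilinear.add_left x x' y)
    (fun a x y => hQ.polar_bilinear.smul_left a x y)
  have hQF : ⇑QF = Q := rfl
  have S : QMax.QSetting QF := ⟨⟨fun v hv => by
      by_contra h0
      obtain ⟨x, hx⟩ := (hQ.nondegenerate v h0).2
      exact hx (hv x), fun v hv => by
      by_contra h0
      obtain ⟨x, hx⟩ := (hQ.nondegenerate v h0).1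
      exact hx (hv x)⟩, by simp only [Fintype.card_fin]; omega⟩
  have hnd : ∀ w ∈ W, w ≠ 0 → ∃ x ∈ W, TransvMax.pB QF x w ≠ 0 := fun w hw hw0 => by
    obtain ⟨x, hx, hxw⟩ := (hW w hw hw0).1
    exact ⟨x, hx, by rw [QuadraticMap.polarBilin_apply_apply, hQF]; exact hxw⟩
  obtain ⟨U, D⟩ := QMax.exists_ODec S W hnd
  have hsum := D.finrank_add
  simp only [Fintype.card_fin] at hsum
  have hmap : ∀ {A B : Submodule F (Fin n → F)}, Module.finrank F B < Module.finrank F A →
      ∀ g ∈ FormsLib.oGroup QF, ¬ ∀ x ∈ A, g x ∈ B := by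
    intro A B hAB g _ h
    have h1 := Submodule.finrank_mono (show A.map (g : _ →ₗ[F] _) ≤ B by
      rintro _ ⟨x, hx, rfl⟩; exact h x hx)
    rw [g.finrank_map_eq A] at h1
    omega
  have hplane : ∀ X : Submodule F (Fin n → F), Module.finrank F X = 2 →
      (∀ w ∈ X, w ≠ 0 → ∃ x ∈ X, TransvMax.pB QF x w ≠ 0) → (∃ z ∈ X, z ≠ 0 ∧ QF z = 0) →
      Cfsg.Geo.IsNondegenerateOn (QuadraticMap.polar Q) X ∧ Cfsg.Geo.IsPlusTypeOn Q X := by
    intro X hX hXnd ⟨z, hz, hz0, hQz⟩
    refine ⟨fun w hw hw0 => ?_, Submodule.span F {z}, by simpa using hz, fun w hw => ?_,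
      by rw [finrank_span_singleton hz0, hX]⟩
    · obtain ⟨x, hx, hxw⟩ := hXnd w hw hw0
      rw [QuadraticMap.polarBilin_apply_apply, hQF] at hxw
      exact ⟨⟨x, hx, hxw⟩, x, hx, by rwa [QuadraticMap.polar_comm]⟩
    · obtain ⟨c, rfl⟩ := Submodule.mem_span_singleton.1 hw
      rw [← hQF, QuadraticMap.map_smul, hQz, smul_zero]
  have hexW : ¬ (Nat.card F ≤ 3 ∧ Module.finrank F W = 2 ∧ ∃ z ∈ W, z ≠ 0 ∧ QF z = 0) := by
    rintro ⟨h3, h4, h5⟩
    refine hex ⟨by rwa [Nat.card_eq_fintype_card] at h3, W, h4, (hplane W h4 hnd h5).1,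
      (hplane W h4 hnd h5).2, Or.inl rfl⟩
  have hexU : ¬ (Nat.card F ≤ 3 ∧ Module.finrank F U = 2 ∧ ∃ z ∈ U, z ≠ 0 ∧ QF z = 0) := by
    rintro ⟨h3, h4, h5⟩
    have h6 := hplane U h4 (fun w hw hw0 => D.exists_ne hw hw0) h5
    refine hex ⟨by rwa [Nat.card_eq_fintype_card] at h3, U, h4, h6.1, h6.2,
      Or.inr ⟨fun a ha b hb => ?_, by omega⟩⟩
    have h7 := D.orth' hb ha
    rwa [QuadraticMap.polarBilin_apply_apply, hQF] at h7
  have hU0 : U ≠ ⊥ := fun e => hW1 (by simpa [e] using D.compl.sup_eq_top)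
  rw [← hQF]
  rcases lt_or_gt_of_ne (show Module.finrank F W ≠ Module.finrank F U by omega) with h | h
  · exact D.stab_maximal (by omega) hW0 hexW (hmap h)
  · rw [D.stab_swap]
    exact D.swap.stab_maximal (by omega) hU0 hexU (hmap h)

end Cfsg.Agent.S5688
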