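import Cfsg.Statements.S5691
import Cfsg.Agent.Lib.TransvMax.QuadSingular
-- import your own Cfsg.Agent.* helpers here

set_option autoImplicit false
open Cfsg

namespace Cfsg.Agent.S5691

open Cfsg.Agent

/-- Let F be a finite field with q elements, n ≥ 13 even, Q a non-degenerate quadratic form on F^n (of either type), and Ω the commutator subgroup of the isometry group of Q, viewed inside GL_n(F). Suppose q is even and v is a vector with Q(v) ≠ 0. Then the elements of Ω stabilising the line spanned by v form a maximal subgroup of Ω. -/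
theorem result {F : Type*} [Field F] [Fintype F] {n : ℕ} (hn : 13 ≤ n) (heven : Even n) (Q : (Fin n → F) → F) (hQ : Cfsg.Geo.IsNondegenerateQuadraticForm Q) (hchar : ¬ Odd (Fintype.card F)) (v : (Fin n → F)) (hv : Q v ≠ 0) : Cfsg.Geo.IsMaximalIn (Cfsg.Geo.omegaGL Q) (Cfsg.Geo.subspaceStabilizer (Submodule.span F {v}) ⊓ Cfsg.Geo.omegaGL Q) := by
  let QF : QuadraticForm F (Fin n → F) := QuadraticMap.ofPolar Q
    (fun a x => by rw [hQ.smul, smul_eq_mul, pow_two])
    (fun x x' y => hQ.polar_bilinear.add_left x x' y)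
    (fun a x y => hQ.polar_bilinear.smul_left a x y)
  have hQF : ⇑QF = Q := rfl
  have S : QMax.QSetting QF := ⟨⟨fun v hv => by
      by_contra h0
      obtain ⟨x, hx⟩ := (hQ.nondegenerate v h0).2
      exact hx (hv x), fun v hv => by
      by_contra h0
      obtain ⟨x, hx⟩ := (hQ.nondegenerate v h0).1
      exact hx (hv x)⟩, by simp only [Fintype.card_fin]; omega⟩
  have hc2 : ringChar F = 2 := by
    by_contra h
    exact hchar (Nat.odd_iff.mpr (FiniteField.odd_card_of_char_ne_two h))
  have h2 : (2 : F) = 0 := by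
    have := CharP.cast_eq_zero F (ringChar F)
    rw [hc2] at this
    exact_mod_cast this
  have hv0 : v ≠ 0 := fun e => hv (by rw [e, ← hQF, QuadraticMap.map_zero])
  have hn7 : ∀ k ≤ 3, 2 * (k + 1) < Module.finrank F (⊤ : Submodule F (Fin n → F)) := fun k hk => by
    rw [S.finrank_top_eq, Fintype.card_fin]; omega
  rw [← hQF]
  refine QMax.maximal_in_omegaGL S _ inf_le_right ?_ fun K hHK hK ⟨g, hgK, hg⟩ => ?_
  · obtain ⟨u, -, hQu, hu, huv⟩ := S.topDec.exists_norm_out (k := 1) ![v] (Submodule.span F {v})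
      (hn7 1 (by omega)) (by rw [finrank_span_singleton hv0, S.finrank_top_eq, Fintype.card_fin]; omega) 0
    have huv0 : TransvMax.pB QF u v = 0 := hu 0
    obtain ⟨w, hw⟩ := S.exists_values (v := ![u, v]) (S.sing_indep_pair hv0 huv) ![0, 1]
    have hwu : TransvMax.pB QF w u = 0 := hw 0
    refine ⟨_, QMax.glOf_siegel_mem_omega S hQu hwu, fun h => huv ?_⟩
    have h1 := (QMax.subspace_stab_iff S _ _).1 h.1 v (Submodule.mem_span_singleton_self v)
    rw [S.siegel_apply, TransvMax.siegelHom_apply, S.pB_comm v u, huv0, S.pB_comm v w,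
      show TransvMax.pB QF w v = 1 from hw 1] at h1
    have h3 := Submodule.sub_mem _ (Submodule.mem_span_singleton_self v) h1
    simpa using h3
  have hgo := QMax.omegaGL_iso S (hK hgK)
  have hgK' : TransvMax.glOf (TransvMax.linOf g) ∈ K := by rw [TransvMax.glOf_linOf]; exact hgK
  set v' := TransvMax.linOf g v with hv'
  have hvv : v' ∉ Submodule.span F {v} := fun h => hg ⟨by
    rw [← TransvMax.glOf_linOf g]
    refine (QMax.subspace_stab_iff S _ _).2 fun x hx => ?_
    obtain ⟨c, rfl⟩ := Submodule.mem_span_singleton.1 hx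
    rw [map_smul]
    exact Submodule.smul_mem _ c h, hK hgK⟩
  have hH : ∀ u w (hQu : QF u = 0) (hwu : TransvMax.pB QF w u = 0), TransvMax.pB QF u v = 0 →
      TransvMax.pB QF w v = 0 → TransvMax.glOf (S.siegel u w hQu hwu) ∈ K := by
    intro u w hQu hwu huv hwv
    refine hHK ⟨(QMax.subspace_stab_iff S _ _).2 fun x hx => ?_, QMax.glOf_siegel_mem_omega S hQu hwu⟩
    obtain ⟨c, rfl⟩ := Submodule.mem_span_singleton.1 hx
    rw [map_smul, S.siegel_apply, TransvMax.siegelHom_apply, S.pB_comm v u, huv, S.pB_comm v w, hwv]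
    simpa using Submodule.smul_mem _ c (Submodule.mem_span_singleton_self v)
  have hH' : ∀ u w (hQu : QF u = 0) (hwu : TransvMax.pB QF w u = 0), TransvMax.pB QF u v' = 0 →
      TransvMax.pB QF w v' = 0 → TransvMax.glOf (S.siegel u w hQu hwu) ∈ K := by
    intro u w hQu hwu huv hwv
    set L := TransvMax.linOf g
    have e : ∀ a b, TransvMax.pB QF (L.symm a) (L.symm b) = TransvMax.pB QF a b := fun a b => by
      rw [← S.pB_of_mem hgo, L.apply_symm_apply, L.apply_symm_apply]
    have hQ' : QF (L.symm u) = 0 := by rw [← hgo (L.symm u), L.apply_symm_apply, hQu]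
    have hw' : TransvMax.pB QF (L.symm w) (L.symm u) = 0 := by rw [e, hwu]
    have h1 : TransvMax.pB QF (L.symm u) v = 0 := by
      rw [show v = L.symm v' from (L.symm_apply_apply v).symm, e, huv]
    have h2 : TransvMax.pB QF (L.symm w) v = 0 := by
      rw [show v = L.symm v' from (L.symm_apply_apply v).symm, e, hwv]
    have h3 := K.mul_mem (K.mul_mem hgK' (hH _ _ hQ' hw' h1 h2)) (K.inv_mem hgK')
    rwa [← map_inv, ← map_mul, ← map_mul, S.siegel_conj hgo,
      S.siegel_congr (L.apply_symm_apply u) (L.apply_symm_apply w) (hu' := hQu) (hw' := hwu)] at h3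
  have hlivv : LinearIndependent F ![v', v] := S.sing_indep_pair hv0 hvv
  obtain ⟨a, -, hQa, ha, haX⟩ := S.topDec.exists_norm_out (k := 2) ![v, v']
    (Submodule.span F (Set.range ![v', v])) (hn7 2 (by omega)) (by
      rw [finrank_span_eq_card hlivv, S.finrank_top_eq, Fintype.card_fin, Fintype.card_fin]; omega) 0
  have hav : TransvMax.pB QF a v = 0 := ha 0
  have hav' : TransvMax.pB QF a v' = 0 := ha 1
  have hli : LinearIndependent F ![a, v', v] := linearIndependent_finCons.2 ⟨hlivv, haX⟩
  obtain ⟨b, -, hQb, hb⟩ := S.topDec.exists_values_in (v := ![a, v', v]) (fun i => Submodule.mem_top)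
    hli (hn7 3 le_rfl) ![1, 0, 0] 0
  have hba : TransvMax.pB QF b a = 1 := hb 0
  have hbv' : TransvMax.pB QF b v' = 0 := hb 1
  have hbv : TransvMax.pB QF b v = 0 := hb 2
  have hgood : ∀ u u', QF u = 0 → QF u' = 0 → TransvMax.pB QF u u' = 1 →
      TransvMax.pB QF u v = 0 → TransvMax.pB QF u v' = 0 → TransvMax.pB QF u' v = 0 →
      u ∉ Submodule.span F (Set.range ![v', v]) →
      ∀ (hQu : QF u = 0) (w : Fin n → F) (hw : TransvMax.pB QF w u = 0),
        TransvMax.glOf (S.siegel u w hQu hw) ∈ K := by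
    intro u u' hQu hQu' huu' huv huv' hu'v huX _ w hw
    obtain ⟨z, hz⟩ := S.exists_values (v := ![u, v', v]) (linearIndependent_finCons.2 ⟨hlivv, huX⟩) ![0, 0, 1]
    have hzu : TransvMax.pB QF z u = 0 := hz 0
    have hzv' : TransvMax.pB QF z v' = 0 := hz 1
    have hzv : TransvMax.pB QF z v = 1 := hz 2
    have hscal : ∀ c : F, ∀ h : TransvMax.pB QF (c • z) u = 0,
        TransvMax.glOf (S.siegel u (c • z) hQu h) ∈ K := fun c h =>
      hH' u (c • z) hQu h huv' (by rw [map_smul, LinearMap.smul_apply, hzv', smul_zero])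
    set c := TransvMax.pB QF w v
    have h1 : TransvMax.pB QF (w - c • z) u = 0 := by
      rw [map_sub, map_smul, LinearMap.sub_apply, LinearMap.smul_apply, hw, hzu, smul_zero, sub_zero]
    have h3 : TransvMax.pB QF (c • z) u = 0 := by
      rw [map_smul, LinearMap.smul_apply, hzu, smul_zero]
    have h4 : TransvMax.pB QF (w - c • z) v = 0 := by
      rw [map_sub, map_smul, LinearMap.sub_apply, LinearMap.smul_apply, hzv, smul_eq_mul, mul_one, sub_self]
    rw [S.siegel_congr rfl (sub_add_cancel w (c • z)).symm (hu' := hQu)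
      (hw' := by rw [sub_add_cancel]; exact hw), ← S.siegel_mul hQu h1 h3, map_mul]
    exact K.mul_mem (hH u _ hQu h1 huv h4) (hscal c h3)
  have hbX : b ∉ Submodule.span F (Set.range ![v', v]) := fun h => by
    have hle : Submodule.span F (Set.range ![v', v]) ≤ LinearMap.ker (TransvMax.pB QF a) := by
      rw [Submodule.span_le]
      rintro _ ⟨i, rfl⟩
      fin_cases i
      · exact hav'
      · exact hav
    have h1 : TransvMax.pB QF a b = 0 := hle h
    rw [S.pB_comm, hba] at h1
    exact one_ne_zero h1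
  exact QMax.siegel_mem_of_pair S hQa hQb (by rw [S.pB_comm, hba]; exact one_ne_zero)
    (fun w hw => hgood a b hQa hQb (by rw [S.pB_comm, hba]) hav hav' hbv haX hQa w hw)
    (fun w hw => hgood b a hQb hQa hba hbv hbv' hav hbX hQb w hw)

end Cfsg.Agent.S5691
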