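import Cfsg.Agent.Lib.TransvMax.RefinePlus
-- import your own Cfsg.Agent.* helpers here

set_option autoImplicit false
open Cfsg

namespace Cfsg.Agent.S5693

open Cfsg.Agent

/-- Let F be a finite field with q elements, n ≥ 13 even, Q a non-degenerate quadratic form on F^n of plus type (some subspace of dimension n/2 is totally singular), and Ω the commutator subgroup of the isometry group of Q, viewed inside GL_n(F). Let D be a decomposition of F^n into t ≥ 2 pairwise orthogonal, pairwise Q-isometric subspaces of equal dimension k on which the polar form is non-degenerate (with, for even k, all members of plus type or t even; for odd k, q odd and square discriminant), in one of the cases: k = 2 with q = 3; k = 2 with plus-type members and q ∈ {2, 4, 5}; k = 3 with q = 3; k = 4 with plus-type members and q = 2. Then the elements of Ω permuting the members of D form a subgroup that is not maximal: some subgroup lies strictly between it and Ω. -/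
theorem result {F : Type*} [Field F] [Fintype F] {n : ℕ} (hn : 13 ≤ n) (heven : Even n) (Q : (Fin n → F) → F) (hQ : Cfsg.Geo.IsNondegenerateQuadraticForm Q) (hplus : Cfsg.Geo.IsPlusTypeOn Q ⊤) {t : ℕ} (k : ℕ) (D : Fin t → Submodule F (Fin n → F)) (hD : Cfsg.Geo.IsOrthogonalMDecomposition Q k D) (hke : Even k → ((∀ i, Cfsg.Geo.IsPlusTypeOn Q (D i)) ∨ Even t)) (hko : Odd k → (Odd (Fintype.card F) ∧ Cfsg.Geo.HasSquareDiscriminant Q)) (hcase : ((k = 2 ∧ (Fintype.card F = 3 ∨ ((∀ i, Cfsg.Geo.IsPlusTypeOn Q (D i)) ∧ (Fintype.card F = 2 ∨ Fintype.card F = 4 ∨ Fintype.card F = 5)))) ∨ (k = 3 ∧ Fintype.card F = 3) ∨ (k = 4 ∧ Fintype.card F = 2 ∧ ∀ i, Cfsg.Geo.IsPlusTypeOn Q (D i)))) : ∃ K : Subgroup (Matrix.GeneralLinearGroup (Fin n) F), Cfsg.Geo.decompositionStabilizer D ⊓ Cfsg.Geo.omegaGL Q < K ∧ K < Cfsg.Geo.omegaGL Q := by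
  let QF : QuadraticForm F (Fin n → F) := QuadraticMap.ofPolar Q
    (fun a x => by rw [hQ.smul, smul_eq_mul, pow_two])
    (fun x x' y => hQ.polar_bilinear.add_left x x' y)
    (fun a x y => hQ.polar_bilinear.smul_left a x y)
  have hQF : ⇑QF = Q := rfl
  have S : QMax.QSetting QF := ⟨⟨fun v hv => by
      by_contra h0
      obtain ⟨x, hx⟩ := (hQ.nondegenerate v h0).2
      exact hx (hv x), fun v hv => by
      by_contra h0
      obtain ⟨x, hx⟩ := (hQ.nondegenerate v h0).1
      exact hx (hv x)⟩, by simp only [Fintype.card_fin]; omega⟩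
  obtain ⟨c, -⟩ := FrameLib.exists_coords hD.decomp.decomp
  have htn : t * k = n := by
    have := c.finrank_eq
    simp [Module.finrank_pi_fintype] at this
    exact this.symm
  have hneg : ∀ {a b : F}, Fintype.card F = 4 → a * b = 1 → b = a ^ 2 := by
    intro a b h4 hab
    have h := FiniteField.pow_card_sub_one_eq_one a (left_ne_zero_of_mul_eq_one hab)
    rw [h4] at h
    linear_combination a ^ 2 * hab - b * h
  have htwo : (Fintype.card F = 2 ∨ Fintype.card F = 4) → (2 : F) = 0 := by
    intro h
    have hcast := FiniteField.cast_card_eq_zero F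
    rcases h with h | h <;> rw [h] at hcast
    · exact_mod_cast hcast
    · have : (2 : F) * 2 = 0 := by push_cast at hcast; linear_combination hcast
      exact mul_self_eq_zero.mp this
  rcases hcase with ⟨rfl, h3 | ⟨hp, h2 | h4 | h5⟩⟩ | ⟨rfl, h3⟩ | ⟨rfl, h2, hp⟩
  · exact QMax.Refine.not_maximal_three S h3 (by omega) (Or.inl rfl) (Q := QF) hD
  · refine QMax.Refine.not_maximal_planes_two S (htwo (Or.inl h2)) (fun a b hab => ?_) (by omega)
      (Q := QF) hD hp
    have ha : a = 1 := by
      have h := FiniteField.pow_card_sub_one_eq_one a (left_ne_zero_of_mul_eq_one hab)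
      rwa [h2, pow_one] at h
    rw [ha, one_mul] at hab
    rw [ha, hab, one_pow]
  · exact QMax.Refine.not_maximal_planes_two S (htwo (Or.inr h4)) (fun a b hab => hneg h4 hab) (by omega)
      (Q := QF) hD hp
  · exact QMax.Refine.not_maximal_planes_five S h5 (by omega) (Q := QF) hD hp
  · exact QMax.Refine.not_maximal_three S h3 (by omega) (Or.inr rfl) (Q := QF) hD
  · exact QMax.Refine.not_maximal_quads_two S h2 (by omega) (Q := QF) hD hp

end Cfsg.Agent.S5693
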