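import Cfsg.Statements.S5697
import Cfsg.Agent.Lib.TransvMax.QuadPair
-- import your own Cfsg.Agent.* helpers here

set_option autoImplicit false
open Cfsg

namespace Cfsg.Agent.S5697

open Cfsg.Agent

/-- Let F be a finite field with q elements, n ≥ 13 even, Q a non-degenerate quadratic form on F^n of plus type (some subspace of dimension n/2 is totally singular), and Ω the commutator subgroup of the isometry group of Q, viewed inside GL_n(F). Suppose n/2 is even and let D be a decomposition of F^n into two complementary subspaces of dimension n/2 on each of which Q vanishes. Then the elements of Ω preserving or interchanging the two subspaces form a maximal subgroup of Ω. -/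
theorem result {F : Type*} [Field F] [Fintype F] {n : ℕ} (hn : 13 ≤ n) (heven : Even n) (Q : (Fin n → F) → F) (hQ : Cfsg.Geo.IsNondegenerateQuadraticForm Q) (hplus : Cfsg.Geo.IsPlusTypeOn Q ⊤) (k : ℕ) (hk : 2 * k = n) (hke : Even k) (D : Fin 2 → Submodule F (Fin n → F)) (hD : Cfsg.Geo.IsMDecomposition k D) (hts : ∀ i, Cfsg.Geo.IsTotallySingularQuad Q (D i)) : Cfsg.Geo.IsMaximalIn (Cfsg.Geo.omegaGL Q) (Cfsg.Geo.decompositionStabilizer D ⊓ Cfsg.Geo.omegaGL Q) := by
  let QF : QuadraticForm F (Fin n → F) := QuadraticMap.ofPolar Q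
    (fun a x => by rw [hQ.smul, smul_eq_mul, pow_two])
    (fun x x' y => hQ.polar_bilinear.add_left x x' y)
    (fun a x y => hQ.polar_bilinear.smul_left a x y)
  have hQF : ⇑QF = Q := rfl
  have S : QMax.QSetting QF := ⟨⟨fun v hv => by
      by_contra h0
      obtain ⟨x, hx⟩ := (hQ.nondegenerate v h0).2
      exact hx (hv x), fun v hv => by
      by_contra h0
      obtain ⟨x, hx⟩ := (hQ.nondegenerate v h0).1
      exact hx (hv x)⟩, by simp only [Fintype.card_fin]; omega⟩
  have hd : IsCompl (D 0) (D 1) := by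
    refine ⟨hD.indep.pairwiseDisjoint (show (0 : Fin 2) ≠ 1 by decide),
      codisjoint_iff.2 (eq_top_iff.2 ?_)⟩
    rw [← hD.iSup_eq_top]
    refine iSup_le fun i => ?_
    fin_cases i
    · exact le_sup_left
    · exact le_sup_right
  have P : QMax.Halves S (D 0) (D 1) := ⟨hd, fun x hx => hts 0 x hx, fun x hx => hts 1 x hx,
    by rw [hD.finrank_eq, hD.finrank_eq], by rw [hD.finrank_eq]; omega⟩
  obtain ⟨r, hr⟩ := hke
  rw [← hQF]
  refine P.pair_maximal (r := r) (by rw [hD.finrank_eq]; exact hr) fun g => ?_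
  have hl : ∀ (i j : Fin 2), (D i).map (Matrix.toLin' (g : Matrix (Fin n) (Fin n) F)) = D j ↔
      ∀ x ∈ D i, TransvMax.linOf g x ∈ D j := by
    intro i j
    have he : Matrix.toLin' (g : Matrix (Fin n) (Fin n) F) =
        (TransvMax.linOf g : (Fin n → F) →ₗ[F] (Fin n → F)) :=
      LinearMap.ext fun x => by simp [TransvMax.linOf_apply]
    rw [he]
    refine ⟨fun h x hx => h.le ⟨x, hx, rfl⟩, fun h => Submodule.eq_of_le_of_finrank_eq ?_
      (by rw [LinearEquiv.finrank_map_eq, hD.finrank_eq, hD.finrank_eq])⟩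
    rintro _ ⟨x, hx, rfl⟩
    exact h x hx
  constructor
  · rintro ⟨⟨σ, hσ⟩, hgΩ⟩
    refine ⟨hgΩ, ?_⟩
    rcases (show ∀ a : Fin 2, a = 0 ∨ a = 1 by decide) (σ 0) with e0 | e0 <;>
      rcases (show ∀ a : Fin 2, a = 0 ∨ a = 1 by decide) (σ 1) with e1 | e1
    · exact absurd (σ.injective (e1.trans e0.symm)) (by decide)
    · exact Or.inl ⟨(hl 0 0).1 ((hσ 0).trans (congrArg D e0)), (hl 1 1).1 ((hσ 1).trans (congrArg D e1))⟩
    · exact Or.inr ⟨(hl 0 1).1 ((hσ 0).trans (congrArg D e0)), (hl 1 0).1 ((hσ 1).trans (congrArg D e1))⟩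
    · exact absurd (σ.injective (e1.trans e0.symm)) (by decide)
  · rintro ⟨hgΩ, ⟨h0, h1⟩ | ⟨h0, h1⟩⟩
    · refine ⟨⟨1, fun i => ?_⟩, hgΩ⟩
      fin_cases i
      · exact (hl 0 0).2 h0
      · exact (hl 1 1).2 h1
    · refine ⟨⟨Equiv.swap 0 1, fun i => ?_⟩, hgΩ⟩
      fin_cases i
      · exact (hl 0 1).2 h0
      · exact (hl 1 0).2 h1

end Cfsg.Agent.S5697
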