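import Cfsg.Statements.S5698
import Cfsg.Agent.Lib.TransvMax.QuadSingular
-- import your own Cfsg.Agent.* helpers here

set_option autoImplicit false
open Cfsg

namespace Cfsg.Agent.S5698

open Cfsg.Agent

/-- Let F be a finite field with q elements, n ≥ 13 even, Q a non-degenerate quadratic form on F^n of plus type (some subspace of dimension n/2 is totally singular), and Ω the commutator subgroup of the isometry group of Q, viewed inside GL_n(F). Suppose n/2 is odd and let D be a decomposition of F^n into two complementary subspaces of dimension n/2 on each of which Q vanishes. Then the elements of Ω preserving or interchanging the two subspaces form a subgroup that is not maximal: some subgroup lies strictly between it and Ω. -/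
theorem result {F : Type*} [Field F] [Fintype F] {n : ℕ} (hn : 13 ≤ n) (heven : Even n) (Q : (Fin n → F) → F) (hQ : Cfsg.Geo.IsNondegenerateQuadraticForm Q) (hplus : Cfsg.Geo.IsPlusTypeOn Q ⊤) (k : ℕ) (hk : 2 * k = n) (hko : Odd k) (D : Fin 2 → Submodule F (Fin n → F)) (hD : Cfsg.Geo.IsMDecomposition k D) (hts : ∀ i, Cfsg.Geo.IsTotallySingularQuad Q (D i)) : ∃ K : Subgroup (Matrix.GeneralLinearGroup (Fin n) F), Cfsg.Geo.decompositionStabilizer D ⊓ Cfsg.Geo.omegaGL Q < K ∧ K < Cfsg.Geo.omegaGL Q := by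
  let QF : QuadraticForm F (Fin n → F) := QuadraticMap.ofPolar Q
    (fun a x => by rw [hQ.smul, smul_eq_mul, pow_two])
    (fun x x' y => hQ.polar_bilinear.add_left x x' y)
    (fun a x y => hQ.polar_bilinear.smul_left a x y)
  have hQF : ⇑QF = Q := rfl
  have S : QMax.QSetting QF := ⟨⟨fun v hv => by
      by_contra h0
      obtain ⟨x, hx⟩ := (hQ.nondegenerate v h0).2
      exact hx (hv x), fun v hv => by
      by_contra h0
      obtain ⟨x, hx⟩ := (hQ.nondegenerate v h0).1
      exact hx (hv x)⟩, by simp only [Fintype.card_fin]; omega⟩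
  have hk0 : ∀ i, Module.finrank F (D i) = k := hD.finrank_eq
  have hcard : Fintype.card (Fin n) = 2 * k := by rw [Fintype.card_fin]; omega
  have hsing : ∀ i, ∀ x ∈ D i, QF x = 0 := fun i x hx => hts i x hx
  have hdis : D 0 ⊓ D 1 = ⊥ :=
    disjoint_iff.1 (hD.indep.pairwiseDisjoint (show (0 : Fin 2) ≠ 1 by decide))
  rw [← hQF]
  refine ⟨Cfsg.Geo.subspaceStabilizer (D 0) ⊓ Cfsg.Geo.omegaGL ⇑QF,
    lt_of_le_of_ne (fun g hg => ⟨?_, hg.2⟩) fun h => ?_, lt_of_le_of_ne inf_le_right fun h => ?_⟩
  · obtain ⟨⟨σ, hσ⟩, hgΩ⟩ := hg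
    have hl : (TransvMax.linOf g : (Fin n → F) →ₗ[F] (Fin n → F)) =
        Matrix.toLin' (g : Matrix (Fin n) (Fin n) F) :=
      LinearMap.ext fun x => by simp [TransvMax.linOf_apply]
    have h0 := hσ 0
    rcases (show ∀ a : Fin 2, a = 0 ∨ a = 1 by decide) (σ 0) with e | e
    · rw [e, ← hl] at h0
      rw [← TransvMax.glOf_linOf g]
      exact (QMax.subspace_stab_iff S _ _).2 fun x hx => h0.le ⟨x, hx, rfl⟩
    · rw [e, ← hl] at h0
      have h3 := QMax.omega_parity S (X := D 0) (Y := D 0) hcard (hsing 0) (hsing 0) (hk0 0) (hk0 0) hgΩ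
      rw [inf_idem, h0, hdis, finrank_bot, hk0] at h3
      rw [Nat.odd_iff] at hko
      omega
  · have hD0 : D 0 ≠ ⊥ := fun e => by
      have := hk0 0
      rw [e, finrank_bot] at this
      omega
    obtain ⟨u, hu, hu0⟩ := (Submodule.ne_bot_iff _).1 hD0
    obtain ⟨w, hw, hwu⟩ := SetLike.not_le_iff_exists.1 (show ¬ D 0 ≤ Submodule.span F {u} from fun h => by
      have := Submodule.finrank_mono h
      rw [hk0, finrank_span_singleton hu0] at this
      omega)
    have hwu0 : TransvMax.pB QF w u = 0 := QMax.isotropic_of_singular S (hsing 0) hw hu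
    have hmem : TransvMax.glOf (S.siegel u w (hsing 0 u hu) hwu0) ∈
        Cfsg.Geo.subspaceStabilizer (D 0) ⊓ Cfsg.Geo.omegaGL ⇑QF := by
      refine ⟨(QMax.subspace_stab_iff S _ _).2 fun x hx => ?_, QMax.glOf_siegel_mem_omega S _ hwu0⟩
      rw [S.siegel_apply, TransvMax.siegelHom_apply]
      exact Submodule.sub_mem _ (Submodule.sub_mem _ (Submodule.add_mem _ hx
        (Submodule.smul_mem _ _ hw)) (Submodule.smul_mem _ _ hu)) (Submodule.smul_mem _ _ hu)
    rw [← h] at hmem
    obtain ⟨⟨σ, hσ⟩, -⟩ := hmem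
    have hfix : σ 0 = 0 := by
      rcases (show ∀ a : Fin 2, a = 0 ∨ a = 1 by decide) (σ 0) with e | e
      · exact e
      · exfalso
        have h0 := hσ 0
        rw [e] at h0
        have h1 : u ∈ D 0 ⊓ D 1 := by
          refine ⟨hu, ?_⟩
          rw [← h0]
          refine ⟨u, hu, ?_⟩
          rw [Matrix.toLin'_apply, TransvMax.glOf_mulVec, S.siegel_apply, TransvMax.siegelHom_apply,
            QMax.isotropic_of_singular S (hsing 0) hu hu, QMax.isotropic_of_singular S (hsing 0) hu hw]
          simp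
        rw [hdis] at h1
        exact hu0 h1
    have hfix1 : σ 1 = 1 := by
      rcases (show ∀ a : Fin 2, a = 0 ∨ a = 1 by decide) (σ 1) with e | e
      · exact absurd (σ.injective (e.trans hfix.symm)) (by decide)
      · exact e
    obtain ⟨x₀, hx₀⟩ := S.exists_values (v := ![u, w]) (LinearIndependent.pair_iff' hu0 |>.2
      fun c e => hwu (Submodule.mem_span_singleton.2 ⟨c, e⟩)) ![1, 0]
    obtain ⟨x, hx, hxu, hxw⟩ : ∃ x ∈ D 1, TransvMax.pB QF x u = 1 ∧ TransvMax.pB QF x w = 0 := by
      have htop : D 0 ⊔ D 1 = ⊤ := by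
        refine eq_top_iff.2 ?_
        rw [← hD.iSup_eq_top]
        refine iSup_le fun i => ?_
        fin_cases i
        · exact le_sup_left
        · exact le_sup_right
      obtain ⟨a, ha, b, hb, hab⟩ := Submodule.mem_sup.1 (htop.ge (Submodule.mem_top (x := x₀)))
      refine ⟨b, hb, ?_, ?_⟩
      · have := hx₀ 0
        rw [← hab, map_add, LinearMap.add_apply] at this
        simpa [QMax.isotropic_of_singular S (hsing 0) ha hu] using this
      · have := hx₀ 1
        rw [← hab, map_add, LinearMap.add_apply] at this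
        simpa [QMax.isotropic_of_singular S (hsing 0) ha hw] using this
    have h2 : (TransvMax.glOf (S.siegel u w (hsing 0 u hu) hwu0) : Matrix (Fin n) (Fin n) F).mulVec x
        ∈ D 1 := by
      have := hσ 1
      rw [hfix1] at this
      exact this.le ⟨x, hx, Matrix.toLin'_apply _ _⟩
    rw [TransvMax.glOf_mulVec, S.siegel_apply, TransvMax.siegelHom_apply, hxu, hxw, hsing 0 w hw] at h2
    have h3 : w ∈ D 0 ⊓ D 1 := ⟨hw, by simpa using Submodule.sub_mem _ h2 hx⟩
    rw [hdis] at h3
    exact hwu (by rw [(Submodule.mem_bot F).1 h3]; exact Submodule.zero_mem _)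
  · have hD0 : D 0 ≠ ⊥ := fun e => by
      have := hk0 0
      rw [e, finrank_bot] at this
      omega
    obtain ⟨a, ha, ha0⟩ := (Submodule.ne_bot_iff _).1 hD0
    obtain ⟨g, hg, hg'⟩ := QMax.exists_siegel_move S (hsing 0) ha ha0
    rw [← h] at hg
    exact hg' hg.1

end Cfsg.Agent.S5698
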