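import Cfsg.Statements.S5699
import Cfsg.Agent.Lib.TransvMax.OrthSubspace
import Cfsg.Agent.Lib.Forms.OddInvol
import Cfsg.Agent.Lib.Forms.Alt
-- import your own Cfsg.Agent.* helpers here

set_option autoImplicit false
open Cfsg

namespace Cfsg.Agent.S5699

open Cfsg.Agent

/-- Let F be a finite field with q elements, n ≥ 13 even, Q a non-degenerate quadratic form on F^n (of either type), and Ω the commutator subgroup of the isometry group of Q, viewed inside GL_n(F). Let D be a decomposition of F^n into two orthogonal subspaces of odd dimension n/2 on which the polar form is non-degenerate and which are not Q-isometric to each other. Then the elements of Ω permuting (necessarily fixing) the two subspaces form a maximal subgroup of Ω. -/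
theorem result {F : Type*} [Field F] [Fintype F] {n : ℕ} (hn : 13 ≤ n) (heven : Even n) (Q : (Fin n → F) → F) (hQ : Cfsg.Geo.IsNondegenerateQuadraticForm Q) (k : ℕ) (hk : 2 * k = n) (hko : Odd k) (D : Fin 2 → Submodule F (Fin n → F)) (hD : Cfsg.Geo.IsNondegenerateMDecomposition (QuadraticMap.polar Q) k D) (hni : ¬ Cfsg.Geo.AreIsometricFor Q (D 0) (D 1)) : Cfsg.Geo.IsMaximalIn (Cfsg.Geo.omegaGL Q) (Cfsg.Geo.decompositionStabilizer D ⊓ Cfsg.Geo.omegaGL Q) := by
  subst hk
  let QF : QuadraticForm F (Fin (2 * k) → F) := QuadraticMap.ofPolar Q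
    (fun a x => by rw [hQ.smul, smul_eq_mul, pow_two])
    (fun x x' y => hQ.polar_bilinear.add_left x x' y)
    (fun a x y => hQ.polar_bilinear.smul_left a x y)
  have hQF : ⇑QF = Q := rfl
  have hnd : ∀ i, ∀ w ∈ D i, w ≠ 0 → ∃ x ∈ D i, TransvMax.pB QF x w ≠ 0 := fun i w hw hw0 => by
    obtain ⟨x, hx, hxw⟩ := (hD.nondegenerate i w hw hw0).1
    exact ⟨x, hx, by rw [QuadraticMap.polarBilin_apply_apply, hQF]; exact hxw⟩
  have hcomm : ∀ x y, TransvMax.pB QF x y = TransvMax.pB QF y x := fun x y => by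
    simp only [QuadraticMap.polarBilin_apply_apply, QuadraticMap.polar_comm ⇑QF x y]
  have h2 : ringChar F ≠ 2 := by
    intro h
    haveI : CharP F 2 := ringChar.of_eq h
    let B := (TransvMax.pB QF).restrict (D 0)
    have hA : LinearMap.IsAlt B := fun x => by
      show TransvMax.pB QF x.1 x.1 = 0
      rw [QuadraticMap.polarBilin_apply_apply, FormsLib.polar_self', CharTwo.two_eq_zero, zero_mul]
    have hN : LinearMap.Nondegenerate B := by
      constructor <;> intro x hx <;> by_contra h0 <;>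
        obtain ⟨y, hy, hyx⟩ := hnd 0 x x.2 (fun e => h0 (Subtype.ext e))
      · exact hyx (by rw [hcomm]; simpa [B] using hx ⟨y, hy⟩)
      · exact hyx (by simpa [B] using hx ⟨y, hy⟩)
    obtain ⟨r, b, -, -, -⟩ := FormsLib.exists_symplectic_basis_nondeg hA hN
    have h3 := Module.finrank_eq_card_basis b
    rw [hD.decomp.finrank_eq, Fintype.card_sum, Fintype.card_fin] at h3
    obtain ⟨j, hj⟩ := hko
    omega
  have S : TransvMax.OSetting QF := ⟨h2, ⟨fun v hv => by
      by_contra h0
      obtain ⟨x, hx⟩ := (hQ.nondegenerate v h0).2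
      exact hx (hv x), fun v hv => by
      by_contra h0
      obtain ⟨x, hx⟩ := (hQ.nondegenerate v h0).1
      exact hx (hv x)⟩, by simpa using hn⟩
  have hd : IsCompl (D 0) (D 1) := by
    refine ⟨hD.decomp.indep.pairwiseDisjoint (show (0 : Fin 2) ≠ 1 by decide),
      codisjoint_iff.2 (eq_top_iff.2 ?_)⟩
    rw [← hD.decomp.iSup_eq_top]
    refine iSup_le fun i => ?_
    fin_cases i
    · exact le_sup_left
    · exact le_sup_right
  have hor : TransvMax.ODec S (D 0) (D 1) := ⟨hd, fun a ha b hb => by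
    rw [QuadraticMap.polarBilin_apply_apply, hQF]
    exact hD.orthogonal 0 1 (by decide) a ha b hb⟩
  have hiso : ∀ g ∈ FormsLib.oGroup QF, ¬ ∀ x ∈ D 1, g x ∈ D 0 := by
    intro g hg h
    have hle : (D 1).map (g : (Fin (2 * k) → F) →ₗ[F] _) = D 0 := by
      refine Submodule.eq_of_le_of_finrank_eq ?_
        (by rw [g.finrank_map_eq, hD.decomp.finrank_eq, hD.decomp.finrank_eq])
      rintro _ ⟨x, hx, rfl⟩
      exact h x hx
    refine hni ⟨((g.submoduleMap (D 1)).trans (LinearEquiv.ofEq _ _ hle)).symm, fun w => ?_⟩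
    set e := (g.submoduleMap (D 1)).trans (LinearEquiv.ofEq _ _ hle)
    have he : (e (e.symm w) : Fin (2 * k) → F) = g (e.symm w : Fin (2 * k) → F) := rfl
    rw [e.apply_symm_apply] at he
    rw [← hQF, he, hg]
  have hHeq : Cfsg.Geo.decompositionStabilizer D ⊓ Cfsg.Geo.omegaGL Q =
      Cfsg.Geo.subspaceStabilizer (D 0) ⊓ Cfsg.Geo.omegaGL Q := by
    ext g
    refine ⟨fun ⟨⟨σ, hσ⟩, hg⟩ => ⟨?_, hg⟩, fun ⟨h1, hg⟩ => ⟨?_, hg⟩⟩
    · have ho := TransvMax.omegaGL_iso S (show g ∈ Cfsg.Geo.omegaGL ⇑QF from hg)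
      have h0 : ∀ i, ∀ x ∈ D i, TransvMax.linOf g x ∈ D (σ i) := fun i x hx => by
        rw [← hσ i]
        exact ⟨x, hx, by simp [TransvMax.linOf_apply]⟩
      have h10 : σ 1 = 1 := by
        rcases (show ∀ a : Fin 2, a = 0 ∨ a = 1 by decide) (σ 1) with e | e
        · exact absurd (fun x hx => e ▸ h0 1 x hx) (hiso _ ho)
        · exact e
      rw [← TransvMax.glOf_linOf g]
      exact (hor.mem_stab_iff ho).2 fun x hx => h10 ▸ h0 1 x hx
    · have ho := TransvMax.omegaGL_iso S (show g ∈ Cfsg.Geo.omegaGL ⇑QF from hg)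
      refine ⟨1, fun i => Submodule.eq_of_le_of_finrank_eq ?_ ?_⟩
      · have hall : ∀ i, ∀ x ∈ D i, TransvMax.linOf g x ∈ D i := by
          intro i
          have ha : g ∈ Cfsg.Geo.subspaceStabilizer (D 0) ⊓ Cfsg.Geo.omegaGL ⇑QF := ⟨h1, hg⟩
          have hb : g ∈ Cfsg.Geo.subspaceStabilizer (D 1) ⊓ Cfsg.Geo.omegaGL ⇑QF := hor.stab_swap ▸ ha
          rw [← TransvMax.glOf_linOf g] at ha hb
          fin_cases i
          · exact (hor.swap.mem_stab_iff ho).1 hb.1
          · exact (hor.mem_stab_iff ho).1 ha.1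
        rintro _ ⟨x, hx, rfl⟩
        simpa [TransvMax.linOf_apply] using hall i x hx
      · rw [show Matrix.toLin' (g : Matrix (Fin (2 * k)) (Fin (2 * k)) F) =
            (TransvMax.linOf g : (Fin (2 * k) → F) →ₗ[F] (Fin (2 * k) → F)) from
          LinearMap.ext fun x => by simp [TransvMax.linOf_apply], LinearEquiv.finrank_map_eq]
        rfl
  rw [hHeq, ← hQF]
  refine hor.stab_maximal (by rw [hD.decomp.finrank_eq]; omega) (fun e => ?_)
    (fun ⟨_, hdim, _⟩ => ?_) hiso
  · have := hD.decomp.finrank_eq 0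
    rw [e, finrank_bot] at this
    omega
  · rw [hD.decomp.finrank_eq] at hdim
    obtain ⟨j, hj⟩ := hko
    omega

end Cfsg.Agent.S5699
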