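import Cfsg.Agent.Lib.TransvMax.HermExt
-- import your own Cfsg.Agent.* helpers here

set_option autoImplicit false
open Cfsg

namespace Cfsg.Agent.S5700

open Cfsg.Agent
open scoped Matrix

/-- Let F be a finite field with q elements, n ≥ 13 even, Q a non-degenerate quadratic form on F^n (of either type), and Ω the commutator subgroup of the isometry group of Q, viewed inside GL_n(F). Let K be a subfield of the algebra of n × n matrices over F containing the scalars, of degree 2 over F, closed under adjoints for the polar form of Q but not consisting of self-adjoint elements, and such that every k in K rescales Q (Q(k v) = c Q(v) for a constant c depending on k). Then the elements of Ω normalising K form a maximal subgroup of Ω. -/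
theorem result {F : Type*} [Field F] [Fintype F] {n : ℕ} (hn : 13 ≤ n) (heven : Even n) (Q : (Fin n → F) → F) (hQ : Cfsg.Geo.IsNondegenerateQuadraticForm Q) (K : Subalgebra F (Matrix (Fin n) (Fin n) F)) (hK : Cfsg.Geo.IsFieldSubalgebra 2 K) (hac : Cfsg.Geo.IsAdjointClosedFor (QuadraticMap.polar Q) K) (hnsa : ¬ Cfsg.Geo.IsSelfAdjointFor (QuadraticMap.polar Q) K) (hsc : ∀ k ∈ K, ∃ c : F, ∀ v : (Fin n → F), Q (Matrix.mulVec k v) = c * Q v) : Cfsg.Geo.IsMaximalIn (Cfsg.Geo.omegaGL Q) (Cfsg.Geo.subalgebraNormalizer K ⊓ Cfsg.Geo.omegaGL Q) := by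
  classical
  let QF : QuadraticForm F (Fin n → F) := QuadraticMap.ofPolar Q
    (fun a x => by rw [hQ.smul, smul_eq_mul, pow_two])
    (fun x x' y => hQ.polar_bilinear.add_left x x' y)
    (fun a x y => hQ.polar_bilinear.smul_left a x y)
  have hQF : ⇑QF = Q := rfl
  have hpB : ∀ x y, TransvMax.pB QF x y = QuadraticMap.polar Q x y := fun x y => rfl
  have hn14 : 14 ≤ n := by obtain ⟨k, hk⟩ := heven; omega
  have S₀ : QMax.QSetting QF := ⟨⟨fun v hv => by
      by_contra h0
      obtain ⟨x, hx⟩ := (hQ.nondegenerate v h0).2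
      exact hx (hv x), fun v hv => by
      by_contra h0
      obtain ⟨x, hx⟩ := (hQ.nondegenerate v h0).1
      exact hx (hv x)⟩, by simp only [Fintype.card_fin]; omega⟩
  have hne : ∃ v : Fin n → F, v ≠ 0 := ⟨Pi.single ⟨0, by omega⟩ 1, by simp⟩
  -- an element which is not self-adjoint
  obtain ⟨j, hjK, u₀, v₀, hjne⟩ : ∃ j ∈ K, ∃ u v, QuadraticMap.polar Q (j *ᵥ u) v ≠
      QuadraticMap.polar Q u (j *ᵥ v) := by
    simp only [Cfsg.Geo.IsSelfAdjointFor] at hnsa
    push Not at hnsa
    exact hnsa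
  have hscal : ∀ c : F, j ≠ c • 1 := by
    intro c e
    refine hjne ?_
    rw [e, Matrix.smul_mulVec, Matrix.smul_mulVec, Matrix.one_mulVec, Matrix.one_mulVec, ← hpB, ← hpB,
      map_smul, map_smul, LinearMap.smul_apply]
  have hspan : ∀ k ∈ K, ∃ a b : F, k = a • 1 + b • j := by
    intro k hk
    have hli : LinearIndependent F ![(⟨1, K.one_mem⟩ : K), ⟨j, hjK⟩] := by
      rw [LinearIndependent.pair_iff]
      intro s t hst
      have hst' : s • (1 : Matrix (Fin n) (Fin n) F) + t • j = 0 := congrArg Subtype.val hst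
      by_cases ht : t = 0
      · haveI : Nonempty (Fin n) := ⟨⟨0, by omega⟩⟩
        rw [ht, zero_smul, add_zero, smul_eq_zero] at hst'
        exact ⟨hst'.resolve_right one_ne_zero, ht⟩
      · refine absurd ?_ (hscal (-(s / t)))
        rw [← smul_right_injective _ ht |>.eq_iff, smul_smul, mul_neg, mul_div_cancel₀ _ ht, neg_smul,
          eq_neg_iff_add_eq_zero, add_comm]
        exact hst'
    have hspan := hli.span_eq_top_of_card_eq_finrank (by rw [Fintype.card_fin, hK.finrank_eq])
    have hmem : (⟨k, hk⟩ : K) ∈ Submodule.span F (Set.range ![(⟨1, K.one_mem⟩ : K), ⟨j, hjK⟩]) := by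
      rw [hspan]; trivial
    obtain ⟨c, hc⟩ := Submodule.mem_span_range_iff_exists_fun F |>.1 hmem
    refine ⟨c 0, c 1, ?_⟩
    have := congrArg Subtype.val hc
    rw [Fin.sum_univ_two] at this
    exact this.symm
  let J : (Fin n → F) →ₗ[F] (Fin n → F) := Matrix.toLin' j
  have hJ : ∀ x, J x = j *ᵥ x := fun x => Matrix.toLin'_apply j x
  have hinj : ∀ a b : F, (∀ x, a • x + b • J x = 0) → a = 0 ∧ b = 0 := by
    intro a b h
    by_cases hb : b = 0
    · obtain ⟨v, hv⟩ := hne
      have h1 := h v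
      rw [hb, zero_smul, add_zero, smul_eq_zero] at h1
      exact ⟨h1.resolve_right hv, hb⟩
    · refine absurd (Matrix.ext_iff_mulVec.2 fun x => ?_) (hscal (-a / b))
      rw [Matrix.smul_mulVec, Matrix.one_mulVec, ← hJ, ← inv_smul_smul₀ hb (J x),
        eq_neg_of_add_eq_zero_right (h x), smul_neg, smul_smul, ← neg_smul]
      congr 1
      field_simp
  -- the quadratic equation and the adjoint
  obtain ⟨d₀, t, hd⟩ := hspan _ (K.mul_mem hjK hjK)
  obtain ⟨d, rfl⟩ : ∃ d, d₀ = -d := ⟨-d₀, (neg_neg _).symm⟩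
  have hsq : ∀ x, J (J x) = t • J x - d • x := fun x => by
    rw [hJ, hJ, Matrix.mulVec_mulVec, hd, Matrix.add_mulVec, Matrix.smul_mulVec, Matrix.smul_mulVec,
      Matrix.one_mulVec]
    module
  obtain ⟨j', hj'K, hadj⟩ := hac j hjK
  obtain ⟨a, b, hab⟩ := hspan j' hj'K
  have hA : ∀ x y, TransvMax.pB QF (J x) y = a * TransvMax.pB QF x y + b * TransvMax.pB QF x (J y) := by
    intro x y
    rw [hpB, hJ, hadj, ← hpB, hab, Matrix.add_mulVec, Matrix.smul_mulVec, Matrix.smul_mulVec,
      Matrix.one_mulVec, map_add, map_smul, map_smul, smul_eq_mul, smul_eq_mul, hJ]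
  obtain ⟨hb1, hb2⟩ : a + b * a = 0 ∧ b * b - 1 = 0 := by
    refine hinj _ _ fun y => S₀.eq_of_forall fun x => ?_
    have h1 := hA x y
    have h2 := hA y x
    rw [S₀.pB_comm (J x) y] at h1
    rw [S₀.pB_comm (J y) x, S₀.pB_comm y x] at h2
    rw [map_add, map_smul, map_smul, smul_eq_mul, smul_eq_mul, map_zero]
    linear_combination -h2 - b * h1
  obtain ⟨c₀, hc₀⟩ := hsc j hjK
  have hJJ : ∀ x y, TransvMax.pB QF (J x) (J y) = c₀ * TransvMax.pB QF x y := by
    intro x y
    simp only [hpB, QuadraticMap.polar, ← map_add, hJ, ← Matrix.mulVec_add, hc₀]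
    ring
  obtain ⟨ht1, ht2⟩ : -(b * d) - c₀ = 0 ∧ a + b * t = 0 := by
    refine hinj _ _ fun y => S₀.eq_of_forall fun x => ?_
    have h1 := hJJ x y
    rw [hA x (J y), hsq, map_sub, map_smul, map_smul, smul_eq_mul, smul_eq_mul] at h1
    rw [map_add, map_smul, map_smul, smul_eq_mul, smul_eq_mul, map_zero]
    linear_combination h1
  obtain ⟨ha, hb⟩ : a = t ∧ b = -1 := by
    have hb : b = 1 ∨ b = -1 := by
      rcases mul_eq_zero.1 (show (b - 1) * (b + 1) = 0 by linear_combination hb2) with h | h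
      · exact Or.inl (sub_eq_zero.1 h)
      · exact Or.inr (eq_neg_of_add_eq_zero_left h)
    rcases hb with rfl | rfl
    · have ha0 : a ≠ 0 := by
        intro e
        refine hjne ?_
        rw [← hpB, ← hpB, ← hJ, ← hJ, hA, e]
        ring
      have h2 : (2 : F) = 0 := by
        have : (2 : F) * a = 0 := by linear_combination hb1
        exact (mul_eq_zero.1 this).resolve_right ha0
      exact ⟨by linear_combination ht2 - t * h2, by linear_combination h2⟩
    · exact ⟨by linear_combination ht2, rfl⟩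
  subst ha hb
  have hc₀d : c₀ = d := by linear_combination -ht1
  subst hc₀d
  have hscJ : ∀ x, QF (J x) = c₀ * QF x := fun x => by rw [hJ]; exact hc₀ x
  obtain ⟨c₁, hc₁⟩ := hsc (1 + j) (K.add_mem K.one_mem hjK)
  have hc1 : ∀ x, QF (x + J x) = c₁ * QF x := fun x => by
    have h1 := hc₁ x
    rw [Matrix.add_mulVec, Matrix.one_mulVec, ← hJ] at h1
    exact h1
  have hval : ∀ x, TransvMax.pB QF x (J x) = (c₁ - 1 - c₀) * QF x := fun x => by
    have h1 := hc1 x
    rw [S₀.quad_add, hscJ] at h1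
    linear_combination h1
  obtain ⟨hc₁', -⟩ : c₁ - 1 - c₀ - a = 0 ∧ (0 : F) = 0 := by
    refine hinj _ _ fun y => S₀.eq_of_forall fun x => ?_
    have h1 := hval (x + y)
    rw [map_add J, map_add, map_add, LinearMap.add_apply, LinearMap.add_apply, hval x, hval y,
      S₀.quad_add] at h1
    have h2 := hA y x
    rw [S₀.pB_comm (J y) x, S₀.pB_comm y x] at h2
    rw [map_add, map_smul, map_smul, smul_eq_mul, smul_eq_mul, map_zero]
    linear_combination -h1 + h2
  have hnoroot : ∀ e : F, e * e - a * e + c₀ ≠ 0 := by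
    intro e he
    have hsub : j - e • 1 ≠ 0 := fun h => hscal e (sub_eq_zero.1 h)
    obtain ⟨y, -, hy⟩ := hK.inv _ (K.sub_mem hjK (K.smul_mem K.one_mem e)) hsub
    have hmul : (j - e • 1) * (j - (a - e) • 1) = 0 := by
      simp only [sub_mul, mul_sub, Matrix.smul_mul, Matrix.mul_smul, one_mul, mul_one, hd, smul_sub,
        smul_smul]
      linear_combination (norm := module) (-1 : F) • (congrArg (fun r : F => r • (1 : Matrix (Fin n) (Fin n) F)) he)
    refine hscal (a - e) (sub_eq_zero.1 ?_)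
    calc j - (a - e) • 1 = (y * (j - e • 1)) * (j - (a - e) • 1) := by rw [mul_eq_one_comm.1 hy, one_mul]
      _ = 0 := by rw [mul_assoc, hmul, mul_zero]
  have S : QMax.JSetting QF J a c₀ :=
    { set := S₀
      sq := hsq
      adj := fun x y => by rw [hA]; ring
      scal := hscJ
      val := fun x => by rw [hval, sub_eq_zero.1 hc₁']
      noroot := hnoroot
      dim := by simpa using hn14 }
  have hiff : ∀ h : (Fin n → F) ≃ₗ[F] (Fin n → F),
      TransvMax.glOf h ∈ Cfsg.Geo.subalgebraNormalizer K ↔ ∃ a b : F, ∀ x, h (J x) = a • h x + b • J (h x) := by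
    intro h
    set G : GL (Fin n) F := TransvMax.glOf h with hG
    have hGx : ∀ x, (G : Matrix (Fin n) (Fin n) F) *ᵥ x = h x := TransvMax.glOf_mulVec h
    constructor
    · intro hn
      obtain ⟨a, b, hab⟩ := hspan _ ((hn j).1 hjK)
      refine ⟨a, b, fun x => ?_⟩
      have h1 := congrArg (· *ᵥ h x) hab
      simp only [← Matrix.mulVec_mulVec, Matrix.add_mulVec, Matrix.smul_mulVec, Matrix.one_mulVec] at h1
      rw [← hGx x, TransvMax.inv_mulVec_mulVec, hGx, hGx, ← hJ, ← hJ] at h1
      exact h1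
    · rintro ⟨a, b, hab⟩
      have hJimg : (G : Matrix (Fin n) (Fin n) F) * j * ((G⁻¹ : GL (Fin n) F) : Matrix (Fin n) (Fin n) F) =
          a • 1 + b • j := by
        refine Matrix.ext_iff_mulVec.2 fun x => ?_
        obtain ⟨y, rfl⟩ := h.surjective x
        rw [← hGx y, ← Matrix.mulVec_mulVec, ← Matrix.mulVec_mulVec, TransvMax.inv_mulVec_mulVec,
          Matrix.add_mulVec, Matrix.smul_mulVec, Matrix.smul_mulVec, Matrix.one_mulVec, hGx, hGx, ← hJ, ← hJ]
        exact hab y
      have hfwd : ∀ k ∈ K, (G : Matrix (Fin n) (Fin n) F) * k *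
          ((G⁻¹ : GL (Fin n) F) : Matrix (Fin n) (Fin n) F) ∈ K := by
        intro k hk
        obtain ⟨s, r, rfl⟩ := hspan k hk
        rw [mul_add, add_mul, Matrix.mul_smul, Matrix.smul_mul, mul_one, Matrix.mul_smul, Matrix.smul_mul,
          hJimg, ← Units.val_mul, mul_inv_cancel, Units.val_one]
        exact K.add_mem (K.smul_mem K.one_mem _)
          (K.smul_mem (K.add_mem (K.smul_mem K.one_mem _) (K.smul_mem hjK _)) _)
      refine fun k => ⟨hfwd k, fun hk => ?_⟩
      have hb : Function.Surjective (fun k : K => (⟨_, hfwd k k.2⟩ : K)) := by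
        refine Finite.injective_iff_surjective.1 fun k l e => Subtype.ext ?_
        exact (Units.mul_right_inj G).1 ((Units.mul_left_inj G⁻¹).1 (congrArg Subtype.val e))
      obtain ⟨l, hl⟩ := hb ⟨_, hk⟩
      rw [← (Units.mul_right_inj G).1 ((Units.mul_left_inj G⁻¹).1 (congrArg Subtype.val hl))]
      exact l.2
  rw [← hQF]
  refine QMax.maximal_in_omegaGL S₀ _ inf_le_right ?_ fun L hHL hL ⟨g, hgL, hg⟩ u w hu hw => ?_
  · obtain ⟨x, y, hx, hy, hnot⟩ := S.exists_not_semilinear
    exact ⟨_, QMax.glOf_siegel_mem_omega S₀ hx hy, fun h => hnot ((hiff _).1 h.1)⟩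
  obtain ⟨g, rfl⟩ : ∃ g', TransvMax.glOf g' = g := ⟨_, TransvMax.glOf_linOf g⟩
  have hgO : g ∈ FormsLib.oGroup QF := (QMax.glOf_mem_isometryGroup S₀).1 (by
    obtain ⟨x, -, hx⟩ := hL hgL
    rw [← hx]
    exact x.2)
  refine S.siegel_of_over (K := L.comap TransvMax.glOf) (fun v hv s h => ?_) hgL hgO
    (fun hn => hg ⟨(hiff g).2 hn, hL hgL⟩) u w hu hw
  exact hHL ⟨(hiff _).2 ⟨0, 1, fun x => by rw [zero_smul, one_smul, zero_add, S.root_comm hv s h]⟩,
    QMax.glOf_siegel_mem_omega S₀ hv h⟩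

end Cfsg.Agent.S5700
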