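import Cfsg.Statements.S5701
import Cfsg.Agent.Lib.ExtFieldMax.OrthMain

set_option autoImplicit false
open Cfsg

namespace Cfsg.Agent.S5701

/-- Let F be a finite field with q elements, n ≥ 13 even, Q a non-degenerate quadratic form on F^n (of either type), and Ω the commutator subgroup of the isometry group of Q, viewed inside GL_n(F). Suppose q is odd. Let K be a subfield of the algebra of n × n matrices over F containing the scalars, of prime degree r over F with n/r ≥ 3, whose elements are self-adjoint for the polar form of Q. Then the elements of Ω normalising K form a maximal subgroup of Ω. -/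
theorem result {F : Type*} [Field F] [Fintype F] {n : ℕ} (hn : 13 ≤ n) (heven : Even n) (Q : (Fin n → F) → F) (hQ : Cfsg.Geo.IsNondegenerateQuadraticForm Q) (hodd : Odd (Fintype.card F)) (r : ℕ) (hr : r.Prime) (hnr : 3 * r ≤ n) (K : Subalgebra F (Matrix (Fin n) (Fin n) F)) (hK : Cfsg.Geo.IsFieldSubalgebra r K) (hsa : Cfsg.Geo.IsSelfAdjointFor (QuadraticMap.polar Q) K) : Cfsg.Geo.IsMaximalIn (Cfsg.Geo.omegaGL Q) (Cfsg.Geo.subalgebraNormalizer K ⊓ Cfsg.Geo.omegaGL Q) := by
  classical
  let QF : QuadraticForm F (Fin n → F) := QuadraticMap.ofPolar Q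
    (fun a x => by rw [hQ.smul, smul_eq_mul, pow_two])
    (fun x x' y => hQ.polar_bilinear.add_left x x' y)
    (fun a x y => hQ.polar_bilinear.smul_left a x y)
  have hQF : ⇑QF = Q := rfl
  have S₀ : Cfsg.Agent.QMax.QSetting QF := ⟨⟨fun v hv => by
      by_contra h0
      obtain ⟨x, hx⟩ := (hQ.nondegenerate v h0).2
      exact hx (hv x), fun v hv => by
      by_contra h0
      obtain ⟨x, hx⟩ := (hQ.nondegenerate v h0).1
      exact hx (hv x)⟩, by simp only [Fintype.card_fin]; omega⟩
  have h2 : (2 : F) ≠ 0 := Ring.two_ne_zero fun h => by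
    have := FiniteField.even_card_iff_char_two.1 h
    obtain ⟨j, hj⟩ := hodd
    omega
  rw [← hQF]
  refine Cfsg.Agent.ExtFieldMax.Orth.orthExt hr S₀ h2 (by simpa using hn) ?_ ?_ K hK hsa
  · intro k hk
    rw [Fintype.card_fin] at hk
    by_contra hlt
    have h3 : k ≤ 3 := by omega
    have : r * k ≤ r * 3 := Nat.mul_le_mul_left r h3
    obtain ⟨j, hj⟩ := heven
    rcases eq_or_lt_of_le h3 with rfl | h3'
    · rcases hr.eq_two_or_odd with rfl | ho <;> omega
    · have : r * k ≤ r * 2 := Nat.mul_le_mul_left r (by omega)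
      omega
  · intro _
    rw [Fintype.card_fin]
    obtain ⟨j, hj⟩ := heven
    omega

end Cfsg.Agent.S5701
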