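import Cfsg.Agent.Lib.TransvMax.OrthRatTop
-- import your own Cfsg.Agent.* helpers here

set_option autoImplicit false
open Cfsg

namespace Cfsg.Agent.S5702

open Cfsg.Agent

/-- Let F be a finite field with q elements, n ≥ 13 even, Q a non-degenerate quadratic form on F^n (of either type), and Ω the commutator subgroup of the isometry group of Q, viewed inside GL_n(F). Let F₀ be a subfield with |F| = |F₀| ^ r for a prime r, ζ a non-zero scalar and P an invertible matrix such that ζ·Q takes values in F₀ on the F₀-span of the columns of P. Then the elements of Ω lying in the subfield group of P (the conjugate by P of the product of GL_n(F₀) with the scalars) form a maximal subgroup of Ω. -/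
theorem result {F : Type*} [Field F] [Fintype F] {n : ℕ} (hn : 13 ≤ n) (heven : Even n) (Q : (Fin n → F) → F) (hQ : Cfsg.Geo.IsNondegenerateQuadraticForm Q) (F₀ : Subfield F) (r : ℕ) (hr : r.Prime) (hcard : Fintype.card F = Nat.card F₀ ^ r) (P : Matrix.GeneralLinearGroup (Fin n) F) (ζ : F) (hζ : ζ ≠ 0) (hP : Cfsg.Geo.IsQuadFormRationalStructure (fun v : Fin n → F => ζ * Q v) F₀ P) : Cfsg.Geo.IsMaximalIn (Cfsg.Geo.omegaGL Q) (Cfsg.Geo.subfieldSubgroup F₀ P ⊓ Cfsg.Geo.omegaGL Q) := by
  classical
  let QF : QuadraticForm F (Fin n → F) := QuadraticMap.ofPolar Q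
    (fun a x => by rw [hQ.smul, smul_eq_mul, pow_two])
    (fun x x' y => hQ.polar_bilinear.add_left x x' y)
    (fun a x y => hQ.polar_bilinear.smul_left a x y)
  have hQF : ⇑QF = Q := rfl
  have hnd : (QuadraticMap.polarBilin QF).Nondegenerate := ⟨fun v hv => by
      by_contra h0
      obtain ⟨x, hx⟩ := (hQ.nondegenerate v h0).2
      exact hx (hv x), fun v hv => by
      by_contra h0
      obtain ⟨x, hx⟩ := (hQ.nondegenerate v h0).1
      exact hx (hv x)⟩
  have S : QMax.ORat (ζ • QF) F₀ P := by
    refine ⟨⟨⟨fun v hv => hnd.1 v fun x => ?_, fun v hv => hnd.2 v fun x => ?_⟩, ?_⟩, fun y => ?_, ?_⟩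
    · have h := hv x
      simpa [QuadraticMap.polar, mul_sub, ← mul_sub, hζ] using h
    · have h := hv x
      simpa [QuadraticMap.polar, mul_sub, ← mul_sub, hζ] using h
    · simp only [Fintype.card_fin]; omega
    · exact hP _ fun i => (y i).2
    · simpa using hn
  have hiso : Cfsg.isometryGroup F ⇑(ζ • QF) = Cfsg.isometryGroup F Q := by
    ext g
    refine ⟨fun h u v => ?_, fun h u v => ?_⟩
    · exact mul_left_cancel₀ hζ (h u v)
    · exact congrArg (ζ * ·) (h u v)
  have hom : Cfsg.Geo.omegaGL ⇑(ζ • QF) = Cfsg.Geo.omegaGL Q :=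
    congrArg (fun G : Subgroup (Matrix.GeneralLinearGroup (Fin n) F) =>
      (commutator ↥G).map G.subtype) hiso
  rw [← hom]
  exact S.subfield_maximal hr hcard

end Cfsg.Agent.S5702
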