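import Cfsg.Agent.Lib.TransvMax.TensorTwo
import Cfsg.Agent.Lib.TransvMax.TensorForms
import Cfsg.Agent.Lib.TransvMax.QuadOmega
-- import your own Cfsg.Agent.* helpers here

set_option autoImplicit false
open Cfsg

namespace Cfsg.Agent.S5705

open Cfsg.Agent
open scoped Matrix

/-- Let F be the field with 2 elements, n = 2 n₂ ≥ 13 even, Q a non-degenerate quadratic form on F^n of plus type and Ω the commutator subgroup of its isometry group. Suppose that, through P and e, the polar form of Q is similar to the tensor product of non-degenerate symplectic forms f₁ on F^2 and f₂ on F^(n₂), and Q vanishes on the images of all pure tensors. Then the elements of Ω in the stabiliser of this tensor decomposition form a subgroup that is not maximal: some subgroup lies strictly between it and Ω. -/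
theorem result {F : Type*} [Field F] [Fintype F] {n : ℕ} (hn : 13 ≤ n) (heven : Even n) (Q : (Fin n → F) → F) (hQ : Cfsg.Geo.IsNondegenerateQuadraticForm Q) (hplus : Cfsg.Geo.IsPlusTypeOn Q ⊤) (hq : Fintype.card F = 2) (n₂ : ℕ) (h2 : 2 < n₂) (e : (Fin n) ≃ Fin 2 × Fin n₂) (P : Matrix.GeneralLinearGroup (Fin n) F) (f₁ : (Fin 2 → F) → (Fin 2 → F) → F) (f₂ : (Fin n₂ → F) → (Fin n₂ → F) → F) (hf₁ : Cfsg.Geo.IsSymplecticForm f₁) (hf₂ : Cfsg.Geo.IsSymplecticForm f₂) (hT : Cfsg.Geo.IsTensorFormStructure id (QuadraticMap.polar Q) f₁ f₂ e P) (hpure : (∀ (x₁ : Fin 2 → F) (x₂ : Fin n₂ → F), Q (Matrix.mulVec (P : Matrix (Fin n) (Fin n) F) ((fun a : Fin 2 × Fin n₂ => x₁ a.1 * x₂ a.2) ∘ e)) = 0)) : ∃ K : Subgroup (Matrix.GeneralLinearGroup (Fin n) F), Cfsg.Geo.tensorProductSubgroup 2 n₂ e P ⊓ Cfsg.Geo.omegaGL Q < K ∧ K < Cfsg.Geo.omegaGL Q := by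
  classical
  have h20 := TensorSmall.two_eq_zero hq
  let QF : QuadraticForm F (Fin n → F) := QuadraticMap.ofPolar Q
    (fun a x => by rw [hQ.smul, smul_eq_mul, pow_two])
    (fun x x' y => hQ.polar_bilinear.add_left x x' y)
    (fun a x y => hQ.polar_bilinear.smul_left a x y)
  have S : QMax.QSetting QF := ⟨⟨fun v hv => by
      by_contra h0
      obtain ⟨x, hx⟩ := (hQ.nondegenerate v h0).2
      exact hx (hv x), fun v hv => by
      by_contra h0
      obtain ⟨x, hx⟩ := (hQ.nondegenerate v h0).1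
      exact hx (hv x)⟩, by simp only [Fintype.card_fin]; omega⟩
  obtain ⟨c, hc, hform⟩ := TensorSmall.form_tp e P (fun _ _ => rfl)
    (TensorSmall.sesq_of_bilinear hf₁.bilinear) (TensorSmall.sesq_of_bilinear hf₂.bilinear) hT
  have hone : ∀ x : F, x ≠ 0 → x = 1 := fun x hx => (TensorSmall.two_cases hq x).resolve_left hx
  have hneg : ∀ x : F, -x = x := fun x => by linear_combination (-x) * h20
  have hf01 : f₁ ![1, 0] ![0, 1] = 1 := by
    refine hone _ fun h0 => ?_
    obtain ⟨-, x, hx⟩ := hf₁.nondegenerate ![1, 0] (fun e0 => one_ne_zero (α := F) (congrFun e0 0))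
    refine hx ?_
    have hx' : x = x 0 • ![1, 0] + x 1 • ![0, 1] := by funext i; fin_cases i <;> simp
    rw [hx', hf₁.bilinear.add_right, hf₁.bilinear.smul_right, hf₁.bilinear.smul_right,
      hf₁.alternating, h0]
    ring
  have hf10 : f₁ ![0, 1] ![1, 0] = 1 := by rw [hf₁.skew, hf01, hneg]
  have hB : ∀ p q p' q', QuadraticMap.polar Q (TensorSmall.pairVec e P p q)
      (TensorSmall.pairVec e P p' q') = f₂ p q' + f₂ q p' := by
    intro p q p' q'
    have hb := hQ.polar_bilinear
    rw [TensorSmall.pairVec, TensorSmall.pairVec, hb.add_left, hb.add_right, hb.add_right, hform,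
      hform, hform, hform, hf₁.alternating, hf₁.alternating, hf01, hf10, hone c hc]
    ring
  have hQE : ∀ p q, Q (TensorSmall.pairVec e P p q) = f₂ p q := by
    intro p q
    have h := hpure ![1, 0] p
    have h' := hpure ![0, 1] q
    have hp : QuadraticMap.polar Q (TensorSmall.tp e P ![1, 0] p) (TensorSmall.tp e P ![0, 1] q) =
        f₂ p q := by rw [hform, hf01, hone c hc, one_mul, one_mul]
    simp only [QuadraticMap.polar] at hp
    rw [TensorSmall.pairVec]
    change Q (TensorSmall.tp e P ![1, 0] p) = 0 at h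
    change Q (TensorSmall.tp e P ![0, 1] q) = 0 at h'
    linear_combination hp + h + h'
  obtain ⟨J, hJ, hJi, hle⟩ := TensorSmall.exists_order_three e P hq
  set j : Fin n₂ := ⟨0, by omega⟩
  obtain ⟨u, hu⟩ : ∃ u : Fin n₂ → F, u ≠ 0 := ⟨Pi.single j 1, by simp⟩
  obtain ⟨v, hv⟩ := (hf₂.nondegenerate u hu).2
  replace hv : f₂ u v = 1 := hone _ hv
  have hvu : f₂ v u = 1 := by rw [hf₂.skew, hv, hneg]
  have huu := hf₂.alternating u
  have hvv := hf₂.alternating v
  obtain ⟨w, hw0, hwu, hwv⟩ : ∃ w : Fin n₂ → F, w ≠ 0 ∧ f₂ w u = 0 ∧ f₂ w v = 0 := by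
    let L : (Fin n₂ → F) →ₗ[F] F × F :=
      ((TensorSmall.sesq_of_bilinear hf₂.bilinear).leftL u).prod
        ((TensorSmall.sesq_of_bilinear hf₂.bilinear).leftL v)
    have : ¬ Function.Injective L := fun h => by
      have := LinearMap.finrank_le_finrank_of_injective h
      simp [Module.finrank_prod] at this
      omega
    rw [← LinearMap.ker_eq_bot] at this
    obtain ⟨w, hw, hw0⟩ := (Submodule.ne_bot_iff _).1 this
    exact ⟨w, hw0, congrArg Prod.fst (LinearMap.mem_ker.1 hw), congrArg Prod.snd (LinearMap.mem_ker.1 hw)⟩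
  have huw : f₂ u w = 0 := by rw [hf₂.skew, hwu, neg_zero]
  have hvw : f₂ v w = 0 := by rw [hf₂.skew, hwv, neg_zero]
  have hadd := hf₂.bilinear.add_left
  have hadd' := hf₂.bilinear.add_right
  set a := TensorSmall.pairVec e P u v with ha
  set b := TensorSmall.pairVec e P v (u + v) with hb
  set d := TensorSmall.pairVec e P v (u + v + w) with hd
  have hQa : QF a ≠ 0 := by show Q a ≠ 0; rw [ha, hQE, hv]; exact one_ne_zero
  have hQb : QF b ≠ 0 := by show Q b ≠ 0; rw [hb, hQE, hadd', hvu, hvv, add_zero]; exact one_ne_zero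
  have hQd : QF d ≠ 0 := by
    show Q d ≠ 0; rw [hd, hQE, hadd', hadd', hvu, hvv, hvw, add_zero, add_zero]; exact one_ne_zero
  have hr : ∀ (z : Fin n → F) (hz : QF z ≠ 0) x,
      FormsLib.refl QF z hz x = x + QuadraticMap.polar Q x z • z := by
    intro z hz x
    have h1 : QuadraticMap.polar (⇑QF) x z = QuadraticMap.polar Q x z := rfl
    rw [FormsLib.refl_apply, h1, hone (QF z) hz, inv_one, one_mul, sub_eq_add_neg, ← neg_smul, hneg]
  let T := TransvMax.glOf (FormsLib.refl QF a hQa * FormsLib.refl QF b hQb)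
  let R := TransvMax.glOf (FormsLib.refl QF a hQa * FormsLib.refl QF d hQd)
  have hTm : T ∈ Cfsg.Geo.omegaGL ⇑QF :=
    QMax.refl_pair_mem_omega S hQb hQa ((hone _ hQb).trans (hone _ hQa).symm)
  have hRm : R ∈ Cfsg.Geo.omegaGL ⇑QF :=
    QMax.refl_pair_mem_omega S hQd hQa ((hone _ hQd).trans (hone _ hQa).symm)
  have hTE : ∀ p q, (T : Matrix (Fin n) (Fin n) F) *ᵥ TensorSmall.pairVec e P p q =
      TensorSmall.pairVec e P
        (p + (f₂ p (u + v) + f₂ q v) • v + ((f₂ p v + f₂ q u) + (f₂ p (u + v) + f₂ q v)) • u)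
        (q + (f₂ p (u + v) + f₂ q v) • (u + v) +
          ((f₂ p v + f₂ q u) + (f₂ p (u + v) + f₂ q v)) • v) := by
    intro p q
    rw [TransvMax.glOf_mulVec, LinearEquiv.mul_apply, hr, hr]
    have h1 : QuadraticMap.polar Q b a = 1 := by
      rw [hb, ha, hB, hadd, hvv, huu, hvu]
      ring
    rw [hQ.polar_bilinear.add_left, hQ.polar_bilinear.smul_left, h1, mul_one, ha, hb, hB, hB,
      TensorSmall.pairVec_smul, TensorSmall.pairVec_add, TensorSmall.pairVec_smul,
      TensorSmall.pairVec_add]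
  refine TensorSmall.two_not_max e P hle T hTm ?_ (fun hmem => ?_) R hRm a ?_ ?_
  · refine TransvMax.gl_ext fun x => ?_
    obtain ⟨p, q, rfl⟩ := TensorSmall.exists_pairVec e P x
    rw [Units.val_mul, Units.val_mul, ← Matrix.mulVec_mulVec, ← Matrix.mulVec_mulVec, hJ, hTE, hTE, hJ]
    congr 1 <;> funext l <;>
      simp only [Pi.add_apply, Pi.smul_apply, smul_eq_mul, hadd, hadd']
    · linear_combination (f₂ q v * u l + f₂ q u * u l - f₂ p v * v l - f₂ p u * v l) * h20
    · linear_combination (f₂ q u * v l + f₂ q v * v l - f₂ p v * u l - f₂ p v * v l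
        - f₂ p u * u l - f₂ p u * v l) * h20
  · obtain ⟨A, B, hab⟩ := TensorSmall.mem_tensor e P hmem
    have h1 := hTE u 0
    have h2 := hTE w 0
    rw [TensorSmall.pairVec, TensorSmall.tp_zero_right, add_zero, hab,
      TensorSmall.tp_eq_pairVec] at h1 h2
    obtain ⟨-, hq1⟩ := TensorSmall.pairVec_inj e P h1
    obtain ⟨hp2, hq2⟩ := TensorSmall.pairVec_inj e P h2
    simp only [(TensorSmall.sesq_of_bilinear hf₂.bilinear).zero_left, hadd', huu, hv, hwu, hwv,
      add_zero, zero_add, zero_smul, one_smul] at hq1 hp2 hq2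
    have hA : ((A : Matrix (Fin 2) (Fin 2) F) *ᵥ ![1, 0]) 1 = 0 :=
      (smul_eq_zero.1 hq2).resolve_right fun h0 => hw0 (by rw [← hp2, h0, smul_zero])
    rw [hA, zero_smul] at hq1
    have := congrArg (fun z => f₂ z v) hq1
    simp [hadd, (TensorSmall.sesq_of_bilinear hf₂.bilinear).zero_left,
      (TensorSmall.sesq_of_bilinear hf₂.bilinear).zero_right, hv, hvv, hneg,
      hf₂.bilinear.smul_left] at this
  all_goals
    have hRa : (R : Matrix (Fin n) (Fin n) F) *ᵥ a = d := by
      have h1 : QuadraticMap.polar Q a d = 1 := by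
        rw [ha, hd, hB, hadd', hadd', huu, hv, huw, hvv]; ring
      have h2 : QuadraticMap.polar Q a a = 0 := by rw [ha, hB, hv, hvu]; linear_combination h20
      have h3 : QuadraticMap.polar Q d a = 1 := by rw [QuadraticMap.polar_comm, h1]
      rw [TransvMax.glOf_mulVec, LinearEquiv.mul_apply, hr, hr, hQ.polar_bilinear.add_left,
        hQ.polar_bilinear.smul_left, h1, h2, h3, mul_one, zero_add, one_smul]
      funext l
      simp only [Pi.add_apply, Pi.smul_apply, smul_eq_mul]
      linear_combination (a l) * h20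
    have hRb : (R : Matrix (Fin n) (Fin n) F) *ᵥ b = b + a := by
      have h1 : QuadraticMap.polar Q b d = 0 := by
        rw [hb, hd, hB, hadd', hadd', hadd, hvu, hvv, hvw, hv]
        linear_combination h20
      have h2 : QuadraticMap.polar Q b a = 1 := by rw [hb, ha, hB, hvv, hadd, huu, hvu]; ring
      rw [TransvMax.glOf_mulVec, LinearEquiv.mul_apply, hr, hr, h1, zero_smul, add_zero, h2, one_smul]
    have hJa : (J : Matrix (Fin n) (Fin n) F) *ᵥ a = b := by rw [ha, hJ, hb]
    rw [hJa, hRb, hRa, ha, hb, hd, TensorSmall.pairVec_add]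
  · rw [hJ]
    intro h
    have h1 := (TensorSmall.pairVec_inj e P h).1
    have h2 := congrArg (fun z => z) h1
    refine hw0 ?_
    funext l
    have := congrFun h1 l
    simp only [Pi.add_apply] at this
    simp only [Pi.zero_apply]
    linear_combination (-1 : F) * this + (0 : F) * h20
  · rw [hJi]
    intro h
    have h1 := congrArg (fun z => f₂ z v) (TensorSmall.pairVec_inj e P h).2
    simp only [hadd, hv, hvv] at h1
    exact one_ne_zero (α := F) (by linear_combination h1 - 0)

end Cfsg.Agent.S5705
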