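import Cfsg.Agent.Lib.PermGp.Distinguish
-- import your own Cfsg.Agent.* helpers here

set_option autoImplicit false
open Cfsg

namespace Cfsg.Agent.S5713

open Cfsg.Agent MulAction

/-- A classification-free minimal-degree bound. Let G be a finite group acting faithfully and primitively on a finite set Ω with n elements, and suppose that the image of G in the symmetric group on Ω does not contain the alternating group on Ω. Then every non-identity element of G moves at least (√n − 1)/2 points of Ω, that is, it fixes at most n − (√n − 1)/2 points. -/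
theorem result {G Ω : Type*} [Group G] [Finite G] [MulAction G Ω] [FaithfulSMul G Ω] [Fintype Ω] [DecidableEq Ω]
    (hprim : MulAction.IsPreprimitive G Ω)
    (hA : ¬ alternatingGroup Ω ≤ (MulAction.toPermHom G Ω).range)
    (g : G) (hg : g ≠ 1) :
    (Real.sqrt (Fintype.card Ω) - 1) / 2 ≤ (Fintype.card Ω : ℝ) - Nat.card (MulAction.fixedBy Ω g) := by
  classical
  set n := Fintype.card Ω with hn
  set σ : Equiv.Perm Ω := MulAction.toPermHom G Ω g with hσ
  have hσ1 : σ ≠ 1 := fun h => hg (FaithfulSMul.eq_of_smul_eq_smul fun w : Ω => by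
    have := Equiv.Perm.congr_fun h w
    simpa [hσ] using this)
  set m := σ.support.card with hm
  have hfix : Nat.card (MulAction.fixedBy Ω g) + m = n := by
    have h2 := Finset.card_filter_add_card_filter_not (s := (Finset.univ : Finset Ω)) (fun w => g • w = w)
    have h1 : Nat.card (MulAction.fixedBy Ω g) = (Finset.univ.filter fun w : Ω => g • w = w).card := by
      rw [Nat.card_eq_fintype_card, ← Fintype.card_subtype]
      exact Fintype.card_congr (Equiv.subtypeEquivRight fun w => Iff.rfl)
    have h3 : σ.support = Finset.univ.filter fun w => ¬ g • w = w := by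
      ext w; simp [hσ]
    rw [h1, hm, h3, h2, Finset.card_univ]
  suffices key : n ≤ (2 * m + 1) ^ 2 by
    have h1 : (n : ℝ) ≤ (2 * (m : ℝ) + 1) ^ 2 := by exact_mod_cast key
    have h2 : Real.sqrt (n : ℝ) ≤ 2 * (m : ℝ) + 1 := (Real.sqrt_le_left (by positivity)).mpr h1
    have h3 : (Nat.card (MulAction.fixedBy Ω g) : ℝ) + m = n := by exact_mod_cast hfix
    linarith
  haveI := hprim
  obtain ⟨u, hu⟩ : ∃ u : Ω, g • u ≠ u := by
    by_contra h
    push Not at h
    exact hg (FaithfulSMul.eq_of_smul_eq_smul fun w : Ω => by rw [h w, one_smul])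
  by_cases h2t : ∀ x y x' y' : Ω, x ≠ y → x' ≠ y' → Distinguish.col G x y = Distinguish.col G x' y'
  · by_contra hcon
    apply hA
    set H := (MulAction.toPermHom G Ω).range with hH
    have hprimH : IsPreprimitive H Ω := by
      haveI := hprim
      let f : Ω →ₑ[fun k : G => (⟨MulAction.toPermHom G Ω k, k, rfl⟩ : H)] Ω :=
        { toFun := id, map_smul' := fun k w => rfl }
      exact IsPreprimitive.of_surjective (f := f) Function.surjective_id
    obtain ⟨c, hc, hc1, hc3⟩ := Distinguish.exists_three_of_two_transitive (H := H) (σ := σ)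
      (fun x a b ha hb => by
        obtain ⟨k, h1, h2⟩ := Distinguish.col_eq_iff.mp (h2t x b x a (Ne.symm hb) (Ne.symm ha))
        exact ⟨MulAction.toPermHom G Ω k, ⟨k, rfl⟩, h1, h2⟩)
      ⟨g, rfl⟩ hσ1 (by
        rw [← hn, ← hm]
        have h1 : (m - 1) * (m - 1) ≤ m * m := Nat.mul_le_mul (Nat.sub_le _ _) (Nat.sub_le _ _)
        have h2 : (2 * m + 1) ^ 2 = 4 * (m * m) + 4 * m + 1 := by ring
        omega)
    exact PermGp.alternating_le_of_small_support hprimH hc hc1 hc3
  · have hD : (Distinguish.Dset G u (g • u)).card ≤ m := by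
      refine Finset.card_le_card fun w hw => ?_
      rw [Distinguish.mem_Dset] at hw
      rw [Equiv.Perm.mem_support]
      intro h
      apply hw
      have h' : g • w = w := h
      have := Distinguish.col_smul g w u
      rw [h'] at this
      exact this.symm
    refine le_trans (Distinguish.le_card_Dset h2t (Ne.symm hu)) ?_
    exact Nat.pow_le_pow_left (by omega) 2

end Cfsg.Agent.S5713
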