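import Cfsg.Statements.S5726
import Cfsg.Agent.Lib.PermGp.PermModule

set_option autoImplicit false
open Cfsg

namespace Cfsg.Agent.S5726

/-- If a finite group acts faithfully and transitively on a set with p^k elements, p a prime and k ≥ 1, then some element of order p fixes no point. -/
theorem result {G Ω : Type*} [Group G] [Finite G] [MulAction G Ω] [FaithfulSMul G Ω] [Fintype Ω] (htr : MulAction.IsPretransitive G Ω)
    (p k : ℕ) (hp : p.Prime) (hk : 1 ≤ k) (hΩ : Fintype.card Ω = p ^ k) :
    ∃ g : G, orderOf g = p ∧ ∀ ω : Ω, g • ω ≠ ω := by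
  classical
  haveI := Fact.mk hp
  have := htr
  have P : Sylow p G := Classical.arbitrary _
  have hPt := Cfsg.Agent.PermGp.sylow_transitive hΩ P
  have hone : 1 < Fintype.card Ω := hΩ ▸ Nat.one_lt_pow (by omega) hp.one_lt
  obtain ⟨ω₀⟩ : Nonempty Ω := Fintype.card_pos_iff.mp (by omega)
  haveI : Nontrivial (P : Subgroup G) := by
    by_contra hcon
    rw [not_nontrivial_iff_subsingleton] at hcon
    have : Subsingleton Ω := ⟨fun a b => by
      obtain ⟨x, hx⟩ := MulAction.exists_smul_eq (P : Subgroup G) a b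
      rw [← hx, Subsingleton.elim x 1, one_smul]⟩
    have := Fintype.card_le_one_iff_subsingleton.2 this
    omega
  haveI := P.isPGroup'.center_nontrivial
  have hcd : p ∣ Nat.card (Subgroup.center (P : Subgroup G)) := by
    obtain ⟨k', hk'⟩ := (P.isPGroup'.to_subgroup (Subgroup.center _)).exists_card_eq
    have : 1 < Nat.card (Subgroup.center (P : Subgroup G)) := Finite.one_lt_card
    rw [hk'] at this ⊢
    exact dvd_pow_self p (by rintro rfl; simp at this)
  obtain ⟨z, hz⟩ := exists_prime_orderOf_dvd_card' p hcd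
  refine ⟨((z : (P : Subgroup G)) : G), by rw [Subgroup.orderOf_coe, Subgroup.orderOf_coe, hz], fun ω hω => ?_⟩
  have h1 : ((z : (P : Subgroup G)) : G) = 1 := eq_of_smul_eq_smul (α := Ω) fun a => by
    obtain ⟨x, rfl⟩ := MulAction.exists_smul_eq (P : Subgroup G) ω a
    have hc := congrArg Subtype.val (Subgroup.mem_center_iff.1 z.2 x)
    rw [one_smul, Subgroup.smul_def, smul_smul, ← (show ((x : G) * ((z : (P : Subgroup G)) : G)) =
      ((z : (P : Subgroup G)) : G) * x from hc), mul_smul, hω]
  have h2 : orderOf ((z : (P : Subgroup G)) : G) = p := by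
    rw [Subgroup.orderOf_coe, Subgroup.orderOf_coe, hz]
  rw [h1, orderOf_one] at h2
  exact hp.ne_one h2.symm

end Cfsg.Agent.S5726
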