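import Cfsg.Statements.S5727
import Cfsg.Agent.S5726

set_option autoImplicit false
open Cfsg

namespace Cfsg.Agent.S5727

/-- If a finite group acts faithfully and transitively on a set with m·p elements, where p is a prime and 1 ≤ m ≤ p, then some element of order p fixes no point. -/
theorem result {G Ω : Type*} [Group G] [Finite G] [MulAction G Ω] [FaithfulSMul G Ω] [Fintype Ω] (htr : MulAction.IsPretransitive G Ω)
    (p m : ℕ) (hp : p.Prime) (hm : 1 ≤ m) (hmp : m ≤ p) (hΩ : Fintype.card Ω = m * p) :
    ∃ g : G, orderOf g = p ∧ ∀ ω : Ω, g • ω ≠ ω := by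
  classical
  haveI := Fact.mk hp
  have := htr
  by_cases hmp' : m = p
  · refine Cfsg.Agent.S5726.result htr p 2 hp (by norm_num) ?_
    rw [hΩ, hmp', pow_two]
  have hlt : m < p := lt_of_le_of_ne hmp hmp'
  have P : Sylow p G := Classical.arbitrary _
  set Q : Subgroup G := (P : Subgroup G)
  have := Fintype.ofFinite G
  -- every orbit of the Sylow subgroup has exactly `p` points
  have horb : ∀ ω : Ω, (MulAction.stabilizer Q ω).index = p := by
    intro ω
    obtain ⟨j, hj⟩ := (P.isPGroup'.index (MulAction.stabilizer Q ω))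
    have hup : (MulAction.stabilizer Q ω).index ≤ m * p := by
      rw [MulAction.index_stabilizer, ← hΩ, ← Nat.card_eq_fintype_card, ← Set.ncard_univ]
      exact Set.ncard_le_ncard (Set.subset_univ _)
    have hlow : p ∣ (MulAction.stabilizer Q ω).index := by
      have hG : (MulAction.stabilizer G ω).index = m * p := by
        rw [MulAction.index_stabilizer_of_transitive, Nat.card_eq_fintype_card, hΩ]
      by_contra hnd
      have hj0 : j = 0 := by
        by_contra hj0
        exact hnd (hj ▸ dvd_pow_self p hj0)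
      rw [hj0, pow_zero, Subgroup.index_eq_one] at hj
      have hPle : Q ≤ MulAction.stabilizer G ω := fun x hx => by
        have : (⟨x, hx⟩ : Q) ∈ MulAction.stabilizer Q ω := hj ▸ Subgroup.mem_top _
        exact this
      have hd := Subgroup.index_dvd_of_le hPle
      rw [hG] at hd
      exact P.not_dvd_index (dvd_trans (dvd_mul_left p m) hd)
    have hj2 : j < 2 := by
      by_contra hj2
      have : p ^ 2 ≤ p ^ j := Nat.pow_le_pow_right hp.pos (by omega)
      have : m * p < p ^ 2 := by rw [pow_two]; exact Nat.mul_lt_mul_of_pos_right hlt hp.pos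
      omega
    interval_cases j
    · rw [pow_zero] at hj; rw [hj] at hlow; exact absurd (Nat.dvd_one.1 hlow) hp.ne_one
    · rw [hj, pow_one]
  have hnormal : ∀ ω : Ω, (MulAction.stabilizer Q ω).Normal := fun ω => by
    refine Subgroup.normal_of_index_eq_minFac_card ?_
    rw [horb ω]
    obtain ⟨j, hj⟩ := P.isPGroup'.exists_card_eq
    have hj0 : j ≠ 0 := by
      rintro rfl
      have h1 : (MulAction.stabilizer Q ω).index ∣ Nat.card Q := Subgroup.index_dvd_card _
      rw [horb ω, hj, pow_zero] at h1
      exact hp.ne_one (Nat.dvd_one.1 h1)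
    rw [hj, Nat.pow_minFac hj0, hp.minFac_eq]
  -- a family of representatives
  let S : Finset (Subgroup Q) := Finset.univ.image fun ω : Ω => MulAction.stabilizer Q ω
  have hS : S.card ≤ m := by
    have hfib : ∀ H ∈ S, p ≤ (Finset.univ.filter fun ω : Ω => MulAction.stabilizer Q ω = H).card := by
      intro H hH
      obtain ⟨ω, -, rfl⟩ := Finset.mem_image.1 hH
      have hsub : MulAction.orbit Q ω ⊆
          ↑(Finset.univ.filter fun η : Ω => MulAction.stabilizer Q η = MulAction.stabilizer Q ω) := by
        rintro _ ⟨x, rfl⟩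
        simp only [Finset.coe_filter, Finset.mem_univ, true_and, Set.mem_setOf_eq]
        ext y
        rw [MulAction.mem_stabilizer_iff]
        constructor
        · intro hy
          have h1 : x⁻¹ * y * x ∈ MulAction.stabilizer Q ω := by
            rw [MulAction.mem_stabilizer_iff, mul_smul, mul_smul, hy, inv_smul_smul]
          have h2 := (hnormal ω).conj_mem _ h1 x
          rwa [mul_assoc, mul_assoc, mul_inv_cancel, mul_one, mul_inv_cancel_left] at h2
        · intro hy
          have h1 := (hnormal ω).conj_mem y hy x⁻¹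
          rw [inv_inv, MulAction.mem_stabilizer_iff, mul_smul, mul_smul] at h1
          exact (eq_inv_smul_iff.1 h1.symm).symm
      have h1 := Set.ncard_le_ncard hsub
      rw [← MulAction.index_stabilizer, horb ω, Set.ncard_coe_finset] at h1
      exact h1
    have h1 : S.card * p ≤ ∑ H ∈ S, (Finset.univ.filter fun ω : Ω => MulAction.stabilizer Q ω = H).card := by
      rw [← smul_eq_mul]
      exact Finset.card_nsmul_le_sum _ _ _ hfib
    have h2 := Finset.card_eq_sum_card_fiberwise (f := fun ω : Ω => MulAction.stabilizer Q ω)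
      (s := Finset.univ) (t := S) (fun ω _ => Finset.mem_image_of_mem _ (Finset.mem_univ ω))
    rw [Finset.card_univ, hΩ] at h2
    rw [← h2] at h1
    exact Nat.le_of_mul_le_mul_right h1 hp.pos
  -- an element outside all of them
  obtain ⟨x, hx⟩ : ∃ x : Q, ∀ H ∈ S, x ∉ H := by
    by_contra hc
    push Not at hc
    let T : Finset Q := Finset.univ
    have hcov : T.erase 1 ⊆ S.biUnion fun H => (Finset.univ.filter fun x : Q => x ∈ H).erase 1 := by
      intro x hx
      obtain ⟨H, hH, hxH⟩ := hc x
      simp only [Finset.mem_biUnion, Finset.mem_erase, Finset.mem_filter, Finset.mem_univ, true_and]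
      exact ⟨H, hH, (Finset.mem_erase.1 hx).1, hxH⟩
    have h1 := (Finset.card_le_card hcov).trans Finset.card_biUnion_le
    have hH' : ∀ H ∈ S, p * ((Finset.univ.filter fun x : Q => x ∈ H).erase 1).card + p = Nat.card Q := by
      intro H hH
      obtain ⟨ω, -, rfl⟩ := Finset.mem_image.1 hH
      rw [← Subgroup.card_mul_index (MulAction.stabilizer Q ω), horb ω,
        Nat.card_eq_fintype_card, Fintype.card_subtype, mul_comm _ p]
      rw [Finset.card_erase_of_mem (by simp)]
      have : 0 < (Finset.univ.filter fun x : Q => x ∈ MulAction.stabilizer Q ω).card :=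
        Finset.card_pos.2 ⟨1, by simp⟩
      refine (show ∀ u v : ℕ, u = v → 0 < v → p * (u - 1) + p = p * v from fun u v huv hv => by
        subst huv
        obtain ⟨w, rfl⟩ : ∃ w, u = w + 1 := ⟨u - 1, by omega⟩
        rw [Nat.add_sub_cancel]
        ring) _ _ (by congr!) ?_
      convert this
    have h2 : p * ((T.erase 1).card) ≤ ∑ H ∈ S, p * ((Finset.univ.filter fun x : Q => x ∈ H).erase 1).card := by
      rw [← Finset.mul_sum]
      exact Nat.mul_le_mul_left p h1
    have h3 : ∑ H ∈ S, (p * ((Finset.univ.filter fun x : Q => x ∈ H).erase 1).card + p) = S.card * Nat.card Q := by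
      rw [Finset.sum_congr rfl hH', Finset.sum_const, smul_eq_mul]
    rw [Finset.sum_add_distrib, Finset.sum_const, smul_eq_mul] at h3
    rw [Finset.card_erase_of_mem (Finset.mem_univ _), Finset.card_univ, ← Nat.card_eq_fintype_card] at h2
    obtain ⟨ω₀⟩ : Nonempty Ω := Fintype.card_pos_iff.mp (hΩ ▸ Nat.mul_pos hm hp.pos)
    have hQp : p ≤ Nat.card Q := Nat.le_of_dvd Nat.card_pos (horb ω₀ ▸ Subgroup.index_dvd_card _)
    obtain ⟨d, hd⟩ := Nat.exists_eq_add_of_le hQp
    have h5 : S.card * Nat.card Q ≤ m * Nat.card Q := Nat.mul_le_mul_right _ hS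
    have h6 : 1 ≤ S.card := Finset.card_pos.2 ⟨_, Finset.mem_image_of_mem _ (Finset.mem_univ ω₀)⟩
    have h7 : Nat.card Q - 1 + 1 = Nat.card Q := Nat.sub_add_cancel (le_trans hp.pos hQp)
    nlinarith [Nat.mul_le_mul_right (Nat.card Q) (show m + 1 ≤ p by omega)]
  have hxp : x ^ p = 1 := by
    have : ((x ^ p : Q) : G) = 1 := eq_of_smul_eq_smul (α := Ω) fun ω => by
      rw [one_smul]
      have := hnormal ω
      have h1 := Subgroup.pow_index_mem (MulAction.stabilizer Q ω) x
      rw [horb ω] at h1
      exact h1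
    exact Subtype.ext this
  have hord : orderOf x = p := orderOf_eq_prime hxp (by
    rintro rfl
    obtain ⟨ω⟩ : Nonempty Ω := Fintype.card_pos_iff.mp (hΩ ▸ Nat.mul_pos hm hp.pos)
    exact hx _ (Finset.mem_image_of_mem _ (Finset.mem_univ ω)) (one_mem _))
  exact ⟨(x : G), by rw [Subgroup.orderOf_coe, hord], fun ω hω =>
    hx _ (Finset.mem_image_of_mem _ (Finset.mem_univ ω)) hω⟩

end Cfsg.Agent.S5727
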