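import Cfsg.Statements.S5728
-- import your own Cfsg.Agent.* helpers here

set_option autoImplicit false
open Cfsg

namespace Cfsg.Agent.S5728

/-- An elusive transitive action. Let p = 2^s − 1 be a prime and let F be the field with p² elements. Inside the group of affine maps x ↦ a·x + b of F (a ≠ 0), consider the subgroup of maps with both coefficients in the prime field. Then every element of prime order of the affine group is conjugate, within the affine group, to an element of that subgroup; equivalently, in the transitive action of the affine group on the cosets of that subgroup (of degree p(p + 1)) every element of prime order fixes a point. -/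
theorem result (p s : ℕ) [Fact p.Prime] (hs : p = 2 ^ s - 1)
    (g : Equiv.Perm (GaloisField p 2)) (hg : g ∈ Cfsg.affineGroup (GaloisField p 2)) (hord : (orderOf g).Prime) :
    ∃ x ∈ Cfsg.affineGroup (GaloisField p 2), ∃ a b : ZMod p, a ≠ 0 ∧
      ∀ y : GaloisField p 2, (x * g * x⁻¹) y = algebraMap (ZMod p) (GaloisField p 2) a * y + algebraMap (ZMod p) (GaloisField p 2) b := by
  classical
  obtain ⟨a, b, hab⟩ := id hg
  have hp := (Fact.out : p.Prime)
  have hp2 : Even (p + 1) := by
    have h2 : 2 ≤ p := hp.two_le
    have hs1 : s ≠ 0 := fun h => by subst h; omega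
    rw [hs, Nat.sub_add_cancel (Nat.one_le_two_pow)]
    exact (even_two).pow_of_ne_zero hs1
  by_cases ha : (a : GaloisField p 2) = 1
  · have hb : b ≠ 0 := by
      intro hb
      have : g = 1 := Equiv.ext fun y => by rw [hab, ha, hb, one_mul, add_zero]; rfl
      rw [this, orderOf_one] at hord
      exact Nat.not_prime_one hord
    refine ⟨Equiv.mulLeft₀ b⁻¹ (inv_ne_zero hb), ⟨Units.mk0 b⁻¹ (inv_ne_zero hb), 0, fun y => by simp⟩,
      1, 1, one_ne_zero, fun y => ?_⟩
    simp only [Equiv.Perm.mul_apply, Equiv.Perm.inv_def, hab, ha, map_one, one_mul]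
    show b⁻¹ * ((Equiv.mulLeft₀ b⁻¹ (inv_ne_zero hb)).symm y + b) = y + 1
    rw [mul_add, inv_mul_cancel₀ hb]
    congr 1
    exact (Equiv.mulLeft₀ b⁻¹ (inv_ne_zero hb)).apply_symm_apply y
  · have h1a : (1 : GaloisField p 2) - a ≠ 0 := sub_ne_zero.mpr (Ne.symm ha)
    set c : GaloisField p 2 := b / (1 - a)
    have hconj : ∀ y, g (y + c) = (a : GaloisField p 2) * y + c := fun y => by
      rw [hab]
      have : (1 - (a : GaloisField p 2)) * c = b := mul_div_cancel₀ b h1a
      linear_combination (-1 : GaloisField p 2) * this
    have hpow : ∀ (n : ℕ) y, (g ^ n) (y + c) = (a : GaloisField p 2) ^ n * y + c := by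
      intro n
      induction n with
      | zero => intro y; simp
      | succ n ih => intro y; rw [pow_succ, Equiv.Perm.mul_apply, hconj, ih, pow_succ, mul_assoc]
    set r := orderOf g
    have har : (a : GaloisField p 2) ^ r = 1 := by
      have h := hpow r 1
      rw [pow_orderOf_eq_one, Equiv.Perm.one_apply, mul_one] at h
      exact (add_right_cancel h).symm
    have hor : orderOf (a : GaloisField p 2) = r :=
      (hord.eq_one_or_self_of_dvd _ (orderOf_dvd_of_pow_eq_one har)).resolve_left
        (fun h => ha (orderOf_eq_one_iff.mp h))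
    haveI : Fintype (GaloisField p 2) := Fintype.ofFinite _
    have hcard : Fintype.card (GaloisField p 2) = p ^ 2 := by
      rw [← Nat.card_eq_fintype_card, GaloisField.card p 2 two_ne_zero]
    have hdvd : r ∣ (p - 1) * (p + 1) := by
      rw [← hor]
      refine orderOf_dvd_of_pow_eq_one ?_
      have := FiniteField.pow_card_sub_one_eq_one (a : GaloisField p 2) a.ne_zero
      rw [hcard] at this
      convert this using 2
      rw [mul_comm, ← Nat.sq_sub_sq, one_pow]
    have hap : (a : GaloisField p 2) ^ (p - 1) = 1 := by
      rw [← orderOf_dvd_iff_pow_eq_one, hor]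
      rcases hord.dvd_mul.mp hdvd with h | h
      · exact h
      · have h2 : p + 1 = 2 ^ s := by
          rw [hs, Nat.sub_add_cancel Nat.one_le_two_pow]
        rw [h2] at h
        have := (Nat.prime_dvd_prime_iff_eq hord Nat.prime_two).mp (hord.dvd_of_dvd_pow h)
        rw [this]
        obtain ⟨k, hk⟩ := hp2
        have := hp.two_le
        exact ⟨k - 1, by omega⟩
    have hmem : (a : GaloisField p 2) ∈ (⊥ : Subfield (GaloisField p 2)) := by
      rw [Subfield.mem_bot_iff_pow_eq_self (F := GaloisField p 2) (p := p)]
      calc (a : GaloisField p 2) ^ p = (a : GaloisField p 2) ^ (p - 1 + 1) :=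
            congrArg _ (Nat.sub_add_cancel hp.one_le).symm
        _ = a := by rw [pow_succ, hap, one_mul]
    rw [← ZMod.fieldRange_castHom_eq_bot p] at hmem
    obtain ⟨a', ha'⟩ := hmem
    rw [Subsingleton.elim (ZMod.castHom dvd_rfl (GaloisField p 2)) (algebraMap (ZMod p) _)] at ha'
    refine ⟨Equiv.subRight c, ⟨1, -c, fun y => by simp [sub_eq_add_neg]⟩, a', 0, ?_, fun y => ?_⟩
    · intro h
      rw [h, map_zero] at ha'
      exact a.ne_zero ha'.symm
    · rw [ha', map_zero, add_zero]
      show g ((Equiv.subRight c).symm y) - c = _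
      simp [hconj]

end Cfsg.Agent.S5728
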