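import Cfsg.Statements.S5729
-- import your own Cfsg.Agent.* helpers here

set_option autoImplicit false
open Cfsg

namespace Cfsg.Agent.S5729

/-- Let a finite group G act faithfully and transitively on a set with n ≥ 3 points. Then either G is a Frobenius permutation group (Frobenius as a permutation group: transitive, some non-identity element fixes a point, and no non-identity element fixes two points) of order n(n − 1) and exactly |G|/n of its elements are derangements (fix no point), or the number of derangements is greater than |G|/n. -/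
theorem result {G Ω : Type*} [Group G] [Finite G] [MulAction G Ω] [FaithfulSMul G Ω] [Fintype Ω] (htr : MulAction.IsPretransitive G Ω) (hn : 3 ≤ Fintype.card Ω) :
    ((MulAction.IsPretransitive G Ω ∧ (∃ g : G, g ≠ 1 ∧ ∃ ω : Ω, g • ω = ω) ∧ ∀ g : G, g ≠ 1 → Nat.card (MulAction.fixedBy Ω g) ≤ 1) ∧ Nat.card G = Fintype.card Ω * (Fintype.card Ω - 1) ∧ Fintype.card Ω * Nat.card {g : G // ∀ ω : Ω, g • ω ≠ ω} = Nat.card G) ∨
    Nat.card G < Fintype.card Ω * Nat.card {g : G // ∀ ω : Ω, g • ω ≠ ω} := by
  classical
  haveI := Fintype.ofFinite G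
  set n := Fintype.card Ω with hndef
  haveI : Nonempty Ω := Fintype.card_pos_iff.mp (by omega)
  set π : G → ℕ := fun g => Fintype.card (MulAction.fixedBy Ω g) with hπ
  have h1 : ∑ g : G, π g = Fintype.card G := by
    have := MulAction.sum_card_fixedBy_eq_card_orbits_mul_card_group G Ω
    rw [this]
    have : Fintype.card (MulAction.orbitRel.Quotient G Ω) = 1 := by
      rw [Fintype.card_eq_one_iff]
      refine ⟨⟦Classical.arbitrary Ω⟧, fun o => ?_⟩
      induction o using Quotient.inductionOn with
      | h z => exact Quotient.sound (htr.exists_smul_eq _ z)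
    rw [this, one_mul]
  set R := MulAction.orbitRel.Quotient G (Ω × Ω)
  set r := Fintype.card R with hr
  have h2 : ∑ g : G, π g * π g = r * Fintype.card G := by
    rw [hr, ← MulAction.sum_card_fixedBy_eq_card_orbits_mul_card_group G (Ω × Ω)]
    refine Finset.sum_congr rfl fun g _ => ?_
    rw [hπ]
    simp only [← Fintype.card_prod]
    refine Fintype.card_congr ?_
    exact
      { toFun := fun p => ⟨(p.1.1, p.2.1), by
          show g • ((p.1.1, p.2.1) : Ω × Ω) = _
          exact Prod.ext p.1.2 p.2.2⟩
        invFun := fun p => (⟨p.1.1, congrArg Prod.fst p.2⟩, ⟨p.1.2, congrArg Prod.snd p.2⟩)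
        left_inv := fun p => rfl
        right_inv := fun p => rfl }
  obtain ⟨a, b, hab⟩ := Fintype.exists_pair_of_one_lt_card (α := Ω) (by omega)
  have hqne : (⟦(a, a)⟧ : R) ≠ ⟦(a, b)⟧ := fun h => by
    obtain ⟨g, hg⟩ := Quotient.exact h
    have h1 : g • a = a := congrArg Prod.fst hg
    have h2 : g • b = a := congrArg Prod.snd hg
    exact hab (MulAction.injective g (h1.trans h2.symm))
  have hr2 : 2 ≤ r := Fintype.one_lt_card_iff.mpr ⟨_, _, hqne⟩
  have hle : ∀ g, π g ≤ n := fun g => Fintype.card_subtype_le _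
  have hzero : ∀ g, π g = 0 ↔ ∀ ω : Ω, g • ω ≠ ω := fun g => by
    rw [hπ]
    simp only [Fintype.card_eq_zero_iff]
    exact ⟨fun h ω hω => h.false ⟨ω, hω⟩, fun h => ⟨fun x => h x.1 x.2⟩⟩
  set D := Nat.card {g : G // ∀ ω : Ω, g • ω ≠ ω}
  have hD : ∑ g : G, (if π g = 0 then (n : ℤ) else 0) = n * D := by
    rw [Finset.sum_ite, Finset.sum_const_zero, add_zero, Finset.sum_const, nsmul_eq_mul, mul_comm]
    congr 2
    rw [show D = Nat.card {g : G // π g = 0} from
      Nat.card_congr (Equiv.subtypeEquivRight fun g => (hzero g).symm)]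
    rw [Nat.card_eq_fintype_card, Fintype.card_subtype]
  have key : ∀ g, 0 ≤ (if π g = 0 then (n : ℤ) else 0) - ((π g : ℤ) - 1) * ((π g : ℤ) - n) := by
    intro g
    by_cases h : π g = 0
    · simp [h]
    · rw [if_neg h]
      have h1 : (1 : ℤ) ≤ π g := by exact_mod_cast Nat.one_le_iff_ne_zero.mpr h
      have h2 : (π g : ℤ) ≤ n := by exact_mod_cast hle g
      nlinarith
  have hsum : ∑ g : G, ((if π g = 0 then (n : ℤ) else 0) - ((π g : ℤ) - 1) * ((π g : ℤ) - n)) =
      n * D - ((r : ℤ) - 1) * Fintype.card G := by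
    rw [Finset.sum_sub_distrib, hD]
    congr 1
    simp only [sub_mul, mul_sub, one_mul, Finset.sum_sub_distrib, ← Finset.sum_mul,
      Finset.sum_const, Finset.card_univ, nsmul_eq_mul]
    have e1 : ∑ g : G, (π g : ℤ) = Fintype.card G := by exact_mod_cast h1
    have e2 : ∑ g : G, (π g : ℤ) * π g = r * Fintype.card G := by exact_mod_cast h2
    rw [e1, e2]
    ring
  rw [Nat.card_eq_fintype_card]
  by_cases hlt : Fintype.card G < n * D
  · exact Or.inr hlt
  left
  have hG : 0 < Fintype.card G := Fintype.card_pos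
  have hnn := Finset.sum_nonneg fun g (_ : g ∈ Finset.univ) => key g
  rw [hsum] at hnn
  have hle2 : (n : ℤ) * D ≤ Fintype.card G := by exact_mod_cast Nat.le_of_not_lt hlt
  have hr2' : r = 2 := by
    by_contra hne
    have : (2 : ℤ) ≤ (r : ℤ) - 1 := by omega
    nlinarith
  have heq : (n : ℤ) * D = Fintype.card G := by rw [hr2'] at hnn; push_cast at hnn; linarith
  have hall := (Finset.sum_eq_zero_iff_of_nonneg fun g (_ : g ∈ Finset.univ) => key g).mp
    (by rw [hsum, hr2', heq]; push_cast; ring)
  have hfix : ∀ g : G, g ≠ 1 → π g ≤ 1 := by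
    intro g hg
    by_contra hgt
    have h := hall g (Finset.mem_univ g)
    rw [if_neg (by omega), zero_sub, neg_eq_zero, mul_eq_zero] at h
    rcases h with h | h
    · omega
    · refine hg (eq_of_smul_eq_smul (α := Ω) fun ω => ?_)
      have hu : MulAction.fixedBy Ω g = Set.univ :=
        Set.eq_univ_of_forall fun ω => by
          by_contra hω
          have := Fintype.card_subtype_lt (p := fun x : Ω => g • x = x) hω
          have : π g < n := this
          omega
      rw [one_smul]
      exact (hu ▸ Set.mem_univ ω : ω ∈ MulAction.fixedBy Ω g)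
  have horb : MulAction.orbit G (a, b) = {p : Ω × Ω | p.1 ≠ p.2} := by
    apply Set.Subset.antisymm
    · rintro _ ⟨g, rfl⟩ h
      exact hab (MulAction.injective g h)
    · rintro ⟨x, y⟩ hxy
      have hor : (⟦(x, y)⟧ : R) = ⟦(a, a)⟧ ∨ (⟦(x, y)⟧ : R) = ⟦(a, b)⟧ := by
        by_contra hh
        push Not at hh
        have : 2 < r := Fintype.two_lt_card_iff.mpr ⟨_, _, _, hh.1, hh.2, hqne⟩
        omega
      rcases hor with h | h
      · obtain ⟨g, hg⟩ := Quotient.exact h
        exact absurd ((congrArg Prod.fst hg).symm.trans (congrArg Prod.snd hg)) hxy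
      · exact Quotient.exact h
  have hst : MulAction.stabilizer G (a, b) = ⊥ := by
    rw [eq_bot_iff]
    intro g hg
    rw [Subgroup.mem_bot]
    by_contra hne
    have h2 : 1 < π g := Fintype.one_lt_card_iff.mpr
      ⟨⟨a, congrArg Prod.fst hg⟩, ⟨b, congrArg Prod.snd hg⟩, fun e => hab (congrArg Subtype.val e)⟩
    have := hfix g hne
    omega
  have hcardG : Fintype.card G = n * (n - 1) := by
    have h := MulAction.index_stabilizer G (a, b)
    rw [hst, Subgroup.index_bot, horb, Nat.card_eq_fintype_card] at h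
    rw [h, ← Nat.card_coe_set_eq, Nat.card_eq_fintype_card]
    rw [show Fintype.card {p : Ω × Ω | p.1 ≠ p.2} = (Finset.univ : Finset Ω).offDiag.card from ?_]
    · rw [Finset.offDiag_card, Finset.card_univ, Nat.mul_sub, mul_one]
    · rw [Fintype.card_ofFinset]
      congr 1
      ext p; simp
  refine ⟨⟨htr, ?_, fun g hg => by rw [Nat.card_eq_fintype_card]; exact hfix g hg⟩, hcardG,
    by exact_mod_cast heq⟩
  have hs := MulAction.index_stabilizer_of_transitive G a
  have hm := (MulAction.stabilizer G a).card_mul_index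
  rw [hs, Nat.card_eq_fintype_card (α := Ω), Nat.card_eq_fintype_card (α := G), hcardG] at hm
  have : Nontrivial (MulAction.stabilizer G a) := by
    rw [← Finite.one_lt_card_iff_nontrivial]
    rw [mul_comm] at hm
    have := Nat.eq_of_mul_eq_mul_left (by omega) hm
    omega
  obtain ⟨⟨g, hg⟩, hne⟩ := exists_ne (1 : MulAction.stabilizer G a)
  exact ⟨g, fun e => hne (Subtype.ext e), a, hg⟩

end Cfsg.Agent.S5729
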