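import Cfsg.Statements.S5737
import Cfsg.Agent.Lib.Suzuki.Binary
import Cfsg.Agent.Lib.Suzuki.LieIso
-- import your own Cfsg.Agent.* helpers here

set_option autoImplicit false
open Cfsg

namespace Cfsg.Agent.S5737

/-- Let G = Sz(q) be a Suzuki group, q = 2^(2a+1) with a ≥ 1 (realised inside Sp₄ over the field with q elements), and let H be a proper subgroup of G. Then the action of G on the cosets of H is binary if and only if H is trivial or H is the centre of a Sylow 2-subgroup of G. Here an action is binary (relational complexity 2) when, for every n ≥ 2 and all n-tuples I, J of points, if for every pair of positions some group element carries the corresponding pair of entries of I to those of J, then a single group element carries I to J. -/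
theorem result {F : Type*} [Field F] [Fintype F] (a : ℕ) (ha : 1 ≤ a) (hF : Fintype.card F = 2 ^ (2 * a + 1))
    (H : Subgroup (Cfsg.Lie.Sz F (2 ^ (a + 1)))) (hH : H ≠ ⊤) :
    (∀ (n : ℕ) (I J : Fin n → (Cfsg.Lie.Sz F (2 ^ (a + 1))) ⧸ H), 2 ≤ n →
        (∀ i j : Fin n, i ≠ j → ∃ g : (Cfsg.Lie.Sz F (2 ^ (a + 1))), g • I i = J i ∧ g • I j = J j) → ∃ g : (Cfsg.Lie.Sz F (2 ^ (a + 1))), ∀ i, g • I i = J i) ↔
      (H = ⊥ ∨ ∃ P : Sylow 2 (Cfsg.Lie.Sz F (2 ^ (a + 1))), H = (Subgroup.center (P : Subgroup (Cfsg.Lie.Sz F (2 ^ (a + 1))))).map (P : Subgroup (Cfsg.Lie.Sz F (2 ^ (a + 1)))).subtype) := by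
  open Cfsg.Agent.Suzuki Pointwise in
  classical
  obtain ⟨D⟩ := exists_dat (F := F) ha hF
  haveI := Fact.mk Nat.prime_two
  let f := lieEquiv D hF
  set H₀ : Subgroup (Cfsg.Sz F a) := H.comap f.toMonoidHom with hH₀
  have hmem : ∀ g, g ∈ H₀ ↔ f g ∈ H := fun g => Iff.rfl
  have e1 : BinaryAct H₀ ↔ BinaryAct H :=
    ⟨binary_of_equiv f _ _ hmem, binary_of_equiv f.symm _ _ fun g => by rw [hmem, f.apply_symm_apply]⟩
  have htop : H₀ ≠ ⊤ := fun e => hH (eq_top_iff.2 fun g _ => by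
    have h1 : f.symm g ∈ H₀ := e ▸ Subgroup.mem_top _
    rwa [hmem, f.apply_symm_apply] at h1)
  show BinaryAct H ↔ _
  rw [← e1, binary_iff D hF H₀ htop]
  refine or_congr ⟨fun e => ?_, fun e => ?_⟩ ?_
  · rw [eq_bot_iff]
    intro g hg
    have h1 : f.symm g ∈ H₀ := by rw [hmem, f.apply_symm_apply]; exact hg
    rw [e, Subgroup.mem_bot] at h1
    exact Subgroup.mem_bot.2 (f.symm.map_eq_one_iff.1 h1)
  · rw [eq_bot_iff]
    intro g hg
    rw [hmem, e, Subgroup.mem_bot, map_eq_one_iff f f.injective] at hg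
    exact Subgroup.mem_bot.2 hg
  -- every Sylow subgroup is a conjugate of the one at infinity
  set QL : Sylow 2 (Cfsg.Lie.Sz F (2 ^ (a + 1))) := (QS D hF).mapSurjective (f := f.toMonoidHom) f.surjective
  have hcen : ∀ (k : Cfsg.Sz F a) (g : Cfsg.Sz F a),
      f g ∈ (Subgroup.center ((f k • QL : Sylow 2 _) : Subgroup (Cfsg.Lie.Sz F (2 ^ (a + 1))))).map
        ((f k • QL : Sylow 2 _) : Subgroup (Cfsg.Lie.Sz F (2 ^ (a + 1)))).subtype ↔
      k⁻¹ * g * k ∈ centreInf D := by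
    intro k g
    have hin : ∀ y, f y ∈ ((f k • QL : Sylow 2 _) : Subgroup (Cfsg.Lie.Sz F (2 ^ (a + 1)))) ↔
        k⁻¹ * y * k ∈ Q D := by
      intro y
      show f y ∈ MulAut.conj (f k) • (QL : Subgroup (Cfsg.Lie.Sz F (2 ^ (a + 1)))) ↔ _
      rw [Subgroup.mem_pointwise_smul_iff_inv_smul_mem, MulAut.smul_def, MulAut.conj_inv_apply,
        ← map_inv, ← map_mul, ← map_mul]
      exact Subgroup.mem_map_iff_mem f.injective
    constructor
    · rintro ⟨⟨x, hx⟩, hxc, he⟩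
      obtain rfl : x = f g := he
      have hgQ := (hin g).1 hx
      obtain ⟨b, hb⟩ := (mem_center_Q D hF (x := ⟨k⁻¹ * g * k, hgQ⟩)).1 (Subgroup.mem_center_iff.2 fun y => by
        have hy : f (k * y.1 * k⁻¹) ∈ ((f k • QL : Sylow 2 _) : Subgroup (Cfsg.Lie.Sz F (2 ^ (a + 1)))) :=
          (hin _).2 (by rw [show k⁻¹ * (k * y.1 * k⁻¹) * k = y.1 by group]; exact y.2)
        have h1 := congrArg Subtype.val (Subgroup.mem_center_iff.1 hxc ⟨_, hy⟩)
        have h2 : k * y.1 * k⁻¹ * g = g * (k * y.1 * k⁻¹) := f.injective (by rw [map_mul, map_mul f g]; exact h1)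
        refine Subtype.ext ?_
        show y.1 * (k⁻¹ * g * k) = k⁻¹ * g * k * y.1
        calc y.1 * (k⁻¹ * g * k) = k⁻¹ * (k * y.1 * k⁻¹ * g) * k := by group
          _ = k⁻¹ * (g * (k * y.1 * k⁻¹)) * k := by rw [h2]
          _ = _ := by group)
      exact ⟨b, congrArg Subtype.val hb⟩
    · rintro ⟨b, hb⟩
      have hgQ : k⁻¹ * g * k ∈ Q D := ⟨0, b, hb⟩
      refine ⟨⟨f g, (hin g).2 hgQ⟩, Subgroup.mem_center_iff.2 fun y => ?_, rfl⟩
      obtain ⟨y, hy⟩ := y
      obtain ⟨y, rfl⟩ := f.surjective y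
      have h1 := (commute_central D hF (b := b) ⟨k⁻¹ * y * k, (hin y).1 hy⟩).eq
      simp only at h1
      rw [← hb] at h1
      refine Subtype.ext ?_
      show f y * f g = f g * f y
      rw [← map_mul, ← map_mul]
      congr 1
      calc y * g = k * ((k⁻¹ * y * k) * (k⁻¹ * g * k)) * k⁻¹ := by group
        _ = k * (k⁻¹ * g * k * (k⁻¹ * y * k)) * k⁻¹ := by rw [h1]
        _ = g * y := by group
  constructor
  · rintro ⟨k, hk⟩
    refine ⟨f k • QL, Subgroup.ext fun g => ?_⟩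
    obtain ⟨g, rfl⟩ := f.surjective g
    rw [hcen, ← hk, hmem]
  · rintro ⟨P, hP⟩
    obtain ⟨y, rfl⟩ := MulAction.exists_smul_eq (Cfsg.Lie.Sz F (2 ^ (a + 1))) QL P
    obtain ⟨k, rfl⟩ := f.surjective y
    exact ⟨k, fun g => by rw [← hcen, hmem, ← hP]⟩

end Cfsg.Agent.S5737
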