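import Cfsg.Statements.S5738
import Cfsg.Agent.Lib.TransvMax.Singer

set_option autoImplicit false
open Cfsg

namespace Cfsg.Agent.S5738

/-- Let F ⊆ K be finite fields with |F| = q and [K : F] = n ≥ 2, so |K| = q^n. Regard K as an n-dimensional F-vector space; the multiplications by non-zero elements of K form a cyclic subgroup of GL_F(K) of order q^n − 1 acting regularly on the non-zero vectors (a Singer group). Its normaliser in GL_F(K) has order n·(q^n − 1). -/
theorem result {F K : Type*} [Field F] [Fintype F] [Field K] [Fintype K] [Algebra F K] (n : ℕ) (hn : 2 ≤ n) (hdim : Module.finrank F K = n) :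
    Nat.card (Subgroup.normalizer (((Units.map ((Algebra.lmul F K : K →ₐ[F] Module.End F K) : K →* Module.End F K)).range : Subgroup (Module.End F K)ˣ) : Set (Module.End F K)ˣ)) = n * (Fintype.card K - 1) := by
  classical
  have hmemN : ∀ g : (Module.End F K)ˣ,
      g ∈ Subgroup.normalizer ((Cfsg.Agent.TransvMax.singer F K : Subgroup _) : Set (Module.End F K)ˣ) ↔
        ∃ (σ : K ≃ₐ[F] K) (c : Kˣ), ∀ x, (g : Module.End F K) x = (c : K) * σ x := by
    intro g
    have hgg' : ∀ x, (g : Module.End F K) (((g⁻¹ : (Module.End F K)ˣ) : Module.End F K) x) = x := fun x => by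
      rw [← Module.End.mul_apply, ← Units.val_mul, mul_inv_cancel]; rfl
    have hgg : ∀ x, ((g⁻¹ : (Module.End F K)ˣ) : Module.End F K) ((g : Module.End F K) x) = x := fun x => by
      rw [← Module.End.mul_apply, ← Units.val_mul, inv_mul_cancel]; rfl
    constructor
    · intro hg
      have key : ∀ a : K, ∃ b : K, ∀ x, (g : Module.End F K) (a * x) = b * (g : Module.End F K) x := by
        intro a
        rcases eq_or_ne a 0 with rfl | ha
        · exact ⟨0, fun x => by simp⟩
        have h1 := (Subgroup.mem_normalizer_iff.1 hg (Units.map ((Algebra.lmul F K : K →ₐ[F] Module.End F K) :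
          K →* Module.End F K) (Units.mk0 a ha))).1 ⟨_, rfl⟩
        obtain ⟨b, hb⟩ := Cfsg.Agent.TransvMax.mem_singer.1 h1
        refine ⟨b, fun x => ?_⟩
        rw [← hb]
        show (g : Module.End F K) (a * x) = (g : Module.End F K) (a * _)
        rw [hgg]
      choose τ hτ using key
      have hg1 := Cfsg.Agent.TransvMax.unit_apply_ne_zero g (one_ne_zero (α := K))
      have hτv : ∀ a, τ a * (g : Module.End F K) 1 = (g : Module.End F K) a := fun a => by
        rw [← hτ, mul_one]
      let ψ : K →ₐ[F] K :=
        { toFun := τ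
          map_one' := mul_right_cancel₀ hg1 (by rw [hτv, one_mul])
          map_mul' := fun a b => mul_right_cancel₀ hg1 (by rw [hτv, hτ a b, mul_assoc, hτv])
          map_zero' := mul_right_cancel₀ hg1 (by rw [hτv, map_zero, zero_mul])
          map_add' := fun a b => mul_right_cancel₀ hg1 (by rw [add_mul, hτv, hτv, hτv, map_add])
          commutes' := fun c => mul_right_cancel₀ hg1 (by
            rw [hτv, ← mul_one (algebraMap F K c), ← Algebra.smul_def, map_smul, Algebra.smul_def,
              Algebra.smul_def, mul_one]) }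
      have hψ : Function.Bijective ψ :=
        Finite.injective_iff_bijective.1 ψ.toRingHom.injective
      refine ⟨AlgEquiv.ofBijective ψ hψ, Units.mk0 _ hg1, fun x => ?_⟩
      show (g : Module.End F K) x = (g : Module.End F K) 1 * τ x
      rw [mul_comm, hτv]
    · rintro ⟨σ, c, hgc⟩
      rw [Subgroup.mem_normalizer_iff]
      intro h
      simp only [Cfsg.Agent.TransvMax.mem_singer]
      have happ : ∀ y, ((g * h * g⁻¹ : (Module.End F K)ˣ) : Module.End F K) y =
          (g : Module.End F K) ((h : Module.End F K) (((g⁻¹ : (Module.End F K)ˣ) : Module.End F K) y)) :=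
        fun y => rfl
      constructor
      · rintro ⟨a, ha⟩
        refine ⟨Units.map (σ : K →* K) a, fun y => ?_⟩
        rw [happ, ha, hgc, map_mul]
        conv_rhs => rw [← hgg' y, hgc]
        simp only [Units.coe_map, MonoidHom.coe_coe]
        ring
      · rintro ⟨a, ha⟩
        refine ⟨Units.map (σ.symm : K →* K) a, fun y => ?_⟩
        have h1 := ha ((g : Module.End F K) y)
        rw [happ, hgg, hgc, hgc] at h1
        have h2 : σ ((h : Module.End F K) y) = (a : K) * σ y := by
          refine mul_left_cancel₀ c.ne_zero ?_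
          rw [h1]; ring
        rw [Units.coe_map, MonoidHom.coe_coe, ← σ.injective.eq_iff, map_mul, AlgEquiv.apply_symm_apply, h2]
  let f : (K ≃ₐ[F] K) × Kˣ → (Module.End F K)ˣ := fun p =>
    Units.map ((Algebra.lmul F K : K →ₐ[F] Module.End F K) : K →* Module.End F K) p.2 *
      LinearMap.GeneralLinearGroup.ofLinearEquiv p.1.toLinearEquiv
  have hf : ∀ p x, (f p : Module.End F K) x = (p.2 : K) * p.1 x := fun p x => rfl
  have hfinj : Function.Injective f := by
    intro p p' h
    have h1 := fun x => (hf p x).symm.trans ((congrArg (fun u : (Module.End F K)ˣ => (u : Module.End F K) x) h).trans (hf p' x))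
    have hc : (p.2 : K) = p'.2 := by simpa using h1 1
    refine Prod.ext (AlgEquiv.ext fun x => ?_) (Units.ext hc)
    have := h1 x
    rw [hc] at this
    exact mul_left_cancel₀ p'.2.ne_zero this
  have hrange : ∀ g, g ∈ Set.range f ↔
      g ∈ Subgroup.normalizer ((Cfsg.Agent.TransvMax.singer F K : Subgroup _) : Set (Module.End F K)ˣ) := by
    intro g
    rw [hmemN]
    constructor
    · rintro ⟨p, rfl⟩; exact ⟨p.1, p.2, hf p⟩
    · rintro ⟨σ, c, h⟩
      exact ⟨(σ, c), Units.ext (LinearMap.ext fun x => by rw [hf, h])⟩
  rw [← Nat.card_congr ((Equiv.ofInjective f hfinj).trans (Equiv.subtypeEquivRight hrange)), Nat.card_prod,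
    IsGalois.card_aut_eq_finrank, hdim, Nat.card_units, Nat.card_eq_fintype_card]

end Cfsg.Agent.S5738
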