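import Cfsg.Statements.S5739
import Cfsg.Agent.Lib.TransvMax.Singer

set_option autoImplicit false
open Cfsg

namespace Cfsg.Agent.S5739

/-- Let F ⊆ K be finite fields with |F| = q and [K : F] = n ≥ 2, and let M ≤ GL_F(K) be the Singer group of multiplications by non-zero elements of K. If g ∈ GL_F(K) does not normalise M, then the order of M ∩ gMg⁻¹ divides q^r − 1 for some proper divisor r of n. In particular, when n is prime, that order divides q − 1. -/
theorem result {F K : Type*} [Field F] [Fintype F] [Field K] [Fintype K] [Algebra F K] (n : ℕ) (hn : 2 ≤ n) (hdim : Module.finrank F K = n)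
    (g : (Module.End F K)ˣ) (hg : ((Units.map ((Algebra.lmul F K : K →ₐ[F] Module.End F K) : K →* Module.End F K)).range).map (MulAut.conj g).toMonoidHom ≠ (Units.map ((Algebra.lmul F K : K →ₐ[F] Module.End F K) : K →* Module.End F K)).range) :
    ∃ r : ℕ, 1 ≤ r ∧ r ∣ n ∧ r < n ∧ Nat.card ↥(((Units.map ((Algebra.lmul F K : K →ₐ[F] Module.End F K) : K →* Module.End F K)).range).map (MulAut.conj g).toMonoidHom ⊓ (Units.map ((Algebra.lmul F K : K →ₐ[F] Module.End F K) : K →* Module.End F K)).range) ∣ Fintype.card F ^ r - 1 := by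
  classical
  set E := Cfsg.Agent.TransvMax.conjAlg g with hE
  have hEfin : Finite E := Finite.of_injective _ Subtype.val_injective
  letI : Field E := (Finite.isDomain_to_isField E).toField
  have htower := Module.finrank_mul_finrank F E K
  rw [hdim] at htower
  have hr1 : 1 ≤ Module.finrank F E := Nat.pos_of_ne_zero fun e => by rw [e] at htower; simp at htower; omega
  have hmem : ∀ (a : Kˣ), (a : K) ∈ E ↔
      (MulAut.conj g) (Units.map ((Algebra.lmul F K : K →ₐ[F] Module.End F K) : K →* Module.End F K) a) ∈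
        Cfsg.Agent.TransvMax.singer F K := by
    intro a
    rw [Cfsg.Agent.TransvMax.mem_singer, Cfsg.Agent.TransvMax.mem_conjAlg]
    have happ : ∀ x, ((MulAut.conj g) (Units.map ((Algebra.lmul F K : K →ₐ[F] Module.End F K) :
        K →* Module.End F K) a) : Module.End F K) x =
          (g : Module.End F K) ((a : K) * ((g⁻¹ : (Module.End F K)ˣ) : Module.End F K) x) := fun x => rfl
    have hgg : ∀ x, ((g⁻¹ : (Module.End F K)ˣ) : Module.End F K) ((g : Module.End F K) x) = x := fun x => by
      rw [← Module.End.mul_apply, ← Units.val_mul, inv_mul_cancel]; rfl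
    have hgg' : ∀ x, (g : Module.End F K) (((g⁻¹ : (Module.End F K)ˣ) : Module.End F K) x) = x := fun x => by
      rw [← Module.End.mul_apply, ← Units.val_mul, mul_inv_cancel]; rfl
    constructor
    · rintro ⟨b, hb⟩
      have hb0 : b ≠ 0 := fun e => Cfsg.Agent.TransvMax.unit_apply_ne_zero g
        (mul_ne_zero a.ne_zero one_ne_zero) (by rw [hb, e, zero_mul])
      exact ⟨Units.mk0 b hb0, fun x => by rw [happ, hb, hgg', Units.val_mk0]⟩
    · rintro ⟨b, hb⟩
      exact ⟨b, fun x => by rw [← hb, happ, hgg]⟩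
  have hlt : Module.finrank F E < n := by
    refine lt_of_le_of_ne (Nat.le_of_dvd (by omega) ⟨_, htower.symm⟩) fun e => hg ?_
    have hall : ∀ a : K, a ∈ E := by
      have h1 : Subalgebra.toSubmodule E = ⊤ := Submodule.eq_top_of_finrank_eq (by rw [hdim]; exact e)
      intro a
      have : a ∈ Subalgebra.toSubmodule E := h1 ▸ Submodule.mem_top
      exact this
    refine Subgroup.eq_of_le_of_card_ge ?_ (le_of_eq (Nat.card_congr
      (Subgroup.equivMapOfInjective _ (MulAut.conj g).toMonoidHom (MulAut.conj g).injective).toEquiv))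
    rintro _ ⟨_, ⟨a, rfl⟩, rfl⟩
    exact (hmem a).1 (hall a)
  refine ⟨Module.finrank F E, hr1, ⟨_, htower.symm⟩, hlt, ?_⟩
  let φ : Eˣ →* (Module.End F K)ˣ := (MulAut.conj g).toMonoidHom.comp
    ((Units.map ((Algebra.lmul F K : K →ₐ[F] Module.End F K) : K →* Module.End F K)).comp
      (Units.map (E.val : E →* K)))
  have hφinj : Function.Injective φ := by
    intro a b h
    have h1 := (MulAut.conj g).injective h
    have h2 := congrArg (fun u : (Module.End F K)ˣ => (u : Module.End F K) 1) h1
    have h3 : ((a : E) : K) * 1 = ((b : E) : K) * 1 := h2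
    rw [mul_one, mul_one] at h3
    exact Units.ext (Subtype.ext h3)
  have hrange : φ.range = (Cfsg.Agent.TransvMax.singer F K).map (MulAut.conj g).toMonoidHom ⊓
      Cfsg.Agent.TransvMax.singer F K := by
    ext u
    constructor
    · rintro ⟨e, rfl⟩
      exact ⟨⟨_, ⟨_, rfl⟩, rfl⟩, (hmem _).1 (e : E).2⟩
    · rintro ⟨⟨_, ⟨a, rfl⟩, rfl⟩, hu⟩
      have ha : (a : K) ∈ E := (hmem a).2 hu
      have ha' : (⟨(a : K), ha⟩ : E) ≠ 0 := fun e => a.ne_zero (congrArg Subtype.val e)
      exact ⟨Units.mk0 _ ha', Units.ext (LinearMap.ext fun x => rfl)⟩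
  rw [← hrange, ← Nat.card_congr (MonoidHom.ofInjective hφinj).toEquiv, Nat.card_units,
    Module.natCard_eq_pow_finrank (K := F) (V := E), Nat.card_eq_fintype_card]

end Cfsg.Agent.S5739
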