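import Cfsg.Statements.S5743
import Cfsg.Agent.Lib.Chev.FoldTwist.Main

set_option autoImplicit false
open Cfsg

namespace Cfsg.Agent.S5743

/-- The simple group ²E₆(2) (the twisted group of type E₆ over the field with 4 elements) contains at least three pairwise non-conjugate subgroups isomorphic to the Chevalley group F₄(2). -/
theorem result {K : Type*} [Field K] [Fintype K] (hK : Fintype.card K = 4) :
    ∃ H : Fin 3 → Subgroup (Cfsg.Lie.twistedE6 K 2),
      (∀ i, Nonempty ((H i) ≃* Cfsg.Lie.chevF4.group (ZMod 2))) ∧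
      (∀ i j, i ≠ j → ∀ g : (Cfsg.Lie.twistedE6 K 2), (H i).map (MulAut.conj g).toMonoidHom ≠ H j) := by
  haveI : CharP K 2 := by
    obtain ⟨n, hp, hc⟩ := FiniteField.card K (ringChar K)
    rw [hK] at hc
    have h2 : ringChar K = 2 := by
      have hd : ringChar K ∣ 2 ^ 2 := ⟨ringChar K ^ ((n : ℕ) - 1), by
        rw [← pow_succ', Nat.sub_add_cancel n.pos, ← hc]; norm_num⟩
      exact (Nat.prime_dvd_prime_iff_eq hp Nat.prime_two).1 (hp.dvd_of_dvd_pow hd)
    exact h2 ▸ ringChar.charP K
  exact Cfsg.Agent.Chev.FoldTwist.classes hK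

end Cfsg.Agent.S5743
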