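import Cfsg.Statements.S5747
-- import your own Cfsg.Agent.* helpers here

set_option autoImplicit false
open Cfsg

namespace Cfsg.Agent.S5747

section

variable {G Ω : Type*} [Group G] [MulAction G Ω]

/-- Irredundant bases of a subgroup, as lists. -/
def IrBase : Subgroup G → List Ω → Prop
  | H, [] => H = ⊥
  | H, x :: l => (∃ g ∈ H, g • x ≠ x) ∧ IrBase (H ⊓ MulAction.stabilizer G x) l

theorem irBase_nil {H : Subgroup G} : IrBase (Ω := Ω) H [] ↔ H = ⊥ := by rw [IrBase]

theorem irBase_cons {H : Subgroup G} {x : Ω} {l : List Ω} :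
    IrBase H (x :: l) ↔ (∃ g ∈ H, g • x ≠ x) ∧ IrBase (H ⊓ MulAction.stabilizer G x) l := by
  rw [IrBase]

/-- A base of a subgroup. -/
def IsBaseList (H : Subgroup G) (l : List Ω) : Prop := ∀ g ∈ H, (∀ x ∈ l, g • x = x) → g = 1

theorem IrBase.isBase : ∀ {l : List Ω} {H : Subgroup G}, IrBase H l → IsBaseList H l := by
  intro l
  induction l with
  | nil => intro H h g hg _; rw [irBase_nil] at h; rw [h] at hg; exact hg
  | cons x l ih =>
    intro H h g hg hfix
    exact ih (irBase_cons.mp h).2 g ⟨hg, hfix x (List.mem_cons_self ..)⟩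
      (fun y hy => hfix y (List.mem_cons_of_mem _ hy))

theorem exists_sublist_irBase : ∀ {L : List Ω} {H : Subgroup G}, IsBaseList H L →
    ∃ l, l.Sublist L ∧ IrBase H l := by
  intro L
  induction L with
  | nil =>
    intro H h
    refine ⟨[], List.Sublist.refl _, irBase_nil.mpr ?_⟩
    rw [eq_bot_iff]
    exact fun g hg => h g hg (by simp)
  | cons x L ih =>
    intro H h
    by_cases hx : ∃ g ∈ H, g • x ≠ x
    · obtain ⟨l, hl, hb⟩ := ih (H := H ⊓ MulAction.stabilizer G x) (fun g hg hfix => h g hg.1 (fun y hy => by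
        rcases List.mem_cons.mp hy with rfl | hy
        · exact hg.2
        · exact hfix y hy))
      exact ⟨x :: l, hl.cons₂ x, irBase_cons.mpr ⟨hx, hb⟩⟩
    · push Not at hx
      obtain ⟨l, hl, hb⟩ := ih (H := H) (fun g hg hfix => h g hg (fun y hy => by
        rcases List.mem_cons.mp hy with rfl | hy
        · exact hx g hg
        · exact hfix y hy))
      exact ⟨l, hl.cons x, hb⟩

/-- Adjacent points of an irredundant base may be interchanged. -/
def CanSwap (Ω : Type*) [MulAction G Ω] (H : Subgroup G) : Prop :=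
  ∀ (p : List Ω) (x y : Ω) (s : List Ω), IrBase H (p ++ x :: y :: s) → IrBase H (p ++ y :: x :: s)

theorem CanSwap.stab {H : Subgroup G} (h : CanSwap Ω H) {z : Ω} (hz : ∃ g ∈ H, g • z ≠ z) :
    CanSwap Ω (H ⊓ MulAction.stabilizer G z) := fun p x y s hl =>
  (irBase_cons.mp (h (z :: p) x y s (irBase_cons.mpr ⟨hz, hl⟩))).2

theorem irBase_length [Fintype Ω] : ∀ (l : List Ω) {H : Subgroup G}, CanSwap Ω H → IrBase H l →
    ∀ {l' : List Ω}, IrBase H l' → l.length = l'.length := by
  intro l
  induction hn : l.length generalizing l with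
  | zero =>
    intro H _ h l' h'
    obtain rfl := List.length_eq_zero_iff.mp hn
    rw [irBase_nil] at h
    cases l' with
    | nil => rfl
    | cons y t =>
      obtain ⟨g, hg, hne⟩ := (irBase_cons.mp h').1
      rw [h, Subgroup.mem_bot] at hg
      exact absurd (by rw [hg, one_smul]) hne
  | succ n ih =>
    intro H hsw h l' h'
    cases l with
    | nil => simp at hn
    | cons x t =>
      simp at hn
      obtain ⟨hx, ht⟩ := irBase_cons.mp h
      cases l' with
      | nil =>
        rw [irBase_nil] at h'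
        obtain ⟨g, hg, hne⟩ := hx
        rw [h', Subgroup.mem_bot] at hg
        exact absurd (by rw [hg, one_smul]) hne
      | cons y t' =>
        obtain ⟨hy, ht'⟩ := irBase_cons.mp h'
        simp only [List.length_cons, Nat.succ.injEq, add_left_inj]
        have hex : ∀ a b : Ω, ∃ s : List Ω, IrBase (H ⊓ MulAction.stabilizer G a ⊓ MulAction.stabilizer G b) s := by
          intro a b
          obtain ⟨s, -, hs⟩ := exists_sublist_irBase (L := Finset.univ.toList (α := Ω))
            (H := H ⊓ MulAction.stabilizer G a ⊓ MulAction.stabilizer G b)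
            (fun g hg hfix => h.isBase g hg.1.1 (fun z _ => hfix z (by simp)))
          exact ⟨s, hs⟩
        by_cases hyx : ∃ g ∈ H ⊓ MulAction.stabilizer G x, g • y ≠ y
        · obtain ⟨s, hs⟩ := hex x y
          have h1 : IrBase (H ⊓ MulAction.stabilizer G x) (y :: s) := irBase_cons.mpr ⟨hyx, hs⟩
          have hlen : n = (y :: s).length := ih t hn (hsw.stab hx) ht h1
          have h2 := hsw [] x y s (irBase_cons.mpr ⟨hx, h1⟩)
          have h3 := (irBase_cons.mp h2).2
          exact ih (x :: s) (by rw [hlen]; simp) (hsw.stab hy) h3 ht'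
        · push Not at hyx
          by_cases hxy : ∃ g ∈ H ⊓ MulAction.stabilizer G y, g • x ≠ x
          · exfalso
            obtain ⟨s, hs⟩ := hex y x
            have h1 := hsw [] y x s (irBase_cons.mpr ⟨hy, irBase_cons.mpr ⟨hxy, hs⟩⟩)
            obtain ⟨g, hg, hne⟩ := (irBase_cons.mp (irBase_cons.mp h1).2).1
            exact hne (hyx g hg)
          · push Not at hxy
            have heq : H ⊓ MulAction.stabilizer G y = H ⊓ MulAction.stabilizer G x :=
              le_antisymm (fun g hg => ⟨hg.1, hxy g hg⟩) (fun g hg => ⟨hg.1, hyx g hg⟩)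
            rw [heq] at ht'
            exact ih t hn (hsw.stab hx) ht ht'

theorem irBase_ofFn : ∀ {t : ℕ} (f : Fin t → Ω) (H : Subgroup G),
    IrBase H (List.ofFn f) ↔ ((∀ g ∈ H, (∀ i, g • f i = f i) → g = 1) ∧
      ∀ i, ∃ g ∈ H, (∀ j, j < i → g • f j = f j) ∧ g • f i ≠ f i) := by
  intro t
  induction t with
  | zero =>
    intro f H
    rw [List.ofFn_zero, irBase_nil, eq_bot_iff]
    exact ⟨fun h => ⟨fun g hg _ => h hg, fun i => i.elim0⟩, fun h g hg => h.1 g hg fun i => i.elim0⟩
  | succ t ih =>
    intro f H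
    rw [List.ofFn_succ, irBase_cons, ih]
    constructor
    · rintro ⟨⟨g0, hg0, hne⟩, hb, hm⟩
      refine ⟨fun g hg hfix => hb g ⟨hg, hfix 0⟩ (fun i => hfix i.succ), fun i => ?_⟩
      induction i using Fin.cases with
      | zero => exact ⟨g0, hg0, fun j hj => absurd hj (Fin.not_lt_zero j), hne⟩
      | succ i =>
        obtain ⟨g, hg, hfix, hne'⟩ := hm i
        refine ⟨g, hg.1, fun j hj => ?_, hne'⟩
        induction j using Fin.cases with
        | zero => exact hg.2
        | succ j => exact hfix j (Fin.succ_lt_succ_iff.mp hj)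
    · rintro ⟨hb, hm⟩
      obtain ⟨g0, hg0, -, hne⟩ := hm 0
      refine ⟨⟨g0, hg0, hne⟩, fun g hg hfix => hb g hg.1 (fun i => ?_), fun i => ?_⟩
      · induction i using Fin.cases with
        | zero => exact hg.2
        | succ i => exact hfix i
      · obtain ⟨g, hg, hfix, hne'⟩ := hm i.succ
        exact ⟨g, ⟨hg, hfix 0 (Fin.succ_pos i)⟩, fun j hj => hfix j.succ (Fin.succ_lt_succ_iff.mpr hj), hne'⟩

end

/-- Let a finite group G act on a finite set Ω. An irredundant base is a sequence of points ω₁, …, ω_t whose pointwise stabiliser is trivial and in which each ω_i is moved by some element fixing ω₁, …, ω_{i−1}. Then all irredundant bases have the same length if and only if every reordering of an irredundant base is again an irredundant base. -/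
theorem result {G Ω : Type*} [Group G] [Finite G] [MulAction G Ω] [Fintype Ω] :
    (∀ (t t' : ℕ) (f : Fin t → Ω) (f' : Fin t' → Ω), ((∀ g : G, (∀ i : Fin t, g • f i = f i) → g = 1) ∧ ∀ i : Fin t, ∃ g : G, (∀ j : Fin t, j < i → g • f j = f j) ∧ g • f i ≠ f i) → ((∀ g : G, (∀ i : Fin t', g • f' i = f' i) → g = 1) ∧ ∀ i : Fin t', ∃ g : G, (∀ j : Fin t', j < i → g • f' j = f' j) ∧ g • f' i ≠ f' i) → t = t') ↔
    (∀ (t : ℕ) (f : Fin t → Ω) (σ : Equiv.Perm (Fin t)), ((∀ g : G, (∀ i : Fin t, g • f i = f i) → g = 1) ∧ ∀ i : Fin t, ∃ g : G, (∀ j : Fin t, j < i → g • f j = f j) ∧ g • f i ≠ f i) → ((∀ g : G, (∀ i : Fin t, g • (f ∘ σ) i = (f ∘ σ) i) → g = 1) ∧ ∀ i : Fin t, ∃ g : G, (∀ j : Fin t, j < i → g • (f ∘ σ) j = (f ∘ σ) j) ∧ g • (f ∘ σ) i ≠ (f ∘ σ) i)) := by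
  classical
  have hP : ∀ {t : ℕ} (f : Fin t → Ω), IrBase (⊤ : Subgroup G) (List.ofFn f) ↔
      ((∀ g : G, (∀ i : Fin t, g • f i = f i) → g = 1) ∧
        ∀ i : Fin t, ∃ g : G, (∀ j : Fin t, j < i → g • f j = f j) ∧ g • f i ≠ f i) := by
    intro t f
    rw [irBase_ofFn]
    simp
  constructor
  · intro hsame t f σ hf
    have hbase : IsBaseList (⊤ : Subgroup G) (List.ofFn (f ∘ σ)) := by
      intro g _ hfix
      refine hf.1 g fun i => ?_
      have := hfix ((f ∘ σ) (σ.symm i)) (List.mem_ofFn.mpr ⟨_, rfl⟩)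
      simpa using this
    obtain ⟨l, hsub, hl⟩ := exists_sublist_irBase hbase
    have hl' : IrBase (⊤ : Subgroup G) (List.ofFn l.get) := by rwa [List.ofFn_get]
    have := hsame t l.length f l.get hf ((hP _).mp hl')
    obtain rfl := hsub.eq_of_length (by rw [List.length_ofFn, this])
    exact (hP _).mp hl
  · intro hre t t' f f' hf hf'
    have hsw : CanSwap Ω (⊤ : Subgroup G) := by
      intro p x y s h
      set L := p ++ x :: y :: s with hL
      have hlen : L.length = p.length + s.length + 2 := by simp [hL]; omega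
      let i : Fin L.length := ⟨p.length, by omega⟩
      let j : Fin L.length := ⟨p.length + 1, by omega⟩
      have hget : IrBase (⊤ : Subgroup G) (List.ofFn L.get) := by rwa [List.ofFn_get]
      have h2 := (hP _).mpr (hre L.length L.get (Equiv.swap i j) ((hP _).mp hget))
      convert h2 using 1
      apply List.ext_getElem
      · simp [hlen]; omega
      intro k hk1 hk2
      simp only [List.getElem_ofFn, Function.comp, Equiv.swap_apply_def, List.get_eq_getElem]
      split_ifs with a b
      · simp [i, Fin.ext_iff] at a; subst a; simp [hL, j]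
      · simp [j, Fin.ext_iff] at b; subst b; simp [hL, i]
      · simp [i, Fin.ext_iff] at a; simp [j, Fin.ext_iff] at b
        simp only [hL]
        rcases Nat.lt_or_ge k p.length with hlt | hge
        · simp [List.getElem_append_left hlt]
        · obtain ⟨m, rfl⟩ : ∃ m, k = p.length + 2 + m := ⟨k - p.length - 2, by omega⟩
          rw [List.getElem_append_right (by omega), List.getElem_append_right (by omega)]
          simp [show p.length + 2 + m - p.length = m + 1 + 1 by omega]
    have := irBase_length (List.ofFn f) hsw ((hP f).mpr hf) ((hP f').mpr hf')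
    simpa using this

end Cfsg.Agent.S5747
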