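import Cfsg.Statements.S5748
import Cfsg.Agent.Lib.SL2.CommTrans
import Cfsg.Agent.S4065

set_option autoImplicit false
open Cfsg

namespace Cfsg.Agent.S5748

/-- A finite non-abelian simple group in which commuting is a transitive relation on the non-identity elements (equivalently, every non-identity element has abelian centraliser) is isomorphic to PSL₂ over a field with 2^f elements for some f ≥ 2; conversely these groups have that property. -/
theorem result {G : Type*} [Group G] [Finite G] [IsSimpleGroup G] (hG : ¬ IsMulCommutative G) :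
    (∀ a b c : G, a ≠ 1 → b ≠ 1 → c ≠ 1 → Commute a b → Commute b c → Commute a c) ↔
    ∃ (F : Type) (_ : Field F) (_ : Fintype F) (f : ℕ), 2 ≤ f ∧ Fintype.card F = 2 ^ f ∧ Nonempty (G ≃* Matrix.ProjectiveSpecialLinearGroup (Fin 2) F) := by
  refine ⟨fun h => CommTrans.classify hG h, ?_⟩
  rintro ⟨F, iF, iFF, f, hf, hcard, ⟨e⟩⟩ a b c ha hb hc hab hbc
  haveI : CharP F 2 := by
    obtain ⟨r, hr⟩ := CharP.exists F
    obtain ⟨m, hrp, hm⟩ := FiniteField.card F r
    have h2 : 2 ∣ r := Nat.prime_two.dvd_of_dvd_pow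
      ((dvd_pow_self 2 (by omega : f ≠ 0)).trans (dvd_of_eq (hcard.symm.trans hm)))
    rwa [← (Nat.prime_dvd_prime_iff_eq Nat.prime_two hrp).1 h2] at hr
  refine e.injective ?_
  rw [map_mul, map_mul]
  exact Cfsg.Agent.S4065.comm_of_centralizes (e b) (e a) (e c)
    (fun h => hb (e.map_eq_one_iff.1 h)) (hab.map e.toMonoidHom).eq (hbc.symm.map e.toMonoidHom).eq

end Cfsg.Agent.S5748
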