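import Cfsg.Statements.S5752
import Cfsg.Agent.Lib.Recog.SecondCores

set_option autoImplicit false
open Cfsg

namespace Cfsg.Agent.S5752

open Subgroup Cfsg.Agent.Components Cfsg.Agent.Recog.PointPair

theorem mem_coreMap {G : Type*} [Group G] {Y U : Subgroup G} {x : G} :
    x ∈ (Y.subgroupOf U).normalCore.map U.subtype ↔ x ∈ U ∧ ∀ m ∈ U, m * x * m⁻¹ ∈ Y := by
  constructor
  · rintro ⟨y, hy, rfl⟩
    exact ⟨y.2, fun m hm => hy ⟨m, hm⟩⟩
  · rintro ⟨hx, h⟩
    exact ⟨⟨x, hx⟩, fun m => h m m.2, rfl⟩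

theorem fStar_eq_of_normalized {G : Type*} [Group G] [Finite G] {p : ℕ} (hp : p.Prime) {A U : Subgroup G}
    (hA : A ≤ U) (hn : U ≤ normalizer (A : Set G))
    (hU : Cfsg.generalizedFittingSubgroup U = Cfsg.pCore p U) :
    Cfsg.generalizedFittingSubgroup A = Cfsg.pCore p A := by
  haveI := Fact.mk hp
  refine le_antisymm ?_ (pCore_le_fitting.trans fitting_le_fStar)
  haveI : (A.subgroupOf U).Normal := normal_subgroupOf_of_le_normalizer hn
  let e : A.subgroupOf U ≃* A := subgroupOfEquivOfLe hA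
  have h := map_fStar_le_of_subnormal (isSubnormal_of_normal (A.subgroupOf U))
  rw [hU] at h
  have hP : IsPGroup p (Cfsg.generalizedFittingSubgroup (A.subgroupOf U)) :=
    ((sSup_isPGroup_of_normal (G := U)).to_le h).of_equiv
      (equivMapOfInjective _ _ (A.subgroupOf U).subtype_injective).symm
  rw [← map_fStar_equiv e]
  exact le_sSup ⟨(inferInstance : (Cfsg.generalizedFittingSubgroup (A.subgroupOf U)).Normal).map _
    e.surjective, hP.map _⟩

theorem result {G : Type*} [Group G] [Finite G] (M₁ M₂ : Subgroup G) (hmax : IsCoatom M₁) (g : G)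
    (hconj : M₂ = M₁.map (MulAut.conj g).toMonoidHom) (hne : M₁ ≠ M₂) (hcore : M₁.normalCore = ⊥)
    (A B : ℕ → Subgroup G) (hA0 : A 0 = M₁) (hB0 : B 0 = M₂)
    (hA : ∀ i, A (i + 1) = ((A i ⊓ B i).subgroupOf M₁).normalCore.map M₁.subtype)
    (hB : ∀ i, B (i + 1) = ((A i ⊓ B i).subgroupOf M₂).normalCore.map M₂.subtype) (hA2 : A 2 ≠ ⊥) (hB2 : B 2 ≠ ⊥) :
    ∃ p : ℕ, p.Prime ∧ IsPGroup p ↥(A 2 ⊔ B 2) ∧
      Cfsg.generalizedFittingSubgroup ↥M₁ = Cfsg.pCore p ↥M₁ ∧ Cfsg.generalizedFittingSubgroup ↥(A 1) = Cfsg.pCore p ↥(A 1) ∧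
      Cfsg.generalizedFittingSubgroup ↥M₂ = Cfsg.pCore p ↥M₂ ∧ Cfsg.generalizedFittingSubgroup ↥(B 1) = Cfsg.pCore p ↥(B 1) := by
  subst hconj
  set φ := MulAut.conj g with hφ
  set M₂ := M₁.map φ.toMonoidHom with hM₂
  have h : Pair M₁ M₂ := by
    refine ⟨fun M hM => ?_, fun M hM => ?_, hne, fun N hN hle => ?_, fun N hN hle => ?_,
      ⟨M₁.equivMapOfInjective φ.toMonoidHom φ.injective⟩⟩
    · rcases hM.lt_or_eq with hl | he
      · exact Or.inr (hmax.2 M hl)
      · exact Or.inl he.symm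
    · have h1 : M₁ ≤ M.comap φ.toMonoidHom := map_le_iff_le_comap.1 hM
      rcases h1.lt_or_eq with hl | he
      · right
        have := congrArg (map φ.toMonoidHom) (hmax.2 _ hl)
        rwa [map_comap_eq_self_of_surjective φ.surjective, map_top_of_surjective _ φ.surjective] at this
      · left
        rw [hM₂, he, map_comap_eq_self_of_surjective φ.surjective]
    · exact le_bot_iff.1 (hcore ▸ (normal_le_normalCore.2 hle))
    · refine le_bot_iff.1 (hcore ▸ (normal_le_normalCore.2 fun x hx => ?_))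
      obtain ⟨y, hy, he⟩ := hle (hN.conj_mem x hx g)
      exact φ.injective (show φ y = φ x from he) ▸ hy
  have mA : ∀ i x, x ∈ A (i + 1) ↔ x ∈ M₁ ∧ ∀ m ∈ M₁, m * x * m⁻¹ ∈ A i ⊓ B i := fun i x => by
    rw [hA i]; exact mem_coreMap
  have mB : ∀ i x, x ∈ B (i + 1) ↔ x ∈ M₂ ∧ ∀ m ∈ M₂, m * x * m⁻¹ ∈ A i ⊓ B i := fun i x => by
    rw [hB i]; exact mem_coreMap
  have nA : ∀ i, M₁ ≤ normalizer (A (i + 1) : Set G) := fun i => by
    rw [hA i]; exact map_normal_normalized _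
  have nB : ∀ i, M₂ ≤ normalizer (B (i + 1) : Set G) := fun i => by
    rw [hB i]; exact map_normal_normalized _
  have lA : ∀ i, A (i + 1) ≤ A i ⊓ B i := fun i x hx => by
    simpa using ((mA i x).1 hx).2 1 M₁.one_mem
  have lB : ∀ i, B (i + 1) ≤ A i ⊓ B i := fun i x hx => by
    simpa using ((mB i x).1 hx).2 1 M₂.one_mem
  have hA1 : A 1 ≤ M₁ ⊓ M₂ := by have := lA 0; rwa [hA0, hB0] at this
  have hB1 : B 1 ≤ M₁ ⊓ M₂ := by have := lB 0; rwa [hA0, hB0] at this
  have hA2B : A 2 ≤ B 1 := (lA 1).trans inf_le_right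
  have hB2A : B 2 ≤ A 1 := (lB 1).trans inf_le_left
  have hAsub : ((A 2).subgroupOf M₂).IsSubnormal :=
    subnormal_in hA2B (hB1.trans inf_le_right) (subgroupOf_isSubnormal_of_normalized (nB 0))
      ((hB1.trans inf_le_left).trans (nA 1))
  have hBsub : ((B 2).subgroupOf M₁).IsSubnormal :=
    subnormal_in hB2A (hA1.trans inf_le_left) (subgroupOf_isSubnormal_of_normalized (nA 0))
      ((hA1.trans inf_le_right).trans (nB 1))
  have a1 := hA2B.trans hB1
  have b1 := hB2A.trans hA1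
  have hlay2 := h.lay_le_left hA2 (a1.trans inf_le_left) (nA 1) (a1.trans inf_le_right) hAsub
  have hlay1 := h.symm.lay_le_left hB2 (b1.trans inf_le_right) (nB 1) (b1.trans inf_le_left) hBsub
  obtain ⟨p, hp, hF1⟩ := h.char_p hA2 (a1.trans inf_le_left) (nA 1) (a1.trans inf_le_right) hAsub hlay1
  obtain ⟨p', hp', hF2⟩ := h.symm.char_p hB2 (b1.trans inf_le_right) (nB 1) (b1.trans inf_le_left) hBsub hlay2
  haveI := Fact.mk hp
  haveI := Fact.mk hp'
  have hc1 : core p M₁ ≠ ⊥ := by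
    rw [core, Ne, map_eq_bot_iff_of_injective _ M₁.subtype_injective, ← hF1]
    intro h0
    have hc := centralizer_fStar_le (G := M₁)
    rw [h0] at hc
    refine hA2 (le_bot_iff.1 fun x hx => ?_)
    have := hc (show (⟨x, (a1 hx).1⟩ : M₁) ∈ _ from mem_centralizer_iff.mpr fun y hy => by
      rw [mem_bot.mp hy]; simp)
    exact mem_bot.2 (congrArg Subtype.val (mem_bot.mp this))
  have hc2 : core p M₂ ≠ ⊥ := fun h0 => hc1 <| by
    have := h.card_core p
    rw [h0, card_bot] at this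
    exact card_eq_one.1 this
  have hpp : p' = p := by
    by_contra hpp
    refine hc2 ?_
    rw [core, map_eq_bot_iff_of_injective _ M₂.subtype_injective, eq_bot_iff]
    have hle : Cfsg.pCore p M₂ ≤ Cfsg.pCore p' M₂ :=
      (pCore_le_fitting.trans fitting_le_fStar).trans hF2.le
    exact (le_inf hle le_rfl).trans
      (IsPGroup.disjoint_of_ne p' p hpp _ _ (sSup_isPGroup_of_normal) (sSup_isPGroup_of_normal)).eq_bot.le
  subst hpp
  have pA : IsPGroup p' (A 2) := h.isPGroup_second hp hc1 hA2B (hB1.trans inf_le_left)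
    (hB1.trans inf_le_right) (nA 1) (nB 0) (fun x hx hm => (mB 0 x).2 ⟨hx, fun m hm' => by
      rw [hA0, hB0]; exact ⟨hm m hm', M₂.mul_mem (M₂.mul_mem hm' hx) (M₂.inv_mem hm')⟩⟩)
  have pB : IsPGroup p' (B 2) := h.symm.isPGroup_second hp hc2 hB2A (hA1.trans inf_le_right)
    (hA1.trans inf_le_left) (nB 1) (nA 0) (fun x hx hm => (mA 0 x).2 ⟨hx, fun m hm' => by
      rw [hA0, hB0]; exact ⟨M₁.mul_mem (M₁.mul_mem hm' hx) (M₁.inv_mem hm'), hm m hm'⟩⟩)
  exact ⟨p', hp, pA.to_sup_of_normal_left' pB ((b1.trans inf_le_left).trans (nA 1)),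
    hF1, fStar_eq_of_normalized hp (hA1.trans inf_le_left) (nA 0) hF1,
    hF2, fStar_eq_of_normalized hp (hB1.trans inf_le_right) (nB 0) hF2⟩

end Cfsg.Agent.S5752
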