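import Cfsg.Statements.S5753
import Cfsg.Agent.Lib.BinaryAffine.Main
import Cfsg.Agent.Lib.PermGp.MinNormalPow
-- import your own Cfsg.Agent.* helpers here

set_option autoImplicit false
open Cfsg

namespace Cfsg.Agent.S5753

open Cfsg.Agent

/-- The binary primitive permutation groups of affine type (the known proof uses the classification of the finite simple groups). Let a finite group G act faithfully and primitively on a finite set Ω, with a non-trivial abelian normal subgroup, and suppose the action is binary: for every n ≥ 2 and all n-tuples I, J of points, if for every pair of positions some element of G carries the corresponding pair of entries of I to those of J, then a single element carries I to J. Then either Ω has a prime number of points and every point stabilizer has order at most 2, or Ω can be identified with a field E that is a quadratic extension of a subfield F in such a way that the permutations induced by G are exactly the maps x ↦ a·φ(x) + b with a ∈ E of norm 1 over F,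 φ an automorphism of E over F and b ∈ E (the affine group of the anisotropic plane orthogonal group). -/
theorem result {G Ω : Type*} [Group G] [Finite G] [MulAction G Ω] [FaithfulSMul G Ω] [Fintype Ω]
    (hprim : MulAction.IsPreprimitive G Ω)
    (haff : ∃ N : Subgroup G, N.Normal ∧ N ≠ ⊥ ∧ IsMulCommutative ↥N)
    (hbin : ∀ (n : ℕ) (I J : Fin n → Ω), 2 ≤ n →
      (∀ i j : Fin n, i ≠ j → ∃ g : G, g • I i = J i ∧ g • I j = J j) → ∃ g : G, ∀ i, g • I i = J i) :
    ((Fintype.card Ω).Prime ∧ ∀ ω : Ω, Nat.card ↥(MulAction.stabilizer G ω) ≤ 2) ∨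
    (∃ (F E : Type) (_ : Field F) (_ : Fintype F) (_ : Field E) (_ : Fintype E) (_ : Algebra F E) (e : Ω ≃ E),
        Module.finrank F E = 2 ∧
        ∀ σ : Equiv.Perm Ω, σ ∈ (MulAction.toPermHom G Ω).range ↔
          ∃ (a b : E) (φ : E ≃ₐ[F] E), Algebra.norm F a = 1 ∧ ∀ ω : Ω, e (σ ω) = a * φ (e ω) + b) := by
  classical
  obtain ⟨N, hNn, hN0, hNc⟩ := haff
  haveI := hprim
  have hcommN : ∀ a ∈ N, ∀ b ∈ N, a * b = b * a := fun a ha b hb =>
    congrArg Subtype.val (mul_comm' (⟨a, ha⟩ : N) ⟨b, hb⟩)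
  haveI : N.Normal := hNn
  have htr : ∀ (U : Subgroup G) [U.Normal], U ≠ ⊥ → MulAction.IsPretransitive U Ω :=
    fun U _ hU => PermGp.normal_transitive U hU
  haveI hNt : MulAction.IsPretransitive N Ω := htr N hN0
  have hsemi : ∀ (u : N) (a : Ω), u • a = a → u = 1 := fun u a ha =>
    Subtype.ext (PermGp.stabilizer_eq_bot_of_commute N (fun v hv => hcommN u u.2 v hv) ha)
  obtain ⟨u₁, hu₁⟩ : ∃ u : N, u ≠ 1 := by
    obtain ⟨g, hg, hg1⟩ := (Subgroup.bot_or_exists_ne_one N).resolve_left hN0
    exact ⟨⟨g, hg⟩, fun e => hg1 (congrArg Subtype.val e)⟩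
  obtain ⟨ω₀⟩ : Nonempty Ω := by
    by_contra hc
    exact hu₁ (Subtype.ext (FaithfulSMul.eq_of_smul_eq_smul (α := Ω) fun a => absurd ⟨a⟩ hc))
  -- a normal subgroup inside `N` is trivial or everything
  have hminN : ∀ U : Subgroup G, U.Normal → U ≤ N → U ≠ ⊥ → U = N := by
    intro U hU hUN hU0
    haveI := hU
    haveI := htr U hU0
    refine le_antisymm hUN fun g hg => ?_
    obtain ⟨v, hv⟩ := MulAction.exists_smul_eq U ω₀ ((⟨g, hg⟩ : N) • ω₀)
    have he : (⟨v, hUN v.2⟩ : N)⁻¹ * ⟨g, hg⟩ = 1 := hsemi _ ω₀ (by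
      rw [mul_smul, inv_smul_eq_iff]; exact hv.symm)
    have := congrArg Subtype.val (inv_mul_eq_one.mp he)
    rw [← show (v : G) = g from this]
    exact v.2
  letI : CommGroup N :=
    { (inferInstance : Group N) with mul_comm := fun a b => Subtype.ext (hcommN a a.2 b b.2) }
  obtain ⟨p, hp, hpexp, -⟩ := PermGp.exists_power_of_comm hN0 hminN (fun a ha b hb => hcommN a ha b hb)
  -- the module
  let H := MulAction.stabilizer G ω₀
  let V := Additive N
  letI actH : DistribMulAction H V :=
    { smul := fun h v => Additive.ofMul ⟨(h : G) * (Additive.toMul v : N) * (h : G)⁻¹,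
        hNn.conj_mem _ (Additive.toMul v).2 _⟩
      one_smul := fun v => Additive.toMul.injective (Subtype.ext (by
        show (1 : G) * (Additive.toMul v : N) * (1 : G)⁻¹ = _
        group))
      mul_smul := fun a b v => Additive.toMul.injective (Subtype.ext (by
        show ((a : G) * b) * (Additive.toMul v : N) * ((a : G) * b)⁻¹ =
          (a : G) * ((b : G) * (Additive.toMul v : N) * (b : G)⁻¹) * (a : G)⁻¹
        group))
      smul_zero := fun a => Additive.toMul.injective (Subtype.ext (by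
        show (a : G) * (1 : G) * (a : G)⁻¹ = 1
        group))
      smul_add := fun a x y => Additive.toMul.injective (Subtype.ext (by
        show (a : G) * ((Additive.toMul x : N) * (Additive.toMul y : N)) * (a : G)⁻¹ =
          ((a : G) * (Additive.toMul x : N) * (a : G)⁻¹) * ((a : G) * (Additive.toMul y : N) * (a : G)⁻¹)
        group)) }
  -- the identification of points with vectors
  let e : V ≃ Ω := Equiv.ofBijective (fun v => (Additive.toMul v : N) • ω₀)
    ⟨fun a b hab => Additive.toMul.injective (inv_mul_eq_one.mp (hsemi _ ω₀ (by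
      rw [mul_smul, inv_smul_eq_iff]; exact hab.symm) : (Additive.toMul a)⁻¹ * Additive.toMul b = 1)),
     fun a => by
      obtain ⟨u, hu⟩ := MulAction.exists_smul_eq N ω₀ a
      exact ⟨Additive.ofMul u, hu⟩⟩
  have he : ∀ v : V, e v = ((Additive.toMul v : N) : G) • ω₀ := fun v => rfl
  have hstab : ∀ h : H, (h : G) • ω₀ = ω₀ := fun h => MulAction.mem_stabilizer_iff.mp h.2
  have hlin : ∀ (h : H) (v : V), (h : G) • e v = e (h • v) := by
    intro h v
    rw [he, he]
    show (h : G) • ((Additive.toMul v : N) : G) • ω₀ = ((h : G) * (Additive.toMul v : N) * (h : G)⁻¹) • ω₀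
    rw [mul_smul, mul_smul, show ((h : G)⁻¹) • ω₀ = ω₀ from inv_smul_eq_iff.mpr (hstab h).symm]
  have htransl : ∀ b v : V, ((Additive.toMul b : N) : G) • e v = e (v + b) := by
    intro b v
    rw [he, he, add_comm, toMul_add, Subgroup.coe_mul, mul_smul]
  have hdec : ∀ g : G, ∃ (h : H) (b : V), ∀ v, g • e v = e (h • v + b) := by
    intro g
    obtain ⟨b, hb⟩ := e.surjective (g • ω₀)
    rw [he] at hb
    have hmem : ((Additive.toMul b : N) : G)⁻¹ * g ∈ H := by
      rw [MulAction.mem_stabilizer_iff, mul_smul, inv_smul_eq_iff]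
      exact hb.symm
    refine ⟨⟨_, hmem⟩, b, fun v => ?_⟩
    rw [← htransl b, ← hlin ⟨_, hmem⟩ v, ← mul_smul, mul_inv_cancel_left]
  haveI : FaithfulSMul H V := ⟨fun {a b} hab => Subtype.ext (FaithfulSMul.eq_of_smul_eq_smul (α := Ω) fun ω => by
    obtain ⟨v, rfl⟩ := e.surjective ω
    rw [hlin, hlin, hab])⟩
  haveI : Nontrivial V := ⟨⟨Additive.ofMul u₁, 0, fun h => hu₁ (Additive.ofMul.injective h)⟩⟩
  have hexp : ∀ v : V, p • v = 0 := fun v => Additive.toMul.injective (Subtype.ext (by
    show (((Additive.toMul v : N) ^ p : N) : G) = 1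
    rw [Subgroup.coe_pow]
    exact hpexp _ (Additive.toMul v).2))
  have hirr : BinaryAffine.Irr H V := by
    intro U hU
    let U' : Subgroup G :=
      { carrier := {g | ∃ u ∈ U, ((Additive.toMul u : N) : G) = g}
        mul_mem' := fun {a b} ha hb => by
          obtain ⟨x, hx, rfl⟩ := ha
          obtain ⟨y, hy, rfl⟩ := hb
          exact ⟨x + y, U.add_mem hx hy, rfl⟩
        one_mem' := ⟨0, U.zero_mem, rfl⟩
        inv_mem' := fun {a} ha => by
          obtain ⟨x, hx, rfl⟩ := ha
          exact ⟨-x, U.neg_mem hx, rfl⟩ }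
    have hU'n : U'.Normal := ⟨fun a ha g => by
      obtain ⟨x, hx, rfl⟩ := ha
      obtain ⟨b, hb⟩ := e.surjective (g • ω₀)
      rw [he] at hb
      set n : N := Additive.toMul b
      have hmem : (n : G)⁻¹ * g ∈ H := by
        rw [MulAction.mem_stabilizer_iff, mul_smul, inv_smul_eq_iff]
        exact hb.symm
      refine ⟨(⟨_, hmem⟩ : H) • x, hU _ x hx, ?_⟩
      show ((n : G)⁻¹ * g) * (Additive.toMul x : N) * ((n : G)⁻¹ * g)⁻¹ = _
      have hcn := hcommN n n.2 _ (hNn.conj_mem _ (Additive.toMul x).2 g)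
      calc (n : G)⁻¹ * g * (Additive.toMul x : N) * ((n : G)⁻¹ * g)⁻¹
          = (n : G)⁻¹ * ((g * (Additive.toMul x : N) * g⁻¹) * n) := by group
        _ = g * (Additive.toMul x : N) * g⁻¹ := by rw [← hcn, inv_mul_cancel_left]⟩
    by_cases h0 : U' = ⊥
    · refine Or.inl (eq_bot_iff.mpr fun x hx => ?_)
      have : ((Additive.toMul x : N) : G) ∈ U' := ⟨x, hx, rfl⟩
      rw [h0, Subgroup.mem_bot] at this
      rw [AddSubgroup.mem_bot]
      exact Additive.toMul.injective (Subtype.ext this)
    · refine Or.inr (eq_top_iff.mpr fun x _ => ?_)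
      have hx : ((Additive.toMul x : N) : G) ∈ U' := by
        rw [hminN U' hU'n (fun g hg => by obtain ⟨y, -, rfl⟩ := hg; exact (Additive.toMul y).2) h0]
        exact (Additive.toMul x).2
      obtain ⟨y, hy, hyx⟩ := hx
      rwa [← Additive.toMul.injective (Subtype.ext hyx)]
  have hb : BinaryAffine.Bin H V := by
    intro S f hpair
    haveI : Fintype V := Fintype.ofFinite V
    by_cases hS : S.Nonempty
    swap
    · exact ⟨1, fun x hx => absurd ⟨x, hx⟩ hS⟩
    obtain ⟨x₀, hx₀⟩ := hS
    let m := Fintype.card S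
    let q := (Fintype.equivFin S).symm
    let idx : Fin (m + 2) → S := fun i => if hi : (i : ℕ) < m then q ⟨i, hi⟩ else ⟨x₀, hx₀⟩
    obtain ⟨g, hg⟩ := hbin (m + 2) (fun i => e (idx i).1) (fun i => e (f (idx i).1)) (by omega) (by
      intro i j _
      obtain ⟨h, hh⟩ := hpair (idx i).1 (idx i).2 (idx j).1 (idx j).2
      set x := (idx i).1
      set y := (idx j).1
      let b : V := f y - h • y
      refine ⟨((Additive.toMul b : N) : G) * h, ?_, ?_⟩ <;>
        rw [mul_smul, hlin, htransl] <;> congr 1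
      · rw [smul_sub, sub_eq_iff_eq_add] at hh
        rw [hh]
        simp only [b]
        abel
      · simp only [b]
        abel)
    obtain ⟨h, b, hdecg⟩ := hdec g
    refine ⟨h, fun x hx y hy => ?_⟩
    have key : ∀ x (hx : x ∈ S), h • x + b = f x := by
      intro x hx
      have hlt : ((q.symm ⟨x, hx⟩ : Fin m) : ℕ) < m + 2 := by omega
      have hgx := hg ⟨_, hlt⟩
      have hidx : idx ⟨_, hlt⟩ = ⟨x, hx⟩ :=
        (dif_pos (q.symm ⟨x, hx⟩).isLt).trans (q.apply_symm_apply ⟨x, hx⟩)
      simp only [hidx, hdecg] at hgx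
      exact e.injective hgx
    rw [smul_sub, ← key x hx, ← key y hy]
    abel
  rcases BinaryAffine.classify hb hirr hp hexp with ⟨hprime, hle⟩ | ⟨Q, P⟩
  · left
    refine ⟨?_, fun ω => ?_⟩
    · rw [← Nat.card_eq_fintype_card, ← Nat.card_congr e]
      exact hprime
    · have : ∀ a : Ω, Nat.card Ω * Nat.card (MulAction.stabilizer G a) = Nat.card G :=
        fun a => PermGp.card_mul_card_stabilizer (G := G) a
      have h1 := (this ω).trans (this ω₀).symm
      have : Nonempty Ω := ⟨ω₀⟩
      rw [Nat.eq_of_mul_eq_mul_left Nat.card_pos h1]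
      exact hle
  · right
    obtain ⟨E, fE, ftE, ψ, φ, hcardE, hφ, hθ, hfwd, hback⟩ := P.exists_field hb
    refine ⟨BinaryAffine.fixedF φ, E, inferInstance, Fintype.ofFinite _, fE, ftE, inferInstance,
      e.symm.trans ψ.toEquiv, BinaryAffine.finrank_fixedF φ hφ hθ, fun σ => ⟨?_, ?_⟩⟩
    · rintro ⟨g, rfl⟩
      obtain ⟨h, b, hg⟩ := hdec g
      obtain ⟨a, ha, hor⟩ := hfwd h
      have key : ∀ ω : Ω, ψ (e.symm (g • ω)) = ψ (h • e.symm ω) + ψ b := by
        intro ω
        obtain ⟨v, rfl⟩ := e.surjective ω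
        rw [hg, e.symm_apply_apply, e.symm_apply_apply, map_add]
      have hn := (BinaryAffine.norm_eq_one_iff φ hφ hθ hcardE a).mpr ha
      rcases hor with hl | hl
      · exact ⟨a, ψ b, AlgEquiv.refl, hn, fun ω => (key ω).trans (by rw [hl]; rfl)⟩
      · exact ⟨a, ψ b, BinaryAffine.algφ φ, hn, fun ω => (key ω).trans (by rw [hl]; rfl)⟩
    · rintro ⟨a, b, χ, hn, hσ⟩
      have ha := (BinaryAffine.norm_eq_one_iff φ hφ hθ hcardE a).mp hn
      obtain ⟨h, hh⟩ : ∃ h : H, ∀ v, ψ (h • v) = a * χ (ψ v) := by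
        rcases BinaryAffine.algEquiv_eq φ hφ hθ χ with hc | hc
        · obtain ⟨h, hh⟩ := (hback a ha).1
          exact ⟨h, fun v => by rw [hh, hc]⟩
        · obtain ⟨h, hh⟩ := (hback a ha).2
          exact ⟨h, fun v => by rw [hh, hc]⟩
      refine ⟨((Additive.toMul (ψ.symm b) : N) : G) * h, Equiv.ext fun ω => ?_⟩
      apply (e.symm.trans ψ.toEquiv).injective
      rw [hσ ω]
      obtain ⟨v, rfl⟩ := e.surjective ω
      show ψ (e.symm ((((Additive.toMul (ψ.symm b) : N) : G) * h) • e v)) = a * χ (ψ (e.symm (e v))) + b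
      rw [mul_smul, hlin, htransl, e.symm_apply_apply, e.symm_apply_apply, map_add, hh, ψ.apply_symm_apply]

end Cfsg.Agent.S5753
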