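import Cfsg.Statements.S5754
import Cfsg.Agent.Lib.Forms.Orth
-- import your own Cfsg.Agent.* helpers here

set_option autoImplicit false
open Cfsg

namespace Cfsg.Agent.S5754

open Cfsg.Agent

/-- Let V be a finite-dimensional vector space over a finite field F carrying an anisotropic quadratic form Q (Q(v) = 0 only for v = 0). Then the group of all maps v ↦ φ(v) + c, with φ an isometry of Q and c ∈ V, acts on V as a binary permutation group: given n ≥ 2 and two n-tuples u, u' of vectors such that every pair of corresponding entries of u is carried to that of u' by such a map, one such map carries u to u'. -/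
theorem result {F V : Type*} [Field F] [Finite F] [AddCommGroup V] [Module F V] [Module.Finite F V]
    (Q : QuadraticForm F V) (hQ : Q.Anisotropic) (n : ℕ) (hn : 2 ≤ n) (u u' : Fin n → V)
    (h2 : ∀ i j : Fin n, i ≠ j → ∃ (φ : Q.IsometryEquiv Q) (c : V), φ (u i) + c = u' i ∧ φ (u j) + c = u' j) :
    ∃ (φ : Q.IsometryEquiv Q) (c : V), ∀ i, φ (u i) + c = u' i := by
  classical
  let i₀ : Fin n := ⟨0, by omega⟩
  set d : Fin n → V := fun i => u i - u i₀ with hd
  set d' : Fin n → V := fun i => u' i - u' i₀ with hd'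
  have hiso : ∀ i j, i ≠ j → Q (u i - u j) = Q (u' i - u' j) := by
    intro i j hij
    obtain ⟨φ, c, h1, h3⟩ := h2 i j hij
    rw [← h1, ← h3, add_sub_add_right_eq_sub, ← map_sub φ]
    exact (φ.map_app _).symm
  have hsub : ∀ i j, Q (d i - d j) = Q (d' i - d' j) := by
    intro i j
    rcases eq_or_ne i j with rfl | hij
    · simp
    · simp only [hd, hd', sub_sub_sub_cancel_right]
      exact hiso i j hij
  have hself : ∀ i, Q (d i) = Q (d' i) := by
    intro i
    have h := hsub i i₀
    simpa [hd, hd'] using h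
  have hpol : ∀ i j, QuadraticMap.polar Q (d i) (d j) = QuadraticMap.polar Q (d' i) (d' j) := by
    intro i j
    have e : ∀ x y : V, Q (x - y) = Q x + Q y - QuadraticMap.polar Q x y := fun x y => by
      rw [sub_eq_add_neg, FormsLib.quad_add, QuadraticMap.polar_neg_right, QuadraticMap.map_neg]; ring
    have h := hsub i j
    linear_combination -h - e (d' i) (d' j) + e (d i) (d j) + hself i + hself j
  suffices ∃ φ : Q.IsometryEquiv Q, ∀ i, φ (d i) = d' i by
    obtain ⟨φ, hφ⟩ := this
    refine ⟨φ, u' i₀ - φ (u i₀), fun i => ?_⟩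
    have h := hφ i
    simp only [hd, hd', map_sub] at h
    rw [← sub_add_cancel (u' i) (u' i₀), ← h]
    abel
  by_cases hrad : ∃ r : V, r ≠ 0 ∧ ∀ x, QuadraticMap.polar Q x r = 0
  · obtain ⟨r, hr0, hr⟩ := hrad
    have hQr : Q r ≠ 0 := fun h => hr0 (hQ r h)
    have h20 : (2 : F) = 0 := by
      have h := hr r
      rw [FormsLib.polar_self'] at h
      exact (mul_eq_zero.1 h).resolve_right hQr
    have hc2 : ringChar F = 2 := by
      by_contra h
      exact Ring.two_ne_zero h h20
    have hline : ∀ x : V, ∃ a : F, x = a • r := by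
      intro x
      obtain ⟨t, ht⟩ := FiniteField.isSquare_of_char_two hc2 (Q x / Q r)
      refine ⟨-t, ?_⟩
      have h0 : Q (x + t • r) = 0 := by
        rw [FormsLib.quad_add, QuadraticMap.map_smul, smul_eq_mul, ← ht, div_mul_cancel₀ _ hQr,
          QuadraticMap.polar_smul_right, hr, smul_zero, add_zero, ← two_mul, h20, zero_mul]
      rw [neg_smul, ← add_eq_zero_iff_eq_neg]
      exact hQ _ h0
    refine ⟨QuadraticMap.IsometryEquiv.refl Q, fun i => ?_⟩
    obtain ⟨a, ha⟩ := hline (d i)
    obtain ⟨b, hb⟩ := hline (d' i)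
    have h := hself i
    rw [ha, hb, QuadraticMap.map_smul, QuadraticMap.map_smul, smul_eq_mul, smul_eq_mul] at h
    have hab := mul_right_cancel₀ hQr h
    have hsq : (a - b) * (a - b) = 0 := by linear_combination hab + (b * b - a * b) * h20
    show d i = d' i
    rw [ha, hb, sub_eq_zero.1 (mul_self_eq_zero.1 hsq)]
  push Not at hrad
  have hnd : (QuadraticMap.polarBilin Q).Nondegenerate := by
    constructor <;> intro v hv <;> by_contra h0 <;> obtain ⟨x, hx⟩ := hrad v h0
    · exact hx (by rw [QuadraticMap.polar_comm]; exact hv x)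
    · exact hx (hv x)
  let T : (Fin n → F) →ₗ[F] V := Fintype.linearCombination F d
  let T' : (Fin n → F) →ₗ[F] V := Fintype.linearCombination F d'
  have hTQ : ∀ c, Q (T c) = Q (T' c) := by
    intro c
    simp only [T, T', Fintype.linearCombination_apply]
    induction (Finset.univ : Finset (Fin n)) using Finset.induction_on with
    | empty => simp
    | insert a s ha ih =>
      rw [Finset.sum_insert ha, Finset.sum_insert ha, FormsLib.quad_add, FormsLib.quad_add, ih,
        QuadraticMap.map_smul, QuadraticMap.map_smul, hself]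
      congr 1
      rw [← QuadraticMap.polarBilin_apply_apply, ← QuadraticMap.polarBilin_apply_apply, map_sum, map_sum]
      refine Finset.sum_congr rfl fun b _ => ?_
      simp only [map_smul, LinearMap.smul_apply, QuadraticMap.polarBilin_apply_apply, hpol]
  have hker : LinearMap.ker T ≤ LinearMap.ker T' := fun c hc => by
    rw [LinearMap.mem_ker] at hc ⊢
    exact hQ _ (by rw [← hTQ, hc, QuadraticMap.map_zero])
  let φ : LinearMap.range T →ₗ[F] V :=
    ((LinearMap.ker T).liftQ T' hker).comp T.quotKerEquivRange.symm.toLinearMap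
  have hφT : ∀ c, φ ⟨T c, ⟨c, rfl⟩⟩ = T' c := fun c => by
    show (LinearMap.ker T).liftQ T' hker (T.quotKerEquivRange.symm ⟨T c, _⟩) = T' c
    have he : T.quotKerEquivRange.symm ⟨T c, LinearMap.mem_range_self T c⟩ = Submodule.Quotient.mk c := by
      rw [LinearEquiv.symm_apply_eq]
      rfl
    rw [he]
    exact Submodule.liftQ_apply _ _ _
  have hφQ : ∀ x : LinearMap.range T, Q (φ x) = Q (x : V) := by
    rintro ⟨_, c, rfl⟩
    rw [hφT, hTQ]
  have hinj : Function.Injective φ := by
    rw [← LinearMap.ker_eq_bot, eq_bot_iff]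
    intro x hx
    rw [LinearMap.mem_ker] at hx
    exact Subtype.ext (hQ _ (by rw [← hφQ x, hx, QuadraticMap.map_zero]))
  obtain ⟨g, hg, hgφ⟩ := FormsLib.quad_witt hnd (LinearMap.range T) φ hinj hφQ
  refine ⟨{ g with map_app' := fun x => hg x }, fun i => ?_⟩
  have h := hgφ ⟨T (Pi.single i 1), ⟨_, rfl⟩⟩
  rw [hφT] at h
  simp [T, T', Fintype.linearCombination_apply_single] at h
  exact h

end Cfsg.Agent.S5754
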