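import Cfsg.Statements.S5763
-- import your own Cfsg.Agent.* helpers here

set_option autoImplicit false
open Cfsg

namespace Cfsg.Agent.S5763

open Equiv

/-- Two points of the same pair. -/
def pRel (i j : Fin 8) : Prop := i.val / 2 = j.val / 2
/-- Two points of the same quadruple. -/
def qRel (i j : Fin 8) : Prop := i.val / 4 = j.val / 4
instance (i j : Fin 8) : Decidable (pRel i j) := inferInstanceAs (Decidable (_ = _))
instance (i j : Fin 8) : Decidable (qRel i j) := inferInstanceAs (Decidable (_ = _))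

/-- The automorphism group of the binary tree on eight leaves. -/
def treeGroup : Subgroup (Perm (Fin 8)) where
  carrier := {g | ∀ i j, (pRel i j ↔ pRel (g i) (g j)) ∧ (qRel i j ↔ qRel (g i) (g j))}
  one_mem' _ _ := ⟨Iff.rfl, Iff.rfl⟩
  mul_mem' {g h} hg hh i j :=
    ⟨(hh i j).1.trans (hg (h i) (h j)).1, (hh i j).2.trans (hg (h i) (h j)).2⟩
  inv_mem' {g} hg i j := by
    have := hg (g⁻¹ i) (g⁻¹ j)
    simp only [Perm.coe_inv, Equiv.apply_symm_apply] at this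
    exact ⟨this.1.symm, this.2.symm⟩

theorem two_blocks : ∀ a b c : Fin 8, ¬ qRel a b → ¬ qRel b c → qRel a c := by decide +kernel

theorem two_pairs : ∀ a b c : Fin 8, qRel a b → qRel b c → ¬ pRel a b → ¬ pRel b c → pRel a c := by
  decide +kernel

theorem two_points : ∀ a b c : Fin 8, pRel a b → pRel b c → a ≠ b → b ≠ c → a = c := by decide +kernel

theorem tree_isPGroup : IsPGroup 2 treeGroup := by
  intro g
  refine ⟨3, Subtype.ext ?_⟩
  rw [SubgroupClass.coe_pow]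
  set h : Perm (Fin 8) := (g : Perm (Fin 8))
  have hh : ∀ m : ℕ, h ^ m ∈ treeGroup := fun m => pow_mem g.2 m
  have h2 : ∀ i, qRel i ((h ^ 2) i) := fun i => by
    by_cases hi : qRel i (h i)
    · exact hi.trans ((g.2 i (h i)).2.1 hi)
    · exact two_blocks _ _ _ hi fun hc => hi ((g.2 i (h i)).2.2 hc)
  have h4 : ∀ i, pRel i ((h ^ 4) i) := fun i => by
    rw [show (h ^ 4) i = (h ^ 2) ((h ^ 2) i) from by rw [← Perm.mul_apply, ← pow_add]]
    by_cases hi : pRel i ((h ^ 2) i)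
    · exact hi.trans ((hh 2 i _).1.1 hi)
    · exact two_pairs _ _ _ (h2 i) (h2 _) hi fun hc => hi ((hh 2 i _).1.2 hc)
  ext i
  rw [show (h ^ 2 ^ 3) i = (h ^ 4) ((h ^ 4) i) from by rw [← Perm.mul_apply, ← pow_add]; norm_num]
  simp only [OneMemClass.coe_one, Perm.one_apply]
  by_cases hi : (h ^ 4) i = i
  · rw [hi, hi]
  · exact congrArg Fin.val (two_points _ _ _ (h4 i) (h4 _) (Ne.symm hi)
      (fun hc => hi ((h ^ 4).injective hc.symm))).symm

/-- Candidate common elements, as tables of values. -/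
def cands : List (List ℕ) :=
  [[1,0,2,3,4,5,6,7],
   [0,1,3,2,4,5,6,7],
   [0,1,2,3,5,4,6,7],
   [0,1,2,3,4,5,7,6],
   [1,0,3,2,4,5,6,7],
   [2,3,0,1,4,5,6,7],
   [3,2,1,0,4,5,6,7],
   [0,1,2,3,5,4,7,6],
   [0,1,2,3,6,7,4,5],
   [0,1,2,3,7,6,5,4],
   [1,0,3,2,5,4,7,6],
   [1,0,3,2,6,7,4,5],
   [1,0,3,2,7,6,5,4],
   [2,3,0,1,5,4,7,6],
   [2,3,0,1,6,7,4,5],
   [2,3,0,1,7,6,5,4],
   [3,2,1,0,5,4,7,6],
   [3,2,1,0,6,7,4,5],
   [3,2,1,0,7,6,5,4],
   [4,5,6,7,0,1,2,3],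
   [5,4,7,6,1,0,3,2],
   [4,5,7,6,0,1,3,2],
   [5,4,6,7,1,0,2,3],
   [6,7,4,5,2,3,0,1],
   [7,6,5,4,3,2,1,0],
   [6,7,5,4,3,2,0,1],
   [7,6,4,5,2,3,1,0]]

/-- The table `g` respects the tree transported by the table `l`. -/
def okB (l g : List ℕ) : Bool :=
  (List.range 8).all fun i => (List.range 8).all fun j =>
    ((l.getD i 0 / 2 == l.getD j 0 / 2) == (l.getD (g.getD i 0) 0 / 2 == l.getD (g.getD j 0) 0 / 2)) &&
    ((l.getD i 0 / 4 == l.getD j 0 / 4) == (l.getD (g.getD i 0) 0 / 4 == l.getD (g.getD j 0) 0 / 4))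

theorem cands_ok : ∀ g ∈ cands, okB [0,1,2,3,4,5,6,7] g = true ∧ g ≠ [0,1,2,3,4,5,6,7] ∧
    (List.range 8).all (fun i => decide (g.getD i 0 < 8) && (g.getD (g.getD i 0) 0 == i)) = true ∧
    g.length = 8 := by
  decide +kernel

set_option synthInstance.maxSize 100000 in
set_option synthInstance.maxHeartbeats 400000 in
set_option maxHeartbeats 4000000 in
theorem tuples : ∀ a1 : Fin 8, 0 < a1 → ∀ a2 : Fin 8, 0 < a2 ∧ a2 ≠ a1 →
    ∀ a3 : Fin 8, a2 < a3 ∧ a3 ≠ a1 → ∀ a4 : Fin 8, 0 < a4 ∧ a4 ≠ a1 ∧ a4 ≠ a2 ∧ a4 ≠ a3 →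
    ∀ a5 : Fin 8, a4 < a5 ∧ a5 ≠ a1 ∧ a5 ≠ a2 ∧ a5 ≠ a3 →
    ∀ a6 : Fin 8, a4 < a6 ∧ a6 ≠ a1 ∧ a6 ≠ a2 ∧ a6 ≠ a3 ∧ a6 ≠ a5 →
    ∀ a7 : Fin 8, a6 < a7 ∧ a7 ≠ a1 ∧ a7 ≠ a2 ∧ a7 ≠ a3 ∧ a7 ≠ a5 →
    (cands.any fun g => okB [0, a1.val, a2.val, a3.val, a4.val, a5.val, a6.val, a7.val] g) = true := by
  decide +kernel

/-- The tree group and its conjugate share a nontrivial element. -/
def Meets (y : Perm (Fin 8)) : Prop :=
  ∃ g ∈ treeGroup, g ≠ 1 ∧ y * g * y⁻¹ ∈ treeGroup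

theorem meets_of_mul {y q : Perm (Fin 8)} (hq : q ∈ treeGroup) (h : Meets (y * q)) : Meets y := by
  obtain ⟨g, hg, hne, hc⟩ := h
  refine ⟨q * g * q⁻¹, mul_mem (mul_mem hq hg) (inv_mem hq), fun e => hne ?_, ?_⟩
  · rwa [conj_eq_one_iff] at e
  · rwa [show y * (q * g * q⁻¹) * y⁻¹ = y * q * g * (y * q)⁻¹ by group]

/-- The generators used for sorting. -/
def gens : List (Perm (Fin 8)) :=
  [swap 0 1, swap 2 3, swap 4 5, swap 6 7, swap 0 2 * swap 1 3,
    swap 4 6 * swap 5 7, swap 0 4 * swap 1 5 * swap 2 6 * swap 3 7]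

theorem gens_ok : ∀ g ∈ gens, g ∈ treeGroup := by
  intro g hg
  simp only [gens, List.mem_cons, List.not_mem_nil, or_false] at hg
  rcases hg with rfl | rfl | rfl | rfl | rfl | rfl | rfl <;>
    exact fun i j => by fin_cases i <;> fin_cases j <;> simp [pRel, qRel, Equiv.swap_apply_def]

theorem meets_sorted {y : Perm (Fin 8)} (h01 : y 0 < y 1) (h23 : y 2 < y 3) (h45 : y 4 < y 5)
    (h67 : y 6 < y 7) (h02 : y 0 < y 2) (h46 : y 4 < y 6) (h04 : y 0 < y 4) : Meets y := by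
  have h0 : y 0 = 0 := by
    obtain ⟨i, hi⟩ := y.surjective 0
    have hi' : (y i).val = 0 := by rw [hi]; rfl
    rw [Fin.lt_def] at h01 h23 h45 h67 h02 h46 h04
    refine Fin.ext ?_
    show (y 0).val = 0
    fin_cases i <;> simp at hi' <;> omega
  have hne : ∀ i j : Fin 8, i ≠ j → y i ≠ y j := fun i j h => y.injective.ne h
  have ht := tuples (y 1) (h0 ▸ h01) (y 2) ⟨h0 ▸ h02, hne _ _ (by decide)⟩
    (y 3) ⟨h23, hne _ _ (by decide)⟩
    (y 4) ⟨h0 ▸ h04, hne _ _ (by decide), hne _ _ (by decide), hne _ _ (by decide)⟩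
    (y 5) ⟨h45, hne _ _ (by decide), hne _ _ (by decide), hne _ _ (by decide)⟩
    (y 6) ⟨h46, hne _ _ (by decide), hne _ _ (by decide), hne _ _ (by decide), hne _ _ (by decide)⟩
    (y 7) ⟨h67, hne _ _ (by decide), hne _ _ (by decide), hne _ _ (by decide), hne _ _ (by decide)⟩
  obtain ⟨g, hg, hok⟩ := List.any_eq_true.mp ht
  obtain ⟨hbase, hne1, hinv, hlen⟩ := cands_ok g hg
  simp only [List.all_eq_true, List.mem_range, Bool.and_eq_true, decide_eq_true_eq, beq_iff_eq] at hinv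
  let F : Fin 8 → Fin 8 := fun i => ⟨g.getD i.val 0, (hinv i.val i.isLt).1⟩
  have hF : Function.Involutive F := fun i => Fin.ext (hinv i.val i.isLt).2
  have hl : ∀ i : Fin 8, [0, (y 1).val, (y 2).val, (y 3).val, (y 4).val, (y 5).val, (y 6).val, (y 7).val].getD i.val 0 = (y i).val := by
    intro i
    fin_cases i <;> simp [h0]
  have hid : ∀ i : Fin 8, [0, 1, 2, 3, 4, 5, 6, 7].getD i.val 0 = i.val := by decide
  have hq : ∀ (l : List ℕ) (u : Fin 8 → Fin 8), (∀ i : Fin 8, l.getD i.val 0 = (u i).val) →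
      okB l g = true → ∀ i j, (pRel (u i) (u j) ↔ pRel (u (F i)) (u (F j))) ∧
        (qRel (u i) (u j) ↔ qRel (u (F i)) (u (F j))) := by
    intro l u hu h i j
    simp only [okB, List.all_eq_true, List.mem_range, Bool.and_eq_true, beq_iff_eq] at h
    obtain ⟨h1, h2⟩ := h i.val i.isLt j.val j.isLt
    have hFi : ∀ i : Fin 8, g.getD i.val 0 = (F i).val := fun _ => rfl
    rw [hFi, hFi, hu, hu, hu, hu, Bool.eq_iff_iff, beq_iff_eq, beq_iff_eq] at h1 h2
    exact ⟨h1, h2⟩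
  refine ⟨hF.toPerm F, hq _ id hid hbase, fun e => hne1 ?_, fun u v => ?_⟩
  · apply List.ext_getElem (by rw [hlen]; rfl)
    intro i h1 h2
    have h3 : i < 8 := hlen ▸ h1
    have := congrArg Fin.val (Equiv.congr_fun e ⟨i, h3⟩)
    change g.getD i 0 = i at this
    rw [List.getD_eq_getElem _ _ h1] at this
    rw [this]
    have h4 := hid ⟨i, h3⟩
    rw [List.getD_eq_getElem _ _ h2] at h4
    exact h4.symm
  · have h := hq _ y hl hok (y⁻¹ u) (y⁻¹ v)
    simpa using h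

theorem meets_all (y : Perm (Fin 8)) : Meets y := by
  have hne : ∀ (y : Perm (Fin 8)) (i j : Fin 8), i ≠ j → y i ≠ y j := fun y i j h => y.injective.ne h
  have step : ∀ (y : Perm (Fin 8)) (g : Perm (Fin 8)), g ∈ gens →
      Meets (y * g) → Meets y := fun y g hg h => meets_of_mul (gens_ok g hg) h
  revert y
  have s7 : ∀ y : Perm (Fin 8), y 0 < y 1 → y 2 < y 3 → y 4 < y 5 → y 6 < y 7 → y 0 < y 2 →
      y 4 < y 6 → Meets y := by
    intro y a b c d e f
    rcases lt_or_gt_of_ne (hne y 0 4 (by decide)) with h | h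
    · exact meets_sorted a b c d e f h
    · refine step y (swap 0 4 * swap 1 5 * swap 2 6 * swap 3 7) (by simp [gens]) (meets_sorted ?_ ?_ ?_ ?_ ?_ ?_ ?_)
      <;> simp [Equiv.swap_apply_def] <;> assumption
  have s6 : ∀ y : Perm (Fin 8), y 0 < y 1 → y 2 < y 3 → y 4 < y 5 → y 6 < y 7 → y 0 < y 2 → Meets y := by
    intro y a b c d e
    rcases lt_or_gt_of_ne (hne y 4 6 (by decide)) with h | h
    · exact s7 y a b c d e h
    · refine step y (swap 4 6 * swap 5 7) (by simp [gens]) (s7 _ ?_ ?_ ?_ ?_ ?_ ?_)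
      <;> simp [Equiv.swap_apply_def] <;> assumption
  have s5 : ∀ y : Perm (Fin 8), y 0 < y 1 → y 2 < y 3 → y 4 < y 5 → y 6 < y 7 → Meets y := by
    intro y a b c d
    rcases lt_or_gt_of_ne (hne y 0 2 (by decide)) with h | h
    · exact s6 y a b c d h
    · refine step y (swap 0 2 * swap 1 3) (by simp [gens]) (s6 _ ?_ ?_ ?_ ?_ ?_)
      <;> simp [Equiv.swap_apply_def] <;> assumption
  have s4 : ∀ y : Perm (Fin 8), y 0 < y 1 → y 2 < y 3 → y 4 < y 5 → Meets y := by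
    intro y a b c
    rcases lt_or_gt_of_ne (hne y 6 7 (by decide)) with h | h
    · exact s5 y a b c h
    · refine step y (swap 6 7) (by simp [gens]) (s5 _ ?_ ?_ ?_ ?_)
      <;> simp [Equiv.swap_apply_def] <;> assumption
  have s3 : ∀ y : Perm (Fin 8), y 0 < y 1 → y 2 < y 3 → Meets y := by
    intro y a b
    rcases lt_or_gt_of_ne (hne y 4 5 (by decide)) with h | h
    · exact s4 y a b h
    · refine step y (swap 4 5) (by simp [gens]) (s4 _ ?_ ?_ ?_)
      <;> simp [Equiv.swap_apply_def] <;> assumption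
  have s2 : ∀ y : Perm (Fin 8), y 0 < y 1 → Meets y := by
    intro y a
    rcases lt_or_gt_of_ne (hne y 2 3 (by decide)) with h | h
    · exact s3 y a h
    · refine step y (swap 2 3) (by simp [gens]) (s3 _ ?_ ?_)
      <;> simp [Equiv.swap_apply_def] <;> assumption
  intro y
  rcases lt_or_gt_of_ne (hne y 0 1 (by decide)) with h | h
  · exact s2 y h
  · refine step y (swap 0 1) (by simp [gens]) (s2 _ ?_)
    simp [Equiv.swap_apply_def]; assumption

/-- In the symmetric group on 8 letters any two Sylow 2-subgroups have non-trivial intersection: for a Sylow 2-subgroup H and every element x, H ∩ xHx⁻¹ ≠ 1. -/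
theorem result (H : Sylow 2 (Equiv.Perm (Fin 8))) (x : Equiv.Perm (Fin 8)) :
    (H : Subgroup (Equiv.Perm (Fin 8))) ⊓ (H : Subgroup (Equiv.Perm (Fin 8))).map (MulAut.conj x).toMonoidHom ≠ ⊥ := by
  obtain ⟨Q, hQ⟩ := tree_isPGroup.exists_le_sylow
  obtain ⟨z, hz⟩ := MulAction.exists_smul_eq (Equiv.Perm (Fin 8)) Q H
  have key : ∀ g ∈ treeGroup, z * g * z⁻¹ ∈ (H : Subgroup (Equiv.Perm (Fin 8))) := by
    intro g hg
    rw [← hz, Sylow.coe_subgroup_smul]
    exact Subgroup.smul_mem_pointwise_smul g (MulAut.conj z) _ (hQ hg)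
  obtain ⟨g, hg, hne, hc⟩ := meets_all (z⁻¹ * x * z)
  intro hbot
  have hmem : x * (z * g * z⁻¹) * x⁻¹ ∈ (H : Subgroup (Equiv.Perm (Fin 8))) ⊓
      (H : Subgroup (Equiv.Perm (Fin 8))).map (MulAut.conj x).toMonoidHom := by
    refine ⟨?_, ⟨_, key g hg, rfl⟩⟩
    have := key _ hc
    rwa [show z * (z⁻¹ * x * z * g * (z⁻¹ * x * z)⁻¹) * z⁻¹ = x * (z * g * z⁻¹) * x⁻¹ by group] at this
  rw [hbot, Subgroup.mem_bot, conj_eq_one_iff, conj_eq_one_iff] at hmem
  exact hne hmem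

end Cfsg.Agent.S5763
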