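import Cfsg.Statements.S5769
import Cfsg.Agent.Lib.Chev.E7Sixty.Groups
import Cfsg.Agent.Lib.Chev.E7Sixty.Main

set_option autoImplicit false
open Cfsg

namespace Cfsg.Agent.S5769

/-- The Chevalley group of type E₇ over the field with two elements (generated by its root elements in the adjoint representation) has no subgroup isomorphic to any of PSL₂(64), PSp₄(8), PSL₄(8), PSU₄(8) or PSp₆(8). Here F₈ and F₆₄ denote fields with 8 and 64 elements. -/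
theorem result {F₈ F₆₄ : Type*} [Field F₈] [Fintype F₈] (h8 : Fintype.card F₈ = 8) [Field F₆₄] [Fintype F₆₄] (h64 : Fintype.card F₆₄ = 64)
    (H : Subgroup ↥(Cfsg.Lie.chevE7.group (ZMod 2))) :
    IsEmpty (↥H ≃* Matrix.ProjectiveSpecialLinearGroup (Fin 2) F₆₄) ∧ IsEmpty (↥H ≃* Cfsg.PSp 2 F₈) ∧
    IsEmpty (↥H ≃* Matrix.ProjectiveSpecialLinearGroup (Fin 4) F₈) ∧ IsEmpty (↥H ≃* Cfsg.PSU 4 F₆₄ 8) ∧ IsEmpty (↥H ≃* Cfsg.PSp 3 F₈) := by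
  haveI := Cfsg.Agent.Chev.E7Sixty.charTwo_of_card (K := F₈) (n := 3) h8
  haveI := Cfsg.Agent.Chev.E7Sixty.charTwo_of_card (K := F₆₄) (n := 6) h64
  refine ⟨⟨fun e => ?_⟩, ⟨fun e => ?_⟩, ⟨fun e => ?_⟩, ⟨fun e => ?_⟩, ⟨fun e => ?_⟩⟩
  · obtain ⟨g, hg⟩ := Cfsg.Agent.Chev.E7Sixty.psl2 h64
    exact Cfsg.Agent.Chev.E7Sixty.no_65 (e.symm g : H) (by rw [Subgroup.orderOf_coe, MulEquiv.orderOf_eq, hg])
  · obtain ⟨g, hg⟩ := Cfsg.Agent.Chev.E7Sixty.psp2 h8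
    exact Cfsg.Agent.Chev.E7Sixty.no_65 (e.symm g : H) (by rw [Subgroup.orderOf_coe, MulEquiv.orderOf_eq, hg])
  · obtain ⟨g, hg⟩ := Cfsg.Agent.Chev.E7Sixty.psl4 h8
    exact Cfsg.Agent.Chev.E7Sixty.no_65 (e.symm g : H) (by rw [Subgroup.orderOf_coe, MulEquiv.orderOf_eq, hg])
  · obtain ⟨g, hg⟩ := Cfsg.Agent.Chev.E7Sixty.psu4 h64
    exact Cfsg.Agent.Chev.E7Sixty.no_65 (e.symm g : H) (by rw [Subgroup.orderOf_coe, MulEquiv.orderOf_eq, hg])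
  · obtain ⟨g, hg⟩ := Cfsg.Agent.Chev.E7Sixty.psp3 h8
    exact Cfsg.Agent.Chev.E7Sixty.no_65 (e.symm g : H) (by rw [Subgroup.orderOf_coe, MulEquiv.orderOf_eq, hg])

end Cfsg.Agent.S5769
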