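import Cfsg.Statements.S5789
import Cfsg.Agent.Lib.SpFourEven.SubfieldMax
import Cfsg.Agent.Lib.SpFourEven.QuadMax
import Cfsg.Agent.Lib.SpFourEven.FieldMax
import Cfsg.Agent.Lib.TransvMax.SubspaceSp
import Cfsg.Agent.Lib.TransvMax.DecompSp
import Cfsg.Agent.Lib.TransvMax.SpBridge

set_option autoImplicit false
open Cfsg

namespace Cfsg.Agent.S5789

open Cfsg.Agent
open scoped Matrix MatrixGroups

/-- Maximal subgroups of Sp_4(q) of geometric type, q ≥ 4 even. Let F be a finite field of even order q ≥ 4, f the standard alternating form on F^4 (coordinates Fin 2 ⊕ Fin 2) and Sp_4(F) its isometry group inside GL_4(F). Each of the following, intersected with Sp_4(F), is a maximal subgroup of Sp_4(F): (1) the stabiliser of any non-zero totally isotropic subspace (totally isotropic 1-spaces and 2-spaces); (2) the stabiliser of any decomposition of F^4 into two mutually orthogonal non-degenerate 2-spaces; (3) the normaliser of any degree-2 subfield K of the matrix algebra whose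 elements are self-adjoint for f with f(k v, v) = 0 for all k in K and all v; (4) every subfield group for a subfield F₀ with |F| = |F₀|^r, r prime, whose F₀-structure carries a non-zero scalar multiple of f; (5) the similarity group of any non-degenerate quadratic form whose polar form is f (either Witt type); its intersection with Sp_4(F) is the orthogonal group of that form. -/
theorem result {F : Type*} [Field F] [Fintype F] (heven : ¬ Odd (Fintype.card F)) (h4 : 4 ≤ Fintype.card F) :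
    (∀ W : Submodule F (Fin 2 ⊕ Fin 2 → F), W ≠ ⊥ → Cfsg.Geo.IsTotallySingularFor (Cfsg.sympForm 2 F) W → Cfsg.Geo.IsMaximalIn (Cfsg.spGL 2 F) (Cfsg.Geo.subspaceStabilizer W ⊓ Cfsg.spGL 2 F)) ∧
    (∀ D : Fin 2 → Submodule F (Fin 2 ⊕ Fin 2 → F), Cfsg.Geo.IsNondegenerateMDecomposition (Cfsg.sympForm 2 F) 2 D → Cfsg.Geo.IsMaximalIn (Cfsg.spGL 2 F) (Cfsg.Geo.decompositionStabilizer D ⊓ Cfsg.spGL 2 F)) ∧
    (∀ K : Subalgebra F (Matrix (Fin 2 ⊕ Fin 2) (Fin 2 ⊕ Fin 2) F), Cfsg.Geo.IsFieldSubalgebra 2 K → Cfsg.Geo.IsSelfAdjointFor (Cfsg.sympForm 2 F) K → (∀ k ∈ K, ∀ v : (Fin 2 ⊕ Fin 2 → F), (Cfsg.sympForm 2 F) (Matrix.mulVec k v) v = 0) → Cfsg.Geo.IsMaximalIn (Cfsg.spGL 2 F) (Cfsg.Geo.subalgebraNormalizer K ⊓ Cfsg.spGL 2 F)) ∧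
    (∀ (F₀ : Subfield F) (r : ℕ) (P : Matrix.GeneralLinearGroup (Fin 2 ⊕ Fin 2) F) (ζ : F), r.Prime → Fintype.card F = Nat.card F₀ ^ r → ζ ≠ 0 → Cfsg.Geo.IsFormRationalStructure (Cfsg.sympForm 2 F) F₀ ζ P → Cfsg.Geo.IsMaximalIn (Cfsg.spGL 2 F) (Cfsg.Geo.subfieldSubgroup F₀ P ⊓ Cfsg.spGL 2 F)) ∧
    (∀ Q : (Fin 2 ⊕ Fin 2 → F) → F, Cfsg.Geo.IsNondegenerateQuadraticForm Q → (∀ u v : (Fin 2 ⊕ Fin 2 → F), QuadraticMap.polar Q u v = (Cfsg.sympForm 2 F) u v) → Cfsg.Geo.IsMaximalIn (Cfsg.spGL 2 F) (Cfsg.Geo.quadSimilarityGroup Q ⊓ Cfsg.spGL 2 F)) := by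
  have hc2 : ringChar F = 2 := by
    by_contra h
    exact heven (Nat.odd_iff.mpr (FiniteField.odd_card_of_char_ne_two h))
  have hchar : CharP F 2 := ringChar.of_eq hc2
  have h2 : (2 : F) = 0 := CharTwo.two_eq_zero
  refine ⟨fun W hW0 hW => ?_, fun D hD => ?_, fun K hK hsa halt => ?_,
    fun F₀ r P ζ hr hcard hζ hP => ?_, fun Q hQ hpol => ?_⟩
  ·
    refine TransvMax.maximal_in_spGL _ inf_le_right ?_ fun K hHK hK ⟨g, hgK, hg⟩ => ?_
    · -- a transvection moving the subspace
      obtain ⟨w, hwW, hw0⟩ := Submodule.exists_mem_ne_zero_of_ne_bot hW0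
      obtain ⟨x, hx⟩ : ∃ x, FormsLib.spB 2 F w x ≠ 0 := by
        by_contra h
        push Not at h
        exact hw0 (FormsLib.spB_nondeg.1 w h)
      refine ⟨_, FormsLib.tau_mem FormsLib.spB_alt x 1, fun h => ?_⟩
      have h1 := TransvMax.glOf_mem_subspaceStab.1 h.1 w hwW
      rw [FormsLib.tau_apply, one_mul] at h1
      have h2 : x ∈ W := by
        simpa [smul_smul, inv_mul_cancel₀ hx] using W.smul_mem (FormsLib.spB 2 F w x)⁻¹ (W.sub_mem h1 hwW)
      exact hx (by rw [← TransvMax.sympForm_eq_spB]; exact hW w hwW x h2)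
    · have hg' : ¬ ∀ v ∈ W, g v ∈ W := fun h =>
        hg ⟨TransvMax.glOf_mem_subspaceStab.2 h, TransvMax.glOf_mem_spGL.2 (hK hgK)⟩
      push Not at hg'
      obtain ⟨w₀, hw₀, hgw₀⟩ := hg'
      exact TransvMax.tauGroup_le_of_over_isotropic FormsLib.spB_alt FormsLib.spB_nondeg
        (fun x hx y hy => by rw [← TransvMax.sympForm_eq_spB]; exact hW x hx y hy)
        hK (fun h hh hs => hHK ⟨TransvMax.glOf_mem_subspaceStab.2 hs, TransvMax.glOf_mem_spGL.2 hh⟩)
        hgK hw₀ hgw₀
  · have hex : ¬ (2 = 2 ∧ Fintype.card F = 2) := fun h => by omega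
    classical
    have S := TransvMax.decSetting_of_nondeg hD
    refine TransvMax.maximal_in_spGL _ inf_le_right ?_ fun K hHK hK ⟨g, hgK, hg⟩ =>
      S.tauGroup_le_of_over hK
        (fun h hh hs => hHK ⟨TransvMax.glOf_mem_decStab.2 hs, TransvMax.glOf_mem_spGL.2 hh⟩) ?_ hgK
        (fun hs => hg ⟨TransvMax.glOf_mem_decStab.2 hs, TransvMax.glOf_mem_spGL.2 (hK hgK)⟩)
    · obtain ⟨g, hg, hg'⟩ := S.exists_not_stab
      exact ⟨g, hg, fun h => hg' (TransvMax.glOf_mem_decStab.1 h.1)⟩
    · intro hk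
      by_contra hcon
      push Not at hcon
      refine hex ⟨rfl, ?_⟩
      have : (Finset.univ : Finset F) = {0, 1} := by
        ext x
        simp only [Finset.mem_univ, Finset.mem_insert, Finset.mem_singleton, true_iff]
        by_cases hx : x = 0
        · exact Or.inl hx
        · exact Or.inr (hcon x hx)
      rw [← Finset.card_univ, this, Finset.card_pair zero_ne_one]
  · exact SpFourEven.spMax (r := 2) Nat.prime_two le_rfl (by rw [Nat.card_eq_fintype_card]; omega) K hK
      (fun k hk u v => by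
        rw [← TransvMax.sympForm_eq_spB, ← TransvMax.sympForm_eq_spB]; exact hsa k hk u v)
      (fun k hk v => by rw [← TransvMax.sympForm_eq_spB]; exact halt k hk v)
  ·
    classical
    haveI := Fintype.ofFinite F₀
    set B := ζ • FormsLib.spB 2 F with hBdef
    have hB : ∀ u v, B u v = ζ * FormsLib.spB 2 F u v := fun u v => rfl
    have S : SpFourEven.RatFour B F₀ P :=
      { alt := fun v => by rw [hB, FormsLib.spB_alt v, mul_zero]
        nondeg := by
          refine ⟨fun v hv => FormsLib.spB_nondeg.1 v fun w => ?_, fun v hv => FormsLib.spB_nondeg.2 v fun w => ?_⟩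
          · exact (mul_eq_zero.1 (hv w)).resolve_left hζ
          · exact (mul_eq_zero.1 (hv w)).resolve_left hζ
        rat := fun u v => by
          rw [hB, ← TransvMax.sympForm_eq_spB]
          exact hP _ _ (fun i => (u i).2) (fun i => (v i).2)
        dim := by simp
        two := h2 }
    have hiso : ∀ g, g ∈ FormsLib.isoGroup B ↔ g ∈ FormsLib.isoGroup (FormsLib.spB 2 F) := fun g =>
      ⟨fun h x y => mul_left_cancel₀ hζ (h x y), fun h x y => congrArg (ζ * ·) (h x y)⟩
    refine TransvMax.maximal_in_spGL _ inf_le_right ?_ fun K hHK hK hgK => ?_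
    · -- a transvection with an irrational coefficient
      obtain ⟨ρ, hρ⟩ : ∃ ρ : F, ρ ∉ F₀ := by
        by_contra h
        push Not at h
        have hbij : Function.Bijective (Subtype.val : F₀ → F) :=
          ⟨Subtype.val_injective, fun x => ⟨⟨x, h x⟩, rfl⟩⟩
        have h1 := Nat.card_eq_of_bijective _ hbij
        rw [Nat.card_eq_fintype_card (α := F), hcard] at h1
        have h2 : 1 < Nat.card F₀ := Finite.one_lt_card
        have h3 := Nat.pow_lt_pow_right h2 hr.one_lt
        rw [pow_one] at h3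
        omega
      let y : Fin 2 ⊕ Fin 2 → F₀ := Pi.single (Sum.inl ⟨0, by omega⟩) 1
      have hy : y ≠ 0 := fun e => by simpa [y] using congrFun e (Sum.inl ⟨0, by omega⟩)
      refine ⟨FormsLib.tau S.alt (TransvMax.ratEmb F₀ P y) ρ, (hiso _).1 (FormsLib.tau_mem _ _ _),
        fun h => hρ ?_⟩
      obtain ⟨c, hc, hall⟩ := (TransvMax.mem_subfieldSubgroup_iff F₀ P _).1 h.1
      obtain ⟨p, hp⟩ := S.exists_vals (v := ![y]) (by simp [linearIndependent_unique_iff, hy]) ![1]
      obtain ⟨z₁, hz₁⟩ := hall y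
      rw [TransvMax.glOf_mulVec, FormsLib.tau_apply, S.alt, mul_zero, zero_smul, add_zero] at hz₁
      have e1 := congrArg (B (TransvMax.ratEmb F₀ P p)) hz₁
      rw [map_smul, smul_eq_mul, ← S.coe_form₀, ← S.coe_form₀, show S.form₀ p y = 1 from hp 0,
        OneMemClass.coe_one, mul_one] at e1
      obtain ⟨z₂, hz₂⟩ := hall p
      rw [TransvMax.glOf_mulVec, FormsLib.tau_apply] at hz₂
      have e2 := congrArg (B (TransvMax.ratEmb F₀ P p)) hz₂
      rw [map_smul, map_add, map_smul, S.alt, smul_eq_mul, smul_eq_mul, zero_add, ← S.coe_form₀,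
        ← S.coe_form₀, show S.form₀ p y = 1 from hp 0, OneMemClass.coe_one, mul_one, mul_one] at e2
      have hcF : c ∈ F₀ := by rw [e1]; exact SetLike.coe_mem _
      rw [show ρ = (S.form₀ p z₂ : F) / c by rw [← e2]; field_simp]
      exact div_mem (SetLike.coe_mem _) hcF
    · obtain ⟨g, hgK, hg⟩ := hgK
      refine le_trans ((Subgroup.closure_le _).2 ?_) (S.tauGroup_le_of_over hr hcard
        (fun x hx => (hiso x).2 (hK hx)) (fun h hh hrat => hHK ⟨?_, TransvMax.glOf_mem_spGL.2 ((hiso h).1 hh)⟩)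
        hgK fun hall => hg ⟨?_, TransvMax.glOf_mem_spGL.2 (hK hgK)⟩)
      · rintro _ ⟨v, e, rfl⟩
        refine Subgroup.subset_closure ⟨v, e / ζ, LinearEquiv.ext fun x => ?_⟩
        rw [FormsLib.tau_apply, FormsLib.tau_apply, hB, ← mul_assoc, div_mul_cancel₀ _ hζ]
      · refine (TransvMax.mem_subfieldSubgroup_iff F₀ P _).2 ⟨1, one_ne_zero, fun z => ?_⟩
        simpa [TransvMax.glOf_mulVec] using hrat z
      · refine TransvMax.mem_subfieldSubgroup_of_points F₀ P _ fun z hz => ?_
        simpa [TransvMax.glOf_mulVec] using hall z hz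
  ·
    have hc2 : ringChar F = 2 := by
      by_contra h
      exact heven (Nat.odd_iff.mpr (FiniteField.odd_card_of_char_ne_two h))
    have hchar : CharP F 2 := ringChar.of_eq hc2
    let QF : QuadraticForm F (Fin 2 ⊕ Fin 2 → F) := QuadraticMap.ofPolar Q
      (fun a x => by rw [hQ.smul, smul_eq_mul, pow_two])
      (fun x x' y => hQ.polar_bilinear.add_left x x' y)
      (fun a x y => hQ.polar_bilinear.smul_left a x y)
    have hQF : ∀ v, QF v = Q v := fun _ => rfl
    have S : SpFourEven.QuadFour (FormsLib.spB 2 F) QF := by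
      refine ⟨hchar, fun a => ?_, FormsLib.spB_alt, FormsLib.spB_nondeg, fun x y => ?_, ?_⟩
      · obtain ⟨b, hb⟩ := (Finite.injective_iff_surjective.mp (frobenius_inj F 2)) a
        exact ⟨b, by rw [← hb, frobenius_def, pow_two]⟩
      · show QuadraticMap.polar Q x y = _
        rw [hpol, TransvMax.sympForm_eq_spB]
      · rw [Module.finrank_fintype_fun_eq_card, Fintype.card_sum, Fintype.card_fin]
    have hmem : ∀ g : (Fin 2 ⊕ Fin 2 → F) ≃ₗ[F] (Fin 2 ⊕ Fin 2 → F),
        TransvMax.glOf g ∈ Cfsg.Geo.quadSimilarityGroup Q ⊓ Cfsg.spGL 2 F ↔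
          g ∈ FormsLib.oGroup QF := by
      intro g
      constructor
      · rintro ⟨⟨c, hc⟩, hsp⟩
        have hg := TransvMax.glOf_mem_spGL.1 hsp
        simp only [TransvMax.glOf_mulVec] at hc
        obtain ⟨u, hu⟩ : ∃ u : Fin 2 ⊕ Fin 2 → F, u ≠ 0 :=
          ⟨Pi.single (.inl ⟨0, by omega⟩) 1, by simp⟩
        obtain ⟨x, hx⟩ := (hQ.nondegenerate u hu).1
        have h1 : QuadraticMap.polar Q (g x) (g u) = (c : F) * QuadraticMap.polar Q x u := by
          simp only [QuadraticMap.polar, ← map_add, hc]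
          ring
        rw [hpol, TransvMax.sympForm_eq_spB, hg x u, ← TransvMax.sympForm_eq_spB, ← hpol] at h1
        have hc1 : (c : F) = 1 := by
          have h2 : ((c : F) - 1) * QuadraticMap.polar Q x u = 0 := by linear_combination -h1
          exact sub_eq_zero.mp ((mul_eq_zero.mp h2).resolve_right hx)
        intro v
        rw [hQF, hQF, hc, hc1, one_mul]
      · intro hg
        refine ⟨⟨1, fun v => ?_⟩, TransvMax.glOf_mem_spGL.2 fun u v => ?_⟩
        · rw [TransvMax.glOf_mulVec, Units.val_one, one_mul]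
          exact hg v
        · rw [← S.pol, ← S.pol]
          exact FormsLib.polar_of_mem hg u v
    refine TransvMax.maximal_in_spGL _ inf_le_right ?_ fun K hHK hK ⟨g, hgK, hg⟩ =>
      S.tauGroup_le_of_over (fun x hx => hHK ((hmem x).2 hx)) hK hgK fun h => hg ((hmem g).2 h)
    obtain ⟨g, hg, hg'⟩ := S.exists_not_mem
    exact ⟨g, hg, fun h => hg' ((hmem g).1 h)⟩

end Cfsg.Agent.S5789
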