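import Cfsg.Prelude.Def_GeometricClasses
-- import your own Cfsg.Agent.* helpers here

set_option autoImplicit false
open Cfsg

namespace Cfsg.Agent.S5876


open Module
open scoped Matrix commutatorElement

variable {F : Type*} [Field F] [Fintype F] {n : ℕ}

local notation "M" => Matrix (Fin n) (Fin n) F

/-- The fixed space. -/
abbrev fix (x : M) : Submodule F (Fin n → F) := Module.End.eigenspace (Matrix.toLin' x) 1

theorem mem_fix {x : M} {v : Fin n → F} : v ∈ fix x ↔ x *ᵥ v = v := by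
  simp [fix, Module.End.mem_eigenspace_iff]

/-- The fixed space of a commutator is large. -/
theorem fix_commutator (g h : GL (Fin n) F) :
    2 * finrank F (fix (g : M)) ≤ n + finrank F (fix (((g * h * g⁻¹ * h⁻¹ : GL (Fin n) F)) : M)) := by
  have hinj : Function.Injective (Matrix.toLin' (h : M)) := fun u v e => by
    have := congrArg (fun w => ((h⁻¹ : GL (Fin n) F) : M) *ᵥ w) e
    simpa [Matrix.mulVec_mulVec] using this
  set U := (fix (g : M)).map (Matrix.toLin' (h : M)) with hU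
  have hUd : finrank F U = finrank F (fix (g : M)) :=
    (LinearEquiv.finrank_eq (Submodule.equivMapOfInjective _ hinj _)).symm
  have hle : fix (g : M) ⊓ U ≤ fix (((g * h * g⁻¹ * h⁻¹ : GL (Fin n) F)) : M) := by
    rintro v ⟨hv, w, hw, rfl⟩
    rw [SetLike.mem_coe, mem_fix] at hw hv
    rw [mem_fix]
    simp only [Matrix.toLin'_apply] at hv ⊢
    have hgi : ((g⁻¹ : GL (Fin n) F) : M) *ᵥ w = w := by
      conv_lhs => rw [← hw]
      rw [Matrix.mulVec_mulVec, Units.inv_mul, Matrix.one_mulVec]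
    simp only [Units.val_mul, ← Matrix.mulVec_mulVec]
    rw [Matrix.mulVec_mulVec w ((h⁻¹ : GL (Fin n) F) : M) (h : M), Units.inv_mul, Matrix.one_mulVec, hgi, hv]
  have h1 := Submodule.finrank_sup_add_finrank_inf_eq (fix (g : M)) U
  have h2 := Submodule.finrank_mono hle
  have h3 := Submodule.finrank_le (fix (g : M) ⊔ U)
  rw [finrank_fin_fun] at h3
  omega

/-- Commuting nilpotent matrices have a common kernel vector. -/
theorem exists_common_ker (hn : 0 < n) (s : Finset M) (hnil : ∀ x ∈ s, IsNilpotent x)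
    (hcomm : ∀ x ∈ s, ∀ y ∈ s, x * y = y * x) : ∃ v : Fin n → F, v ≠ 0 ∧ ∀ x ∈ s, x *ᵥ v = 0 := by
  classical
  induction s using Finset.induction_on with
  | empty =>
    refine ⟨Pi.single ⟨0, hn⟩ 1, fun e => ?_, by simp⟩
    simpa using congrFun e ⟨0, hn⟩
  | @insert x s _ ih =>
    obtain ⟨v, hv0, hv⟩ := ih (fun y hy => hnil y (Finset.mem_insert_of_mem hy))
      fun y hy z hz => hcomm y (Finset.mem_insert_of_mem hy) z (Finset.mem_insert_of_mem hz)
    obtain ⟨k, hk⟩ := hnil x (Finset.mem_insert_self x s)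
    have hex : ∃ k, (x ^ k) *ᵥ v = 0 := ⟨k, by rw [hk, Matrix.zero_mulVec]⟩
    obtain ⟨j, hj⟩ : ∃ j, Nat.find hex = j + 1 := Nat.exists_eq_succ_of_ne_zero fun e => by
      have := Nat.find_spec hex
      rw [e, pow_zero, Matrix.one_mulVec] at this
      exact hv0 this
    refine ⟨(x ^ j) *ᵥ v, Nat.find_min hex (by omega), fun y hy => ?_⟩
    rcases Finset.mem_insert.1 hy with rfl | hys
    · have := Nat.find_spec hex
      rw [hj, pow_succ'] at this
      rwa [Matrix.mulVec_mulVec]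
    · have hc : Commute y (x ^ j) :=
        (show Commute y x from hcomm y hy x (Finset.mem_insert_self x s)).pow_right j
      rw [Matrix.mulVec_mulVec, hc.eq, ← Matrix.mulVec_mulVec, hv y hys, Matrix.mulVec_zero]

variable (G : Subgroup (GL (Fin n) F))

/-- Conjugation by an element of the group. -/
def cj (g : GL (Fin n) F) (x : M) : M := (g : M) * x * ((g⁻¹ : GL (Fin n) F) : M)

theorem cj_mul (g : GL (Fin n) F) (x y : M) : cj g (x * y) = cj g x * cj g y := by
  simp [cj, mul_assoc]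

theorem cj_cj (g h : GL (Fin n) F) (x : M) : cj g (cj h x) = cj (g * h) x := by
  simp [cj, mul_assoc, mul_inv_rev]

theorem cj_one (x : M) : cj (1 : GL (Fin n) F) x = x := by simp [cj]

set_option maxHeartbeats 800000 in
/-- In a primitive group the elements of a normal abelian subgroup act without fixed vectors. -/
theorem fix_eq_bot (hirr : Cfsg.Geo.ActsIrreducibly (Cfsg.Geo.matrixSet G))
    (hprim : ∀ (m t : ℕ) (D : Fin t → Submodule F (Fin n → F)), 2 ≤ t → Cfsg.Geo.IsMDecomposition m D →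
      ¬ G ≤ Cfsg.Geo.decompositionStabilizer D)
    {A : Subgroup G} (hA : A.Normal) (habel : ∀ a ∈ A, ∀ b ∈ A, a * b = b * a) {a : G} (ha : a ∈ A) (ha1 : a ≠ 1) :
    fix ((a : GL (Fin n) F) : M) = ⊥ := by
  classical
  rcases Nat.eq_zero_or_pos n with rfl | hn
  · exact (Submodule.eq_bot_iff _).2 fun v _ => funext fun i => i.elim0
  have inv_top : ∀ W : Submodule F (Fin n → F), W ≠ ⊥ → (∀ g ∈ G, ∀ v ∈ W, (g : M) *ᵥ v ∈ W) → W = ⊤ := by
    intro W hW hinv
    refine (hirr W ?_).resolve_left hW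
    rintro _ ⟨g, hg, rfl⟩ _ ⟨v, hv, rfl⟩
    exact hinv g hg v hv
  set S : Set M := (fun b : G => ((b : GL (Fin n) F) : M)) '' (A : Set G) with hS
  set E : Subalgebra F M := Algebra.adjoin F S with hE
  have hEc : ∀ x ∈ E, ∀ y ∈ E, x * y = y * x := by
    intro x hx y hy
    have h1 : ∀ b ∈ S, b * y = y * b := fun b hb => by
      refine Algebra.adjoin_induction (fun z hz => ?_) (fun r => ?_) (fun u v _ _ hu hv => ?_) (fun u v _ _ hu hv => ?_) hy
      · obtain ⟨c, hc, rfl⟩ := hz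
        obtain ⟨c', hc', rfl⟩ := hb
        simpa using congrArg (fun w : G => ((w : GL (Fin n) F) : M)) (habel c' hc' c hc)
      · exact (Algebra.commutes r b).symm
      · rw [mul_add, add_mul, hu, hv]
      · rw [← mul_assoc, hu, mul_assoc, hv, mul_assoc]
    refine Algebra.adjoin_induction h1 (fun r => Algebra.commutes r y) (fun u v _ _ hu hv => ?_)
      (fun u v _ _ hu hv => ?_) hx
    · rw [mul_add, add_mul, hu, hv]
    · rw [mul_assoc, hv, ← mul_assoc, hu, mul_assoc]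
  have hEgS : ∀ g (hg : g ∈ G), ∀ c ∈ A, cj g ((c : GL (Fin n) F) : M) ∈ E := fun g hg c hc => by
    have h1 := hA.conj_mem c hc (⟨g, hg⟩ : G)
    have h2 : (((⟨g, hg⟩ : G) * c * (⟨g, hg⟩ : G)⁻¹ : G) : GL (Fin n) F) = g * (c : GL (Fin n) F) * g⁻¹ := rfl
    have h3 : ((g * (c : GL (Fin n) F) * g⁻¹ : GL (Fin n) F) : M) ∈ E := h2 ▸ Algebra.subset_adjoin ⟨_, h1, rfl⟩
    simpa only [cj, Units.val_mul] using h3
  have hEg : ∀ g ∈ G, ∀ x ∈ E, cj g x ∈ E := by
    intro g hg x hx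
    refine Algebra.adjoin_induction (p := fun z _ => cj g z ∈ E) ?_ ?_ ?_ ?_ hx
    · rintro z ⟨c, hc, rfl⟩
      exact hEgS g hg c hc
    · intro r
      have e : cj g (algebraMap F M r) = algebraMap F M r := by
        rw [cj, ← Algebra.commutes r (g : M), mul_assoc, Units.mul_inv, mul_one]
      rw [e]
      exact E.algebraMap_mem r
    · intro u v _ _ hu hv
      have e : cj g (u + v) = cj g u + cj g v := by simp only [cj, mul_add, add_mul]
      rw [e]
      exact E.add_mem hu hv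
    · intro u v _ _ hu hv
      rw [cj_mul]
      exact E.mul_mem hu hv
  -- no nilpotent elements
  have hred : ∀ x ∈ E, IsNilpotent x → x = 0 := by
    intro x hx hxn
    set J := (Finset.univ : Finset M).filter fun y => y ∈ E ∧ IsNilpotent y with hJ
    obtain ⟨v, hv0, hv⟩ := exists_common_ker hn J (fun y hy => ((Finset.mem_filter.1 hy).2).2)
      fun y hy z hz => hEc y ((Finset.mem_filter.1 hy).2).1 z ((Finset.mem_filter.1 hz).2).1
    let W : Submodule F (Fin n → F) := ⨅ y ∈ J, LinearMap.ker (Matrix.toLin' y)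
    have hW : ∀ {w}, w ∈ W ↔ ∀ y ∈ J, y *ᵥ w = 0 := by simp [W, Submodule.mem_iInf]
    have hWt := inv_top W (fun e => hv0 ((Submodule.mem_bot F).1 (e ▸ hW.2 hv))) fun g hg w hw => hW.2 fun y hy => by
      obtain ⟨hyE, k, hk⟩ := (Finset.mem_filter.1 hy).2
      have hpow : ∀ k, cj g⁻¹ y ^ k = cj g⁻¹ (y ^ k) := fun k => by
        induction k with
        | zero => simp [cj]
        | succ k ih => rw [pow_succ, ih, pow_succ, cj_mul]
      have h1 := hW.1 hw (cj g⁻¹ y) (Finset.mem_filter.2 ⟨Finset.mem_univ _, hEg _ (inv_mem hg) y hyE, k, by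
        rw [hpow, hk]; simp [cj]⟩)
      simp only [cj, inv_inv, ← Matrix.mulVec_mulVec] at h1
      have h2 := congrArg (fun u => (g : M) *ᵥ u) h1
      simpa [Matrix.mulVec_mulVec, ← mul_assoc] using h2
    refine Matrix.toLin'.injective (LinearMap.ext fun w => ?_)
    rw [map_zero, LinearMap.zero_apply, Matrix.toLin'_apply]
    exact hW.1 (hWt ▸ Submodule.mem_top : w ∈ W) x (Finset.mem_filter.2 ⟨Finset.mem_univ _, hx, hxn⟩)
  -- a power of the element minus one is idempotent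
  set x : M := ((a : GL (Fin n) F) : M) - 1 with hxdef
  have hxE : x ∈ E := E.sub_mem (Algebra.subset_adjoin ⟨a, ha, rfl⟩) E.one_mem
  by_contra hfix
  obtain ⟨v, hv, hv0⟩ := (Submodule.ne_bot_iff _).1 hfix
  rw [mem_fix] at hv
  obtain ⟨i, j, hij, hpow⟩ := Finite.exists_ne_map_eq_of_infinite (fun k : ℕ => x ^ k)
  obtain ⟨i, d, hd, hpow⟩ : ∃ i d : ℕ, 0 < d ∧ x ^ i = x ^ (i + d) := by
    rcases lt_or_gt_of_ne hij with h | h
    · exact ⟨i, j - i, by omega, by rw [show i + (j - i) = j by omega]; exact hpow⟩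
    · exact ⟨j, i - j, by omega, by rw [show j + (i - j) = i by omega]; exact hpow.symm⟩
  have hxd : x ^ (d + 1) = x := by
    refine (sub_eq_zero.1 (hred (x - x ^ (d + 1)) (E.sub_mem hxE (E.pow_mem hxE _)) ⟨i + 1, ?_⟩)).symm
    rw [show x - x ^ (d + 1) = x * (1 - x ^ d) by rw [mul_sub, mul_one, ← pow_succ'],
      (((Commute.one_right x).sub_right (Commute.self_pow x d))).mul_pow, pow_succ' x i, pow_succ' (1 - x ^ d) i,
      mul_assoc, ← mul_assoc (x ^ i), mul_sub, mul_one, ← pow_add, ← hpow, sub_self, zero_mul, mul_zero]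
  set e := x ^ d with he
  have hee : e * e = e := by
    rw [he, ← pow_add, show d + d = (d - 1) + (d + 1) by omega, pow_add, hxd, ← pow_succ, Nat.sub_add_cancel hd]
  have hev : e *ᵥ v = 0 := by
    rw [he, show d = d - 1 + 1 by omega, pow_succ, ← Matrix.mulVec_mulVec, hxdef, Matrix.sub_mulVec, hv, Matrix.one_mulVec,
      sub_self, Matrix.mulVec_zero]
  have hne1 : e ≠ 1 := fun h => hv0 (by rwa [h, Matrix.one_mulVec] at hev)
  have hne0 : e ≠ 0 := fun h => by
    have hx0 : x = 0 := by rw [← hxd, pow_succ, ← he, h, zero_mul]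
    exact ha1 (Subtype.ext (Units.ext (sub_eq_zero.1 hx0)))
  -- a minimal idempotent
  let rk : M → ℕ := fun f => finrank F (LinearMap.range (Matrix.toLin' f))
  set P := (Finset.univ : Finset M).filter fun f => f ∈ E ∧ f * f = f ∧ f ≠ 0 with hP
  have heP : e ∈ P := Finset.mem_filter.2 ⟨Finset.mem_univ _, E.pow_mem hxE _, hee, hne0⟩
  obtain ⟨e₀, he₀P, hmin⟩ := P.exists_min_image rk ⟨e, heP⟩
  obtain ⟨he₀E, he₀2, he₀0⟩ := (Finset.mem_filter.1 he₀P).2
  have hfix_range : ∀ {f : M}, f * f = f → ∀ {w}, w ∈ LinearMap.range (Matrix.toLin' f) → f *ᵥ w = w := by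
    rintro f hf _ ⟨u, rfl⟩
    rw [Matrix.toLin'_apply, Matrix.mulVec_mulVec, hf]
  have hrk : ∀ {f : M}, f * f = f → rk f = n → f = 1 := fun {f} hf h => by
    refine Matrix.toLin'.injective (LinearMap.ext fun w => ?_)
    have ht : LinearMap.range (Matrix.toLin' f) = ⊤ := Submodule.eq_top_of_finrank_eq (by rw [finrank_fin_fun]; exact h)
    rw [Matrix.toLin'_one, Matrix.toLin'_apply]
    exact hfix_range hf (ht ▸ Submodule.mem_top)
  have he₀1 : e₀ ≠ 1 := fun h => hne1 (hrk hee (by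
    have h1 := hmin e heP
    have h2 : rk e₀ = n := by
      show finrank F (LinearMap.range (Matrix.toLin' e₀)) = n
      rw [LinearMap.range_eq_top.2 (fun w => ⟨w, by rw [h, Matrix.toLin'_apply, Matrix.one_mulVec]⟩), finrank_top,
        finrank_fin_fun]
    have h3 : rk e ≤ n := (Submodule.finrank_le _).trans (le_of_eq (finrank_fin_fun F))
    omega))
  -- its orbit
  set O : Finset M := (Finset.univ.filter fun g : GL (Fin n) F => g ∈ G).image fun g => cj g e₀ with hO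
  have hOmem : ∀ {f}, f ∈ O ↔ ∃ g ∈ G, cj g e₀ = f := by simp [hO]
  have hrg : ∀ g : GL (Fin n) F, ∀ f : M, LinearMap.range (Matrix.toLin' (cj g f)) =
      (LinearMap.range (Matrix.toLin' f)).map (Matrix.toLin' (g : M)) := fun g f => by
    have hs : LinearMap.range (Matrix.toLin' ((g⁻¹ : GL (Fin n) F) : M)) = ⊤ :=
      LinearMap.range_eq_top.2 fun w => ⟨(g : M) *ᵥ w, by rw [Matrix.toLin'_apply, Matrix.mulVec_mulVec, Units.inv_mul,
        Matrix.one_mulVec]⟩
    rw [cj, Matrix.toLin'_mul, LinearMap.range_comp, hs, Submodule.map_top, Matrix.toLin'_mul, LinearMap.range_comp]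
  have hgi : ∀ g : GL (Fin n) F, Function.Injective (Matrix.toLin' (g : M)) := fun g u w h => by
    simpa [Matrix.mulVec_mulVec] using congrArg (fun z => ((g⁻¹ : GL (Fin n) F) : M) *ᵥ z) h
  have hOrk : ∀ f ∈ O, rk f = rk e₀ := fun f hf => by
    obtain ⟨g, -, rfl⟩ := hOmem.1 hf
    simp only [rk]
    rw [hrg, ← LinearEquiv.finrank_eq (Submodule.equivMapOfInjective _ (hgi g) _)]
  have hOP : ∀ f ∈ O, f ∈ E ∧ f * f = f := fun f hf => by
    obtain ⟨g, hg, rfl⟩ := hOmem.1 hf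
    exact ⟨hEg g hg _ he₀E, by rw [← cj_mul, he₀2]⟩
  have horth : ∀ f ∈ O, ∀ h ∈ O, f ≠ h → f * h = 0 := fun f hf h hh hne => by
    by_contra h0
    obtain ⟨hfE, hff⟩ := hOP f hf
    obtain ⟨hhE, hhh⟩ := hOP h hh
    have hc := hEc f hfE h hhE
    have hid : f * h * (f * h) = f * h := by
      rw [mul_assoc, ← mul_assoc h f, ← hc, mul_assoc f h h, hhh, ← mul_assoc, hff]
    have hm := hmin (f * h) (Finset.mem_filter.2 ⟨Finset.mem_univ _, E.mul_mem hfE hhE, hid, h0⟩)
    have absorb : ∀ u w : M, u * u = u → u * w = w * u → rk u = rk e₀ → rk e₀ ≤ rk (u * w) → w * w = w → u * w = u := by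
      intro u w hu huw hru hle hw
      have hsub : LinearMap.range (Matrix.toLin' (u * w)) ≤ LinearMap.range (Matrix.toLin' u) := by
        rw [Matrix.toLin'_mul]; exact LinearMap.range_comp_le_range _ _
      have heq := Submodule.eq_of_le_of_finrank_le hsub (by simpa [rk] using hru.le.trans hle)
      refine Matrix.toLin'.injective (LinearMap.ext fun z => ?_)
      have hz : u *ᵥ z ∈ LinearMap.range (Matrix.toLin' (u * w)) := by rw [heq]; exact ⟨z, rfl⟩
      have huw2 : u * w * (u * w) = u * w := by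
        rw [mul_assoc, ← mul_assoc w u, ← huw, mul_assoc u w w, hw, ← mul_assoc, hu]
      have h1 := hfix_range huw2 hz
      rw [Matrix.mulVec_mulVec, mul_assoc, ← huw, ← mul_assoc, hu] at h1
      rw [Matrix.toLin'_apply, Matrix.toLin'_apply]
      exact h1
    exact hne ((absorb f h hff hc (hOrk f hf) hm hhh).symm.trans
      (hc.trans (absorb h f hhh hc.symm (hOrk h hh) (hc ▸ hm) hff)))
  set s := ∑ f ∈ O, f with hs
  have hsf : ∀ f ∈ O, s * f = f := fun f hf => by
    rw [hs, Finset.sum_mul, Finset.sum_eq_single f (fun h hh hne => horth h hh f hf hne) (fun h => absurd hf h),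
      (hOP f hf).2]
  have he₀O : e₀ ∈ O := hOmem.2 ⟨1, one_mem G, cj_one e₀⟩
  have hss : s * s = s := by
    conv_lhs => arg 2; rw [hs]
    rw [Finset.mul_sum, Finset.sum_congr rfl hsf]
  have hOg : ∀ g ∈ G, ∀ f ∈ O, cj g f ∈ O := fun g hg f hf => by
    obtain ⟨k, hk, rfl⟩ := hOmem.1 hf
    exact hOmem.2 ⟨g * k, mul_mem hg hk, (cj_cj g k e₀).symm⟩
  have hsg : ∀ g ∈ G, cj g s = s := fun g hg => by
    have e1 : cj g s = ∑ f ∈ O, cj g f := by rw [hs, cj, Finset.mul_sum, Finset.sum_mul]; rfl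
    rw [e1, hs]
    exact Finset.sum_bij' (fun f _ => cj g f) (fun f _ => cj g⁻¹ f) (fun f hf => hOg g hg f hf)
      (fun f hf => hOg _ (inv_mem hg) f hf) (fun f _ => by rw [cj_cj, inv_mul_cancel, cj_one])
      (fun f _ => by rw [cj_cj, mul_inv_cancel, cj_one]) (fun f _ => rfl)
  have hs1 : s = 1 := by
    refine hrk hss ?_
    have ht := inv_top (LinearMap.range (Matrix.toLin' s)) (fun h => he₀0 (by
      have h' : Matrix.toLin' s = 0 := LinearMap.range_eq_bot.1 h
      rw [LinearEquiv.map_eq_zero_iff] at h'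
      rw [← hsf e₀ he₀O, h', zero_mul])) (by
      rintro g hg _ ⟨u, rfl⟩
      refine ⟨(g : M) *ᵥ u, ?_⟩
      rw [Matrix.toLin'_apply, Matrix.toLin'_apply, Matrix.mulVec_mulVec, Matrix.mulVec_mulVec]
      congr 1
      conv_lhs => rw [← hsg g hg]
      rw [cj, mul_assoc, Units.inv_mul, mul_one])
    simp only [rk]
    rw [ht, finrank_top, finrank_fin_fun]
  -- the decomposition
  have ht2 : 2 ≤ O.card := by
    by_contra h
    have hO1 : O = {e₀} := Finset.eq_singleton_iff_unique_mem.2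
      ⟨he₀O, fun f hf => Finset.card_le_one.1 (by omega) f hf e₀ he₀O⟩
    rw [hs, hO1, Finset.sum_singleton] at hs1
    exact he₀1 hs1
  let ι := O.equivFin.symm
  let D : Fin O.card → Submodule F (Fin n → F) := fun i => LinearMap.range (Matrix.toLin' (ι i : M))
  refine hprim (rk e₀) O.card D ht2 ⟨ht2, ?_, fun i => hOrk _ (ι i).2, ?_, ?_⟩ ?_
  · refine Nat.pos_of_ne_zero fun h => he₀0 ?_
    have h' : Matrix.toLin' e₀ = 0 := LinearMap.range_eq_bot.1 (Submodule.finrank_eq_zero.1 h)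
    exact (LinearEquiv.map_eq_zero_iff _).1 h'
  · intro i
    refine Submodule.disjoint_def.2 fun w hw hw' => ?_
    have hle : (⨆ j, ⨆ (_ : j ≠ i), D j) ≤ LinearMap.ker (Matrix.toLin' (ι i : M)) :=
      iSup₂_le fun j hj => by
        rintro _ ⟨u, rfl⟩
        rw [LinearMap.mem_ker, Matrix.toLin'_apply, Matrix.toLin'_apply, Matrix.mulVec_mulVec,
          horth _ (ι i).2 _ (ι j).2 (fun h => hj (ι.injective (Subtype.ext h)).symm), Matrix.zero_mulVec]
    have h1 := LinearMap.mem_ker.1 (hle hw')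
    rwa [Matrix.toLin'_apply, hfix_range (hOP _ (ι i).2).2 hw] at h1
  · refine eq_top_iff.2 fun w _ => ?_
    have hw : w = ∑ f ∈ O, f *ᵥ w := by
      conv_lhs => rw [← Matrix.one_mulVec w, ← hs1, hs, Matrix.sum_mulVec]
    rw [hw]
    refine Submodule.sum_mem _ fun f hf => Submodule.mem_iSup_of_mem (O.equivFin ⟨f, hf⟩) ⟨w, ?_⟩
    simp [ι]
  · intro g hg
    let σ : Equiv.Perm {f // f ∈ O} :=
      ⟨fun f => ⟨cj g f, hOg g hg f f.2⟩, fun f => ⟨cj g⁻¹ f, hOg _ (inv_mem hg) f f.2⟩,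
        fun f => Subtype.ext (by simp [cj_cj, cj_one]), fun f => Subtype.ext (by simp [cj_cj, cj_one])⟩
    refine ⟨(ι.trans σ).trans ι.symm, fun i => ?_⟩
    simp only [D, Equiv.trans_apply, Equiv.apply_symm_apply]
    exact (hrg g _).symm

theorem exists_maximal_subgroup {Γ : Type*} [Group Γ] [Finite Γ] (P : Subgroup Γ → Prop) (h : ∃ H, P H) :
    ∃ H, P H ∧ ∀ K, P K → H ≤ K → K = H := by
  obtain ⟨H, hH⟩ := (Set.toFinite {H | P H}).exists_maximal h
  exact ⟨H, hH.1, fun K hK hle => le_antisymm (hH.2 hK hle) hle⟩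

theorem exists_minimal_subgroup {Γ : Type*} [Group Γ] [Finite Γ] (P : Subgroup Γ → Prop) (h : ∃ H, P H) :
    ∃ H, P H ∧ ∀ K, P K → K ≤ H → K = H := by
  obtain ⟨H, hH⟩ := (Set.toFinite {H | P H}).exists_minimal h
  exact ⟨H, hH.1, fun K hK hle => le_antisymm hle (hH.2 hK hle)⟩

/-- Fixed-point spaces in primitive soluble linear groups. Let F be a finite field and G a soluble subgroup of GL_n(F) that acts irreducibly on F^n and primitively (G preserves no decomposition of F^n into two or more independent subspaces of equal dimension). Then every non-identity element g of G has fixed-point space {v : g v = v} of dimension at most 3n/4. -/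
theorem result {F : Type*} [Field F] [Fintype F] {n : ℕ} (G : Subgroup (Matrix.GeneralLinearGroup (Fin n) F)) (hsol : IsSolvable G) (hirr : Cfsg.Geo.ActsIrreducibly (Cfsg.Geo.matrixSet G)) (hprim : ∀ (m t : ℕ) (D : Fin t → Submodule F (Fin n → F)), 2 ≤ t → Cfsg.Geo.IsMDecomposition m D → ¬ G ≤ Cfsg.Geo.decompositionStabilizer D) (g : Matrix.GeneralLinearGroup (Fin n) F) (hg : g ∈ G) (hg1 : g ≠ 1) :
    4 * Module.finrank F (Module.End.eigenspace (Matrix.toLin' (g : Matrix (Fin n) (Fin n) F)) 1) ≤ 3 * n := by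
  classical
  haveI : Finite G := inferInstance
  haveI : Group.IsSolvable G := hsol
  let PA : Subgroup G → Prop := fun A => A.Normal ∧ ∀ a ∈ A, ∀ b ∈ A, a * b = b * a
  obtain ⟨A, hAP, hAmax⟩ := exists_maximal_subgroup PA ⟨⊥, inferInstance, fun a ha b hb => by
    rw [Subgroup.mem_bot.1 ha, Subgroup.mem_bot.1 hb]⟩
  obtain ⟨hAn, hAc⟩ := hAP
  let PN : Subgroup G → Prop := fun N => N.Normal ∧ A ≤ N ∧ N ≤ Subgroup.centralizer (A : Set G) ∧
    ∀ x ∈ N, ∀ y ∈ N, x * y * x⁻¹ * y⁻¹ ∈ A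
  obtain ⟨N, hNP, hNmax⟩ := exists_maximal_subgroup PN ⟨A, hAn, le_rfl, fun x hx => Subgroup.mem_centralizer_iff.2
    fun y hy => hAc y hy x hx, fun x hx y hy => mul_mem (mul_mem (mul_mem hx hy) (inv_mem hx)) (inv_mem hy)⟩
  obtain ⟨hNn, hAN, hNC, hNcomm⟩ := hNP
  -- the centre of `N` is `A`
  have hZ : ∀ z ∈ N, (∀ y ∈ N, z * y = y * z) → z ∈ A := by
    intro z hz hzc
    have hle : A ≤ N ⊓ Subgroup.centralizer (N : Set G) := fun x hx => ⟨hAN hx, Subgroup.mem_centralizer_iff.2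
      fun y hy => ((Subgroup.mem_centralizer_iff.1 (hNC hy)) x hx).symm⟩
    have hPA : PA (N ⊓ Subgroup.centralizer (N : Set G)) :=
      ⟨inferInstance, fun x hx y hy => (Subgroup.mem_centralizer_iff.1 hy.2) x hx.1⟩
    rw [← hAmax _ hPA hle]
    exact ⟨hz, Subgroup.mem_centralizer_iff.2 fun y hy => (hzc y hy).symm⟩
  -- the centraliser of `N` is inside `A`
  have hCN : Subgroup.centralizer (N : Set G) ≤ A := by
    by_contra hcon
    obtain ⟨B, hBP, hBmin⟩ := exists_minimal_subgroup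
      (fun B : Subgroup G => B.Normal ∧ B ≤ Subgroup.centralizer (N : Set G) ∧ ¬ B ≤ A) ⟨_, inferInstance, le_rfl, hcon⟩
    obtain ⟨hBn, hBC, hBA⟩ := hBP
    have hB1 : B ≠ ⊥ := fun h => hBA (h ▸ bot_le)
    have hlt := Group.IsSolvable.commutator_lt_of_ne_bot hB1
    have hBB : ⁅B, B⁆ ≤ A := by
      by_contra h
      exact hlt.ne (hBmin _ ⟨inferInstance, hlt.le.trans hBC, h⟩ hlt.le)
    have hle : N ⊔ B = N := by
      refine hNmax _ ⟨Subgroup.sup_normal N B, hAN.trans le_sup_left, sup_le hNC fun b hb =>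
        Subgroup.centralizer_le (fun y hy => hAN hy) (hBC hb), fun x hx y hy => ?_⟩ le_sup_left
      obtain ⟨m, hm, b, hb, rfl⟩ := Subgroup.mem_sup_of_normal_right.1 hx
      obtain ⟨m', hm', b', hb', rfl⟩ := Subgroup.mem_sup_of_normal_right.1 hy
      have c : ∀ {u v : G}, u ∈ N → v ∈ B → Commute u v := fun hu hv => Subgroup.mem_centralizer_iff.1 (hBC hv) _ hu
      have e : m * b * (m' * b') * (m * b)⁻¹ * (m' * b')⁻¹ = (m * m' * m⁻¹ * m'⁻¹) * (b * b' * b⁻¹ * b'⁻¹) := by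
        rw [mul_inv_rev, mul_inv_rev]
        have c1 : b * m' = m' * b := (c hm' hb).symm.eq
        have c2 : b' * b⁻¹ * m⁻¹ = m⁻¹ * (b' * b⁻¹) := ((c (inv_mem hm) (mul_mem hb' (inv_mem hb))).symm).eq
        have c3 : (b * b' * b⁻¹ * b'⁻¹) * m'⁻¹ = m'⁻¹ * (b * b' * b⁻¹ * b'⁻¹) :=
          ((c (inv_mem hm') (mul_mem (mul_mem (mul_mem hb hb') (inv_mem hb)) (inv_mem hb'))).symm).eq
        have c4 : b * m⁻¹ = m⁻¹ * b := ((c (inv_mem hm) hb).symm).eq
        calc m * b * (m' * b') * (b⁻¹ * m⁻¹) * (b'⁻¹ * m'⁻¹)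
            = m * (b * m') * (b' * b⁻¹ * m⁻¹) * (b'⁻¹ * m'⁻¹) := by group
          _ = m * (m' * b) * (m⁻¹ * (b' * b⁻¹)) * (b'⁻¹ * m'⁻¹) := by rw [c1, c2]
          _ = m * m' * (b * m⁻¹) * (b' * b⁻¹) * b'⁻¹ * m'⁻¹ := by group
          _ = m * m' * (m⁻¹ * b) * (b' * b⁻¹) * b'⁻¹ * m'⁻¹ := by rw [c4]
          _ = m * m' * m⁻¹ * ((b * b' * b⁻¹ * b'⁻¹) * m'⁻¹) := by group
          _ = m * m' * m⁻¹ * (m'⁻¹ * (b * b' * b⁻¹ * b'⁻¹)) := by rw [c3]
          _ = (m * m' * m⁻¹ * m'⁻¹) * (b * b' * b⁻¹ * b'⁻¹) := by group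
      rw [e]
      exact mul_mem (hNcomm m hm m' hm') (hBB (Subgroup.commutator_mem_commutator hb hb'))
    exact hBA fun b hb => hZ b (hle ▸ le_sup_right (a := N) hb) fun y hy =>
      ((Subgroup.mem_centralizer_iff.1 (hBC hb)) y hy).symm
  -- bounds on fixed spaces
  have hA0 : ∀ a ∈ A, a ≠ 1 → finrank F (fix ((a : GL (Fin n) F) : Matrix (Fin n) (Fin n) F)) = 0 := fun a ha ha1 => by
    rw [fix_eq_bot G hirr hprim hAn hAc ha ha1, finrank_bot]
  have comm_bound : ∀ (x : G), ∀ (h : G),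
      2 * finrank F (fix ((x : GL (Fin n) F) : Matrix (Fin n) (Fin n) F)) ≤
        n + finrank F (fix (((x * h * x⁻¹ * h⁻¹ : G) : GL (Fin n) F) : Matrix (Fin n) (Fin n) F)) := fun x h => by
    simpa only [Subgroup.coe_mul, Subgroup.coe_inv] using fix_commutator (x : GL (Fin n) F) (h : GL (Fin n) F)
  have half : ∀ x : G, (∃ h, x * h * x⁻¹ * h⁻¹ ∈ A ∧ x * h * x⁻¹ * h⁻¹ ≠ 1) →
      2 * finrank F (fix ((x : GL (Fin n) F) : Matrix (Fin n) (Fin n) F)) ≤ n := by
    rintro x ⟨h, hh, hh1⟩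
    have := comm_bound x h
    rw [hA0 _ hh hh1] at this
    omega
  have hsplit : ∀ {x h : G}, x * h * x⁻¹ * h⁻¹ = 1 ↔ x * h = h * x := fun {x h} => by
    rw [mul_inv_eq_one, mul_inv_eq_iff_eq_mul]
  let γ : G := ⟨g, hg⟩
  have hγ1 : γ ≠ 1 := fun h => hg1 (congrArg Subtype.val h)
  show 4 * finrank F (fix ((γ : GL (Fin n) F) : Matrix (Fin n) (Fin n) F)) ≤ 3 * n
  by_cases hγC : γ ∈ Subgroup.centralizer (A : Set G)
  swap
  · rw [Subgroup.mem_centralizer_iff] at hγC
    push Not at hγC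
    obtain ⟨a, ha, hne⟩ := hγC
    have := half γ ⟨a, mul_mem (hAn.conj_mem a ha γ) (inv_mem ha), fun h => hne (hsplit.1 h).symm⟩
    omega
  by_cases hγA : γ ∈ A
  · rw [hA0 γ hγA hγ1]; omega
  obtain ⟨h, hh, hne⟩ : ∃ h ∈ N, γ * h ≠ h * γ := by
    by_contra hcon
    push Not at hcon
    exact hγA (hCN (Subgroup.mem_centralizer_iff.2 fun y hy => (hcon y hy).symm))
  set c := γ * h * γ⁻¹ * h⁻¹ with hc
  have hcN : c ∈ N := mul_mem (hNn.conj_mem h hh γ) (inv_mem hh)
  have hc1 : c ≠ 1 := fun e => hne (hsplit.1 e)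
  by_cases hcA : c ∈ A
  · have := half γ ⟨h, hcA, hc1⟩
    omega
  obtain ⟨y, hy, hne'⟩ : ∃ y ∈ N, c * y ≠ y * c := by
    by_contra hcon
    push Not at hcon
    exact hcA (hZ c hcN hcon)
  have h1 := half c ⟨y, hNcomm c hcN y hy, fun e => hne' (hsplit.1 e)⟩
  have h2 := comm_bound γ h
  rw [← hc] at h2
  omega

end Cfsg.Agent.S5876
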