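import Cfsg.Statements.S5877
import Cfsg.Agent.Lib.ExtraEigen.Ram

set_option autoImplicit false
open Cfsg
open Cfsg.Agent.ExtraEigen
open scoped commutatorElement

namespace Cfsg.Agent.S5877

/-- Eigenspaces of elements normalising an absolutely irreducible extraspecial group. Let F be a finite field, r a prime, and R ≤ GL_n(F) an absolutely irreducible extraspecial r-group (an r-group whose centre equals its derived subgroup and has order r) of exponent r or 4. Let g ∈ GL_n(F) normalise the product of R with the scalar matrices, have prime order ϖ and not be scalar, and let W be the eigenspace of g for any c ∈ F (W may be the zero subspace). Then dim W ≤ 3n/4 if ϖ = 2, dim W ≤ 2n/3 if ϖ = 3, and dim W ≤ n/2 if ϖ > 3; moreover if ϖ = 3 and 3 does not divide n then dim W ≤ n/2. -/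
theorem result {F : Type*} [Field F] [Fintype F] {n r ϖ : ℕ} (R : Subgroup (Matrix.GeneralLinearGroup (Fin n) F)) (hr : r.Prime) (hR : IsPGroup r R) (hZ : Nat.card (Subgroup.center R) = r) (hext : commutator R = Subgroup.center R) (hexp : Monoid.exponent R = r ∨ Monoid.exponent R = 4) (hirr : Cfsg.Geo.ActsAbsolutelyIrreducibly (Cfsg.Geo.matrixSet R)) (g : Matrix.GeneralLinearGroup (Fin n) F) (hg : g ∈ Cfsg.Geo.subgroupNormalizer (R ⊔ Cfsg.Geo.scalars (Fin n) F)) (hϖ : ϖ.Prime) (hord : orderOf g = ϖ) (hns : g ∉ Cfsg.Geo.scalars (Fin n) F) (c : F) :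
    (ϖ = 2 → 4 * Module.finrank F (Module.End.eigenspace (Matrix.toLin' (g : Matrix (Fin n) (Fin n) F)) c) ≤ 3 * n) ∧
    (ϖ = 3 → 3 * Module.finrank F (Module.End.eigenspace (Matrix.toLin' (g : Matrix (Fin n) (Fin n) F)) c) ≤ 2 * n) ∧
    (3 < ϖ → 2 * Module.finrank F (Module.End.eigenspace (Matrix.toLin' (g : Matrix (Fin n) (Fin n) F)) c) ≤ n) ∧
    (ϖ = 3 → ¬ 3 ∣ n → 2 * Module.finrank F (Module.End.eigenspace (Matrix.toLin' (g : Matrix (Fin n) (Fin n) F)) c) ≤ n) := by
  classical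
  haveI := Fact.mk hr
  set S := R ⊔ Cfsg.Geo.scalars (Fin n) F with hS
  have hcentr : ∀ a : Matrix.GeneralLinearGroup (Fin n) F, (∀ u ∈ R, ⁅a, u⁆ = 1) →
      a ∈ Cfsg.Geo.scalars (Fin n) F := by
    intro a ha
    obtain ⟨w, hw⟩ := hirr.2 (a : Matrix (Fin n) (Fin n) F) (by
      rintro _ ⟨u, hu, rfl⟩
      show (a : Matrix (Fin n) (Fin n) F) * (u : Matrix (Fin n) (Fin n) F) = (u : Matrix (Fin n) (Fin n) F) * a
      rw [← Units.val_mul, ← Units.val_mul, commutatorElement_eq_one_iff_mul_comm.mp (ha u hu)])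
    exact mem_scalars_of_smul hw
  have hcR : ∀ a ∈ R, ∀ b ∈ R, ⁅a, b⁆ ∈ Cfsg.Geo.scalars (Fin n) F ∧ ⁅a, b⁆ ^ r = 1 := by
    intro a ha b hb
    have hm : ⁅(⟨a, ha⟩ : R), ⟨b, hb⟩⁆ ∈ Subgroup.center R :=
      hext ▸ Subgroup.commutator_mem_commutator (Subgroup.mem_top _) (Subgroup.mem_top _)
    constructor
    · refine hcentr _ fun u hu => ?_
      rw [commutatorElement_eq_one_iff_mul_comm]
      exact (congrArg Subtype.val (Subgroup.mem_center_iff.mp hm ⟨u, hu⟩)).symm
    · have h := pow_card_eq_one' (G := Subgroup.center R) (x := ⟨_, hm⟩)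
      rw [hZ] at h
      exact congrArg (fun z : Subgroup.center R => ((z : R) : Matrix.GeneralLinearGroup (Fin n) F)) h
  have hsplit : ∀ a ∈ S, ∃ b ∈ R, ∃ z ∈ Cfsg.Geo.scalars (Fin n) F, a = b * z := by
    intro a ha
    obtain ⟨b, hb, z, hz, e⟩ := Subgroup.mem_sup_of_normal_right.mp ha
    exact ⟨b, hb, z, hz, e.symm⟩
  have hcS : ∀ a ∈ S, ∀ b ∈ S, ⁅a, b⁆ ∈ Cfsg.Geo.scalars (Fin n) F ∧ ⁅a, b⁆ ^ r = 1 := by
    intro a ha b hb
    obtain ⟨a', ha', z, hz, rfl⟩ := hsplit a ha
    obtain ⟨b', hb', z', hz', rfl⟩ := hsplit b hb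
    have e : ⁅a' * z, b' * z'⁆ = ⁅a', b'⁆ := by
      rw [comm_mul_scalar hz', ← commutatorElement_inv, comm_mul_scalar hz, commutatorElement_inv]
    rw [e]
    exact hcR a' ha' b' hb'
  have D : Datum R r S :=
    { prime := hr
      scal_le := le_sup_right
      le_S := le_sup_left
      split := hsplit
      comm_mem := fun a ha b hb => (hcS a ha b hb).1
      comm_pow := fun a ha b hb => (hcS a ha b hb).2
      nondeg := fun a _ h => hcentr a fun u hu => by rw [← commutatorElement_inv, h u hu, inv_one]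
      centr := hcentr
      expo := fun hr2 a ha => by
        rcases hexp with he | he
        · have := Monoid.pow_exponent_eq_one (⟨a, ha⟩ : R)
          rw [he] at this
          exact congrArg Subtype.val this
        · haveI : Finite (Matrix.GeneralLinearGroup (Fin n) F) := Finite.of_injective _ Units.val_injective
          obtain ⟨k, hk⟩ := IsPGroup.iff_card.mp hR
          have h4 : 4 ∣ r ^ k := hk ▸ he ▸ Group.exponent_dvd_nat_card
          have h2 : 2 ∣ r := Nat.prime_two.dvd_of_dvd_pow ((show 2 ∣ 4 by norm_num).trans h4)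
          exact absurd ((Nat.prime_dvd_prime_iff_eq Nat.prime_two hr).mp h2).symm hr2 }
  have hne : ∃ a ∈ S, a ∉ Cfsg.Geo.scalars (Fin n) F := by
    by_contra hc
    push Not at hc
    have hb : commutator R = ⊥ := by
      rw [_root_.commutator_def, Subgroup.commutator_eq_bot_iff_le_centralizer]
      intro a _
      rw [Subgroup.mem_centralizer_iff]
      intro b _
      exact Subtype.ext (scalar_comm (hc a (D.le_S a.2)) b).symm
    rw [← hext, hb, Subgroup.card_bot] at hZ
    exact hr.ne_one hZ.symm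
  have hgS : ∀ a ∈ S, g * a * g⁻¹ ∈ S := fun a ha => (Subgroup.mem_normalizer_iff.mp hg a).mp ha
  have hgk : g ^ ϖ = 1 := hord ▸ pow_orderOf_eq_one g
  set d := Module.finrank F (Module.End.eigenspace (Matrix.toLin' (g : Matrix (Fin n) (Fin n) F)) c) with hd
  rcases eq_or_ne c 0 with rfl | hc
  · have h0 : d = 0 := eig_zero g
    rw [h0]
    omega
  by_cases hA : ∀ x ∈ S, ⁅g, x⁆ ∈ Cfsg.Geo.scalars (Fin n) F
  · obtain ⟨u, hu, hne1⟩ : ∃ u ∈ R, ⁅g, u⁆ ≠ 1 := by
      by_contra hc'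
      push Not at hc'
      exact hns (hcentr g hc')
    have hm := hA u (D.le_S hu)
    have hzk : ⁅g, u⁆ ^ ϖ = 1 := by rw [← comm_pow_left hm, hgk, commutatorElement_one_left]
    have h : ϖ * d ≤ n := shift_bound hϖ (inv_mem hm) (inv_ne_one.mpr hne1) (by rw [inv_pow, hzk, inv_one])
      (u := u) (y := g) (by rw [commutatorElement_def]; group) c
    refine ⟨?_, ?_, ?_, ?_⟩ <;> intros <;> nlinarith
  push Not at hA
  obtain ⟨x, hx, hy⟩ := hA
  have hmeet : r * (2 * d) ≤ r * n + n := D.two_mul_le hgS hx hy hc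
  have h2r := hr.two_le
  have hodd : ϖ ≠ 2 → ϖ ≠ r → 2 * d ≤ n := by
    intro h2 hne'
    by_cases hall : ∀ z ∈ S, ⁅⁅g, z⁆, ⁅g ^ 2, z⁆⁆ = 1
    · exact absurd (D.exists_noncomm_or hgS hϖ h2 hne' hgk hall x hx) hy
    push Not at hall
    obtain ⟨z, hz, hz1⟩ := hall
    have m1 : ⁅g, z⁆ ∈ S := by
      rw [commutatorElement_def]; exact S.mul_mem (hgS z hz) (S.inv_mem hz)
    have m2 : ⁅g ^ 2, z⁆ ∈ S := by
      rw [show ⁅g ^ 2, z⁆ = g * (g * z * g⁻¹) * g⁻¹ * z⁻¹ by rw [commutatorElement_def, pow_two]; group]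
      exact S.mul_mem (hgS _ (hgS z hz)) (S.inv_mem hz)
    refine two_mul_le_of_noncomm (x := z) hc 1 2 ?_ ?_
    · rw [pow_one]; exact D.comm_mem _ m1 _ m2
    · rwa [pow_one]
  refine ⟨fun _ => ?_, fun h3 => ?_, fun h3 => ?_, fun h3 hn3 => ?_⟩
  · nlinarith
  · rcases eq_or_ne r 3 with rfl | hr3
    · omega
    · have := hodd (by omega) (by omega)
      omega
  · rcases eq_or_ne ϖ r with rfl | hne'
    · have h5 : 5 ≤ ϖ := by
        rcases Nat.lt_or_ge ϖ 5 with h | h
        · have h4 : ϖ = 4 := by omega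
          subst h4; norm_num at hϖ
        · exact h
      haveI : Finite F := Finite.of_fintype F
      exact D.ram_bound hgS hgk h5 ⟨x, hx, hy⟩ c
    · exact hodd (by omega) hne'
  · rcases eq_or_ne ϖ r with rfl | hne'
    · exact absurd (h3 ▸ D.dvd hne) hn3
    · exact hodd (by omega) hne' 

end Cfsg.Agent.S5877
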