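import Cfsg.Statements.S5885
import Mathlib.GroupTheory.GroupAction.Primitive
import Mathlib.GroupTheory.SpecificGroups.Alternating

set_option autoImplicit false
open Cfsg

namespace Cfsg.Agent.S5885

open MulAction in
theorem exists_three_cycle {G X : Type*} [Group G] [MulAction G X] [Fintype X] [DecidableEq X]
    (hA : alternatingGroup X ≤ (MulAction.toPermHom G X).range) {b c d : X} (hbc : b ≠ c) (hcd : c ≠ d)
    (hbd : b ≠ d) : ∃ g : G, g • b = c ∧ g • c = d ∧ g • d = b ∧ ∀ x, x ≠ b → x ≠ c → x ≠ d → g • x = x := by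
  have hev : Equiv.swap b c * Equiv.swap c d ∈ alternatingGroup X := by
    rw [Equiv.Perm.mem_alternatingGroup, map_mul, Equiv.Perm.sign_swap hbc, Equiv.Perm.sign_swap hcd]
    rfl
  obtain ⟨g, hg⟩ := hA hev
  have hgx : ∀ x, g • x = Equiv.swap b c (Equiv.swap c d x) := fun x => by
    rw [← Equiv.Perm.mul_apply, ← hg]
    rfl
  refine ⟨g, ?_, ?_, ?_, fun x h1 h2 h3 => ?_⟩
  · rw [hgx, Equiv.swap_apply_of_ne_of_ne hbc hbd, Equiv.swap_apply_left]
  · rw [hgx, Equiv.swap_apply_left, Equiv.swap_apply_of_ne_of_ne hbd.symm hcd.symm]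
  · rw [hgx, Equiv.swap_apply_right, Equiv.swap_apply_right]
  · rw [hgx, Equiv.swap_apply_of_ne_of_ne h2 h3, Equiv.swap_apply_of_ne_of_ne h1 h2]

open MulAction Pointwise in
theorem second_maximal {G X : Type*} [Group G] [MulAction G X] [Fintype X] [DecidableEq X]
    (hodd : Odd (Fintype.card X)) (hA : alternatingGroup X ≤ (MulAction.toPermHom G X).range)
    [IsPretransitive G X] (a : X) (H : Subgroup G) (hHM : H ≤ stabilizer G a)
    (hmax : IsCoatom (H.subgroupOf (stabilizer G a))) (K : Subgroup G) (hK : IsCoatom K) (hHK : H ≤ K)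
    (hKM : ∀ k ∈ K, k • a = a → k ∈ H) (L : Subgroup G) (hHL : H ≤ L) (hLK : L ≤ K) (hLM : ¬ L ≤ stabilizer G a) :
    K ≤ L := by
  classical
  obtain ⟨l, hl, hla⟩ := SetLike.not_le_iff_exists.mp hLM
  set b := l • a with hb
  have hba : b ≠ a := fun e => hla (mem_stabilizer_iff.mpr e)
  set B : Set X := {x | ∃ u ∈ L, u • a = x} with hBdef
  have haB : a ∈ B := ⟨1, L.one_mem, one_smul _ _⟩
  have hbB : b ∈ B := ⟨l, hl, rfl⟩
  have hblock : ∀ j ∈ K, ∀ x ∈ B, j • x ∈ B → j ∈ L := by
    rintro j hj x ⟨u, hu, rfl⟩ ⟨w, hw, hwe⟩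
    have h1 : w⁻¹ * j * u ∈ H := hKM _ (K.mul_mem (K.mul_mem (K.inv_mem (hLK hw)) hj) (hLK hu)) (by
      rw [mul_smul, mul_smul, ← hwe, inv_smul_smul])
    have h2 := L.mul_mem (L.mul_mem hw (hHL h1)) (L.inv_mem hu)
    simpa [mul_assoc] using h2
  have hLB : ∀ j ∈ L, ∀ x ∈ B, j • x ∈ B := by
    rintro j hj x ⟨u, hu, rfl⟩
    exact ⟨j * u, L.mul_mem hj hu, mul_smul _ _ _⟩
  intro k hk
  by_contra hkL
  set c := k • a with hc
  set d := k • b with hd
  have hcB : c ∉ B := fun h => hkL (hblock k hk a haB h)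
  have hdB : d ∉ B := fun h => hkL (hblock k hk b hbB h)
  have hcd : c ≠ d := fun e => hba (MulAction.injective k e).symm
  have hbc : b ≠ c := fun e => hcB (e ▸ hbB)
  have hbd : b ≠ d := fun e => hdB (e ▸ hbB)
  have hac : a ≠ c := fun e => hcB (e ▸ haB)
  have had : a ≠ d := fun e => hdB (e ▸ haB)
  set O : Set X := {x | ∃ u ∈ K, u • a = x} with hOdef
  have hBO : B ⊆ O := fun x ⟨u, hu, e⟩ => ⟨u, hLK hu, e⟩
  by_cases hO : O = Set.univ
  · -- the blocks cannot form a two-block system
    by_cases hex : ∃ e : X, e ∉ B ∧ ∀ w ∈ B, k • w ≠ e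
    · obtain ⟨e, heB, hek⟩ := hex
      obtain ⟨k', hk', hke⟩ : e ∈ O := hO ▸ Set.mem_univ e
      set f := k' • b with hf
      have hfe : f ≠ e := fun h => hba (MulAction.injective k' (h.trans hke.symm))
      have hfB : f ∉ B := fun h => heB (by
        rw [← hke]; exact hLB k' (hblock k' hk' b hbB h) a haB)
      have hfk : ∀ w ∈ B, k • w ≠ f := fun w hw h => by
        have hj : (k⁻¹ * k') • b = w := by rw [mul_smul, ← hf, ← h, inv_smul_smul]
        have hjL := hblock (k⁻¹ * k') (K.mul_mem (K.inv_mem hk) hk') b hbB (by rw [hj]; exact hw)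
        exact hek ((k⁻¹ * k') • a) (hLB _ hjL a haB) (by rw [smul_smul, mul_inv_cancel_left, hke])
      obtain ⟨g, gc, -, -, gfix⟩ := exists_three_cycle hA (b := c) (c := e) (d := f)
        (hek a haB) hfe.symm (hfk a haB)
      have gB : ∀ x ∈ B, g • x = x := fun x hx =>
        gfix x (fun h => hcB (h ▸ hx)) (fun h => heB (h ▸ hx)) (fun h => hfB (h ▸ hx))
      -- the stabiliser of the point and of the block is `H`
      have hgH : g ∈ H := by
        set S := stabilizer G a ⊓ stabilizer G B
        have hle : H.subgroupOf (stabilizer G a) ≤ S.subgroupOf (stabilizer G a) := fun u hu => by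
          refine ⟨u.2, mem_stabilizer_iff.mpr ?_⟩
          ext x
          constructor
          · rintro ⟨w, hw, rfl⟩
            exact hLB _ (hHL hu) w hw
          · intro hx
            exact ⟨(u : G)⁻¹ • x, hLB _ (L.inv_mem (hHL hu)) x hx, smul_inv_smul _ _⟩
        have hgS : g ∈ S := ⟨gB a haB, mem_stabilizer_iff.mpr (Set.ext fun x =>
          ⟨fun ⟨w, hw, e'⟩ => by rw [← e']; show g • w ∈ B; rw [gB w hw]; exact hw,
           fun hx => ⟨x, hx, gB x hx⟩⟩)⟩
        rcases hle.eq_or_lt with heq | hlt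
        · exact (SetLike.ext_iff.mp heq ⟨g, gB a haB⟩).mpr hgS
        · exfalso
          have htop := hmax.2 _ hlt
          obtain ⟨g', g1, -, -, gfix'⟩ := exists_three_cycle hA (b := b) (c := c) (d := d) hbc hcd hbd
          have hg' : (⟨g', gfix' a hba.symm hac had⟩ : stabilizer G a) ∈ S.subgroupOf (stabilizer G a) :=
            htop ▸ Subgroup.mem_top _
          have h1 : g' • b ∈ g' • B := ⟨b, hbB, rfl⟩
          have h2 : g' • B = B := mem_stabilizer_iff.mp hg'.2
          rw [h2, g1] at h1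
          exact hcB h1
      have gd : g • d = d := gfix d hcd.symm (hek b hbB) (hfk b hbB)
      have hj : (k⁻¹ * g * k) • b = b := by
        rw [mul_smul, mul_smul, ← hd, gd, hd, inv_smul_smul]
      have hjL := hblock (k⁻¹ * g * k) (K.mul_mem (K.mul_mem (K.inv_mem hk) (hHK hgH)) hk) b hbB
        (by rw [hj]; exact hbB)
      refine hek ((k⁻¹ * g * k) • a) (hLB _ hjL a haB) ?_
      rw [mul_smul, mul_smul, ← hc, gc, smul_inv_smul]
    · push Not at hex
      have hcov : (Finset.univ : Finset X) = B.toFinset ∪ B.toFinset.image (k • ·) := by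
        ext e
        simp only [Finset.mem_univ, Finset.mem_union, Set.mem_toFinset, Finset.mem_image, true_iff]
        exact (Classical.em (e ∈ B)).imp id fun h => hex e h
      have hdisj : Disjoint B.toFinset (B.toFinset.image (k • ·)) := by
        rw [Finset.disjoint_left]
        intro x hx hx'
        simp only [Set.mem_toFinset, Finset.mem_image] at hx hx'
        obtain ⟨w, hw, e⟩ := hx'
        exact hkL (hblock k hk w hw (e ▸ hx))
      have := congrArg Finset.card hcov
      rw [Finset.card_univ, Finset.card_union_of_disjoint hdisj,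
        Finset.card_image_of_injective _ (MulAction.injective k)] at this
      obtain ⟨r, hr⟩ := hodd
      omega
  · -- the maximal subgroup is the setwise stabiliser of its orbit
    have hKO : stabilizer G O = K := by
      have hle : K ≤ stabilizer G O := fun u hu => by
        rw [mem_stabilizer_iff]
        ext x
        constructor
        · rintro ⟨_, ⟨w, hw, rfl⟩, rfl⟩
          exact ⟨u * w, K.mul_mem hu hw, mul_smul _ _ _⟩
        · rintro ⟨w, hw, rfl⟩
          exact ⟨(u⁻¹ * w) • a, ⟨_, K.mul_mem (K.inv_mem hu) hw, rfl⟩,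
            show u • (u⁻¹ * w) • a = w • a by rw [smul_smul, mul_inv_cancel_left]⟩
      rcases hle.eq_or_lt with h | h
      · exact h.symm
      · exfalso
        have htop := hK.2 _ h
        refine hO (Set.eq_univ_iff_forall.mpr fun x => ?_)
        obtain ⟨u, rfl⟩ := exists_smul_eq G a x
        have hu : u • O = O := mem_stabilizer_iff.mp (htop ▸ Subgroup.mem_top u)
        rw [← hu]
        exact ⟨a, ⟨1, K.one_mem, one_smul _ _⟩, rfl⟩
    obtain ⟨g, gb, gc', gd', gfix⟩ := exists_three_cycle hA hbc hcd hbd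
    have hbO : b ∈ O := hBO hbB
    have hcO : c ∈ O := ⟨k, hk, rfl⟩
    have hdO : d ∈ O := ⟨k * l, K.mul_mem hk (hLK hl), mul_smul _ _ _⟩
    have hgO : g • O = O := by
      have hmap : ∀ x ∈ O, g • x ∈ O := fun x hx => by
        by_cases h1 : x = b
        · rw [h1, gb]; exact hcO
        by_cases h2 : x = c
        · rw [h2, gc']; exact hdO
        by_cases h3 : x = d
        · rw [h3, gd']; exact hbO
        rw [gfix x h1 h2 h3]; exact hx
      refine Set.eq_of_subset_of_ncard_le (fun x hx => ?_) ?_ (Set.toFinite _)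
      · obtain ⟨w, hw, rfl⟩ := hx; exact hmap w hw
      · show O.ncard ≤ ((fun x => g • x) '' O).ncard
        rw [Set.ncard_image_of_injective _ (MulAction.injective g)]
    have hgK : g ∈ K := hKO ▸ mem_stabilizer_iff.mpr hgO
    have hgL : g ∈ L := hHL (hKM g hgK (gfix a hba.symm hac had))
    exact hcB (gb ▸ hLB g hgL b hbB)

/-- Let n be an odd positive integer such that every primitive permutation group of degree n contains the alternating group (so the symmetric and alternating groups are the only primitive groups of degree n). Let G be a finite group, M a maximal subgroup of G of index n, and H a maximal subgroup of M. Then H is a second maximal subgroup of G: H is maximal in every maximal subgroup K of G containing H. -/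
theorem result {G : Type*} [Group G]
    [Finite G] (n : ℕ) (hodd : Odd n)
    (hA : ∀ P : Subgroup (Equiv.Perm (Fin n)), MulAction.IsPreprimitive P (Fin n) → alternatingGroup (Fin n) ≤ P)
    (M : Subgroup G) (hM : IsCoatom M) (hn : M.index = n) (H : Subgroup G) (hHM : H ≤ M)
    (hmax : IsCoatom (H.subgroupOf M)) (K : Subgroup G) (hK : IsCoatom K) (hHK : H ≤ K) :
    IsCoatom (H.subgroupOf K) := by
  classical
  have hMn : (M : Subgroup G) ≠ ⊤ := hM.1
  by_cases hKM : K = M
  · subst hKM; exact hmax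
  have hlt : K ⊓ M ≠ M := fun e => hKM ((hM.le_iff.mp (inf_eq_right.mp e)).resolve_left hK.1)
  have hH : ∀ k ∈ K, k ∈ M → k ∈ H := by
    have hle : H.subgroupOf M ≤ (K ⊓ M).subgroupOf M := by
      intro u hu
      exact Subgroup.mem_subgroupOf.mpr (Subgroup.mem_inf.mpr ⟨hHK (Subgroup.mem_subgroupOf.mp hu), u.2⟩)
    rcases hle.eq_or_lt with heq | hlt'
    · intro k hk hkM
      have h1 : (⟨k, hkM⟩ : M) ∈ (K ⊓ M).subgroupOf M :=
        Subgroup.mem_subgroupOf.mpr (Subgroup.mem_inf.mpr ⟨hk, hkM⟩)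
      rw [← heq] at h1
      exact Subgroup.mem_subgroupOf.mp h1
    · exact absurd (le_antisymm inf_le_right (Subgroup.subgroupOf_eq_top.mp (hmax.2 _ hlt'))) hlt
  letI : Fintype (G ⧸ M) := Fintype.ofFinite _
  have hcard : Fintype.card (G ⧸ M) = n := by rw [← hn, Subgroup.index, Nat.card_eq_fintype_card]
  set a : G ⧸ M := ((1 : G) : G ⧸ M) with ha
  have hst : MulAction.stabilizer G a = M := MulAction.stabilizer_quotient M
  have hnt : Nontrivial (G ⧸ M) := by
    rw [← Fintype.one_lt_card_iff_nontrivial, ← Nat.card_eq_fintype_card, ← Subgroup.index]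
    exact Subgroup.one_lt_index_of_ne_top hMn
  have hprim : MulAction.IsPreprimitive G (G ⧸ M) :=
    (MulAction.isCoatom_stabilizer_iff_preprimitive G a).mp (by rw [hst]; exact hM)
  have hA' : alternatingGroup (G ⧸ M) ≤ (MulAction.toPermHom G (G ⧸ M)).range := by
    obtain ⟨e⟩ : Nonempty ((G ⧸ M) ≃ Fin n) := ⟨Fintype.equivFinOfCardEq hcard⟩
    set φ : G →* Equiv.Perm (Fin n) := e.permCongrHom.toMonoidHom.comp (MulAction.toPermHom G (G ⧸ M))
    have hφ : ∀ g x, φ g (e x) = e (g • x) := fun g x => by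
      show e.permCongr (MulAction.toPermHom G (G ⧸ M) g) (e x) = _
      rw [Equiv.permCongr_apply, Equiv.symm_apply_apply]; rfl
    let f : (G ⧸ M) →ₑ[fun g : G => (⟨φ g, MonoidHom.mem_range.mpr ⟨g, rfl⟩⟩ : φ.range)] Fin n :=
      { toFun := e, map_smul' := fun g x => (hφ g x).symm }
    have := hA φ.range (MulAction.IsPreprimitive.of_surjective (f := f) e.surjective)
    intro σ hσ
    obtain ⟨g, hg⟩ := this (show e.permCongr σ ∈ alternatingGroup (Fin n) by
      rw [Equiv.Perm.mem_alternatingGroup, Equiv.Perm.sign_permCongr]; exact Equiv.Perm.mem_alternatingGroup.mp hσ)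
    exact ⟨g, e.permCongrHom.injective hg⟩
  refine ⟨fun e => ?_, fun L hL => ?_⟩
  · rw [Subgroup.subgroupOf_eq_top] at e
    exact hMn (((hK.le_iff.mp (e.trans hHM)).resolve_right fun e' => hKM e'.symm))
  · set L' := L.map K.subtype with hL'
    have hLK : L' ≤ K := Subgroup.map_subtype_le L
    have hHL : H ≤ L' := fun h hh => ⟨⟨h, hHK hh⟩, hL.le hh, rfl⟩
    have hLM : ¬ L' ≤ MulAction.stabilizer G a := fun hle => by
      rw [hst] at hle
      obtain ⟨u, huL, huH⟩ := SetLike.exists_of_lt hL
      exact huH (hH u u.2 (hle ⟨u, huL, rfl⟩))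
    have hKL := second_maximal (by rw [hcard]; exact hodd) hA' a H (hst.symm ▸ hHM) (by rw [hst]; exact hmax)
      K hK hHK (fun k hk e => hH k hk (by rw [← hst]; exact e)) L' hHL hLK hLM
    refine eq_top_iff.mpr fun u _ => ?_
    obtain ⟨w, hw, hwe⟩ := hKL u.2
    exact (K.subtype_injective hwe) ▸ hw

end Cfsg.Agent.S5885
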