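import Cfsg.Statements.S5887
-- import your own Cfsg.Agent.* helpers here

set_option autoImplicit false
open Cfsg

namespace Cfsg.Agent.S5887

open Matrix

section

variable {F : Type*} [Field F] [Fintype F] {n : ℕ}

/-- A transvection over a field of matrices moves any further commuting matrix out of a field. -/
theorem exists_move {L : Type*} [Field L] [Finite L] (ρ : L →+* Matrix (Fin n) (Fin n) F)
    (hρ : ∀ c : F, Matrix.scalar (Fin n) c ∈ Set.range ρ) {d : ℕ} (hd : 1 ≤ d)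
    (hcard : Nat.card L ≤ Fintype.card F ^ d) (hn : 3 * d ≤ n)
    (K : Subalgebra F (Matrix (Fin n) (Fin n) F)) (hinv : ∀ x ∈ K, x ≠ 0 → ∃ y ∈ K, x * y = 1)
    {k : Matrix (Fin n) (Fin n) F} (hk : k ∈ K) (hkL : k ∉ Set.range ρ) (hLK : ∀ l, ρ l ∈ K)
    (hcomm : ∀ x ∈ K, ∀ y ∈ K, x * y = y * x) :
    ∃ g : GL (Fin n) F, g ∈ Cfsg.Geo.specialLinear (Fin n) F ∧
      (∀ l, (g : Matrix (Fin n) (Fin n) F) * ρ l = ρ l * (g : Matrix (Fin n) (Fin n) F)) ∧
      (g : Matrix (Fin n) (Fin n) F) * k * ((g⁻¹ : GL (Fin n) F) : Matrix (Fin n) (Fin n) F) ∉ K := by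
  classical
  letI : Module L (Fin n → F) :=
    Module.compHom (Fin n → F) ((Matrix.toLinAlgEquiv' (R := F) (n := Fin n)).toAlgHom.toRingHom.comp ρ)
  have hsmul : ∀ (l : L) (x : Fin n → F), l • x = ρ l *ᵥ x := fun l x => rfl
  haveI : Module.Finite L (Fin n → F) := Module.Finite.of_finite
  haveI : FiniteDimensional L (Fin n → F) := inferInstance
  have hdim : 3 ≤ Module.finrank L (Fin n → F) := by
    have h1 := Module.natCard_eq_pow_finrank (K := L) (V := Fin n → F)
    rw [Nat.card_fun, Nat.card_fin, Nat.card_eq_fintype_card (α := F)] at h1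
    by_contra hlt
    have h2 : Nat.card L ^ Module.finrank L (Fin n → F) ≤ (Fintype.card F ^ d) ^ 2 :=
      (Nat.pow_le_pow_right Nat.card_pos (by omega)).trans (Nat.pow_le_pow_left hcard 2)
    rw [← h1, ← pow_mul] at h2
    have := (Nat.pow_le_pow_iff_right Fintype.one_lt_card).mp h2
    omega
  haveI : NeZero n := ⟨by omega⟩
  set z : Fin n → F := Pi.single 0 1 with hz
  have hz0 : z ≠ 0 := by simp [hz]
  set W : Submodule L (Fin n → F) := Submodule.span L (↑({z, k *ᵥ z} : Finset (Fin n → F)))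
  have hW : W < ⊤ := by
    refine lt_top_iff_ne_top.mpr fun h => ?_
    have h1 : Module.finrank L W ≤ 2 :=
      (finrank_span_finset_le_card _).trans Finset.card_le_two
    rw [h, finrank_top] at h1
    omega
  obtain ⟨φ, hφ, hWφ⟩ := W.exists_le_ker_of_lt_top hW
  have hφz : φ z = 0 := hWφ (Submodule.subset_span (by simp))
  have hφkz : φ (k *ᵥ z) = 0 := hWφ (Submodule.subset_span (by simp))
  have hsc : ∀ (c : F) (x : Fin n → F), ∀ l : L, ρ l = Matrix.scalar (Fin n) c → l • x = c • x := by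
    intro c x l hl
    rw [hsmul, hl]
    ext i; simp [Matrix.mulVec_diagonal]
  let N' : (Fin n → F) →ₗ[F] (Fin n → F) :=
    { toFun := fun x => φ x • z
      map_add' := fun x y => by rw [map_add, add_smul]
      map_smul' := fun c x => by
        obtain ⟨l, hl⟩ := hρ c
        rw [RingHom.id_apply, ← hsc c x l hl, map_smul, smul_assoc, hsc c _ l hl] }
  set N : Matrix (Fin n) (Fin n) F := LinearMap.toMatrix' N' with hN
  have hNapp : ∀ x, N *ᵥ x = φ x • z := fun x => by
    rw [hN, LinearMap.toMatrix'_mulVec]; rfl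
  have hN2 : N * N = 0 := Matrix.ext_of_mulVec_single fun i => by
    rw [← Matrix.mulVec_mulVec, hNapp, hNapp, map_smul, hφz]; simp
    ext j; simp
  set u : GL (Fin n) F := ⟨1 + N, 1 - N, by
    rw [mul_sub, add_mul, add_mul, one_mul, one_mul, mul_one, hN2]; abel,
    by rw [mul_add, sub_mul, sub_mul, one_mul, one_mul, mul_one, hN2]; abel⟩ with hu
  have hdet : (u : Matrix (Fin n) (Fin n) F).det = 1 := by
    obtain ⟨p, hp⟩ := CharP.exists F
    haveI : Fact p.Prime := ⟨CharP.char_is_prime F p⟩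
    have hpow : ∀ m : ℕ, (1 + N) ^ m = 1 + m • N := fun m => by
      induction m with
      | zero => simp
      | succ m ih => rw [pow_succ, ih, add_mul, one_mul, mul_add, mul_one, smul_mul_assoc, hN2,
          smul_zero, add_zero, succ_nsmul]; abel
    have h1 : ((1 + N).det) ^ p = 1 := by
      rw [← Matrix.det_pow, hpow]
      have : (p • N) = 0 := by
        rw [← Nat.cast_smul_eq_nsmul F, CharP.cast_eq_zero, zero_smul]
      rw [this, add_zero, Matrix.det_one]
    exact frobenius_inj F p (by rw [frobenius_def, frobenius_def, one_pow]; exact h1)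
  have hgx : ∀ x, (u : Matrix (Fin n) (Fin n) F) *ᵥ x = x + φ x • z := fun x => by
    show (1 + N) *ᵥ x = _
    rw [Matrix.add_mulVec, Matrix.one_mulVec, hNapp]
  refine ⟨u, ?_, fun l => Matrix.ext_of_mulVec_single fun i => ?_, fun hmem => ?_⟩
  · rw [Cfsg.Geo.specialLinear, MonoidHom.mem_ker]
    exact Units.ext hdet
  · rw [← Matrix.mulVec_mulVec, ← Matrix.mulVec_mulVec, hgx, hgx, Matrix.mulVec_add, ← hsmul, ← hsmul,
      map_smul, smul_assoc]
  set k' := (u : Matrix (Fin n) (Fin n) F) * k * ((u⁻¹ : GL (Fin n) F) : Matrix (Fin n) (Fin n) F)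
  have huz : ((u⁻¹ : GL (Fin n) F) : Matrix (Fin n) (Fin n) F) *ᵥ z = z := by
    have : (u : Matrix (Fin n) (Fin n) F) *ᵥ z = z := by rw [hgx, hφz, zero_smul, add_zero]
    conv_lhs => rw [← this]
    rw [Matrix.mulVec_mulVec, Units.inv_mul, Matrix.one_mulVec]
  have hk' : k' *ᵥ z = k *ᵥ z := by
    rw [← Matrix.mulVec_mulVec, huz, ← Matrix.mulVec_mulVec, hgx, hφkz, zero_smul, add_zero]
  have heq : k' = k := by
    by_contra hne
    obtain ⟨y, -, hy⟩ := hinv _ (K.sub_mem hmem hk) (sub_ne_zero.mpr hne)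
    have hy' := mul_eq_one_comm.mp hy
    apply hz0
    calc z = (y * (k' - k)) *ᵥ z := by rw [hy', Matrix.one_mulVec]
      _ = 0 := by rw [← Matrix.mulVec_mulVec, Matrix.sub_mulVec, hk', sub_self, Matrix.mulVec_zero]
  have hcu : (u : Matrix (Fin n) (Fin n) F) * k = k * (u : Matrix (Fin n) (Fin n) F) := by
    conv_rhs => rw [← heq]
    show _ = (u : Matrix (Fin n) (Fin n) F) * k * ((u⁻¹ : GL (Fin n) F) : Matrix (Fin n) (Fin n) F) * _
    rw [mul_assoc _ _ (u : Matrix (Fin n) (Fin n) F), Units.inv_mul, mul_one]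
  obtain ⟨x, hx⟩ : ∃ x, φ x ≠ 0 := by
    by_contra hall
    push Not at hall
    exact hφ (LinearMap.ext fun x => hall x)
  have h1 := congrArg (fun M : Matrix (Fin n) (Fin n) F => M *ᵥ x) hcu
  simp only [← Matrix.mulVec_mulVec, hgx, Matrix.mulVec_add, add_right_inj] at h1
  set c := (φ x)⁻¹ * φ (k *ᵥ x)
  have h2 : k *ᵥ z = c • z := by
    have h3 : k *ᵥ (φ x • z) = φ x • (k *ᵥ z) := by
      rw [hsmul, hsmul, Matrix.mulVec_mulVec, Matrix.mulVec_mulVec, hcomm _ (hLK _) _ hk]
    rw [h3] at h1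
    rw [mul_smul, h1, smul_smul, inv_mul_cancel₀ hx, one_smul]
  apply hkL
  refine ⟨c, ?_⟩
  by_contra hne
  obtain ⟨y, -, hy⟩ := hinv _ (K.sub_mem hk (hLK c)) (sub_ne_zero.mpr (Ne.symm hne))
  have hy' := mul_eq_one_comm.mp hy
  apply hz0
  calc z = (y * (k - ρ c)) *ᵥ z := by rw [hy', Matrix.one_mulVec]
    _ = 0 := by rw [← Matrix.mulVec_mulVec, Matrix.sub_mulVec, h2, hsmul, sub_self, Matrix.mulVec_zero]

/-- The subfield of degree `s` in a finite field of degree `r = s * e`. -/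
theorem exists_middle {A : Type*} [CommRing A] [IsDomain A] [Finite A] [Algebra F A]
    (r s e : ℕ) (hr1 : 1 < r) (hs : s.Prime) (he : r = s * e) (he2 : 2 ≤ e)
    (hAcard : Nat.card A = Fintype.card F ^ r) :
    ∃ L0 : Subalgebra F A, Nat.card L0 ≤ Fintype.card F ^ s ∧
      (∀ x : A, x ∈ L0 ↔ x ^ Fintype.card F ^ s = x) ∧
      (∃ ζ : A, ζ ∉ L0) ∧ ∃ x ∈ L0, ∀ c : F, algebraMap F A c ≠ x := by
  classical
  set q := Fintype.card F with hq
  have hq1 : 1 < q := Fintype.one_lt_card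
  obtain ⟨ζ, hζ⟩ := IsCyclic.exists_ofOrder_eq_natCard (α := Aˣ)
  have hunits : Nat.card Aˣ = Nat.card A - 1 := by
    letI : Fintype A := Fintype.ofFinite A
    letI := Fintype.fieldOfDomain A
    exact Nat.card_units A
  rw [hunits, hAcard] at hζ
  let f : A →ₐ[F] A := (FiniteField.frobeniusAlgHom F A) ^ s
  have hf : ∀ x : A, f x = x ^ q ^ s := by
    intro x
    have : ∀ t : ℕ, ((FiniteField.frobeniusAlgHom F A) ^ t) x = x ^ q ^ t := by
      intro t
      induction t with
      | zero => simp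
      | succ t ih => rw [pow_succ', AlgHom.mul_apply, ih, FiniteField.coe_frobeniusAlgHom]; simp only [← pow_mul, pow_succ]; rfl
    exact this s
  let L0 : Subalgebra F A := AlgHom.equalizer f (AlgHom.id F A)
  have hL0 : ∀ x : A, x ∈ L0 ↔ x ^ q ^ s = x := fun x => by
    rw [← hf]; rfl
  have hL0card : Nat.card L0 ≤ q ^ s := by
    have hdeg : (Polynomial.X ^ q ^ s - Polynomial.X : Polynomial A).natDegree = q ^ s := by
      rw [Polynomial.natDegree_sub_eq_left_of_natDegree_lt, Polynomial.natDegree_X_pow]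
      rw [Polynomial.natDegree_X, Polynomial.natDegree_X_pow]
      exact one_lt_pow₀ hq1 hs.ne_zero
    have hp : (Polynomial.X ^ q ^ s - Polynomial.X : Polynomial A) ≠ 0 := fun h => by
      rw [h, Polynomial.natDegree_zero] at hdeg
      exact absurd hdeg.symm (pow_ne_zero _ (by omega))
    rw [← hdeg]
    refine le_trans ?_ (Polynomial.card_roots' _)
    refine le_trans ?_ (Multiset.toFinset_card_le _)
    rw [← Nat.card_eq_finsetCard]
    refine Nat.card_le_card_of_injective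
      (fun x => (⟨x.1, by simp [hp, sub_eq_zero, (hL0 x.1).mp x.2]⟩ :
        {y // y ∈ (Polynomial.X ^ q ^ s - Polynomial.X : Polynomial A).roots.toFinset}))
      fun x y h => Subtype.ext (by simpa using congrArg Subtype.val h)
  have hqs : q ^ s < q ^ r := Nat.pow_lt_pow_right hq1 (by
    rw [he]; calc s < s * 2 := by have := hs.pos; omega
      _ ≤ s * e := Nat.mul_le_mul_left s he2)
  have hζL : (ζ : A) ∉ L0 := by
    intro h
    rw [hL0] at h
    have h1 : ζ ^ (q ^ s - 1) = 1 := Units.ext (by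
      rw [Units.val_pow_eq_pow_val, Units.val_one]
      apply mul_right_cancel₀ ζ.ne_zero
      rw [← pow_succ, Nat.sub_add_cancel (Nat.one_le_pow _ _ (by omega)), h, one_mul])
    have h2 : q ≤ q ^ s := Nat.le_self_pow hs.ne_zero _
    have := Nat.le_of_dvd (by omega) (orderOf_dvd_of_pow_eq_one h1)
    omega
  set j := (q ^ r - 1) / (q ^ s - 1)
  have hj : j * (q ^ s - 1) = q ^ r - 1 := by
    refine Nat.div_mul_cancel ?_
    rw [he, pow_mul]
    exact Nat.sub_one_dvd_pow_sub_one (q ^ s) e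
  have hx0 : (ζ : A) ^ j ∈ L0 := by
    rw [hL0, ← pow_mul]
    have : j * q ^ s = (q ^ r - 1) + j := by
      rw [← hj, Nat.mul_sub, mul_one, Nat.sub_add_cancel]
      exact Nat.le_mul_of_pos_right _ (by positivity)
    rw [this, pow_add, ← Units.val_pow_eq_pow_val, ← hζ, pow_orderOf_eq_one, Units.val_one, one_mul]
  have hxF : ∀ c : F, algebraMap F A c ≠ (ζ : A) ^ j := by
    intro c hc
    have hc0 : c ≠ 0 := fun h => by
      rw [h, map_zero] at hc
      exact pow_ne_zero _ ζ.ne_zero hc.symm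
    have h1 : ζ ^ (j * (q - 1)) = 1 := Units.ext (by
      rw [Units.val_pow_eq_pow_val, Units.val_one, pow_mul, ← hc, ← map_pow,
        FiniteField.pow_card_sub_one_eq_one c hc0, map_one])
    have h2 := orderOf_dvd_of_pow_eq_one h1
    rw [hζ, ← hj] at h2
    have hjpos : 0 < j := Nat.pos_of_ne_zero fun h => by
      rw [h, zero_mul] at hj
      have : q ≤ q ^ r := Nat.le_self_pow (by omega) _
      omega
    have h3 := Nat.le_of_dvd (by omega) (Nat.dvd_of_mul_dvd_mul_left hjpos h2)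
    have : q ^ 1 < q ^ s := Nat.pow_lt_pow_right hq1 hs.one_lt
    rw [pow_one] at this
    omega
  exact ⟨L0, hL0card, hL0, ⟨_, hζL⟩, _, hx0, hxF⟩


end

/-- Let F be a finite field, n a positive integer and r a composite number (r > 1, not prime) that divides n with r < n. Let K be a subalgebra of the algebra of n × n matrices over F which is a field of degree r over F (commutative, every non-zero element invertible, of dimension r over F). Then the normaliser N of K in GL_n(F) (a group of type ΓL_{n/r}(F_{q^r})) is not a maximal subgroup of GL_n(F), and N ∩ SL_n(F) is not a maximal subgroup of SL_n(F): both lie properly inside the normaliser of an intermediate subfield of prime degree over F. -/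
theorem result {F : Type*} [Field F]
    [Fintype F] (n r : ℕ) (hr1 : 1 < r) (hrp : ¬ r.Prime) (hrn : r ∣ n) (hlt : r < n)
    (K : Subalgebra F (Matrix (Fin n) (Fin n) F)) (hK : Cfsg.Geo.IsFieldSubalgebra r K) :
    ¬ IsCoatom (Cfsg.Geo.subalgebraNormalizer K) ∧
      ¬ Cfsg.Geo.IsMaximalIn (Cfsg.Geo.specialLinear (Fin n) F)
        (Cfsg.Geo.subalgebraNormalizer K ⊓ Cfsg.Geo.specialLinear (Fin n) F) := by
  classical
  obtain ⟨s, hs, hsr⟩ := Nat.exists_prime_and_dvd (n := r) (by omega)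
  have hsne : s ≠ r := fun h => hrp (h ▸ hs)
  obtain ⟨e, he⟩ := hsr
  have he2 : 2 ≤ e := by
    rcases e with _ | _ | e
    · omega
    · simp at he; omega
    · omega
  obtain ⟨m, hm⟩ := hrn
  have hm2 : 2 ≤ m := by
    rcases m with _ | _ | m
    · simp at hm; omega
    · simp at hm; omega
    · omega
  have hn12 : 3 * s ≤ n := by
    have : s * (2 * 2) ≤ s * (e * m) := Nat.mul_le_mul_left s (Nat.mul_le_mul he2 hm2)
    rw [hm, he, mul_assoc]; omega
  haveI : NeZero n := ⟨by omega⟩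
  letI : CommRing K := { (inferInstance : Ring K) with mul_comm := fun a b => Subtype.ext (hK.comm _ a.2 _ b.2) }
  haveI : Nontrivial K := ⟨⟨0, 1, fun h => by
    have := congrArg (fun x : K => (x : Matrix (Fin n) (Fin n) F)) h
    simp at this⟩⟩
  haveI : NoZeroDivisors K := ⟨fun {a b} hab => by
    by_cases ha : a = 0
    · exact Or.inl ha
    · obtain ⟨y, hy, hay⟩ := hK.inv _ a.2 (fun h => ha (Subtype.ext h))
      right
      have : (⟨y, hy⟩ : K) * a = 1 := by rw [mul_comm]; exact Subtype.ext hay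
      calc b = (⟨y, hy⟩ : K) * a * b := by rw [this, one_mul]
        _ = 0 := by rw [mul_assoc, hab, mul_zero]⟩
  haveI : IsDomain K := NoZeroDivisors.to_isDomain K
  set q := Fintype.card F with hq
  have hKcard : Nat.card K = q ^ r := by
    rw [Module.natCard_eq_pow_finrank (K := F), hK.finrank_eq, Nat.card_eq_fintype_card]
  obtain ⟨L0, hL0card, hL0, ⟨ζ, hζL⟩, x0, hx0, hxF⟩ := exists_middle (A := K) r s e hr1 hs he he2 hKcard
  letI : Fintype L0 := Fintype.ofFinite L0
  haveI : IsDomain L0 := inferInstance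
  letI : Field L0 := Fintype.fieldOfDomain L0
  let ρ : L0 →+* Matrix (Fin n) (Fin n) F := (K.val.comp L0.val).toRingHom
  have hscal : ∀ c : F, Matrix.scalar (Fin n) c = algebraMap F (Matrix (Fin n) (Fin n) F) c := fun c => by
    rw [Matrix.algebraMap_eq_diagonal]; rfl
  set L : Subalgebra F (Matrix (Fin n) (Fin n) F) := L0.map K.val with hL
  have hLmem : ∀ x, x ∈ L ↔ x ∈ Set.range ρ := fun x => by
    rw [hL, Subalgebra.mem_map]
    constructor
    · rintro ⟨y, hy, rfl⟩; exact ⟨⟨y, hy⟩, rfl⟩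
    · rintro ⟨y, rfl⟩; exact ⟨y.1, y.2, rfl⟩
  have hLK : ∀ x ∈ L, x ∈ K := by
    intro x hx; obtain ⟨y, rfl⟩ := (hLmem x).mp hx; exact y.1.2
  have hzK : ((ζ : K) : Matrix (Fin n) (Fin n) F) ∈ K := (ζ : K).2
  obtain ⟨g, hgS, hgL, hgK⟩ := exists_move ρ (fun c => ⟨algebraMap F L0 c, by
      rw [hscal]; rfl⟩) hs.one_le (by simpa [hq] using hL0card) hn12 K hK.inv hzK
    (fun ⟨y, hy⟩ => hζL (Subtype.ext hy ▸ y.2)) (fun l => (l : K).2) hK.comm
  obtain ⟨g', hg'S, -, hg'K⟩ := exists_move (Matrix.scalar (Fin n)) (fun c => ⟨c, rfl⟩) le_rfl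
    (by rw [Nat.card_eq_fintype_card, pow_one]) (by omega) L
    (fun x hx hx0 => by
      obtain ⟨y, rfl⟩ := (hLmem x).mp hx
      exact ⟨ρ y⁻¹, (hLmem _).mpr ⟨_, rfl⟩, by
        rw [← map_mul, mul_inv_cancel₀ (fun h => hx0 (by rw [h, map_zero])), map_one]⟩)
    ((hLmem ((x0 : K) : Matrix (Fin n) (Fin n) F)).mpr ⟨⟨x0, hx0⟩, rfl⟩)
    (fun ⟨c, hc⟩ => hxF c (Subtype.ext (by rw [Subalgebra.coe_algebraMap, ← hscal]; exact hc)))
    (fun c => by rw [hscal]; exact L.algebraMap_mem c) (fun x hx y hy => hK.comm x (hLK x hx) y (hLK y hy))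
  have hnorm : ∀ g ∈ Cfsg.Geo.subalgebraNormalizer K, ∀ x ∈ L,
      (g : Matrix (Fin n) (Fin n) F) * x * ((g⁻¹ : GL (Fin n) F) : Matrix (Fin n) (Fin n) F) ∈ L := by
    intro g hg x hx
    obtain ⟨y, rfl⟩ := (hLmem x).mp hx
    have hyK := (hg _).mp y.1.2
    rw [hLmem]
    refine ⟨⟨⟨_, hyK⟩, (hL0 _).mpr (Subtype.ext ?_)⟩, rfl⟩
    rw [SubmonoidClass.coe_pow]
    show ((g : Matrix (Fin n) (Fin n) F) * ρ y * ((g⁻¹ : GL (Fin n) F) : Matrix (Fin n) (Fin n) F)) ^ q ^ s = _
    rw [Units.conj_pow]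
    congr 2
    show ((y.1 : K) : Matrix (Fin n) (Fin n) F) ^ q ^ s = _
    rw [← SubmonoidClass.coe_pow, (hL0 _).mp y.2]
  have hle : Cfsg.Geo.subalgebraNormalizer K ≤ Cfsg.Geo.subalgebraNormalizer L := by
    intro g hg x
    refine ⟨hnorm g hg x, fun h => ?_⟩
    have := hnorm g⁻¹ (inv_mem hg) _ h
    simpa [mul_assoc] using this
  have hgL' : g ∈ Cfsg.Geo.subalgebraNormalizer L := by
    have key : ∀ x ∈ L, (g : Matrix (Fin n) (Fin n) F) * x = x * (g : Matrix (Fin n) (Fin n) F) := by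
      intro x hx; obtain ⟨y, rfl⟩ := (hLmem x).mp hx; exact hgL y
    intro x
    refine ⟨fun hx => by rw [key x hx, mul_assoc, Units.mul_inv, mul_one]; exact hx, fun h => ?_⟩
    have h' := key _ h
    rw [mul_assoc (_ * _) _ (g : Matrix (Fin n) (Fin n) F), Units.inv_mul, mul_one] at h'
    have h'' := (Units.mul_right_inj g).mp h'
    rwa [h''] at h
  have hnK : g ∉ Cfsg.Geo.subalgebraNormalizer K := fun h => hgK ((h _).mp hzK)
  have hnL : g' ∉ Cfsg.Geo.subalgebraNormalizer L := fun h =>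
    hg'K ((h _).mp ((hLmem _).mpr ⟨⟨x0, hx0⟩, rfl⟩))
  refine ⟨fun hco => ?_, fun hmax => ?_⟩
  · rcases hco.le_iff.mp hle with h | h
    · exact hnL (h ▸ Subgroup.mem_top g')
    · exact hnK (h ▸ hgL')
  · rcases hmax.2 (Cfsg.Geo.subalgebraNormalizer L ⊓ Cfsg.Geo.specialLinear (Fin n) F)
      (inf_le_inf_right _ hle) inf_le_right with h | h
    · have : g ∈ Cfsg.Geo.subalgebraNormalizer K ⊓ Cfsg.Geo.specialLinear (Fin n) F := h ▸ ⟨hgL', hgS⟩
      exact hnK this.1
    · have : g' ∈ Cfsg.Geo.subalgebraNormalizer L ⊓ Cfsg.Geo.specialLinear (Fin n) F := h.symm ▸ hg'S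
      exact hnL this.1

end Cfsg.Agent.S5887
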