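import Cfsg.Statements.S5890
import Cfsg.Agent.Lib.SL2.DicksonBorelMax

set_option autoImplicit false
open Cfsg

namespace Cfsg.Agent.S5890

/-- Let F be a finite field with q ≥ 4 elements, let L ≤ PGL₂(F) be the image of SL₂(F) (a copy of PSL₂(F), of index gcd(2, q − 1)), and let M be a maximal subgroup of PGL₂(F) that does not contain L. Suppose q ∉ {7, 9, 11} and that q is not a prime congruent to ±11 or ±19 modulo 40. Then M ∩ L is a maximal subgroup of L. (For the excluded q there are maximal subgroups of PGL₂(q) — dihedral groups of order 12 and 16 at q = 7, of order 20 and 16 at q = 9, of order 20 at q = 11, and S₄ at the excluded primes — whose intersection with L is not maximal in L.) -/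
theorem result {F : Type*} [Field F]
    [Fintype F] (h4 : 4 ≤ Fintype.card F) (h7 : Fintype.card F ≠ 7) (h9 : Fintype.card F ≠ 9) (h11 : Fintype.card F ≠ 11)
    (h40 : (Fintype.card F).Prime → Fintype.card F % 40 ∉ ({11, 19, 21, 29} : Finset ℕ))
    (M : Subgroup (Matrix.ProjGenLinGroup (Fin 2) F)) (hM : IsCoatom M)
    (hML : ¬ (Matrix.ProjGenLinGroup.mk.comp Matrix.SpecialLinearGroup.toGL).range ≤ M) :
    IsCoatom ((M ⊓ (Matrix.ProjGenLinGroup.mk.comp Matrix.SpecialLinearGroup.toGL).range).subgroupOf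
      (Matrix.ProjGenLinGroup.mk.comp Matrix.SpecialLinearGroup.toGL).range) := by
  classical
  haveI : Finite (Matrix.ProjectiveSpecialLinearGroup (Fin 2) F) := Finite.of_surjective _ SL2.π_surjective
  haveI : Finite (Matrix.ProjGenLinGroup (Fin 2) F) := Finite.of_surjective _ Matrix.ProjGenLinGroup.mk_surjective
  have hR : (Matrix.ProjGenLinGroup.mk.comp Matrix.SpecialLinearGroup.toGL).range =
      (SL2.R0 : Subgroup (Matrix.ProjGenLinGroup (Fin 2) F)) := by
    ext x
    constructor
    · rintro ⟨s, rfl⟩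
      exact ⟨SL2.π s, rfl⟩
    · rintro ⟨y, rfl⟩
      obtain ⟨s, rfl⟩ := SL2.π_surjective y
      exact ⟨s, rfl⟩
  rw [hR] at hML ⊢
  set H := Subgroup.comap Matrix.ProjectiveSpecialLinearGroup.toPGL M
  have hmap : H.map Matrix.ProjectiveSpecialLinearGroup.toPGL = M ⊓ SL2.R0 := by
    rw [Subgroup.map_comap_eq, inf_comm]
  suffices hH : IsCoatom H by
    have := SL2.isCoatom_map_equiv (MonoidHom.ofInjective
      (Matrix.ProjectiveSpecialLinearGroup.toPGL_injective (n := Fin 2) (R := F))) hH
    convert this using 1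
    ext ⟨y, hy⟩
    rw [Subgroup.mem_subgroupOf, ← hmap]
    constructor
    · rintro ⟨x, hx, hxy⟩
      exact ⟨x, hx, Subtype.ext hxy⟩
    · rintro ⟨x, hx, hxy⟩
      exact ⟨x, hx, congrArg Subtype.val hxy⟩
  by_cases hodd : Odd (Fintype.card F)
  · obtain ⟨n, hp, hn⟩ := FiniteField.card F (ringChar F)
    haveI : Fact (ringChar F).Prime := ⟨hp⟩
    have hP : SL2.PGLMax M := ⟨hM, hodd, by omega, hML⟩
    rcases hP.cases with ⟨r, ht, hk3, -, hH⟩ | ⟨-, g, hH⟩ | ⟨hqp, h8, -, ⟨e⟩⟩ |
      ⟨K, iK, tK, φ, r, γ, hr, hro, hq, hK3, -, hH⟩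
    · rw [show H = SL2.NT r from hH]
      exact SL2.isCoatom_NT ht hk3 h7 h9 (fun h => absurd h h11) (by omega)
    · rw [show H = _ from hH]
      exact SL2.isCoatom_map_equiv (MulAut.conj g⁻¹) SL2.isCoatom_B0
    · have hqc : Fintype.card F = ringChar F := by
        exact ((Nat.prime_dvd_prime_iff_eq hp hqp).1 (hn ▸ dvd_pow_self _ n.ne_zero)).symm
      have h40 := h40 hqp
      simp only [Finset.mem_insert, Finset.mem_singleton, not_or] at h40
      exact SL2.coatom_alt_four hqc (by omega) (hqc ▸ h8) (by omega) e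
    · have h1 : (H.map (SL2.conjAut γ).toMonoidHom).map (SL2.conjEmb 1) = SL2.kg φ := by
        rw [Subgroup.map_map, ← hH]
        congr 1
        refine MonoidHom.ext fun x => ?_
        show 1 * Matrix.ProjectiveSpecialLinearGroup.toPGL (SL2.conjAut γ x) * 1⁻¹ = _
        rw [SL2.toPGL_conjAut, one_mul, inv_one, mul_one]
      have h2 := SL2.isCoatom_map_equiv (SL2.conjAut γ).symm (SL2.coatom_subfield φ hr hq hK3 (Or.inl ⟨h1, fun _ => hro⟩))
      convert h2 using 1
      ext x
      simp [Subgroup.map_map]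
  · have htop : (SL2.R0 : Subgroup (Matrix.ProjGenLinGroup (Fin 2) F)) = ⊤ := by
      refine Subgroup.eq_top_of_card_eq _ ?_
      obtain ⟨j, hj⟩ := Nat.not_odd_iff_even.1 hodd
      rw [SL2.card_R0, SL2.card_pgl_eq,
        (Nat.Prime.coprime_iff_not_dvd Nat.prime_two).2 (show ¬ 2 ∣ Fintype.card F - 1 by omega), one_mul]
    have hs : Function.Surjective (Matrix.ProjectiveSpecialLinearGroup.toPGL (n := Fin 2) (R := F)) :=
      MonoidHom.range_eq_top.1 htop
    refine ⟨fun h => hM.1 (top_le_iff.1 fun y _ => ?_), fun K hK => ?_⟩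
    · obtain ⟨x, rfl⟩ := hs y
      exact (h ▸ Subgroup.mem_top x : x ∈ H)
    · have hlt : M < K.map Matrix.ProjectiveSpecialLinearGroup.toPGL := by
        rw [← Subgroup.map_comap_eq_self_of_surjective hs M]
        exact (Subgroup.map_lt_map_iff_of_injective Matrix.ProjectiveSpecialLinearGroup.toPGL_injective).2 hK
      exact Subgroup.map_injective Matrix.ProjectiveSpecialLinearGroup.toPGL_injective
        ((hM.2 _ hlt).trans (Subgroup.map_top_of_surjective _ hs).symm)

end Cfsg.Agent.S5890
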