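import Cfsg.Statements.S5891
import Cfsg.Agent.Lib.SL2.DicksonPGL

set_option autoImplicit false
open Cfsg

namespace Cfsg.Agent.S5891

/-- Let F be a finite field of odd order q > 3 and characteristic p, and let M be a maximal subgroup of PGL₂(F) not containing the image L of SL₂(F) (a copy of PSL₂(F) of index 2). Then one of the following holds: |M| = q(q − 1) (M is the stabiliser of a point of the projective line); q ≠ 5 and M is dihedral of order 2(q − 1); M is dihedral of order 2(q + 1); q = p ≡ ±3 (mod 8) and M ≅ S₄; or q = q₀^r for an odd prime r and M ≅ PGL₂(F₀) with |F₀| = q₀. -/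
theorem result {F : Type*} [Field F] [Fintype F]
    (hodd : Odd (Fintype.card F)) (h3 : 3 < Fintype.card F) (M : Subgroup (Matrix.ProjGenLinGroup (Fin 2) F)) (hM : IsCoatom M)
    (hML : ¬ (Matrix.ProjGenLinGroup.mk.comp Matrix.SpecialLinearGroup.toGL).range ≤ M) :
    Nat.card M = Fintype.card F * (Fintype.card F - 1) ∨
    (Fintype.card F ≠ 5 ∧ Nonempty (M ≃* DihedralGroup (Fintype.card F - 1))) ∨
    Nonempty (M ≃* DihedralGroup (Fintype.card F + 1)) ∨
    ((Fintype.card F).Prime ∧ (Fintype.card F % 8 = 3 ∨ Fintype.card F % 8 = 5) ∧ Nonempty (M ≃* Equiv.Perm (Fin 4))) ∨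
    (∃ (F₀ : Type) (_ : Field F₀) (_ : Fintype F₀) (r : ℕ), r.Prime ∧ Odd r ∧ Fintype.card F = Fintype.card F₀ ^ r ∧
        Nonempty (M ≃* Matrix.ProjGenLinGroup (Fin 2) F₀)) := by
  classical
  haveI : Finite (Matrix.ProjectiveSpecialLinearGroup (Fin 2) F) := Finite.of_surjective _ SL2.π_surjective
  have hR : (Matrix.ProjGenLinGroup.mk.comp Matrix.SpecialLinearGroup.toGL).range =
      (SL2.R0 : Subgroup (Matrix.ProjGenLinGroup (Fin 2) F)) := by
    ext x
    constructor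
    · rintro ⟨s, rfl⟩
      exact ⟨SL2.π s, rfl⟩
    · rintro ⟨y, rfl⟩
      obtain ⟨s, rfl⟩ := SL2.π_surjective y
      exact ⟨s, rfl⟩
  rw [hR] at hML
  have hP : SL2.PGLMax M := ⟨hM, hodd, h3, hML⟩
  obtain ⟨j, hj⟩ := id hodd
  have hd : Nat.gcd 2 (Fintype.card F - 1) = 2 := Nat.gcd_eq_left ⟨j, by omega⟩
  rcases hP.cases with ⟨r, ht, hk3, he, -⟩ | ⟨h, -⟩ | ⟨hp, h8, he, -⟩ | ⟨K, iK, tK, φ, r, γ, hr, hro, hq, -, he, -⟩
  · rcases SL2.card_torus_cases ht with ⟨-, hk⟩ | ⟨-, hk⟩ <;> rw [hd] at hk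
    · refine Or.inr (Or.inr (Or.inl ?_))
      rwa [hk, show 2 * ((Fintype.card F + 1) / 2) = Fintype.card F + 1 by omega] at he
    · refine Or.inr (Or.inl ⟨by omega, ?_⟩)
      rwa [hk, show 2 * ((Fintype.card F - 1) / 2) = Fintype.card F - 1 by omega] at he
  · exact Or.inl h
  · exact Or.inr (Or.inr (Or.inr (Or.inl ⟨hp, h8, he⟩)))
  · exact Or.inr (Or.inr (Or.inr (Or.inr ⟨K, iK, tK, r, hr, hro, hq.symm, he⟩)))

end Cfsg.Agent.S5891
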