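import Cfsg.Statements.S5893
import Cfsg.Agent.Lib.SL2.DicksonCoatom

set_option autoImplicit false
open Cfsg

namespace Cfsg.Agent.S5893

/-- Let F be a finite field of even order q ≥ 4 and let M be a maximal subgroup of PSL₂(F) (= SL₂(F) = PGL₂(F)). Then one of the following holds: |M| = q(q − 1) (the stabiliser of a point of the projective line, elementary abelian of order q extended by a cyclic group of order q − 1); M is dihedral of order 2(q − 1); M is dihedral of order 2(q + 1); or q = q₀^r for a prime r with q₀ ≠ 2 and M ≅ PSL₂(F₀) with |F₀| = q₀. -/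
theorem result {F : Type*} [Field F] [Fintype F]
    (heven : Even (Fintype.card F)) (h4 : 4 ≤ Fintype.card F) (M : Subgroup (Matrix.ProjectiveSpecialLinearGroup (Fin 2) F)) (hM : IsCoatom M) :
    Nat.card M = Fintype.card F * (Fintype.card F - 1) ∨
    Nonempty (M ≃* DihedralGroup (Fintype.card F - 1)) ∨
    Nonempty (M ≃* DihedralGroup (Fintype.card F + 1)) ∨
    (∃ (F₀ : Type) (_ : Field F₀) (_ : Fintype F₀) (r : ℕ), r.Prime ∧ Fintype.card F₀ ≠ 2 ∧
        Fintype.card F = Fintype.card F₀ ^ r ∧ Nonempty (M ≃* Matrix.ProjectiveSpecialLinearGroup (Fin 2) F₀)) := by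
  classical
  obtain ⟨n, hp, hn⟩ := FiniteField.card F (ringChar F)
  haveI : Fact (ringChar F).Prime := ⟨hp⟩
  obtain ⟨j, hj⟩ := id heven
  have hp2 : ringChar F = 2 :=
    ((Nat.prime_dvd_prime_iff_eq Nat.prime_two hp).1 (Nat.prime_two.dvd_of_dvd_pow ((show 2 ∣ Fintype.card F from ⟨j, by omega⟩).trans (dvd_of_eq hn)))).symm
  have hd : Nat.gcd 2 (Fintype.card F - 1) = 1 :=
    (Nat.Prime.coprime_iff_not_dvd Nat.prime_two).2 (by omega)
  rcases SL2.coatom_cases (ringChar F) h4 hM with ⟨r, ht, rfl⟩ | h | ⟨K, iK, tK, m, hm, hK, h⟩ |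
    ⟨h, -⟩ | ⟨hqp, -⟩ | ⟨hqp, -⟩
  · rcases SL2.card_torus_cases ht with ⟨-, hk⟩ | ⟨-, hk⟩ <;> rw [hd, Nat.div_one] at hk
    · exact Or.inr (Or.inr (Or.inl (hk ▸ SL2.NT_equiv_dihedral ht)))
    · exact Or.inr (Or.inl (hk ▸ SL2.NT_equiv_dihedral ht))
  · rw [hd, one_mul] at h
    exact Or.inl h
  · rcases h with ⟨hmp, -, he⟩ | ⟨ho, -⟩
    · exact Or.inr (Or.inr (Or.inr ⟨K, iK, tK, m, hmp, by omega, hm.symm, he⟩))
    · exact absurd ho (Nat.not_odd_iff_even.2 heven)
  · exact absurd hp2 h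
  · omega
  · omega

end Cfsg.Agent.S5893
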