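import Cfsg.Statements.S5894
import Cfsg.Agent.Lib.ImprimMax.Partition

set_option autoImplicit false
open Cfsg

namespace Cfsg.Agent.S5894

open scoped Pointwise

/-- For every m ≥ 2 the symmetric group on 2m letters has a maximal subgroup M of index 2m together with a maximal subgroup H of M that is not second maximal: some maximal subgroup K of the symmetric group contains H without H being maximal in K. (One may take M the stabiliser of a letter, H ≅ S_m × S_{m−1} inside it, and K ≅ S_m ≀ S₂ the stabiliser of a partition into two m-sets, with H < S_m × S_m < K.) So the prime-index hypothesis in the second-maximality criterion cannot be relaxed to any even index ≥ 4. -/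
theorem result (m : ℕ) (hm : 2 ≤ m) :
    ∃ M H K : Subgroup (Equiv.Perm (Fin (2 * m))), IsCoatom M ∧ M.index = 2 * m ∧ H ≤ M ∧ IsCoatom (H.subgroupOf M) ∧
      IsCoatom K ∧ H ≤ K ∧ ¬ IsCoatom (H.subgroupOf K) := by
  classical
  let z : Fin (2 * m) := ⟨0, by omega⟩
  let A : Set (Fin (2 * m)) := {x | x.val < m}
  let f : Fin (2 * m) → Fin 2 := fun x => if x.val < m then 0 else 1
  let M : Subgroup (Equiv.Perm (Fin (2 * m))) := MulAction.stabilizer (Equiv.Perm (Fin (2 * m))) z
  let SA : Subgroup (Equiv.Perm (Fin (2 * m))) := MulAction.stabilizer (Equiv.Perm (Fin (2 * m))) A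
  let K : Subgroup (Equiv.Perm (Fin (2 * m))) := Cfsg.Agent.ImprimMax.fibreStab f
  have hA : A.ncard = m := by
    have e : A = (fun i : Fin m => (⟨i.val, by omega⟩ : Fin (2 * m))) '' Set.univ := by
      ext x
      simp only [A, Set.mem_setOf_eq, Set.image_univ, Set.mem_range]
      exact ⟨fun h => ⟨⟨x.val, h⟩, rfl⟩, fun ⟨i, hi⟩ => hi ▸ i.isLt⟩
    rw [e, Set.ncard_image_of_injective _ (fun i j h => by simpa [Fin.ext_iff] using h), Set.ncard_univ,
      Nat.card_fin]
  have hf2 : ∀ i : Fin 2, Nat.card {x : Fin (2 * m) // f x = i} = m := by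
    have h0 : {x | f x = 0} = A := by
      ext x; simp only [f, A, Set.mem_setOf_eq]; split_ifs <;> simp_all
    have h1 : {x | f x = 1} = Aᶜ := by
      ext x; simp only [f, A, Set.mem_setOf_eq, Set.mem_compl_iff]; split_ifs <;> simp_all
    intro i
    show Nat.card ↥{x | f x = i} = m
    rw [Nat.card_coe_set_eq]
    fin_cases i
    · rw [show {x | f x = (⟨0, by norm_num⟩ : Fin 2)} = A from h0, hA]
    · rw [show {x | f x = (⟨1, by norm_num⟩ : Fin 2)} = Aᶜ from h1, Set.ncard_compl, hA, Nat.card_fin]
      omega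
  have hMco : IsCoatom M := by
    have e : M = MulAction.stabilizer (Equiv.Perm (Fin (2 * m))) ({z} : Set (Fin (2 * m))) := by
      rw [MulAction.stabilizer_singleton]
    rw [e]
    refine Equiv.Perm.isCoatom_stabilizer (Set.singleton_nonempty z) ⟨⟨1, by omega⟩, ?_⟩ ?_
    · simp [z, Fin.ext_iff]
    · rw [Set.ncard_singleton, Nat.card_fin]; omega
  have hzA : z ∈ A := by show (0 : ℕ) < m; omega
  have hSAK : SA ≤ K := by
    intro g hg x y
    have key : ∀ u, g u ∈ A ↔ u ∈ A := fun u => by
      have h1 := MulAction.mem_stabilizer_iff.1 hg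
      conv_lhs => rw [← h1]
      exact Set.smul_mem_smul_set_iff
    have hfk : ∀ u, f (g u) = f u := fun u => if_congr (key u) rfl rfl
    rw [hfk, hfk]
  let u : Fin (2 * m) := ⟨1, by omega⟩
  let w : Fin (2 * m) := ⟨m, by omega⟩
  refine ⟨M, M ⊓ SA, K, hMco, ?_, inf_le_left, ?_,
    Cfsg.Agent.ImprimMax.isCoatom_fibreStab hf2 hm, inf_le_right.trans hSAK, ?_⟩
  · rw [MulAction.index_stabilizer_of_transitive, Nat.card_fin]
  · -- the intersection is a point-and-set stabiliser inside `S_{2m-1}`
    let β := {x : Fin (2 * m) // x ≠ z}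
    let A' : Set β := {x | (x : Fin (2 * m)) ∈ A}
    let ψ : M →* Equiv.Perm β :=
      { toFun := fun g => (g : Equiv.Perm (Fin (2 * m))).subtypePerm fun x =>
          ⟨fun h e => h (by rw [e]; exact g.2), fun h e => h ((g : Equiv.Perm (Fin (2 * m))).injective (e.trans g.2.symm))⟩
        map_one' := rfl
        map_mul' := fun _ _ => rfl }
    have hψ : Function.Bijective ψ := by
      refine ⟨fun g h e => Subtype.ext (Equiv.ext fun x => ?_), fun p => ?_⟩
      · rcases eq_or_ne x z with rfl | hx
        · exact g.2.trans h.2.symm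
        · exact congrArg Subtype.val (Equiv.congr_fun e (⟨x, hx⟩ : β))
      · refine ⟨⟨Equiv.Perm.ofSubtype p, MulAction.mem_stabilizer_iff.2
          (Equiv.Perm.ofSubtype_apply_of_not_mem p (by simp))⟩, Equiv.ext fun x => Subtype.ext ?_⟩
        exact Equiv.Perm.ofSubtype_apply_coe p x
    have hA' : A'.ncard = m - 1 := by
      have e : Subtype.val '' A' = A \ {z} := by
        ext x
        simp only [A', Set.mem_image, Set.mem_setOf_eq, Set.mem_diff, Set.mem_singleton_iff]
        exact ⟨fun ⟨⟨y, hy⟩, hyA, hyx⟩ => hyx ▸ ⟨hyA, hy⟩, fun h => ⟨⟨x, h.2⟩, h.1, rfl⟩⟩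
      rw [← Set.ncard_image_of_injective A' Subtype.val_injective, e,
        Set.ncard_diff_singleton_of_mem hzA, hA]
    have hβ : Nat.card β = 2 * m - 1 := by
      rw [Nat.card_eq_fintype_card, Fintype.card_subtype_compl, Fintype.card_fin]
      simp
    have hco : IsCoatom (MulAction.stabilizer (Equiv.Perm β) A') := by
      refine Equiv.Perm.isCoatom_stabilizer ?_ ?_ (by rw [hA', hβ]; omega)
      · exact ⟨⟨u, by simp [u, z, Fin.ext_iff]⟩, show (1 : ℕ) < m by omega⟩
      · refine ⟨⟨w, by simp [w, z, Fin.ext_iff]; omega⟩, ?_⟩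
        show ¬ (m < m)
        omega
    have hcomap : (M ⊓ SA).subgroupOf M =
        (MulEquiv.ofBijective ψ hψ).comapSubgroup (MulAction.stabilizer (Equiv.Perm β) A') := by
      ext g
      simp only [Subgroup.mem_subgroupOf, Subgroup.mem_inf, SetLike.coe_mem, true_and,
        MulEquiv.comapSubgroup_apply, Subgroup.mem_comap, MonoidHom.coe_coe, MulEquiv.ofBijective_apply,
        SA, MulAction.mem_stabilizer_set]
      constructor
      · intro h x; exact h x
      · intro h x
        rcases eq_or_ne x z with rfl | hx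
        · rw [show (g : Equiv.Perm (Fin (2 * m))) • z = z from g.2]
        · exact h (⟨x, hx⟩ : β)
    rw [hcomap, OrderIso.isCoatom_iff]
    exact hco
  · intro hco
    have hlt : (M ⊓ SA).subgroupOf K < SA.subgroupOf K := by
      refine lt_of_le_of_ne (Subgroup.comap_mono inf_le_right) fun e => ?_
      have hs : Equiv.swap z u ∈ SA := by
        refine MulAction.mem_stabilizer_set.2 fun x => ?_
        rw [Equiv.Perm.smul_def]
        rcases eq_or_ne x z with rfl | hx
        · rw [Equiv.swap_apply_left]; exact iff_of_true (show (1 : ℕ) < m by omega) hzA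
        rcases eq_or_ne x u with rfl | hx'
        · rw [Equiv.swap_apply_right]; exact iff_of_true hzA (show (1 : ℕ) < m by omega)
        rw [Equiv.swap_apply_of_ne_of_ne hx hx']
      have hs' : (⟨_, hSAK hs⟩ : K) ∈ (M ⊓ SA).subgroupOf K := e ▸ hs
      have h1 : Equiv.swap z u z = z := hs'.1
      rw [Equiv.swap_apply_left] at h1
      simp [u, z, Fin.ext_iff] at h1
    have htop := hco.2 _ hlt
    rw [Subgroup.subgroupOf_eq_top] at htop
    -- the exchange of the two blocks
    haveI : NeZero (2 * m) := ⟨by omega⟩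
    let τ : Equiv.Perm (Fin (2 * m)) := Equiv.addRight w
    have hτA : ∀ x : Fin (2 * m), (τ x).val < m ↔ ¬ x.val < m := by
      intro x
      show (x + w).val < m ↔ _
      rw [Fin.val_add]
      have hx := x.isLt
      show (x.val + m) % (2 * m) < m ↔ _
      rcases lt_or_ge x.val m with h | h
      · rw [Nat.mod_eq_of_lt (by omega)]; omega
      · rw [Nat.mod_eq_sub_mod (by omega), Nat.mod_eq_of_lt (by omega)]; omega
    have hτK : τ ∈ K := fun x y => by
      simp only [f, hτA]
      split_ifs <;> simp_all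
    have h2 := (MulAction.mem_stabilizer_set.1 (htop hτK) z).2 hzA
    rw [Equiv.Perm.smul_def] at h2
    exact (hτA z).1 h2 (show (0 : ℕ) < m by omega)

end Cfsg.Agent.S5894
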