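import Mathlib
-- import your own Cfsg.Agent.* helpers here

set_option autoImplicit false

namespace Cfsg.Agent.S5895

/-- For every prime p and every d ≥ 2 there is a finite group G with a maximal subgroup M of index p^d and a maximal subgroup H of M that is not second maximal in G: some maximal subgroup K of G contains H without H being maximal in K. (One may take G the affine group V ⋊ GL(V) of V = 𝔽_p^d, M = GL(V), H the stabiliser in M of a line W of V, and K = V ⋊ H, with H < W ⋊ H < K.) So the prime-index hypothesis in the second-maximality criterion cannot be relaxed to prime-power index. -/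
theorem result (p d : ℕ) (hp : p.Prime)
    (hd : 2 ≤ d) :
    ∃ (G : Type) (_ : Group G) (_ : Finite G) (M H K : Subgroup G), IsCoatom M ∧ M.index = p ^ d ∧ H ≤ M ∧
      IsCoatom (H.subgroupOf M) ∧ IsCoatom K ∧ H ≤ K ∧ ¬ IsCoatom (H.subgroupOf K) := by
  classical
  haveI := Fact.mk hp
  let V := Fin d → ZMod p
  let L := V ≃ₗ[ZMod p] V
  let φ : L →* MulAut (Multiplicative V) :=
    { toFun := fun f => AddEquiv.toMultiplicative f.toAddEquiv
      map_one' := rfl
      map_mul' := fun f g => rfl }
  let G := Multiplicative V ⋊[φ] L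
  haveI : Finite L := Finite.of_injective (fun f : L => (f : V → V)) DFunLike.coe_injective
  haveI : Finite G := Finite.of_equiv _ (SemidirectProduct.equivProd (φ := φ)).symm
  let e : Fin d → V := fun i => Pi.single i 1
  have he : ∀ i, e i ≠ 0 := fun i h => by
    have := congrFun h i
    simp [e, V] at this
  let i0 : Fin d := ⟨0, by omega⟩
  let i1 : Fin d := ⟨1, by omega⟩
  let P := Projectivization.mk (ZMod p) (e i0) (he i0)
  let S : Subgroup L := MulAction.stabilizer L P
  haveI : Nontrivial (Projectivization (ZMod p) V) := by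
    refine ⟨P, Projectivization.mk (ZMod p) (e i1) (he i1), fun h => ?_⟩
    rw [Projectivization.mk_eq_mk_iff] at h
    obtain ⟨a, ha⟩ := h
    have h1 := congrFun ha i0
    change (a : ZMod p) * (Pi.single i1 1 : Fin d → ZMod p) i0 = (Pi.single i0 1 : Fin d → ZMod p) i0 at h1
    simp [i0, i1] at h1
  haveI : MulAction.IsPreprimitive L (Projectivization (ZMod p) V) :=
    MulAction.isPreprimitive_of_is_two_pretransitive
      (Projectivization.linearEquiv_is_two_pretransitive _ _)
  have hS : IsCoatom S := MulAction.IsPreprimitive.isCoatom_stabilizer_of_isPreprimitive (G := L) P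
  let M : Subgroup G := (SemidirectProduct.inr : L →* G).range
  have hmemM : ∀ g : G, g ∈ M ↔ g.left = 1 := fun g => ⟨fun ⟨l, h⟩ => h ▸ rfl,
    fun h => ⟨g.right, SemidirectProduct.ext h.symm rfl⟩⟩
  have hM : M.index = p ^ d := by
    have h1 := M.card_mul_index
    have h2 : Nat.card M = Nat.card L :=
      (Nat.card_congr (MonoidHom.ofInjective SemidirectProduct.inr_injective).toEquiv).symm
    have h3 : Nat.card G = Nat.card (Multiplicative V) * Nat.card L := by
      rw [Nat.card_congr SemidirectProduct.equivProd, Nat.card_prod]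
    rw [h2, h3, mul_comm (Nat.card (Multiplicative V))] at h1
    rw [Nat.eq_of_mul_eq_mul_left Nat.card_pos h1]
    show Nat.card V = p ^ d
    rw [Nat.card_fun, Nat.card_zmod, Nat.card_fin]
  let H : Subgroup G := S.map (SemidirectProduct.inr : L →* G)
  let K : Subgroup G := S.comap SemidirectProduct.rightHom
  have hHM : H ≤ M := fun _ ⟨l, _, h⟩ => ⟨l, h⟩
  have hHK : H ≤ K := fun _ ⟨l, hl, h⟩ => h ▸ hl
  refine ⟨G, inferInstance, inferInstance, M, H, K, ?_, hM, hHM, ?_, ?_, hHK, ?_⟩
  · refine ⟨fun h => ?_, fun X hX => ?_⟩
    · have := (hmemM ⟨Multiplicative.ofAdd (e i0), 1⟩).mp (h ▸ Subgroup.mem_top _)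
      exact he i0 (congrArg Multiplicative.toAdd this)
    · obtain ⟨g, hgX, hgM⟩ := SetLike.exists_of_lt hX
      have hv : Multiplicative.toAdd g.left ≠ 0 := fun h => hgM ((hmemM g).mpr h)
      have hl : ∀ l : L, (SemidirectProduct.inr l : G) ∈ X := fun l => hX.le ⟨l, rfl⟩
      have hleft : (SemidirectProduct.inl g.left : G) ∈ X := by
        have := X.mul_mem hgX (hl g.right⁻¹)
        rwa [show g * SemidirectProduct.inr g.right⁻¹ = SemidirectProduct.inl g.left from
          SemidirectProduct.ext
            (by rw [SemidirectProduct.mul_left, SemidirectProduct.left_inr, map_one, mul_one]; rfl)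
            (by rw [SemidirectProduct.mul_right, SemidirectProduct.right_inr, mul_inv_cancel]; rfl)] at this
      rw [eq_top_iff]
      intro x _
      rw [← SemidirectProduct.inl_left_mul_inr_right x]
      refine X.mul_mem ?_ (hl _)
      by_cases hx : Multiplicative.toAdd x.left = 0
      · rw [show x.left = 1 from hx, map_one]; exact X.one_mem
      obtain ⟨f, hf⟩ := Submodule.exists_linearEquiv_restrict_eq
        ((LinearEquiv.toSpanNonzeroSingleton (ZMod p) V _ hv).symm.trans
          (LinearEquiv.toSpanNonzeroSingleton (ZMod p) V _ hx))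
      have hfx : f (Multiplicative.toAdd g.left) = Multiplicative.toAdd x.left := by
        have h1 := hf (LinearEquiv.toSpanNonzeroSingleton (ZMod p) V _ hv 1)
        simp only [LinearEquiv.trans_apply, LinearEquiv.symm_apply_apply] at h1
        simpa using h1.symm
      have hcj := SemidirectProduct.inl_aut (φ := φ) f g.left
      rw [show (φ f) g.left = x.left from hfx] at hcj
      rw [hcj]
      exact X.mul_mem (X.mul_mem (hl _) hleft) (hl _)
  · let eM : L ≃* M := MonoidHom.ofInjective SemidirectProduct.inr_injective
    have : (H.subgroupOf M).comap eM.toMonoidHom = S := by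
      ext l
      exact ⟨fun ⟨l', hl', h⟩ => SemidirectProduct.inr_injective h ▸ hl', fun hl => ⟨l, hl, rfl⟩⟩
    refine (Subgroup.isCoatom_comap eM).mp ?_
    rw [show (H.subgroupOf M).comap (eM : L →* M) = S from this]
    exact hS
  · exact Subgroup.isCoatom_comap_of_surjective SemidirectProduct.rightHom_surjective hS
  · intro hco
    let W : Submodule (ZMod p) V := Submodule.span (ZMod p) {e i0}
    have hW : ∀ l ∈ S, ∀ w ∈ W, (l : L) w ∈ W := by
      intro l hl w hw
      obtain ⟨c, rfl⟩ := Submodule.mem_span_singleton.mp hw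
      have h1 : l • P = P := hl
      simp only [P, Projectivization.smul_mk, Projectivization.mk_eq_mk_iff, LinearEquiv.smul_def] at h1
      obtain ⟨a, ha⟩ := h1
      rw [map_smul, show l (e i0) = l • e i0 from rfl, ← ha]
      exact W.smul_mem _ (Submodule.mem_span_singleton.mpr ⟨(a : ZMod p), rfl⟩)
    let X : Subgroup K :=
      { carrier := {g | Multiplicative.toAdd g.1.left ∈ W}
        one_mem' := W.zero_mem
        mul_mem' := fun {a b} ha hb => W.add_mem ha (hW _ a.2 _ hb)
        inv_mem' := fun {a} ha => by
          refine hW _ (S.inv_mem a.2) _ ?_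
          exact W.neg_mem ha }
    have hlt : H.subgroupOf K < X := by
      refine lt_of_le_of_ne (fun g hg => ?_) (fun h => ?_)
      · obtain ⟨l, _, hl⟩ := hg
        show Multiplicative.toAdd g.1.left ∈ W
        rw [show g.1.left = 1 from (congrArg SemidirectProduct.left hl).symm]
        exact W.zero_mem
      · have : (⟨⟨Multiplicative.ofAdd (e i0), 1⟩, S.one_mem⟩ : K) ∈ X :=
          Submodule.mem_span_singleton_self _
        rw [← h] at this
        obtain ⟨l, _, hl⟩ := this
        exact he i0 (congrArg (fun g : G => Multiplicative.toAdd g.left) hl).symm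
    have htop := hco.2 X hlt
    have h1 : (⟨⟨Multiplicative.ofAdd (e i1), 1⟩, S.one_mem⟩ : K) ∈ X := htop ▸ Subgroup.mem_top _
    obtain ⟨c, hc⟩ := Submodule.mem_span_singleton.mp
      (show e i1 ∈ Submodule.span (ZMod p) {e i0} from h1)
    have h2 := congrFun hc i1
    change c * (Pi.single i0 1 : Fin d → ZMod p) i1 = (Pi.single i1 1 : Fin d → ZMod p) i1 at h2
    simp [i0, i1] at h2

end Cfsg.Agent.S5895
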