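import Cfsg.Agent.S0282
-- import your own Cfsg.Agent.* helpers here

set_option autoImplicit false
open Cfsg

namespace Cfsg.Agent.S5896

open Cfsg.Agent RegularWreathProduct
open scoped commutatorElement

section
variable {D Q : Type*} [Group D] [Group Q]

def base (f : Q → D) : D ≀ᵣ Q := ⟨f, 1⟩

def baseHom : (Q → D) →* D ≀ᵣ Q where
  toFun := base
  map_one' := rfl
  map_mul' a b := by
    refine RegularWreathProduct.ext (funext fun x => ?_) (one_mul 1).symm
    simp [base]

theorem eq_base_mul_inl (w : D ≀ᵣ Q) : w = base w.left * inl w.right := by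
  refine RegularWreathProduct.ext (funext fun x => ?_) (one_mul _).symm
  simp [base]

theorem inl_conj_base (q : Q) (f : Q → D) :
    inl q * base f * (inl q)⁻¹ = base (fun x => f (q⁻¹ * x)) := by
  refine RegularWreathProduct.ext (funext fun x => ?_) (by simp [base])
  simp [base]

open Classical in
theorem inl_conj_single (q r : Q) (s : D) :
    inl q * base (Pi.mulSingle r s) * (inl q)⁻¹ = base (Pi.mulSingle (q * r) s) := by
  rw [inl_conj_base]
  congr 1
  funext x
  simp [Pi.mulSingle_apply, inv_mul_eq_iff_eq_mul]

/-- The evaluation at a coordinate, on the base of the wreath product inside its derived group. -/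
def baseDerived : Subgroup (D ≀ᵣ Q) := commutator (D ≀ᵣ Q) ⊓ (rightHom : D ≀ᵣ Q →* Q).ker

def evalHom (q : Q) : (baseDerived : Subgroup (D ≀ᵣ Q)) →* D where
  toFun w := w.1.left q
  map_one' := rfl
  map_mul' a b := by
    have ha : a.1.right = 1 := a.2.2
    simp [ha]

open Classical in
theorem evalHom_surjective {q : Q} (hq : q ≠ 1) :
    Function.Surjective (evalHom (D := D) q) := fun s => by
  refine ⟨⟨_, Subgroup.commutator_mem_commutator (Subgroup.mem_top (inl q : D ≀ᵣ Q))
    (Subgroup.mem_top (base (Pi.mulSingle 1 s))), by simp [commutatorElement_def, base]⟩, ?_⟩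
  show (⁅(inl q : D ≀ᵣ Q), base (Pi.mulSingle 1 s)⁆).left q = s
  rw [commutatorElement_def, inl_conj_single]
  simp [base, Ne.symm hq, hq]

theorem map_derived_le {W : Type*} [Group W] (K : Subgroup W) (hK : K ≤ commutator W) :
    ∀ d, (derivedSeries K d).map K.subtype ≤ derivedSeries W (d + 1)
  | 0 => by
    rw [derivedSeries_zero, ← MonoidHom.range_eq_map, Subgroup.range_subtype, derivedSeries_one]
    exact hK
  | d + 1 => by
    rw [derivedSeries_succ, Subgroup.map_commutator]
    exact Subgroup.commutator_mono (map_derived_le K hK d) (map_derived_le K hK d)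

theorem baseDerived_derived_ne_bot {q : Q} (hq : q ≠ 1) {d : ℕ} (hd : derivedSeries D d ≠ ⊥) :
    derivedSeries (baseDerived : Subgroup (D ≀ᵣ Q)) d ≠ ⊥ := fun h => by
  apply hd
  rw [← map_derivedSeries_eq (evalHom_surjective (D := D) hq), h, Subgroup.map_bot]

theorem derived_succ_ne_bot {q : Q} (hq : q ≠ 1) {d : ℕ} (hd : derivedSeries D d ≠ ⊥) :
    derivedSeries (D ≀ᵣ Q) (d + 1) ≠ ⊥ := fun h => by
  have := map_derived_le (baseDerived : Subgroup (D ≀ᵣ Q)) inf_le_left d
  rw [h, le_bot_iff, Subgroup.map_eq_bot_iff_of_injective _ (Subgroup.subtype_injective _)] at this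
  exact baseDerived_derived_ne_bot hq hd this

theorem isSolvable_base [Group.IsSolvable (Q → D)] [Group.IsSolvable Q] :
    Group.IsSolvable (D ≀ᵣ Q) :=
  Group.isSolvable_of_ker_le_range baseHom rightHom (fun w hw => ⟨w.left, by
    refine RegularWreathProduct.ext rfl ?_
    exact (show w.right = 1 from hw).symm⟩)

theorem derived_perfect [Finite Q] [Nontrivial Q] (hQ : commutator Q = ⊤) :
    ⁅commutator (D ≀ᵣ Q), commutator (D ≀ᵣ Q)⁆ = commutator (D ≀ᵣ Q) := by
  classical
  refine le_antisymm (Subgroup.commutator_le_self _) ?_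
  set N := ⁅commutator (D ≀ᵣ Q), commutator (D ≀ᵣ Q)⁆
  haveI : N.Normal := Subgroup.commutator_normal _ _
  let π := QuotientGroup.mk' N
  have hinlW : ∀ q : Q, inl q ∈ commutator (D ≀ᵣ Q) := by
    intro q
    have : q ∈ commutator Q := hQ ▸ Subgroup.mem_top q
    have h := Subgroup.mem_map_of_mem (inl : Q →* D ≀ᵣ Q) this
    rw [commutator_def, Subgroup.map_commutator] at h
    exact Subgroup.commutator_mono le_top le_top h
  have hinl : ∀ q : Q, inl q ∈ N := by
    intro q
    have : q ∈ (⁅(⊤ : Subgroup Q), (⊤ : Subgroup Q)⁆ : Subgroup Q) := by rw [← commutator_def, hQ]; exact Subgroup.mem_top q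
    have h := Subgroup.mem_map_of_mem (inl : Q →* D ≀ᵣ Q) this
    rw [Subgroup.map_commutator] at h
    have hr : (⊤ : Subgroup Q).map (inl : Q →* D ≀ᵣ Q) ≤ commutator (D ≀ᵣ Q) :=
      Subgroup.map_le_iff_le_comap.mpr fun y _ => hinlW y
    exact Subgroup.commutator_mono hr hr h
  have hπ : ∀ q : Q, π (inl q) = 1 := fun q => (QuotientGroup.eq_one_iff _).mpr (hinl q)
  let φ : (Q → D) →* (D ≀ᵣ Q) ⧸ N := π.comp baseHom
  have hmove : ∀ r q s, φ (Pi.mulSingle r s) = φ (Pi.mulSingle (q * r) s) := fun r q s => by
    show π (base _) = π (base _)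
    rw [← inl_conj_single q r s, map_mul, map_mul, map_inv, hπ]
    simp
  obtain ⟨q0, hq0⟩ := exists_ne (1 : Q)
  have hsingle : ∀ r s r' t, Commute (φ (Pi.mulSingle r s)) (φ (Pi.mulSingle r' t)) := by
    intro r s r' t
    rw [hmove r (r⁻¹) s |>.trans (by rw [inv_mul_cancel]),
      hmove r' (r'⁻¹) t |>.trans (by rw [inv_mul_cancel]), hmove 1 q0 s, mul_one]
    refine Commute.map ?_ φ
    exact Pi.mulSingle_commute hq0 _ _
  have hall : ∀ f g : Q → D, Commute (φ f) (φ g) := by
    haveI := Fintype.ofFinite Q
    have h1 : ∀ r s (g : Q → D), Commute (φ (Pi.mulSingle r s)) (φ g) := fun r s g => by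
      have : g ∈ (Subgroup.centralizer {φ (Pi.mulSingle r s)}).comap φ :=
        Subgroup.pi_mem_of_mulSingle_mem g fun r' => Subgroup.mem_centralizer_singleton_iff.mpr
          (hsingle r' (g r') r s).eq
      exact (Subgroup.mem_centralizer_singleton_iff.mp this).symm
    intro f g
    have : f ∈ (Subgroup.centralizer {φ g}).comap φ :=
      Subgroup.pi_mem_of_mulSingle_mem f fun r => Subgroup.mem_centralizer_singleton_iff.mpr
        (h1 r (f r) g).eq
    exact Subgroup.mem_centralizer_singleton_iff.mp this
  rw [commutator_def, Subgroup.commutator_le]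
  intro a _ b _
  rw [← QuotientGroup.eq_one_iff]
  show π ⁅a, b⁆ = 1
  rw [map_commutatorElement, commutatorElement_eq_one_iff_commute, eq_base_mul_inl a,
    eq_base_mul_inl b, map_mul, map_mul, hπ, hπ, mul_one, mul_one]
  exact hall _ _

end

theorem exists_solvable : ∀ d : ℕ, ∃ (S : Type) (_ : Group S) (_ : Finite S),
    Group.IsSolvable S ∧ derivedSeries S d ≠ ⊥
  | 0 => ⟨Multiplicative (ZMod 2), inferInstance, inferInstance, inferInstance, top_ne_bot⟩
  | d + 1 => by
    obtain ⟨S, _, _, hs, hd⟩ := exists_solvable d
    haveI : Group.IsSolvable (Multiplicative (ZMod 2) → S) := by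
      obtain ⟨n, hn⟩ := hs
      refine ⟨⟨n, eq_bot_iff.mpr fun f hf => funext fun r => ?_⟩⟩
      have := map_derivedSeries_le_derivedSeries (Pi.evalMonoidHom (fun _ => S) r) n
        (Subgroup.mem_map_of_mem _ hf)
      rw [hn] at this
      exact this
    refine ⟨S ≀ᵣ Multiplicative (ZMod 2), inferInstance, inferInstance, isSolvable_base, ?_⟩
    exact derived_succ_ne_bot (q := Multiplicative.ofAdd (1 : ZMod 2)) (by decide) hd

/-- Finite perfect groups have solvable maximal subgroups of unbounded derived length: for every d there is a finite perfect group G (equal to its commutator subgroup) with a solvable maximal subgroup H whose derived length exceeds d, i.e. the d-th term of the derived series of H is non-trivial. (Take the derived subgroup of a wreath product S ≀ A₅ with S solvable of large derived length, and H the preimage of a maximal subgroup of A₅.) -/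
theorem result (d : ℕ) :
    ∃ (G : Type) (_ : Group G) (_ : Finite G) (H : Subgroup G), commutator G = ⊤ ∧ IsCoatom H ∧ Group.IsSolvable H ∧
      derivedSeries H d ≠ ⊥ := by
  obtain ⟨S, _, _, hs, hd⟩ := exists_solvable d
  let A := alternatingGroup (Fin 5)
  haveI : IsSimpleGroup A := alternatingGroup.isSimpleGroup_five
  haveI : Nontrivial A := IsSimpleGroup.toNontrivial
  have hA : commutator A = ⊤ := by
    rcases IsSimpleGroup.eq_bot_or_eq_top_of_normal (commutator A) inferInstance with h | h
    · exfalso
      have h2 : ∀ a b : A, a * b = b * a := fun a b => by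
        have : ⁅a, b⁆ ∈ commutator A := Subgroup.commutator_mem_commutator (Subgroup.mem_top a) (Subgroup.mem_top b)
        rw [h, Subgroup.mem_bot, commutatorElement_eq_one_iff_mul_comm] at this
        exact this
      have := h2 ⟨Equiv.swap (0 : Fin 5) 1 * Equiv.swap 1 2, Equiv.Perm.mem_alternatingGroup.mpr (by decide)⟩
        ⟨Equiv.swap (2 : Fin 5) 3 * Equiv.swap 3 4, Equiv.Perm.mem_alternatingGroup.mpr (by decide)⟩
      revert this
      decide
    · exact h
  let W := S ≀ᵣ A
  let G := commutator W
  have hsurj : Function.Surjective ((rightHom : W →* A).comp G.subtype) := fun q => by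
    have : q ∈ commutator A := hA ▸ Subgroup.mem_top q
    have h := Subgroup.mem_map_of_mem (inl : A →* W) this
    rw [commutator_def, Subgroup.map_commutator] at h
    exact ⟨⟨inl q, Subgroup.commutator_mono le_top le_top h⟩, rfl⟩
  let T := MulAction.stabilizer A (0 : Fin 5)
  have hT : IsCoatom T := by
    haveI := alternatingGroup.isPreprimitive_of_three_le_card (α := Fin 5) (by simp)
    exact MulAction.IsPreprimitive.isCoatom_stabilizer_of_isPreprimitive (G := A) (0 : Fin 5)
  let H := T.comap ((rightHom : W →* A).comp G.subtype)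
  refine ⟨G, inferInstance, inferInstance, H, ?_, ?_, ?_, ?_⟩
  · refine Subgroup.map_injective G.subtype_injective ?_
    rw [commutator_def, Subgroup.map_commutator, ← MonoidHom.range_eq_map, Subgroup.range_subtype]
    exact derived_perfect hA
  · exact Subgroup.isCoatom_comap_of_surjective hsurj hT
  · let φ : H →* T :=
      { toFun := fun w => ⟨((w.1 : W)).right, w.2⟩
        map_one' := rfl
        map_mul' := fun a b => rfl }
    haveI : Group.IsSolvable T := by
      let e : T →* Equiv.Perm {x : Fin 5 // x ≠ 0} :=
        { toFun := fun t => (t.1.1).subtypePerm (fun x => by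
            have h0 : t.1.1 0 = 0 := t.2
            exact not_congr ⟨fun e => t.1.1.injective (e.trans h0.symm), fun e => by rw [e, h0]⟩)
          map_one' := Equiv.ext fun x => rfl
          map_mul' := fun a b => Equiv.ext fun x => rfl }
      let e' := (Equiv.permCongrHom (finSuccAboveEquiv (0 : Fin 5)).symm).toMonoidHom.comp e
      haveI := S0282.isSolvable_perm_fin_four
      refine Group.isSolvable_of_isSolvable_injective (f := e') ?_
      refine (Equiv.permCongrHom _).injective.comp fun a b h => ?_
      refine Subtype.ext (Subtype.ext (Equiv.ext fun x => ?_))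
      rcases eq_or_ne x 0 with rfl | hx
      · exact (show a.1.1 0 = 0 from a.2).trans (show b.1.1 0 = 0 from b.2).symm
      · exact congrArg Subtype.val (Equiv.congr_fun h ⟨x, hx⟩)
    haveI : Group.IsSolvable (A → S) := by
      obtain ⟨n, hn⟩ := hs
      refine ⟨⟨n, eq_bot_iff.mpr fun f hf => funext fun r => ?_⟩⟩
      have := map_derivedSeries_le_derivedSeries (Pi.evalMonoidHom (fun _ => S) r) n
        (Subgroup.mem_map_of_mem _ hf)
      rw [hn] at this
      exact this
    let ψ : φ.ker →* (A → S) :=
      { toFun := fun w => ((w.1.1 : W)).left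
        map_one' := rfl
        map_mul' := fun a b => by
          have ha : (a.1.1 : W).right = 1 := congrArg Subtype.val a.2
          show _ * _ = _
          funext x
          simp [ha] }
    haveI : Group.IsSolvable φ.ker := Group.isSolvable_of_isSolvable_injective (f := ψ) fun a b h => by
      refine Subtype.ext (Subtype.ext (Subtype.ext (RegularWreathProduct.ext h ?_)))
      exact (congrArg Subtype.val a.2).trans (congrArg Subtype.val b.2).symm
    exact Group.isSolvable_of_ker_le_range φ.ker.subtype φ (by rw [Subgroup.range_subtype])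
  · intro h
    let j : (baseDerived : Subgroup W) →* H :=
      { toFun := fun w => ⟨⟨w.1, w.2.1⟩, by
          show (w.1 : W).right ∈ T
          rw [show (w.1 : W).right = 1 from w.2.2]; exact T.one_mem⟩
        map_one' := rfl
        map_mul' := fun a b => rfl }
    obtain ⟨q0, hq0⟩ := exists_ne (1 : A)
    apply baseDerived_derived_ne_bot (D := S) hq0 hd
    have := map_derivedSeries_le_derivedSeries j d
    rw [h, le_bot_iff, Subgroup.map_eq_bot_iff_of_injective] at this
    · exact this
    · intro a b e
      exact Subtype.ext (congrArg (fun x : H => (x.1 : W)) e)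

end Cfsg.Agent.S5896
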