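import Cfsg.Statements.S5902
import Cfsg.Agent.S5901

set_option autoImplicit false
open Cfsg

namespace Cfsg.Agent.S5902

/-- Let G be a finite group, X a subgroup whose own subgroup lattice is complemented, and suppose X lies in exactly one maximal subgroup M of G. Then every subgroup H of G not contained in the normal core of M has a complement in the subgroup lattice of G (some C with H ⊔ C = G and H ⊓ C = 1); in particular the subgroup lattice of G modulo the normal core of M is complemented. -/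
theorem result {G : Type*} [Group G] [Finite G] (X M : Subgroup G)
    (hK : ComplementedLattice (Subgroup X))
    (hM : IsCoatom M) (hXM : X ≤ M) (huniq : ∀ M' : Subgroup G, IsCoatom M' → X ≤ M' → M' = M) :
    (∀ H : Subgroup G, ¬ H ≤ M.normalCore → ∃ C : Subgroup G, H ⊔ C = ⊤ ∧ H ⊓ C = ⊥) ∧
    ComplementedLattice (Subgroup (G ⧸ M.normalCore)) := by
  classical
  have hint : ∀ Y : Subgroup G, (⊥ : Subgroup G) ≤ Y → Y ≤ X →
      ∃ C : Subgroup G, ⊥ ≤ C ∧ C ≤ X ∧ Y ⊔ C = X ∧ Y ⊓ C = ⊥ := by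
    intro Y _ hY
    obtain ⟨C, hC⟩ := hK.exists_isCompl (Y.subgroupOf X)
    refine ⟨C.map X.subtype, bot_le, Subgroup.map_subtype_le C, ?_, ?_⟩
    · have h := congrArg (Subgroup.map X.subtype) hC.sup_eq_top
      rw [Subgroup.map_sup, Subgroup.map_subgroupOf_eq_of_le hY, ← MonoidHom.range_eq_map,
        Subgroup.range_subtype] at h
      exact h
    · have h := congrArg (Subgroup.map X.subtype) hC.inf_eq_bot
      rw [Subgroup.map_inf_eq _ _ _ X.subtype_injective, Subgroup.map_subgroupOf_eq_of_le hY,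
        Subgroup.map_bot] at h
      exact h
  have main : ∀ H : Subgroup G, ¬ H ≤ M.normalCore → ∃ C : Subgroup G, H ⊔ C = ⊤ ∧ H ⊓ C = ⊥ := by
    intro H hH
    obtain ⟨h, hh, g, hg⟩ : ∃ h ∈ H, ∃ g : G, g * h * g⁻¹ ∉ M := by
      by_contra hc
      push Not at hc
      exact hH fun h hh g => hc h hh g
    have hX : X ≠ ⊤ := fun e => hM.1 (top_le_iff.1 (e ▸ hXM))
    obtain ⟨C, h1, h2⟩ := Cfsg.Agent.S5901.result ⊥ X M bot_le hX hint hM hXM huniq
      (H.map (MulAut.conj g : G ≃* G).toMonoidHom) (fun hle => hg (hle ⟨h, hh, rfl⟩)) (inf_bot_eq _)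
    refine ⟨C.map (MulAut.conj g : G ≃* G).symm.toMonoidHom, ?_, ?_⟩
    · have h3 := congrArg (Subgroup.map (MulAut.conj g : G ≃* G).symm.toMonoidHom) h1
      rw [Subgroup.map_sup, Subgroup.map_map, Subgroup.map_top_of_surjective _
        (MulAut.conj g : G ≃* G).symm.surjective] at h3
      simpa [← MulEquiv.coe_monoidHom_trans] using h3
    · have h3 := congrArg (Subgroup.map (MulAut.conj g : G ≃* G).symm.toMonoidHom) h2
      rw [Subgroup.map_inf_eq _ _ _ (MulAut.conj g : G ≃* G).symm.injective, Subgroup.map_map,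
        Subgroup.map_bot] at h3
      simpa [← MulEquiv.coe_monoidHom_trans] using h3
  refine ⟨main, ⟨fun Hbar => ?_⟩⟩
  set π := QuotientGroup.mk' M.normalCore
  have hπ : Function.Surjective π := QuotientGroup.mk'_surjective _
  have hker : π.ker = M.normalCore := QuotientGroup.ker_mk' _
  have hHmap : (Hbar.comap π).map π = Hbar := Subgroup.map_comap_eq_self_of_surjective hπ Hbar
  by_cases hle : Hbar.comap π ≤ M.normalCore
  · have hb : Hbar = ⊥ := by
      rw [← hHmap, eq_bot_iff, Subgroup.map_le_iff_le_comap, MonoidHom.comap_bot, hker]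
      exact hle
    exact ⟨⊤, hb ▸ isCompl_bot_top⟩
  obtain ⟨C, h1, h2⟩ := main _ hle
  refine ⟨C.map π, IsCompl.of_eq ?_ ?_⟩
  · refine eq_bot_iff.2 ?_
    rintro x ⟨hx, c, hc, rfl⟩
    have : c ∈ Hbar.comap π ⊓ C := ⟨hx, hc⟩
    rw [h2, Subgroup.mem_bot] at this
    simp [this]
  · conv_lhs => rw [← hHmap]
    rw [← Subgroup.map_sup, h1, Subgroup.map_top_of_surjective π hπ]

end Cfsg.Agent.S5902
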