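import Cfsg.Statements.S5903
import Cfsg.Agent.S5901

set_option autoImplicit false
open Cfsg

namespace Cfsg.Agent.S5903

/-- Let G be a finite simple group, X a subgroup lying in exactly one maximal subgroup M of G, and N a subgroup of prime order with N ≤ X that is central in M. If the subgroup lattice of X/N is complemented, then the subgroup lattice of G is complemented. -/
theorem result {G : Type*} [Group G] [Finite G] [IsSimpleGroup G] (X M N : Subgroup G)
    (hM : IsCoatom M) (hXM : X ≤ M) (huniq : ∀ M' : Subgroup G, IsCoatom M' → X ≤ M' → M' = M)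
    (hNX : N ≤ X) (hN : (Nat.card N).Prime) (hcen : ∀ n ∈ N, ∀ m ∈ M, m * n = n * m)
    [(N.subgroupOf X).Normal] (hK : ComplementedLattice (Subgroup (X ⧸ N.subgroupOf X))) :
    ComplementedLattice (Subgroup G) := by
  classical
  set π := QuotientGroup.mk' (N.subgroupOf X)
  have hπ : Function.Surjective π := QuotientGroup.mk'_surjective _
  have hker : π.ker = N.subgroupOf X := QuotientGroup.ker_mk' _
  have hint : ∀ Y : Subgroup G, N ≤ Y → Y ≤ X →
      ∃ C : Subgroup G, N ≤ C ∧ C ≤ X ∧ Y ⊔ C = X ∧ Y ⊓ C = N := by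
    intro Y hNY hY
    obtain ⟨C, hC⟩ := hK.exists_isCompl ((Y.subgroupOf X).map π)
    have hYc : ((Y.subgroupOf X).map π).comap π = Y.subgroupOf X := by
      refine Subgroup.comap_map_eq_self ?_
      rw [hker]
      exact Subgroup.comap_mono hNY
    refine ⟨(C.comap π).map X.subtype, ?_, Subgroup.map_subtype_le _, ?_, ?_⟩
    · conv_lhs => rw [← Subgroup.map_subgroupOf_eq_of_le hNX, ← hker]
      exact Subgroup.map_mono (Subgroup.comap_mono bot_le)
    · conv_lhs => rw [← Subgroup.map_subgroupOf_eq_of_le hY, ← hYc]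
      rw [← Subgroup.map_sup, Subgroup.comap_sup_eq _ _ _ hπ, hC.sup_eq_top, Subgroup.comap_top,
        ← MonoidHom.range_eq_map, Subgroup.range_subtype]
    · conv_lhs => rw [← Subgroup.map_subgroupOf_eq_of_le hY, ← hYc]
      rw [← Subgroup.map_inf_eq _ _ _ X.subtype_injective, ← Subgroup.comap_inf, hC.inf_eq_bot,
        MonoidHom.comap_bot, hker, Subgroup.map_subgroupOf_eq_of_le hNX]
  have hX : X ≠ ⊤ := fun e => hM.1 (top_le_iff.1 (e ▸ hXM))
  have hN0 : N ≠ ⊥ := fun e => hN.ne_one (by rw [e, Subgroup.card_bot])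
  refine ⟨fun H => ?_⟩
  rcases eq_or_ne H ⊥ with rfl | hH0
  · exact ⟨⊤, isCompl_bot_top⟩
  rcases eq_or_ne H ⊤ with rfl | hH1
  · exact ⟨⊥, isCompl_top_bot⟩
  -- a good conjugate
  obtain ⟨g, hgM, hgN⟩ : ∃ g : G, ¬ H.map (MulAut.conj g : G ≃* G).toMonoidHom ≤ M ∧
      H.map (MulAut.conj g : G ≃* G).toMonoidHom ⊓ N = ⊥ := by
    by_contra hc
    push Not at hc
    have hnorm : ∀ (g : G), ∀ n ∈ N, g⁻¹ * n * g ∈ Subgroup.normalizer (H : Set G) := by
      intro g n hn
      by_cases hgM : H.map (MulAut.conj g : G ≃* G).toMonoidHom ≤ M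
      · have hcomm : ∀ h ∈ H, (g⁻¹ * n * g) * h = h * (g⁻¹ * n * g) := fun h hh => by
          have h1 := hcen n hn (g * h * g⁻¹) (hgM ⟨h, hh, rfl⟩)
          calc (g⁻¹ * n * g) * h = g⁻¹ * (n * (g * h * g⁻¹)) * g := by group
            _ = g⁻¹ * ((g * h * g⁻¹) * n) * g := by rw [h1]
            _ = h * (g⁻¹ * n * g) := by group
        rw [Subgroup.mem_normalizer_iff]
        intro h
        constructor
        · intro hh
          rwa [hcomm h hh, mul_inv_cancel_right]
        · intro hh
          have h1 := hcomm _ hh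
          have h2 : (g⁻¹ * n * g) * h * (g⁻¹ * n * g)⁻¹ = h := by
            refine mul_left_cancel (a := g⁻¹ * n * g) ?_
            rw [h1, inv_mul_cancel_right]
          rwa [h2] at hh
      · have h1 : H.map (MulAut.conj g : G ≃* G).toMonoidHom ⊓ N ≠ ⊥ := hc g hgM
        have hle : N ≤ H.map (MulAut.conj g : G ≃* G).toMonoidHom := by
          have hdvd := Subgroup.card_dvd_of_le
            (inf_le_right : H.map (MulAut.conj g : G ≃* G).toMonoidHom ⊓ N ≤ N)
          rcases hN.eq_one_or_self_of_dvd _ hdvd with h2 | h2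
          · exact absurd (Subgroup.card_eq_one.1 h2) h1
          · exact inf_eq_right.1 (Subgroup.eq_of_le_of_card_ge inf_le_right h2.ge)
        obtain ⟨h, hh, hhn⟩ := hle hn
        refine Subgroup.le_normalizer ?_
        rw [← hhn]
        simpa [MulAut.conj_apply, mul_assoc] using hh
    have htop : Subgroup.normalClosure (N : Set G) = ⊤ := by
      rcases IsSimpleGroup.eq_bot_or_eq_top_of_normal _
        (Subgroup.normalClosure_normal (s := (N : Set G))) with h | h
      · exact absurd (eq_bot_iff.2 (h ▸ Subgroup.subset_normalClosure)) hN0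
      · exact h
    have hle : Subgroup.normalClosure (N : Set G) ≤ Subgroup.normalizer (H : Set G) := by
      rw [Subgroup.normalClosure, Subgroup.closure_le]
      intro x hx
      obtain ⟨n, hn, hnx⟩ := Group.mem_conjugatesOfSet_iff.1 hx
      obtain ⟨c, rfl⟩ := isConj_iff.1 hnx
      simpa using hnorm c⁻¹ n hn
    have hHn : H.Normal := Subgroup.normalizer_eq_top_iff.1 (top_le_iff.1 (htop ▸ hle))
    rcases IsSimpleGroup.eq_bot_or_eq_top_of_normal H hHn with h | h
    · exact hH0 h
    · exact hH1 h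
  obtain ⟨C, h1, h2⟩ := Cfsg.Agent.S5901.result N X M hNX hX hint hM hXM huniq _ hgM hgN
  refine ⟨C.map (MulAut.conj g : G ≃* G).symm.toMonoidHom, IsCompl.of_eq ?_ ?_⟩
  · have h3 := congrArg (Subgroup.map (MulAut.conj g : G ≃* G).symm.toMonoidHom) h2
    rw [Subgroup.map_inf_eq _ _ _ (MulAut.conj g : G ≃* G).symm.injective, Subgroup.map_map,
      Subgroup.map_bot] at h3
    simpa [← MulEquiv.coe_monoidHom_trans] using h3
  · have h3 := congrArg (Subgroup.map (MulAut.conj g : G ≃* G).symm.toMonoidHom) h1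
    rw [Subgroup.map_sup, Subgroup.map_map, Subgroup.map_top_of_surjective _
      (MulAut.conj g : G ≃* G).symm.surjective] at h3
    simpa [← MulEquiv.coe_monoidHom_trans] using h3

end Cfsg.Agent.S5903
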