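import Cfsg.Statements.S5904


set_option autoImplicit false
open scoped Pointwise
open Cfsg

namespace Cfsg.Agent.S5904

/-- Let Ω be a finite set with more than two elements and O ⊆ Ω a subset with exactly as many elements as its complement. Then the setwise stabilizer of O in the symmetric group on Ω is not a maximal subgroup (it is properly contained in the stabilizer of the partition {O, Ω ∖ O}, which is proper). -/
theorem result {Ω : Type*} [Fintype Ω] [DecidableEq Ω] (hΩ : 2 < Fintype.card Ω)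
    (O : Set Ω) (hO : Nat.card O = Nat.card ↥Oᶜ) :
    ¬ IsCoatom (MulAction.stabilizer (Equiv.Perm Ω) O) := by
  classical
  intro hco
  have hcard : Nat.card O + Nat.card ↥Oᶜ = Fintype.card Ω := by
    rw [← Nat.card_sum, Nat.card_eq_fintype_card (α := O ⊕ ↥Oᶜ)]
    exact Fintype.card_congr (Equiv.Set.sumCompl O)
  have h2 : 2 ≤ Nat.card O := by omega
  let e : O ≃ ↥Oᶜ := (Finite.equivFinOfCardEq rfl).trans (Finite.equivFinOfCardEq hO.symm).symm
  let τ : Equiv.Perm Ω := (Equiv.Set.sumCompl O).symm.trans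
    (((Equiv.sumComm O ↥Oᶜ).trans (Equiv.sumCongr e.symm e)).trans (Equiv.Set.sumCompl O))
  have hτ : τ • O = Oᶜ := by
    ext x
    rw [Set.mem_smul_set]
    constructor
    · rintro ⟨y, hy, rfl⟩
      have : τ y = (e ⟨y, hy⟩ : Ω) := by
        simp [τ, Equiv.Set.sumCompl_symm_apply_of_mem hy]
      show τ y ∈ Oᶜ
      rw [this]
      exact (e ⟨y, hy⟩).2
    · intro hx
      refine ⟨(e.symm ⟨x, hx⟩ : Ω), (e.symm ⟨x, hx⟩).2, ?_⟩
      show τ _ = x
      simp [τ, Equiv.Set.sumCompl_symm_apply_of_mem (e.symm ⟨x, hx⟩).2]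
  have hne : O ≠ Oᶜ := fun e => by
    obtain ⟨x, hx⟩ : O.Nonempty := by
      by_contra h
      rw [Set.not_nonempty_iff_eq_empty] at h
      rw [h] at h2
      simp at h2
    exact (e ▸ hx : x ∈ Oᶜ) hx
  let K : Subgroup (Equiv.Perm Ω) := MulAction.stabilizer (Equiv.Perm Ω) ({O, Oᶜ} : Set (Set Ω))
  have hle : MulAction.stabilizer (Equiv.Perm Ω) O ≤ K := by
    intro g hg
    have hgc : g • Oᶜ = Oᶜ := by
      rw [Set.smul_set_compl, MulAction.mem_stabilizer_iff.1 hg]
    rw [MulAction.mem_stabilizer_iff, Set.smul_set_insert, Set.smul_set_singleton,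
      MulAction.mem_stabilizer_iff.1 hg, hgc]
  have hτK : τ ∈ K := by
    have hτc : τ • Oᶜ = O := by rw [Set.smul_set_compl, hτ, compl_compl]
    rw [MulAction.mem_stabilizer_iff, Set.smul_set_insert, Set.smul_set_singleton, hτ, hτc]
    exact Set.pair_comm _ _
  have hKtop : K ≠ ⊤ := by
    intro htop
    obtain ⟨x, hx, x', hx', hxx'⟩ : ∃ x ∈ O, ∃ x' ∈ O, x ≠ x' := by
      have : 1 < O.ncard := by rw [← Nat.card_coe_set_eq]; omega
      exact (Set.one_lt_ncard).1 this
    obtain ⟨y, hy⟩ : (Oᶜ : Set Ω).Nonempty := ⟨_, (e ⟨x, hx⟩).2⟩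
    have hmem : Equiv.swap x y ∈ K := htop ▸ Subgroup.mem_top _
    rw [MulAction.mem_stabilizer_iff, Set.smul_set_insert, Set.smul_set_singleton] at hmem
    have hyO : y ∈ Equiv.swap x y • O :=
      Set.mem_smul_set.2 ⟨x, hx, Equiv.swap_apply_left x y⟩
    have hx'O : x' ∈ Equiv.swap x y • O := Set.mem_smul_set.2 ⟨x', hx',
      Equiv.swap_apply_of_ne_of_ne (Ne.symm hxx') (fun e => hy (e ▸ hx'))⟩
    have : Equiv.swap x y • O ∈ ({O, Oᶜ} : Set (Set Ω)) := hmem ▸ Set.mem_insert _ _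
    rcases this with h | h
    · exact hy (h ▸ hyO)
    · exact (h ▸ hx'O : x' ∈ Oᶜ) hx'

  have h := (hco.le_iff_eq hKtop).1 hle
  exact hne ((MulAction.mem_stabilizer_iff.1 (h ▸ hτK)).symm.trans hτ)

end Cfsg.Agent.S5904
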