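import Cfsg.Statements.S5908
import Cfsg.Agent.Lib.Invol.U32
-- import your own Cfsg.Agent.* helpers here

set_option autoImplicit false
open Cfsg

namespace Cfsg.Agent.S5908

theorem q8_prime : ∀ y : QuaternionGroup 2, (y ^ 2 = 1 ∨ y ^ 3 = 1) →
    (y = 1 ∨ y = QuaternionGroup.a 2) := by
  decide

theorem q8_ne : (QuaternionGroup.xa 0 : QuaternionGroup 2) ≠ 1 ∧
    (QuaternionGroup.xa 0 : QuaternionGroup 2) ≠ QuaternionGroup.a 2 := by
  decide

/-- The subgroup lattice of PSU₃(2) (the solvable group of order 72, realised over the field with 4 elements) is not complemented: some subgroup H has no subgroup X with H ⊔ X = ⊤ and H ⊓ X = ⊥. -/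
theorem result {F : Type*} [Field F] [Fintype F] (hF : Fintype.card F = 4) :
    ¬ ComplementedLattice (Subgroup (Cfsg.PSU 3 F 2)) := by
  intro hC
  haveI := hC
  obtain ⟨N, hNn, hN9, -, ⟨e⟩⟩ := U32.structure_u32 hF
  haveI := hNn
  obtain ⟨hcard, -⟩ := S0282.result hF
  let ψ : Cfsg.PSU 3 F 2 →* QuaternionGroup 2 := e.toMonoidHom.comp (QuotientGroup.mk' N)
  have hψs : Function.Surjective ψ := e.surjective.comp (QuotientGroup.mk'_surjective N)
  let H := (Subgroup.zpowers (QuaternionGroup.a 2 : QuaternionGroup 2)).comap ψ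
  have hHtop : H ≠ ⊤ := by
    intro h
    obtain ⟨x, hx⟩ := hψs (QuaternionGroup.xa 0)
    have hx' : ψ x ∈ Subgroup.zpowers (QuaternionGroup.a 2 : QuaternionGroup 2) := by
      have : x ∈ H := h ▸ Subgroup.mem_top x
      exact this
    obtain ⟨k, hk⟩ := hx'
    rw [hx] at hk
    have hsq : (QuaternionGroup.a 2 : QuaternionGroup 2) ^ (2 : ℕ) = 1 := by decide
    rcases Int.even_or_odd k with ⟨m, rfl⟩ | ⟨m, rfl⟩
    · refine q8_ne.1 (hk.symm.trans ?_)
      show (QuaternionGroup.a 2 : QuaternionGroup 2) ^ (m + m) = 1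
      rw [← two_mul, zpow_mul, zpow_ofNat, hsq, one_zpow]
    · refine q8_ne.2 (hk.symm.trans ?_)
      show (QuaternionGroup.a 2 : QuaternionGroup 2) ^ (2 * m + 1) = _
      rw [zpow_add, zpow_mul, zpow_ofNat, hsq, one_zpow, one_mul, zpow_one]
  obtain ⟨X, hX⟩ := exists_isCompl H
  by_cases hXb : X = ⊥
  · refine hHtop ?_
    have := hX.codisjoint.eq_top
    rwa [hXb, sup_bot_eq] at this
  have hXc : Nat.card X ≠ 1 := fun h => hXb (Subgroup.eq_bot_of_card_eq _ h)
  obtain ⟨p, hp, hpd⟩ := Nat.exists_prime_and_dvd hXc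
  haveI := Fact.mk hp
  obtain ⟨⟨x, hxX⟩, hxo⟩ := exists_prime_orderOf_dvd_card' p hpd
  rw [Subgroup.orderOf_mk] at hxo
  have hp23 : p = 2 ∨ p = 3 := by
    have h72 : p ∣ 2 ^ 3 * 3 ^ 2 := by
      have := hpd.trans (Subgroup.card_subgroup_dvd_card X)
      rw [hcard] at this
      exact this
    rcases hp.dvd_mul.1 h72 with h | h
    · exact Or.inl ((Nat.prime_dvd_prime_iff_eq hp Nat.prime_two).1 (hp.dvd_of_dvd_pow h))
    · exact Or.inr ((Nat.prime_dvd_prime_iff_eq hp Nat.prime_three).1 (hp.dvd_of_dvd_pow h))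
  have hxp : x ^ p = 1 := hxo ▸ pow_orderOf_eq_one x
  have hpre : ψ x ^ 2 = 1 ∨ ψ x ^ 3 = 1 := by
    rcases hp23 with rfl | rfl
    · exact Or.inl (by rw [← map_pow, hxp, map_one])
    · exact Or.inr (by rw [← map_pow, hxp, map_one])
  have hxH : x ∈ H := by
    show ψ x ∈ Subgroup.zpowers (QuaternionGroup.a 2 : QuaternionGroup 2)
    rcases q8_prime _ hpre with h | h <;> rw [h]
    · exact one_mem _
    · exact Subgroup.mem_zpowers _
  have := Subgroup.disjoint_def.1 hX.disjoint hxH hxX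
  rw [this, orderOf_one] at hxo
  exact hp.ne_one hxo.symm

end Cfsg.Agent.S5908
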