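import Cfsg.Agent.Lib.PermGp.SymIndex
-- import your own Cfsg.Agent.* helpers here

set_option autoImplicit false
open Cfsg

namespace Cfsg.Agent.S5911

open Cfsg.Agent MulAction

/-- Let Ω be a finite set whose size n is not 6. Then every subgroup of the symmetric group on Ω of index n is the stabilizer of a point. -/
theorem result {Ω : Type*} [Fintype Ω] [DecidableEq Ω] (h6 : Fintype.card Ω ≠ 6)
    (H : Subgroup (Equiv.Perm Ω)) (hH : H.index = Fintype.card Ω) :
    ∃ x : Ω, H = MulAction.stabilizer (Equiv.Perm Ω) x := by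
  by_cases h2 : 2 ≤ Fintype.card Ω
  · by_contra hne
    push_neg at hne
    exact h6 (SymIndex.exceptional hH hne h2).1
  · have h1 : Fintype.card Ω = 1 := by
      have := Subgroup.index_ne_zero_of_finite (H := H)
      omega
    obtain ⟨x, hx⟩ := Fintype.card_eq_one_iff.mp h1
    refine ⟨x, ?_⟩
    rw [h1, Subgroup.index_eq_one] at hH
    rw [hH]
    exact (Subgroup.eq_top_iff' _ |>.mpr fun g => hx _).symm

end Cfsg.Agent.S5911
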