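import Cfsg.Agent.Lib.PermGp.SymSix
-- import your own Cfsg.Agent.* helpers here

set_option autoImplicit false
open Cfsg

namespace Cfsg.Agent.S5912

open Cfsg.Agent MulAction

/-- The symmetric group on a 6-element set Ω has exactly two conjugacy classes of subgroups of index 6: there are two non-conjugate subgroups of index 6 (a point stabilizer and a transitive subgroup isomorphic to S₅), and every subgroup of index 6 is conjugate to one of them. -/
theorem result {Ω : Type*} [Fintype Ω] [DecidableEq Ω] (h6 : Fintype.card Ω = 6) :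
    ∃ H₁ H₂ : Subgroup (Equiv.Perm Ω), H₁.index = 6 ∧ H₂.index = 6 ∧
      (¬ ∃ g : Equiv.Perm Ω, Subgroup.map (MulAut.conj g).toMonoidHom H₁ = H₂) ∧
      ∀ H : Subgroup (Equiv.Perm Ω), H.index = 6 →
        ∃ g : Equiv.Perm Ω, Subgroup.map (MulAut.conj g).toMonoidHom H₁ = H ∨ Subgroup.map (MulAut.conj g).toMonoidHom H₂ = H := by
  obtain ⟨e, hne, hall⟩ := SymIndex.six_families h6
  obtain ⟨x⟩ : Nonempty Ω := Fintype.card_pos_iff.mp (by omega)
  refine ⟨stabilizer (Equiv.Perm Ω) x, (stabilizer (Equiv.Perm Ω) x).comap e.toMonoidHom,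
    by rw [SymIndex.stab_index, h6], by rw [SymIndex.index_comap_stab, h6], ?_, fun H hH => ?_⟩
  · rintro ⟨g, hg⟩
    rw [SymIndex.map_conj_stab] at hg
    exact hne _ _ hg.symm
  · obtain ⟨y, hy | hy⟩ := hall H hH
    · exact ⟨Equiv.swap x y, Or.inl (by rw [SymIndex.map_conj_stab, Equiv.swap_apply_left, hy])⟩
    · exact ⟨e.symm (Equiv.swap x y), Or.inr (by
        rw [SymIndex.comap_stab_conj, Equiv.swap_apply_left, hy])⟩

end Cfsg.Agent.S5912
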