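import Cfsg.Statements.S5913


set_option autoImplicit false
open Cfsg

namespace Cfsg.Agent.S5913

/-- Let S be a non-abelian simple group and n a natural number. Every normal subgroup N of the direct power S^n (functions Fin n → S) is a subproduct: there is a set T of coordinates such that N consists exactly of the elements whose coordinates outside T are trivial. In particular the minimal normal subgroups of S^n are its n factors. -/
theorem result {S : Type*} [Group S] [IsSimpleGroup S] (hS : ¬ IsMulCommutative S) (n : ℕ)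
    (N : Subgroup (Fin n → S)) [N.Normal] :
    ∃ T : Finset (Fin n), ∀ x : Fin n → S, x ∈ N ↔ ∀ i, i ∉ T → x i = 1 := by
  classical
  refine ⟨Finset.univ.filter fun i => ∃ x ∈ N, x i ≠ 1, fun x => ?_⟩
  constructor
  · intro hx i hi
    by_contra hne
    exact hi (Finset.mem_filter.2 ⟨Finset.mem_univ i, x, hx, hne⟩)
  intro hx
  rw [← Finset.noncommProd_mulSingle x]
  refine Subgroup.noncommProd_mem _ _ fun i _ => ?_
  by_cases hi : ∃ y ∈ N, y i ≠ 1
  · obtain ⟨y, hy, hyi⟩ := hi
    obtain ⟨s, hs⟩ : ∃ s : S, y i * s ≠ s * y i := by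
      by_contra hc
      push Not at hc
      have hz : y i ∈ Subgroup.center S := Subgroup.mem_center_iff.2 fun s => (hc s).symm
      rcases IsSimpleGroup.eq_bot_or_eq_top_of_normal (Subgroup.center S) inferInstance with h | h
      · rw [h, Subgroup.mem_bot] at hz; exact hyi hz
      · exact hS ⟨⟨fun a b => (Subgroup.mem_center_iff.1 (h ▸ Subgroup.mem_top b) a)⟩⟩
    let N' : Subgroup S := N.comap (MonoidHom.mulSingle (fun _ : Fin n => S) i)
    have hN' : N'.Normal := Subgroup.Normal.comap inferInstance _
    rcases IsSimpleGroup.eq_bot_or_eq_top_of_normal N' hN' with h | h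
    · exfalso
      have hm : y i * s * (y i)⁻¹ * s⁻¹ ∈ N' := by
        show Pi.mulSingle i (y i * s * (y i)⁻¹ * s⁻¹) ∈ N
        have e : Pi.mulSingle i (y i * s * (y i)⁻¹ * s⁻¹) =
            y * (Pi.mulSingle i s * y⁻¹ * (Pi.mulSingle i s)⁻¹) := by
          funext j
          rcases eq_or_ne j i with rfl | hji
          · simp [mul_assoc]
          · simp [hji]
        rw [e]
        exact N.mul_mem hy (Subgroup.Normal.conj_mem inferInstance _ (N.inv_mem hy) _)
      rw [h, Subgroup.mem_bot, mul_inv_eq_one, mul_inv_eq_iff_eq_mul] at hm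
      exact hs hm
    · exact (h ▸ Subgroup.mem_top _ : _ ∈ N')
  · have h1 := hx i (fun h => hi (Finset.mem_filter.1 h).2)
    rw [h1, Pi.mulSingle_one]
    exact N.one_mem

end Cfsg.Agent.S5913
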