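import Cfsg.Agent.Lib.PermGp.MinNormalPow
import Mathlib.GroupTheory.SemidirectProduct
-- import your own Cfsg.Agent.* helpers here

set_option autoImplicit false
open Cfsg

namespace Cfsg.Agent.S5914

open Cfsg.Agent Cfsg.Agent.CompLen Cfsg.Agent.PermGp

/-- A copy of `Fin k` with no algebraic instances. -/
def Carrier (k : ℕ) : Type := Fin k

theorem fwd_aux {G : Type*} [Group G] [Finite G] [Nontrivial G]
    (hc : ∀ H : Subgroup G, H.Characteristic → H = ⊥ ∨ H = ⊤) :
    ∃ (S : Type) (_ : Group S) (_ : IsSimpleGroup S) (n : ℕ), 1 ≤ n ∧ Nonempty (G ≃* (Fin n → S)) := by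
  classical
  let φ : MulAut G →* MulAut G := MonoidHom.id _
  let X := G ⋊[φ] MulAut G
  haveI : Finite (MulAut G) := inferInstance
  haveI : Finite X := Finite.of_equiv _ SemidirectProduct.equivProd.symm
  let ι : G →* X := SemidirectProduct.inl
  let N : Subgroup X := ι.range
  haveI hNn : N.Normal := by
    have : N = (SemidirectProduct.rightHom : X →* MulAut G).ker :=
      SemidirectProduct.range_inl_eq_ker_rightHom
    rw [this]; infer_instance
  let e : G ≃* N := MonoidHom.ofInjective SemidirectProduct.inl_injective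
  have hN : N ≠ ⊥ := by
    rw [← Subgroup.nontrivial_iff_ne_bot]
    exact e.symm.toEquiv.nontrivial
  have hmin : ∀ A : Subgroup X, A.Normal → A ≤ N → A ≠ ⊥ → A = N := by
    intro A hA hAN hA1
    have hchar : (A.comap ι).Characteristic := by
      refine Subgroup.characteristic_iff_comap_eq.mpr fun f => ?_
      have key : ∀ g : G, ∀ f : MulAut G, ι g ∈ A → ι (f g) ∈ A := fun g f hg => by
        rw [show ι (f g) = (SemidirectProduct.inr f : X) * ι g * (SemidirectProduct.inr f)⁻¹ from ?_]
        · exact hA.conj_mem _ hg _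
        · rw [← map_inv]; exact (SemidirectProduct.inl_aut (φ := φ) f g)
      ext g
      simp only [Subgroup.mem_comap, MulEquiv.coe_toMonoidHom]
      refine ⟨fun h => ?_, key g f⟩
      have := key (f g) f⁻¹ h
      simpa using this
    rcases hc _ hchar with h | h
    · exfalso
      apply hA1
      rw [eq_bot_iff]
      intro a ha
      obtain ⟨g, rfl⟩ := hAN ha
      have : g ∈ A.comap ι := ha
      rw [h, Subgroup.mem_bot] at this
      simp [this]
    · apply le_antisymm hAN
      rintro _ ⟨g, rfl⟩
      have : g ∈ A.comap ι := by rw [h]; exact Subgroup.mem_top g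
      exact this
  by_cases hcm : Comm N N
  · obtain ⟨p, hp, -, m, hm, ⟨F⟩⟩ := exists_power_of_comm hN hmin hcm
    haveI := Fact.mk hp
    exact ⟨Multiplicative (ZMod p), inferInstance, isSimpleGroup_of_prime_card (p := p) (by simp), m, hm,
      ⟨e.trans F⟩⟩
  · obtain ⟨A, m, hA, hm, ⟨F⟩⟩ := exists_power_of_not_comm hN hmin hcm
    let u : Carrier (Nat.card A) ≃ A := (Finite.equivFin A).symm
    letI := u.group
    haveI : IsSimpleGroup (Carrier (Nat.card A)) :=
      u.mulEquiv.isSimpleGroup
    exact ⟨Carrier (Nat.card A), inferInstance, inferInstance, m, hm,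
      ⟨(e.trans F).trans (MulEquiv.piCongrRight fun _ => u.mulEquiv.symm)⟩⟩

theorem bwd_aux {S : Type*} [Group S] [IsSimpleGroup S] {n : ℕ} (hn : 1 ≤ n)
    (H : Subgroup (Fin n → S)) (hH : H.Characteristic) : H = ⊥ ∨ H = ⊤ := by
  classical
  haveI := Subgroup.normal_of_characteristic H
  by_cases hb : H = ⊥
  · exact Or.inl hb
  right
  obtain ⟨h, hh, hh1⟩ := H.bot_or_exists_ne_one.resolve_left hb
  obtain ⟨i, hi⟩ : ∃ i, h i ≠ 1 := by
    by_contra hne
    push_neg at hne
    exact hh1 (funext hne)
  have hfix : ∀ (f : (Fin n → S) ≃* (Fin n → S)) x, x ∈ H → f x ∈ H := fun f x hx => by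
    have := Subgroup.characteristic_iff_map_eq.mp hH f
    rw [← this]
    exact Subgroup.mem_map_of_mem _ hx
  let K : Fin n → Subgroup S := fun j => H.comap (MonoidHom.mulSingle (fun _ : Fin n => S) j)
  have hK : ∀ j, K j ≠ ⊥ → K j = ⊤ := fun j hj =>
    ((show (K j).Normal from inferInstance).eq_bot_or_eq_top).resolve_left hj
  have hperm : ∀ j k, K j ≠ ⊥ → K k ≠ ⊥ := by
    intro j k hj
    obtain ⟨a, ha, ha1⟩ := (K j).bot_or_exists_ne_one.resolve_left hj
    let f : (Fin n → S) ≃* (Fin n → S) :=
      { Equiv.arrowCongr (Equiv.swap j k) (Equiv.refl S) with map_mul' := fun x y => rfl }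
    have hmem := hfix f _ ha
    have hsingle : f (Pi.mulSingle j a) = Pi.mulSingle k a := by
      funext l
      show (Pi.mulSingle j a : Fin n → S) ((Equiv.swap j k).symm l) = _
      rw [Equiv.symm_swap]
      by_cases hl : l = k
      · subst hl; simp
      · have : Equiv.swap j k l ≠ j := fun h => hl (by
          have := congrArg (Equiv.swap j k) h
          simpa using this)
        rw [Pi.mulSingle_eq_of_ne this, Pi.mulSingle_eq_of_ne hl]
    have hmem' : f (Pi.mulSingle j a) ∈ H := hmem
    rw [hsingle] at hmem'
    exact fun hk => ha1 (Subgroup.mem_bot.mp (hk ▸ (show a ∈ K k from hmem')))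
  obtain ⟨j, hj⟩ : ∃ j, K j ≠ ⊥ := by
    by_cases hcomm : ∀ a b : S, a * b = b * a
    · by_cases hex : ∃ j : Fin n, j ≠ i
      · obtain ⟨j, hji⟩ := hex
        refine ⟨j, fun hj => hi ?_⟩
        let f : (Fin n → S) ≃* (Fin n → S) :=
          { toFun := fun x => x * Pi.mulSingle j (x i)
            invFun := fun x => x * (Pi.mulSingle j (x i))⁻¹
            left_inv := fun x => by
              simp [Pi.mulSingle_eq_of_ne hji.symm, mul_assoc]
            right_inv := fun x => by
              simp [Pi.mulSingle_eq_of_ne hji.symm, mul_assoc]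
            map_mul' := fun x y => by
              funext l
              by_cases hl : l = j
              · subst hl; simp [mul_assoc]
                rw [← mul_assoc (y l), hcomm (y l) (x i), mul_assoc]
              · simp [Pi.mulSingle_eq_of_ne hl] }
        have hmem : h⁻¹ * f h ∈ H := H.mul_mem (H.inv_mem hh) (hfix f h hh)
        have : h⁻¹ * f h = Pi.mulSingle j (h i) := by
          show h⁻¹ * (h * Pi.mulSingle j (h i)) = _
          simp
        rw [this] at hmem
        exact Subgroup.mem_bot.mp (hj ▸ (show h i ∈ K j from hmem))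
      · push_neg at hex
        refine ⟨i, fun hj => hi (Subgroup.mem_bot.mp (hj ▸ (show h i ∈ K i from ?_)))⟩
        show Pi.mulSingle i (h i) ∈ H
        convert hh using 1
        funext l
        rw [hex l]; simp
    · refine ⟨i, fun hj => ?_⟩
      have hcen : ∀ s : S, h i * s = s * h i := by
        intro s
        have hmem : h * Pi.mulSingle i s * h⁻¹ * (Pi.mulSingle i s)⁻¹ ∈ H := by
          rw [mul_assoc, mul_assoc]
          refine H.mul_mem hh ?_
          rw [← mul_assoc]
          exact (inferInstance : H.Normal).conj_mem _ (H.inv_mem hh) _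
        have heq : h * Pi.mulSingle i s * h⁻¹ * (Pi.mulSingle i s)⁻¹
            = Pi.mulSingle i (h i * s * (h i)⁻¹ * s⁻¹) := by
          funext l
          by_cases hl : l = i
          · subst hl; simp
          · simp [Pi.mulSingle_eq_of_ne hl]
        rw [heq] at hmem
        have h1 : h i * s * (h i)⁻¹ * s⁻¹ = 1 :=
          Subgroup.mem_bot.mp (hj ▸ (show _ ∈ K i from hmem))
        rwa [mul_inv_eq_one, mul_inv_eq_iff_eq_mul] at h1
      apply hcomm
      have hZ : Subgroup.center S = ⊤ := by
        refine (inferInstance : (Subgroup.center S).Normal).eq_bot_or_eq_top.resolve_left fun hZ => hi ?_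
        rw [← Subgroup.mem_bot, ← hZ, Subgroup.mem_center_iff]
        exact fun s => (hcen s).symm
      intro a b
      have ha : a ∈ Subgroup.center S := hZ ▸ Subgroup.mem_top a
      exact ((Subgroup.mem_center_iff.mp ha) b).symm
  rw [eq_top_iff]
  intro x _
  refine Subgroup.pi_mem_of_mulSingle_mem x fun k => ?_
  have : x k ∈ K k := by rw [hK k (hperm j k hj)]; exact Subgroup.mem_top _
  exact this

/-- A non-trivial finite group G is characteristically simple (its only characteristic subgroups are 1 and G) if and only if G is isomorphic to a direct power S^n (n ≥ 1) of some simple group S (possibly cyclic of prime order). -/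
theorem result {G : Type*} [Group G] [Finite G] [Nontrivial G] :
    (∀ H : Subgroup G, H.Characteristic → H = ⊥ ∨ H = ⊤) ↔
    ∃ (S : Type) (_ : Group S) (_ : IsSimpleGroup S) (n : ℕ), 1 ≤ n ∧ Nonempty (G ≃* (Fin n → S)) := by
  refine ⟨fwd_aux, ?_⟩
  rintro ⟨S, _, _, n, hn, ⟨e⟩⟩ H hH
  have hH' : (H.map e.toMonoidHom).Characteristic := by
    refine Subgroup.characteristic_iff_map_eq.mpr fun f => ?_
    have := Subgroup.characteristic_iff_map_eq.mp hH ((e.trans f).trans e.symm)
    conv_rhs => rw [← this]
    rw [Subgroup.map_map, Subgroup.map_map]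
    congr 1
    ext x; simp
  rcases bwd_aux hn _ hH' with h | h
  · left; exact (Subgroup.map_eq_bot_iff_of_injective _ e.injective).mp h
  · right
    have : Function.Injective (Subgroup.map e.toMonoidHom) := Subgroup.map_injective e.injective
    apply this
    rw [h, Subgroup.map_top_of_surjective _ e.surjective]

end Cfsg.Agent.S5914
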