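import Cfsg.Statements.S5938
import Cfsg.Agent.Lib.SL2.DicksonMax

set_option autoImplicit false
open Cfsg

namespace Cfsg.Agent.S5938

/-- Let p be a prime with p ≡ ±1 (mod 8) and F a field with p elements. Then PSL_2(F) has a maximal subgroup isomorphic to the symmetric group S_4. -/
theorem result {F : Type*} [Field F] [Fintype F] (p : ℕ) [Fact p.Prime] (hF : Fintype.card F = p) (hp : p % 8 = 1 ∨ p % 8 = 7) : ∃ H : Subgroup (Matrix.ProjectiveSpecialLinearGroup (Fin 2) F), IsCoatom H ∧ Nonempty (H ≃* Equiv.Perm (Fin 4)) := by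
  classical
  haveI : CharP F p := by
    obtain ⟨n, hp', hn⟩ := FiniteField.card F (ringChar F)
    have e : ringChar F = p := (Nat.prime_dvd_prime_iff_eq hp' Fact.out).1
      ((dvd_pow_self _ n.ne_zero).trans (dvd_of_eq (hn.symm.trans hF)))
    exact e ▸ ringChar.charP F
  have hpp : p.Prime := Fact.out
  have h7 : 7 ≤ p := by have := hpp.two_le; omega
  obtain ⟨t, ht⟩ := SL2.exists_sqrt_two (F := F) (by
    rw [hF, Nat.pow_mod]
    obtain h | h | h | h : p % 16 = 1 ∨ p % 16 = 7 ∨ p % 16 = 9 ∨ p % 16 = 15 := by omega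
    all_goals rw [h])
  obtain ⟨H, ⟨e⟩⟩ := SL2.exists_perm_four (SL2.two_ne_zero' (by rw [hF]; exact hpp.odd_of_ne_two (by omega))) ht
  exact ⟨H, SL2.coatom_perm_four (p := p) hF h7 e, ⟨e⟩⟩

end Cfsg.Agent.S5938
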