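import Cfsg.Statements.S5939
import Cfsg.Agent.Lib.SL2.DicksonMax

set_option autoImplicit false
open Cfsg

namespace Cfsg.Agent.S5939

/-- Let p be a prime and F a finite field of characteristic p such that either F has p elements and p ≡ ±1 (mod 10), or F has p² elements and p ≡ ±3 (mod 10). Then PSL_2(F) has a maximal subgroup isomorphic to the alternating group A_5. -/
theorem result {F : Type*} [Field F] [Fintype F] (p : ℕ) [Fact p.Prime] [CharP F p] (h : (Fintype.card F = p ∧ (p % 10 = 1 ∨ p % 10 = 9)) ∨ (Fintype.card F = p ^ 2 ∧ (p % 10 = 3 ∨ p % 10 = 7))) : ∃ H : Subgroup (Matrix.ProjectiveSpecialLinearGroup (Fin 2) F), IsCoatom H ∧ Nonempty (H ≃* alternatingGroup (Fin 5)) := by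
  classical
  obtain ⟨t, ht⟩ := SL2.exists_phi (F := F) (by
    have h5 : 5 ∣ Fintype.card F - 1 ∨ 5 ∣ Fintype.card F + 1 := by
      rcases h with ⟨hq, h⟩ | ⟨hq, h⟩ <;> rw [hq]
      · omega
      · have : p ^ 2 % 10 = 9 := by
          rw [Nat.pow_mod]
          rcases h with h | h <;> rw [h]
        omega
    rcases h5 with h5 | h5
    · exact dvd_mul_of_dvd_right (dvd_mul_of_dvd_left h5 _) _
    · exact dvd_mul_of_dvd_right (dvd_mul_of_dvd_right h5 _) _)
  obtain ⟨H, ⟨e⟩⟩ := SL2.exists_alt_five ht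
  exact ⟨H, SL2.coatom_alt_five_exists (p := p) h e, ⟨e⟩⟩

end Cfsg.Agent.S5939
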