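import Cfsg.Statements.S5941
import Cfsg.Agent.Lib.SL2.DicksonMax

set_option autoImplicit false
open Cfsg

namespace Cfsg.Agent.S5941

/-- Let K and F be finite fields of odd characteristic with #F = (#K)². Then PSL_2(F) has a maximal subgroup isomorphic to PGL_2(K). -/
theorem result {F K : Type*} [Field F] [Fintype F] [Field K] [Fintype K] (q : ℕ) (hK : Fintype.card K = q) (hF : Fintype.card F = q ^ 2) (hq : Odd q) : ∃ H : Subgroup (Matrix.ProjectiveSpecialLinearGroup (Fin 2) F), IsCoatom H ∧ Nonempty (H ≃* Matrix.ProjGenLinGroup (Fin 2) K) := by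
  classical
  subst hK
  have hodd : Odd (Fintype.card F) := hF ▸ hq.pow
  have hk : 3 ≤ Fintype.card K := by
    have := Fintype.one_lt_card (α := K)
    obtain ⟨j, hj⟩ := hq
    omega
  obtain ⟨φ⟩ := SL2.exists_embedding (F := F) (K := K) hF.symm two_ne_zero
  have hchar : ringChar F ≠ 2 := fun h => by
    have := FiniteField.even_card_of_char_two (F := F) h
    obtain ⟨j, hj⟩ := hodd
    omega
  obtain ⟨H, hH⟩ : ∃ H : Subgroup (Matrix.ProjectiveSpecialLinearGroup (Fin 2) F),
      H.map (SL2.conjEmb 1) = SL2.pg φ := ⟨(SL2.pg φ).comap (SL2.conjEmb 1), by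
    rw [Subgroup.map_comap_eq, SL2.range_conjEmb,
      inf_eq_right.2 (SL2.pg_le_R0 (SL2.isSquare_of_even hF.symm even_two hchar))]⟩
  exact ⟨H, SL2.coatom_subfield φ Nat.prime_two hF.symm hk (Or.inr ⟨hodd, rfl, hH⟩),
    SL2.iso_of_map_eq_pg hH⟩

end Cfsg.Agent.S5941
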