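import Cfsg.Statements.S5944


set_option autoImplicit false
open Cfsg

namespace Cfsg.Agent.S5944

/-- For n ≠ 4, every proper subgroup of the symmetric group S_n other than the alternating group A_n has index at least n. -/
theorem result (n : ℕ) (hn : n ≠ 4) (H : Subgroup (Equiv.Perm (Fin n))) (hH : H ≠ ⊤) (hA : H ≠ alternatingGroup (Fin n)) : n ≤ H.index := by
  classical
  by_contra hlt
  push Not at hlt
  have hnc : Nat.card (Equiv.Perm (Fin n) ⧸ H) = H.index := rfl
  have h1 : 1 < H.index := by
    have h0 : H.index ≠ 0 := Subgroup.index_ne_zero_of_finite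
    have h1' : H.index ≠ 1 := fun e => hH (Subgroup.index_eq_one.1 e)
    omega
  have hn3 : 3 ≤ n := by omega
  haveI : Nontrivial (Fin n) := Fin.nontrivial_iff_two_le.2 (by omega)
  by_cases h5 : 5 ≤ n
  · haveI := H.normalCore_normal
    rcases Subgroup.bot_or_nontrivial H.normalCore with hb | hnt
    · let φ := MulAction.toPermHom (Equiv.Perm (Fin n)) (Equiv.Perm (Fin n) ⧸ H)
      have hinj : Function.Injective φ := by
        rw [← MonoidHom.ker_eq_bot_iff, ← Subgroup.normalCore_eq_ker, hb]
      have h2 := Nat.card_le_card_of_injective φ hinj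
      rw [Nat.card_perm, Nat.card_perm, hnc, Nat.card_fin] at h2
      exact absurd h2 (not_le.2 ((Nat.factorial_lt (by omega)).2 hlt))
    · have hle : alternatingGroup (Fin n) ≤ H :=
        (Equiv.Perm.alternatingGroup_le_of_normal (by rwa [Nat.card_fin]) hnt).trans
          (Subgroup.normalCore_le H)
      have hd := Subgroup.index_dvd_of_le hle
      rw [alternatingGroup.index_eq_two] at hd
      have h2 : H.index = 2 := by
        rcases (Nat.dvd_prime Nat.prime_two).1 hd with h | h
        · omega
        · exact h
      exact hA (Equiv.Perm.eq_alternatingGroup_of_index_eq_two h2)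
  · have h3 : n = 3 := by omega
    exact hA (Equiv.Perm.eq_alternatingGroup_of_index_eq_two (by omega))

end Cfsg.Agent.S5944
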