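import Cfsg.Agent.Lib.PermGp.SymSix
-- import your own Cfsg.Agent.* helpers here

set_option autoImplicit false
open Cfsg

namespace Cfsg.Agent.S5945

open Cfsg.Agent MulAction

/-- The symmetric group S_6 has exactly 12 subgroups of index 6; each of them is isomorphic to S_5, and at least one of them is not the stabilizer of any point. -/
theorem result : Nat.card {H : Subgroup (Equiv.Perm (Fin 6)) // H.index = 6} = 12 ∧ (∀ H : Subgroup (Equiv.Perm (Fin 6)), H.index = 6 → Nonempty (H ≃* Equiv.Perm (Fin 5))) ∧ ∃ H : Subgroup (Equiv.Perm (Fin 6)), H.index = 6 ∧ ∀ a : Fin 6, H ≠ MulAction.stabilizer (Equiv.Perm (Fin 6)) a := by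
  have h6 : Fintype.card (Fin 6) = 6 := Fintype.card_fin 6
  obtain ⟨e, hne, hall⟩ := SymIndex.six_families h6
  refine ⟨?_, fun H hH => ?_, _, by rw [SymIndex.index_comap_stab e 0, h6], fun a => hne 0 a⟩
  · let f : Fin 6 ⊕ Fin 6 → {H : Subgroup (Equiv.Perm (Fin 6)) // H.index = 6} := fun s =>
      match s with
      | .inl x => ⟨stabilizer (Equiv.Perm (Fin 6)) x, by rw [SymIndex.stab_index, h6]⟩
      | .inr x => ⟨(stabilizer (Equiv.Perm (Fin 6)) x).comap e.toMonoidHom,
          by rw [SymIndex.index_comap_stab, h6]⟩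
    have hinj := SymIndex.stab_injective (α := Fin 6) (by simp)
    have hb : Function.Bijective f := by
      refine ⟨?_, fun H => ?_⟩
      · rintro (x | x) (y | y) h <;> have h' := congrArg Subtype.val h
        · rw [hinj h']
        · exact absurd h'.symm (hne y x)
        · exact absurd h' (hne x y)
        · rw [hinj (Subgroup.comap_injective (f := e.toMonoidHom) e.surjective h')]
      · obtain ⟨x, hx | hx⟩ := hall H.1 H.2
        · exact ⟨.inl x, Subtype.ext hx.symm⟩
        · exact ⟨.inr x, Subtype.ext hx.symm⟩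
    rw [← Nat.card_eq_of_bijective f hb, Nat.card_sum, Nat.card_fin]
  · obtain ⟨x, hx⟩ := hall H hH
    obtain ⟨u⟩ := SymIndex.stab_iso x
    obtain ⟨v⟩ : Nonempty ({y : Fin 6 // y ≠ x} ≃ Fin 5) :=
      ⟨(finSuccAboveEquiv x).symm⟩
    rcases hx with rfl | rfl
    · exact ⟨u.trans v.permCongrHom⟩
    · exact ⟨((MulEquiv.subgroupCongr (Subgroup.comap_equiv_eq_map_symm' e _)).trans
        (e.symm.subgroupMap _).symm).trans (u.trans v.permCongrHom)⟩

end Cfsg.Agent.S5945
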