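import Cfsg.Statements.S5946
import Cfsg.Agent.Lib.TransvMax.Singer

set_option autoImplicit false
open Cfsg

namespace Cfsg.Agent.S5946

/-- Let F ⊆ K be finite fields with [K : F] = n ≥ 2 and regard K as an n-dimensional F-vector space. The Singer group M ≤ GL_F(K) of multiplications by the non-zero elements of K is self-centralizing: every F-linear automorphism of K commuting with all of M lies in M. -/
theorem result {F K : Type*} [Field F] [Fintype F] [Field K] [Fintype K] [Algebra F K] (n : ℕ) (hn : 2 ≤ n) (hdim : Module.finrank F K = n) :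
    Subgroup.centralizer (((Units.map ((Algebra.lmul F K : K →ₐ[F] Module.End F K) : K →* Module.End F K)).range : Subgroup (Module.End F K)ˣ) : Set (Module.End F K)ˣ) = (Units.map ((Algebra.lmul F K : K →ₐ[F] Module.End F K) : K →* Module.End F K)).range := by
  refine le_antisymm (fun g hg => ?_) ?_
  · rw [Cfsg.Agent.TransvMax.mem_singer]
    refine ⟨Units.mk0 _ (Cfsg.Agent.TransvMax.unit_apply_ne_zero g one_ne_zero), fun x => ?_⟩
    rcases eq_or_ne x 0 with rfl | hx
    · rw [map_zero, mul_zero]
    have h := hg (Units.map ((Algebra.lmul F K : K →ₐ[F] Module.End F K) : K →* Module.End F K)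
      (Units.mk0 x hx)) ⟨_, rfl⟩
    have h1 := congrArg (fun u : (Module.End F K)ˣ => (u : Module.End F K) 1) h
    have h2 : x * (g : Module.End F K) 1 = (g : Module.End F K) (x * 1) := h1
    rw [mul_one] at h2
    rw [Units.val_mk0, ← h2, mul_comm]
  · rintro _ ⟨a, rfl⟩ _ ⟨b, rfl⟩
    rw [← map_mul, ← map_mul, mul_comm]

end Cfsg.Agent.S5946
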