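import Cfsg.Agent.Lib.TransvMax.Singer
-- import your own Cfsg.Agent.* helpers here

set_option autoImplicit false
open Cfsg

namespace Cfsg.Agent.S5947

open Cfsg.Agent

/-- A vector with trivial annihilator in a commutative algebra whose elements are fixed by a
power map. -/
theorem exists_free_vector {R V : Type*} [Semiring R] [AddCommGroup V] [Module R V] {Q : ℕ}
    (A : Set (Module.End R V)) [Finite A]
    (hcomm : ∀ a ∈ A, ∀ b ∈ A, a * b = b * a) (hmul : ∀ a ∈ A, ∀ b ∈ A, a * b ∈ A)
    (hQ : 2 ≤ Q) (hpow : ∀ a ∈ A, a ^ Q = a) :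
    ∃ v : V, ∀ a ∈ A, a v = 0 → a = 0 := by
  classical
  let P : ℕ → Prop := fun k => ∃ v : V, Set.ncard {a ∈ A | a v = 0} = k
  have hP : ∃ k, P k := ⟨_, 0, rfl⟩
  obtain ⟨v, hv⟩ := Nat.find_spec hP
  refine ⟨v, fun a ha hav => ?_⟩
  by_contra h0
  set e := a ^ (Q - 1) with he
  have hae : a * e = a := by rw [he, ← pow_succ', show Q - 1 + 1 = Q by omega, hpow a ha]
  have hee : e * e = e := by
    have : e * e = a ^ (Q - 2) * (a * e) := by
      rw [he, ← mul_assoc, ← pow_succ]; congr 2; omega
    rw [this, hae, ← pow_succ, he]; congr 1; omega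
  have heA : e ∈ A := by
    have : ∀ k, a ^ (k + 1) ∈ A := fun k => by
      induction k with
      | zero => simpa using ha
      | succ k ih => rw [pow_succ]; exact hmul _ ih _ ha
    have := this (Q - 2)
    rwa [show Q - 2 + 1 = Q - 1 by omega] at this
  have hev : e v = 0 := by
    rw [he, show Q - 1 = Q - 2 + 1 by omega, pow_succ, Module.End.mul_apply, hav, map_zero]
  obtain ⟨w, hw⟩ : ∃ w, e w ≠ 0 := by
    by_contra h
    push Not at h
    exact h0 (by rw [← hae, show e = 0 from LinearMap.ext h, mul_zero])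
  have hlt : Set.ncard {b ∈ A | b (v + e w) = 0} < Nat.find hP := by
    rw [← hv]
    refine Set.ncard_lt_ncard ⟨fun b hb => ?_, fun h => ?_⟩
      ((Set.toFinite A).subset fun b hb => hb.1)
    · obtain ⟨hbA, hb⟩ := hb
      refine ⟨hbA, ?_⟩
      have h1 := congrArg (e ·) hb
      simp only [map_zero, map_add] at h1
      rw [← Module.End.mul_apply e b, ← Module.End.mul_apply e b, hcomm e heA b hbA,
        Module.End.mul_apply, Module.End.mul_apply, hev, map_zero, zero_add,
        ← Module.End.mul_apply e e, hee] at h1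
      rw [map_add, h1, add_zero] at hb
      exact hb
    · have := (h ⟨heA, hev⟩ : e ∈ {b ∈ A | b (v + e w) = 0}).2
      rw [map_add, hev, zero_add, ← Module.End.mul_apply, hee] at this
      exact hw this
  exact Nat.find_min hP hlt ⟨v + e w, rfl⟩

/-- Let F ⊆ K be finite fields with |F| = q and [K : F] = n ≥ 2, regard K as an n-dimensional F-vector space, and let M ≤ GL_F(K) be the Singer group of multiplications by non-zero elements of K (cyclic of order q^n − 1). Assume (n, q) ≠ (6, 2), and that it is not the case that n = 2 with q a prime such that q + 1 is a power of 2. Then every abelian subgroup of GL_F(K) of order q^n − 1 is conjugate to M. -/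
theorem result {F K : Type*} [Field F] [Fintype F] [Field K] [Fintype K] [Algebra F K] (n : ℕ) (hn : 2 ≤ n) (hdim : Module.finrank F K = n)
    (hex1 : ¬ (n = 6 ∧ Fintype.card F = 2))
    (hex2 : ¬ (n = 2 ∧ (Fintype.card F).Prime ∧ ∃ a : ℕ, Fintype.card F + 1 = 2 ^ a))
    (U : Subgroup (Module.End F K)ˣ) (hU : IsMulCommutative U) (hcard : Nat.card U = Fintype.card K - 1) :
    ∃ g : (Module.End F K)ˣ, U.map (MulAut.conj g).toMonoidHom = (Units.map ((Algebra.lmul F K : K →ₐ[F] Module.End F K) : K →* Module.End F K)).range := by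
  classical
  haveI : Finite (Module.End F K) := Finite.of_injective (fun f => (f : K → K)) DFunLike.coe_injective
  set N := Fintype.card K - 1 with hN
  set Q := Fintype.card K with hQ
  have hQ2 : 2 ≤ Q := Fintype.one_lt_card
  have hu : ∀ u ∈ U, ((u : Module.End F K)) ^ Q = u := fun u hu => by
    have h1 : (⟨u, hu⟩ : U) ^ Nat.card U = 1 := pow_card_eq_one'
    rw [hcard] at h1
    have h2 : ((u : Module.End F K)) ^ N = 1 := by
      have := congrArg (fun x : U => ((x : (Module.End F K)ˣ) : Module.End F K)) h1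
      simpa using this
    rw [show Q = N + 1 by omega, pow_succ, h2, one_mul]
  set s : Set (Module.End F K) := (fun u : (Module.End F K)ˣ => (u : Module.End F K)) '' (U : Set _) with hs
  set A := Algebra.adjoin F s with hA
  have hcomm : ∀ a ∈ A, ∀ b ∈ A, a * b = b * a := fun a ha b hb => by
    refine Algebra.commute_of_mem_adjoin_of_forall_mem_commute hb ?_ |>.eq
    rintro _ ⟨u, hu', rfl⟩
    refine (Algebra.commute_of_mem_adjoin_of_forall_mem_commute ha ?_).symm
    rintro _ ⟨w, hw', rfl⟩
    have := hU.is_comm.comm (⟨u, hu'⟩ : U) ⟨w, hw'⟩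
    exact congrArg (fun x : U => ((x : (Module.End F K)ˣ) : Module.End F K)) this
  letI : CommRing A := { (inferInstance : Ring A) with
    mul_comm := fun a b => Subtype.ext (hcomm a a.2 b b.2) }
  obtain ⟨p, hp⟩ := CharP.exists F
  haveI hpp : Fact p.Prime := ⟨CharP.char_is_prime F p⟩
  haveI : Nontrivial A := ⟨0, 1, fun h => zero_ne_one (congrArg Subtype.val h : (0 : Module.End F K) = 1)⟩
  haveI : CharP A p := charP_of_injective_algebraMap (algebraMap F A).injective p
  obtain ⟨f, _, hf⟩ := FiniteField.card F p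
  have hQF : Q = Fintype.card F ^ n := by
    rw [hQ, Module.card_eq_pow_finrank (K := F), hdim]
  have hpow : ∀ a ∈ A, a ^ Q = a := by
    intro a ha
    suffices h : (⟨a, ha⟩ : A) ^ Q = ⟨a, ha⟩ from congrArg Subtype.val h
    refine Algebra.adjoin_induction (p := fun x hx => (⟨x, hx⟩ : A) ^ Q = ⟨x, hx⟩) ?_ ?_ ?_ ?_ ha
    · rintro _ ⟨u, hu', rfl⟩
      exact Subtype.ext (hu u hu')
    · intro c
      have : (algebraMap F A c) ^ Q = algebraMap F A c := by
        rw [← map_pow, hQF, FiniteField.pow_card_pow]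
      exact this
    · intro x y hx hy ihx ihy
      show ((⟨x, hx⟩ : A) + ⟨y, hy⟩) ^ Q = _
      rw [hQF, hf, ← pow_mul, add_pow_char_pow, pow_mul, ← hf, ← hQF, ihx, ihy]
      rfl
    · intro x y hx hy ihx ihy
      show ((⟨x, hx⟩ : A) * ⟨y, hy⟩) ^ Q = _
      rw [mul_pow, ihx, ihy]
      rfl
  obtain ⟨v, hv⟩ := exists_free_vector (Q := Q) (A : Set (Module.End F K)) hcomm
    (fun a ha b hb => A.mul_mem ha hb) hQ2 hpow
  have hψ : Function.Injective fun a : A => (a : Module.End F K) v := fun a b h => by
    refine Subtype.ext (sub_eq_zero.mp (hv _ (A.sub_mem a.2 b.2) ?_))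
    rw [LinearMap.sub_apply, sub_eq_zero]
    exact h
  haveI : Fintype A := Fintype.ofFinite A
  let ι : U → {a : A // a ≠ 0} := fun u =>
    ⟨⟨_, Algebra.subset_adjoin ⟨u.1, u.2, rfl⟩⟩, fun h =>
      u.1.ne_zero (congrArg Subtype.val h)⟩
  have hι : Function.Injective ι := fun u w h =>
    Subtype.ext (Units.ext (congrArg (fun x : {a : A // a ≠ 0} => (x.1 : Module.End F K)) h))
  haveI : Fintype U := Fintype.ofFinite U
  have hUA := Fintype.card_le_of_injective ι hι
  have hAK := Fintype.card_le_of_injective _ hψ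
  rw [Fintype.card_subtype_compl, Fintype.card_subtype_eq, ← Nat.card_eq_fintype_card (α := U), hcard] at hUA
  have hAeq : Fintype.card A = Fintype.card K := by omega
  have hbij := (Fintype.bijective_iff_injective_and_card _).mpr ⟨hψ, hAeq⟩
  have hιs : Function.Surjective ι := by
    refine ((Fintype.bijective_iff_injective_and_card ι).mpr ⟨hι, ?_⟩).2
    rw [Fintype.card_subtype_compl, Fintype.card_subtype_eq, ← Nat.card_eq_fintype_card (α := U), hcard,
      hAeq]
  have hfield : IsField A := ⟨⟨0, 1, zero_ne_one⟩, mul_comm, fun {a} ha => by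
    obtain ⟨u, hu'⟩ := hιs ⟨a, ha⟩
    refine ⟨(ι u⁻¹).1, ?_⟩
    rw [show a = (ι u).1 from (congrArg Subtype.val hu').symm]
    exact Subtype.ext (show ((u.1 : (Module.End F K)ˣ) : Module.End F K) * ((u.1⁻¹ : (Module.End F K)ˣ) : Module.End F K) = 1 from Units.mul_inv _)⟩
  letI := hfield.toField
  have hrank : Module.finrank F A = Module.finrank F K := by
    have h1 := Module.card_eq_pow_finrank (K := F) (V := A)
    have h2 := Module.card_eq_pow_finrank (K := F) (V := K)
    rw [hAeq, h2] at h1
    exact (Nat.pow_right_injective Fintype.one_lt_card h1).symm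
  obtain ⟨φ⟩ := FiniteField.nonempty_algHom_of_finrank_dvd (K := K) (L := A) (F := F)
    (hrank ▸ dvd_rfl)
  have hφ : Function.Bijective φ :=
    (Fintype.bijective_iff_injective_and_card _).mpr ⟨φ.toRingHom.injective, hAeq.symm⟩
  let T0 : K →ₗ[F] K :=
    { toFun := fun x => ((φ x : A) : Module.End F K) v
      map_add' := fun x y => by simp
      map_smul' := fun c x => by simp }
  have hT0 : Function.Bijective T0 := hbij.comp hφ
  let T : K ≃ₗ[F] K := LinearEquiv.ofBijective T0 hT0
  let gu : (Module.End F K)ˣ :=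
    { val := T.symm.toLinearMap
      inv := T.toLinearMap
      val_inv := LinearMap.ext fun x => T.symm_apply_apply x
      inv_val := LinearMap.ext fun x => T.apply_symm_apply x }
  refine ⟨gu, ?_⟩
  have hle : U.map (MulAut.conj gu).toMonoidHom ≤ TransvMax.singer F K := by
    rintro _ ⟨u, hu', rfl⟩
    rw [TransvMax.mem_singer]
    obtain ⟨k, hk⟩ := hφ.2 (ι ⟨u, hu'⟩).1
    have hk0 : k ≠ 0 := fun h => (ι ⟨u, hu'⟩).2 (by rw [← hk, h, map_zero])
    refine ⟨Units.mk0 k hk0, fun x => ?_⟩
    show T.symm ((u : Module.End F K) (T x)) = k * x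
    rw [LinearEquiv.symm_apply_eq]
    show (u : Module.End F K) (((φ x : A) : Module.End F K) v) = ((φ (k * x) : A) : Module.End F K) v
    rw [map_mul, hk]
    rfl
  refine Subgroup.eq_of_le_of_card_ge hle ?_
  rw [Subgroup.card_map_of_injective (MulAut.conj gu).injective, hcard]
  have h1 := Nat.card_le_card_of_surjective
    (Units.map ((Algebra.lmul F K : K →ₐ[F] Module.End F K) : K →* Module.End F K)).rangeRestrict
    (MonoidHom.rangeRestrict_surjective _)
  rw [Nat.card_units, Nat.card_eq_fintype_card (α := K)] at h1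
  exact h1

end Cfsg.Agent.S5947
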