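import Cfsg.Statements.S5952
-- import your own Cfsg.Agent.* helpers here

set_option autoImplicit false
open Cfsg

namespace Cfsg.Agent.S5952

open Module in
theorem dvd_finrank_of_le {F V : Type*} [Field F] [AddCommGroup V] [Module F V] [FiniteDimensional F V]
    (f : V →ₗ[F] V) {s a : ℕ} (U : Fin s → Submodule F V)
    (hUinv : ∀ j, (U j).map f ≤ U j) (hUdim : ∀ j, finrank F ↥(U j) = a)
    (hUirr : ∀ j, ∀ W : Submodule F V, W ≤ U j → W.map f ≤ W → W = ⊥ ∨ W = U j)
    (S : Finset (Fin s)) : ∀ W : Submodule F V, W.map f ≤ W → W ≤ S.sup U → a ∣ finrank F W := by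
  classical
  induction S using Finset.induction_on with
  | empty =>
    intro W _ hW
    rw [Finset.sup_empty, le_bot_iff] at hW
    rw [hW, finrank_bot]
    exact dvd_zero a
  | insert j S hj ih =>
    intro W hW hWle
    rw [Finset.sup_insert, sup_comm] at hWle
    have hTinv : (S.sup U).map f ≤ S.sup U := by
      rw [Submodule.map_le_iff_le_comap]
      exact Finset.sup_le fun k hk => Submodule.map_le_iff_le_comap.mp
        ((hUinv k).trans (Finset.le_sup hk))
    have h1 := ih (W ⊓ S.sup U)
      (le_inf ((Submodule.map_mono inf_le_left).trans hW) ((Submodule.map_mono inf_le_right).trans hTinv))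
      inf_le_right
    have h2 := Submodule.finrank_sup_add_finrank_inf_eq W (S.sup U)
    have h3 : (U j ⊓ (W ⊔ S.sup U)) = ⊥ ∨ (U j ⊓ (W ⊔ S.sup U)) = U j :=
      hUirr j _ inf_le_left (le_inf ((Submodule.map_mono inf_le_left).trans (hUinv j))
        ((Submodule.map_mono inf_le_right).trans ((Submodule.map_sup _ _ f).le.trans (sup_le_sup hW hTinv))))
    have h4 : W ⊔ S.sup U = S.sup U ⊔ (U j ⊓ (W ⊔ S.sup U)) := by
      conv_lhs => rw [← inf_eq_right.mpr (show W ⊔ S.sup U ≤ S.sup U ⊔ U j from sup_le hWle le_sup_left)]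
      rw [sup_inf_assoc_of_le _ (le_sup_right : S.sup U ≤ W ⊔ S.sup U)]
    rcases h3 with h3 | h3
    · rw [h3, sup_bot_eq] at h4
      rw [sup_eq_right] at h4
      rw [inf_eq_left.mpr h4] at h1
      exact h1
    · rw [h3] at h4
      have h5 := Submodule.finrank_sup_add_finrank_inf_eq (S.sup U) (U j)
      rw [← h4, hUdim] at h5
      have h6 : a ∣ finrank F ↥(S.sup U ⊓ U j) := by
        rcases hUirr j (S.sup U ⊓ U j) inf_le_right
          (le_inf ((Submodule.map_mono inf_le_left).trans hTinv)
            ((Submodule.map_mono inf_le_right).trans (hUinv j))) with h | h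
        · rw [h, finrank_bot]
          exact dvd_zero a
        · rw [h, hUdim]
      obtain ⟨k, hk⟩ := h1
      obtain ⟨l, hl⟩ := h6
      have hle : finrank F ↥(S.sup U ⊓ U j) ≤ a + finrank F ↥(W ⊓ S.sup U) := by
        have := Submodule.finrank_mono (inf_le_right : S.sup U ⊓ U j ≤ U j)
        rw [hUdim] at this; omega
      have : finrank F W = (k + 1 - l) * a := by
        rw [Nat.sub_mul, add_mul, one_mul, mul_comm k, mul_comm l]
        omega
      rw [this]
      exact dvd_mul_left _ _

/-- Which dimensions of invariant subspaces a semisimple linear map has. Let `V` be a finite-dimensional vector space over a field `F` and `f` an invertible semisimple linear map of `V`. Suppose `V` is the internal direct sum of the fixed space `C_V(f)` (the eigenspace for 1) and subspaces `U_1, …, U_s`, each `f`-invariant of dimension `a ≥ 1` on which `f` acts irreducibly (no `f`-invariant subspaces other than 0 and `U_j`). Let `0 < m < dim V` and `ℓ = m mod a`. Then `f` leaves some `m`-dimensional subspace invariant if and only if `dim C_V(f)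 ≥ m`, or `a ≤ m` and `dim C_V(f) ≥ ℓ`. -/
theorem result {F V : Type*} [Field F] [AddCommGroup V] [Module F V]
    [FiniteDimensional F V] (f : V →ₗ[F] V) (hf : Function.Bijective f) (hss : Module.End.IsSemisimple f)
    {s a : ℕ} (ha : 1 ≤ a) (U : Fin s → Submodule F V)
    (hUinv : ∀ j, (U j).map f ≤ U j) (hUdim : ∀ j, Module.finrank F ↥(U j) = a)
    (hUirr : ∀ j, ∀ W : Submodule F V, W ≤ U j → W.map f ≤ W → W = ⊥ ∨ W = U j)
    (hdec : DirectSum.IsInternal (fun o : Option (Fin s) => o.elim (Module.End.eigenspace f 1) U))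
    (m : ℕ) (hm : 0 < m) (hmV : m < Module.finrank F V) :
    (∃ W : Submodule F V, Module.finrank F ↥W = m ∧ W.map f ≤ W) ↔
    (m ≤ Module.finrank F ↥(Module.End.eigenspace f 1) ∨
      (a ≤ m ∧ m % a ≤ Module.finrank F ↥(Module.End.eigenspace f 1))) := by
  classical
  set E := Module.End.eigenspace f 1
  have hind := hdec.submodule_iSupIndep
  have htop := hdec.submodule_iSup_eq_top
  rw [iSup_option] at htop
  simp only [Option.elim] at htop
  have hsup : ∀ S : Finset (Fin s), S.sup U ≤ ⨆ j, U j := fun S =>
    Finset.sup_le fun k _ => le_iSup U k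
  have hEU : Disjoint E (⨆ j, U j) := by
    refine (hind none).mono_right (iSup_le fun j => ?_)
    exact le_iSup_of_le (some j) (le_iSup_of_le (by simp) le_rfl)
  have hcard : ∀ S : Finset (Fin s), Module.finrank F ↥(S.sup U) = S.card * a := by
    intro S
    induction S using Finset.induction_on with
    | empty => simp
    | insert j S hj ih =>
      have hd : Disjoint (U j) (S.sup U) := by
        refine (hind (some j)).mono_right (Finset.sup_le fun k hk => ?_)
        exact le_iSup_of_le (some k) (le_iSup_of_le
          (fun e => hj (Option.some.inj e ▸ hk)) le_rfl)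
      have := Submodule.finrank_sup_add_finrank_inf_eq (U j) (S.sup U)
      rw [hd.eq_bot, finrank_bot, add_zero, hUdim, ih] at this
      rw [Finset.sup_insert, this, Finset.card_insert_of_notMem hj, add_mul, one_mul, add_comm]
  have huniv : (Finset.univ : Finset (Fin s)).sup U = ⨆ j, U j := by
    rw [Finset.sup_univ_eq_iSup]
  have hV : Module.finrank F V = Module.finrank F E + s * a := by
    have := Submodule.finrank_sup_add_finrank_inf_eq E (⨆ j, U j)
    rw [hEU.eq_bot, htop, finrank_bot, add_zero, finrank_top] at this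
    rw [this, ← huniv, hcard, Finset.card_univ, Fintype.card_fin]
  constructor
  · rintro ⟨W, hWm, hWf⟩
    set g : V →ₗ[F] V := f - 1
    have hgE : ∀ v, g v = 0 ↔ v ∈ E := fun v => by
      simp [g, E, Module.End.mem_eigenspace_iff, sub_eq_zero]
    have hgU : ∀ v, g v ∈ ⨆ j, U j := by
      intro v
      have hv : v ∈ E ⊔ ⨆ j, U j := htop ▸ Submodule.mem_top
      obtain ⟨e, he, u, hu, rfl⟩ := Submodule.mem_sup.mp hv
      rw [map_add, (hgE e).mpr he, zero_add]
      have hle : (⨆ j, U j).map f ≤ ⨆ j, U j := by
        rw [Submodule.map_iSup]; exact iSup_mono hUinv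
      exact Submodule.sub_mem _ (hle (Submodule.mem_map_of_mem hu)) hu
    have h1 := dvd_finrank_of_le f U hUinv hUdim hUirr Finset.univ (W.map g)
      (by
        rintro _ ⟨_, ⟨w, hw, rfl⟩, rfl⟩
        exact ⟨f w, hWf (Submodule.mem_map_of_mem hw), by simp [g]⟩)
      (by rw [huniv]; rintro _ ⟨w, -, rfl⟩; exact hgU w)
    have h2 := LinearMap.finrank_range_add_finrank_ker (g.domRestrict W)
    rw [LinearMap.range_domRestrict, hWm] at h2
    have h3 : Module.finrank F ↥(LinearMap.ker (g.domRestrict W)) ≤ Module.finrank F E := by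
      rw [← Submodule.finrank_map_subtype_eq W]
      refine Submodule.finrank_mono ?_
      rintro _ ⟨w, hw, rfl⟩
      exact (hgE _).mp hw
    obtain ⟨k, hk⟩ := h1
    rw [hk] at h2
    rcases Nat.eq_zero_or_pos k with rfl | hk0
    · left; omega
    · right
      refine ⟨by have := Nat.le_mul_of_pos_right a hk0; omega, ?_⟩
      rw [← h2, Nat.mul_add_mod]
      exact (Nat.mod_le _ _).trans h3
  · intro h
    have key : ∃ S : Finset (Fin s), S.card * a ≤ m ∧ m - S.card * a ≤ Module.finrank F E := by
      rcases h with h | ⟨-, h⟩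
      · exact ⟨∅, by simp, by simpa using h⟩
      · by_cases hk : m / a ≤ s
        · obtain ⟨S, -, hS⟩ := Finset.exists_subset_card_eq (s := (Finset.univ : Finset (Fin s)))
            (n := m / a) (by simpa using hk)
          refine ⟨S, by rw [hS]; exact Nat.div_mul_le_self m a, ?_⟩
          rw [hS, ← Nat.mod_eq_sub_div_mul]
          exact h
        · have : s * a ≤ m := (Nat.mul_le_mul_right a (le_of_not_ge hk)).trans (Nat.div_mul_le_self m a)
          exact ⟨Finset.univ, by simpa using this, by simp; omega⟩
    obtain ⟨S, hS1, hS2⟩ := key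
    obtain ⟨b, hb⟩ := Module.finBasis F E |> fun B => (⟨B, rfl⟩ : ∃ b : Module.Basis _ F E, b = B)
    set W₀ : Submodule F V := (Submodule.span F (Set.range fun i : Fin (m - S.card * a) =>
      b ⟨i, lt_of_lt_of_le i.2 hS2⟩)).map E.subtype
    have hW0 : W₀ ≤ E := Submodule.map_subtype_le _ _
    have hW0d : Module.finrank F W₀ = m - S.card * a := by
      have hli : LinearIndependent F fun i : Fin (m - S.card * a) => b ⟨i, lt_of_lt_of_le i.2 hS2⟩ :=
        b.linearIndependent.comp (fun i : Fin (m - S.card * a) => ⟨i, lt_of_lt_of_le i.2 hS2⟩)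
          (fun i j e => by simpa [Fin.ext_iff] using e)
      rw [Submodule.finrank_map_subtype_eq, finrank_span_eq_card hli, Fintype.card_fin]
    refine ⟨W₀ ⊔ S.sup U, ?_, ?_⟩
    · have := Submodule.finrank_sup_add_finrank_inf_eq W₀ (S.sup U)
      rw [(hEU.mono hW0 (hsup S)).eq_bot, finrank_bot, add_zero, hW0d, hcard] at this
      omega
    · rw [Submodule.map_sup]
      refine sup_le_sup ?_ ?_
      · rintro _ ⟨w, hw, rfl⟩
        rw [Module.End.mem_eigenspace_iff.mp (hW0 hw), one_smul]
        exact hw
      · rw [Submodule.map_le_iff_le_comap]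
        exact Finset.sup_le fun k hk => Submodule.map_le_iff_le_comap.mp
          ((hUinv k).trans (Finset.le_sup hk))

end Cfsg.Agent.S5952
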