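import Cfsg.Statements.S5953
import Cfsg.Agent.Lib.Elusive.UnitaryScalars
import Cfsg.Agent.Lib.Elusive.UnitaryIsotropic
import Cfsg.Agent.Lib.Elusive.UnitaryFreeIsotropic
import Cfsg.Agent.Lib.Elusive.UnitaryClassWitness
import Cfsg.Agent.Lib.Elusive.UnitaryCounts
import Cfsg.Agent.Lib.Elusive.Linear
import Cfsg.Agent.Lib.TransvMax.NonsingModels
-- import your own Cfsg.Agent.* helpers here

set_option autoImplicit false
open scoped MatrixGroups
open Cfsg

namespace Cfsg.Agent.S5953

open Cfsg.Agent Module Elusive.FormIso Elusive.SU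
open Cfsg.Agent.UnitaryParabolic (ff)

set_option maxHeartbeats 1000000

section

variable {F : Type*} [Field F] [Fintype F] {q : ℕ} {σ : F →+* F}

/-- Consequences of `r` dividing the number of totally isotropic subspaces. -/
theorem count_facts (hq : Fintype.card F = q ^ 2) {p f : ℕ} [Fact p.Prime] (hqp : q = p ^ f) (hf : 0 < f) {n m : ℕ}
    (hmn : 2 * m ≤ n) {r : ℕ} [Fact r.Prime]
    (hΩ : r ∣ Nat.card {W : Submodule F (Fin n → F) // finrank F ↥W = m ∧
      (∀ u ∈ W, ∀ v ∈ W, Cfsg.hermForm n F q u v = 0)}) :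
    r ≠ p ∧ ∃ j, j < 2 * m ∧ r ∣ ff q (n - j) := by
  classical
  have hppr := (Fact.out : p.Prime)
  have hrp := (Fact.out : r.Prime)
  have hq0 : 0 < q := by rw [hqp]; exact pow_pos hppr.pos f
  have h := ti_card_mul (m := m) (n := n) hq
  have hsplit : ∏ a : Fin m, ((q ^ 2) ^ m - (q ^ 2) ^ (a : ℕ)) =
      (∏ a ∈ Finset.range m, q ^ (2 * a)) * ∏ a ∈ Finset.range m, ((q ^ 2) ^ (m - a) - 1) := by
    rw [Fin.prod_univ_eq_prod_range (fun a => (q ^ 2) ^ m - (q ^ 2) ^ a) m, ← Finset.prod_mul_distrib]
    refine Finset.prod_congr rfl fun a ha => ?_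
    have := Finset.mem_range.1 ha
    rw [Nat.mul_sub, mul_one, pow_mul, ← pow_add, show a + (m - a) = m by omega]
  rw [hsplit, Finset.prod_mul_distrib, mul_left_comm] at h
  have h' := Nat.eq_of_mul_eq_mul_left (Finset.prod_pos fun a _ => pow_pos hq0 (2 * a)) h
  obtain ⟨a, ha, hdvd⟩ := (hrp.prime.dvd_finsetProd_iff _).1 (h' ▸ hΩ.mul_right _)
  have ham := Finset.mem_range.1 ha
  obtain ⟨j, hj, hjd⟩ : ∃ j, j < 2 * m ∧ r ∣ ff q (n - j) := by
    rcases hrp.dvd_mul.1 hdvd with h1 | h1
    · exact ⟨2 * a, by omega, h1⟩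
    · exact ⟨2 * a + 1, by omega, by rwa [← Nat.sub_sub]⟩
  refine ⟨?_, j, hj, hjd⟩
  rintro rfl
  have hpq : r ∣ q ^ (n - j) := hqp ▸ dvd_pow (dvd_pow_self r hf.ne') (by omega)
  rw [Cfsg.Agent.UnitaryParabolic.ff] at hjd
  have h1 : 1 ≤ q ^ (n - j) := Nat.one_le_pow _ _ hq0
  split_ifs at hjd
  · have := Nat.dvd_sub hpq hjd
    rw [show q ^ (n - j) - (q ^ (n - j) - 1) = 1 by omega] at this
    exact hrp.ne_one (Nat.dvd_one.1 this)
  · exact hrp.ne_one (Nat.dvd_one.1 ((Nat.dvd_add_right hpq).1 hjd))

/-- The witness for involutions. -/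
theorem exists_reflection_element (hq : Fintype.card F = q ^ 2) (hσ : ∀ x, σ x = x ^ q) (hσσ : ∀ x, σ (σ x) = x)
    (h2 : (2 : F) ≠ 0) {k : ℕ} (hk : 0 < k) {l : F} (hl : l ^ (q + 1) = 1) (hlk : l ^ (k + 1) = -1) :
    ∃ x : Matrix.SpecialLinearGroup (Fin (k + 1)) F, x ∈ Cfsg.SU (k + 1) F q ∧
      (∃ z : F, ((x ^ 2 : Matrix.SpecialLinearGroup (Fin (k + 1)) F) : Matrix (Fin (k + 1)) (Fin (k + 1)) F) =
        z • (1 : Matrix (Fin (k + 1)) (Fin (k + 1)) F)) ∧
      (∀ z : F, (x : Matrix (Fin (k + 1)) (Fin (k + 1)) F) ≠ z • (1 : Matrix (Fin (k + 1)) (Fin (k + 1)) F)) ∧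
      ∀ W : Submodule F (Fin (k + 1) → F), (∀ u ∈ W, ∀ v ∈ W, Cfsg.hermForm (k + 1) F q u v = 0) →
        W.map (Matrix.toLin' (x : Matrix (Fin (k + 1)) (Fin (k + 1)) F)) ≤ W → 2 * finrank F W ≤ k := by
  classical
  let B := FormTorus.prodB σ (FormsLib.hermB k σ) (FormsLib.hermB 1 σ)
  have hfl : FormTorus.IsFlipForm σ 1 B := FormTorus.prodB_isFlip (hermB_flip hσσ k) (hermB_flip hσσ 1)
  let g : Module.End F ((Fin k → F) × (Fin 1 → F)) :=
    (l • (LinearMap.id : (Fin k → F) →ₗ[F] _)).prodMap ((-l) • (LinearMap.id : (Fin 1 → F) →ₗ[F] _))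
  have hg : ∀ u, g u = (l • u.1, (-l) • u.2) := fun u => rfl
  have hl0 : l ≠ 0 := fun h => by simp [h] at hl
  have hlσ : σ l * l = 1 := by rw [hσ, ← pow_succ, hl]
  have hiso : ∀ u v, B (g u) (g v) = B u v := fun u v => by
    simp only [B, FormTorus.prodB_apply, hg, map_smul, map_smulₛₗ, LinearMap.smul_apply, smul_eq_mul, map_neg]
    linear_combination (FormsLib.hermB k σ u.1 v.1 + FormsLib.hermB 1 σ u.2 v.2) * hlσ
  have hdet : LinearMap.det g = 1 := by
    show LinearMap.det ((l • (LinearMap.id : (Fin k → F) →ₗ[F] _)).prodMap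
      ((-l) • (LinearMap.id : (Fin 1 → F) →ₗ[F] _))) = 1
    rw [LinearMap.det_prodMap, LinearMap.det_smul, LinearMap.det_smul, LinearMap.det_id, LinearMap.det_id,
      finrank_fin_fun, finrank_fin_fun, mul_one, mul_one, pow_one]
    linear_combination -(1 : F) * hlk
  obtain ⟨x, hx, hxp, hxs, hxW⟩ := exists_su hq hσ hfl (by rw [finrank_prod, finrank_fin_fun, finrank_fin_fun]) g hiso hdet
  refine ⟨x, hx, ⟨l * l, hxp 2 _ (LinearMap.ext fun u => ?_)⟩, fun z hz => ?_, fun W hW hWT => ?_⟩
  · rw [pow_two, Module.End.mul_apply, hg, hg, LinearMap.smul_apply, Module.End.one_apply]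
    ext <;> simp [mul_assoc]
  · have h1 := congrArg (fun u => u.1 ⟨0, hk⟩) (hxs z hz (fun _ => 1, fun _ => 1))
    have h2' := congrArg (fun u => u.2 0) (hxs z hz (fun _ => 1, fun _ => 1))
    simp [hg] at h1 h2'
    exact mul_ne_zero h2 hl0 (by linear_combination h1 - h2')
  · obtain ⟨U, hUd, hUT, hUi, -⟩ := hxW W hWT
    have hU := hUi hW
    have h2l : 2 * l ≠ 0 := mul_ne_zero h2 hl0
    have hfst : ∀ u ∈ U, ((u.1, 0) : (Fin k → F) × (Fin 1 → F)) ∈ U := fun u hu => by
      have h := U.smul_mem (2 * l)⁻¹ (U.add_mem (hUT ⟨u, hu, rfl⟩) (U.smul_mem l hu))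
      rw [hg] at h
      convert h using 1
      ext j
      · simp only [Prod.smul_def, Prod.mk_add_mk, Pi.smul_apply, Pi.add_apply, smul_eq_mul]
        field_simp
        ring
      · simp only [Prod.smul_def, Prod.mk_add_mk, Pi.smul_apply, Pi.add_apply, smul_eq_mul, Pi.zero_apply]
        ring
    set U1 := U.map (LinearMap.fst F (Fin k → F) (Fin 1 → F))
    have h1 : OrthTo (FormsLib.hermB k σ) U1 U1 := by
      rintro _ ⟨u, hu, rfl⟩ _ ⟨v, hv, rfl⟩
      have h := hU _ (hfst u hu) _ (hfst v hv)
      simpa [B, FormTorus.prodB_apply] using h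
    have h1' := Elusive.SU.two_mul_finrank_le hσσ (hermB_flip hσσ k) (Elusive.SU.ndOn_top (hermB_flip hσσ k))
      (le_top (a := U1)) h1
    rw [finrank_top, finrank_fin_fun] at h1'
    have hker : ∀ u ∈ U, u.2 = 0 := fun u hu => by
      have h := hU _ (U.sub_mem hu (hfst u hu)) _ (U.sub_mem hu (hfst u hu))
      simp [B, FormTorus.prodB_apply, FormsLib.hermB_apply hσ, Cfsg.hermForm] at h
      funext j
      rw [Subsingleton.elim j 0]
      exact h.elim id fun e => e.1
    have hle : finrank F U ≤ finrank F U1 := by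
      refine LinearMap.finrank_le_finrank_of_injective
        (f := (LinearMap.fst F (Fin k → F) (Fin 1 → F)).restrict fun u (hu : u ∈ U) => (⟨u, hu, rfl⟩ : _ ∈ U1))
        fun a c hac => Subtype.ext (Prod.ext (congrArg Subtype.val hac) ?_)
      rw [hker _ a.2, hker _ c.2]
    omega

end

section

variable {F : Type*} [Field F] {σ : F →+* F} {V : Type*} [AddCommGroup V] [Module F V] [FiniteDimensional F V]
  {B : V →ₛₗ[σ] V →ₗ[F] F}

/-- An involution: the determinant and the isotropic subspaces. -/
theorem exists_pm [Fintype F] {q : ℕ} (hq : Fintype.card F = q ^ 2) (hσ : ∀ x, σ x = x ^ q) (h2 : (2 : F) ≠ 0)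
    (hB : FormTorus.IsFlipForm σ 1 B) {T : Module.End F V} (hiso : ∀ u v, B (T u) (T v) = B u v) (hT : T ^ 2 = 1)
    {m : ℕ} (hm : 2 * m ≤ finrank F V)
    (hok : 2 * m < finrank F V ∨ LinearMap.det T ≠ -1) :
    ∃ W : Submodule F V, W.map T ≤ W ∧ OrthTo B W W ∧ finrank F W = m := by
  classical
  obtain ⟨M, -, hMT, hfree, hsup, ho, hM, hK, hdim⟩ :=
    exists_split (r := 2) (refl_of_flip hB) hiso (by exact_mod_cast h2) hT (Elusive.SU.ndOn_top hB) le_top
  set K := ⊤ ⊓ Elusive.fixedSpace T
  have hneg : ∀ v ∈ M, T v = -v := fun v hv => by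
    refine eq_neg_of_add_eq_zero_left (hfree _ (M.add_mem (hMT ⟨v, hv, rfl⟩) hv) ?_)
    rw [map_add, ← Module.End.mul_apply, ← pow_two, hT, Module.End.one_apply, add_comm]
  have hfix : ∀ v ∈ K, T v = v := fun v hv => Elusive.mem_fixedSpace.1 hv.2
  rw [finrank_top] at hdim
  have hsuff : m ≤ finrank F K / 2 + finrank F M / 2 := by
    rcases hok with h | h
    · omega
    · by_contra hlt
      refine h ?_
      have hMd : Odd (finrank F M) := Nat.odd_iff.2 (by omega)
      have hc : IsCompl K M := IsCompl.of_eq (by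
        rw [Submodule.eq_bot_iff]
        rintro v ⟨h1, h2⟩
        exact hfree v h2 (hfix v h1)) hsup
      let Ψ := Submodule.prodEquivOfIsCompl K M hc
      have hconj : T = (Ψ : (K × M) →ₗ[F] V) ∘ₗ
          ((LinearMap.id : K →ₗ[F] K).prodMap ((-1 : F) • (LinearMap.id : M →ₗ[F] M))) ∘ₗ (Ψ.symm : V →ₗ[F] (K × M)) := by
        refine LinearMap.ext fun v => ?_
        obtain ⟨⟨a, c⟩, rfl⟩ := Ψ.surjective v
        simp only [LinearMap.comp_apply, LinearEquiv.coe_coe, LinearEquiv.symm_apply_apply]
        simp [Ψ, hfix a a.2, hneg c c.2]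
      rw [hconj, LinearMap.det_conj, LinearMap.det_prodMap, LinearMap.det_smul, LinearMap.det_id, LinearMap.det_id,
        one_mul, mul_one, hMd.neg_one_pow]
  obtain ⟨U, hU, hUi, hUd⟩ := Elusive.SU.exists_isotropic hq hσ hB hM (m := m - min m (finrank F K / 2)) (by omega)
  have hUT : U.map T ≤ U := by
    rintro _ ⟨v, hv, rfl⟩
    rw [hneg v (hU hv)]
    exact U.neg_mem hv
  exact Elusive.SU.exists_isotropic_invariant hq hσ hB hK hfix hfree ho hU hUT hUi (by omega) (by omega)

omit [FiniteDimensional F V] in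
/-- The eigenspaces of a scaled involution. -/
theorem isotropic_eigen (h2 : (2 : F) ≠ 0) {S : Module.End F V} (hneg : ∀ u v, B (S u) (S v) = - B u v) {a : F}
    (ha : a * a = 1) (hσa : σ a = a) :
    OrthTo B (LinearMap.ker (S - a • (1 : Module.End F V))) (LinearMap.ker (S - a • (1 : Module.End F V))) := by
  intro u hu v hv
  simp only [LinearMap.mem_ker, LinearMap.sub_apply, LinearMap.smul_apply, Module.End.one_apply, sub_eq_zero] at hu hv
  have h := hneg u v
  rw [hu, hv] at h
  simp only [map_smul, map_smulₛₗ, LinearMap.smul_apply, smul_eq_mul, hσa] at h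
  exact (mul_eq_zero.1 (show (2 : F) * B u v = 0 by linear_combination h - (B u v) * ha)).resolve_left h2

/-- A subspace of given dimension. -/
theorem exists_le_finrank (X : Submodule F V) {m : ℕ} (hm : m ≤ finrank F X) :
    ∃ W : Submodule F V, W ≤ X ∧ finrank F W = m := by
  let b := finBasis F X
  refine ⟨Submodule.span F (Set.range fun i : Fin m => (b (Fin.castLE hm i) : V)),
    Submodule.span_le.2 (by rintro _ ⟨i, rfl⟩; exact (b _).2), ?_⟩
  rw [finrank_span_eq_card, Fintype.card_fin]
  exact (b.linearIndependent.comp _ (Fin.castLE_injective hm)).map' _ X.ker_subtype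

end

/-- Elements of prime order of PSU_n(q) with no fixed totally isotropic `m`-space. Here `T = PSU_n(q)` (`n ≥ 3`, `(n, q) ≠ (3, 2)`), realised through the matrices of determinant 1 over the field `F` with `q²` elements preserving the Hermitian form `h(u, v) = Σ u_i v_i^q`; an element of `T` of prime order `r` is such a matrix `x` with `x^r` scalar and `x` not scalar. For `r ≠ p` let `i` be the multiplicative order of `q` modulo `r`, `b = i/2` for `i` even and `b = i` for `i` odd, `c = i, i/2, 2i` according as `i ≡ 0, 2 (mod 4)` or `i` odd, and write `k = n mod c`, `ℓ = m mod b`, `ℓ' = m mod c`, `n' = ⌊n/b⌋`, `m' = ⌊m/b⌋`, `s = (r−1)/b`; `(a)_r` is the `r`-part of `a`. Let `1 ≤ m ≤ n/2` and let `r` be a prime dividing the number of totally isotropic `m`-spaces. Then every element of `T` of order `r` fixes a totally isotropic `m`-space if and only if either (i) `r = 2`, `p ≠ 2`, and (`m < n/2` or `(q+1)_2 ≤ (n)_2`); or (ii) `r ≠ p`, `r > 2`, `b ≤ m`, `k ≥ 2ℓ`, and either `i ≢ 2 (mod 4)`, or `i ≡ 2 (mod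 4)`, `n' − 2m' ≥ s` and (`i > 2`, or `i = 2` and (`r ∣ m` or `(q+1)_r ≥ (n)_r`)). -/
theorem result {F : Type*} [Field F] [Fintype F] {p : ℕ} [Fact p.Prime] [CharP F p] {q : ℕ} (hq : Fintype.card F = q ^ 2)
    (n m : ℕ) (hn : 3 ≤ n) (hT : (n, q) ≠ (3, 2)) (hm : 1 ≤ m) (hmn : 2 * m ≤ n)
    (r : ℕ) [Fact r.Prime]
    (hrΩ : r ∣ Nat.card {W : Submodule F (Fin n → F) // Module.finrank F ↥W = m ∧ (∀ u ∈ W, ∀ v ∈ W, Cfsg.hermForm n F q u v = 0)})
    (i b c : ℕ) (hi : i = orderOf (q : ZMod r)) (hb : b = if Even i then i / 2 else i)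
    (hc : c = if i % 4 = 0 then i else if i % 4 = 2 then i / 2 else 2 * i) :
    (∀ x : Matrix.SpecialLinearGroup (Fin n) F, x ∈ Cfsg.SU n F q →
      (∃ z : F, ((x ^ r : Matrix.SpecialLinearGroup (Fin n) F) : Matrix (Fin n) (Fin n) F) = z • (1 : Matrix (Fin n) (Fin n) F)) →
      (∀ z : F, (x : Matrix (Fin n) (Fin n) F) ≠ z • (1 : Matrix (Fin n) (Fin n) F)) →
      ∃ W : Submodule F (Fin n → F), Module.finrank F ↥W = m ∧ (∀ u ∈ W, ∀ v ∈ W, Cfsg.hermForm n F q u v = 0) ∧
        W.map (Matrix.toLin' (x : Matrix (Fin n) (Fin n) F)) ≤ W) ↔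
    ((r = 2 ∧ p ≠ 2 ∧ (2 * m < n ∨ padicValNat 2 (q + 1) ≤ padicValNat 2 n)) ∨
     (r ≠ p ∧ 2 < r ∧ b ≤ m ∧ 2 * (m % b) ≤ n % c ∧
       (i % 4 ≠ 2 ∨ (i % 4 = 2 ∧ (r - 1) / b + 2 * (m / b) ≤ n / b ∧
         (2 < i ∨ (i = 2 ∧ (r ∣ m ∨ padicValNat r n ≤ padicValNat r (q + 1)))))))) := by
  classical
  have hrpr := (Fact.out : r.Prime)
  have hppr := (Fact.out : p.Prime)
  obtain ⟨σ, f, hσ, hσσ, hne, hq2, hqp, hf⟩ := exists_setup hq (p := p)
  have hH : FormTorus.IsFlipForm σ 1 (FormsLib.hermB n σ) := hermB_flip hσσ n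
  have htop : NdOn (FormsLib.hermB n σ) ⊤ := Elusive.SU.ndOn_top hH
  have hdimV : finrank F (Fin n → F) = n := finrank_fin_fun F
  obtain ⟨hrp, j₀, hj₀, hj₀d⟩ := count_facts hq (p := p) hqp hf hmn hrΩ
  have pack : ∀ W : Submodule F (Fin n → F), OrthTo (FormsLib.hermB n σ) W W →
      ∀ u ∈ W, ∀ v ∈ W, Cfsg.hermForm n F q u v = 0 :=
    fun W hW u hu v hv => (FormsLib.hermB_apply hσ v u).symm.trans (hW v hv u hu)
  have unpack : ∀ W : Submodule F (Fin n → F), (∀ u ∈ W, ∀ v ∈ W, Cfsg.hermForm n F q u v = 0) →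
      OrthTo (FormsLib.hermB n σ) W W :=
    fun W hW u hu v hv => (FormsLib.hermB_apply hσ u v).trans (hW v hv u hu)
  have normal : ∀ (x : Matrix.SpecialLinearGroup (Fin n) F), x ∈ Cfsg.SU n F q → ∀ z l : F,
      ((x ^ r : Matrix.SpecialLinearGroup (Fin n) F) : Matrix (Fin n) (Fin n) F) = z • (1 : Matrix (Fin n) (Fin n) F) →
      l ^ (q + 1) = 1 → l ^ r = z →
      (∀ u v, FormsLib.hermB n σ ((l⁻¹ • Matrix.toLin' (x : Matrix (Fin n) (Fin n) F)) u)
          ((l⁻¹ • Matrix.toLin' (x : Matrix (Fin n) (Fin n) F)) v) = FormsLib.hermB n σ u v) ∧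
      (l⁻¹ • Matrix.toLin' (x : Matrix (Fin n) (Fin n) F)) ^ r = 1 ∧
      LinearMap.det (l⁻¹ • Matrix.toLin' (x : Matrix (Fin n) (Fin n) F)) = (l ^ n)⁻¹ ∧
      ∀ W : Submodule F (Fin n → F), W.map (l⁻¹ • Matrix.toLin' (x : Matrix (Fin n) (Fin n) F)) ≤ W →
        W.map (Matrix.toLin' (x : Matrix (Fin n) (Fin n) F)) ≤ W := by
    intro x hx z l hz hl hlr
    have hl0 : l ≠ 0 := fun h => by simp [h] at hl
    refine ⟨fun u v => ?_, ?_, ?_, fun W hW => ?_⟩
    · have hσl : σ l⁻¹ * l⁻¹ = 1 := by rw [hσ, ← pow_succ, inv_pow, hl, inv_one]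
      simp only [LinearMap.smul_apply, map_smul, map_smulₛₗ, iso_of_su hσ hx, smul_eq_mul]
      linear_combination (FormsLib.hermB n σ u v) * hσl
    · rw [_root_.smul_pow, (scalar_power hq hσ (by omega) hx hz).2.2, smul_smul, inv_pow, hlr, inv_mul_cancel₀, one_smul]
      rw [← hlr]
      exact pow_ne_zero _ hl0
    · rw [LinearMap.det_smul, LinearMap.det_toLin', x.2, mul_one, hdimV, inv_pow]
    · rintro _ ⟨v, hv, rfl⟩
      have h := W.smul_mem l (hW ⟨v, hv, rfl⟩)
      rwa [LinearMap.smul_apply, smul_smul, mul_inv_cancel₀ hl0, one_smul] at h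
  have hrF : (r : F) ≠ 0 := Elusive.natCast_prime_ne_zero (p := p) hrp
  by_cases hr2 : r = 2
  · -- involutions
    subst hr2
    have hp2 : p ≠ 2 := fun h => hrp h.symm
    have h20 : (2 : F) ≠ 0 := by exact_mod_cast hrF
    have hne1 : (-1 : F) ≠ 1 := fun h => h20 (by linear_combination -h)
    constructor
    · intro hall
      refine Or.inl ⟨rfl, hp2, ?_⟩
      by_contra h
      push Not at h
      obtain ⟨hn2, hv⟩ := h
      obtain ⟨k, rfl⟩ : ∃ k, n = k + 1 := ⟨n - 1, by omega⟩
      set v := padicValNat 2 (k + 1) with hvdef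
      obtain ⟨l, hlq, hlo⟩ := exists_norm_one_of_order hq (N := 2 ^ (v + 1))
        ((padicValNat_dvd_iff_le (p := 2) (show q + 1 ≠ 0 by omega)).2 hv)
      obtain ⟨w, hw⟩ : 2 ^ v ∣ k + 1 := pow_padicValNat_dvd
      have hwodd : Odd w := Nat.not_even_iff_odd.1 fun hev => by
        obtain ⟨w', hw'⟩ := hev.two_dvd
        have h1 : 2 ^ (v + 1) ∣ k + 1 := ⟨w', by rw [pow_succ, mul_assoc, ← hw', hw]⟩
        have := (padicValNat_dvd_iff_le (p := 2) (show k + 1 ≠ 0 by omega)).1 h1
        omega
      have hlv : l ^ 2 ^ v = -1 := by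
        have h1 : l ^ 2 ^ v * l ^ 2 ^ v = 1 := by
          rw [← pow_two, ← pow_mul, ← pow_succ, ← hlo, pow_orderOf_eq_one]
        refine (mul_self_eq_one_iff.1 h1).resolve_left fun h1' => ?_
        have := Nat.le_of_dvd (pow_pos two_pos v) (orderOf_dvd_of_pow_eq_one h1')
        rw [hlo] at this
        exact absurd this (not_le.2 (Nat.pow_lt_pow_right one_lt_two (Nat.lt_succ_self v)))
      obtain ⟨x, hx, hxz, hxs, hxW⟩ := exists_reflection_element hq hσ hσσ h20 (k := k) (by omega) hlq
        (by rw [hw, pow_mul, hlv, hwodd.neg_one_pow])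
      obtain ⟨W, hWd, hW, hWT⟩ := hall x hx hxz hxs
      have := hxW W hW hWT
      omega
    · rintro (⟨-, -, hcond⟩ | ⟨-, h, -⟩) x hx ⟨z, hz⟩ -
      swap
      · omega
      obtain ⟨-, hzq, hA2⟩ := scalar_power hq hσ (by omega) hx hz
      obtain ⟨l, hl, hlq⟩ := exists_sqrt hq h20 hzq
      have hl0 : l ≠ 0 := fun h => by
        rw [← hl, h, mul_zero] at hzq
        simp at hzq
      rcases hlq with hlq | hlq
      · -- nondegenerate eigenspaces
        obtain ⟨hiso, hTr, hdetT, hWinv⟩ := normal x hx z l hz hlq (by rw [pow_two, hl])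
        obtain ⟨W, hWT, hW, hWd⟩ := exists_pm hq hσ h20 hH hiso hTr (m := m) (by rw [hdimV]; exact hmn) (by
          rcases hcond with h | h
          · exact Or.inl (by rw [hdimV]; exact h)
          · refine Or.inr fun hd => ?_
            rw [hdetT] at hd
            have hln : l ^ n = -1 := by rw [← inv_inv (l ^ n), hd, inv_neg, inv_one]
            refine hne1 ?_
            rw [← hln]
            refine orderOf_dvd_iff_pow_eq_one.1 ?_
            set o := orderOf l
            have ho1 : o ∣ q + 1 := orderOf_dvd_of_pow_eq_one hlq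
            have ho2 : o ∣ 2 * n := orderOf_dvd_of_pow_eq_one (by rw [mul_comm, pow_mul, hln, neg_one_sq])
            obtain ⟨e, o', ho', hoe⟩ := Nat.exists_eq_two_pow_mul_odd (n := o) fun e =>
              Nat.succ_ne_zero q (by rw [e, zero_dvd_iff] at ho1; exact ho1)
            rw [hoe]
            refine (Nat.Coprime.pow_left _ (Nat.coprime_two_left.2 ho')).mul_dvd_of_dvd_of_dvd ?_
              ((Nat.coprime_two_right.2 ho').dvd_of_dvd_mul_left ((hoe ▸ dvd_mul_left o' _).trans ho2))
            exact (pow_dvd_pow 2 (((padicValNat_dvd_iff_le (p := 2) (show q + 1 ≠ 0 by omega)).1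
              ((hoe ▸ dvd_mul_right (2 ^ e) o').trans ho1)).trans h)).trans pow_padicValNat_dvd)
        exact ⟨W, hWd, pack W hW, hWinv W hWT⟩
      · -- totally isotropic eigenspaces
        set A := Matrix.toLin' (x : Matrix (Fin n) (Fin n) F) with hAdef
        set S : Module.End F (Fin n → F) := l⁻¹ • A with hSdef
        have hneg : ∀ u v, FormsLib.hermB n σ (S u) (S v) = - FormsLib.hermB n σ u v := fun u v => by
          have hσl : σ l⁻¹ * l⁻¹ = -1 := by rw [hσ, ← pow_succ, inv_pow, hlq, inv_neg, inv_one]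
          simp only [hSdef, LinearMap.smul_apply, map_smul, map_smulₛₗ, hAdef, iso_of_su hσ hx, smul_eq_mul]
          linear_combination (FormsLib.hermB n σ u v) * hσl
        have hSS : ∀ v, S (S v) = v := fun v => by
          simp only [hSdef, LinearMap.smul_apply, map_smul, smul_smul, ← Module.End.mul_apply, ← pow_two, hA2]
          simp only [← hl, Module.End.one_apply, smul_smul]
          rw [show l⁻¹ * (l⁻¹ * (l * l)) = 1 by field_simp, one_smul]
        let E : F → Submodule F (Fin n → F) := fun a => LinearMap.ker (S - a • (1 : Module.End F (Fin n → F)))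
        have hsup : E 1 ⊔ E (-1) = ⊤ := by
          rw [eq_top_iff]
          rintro v -
          refine Submodule.mem_sup.2 ⟨(2 : F)⁻¹ • (v + S v), ?_, (2 : F)⁻¹ • (v - S v), ?_, ?_⟩
          · simp [E, hSS, add_comm]
          · simp [E, hSS]
          · rw [← smul_add, show v + S v + (v - S v) = (2 : F) • v by rw [two_smul]; abel, smul_smul,
              inv_mul_cancel₀ h20, one_smul]
        have h1 := Submodule.finrank_add_le_finrank_add_finrank (E 1) (E (-1))
        rw [hsup, finrank_top, hdimV] at h1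
        have hiso1 := isotropic_eigen h20 hneg (one_mul 1) (map_one σ)
        have h3 := Elusive.SU.two_mul_finrank_le hσσ hH htop (le_top (a := E (-1)))
          (isotropic_eigen h20 hneg (by ring) (by simp))
        rw [finrank_top, hdimV] at h3
        obtain ⟨W, hWE, hWd⟩ := exists_le_finrank (E 1) (m := m) (by omega)
        refine ⟨W, hWd, pack W fun u hu v hv => hiso1 u (hWE hu) v (hWE hv), ?_⟩
        rintro _ ⟨v, hv, rfl⟩
        have hSv : S v = v := by
          have := hWE hv
          simpa [E, sub_eq_zero] using this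
        have hAv : A v = l • S v := by rw [hSdef, LinearMap.smul_apply, smul_smul, mul_inv_cancel₀ hl0, one_smul]
        rw [hAv, hSv]
        exact W.smul_mem l hv
  -- elements of odd order
  have hr3 : 2 < r := lt_of_le_of_ne hrpr.two_le (Ne.symm hr2)
  have hrq : (q : ZMod r) ≠ 0 := by
    rw [hqp, Nat.cast_pow]
    refine pow_ne_zero _ fun h => hrp ?_
    exact (Nat.prime_dvd_prime_iff_eq hrpr hppr).1 ((ZMod.natCast_eq_zero_iff _ _).1 h)
  obtain ⟨he, hrQ⟩ := orderOf_card hq hr2 hrq hi hb hc
  obtain ⟨hb0, hc0, hbd, -, h42, h4⟩ := bc_facts hr2 hrq hi hb hc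
  obtain ⟨hkm, hcn⟩ := mod_lt_of_window hc0 ((dvd_ff_iff hr2 hrq hi hc _).1 hj₀d) hj₀ (by omega)
  have hnb : i % 4 = 2 → n % c = n % b := fun h => by rw [(h42 h).1]
  obtain ⟨t, ht⟩ := hbd
  have htt : (r - 1) / b = t := by rw [ht, Nat.mul_div_cancel_left _ hb0]
  have ht1 : 1 ≤ t := Nat.one_le_iff_ne_zero.2 fun h => by
    rw [h, mul_zero] at ht
    omega
  have hcop : i ≠ 2 → Nat.Coprime r (q + 1) := fun h =>
    (hrpr.coprime_iff_not_dvd).2 fun h' => h ((not_dvd_succ_iff hr2 hi).1 h')
  rw [htt]
  constructor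
  · intro hall
    have hmain : b ≤ m ∧ 2 * (m % b) ≤ n % c := by
      by_cases hi2 : i = 2
      · obtain ⟨-, -, hib⟩ := h42 (by omega)
        rw [show b = 1 by omega, Nat.mod_one]
        omega
      obtain ⟨x, hx, hTr, hxz, hfix⟩ := exists_element hq hσ hσσ hne (p := p) hqp hr2 hrF hrq hi hb hc hi2 n
      obtain ⟨W, hWd, hW, hWT⟩ := hall x hx ⟨1, hxz⟩ fun z hz => by
        have hzn : z ^ (q + 1) = 1 :=
          (scalar_power hq hσ (by omega) hx (r := 1) (z := z) (by rw [pow_one]; exact hz)).2.1
        have hzr : z ^ r = 1 := by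
          have h := hTr
          rw [hz, map_smul, Matrix.toLin'_one, _root_.smul_pow] at h
          have h' := congrFun (LinearMap.congr_fun h (Pi.single ⟨0, by omega⟩ 1)) ⟨0, by omega⟩
          simpa [show ((LinearMap.id : Module.End F (Fin n → F))) ^ r = 1 from one_pow r] using h'
        have hz1 : z = 1 := by
          have := pow_gcd_eq_one.2 ⟨hzr, hzn⟩
          rwa [(hcop hi2).gcd_eq_one, pow_one] at this
        rw [hz, hz1, one_smul, Matrix.toLin'_one,
          show Elusive.fixedSpace (LinearMap.id : Module.End F (Fin n → F)) = ⊤ from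
            eq_top_iff.2 fun v _ => Elusive.mem_fixedSpace.2 rfl, finrank_top, hdimV] at hfix
        have := Nat.mod_lt n hc0
        omega
      obtain ⟨M, -, -, -, -, -, -, hK, -⟩ := exists_split (refl_of_flip hH) (iso_of_su hσ hx) hrF hTr htop le_top
      set T := Matrix.toLin' (x : Matrix (Fin n) (Fin n) F)
      have h1 := Elusive.SU.two_mul_finrank_le hσσ hH hK (le_inf le_top inf_le_right : W ⊓ Elusive.fixedSpace T ≤ _)
        fun u hu v hv => unpack W hW u hu.1 v hv.1
      rw [top_inf_eq, hfix] at h1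
      have h2 := Elusive.finrank_mod_orderOf hTr hrF hWT
      rw [hWd, he] at h2
      have h3 := Nat.mod_le (finrank F ↥(W ⊓ Elusive.fixedSpace T)) b
      refine ⟨?_, by omega⟩
      by_contra hlt
      rw [Nat.mod_eq_of_lt (not_le.1 hlt)] at h2
      omega
    refine Or.inr ⟨hrp, hr3, hmain.1, hmain.2, ?_⟩
    by_cases h4' : i % 4 = 2
    swap
    · exact Or.inl h4'
    refine Or.inr ⟨h4', ?_, ?_⟩
    · by_contra hlt
      push Not at hlt
      obtain ⟨hcb, hbodd, hib⟩ := h42 h4'
      rw [hcb] at hkm hcn hmain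
      obtain ⟨hbm, hmod⟩ := hmain
      set m' := m / b
      set n' := n / b
      have hmd : b * m' + m % b = m := Nat.div_add_mod m b
      have hnd : b * n' + n % b = n := Nat.div_add_mod n b
      have hnk := Nat.mod_lt n hb0
      have hm'1 : 1 ≤ m' := (Nat.le_div_iff_mul_le hb0).2 (by omega)
      have hnm : 2 * m' ≤ n' := (Nat.le_div_iff_mul_le hb0).2 (by
        have : m' * b ≤ m := Nat.div_mul_le_self m b
        rw [mul_assoc]
        omega)
      have hQb : Fintype.card F ^ b % r = 1 % r := by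
        have h := pow_orderOf_eq_one (Fintype.card F : ZMod r)
        rw [he, ← Nat.cast_pow, ← Nat.cast_one, ZMod.natCast_eq_natCast_iff] at h
        exact h
      obtain ⟨K, _, _, _, hKdim, hKcard, ζ, hζ, hζ1⟩ := NonsingPoints.exists_root_of_unity (F := F) b hb0 hrpr
        (Nat.dvd_of_mod_eq_zero (Nat.sub_mod_eq_zero_of_mod_eq hQb))
      haveI : Module.Finite F K := Module.Finite.of_finite
      have hordζ := orderOf_eq_prime hζ hζ1
      have hroot : ∀ k, 0 < k → k < r → (ζ ^ k) ^ r = 1 ∧ ζ ^ k ≠ 1 := fun k hk1 hk2 => by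
        refine ⟨by rw [← pow_mul, mul_comm, pow_mul, hζ, one_pow], fun h1 => ?_⟩
        have := orderOf_dvd_of_pow_eq_one h1
        rw [hordζ] at this
        have := Nat.le_of_dvd hk1 this
        omega
      have hdvd : r ∣ q ^ b + 1 := by
        have h1 := (dvd_ff_iff hr2 hrq hi hc b).2 (hcb ▸ dvd_rfl)
        rwa [Cfsg.Agent.UnitaryParabolic.ff, if_neg (Nat.not_even_iff_odd.2 hbodd)] at h1
      by_cases hb1 : b = 1
      · -- diagonal elements
        subst hb1
        rw [one_mul] at ht
        have hm'm : m' = m := Nat.div_one m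
        have hn'n : n' = n := Nat.div_one n
        have hrodd : r % 2 = 1 := (hrpr.eq_two_or_odd).resolve_left hr2
        set h := (n - 2 * m + 2) / 2
        let ex : Fin (h + h) → ℕ := Fin.addCases (fun l => (l : ℕ) + 1) fun l => r - ((l : ℕ) + 1)
        have hex : ∀ k, 0 < ex k ∧ ex k < r := fun k => by
          induction k using Fin.addCases with
          | left l => have := l.2; simp only [ex, Fin.addCases_left]; omega
          | right l => have := l.2; simp only [ex, Fin.addCases_right]; omega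
        have hexinj : Function.Injective ex := fun k k' hkk => by
          induction k using Fin.addCases with
          | left l =>
            induction k' using Fin.addCases with
            | left l' => simp only [ex, Fin.addCases_left] at hkk; rw [show l = l' from Fin.ext (by omega)]
            | right l' =>
              have := l.2; have := l'.2
              simp only [ex, Fin.addCases_left, Fin.addCases_right] at hkk; omega
          | right l =>
            induction k' using Fin.addCases with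
            | left l' =>
              have := l.2; have := l'.2
              simp only [ex, Fin.addCases_left, Fin.addCases_right] at hkk; omega
            | right l' =>
              have := l.2; have := l'.2
              simp only [ex, Fin.addCases_right] at hkk; rw [show l = l' from Fin.ext (by omega)]
        have hinj : ∀ k k', ζ ^ ex k = ζ ^ ex k' → k = k' := fun k k' hkk => hexinj
          (pow_injOn_Iio_orderOf (by rw [Set.mem_Iio, hordζ]; exact (hex k).2)
            (by rw [Set.mem_Iio, hordζ]; exact (hex k').2) hkk)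
        obtain ⟨x, hx, hxz, hxs, hxW⟩ := exists_class_element (r := r) hq hσ hσσ (p := p) hqp odd_one hKdim he.symm hdvd
          (N := h + h) (u := n - (h + h)) (fun k => ζ ^ ex k) (fun k => hroot _ (hex k).1 (hex k).2)
          (fun k l hkl => by
            have hbot : ∀ y : K, ∃ a : F, algebraMap F K a = y := fun y => by
              have hone : (⊤ : Submodule F K) = Submodule.span F {(1 : K)} := by
                refine (Submodule.eq_top_of_finrank_eq ?_).symm
                rw [finrank_span_singleton one_ne_zero, hKdim]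
              obtain ⟨a, ha⟩ := Submodule.mem_span_singleton.1 (show y ∈ Submodule.span F {(1 : K)} by rw [← hone]; trivial)
              exact ⟨a, by rw [← ha, Algebra.smul_def, mul_one]⟩
            obtain ⟨a, ha⟩ := hbot (ζ ^ ex k)
            obtain ⟨a', ha'⟩ := hbot (ζ ^ ex l)
            rw [← ha, ← ha', minpoly.eq_X_sub_C, minpoly.eq_X_sub_C, sub_right_inj] at hkl
            rw [← ha, ← ha', Polynomial.C_inj.1 hkl])
          (Or.inr (by
            rw [Fin.prod_univ_add, ← Finset.prod_mul_distrib]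
            refine Finset.prod_eq_one fun l _ => ?_
            have := l.2
            simp only [ex, Fin.addCases_left, Fin.addCases_right]
            rw [← map_mul, ← pow_add, show (l : ℕ) + 1 + (r - ((l : ℕ) + 1)) = r by omega, hζ, map_one]))
          (Or.inr ⟨⟨0, by omega⟩, ⟨1, by omega⟩, Or.inl fun e => by simpa using congrArg Fin.val (hinj _ _ e)⟩)
          (n := n) (by omega)
        obtain ⟨W, hWd, hW, hWT⟩ := hall x hx hxz hxs
        have hle := hxW W hW hWT
        rw [Finset.sum_eq_zero fun z _ => by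
          rw [mul_eq_zero]
          right
          refine Nat.div_eq_of_lt (Nat.lt_succ_of_le (Finset.card_le_one.2 fun k hk k' hk' => ?_))
          exact hinj _ _ ((Finset.mem_filter.1 hk).2.trans (Finset.mem_filter.1 hk').2.symm)] at hle
        omega
      · -- classes of pieces
        set R : Finset K := (Finset.Ico 1 r).image fun k => ζ ^ k
        have hR : ∀ η ∈ R, η ^ r = 1 ∧ η ≠ 1 := by
          intro η hη
          obtain ⟨k, hk, rfl⟩ := Finset.mem_image.1 hη
          obtain ⟨hk1, hk2⟩ := Finset.mem_Ico.1 hk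
          exact hroot k hk1 hk2
        have hRcard : R.card = r - 1 := by
          rw [Finset.card_image_of_injOn, Nat.card_Ico]
          intro a ha a' ha' haa
          exact pow_injOn_Iio_orderOf (by rw [Set.mem_Iio, hordζ]; exact (Finset.mem_Ico.1 ha).2)
            (by rw [Set.mem_Iio, hordζ]; exact (Finset.mem_Ico.1 ha').2) haa
        have hfib : R.card ≤ b * (R.image (minpoly F)).card := by
          refine Finset.card_le_mul_card_image R b fun g hg => ?_
          obtain ⟨η, -, rfl⟩ := Finset.mem_image.1 hg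
          have hint : IsIntegral F η := Algebra.IsIntegral.isIntegral η
          refine le_trans (Finset.card_le_card
            (t := ((minpoly F η).map (algebraMap F K)).roots.toFinset) fun y hy => ?_) ?_
          · rw [Multiset.mem_toFinset, Polynomial.mem_roots (Polynomial.map_ne_zero (minpoly.ne_zero hint)),
              Polynomial.IsRoot.def, Polynomial.eval_map, ← Polynomial.aeval_def, ← (Finset.mem_filter.1 hy).2,
              minpoly.aeval]
          · exact (Multiset.toFinset_card_le _).trans ((Polynomial.card_roots' _).trans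
              ((Polynomial.natDegree_map _).le.trans ((minpoly.natDegree_le η).trans hKdim.le)))
        set s := min (n' - 2 * m' + 1) (t - 1) with hs
        set L := 2 * m' - 1 with hL
        have hcard : s + 1 ≤ (R.image (minpoly F)).card := by
          refine le_trans ?_ (Nat.le_of_mul_le_mul_left ((hRcard.symm.trans_le hfib).trans' ht.ge) hb0)
          omega
        let E : Fin (s + 1) ↪ {g // g ∈ R.image (minpoly F)} :=
          (Fin.castLEEmb hcard).trans ((R.image (minpoly F)).equivFin.symm.toEmbedding)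
        have hEex : ∀ l, ∃ η ∈ R, minpoly F η = (E l).1 := fun l => Finset.mem_image.1 (E l).2
        choose z hz hzf using hEex
        have hzinj : ∀ l l', minpoly F (z l) = minpoly F (z l') → l = l' := fun l l' hll =>
          E.injective (Subtype.ext (by rw [← hzf, ← hzf, hll]))
        let cls : Fin (L + s) → Fin (s + 1) := fun k =>
          if hk : (k : ℕ) < L then 0 else ⟨(k : ℕ) - L + 1, by have := k.2; omega⟩
        have hcls : ∀ k : Fin (L + s), ((k : ℕ) < L ∧ (cls k : ℕ) = 0) ∨ (L ≤ (k : ℕ) ∧ (cls k : ℕ) = (k : ℕ) - L + 1) := fun k => by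
          by_cases hk : (k : ℕ) < L
          · exact Or.inl ⟨hk, by simp [cls, hk]⟩
          · exact Or.inr ⟨not_lt.1 hk, by simp [cls, hk]⟩
        have hsn : (L + s) * b ≤ n := (Nat.mul_le_mul_right b (show L + s ≤ n' by omega)).trans (Nat.div_mul_le_self n b)
        obtain ⟨x, hx, hxz, hxs, hxW⟩ := exists_class_element (r := r) hq hσ hσσ (p := p) hqp hbodd hKdim he.symm hdvd
          (N := L + s) (u := n - (L + s) * b) (fun k => z (cls k)) (fun k => hR _ (hz _))
          (fun k l hkl => congrArg z (hzinj _ _ hkl))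
          (Or.inl (hcop (by omega)))
          (Or.inr ⟨⟨0, by omega⟩, ⟨0, by omega⟩, Or.inr fun a ha => hb1 (by
            obtain ⟨hr1, hr1'⟩ := hR _ (hz (cls ⟨0, by omega⟩))
            rw [ha] at hr1 hr1'
            have har : a ^ r = 1 := (algebraMap F K).injective (by rw [map_pow, hr1, map_one])
            have ha1 : a ≠ 1 := fun e => hr1' (by rw [e, map_one])
            have hoa := orderOf_eq_prime har ha1
            have ha0 : a ≠ 0 := fun e => by rw [e, zero_pow hrpr.ne_zero] at har; exact zero_ne_one har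
            have hd := orderOf_dvd_of_pow_eq_one (FiniteField.pow_card_sub_one_eq_one a ha0)
            rw [hoa, ← ZMod.natCast_eq_zero_iff, Nat.cast_sub Fintype.card_pos, Nat.cast_one, sub_eq_zero] at hd
            rw [← he, hd, orderOf_one])⟩)
          (n := n) (by omega)
        obtain ⟨W, hWd, hW, hWT⟩ := hall x hx hxz hxs
        have hle := hxW W hW hWT
        have hsum : ∑ w ∈ Finset.univ.image (fun k => z (cls k)),
            b * ((Finset.univ.filter fun k => z (cls k) = w).card / 2) ≤ b * (m' - 1) := by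
          rw [← Finset.mul_sum]
          refine Nat.mul_le_mul_left b ?_
          rw [Finset.sum_eq_single_of_mem (z 0) (Finset.mem_image.2 ⟨⟨0, by omega⟩, Finset.mem_univ _, by
            rw [show cls ⟨0, by omega⟩ = 0 from Fin.ext (by rcases hcls ⟨0, by omega⟩ with h | h <;> simp at h ⊢ <;> omega)]⟩)]
          · have h1 : (Finset.univ.filter fun k => z (cls k) = z 0).card ≤ L := by
              refine (Finset.card_le_card_of_injOn (t := Finset.range L) Fin.val (fun k hk => ?_)
                (Fin.val_injective.injOn)).trans (Finset.card_range L).le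
              have hk' : cls k = 0 := hzinj _ _ (by rw [(Finset.mem_filter.1 hk).2])
              have := congrArg Fin.val hk'
              simp only [Finset.coe_range, Set.mem_Iio]
              rcases hcls k with h | h
              · simpa using h.1
              · rw [Fin.val_zero] at this
                omega
            omega
          · intro w hw hw0
            refine Nat.div_eq_of_lt (Nat.lt_succ_of_le (Finset.card_le_one.2 fun k hk k' hk' => Fin.ext ?_))
            have hk1 := (Finset.mem_filter.1 hk).2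
            have hk2 := (Finset.mem_filter.1 hk').2
            have hc' := congrArg Fin.val (hzinj (cls k) (cls k') (by rw [hk1, hk2]))
            rcases hcls k with h | h
            · exact absurd (hk1.symm.trans (congrArg z (Fin.ext h.2 : cls k = 0))) hw0
            · rcases hcls k' with h' | h' <;> omega
        have h2 : n' * b ≤ (L + s + 1) * b := Nat.mul_le_mul_right b (by omega)
        rw [add_mul, one_mul] at h2
        rw [mul_comm b n'] at hnd
        rw [Nat.mul_sub, mul_one] at hsum
        omega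
    · by_cases hi2 : i = 2
      swap
      · exact Or.inl (by omega)
      refine Or.inr ⟨hi2, ?_⟩
      by_contra h
      push Not at h
      obtain ⟨hrm, hv⟩ := h
      obtain ⟨x, hx, hxz, hxs, hxW⟩ := exists_nonpower_element (r := r) hq hσ hσσ hr2 hrF
        ((not_dvd_succ_iff hr2 hi).2 hi2) (show 0 < n by omega) (not_le.2 hv)
      obtain ⟨W, hWd, -, hWT⟩ := hall x hx hxz hxs
      exact hrm (hWd ▸ hxW W hWT)
  · rintro (⟨h, -⟩ | ⟨-, -, hbm, hmain, hcond⟩) x hx ⟨z, hz⟩ -
    · exact absurd h hr2
    obtain ⟨-, hzq, hxr⟩ := scalar_power hq hσ (by omega) hx hz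
    have power : ∀ l : F, l ^ (q + 1) = 1 → l ^ r = z →
        ∃ W : Submodule F (Fin n → F), finrank F W = m ∧ (∀ u ∈ W, ∀ v ∈ W, Cfsg.hermForm n F q u v = 0) ∧
          W.map (Matrix.toLin' (x : Matrix (Fin n) (Fin n) F)) ≤ W := by
      intro l hl hlr
      obtain ⟨hiso, hTr, -, hWinv⟩ := normal x hx z l hz hl hlr
      set T := l⁻¹ • Matrix.toLin' (x : Matrix (Fin n) (Fin n) F)
      obtain ⟨M, -, hMT, hMfree, -, ho, hM, hK, hdim⟩ := exists_split (refl_of_flip hH) hiso hrF hTr htop le_top
      obtain ⟨J, hJ⟩ := dvd_finrank (refl_of_flip hH) hiso hrpr.ne_zero hTr hc0 hM hMT fun W hW hWT hWn hne' =>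
        Elusive.SU.block hq hσ hσσ hne (p := p) hqp hH hiso hTr hr2 hrF hrq hi hb hc W hWT
          (fun v hv => hMfree v (hW hv)) hWn hne'
      rw [hJ, finrank_top, hdimV] at hdim
      set K := (⊤ : Submodule F (Fin n → F)) ⊓ Elusive.fixedSpace T
      have hkf : n % c ≤ finrank F K := by
        have h : n % c = finrank F K % c := by
          conv_lhs => rw [← hdim]
          exact Nat.add_mul_mod_self_left _ _ _
        exact h.trans_le (Nat.mod_le _ _)
      have hmd := Nat.div_add_mod m b
      set m' := m / b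
      by_cases h4' : i % 4 = 2
      · obtain ⟨hcb, -, -⟩ := h42 h4'
        rw [hcb] at hdim hJ hkf hmain
        obtain ⟨-, hcond', -⟩ := hcond.resolve_left (not_not.2 h4')
        have hnd := Nat.div_add_mod n b
        set n' := n / b
        set a := min m' ((J + 1 - t) / 2)
        obtain ⟨U, hUM, hUT, hU, hUd⟩ := exists_free_of_step hH hiso hrpr.ne_zero hTr (e := b)
          (D := ((r - 1) / b + 1) * b)
          (fun X hXM hXT hX hD => step_selfdual hq hσ hσσ hne (p := p) hqp hH hiso hTr hr2 hrF hrq hi hb hc h4' hMfree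
            X hXM hXT hX hD) a M le_rfl hMT hM (by
            rcases Nat.eq_zero_or_pos a with h0 | h0
            · exact Or.inl h0
            · refine Or.inr ?_
              rw [htt, hJ, ← mul_assoc, ← add_mul, mul_comm b J]
              exact Nat.mul_le_mul_right b (by omega))
        obtain ⟨W, hWT, hW, hWd⟩ := Elusive.SU.exists_isotropic_invariant hq hσ hH hK
          (fun v hv => Elusive.mem_fixedSpace.1 hv.2) hMfree ho hUM hUT hU (m := m) (by
            rw [hUd]
            have : a * b ≤ m' * b := Nat.mul_le_mul_right b (min_le_left _ _)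
            rw [mul_comm m' b] at this
            omega) (by
            rw [hUd]
            rcases min_cases m' ((J + 1 - t) / 2) with ⟨hmin, -⟩ | ⟨hmin, -⟩
            · rw [show a = m' from hmin, mul_comm m' b]
              omega
            · rw [show a = (J + 1 - t) / 2 from hmin]
              set A0 := (J + 1 - t) / 2
              have h1 : J * b ≤ (2 * A0 + t) * b := Nat.mul_le_mul_right b (by omega)
              have h2 : (t + 2 * m') * b ≤ n' * b := Nat.mul_le_mul_right b hcond'
              rw [add_mul, mul_assoc] at h1 h2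
              rw [mul_comm b n'] at hnd
              rw [mul_comm b m'] at hmd
              rw [mul_comm b J] at hdim
              have := Nat.mod_lt n hb0
              omega)
        exact ⟨W, hWd, pack W hW, hWinv W hWT⟩
      · rw [h4 h4'] at hdim hJ hkf hmain
        have hno : ∀ S : Submodule F (Fin n → F), S.map T ≤ S → (∀ v ∈ S, T v = v → v = 0) →
            finrank F S = orderOf (Fintype.card F : ZMod r) → ¬ NdOn (FormsLib.hermB n σ) S := by
          intro S hST hSfree hSd hS
          have hS0 : S ≠ ⊥ := fun e => by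
            rw [e, finrank_bot, he] at hSd
            omega
          obtain ⟨P, hPS, -, -, hPd⟩ :=
            Elusive.SU.block hq hσ hσσ hne (p := p) hqp hH hiso hTr hr2 hrF hrq hi hb hc S hST hSfree hS hS0
          have h' := Submodule.finrank_mono hPS
          rw [hPd, hSd, he, h4 h4'] at h'
          omega
        set a := min m' J
        obtain ⟨U, hUM, hUT, hU, hUd⟩ := exists_free_of_step hH hiso hrpr.ne_zero hTr (e := b) (D := 2 * b)
          (fun X hXM hXT hX hD => by
            have h := step_pairs hH hiso hrF hrQ hTr hno hMfree X hXM hXT hX (by rw [he]; exact hD)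
            rw [he] at h
            exact h) a M le_rfl hMT hM (by
            rcases Nat.eq_zero_or_pos a with h0 | h0
            · exact Or.inl h0
            · refine Or.inr ?_
              rw [hJ, ← mul_assoc, ← add_mul, mul_comm (2 * b) J, ← mul_assoc]
              exact Nat.mul_le_mul_right b (by omega))
        obtain ⟨W, hWT, hW, hWd⟩ := Elusive.SU.exists_isotropic_invariant hq hσ hH hK
          (fun v hv => Elusive.mem_fixedSpace.1 hv.2) hMfree ho hUM hUT hU (m := m) (by
            rw [hUd]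
            have : a * b ≤ m' * b := Nat.mul_le_mul_right b (min_le_left _ _)
            rw [mul_comm m' b] at this
            omega) (by
            rw [hUd]
            rcases min_cases m' J with ⟨hmin, -⟩ | ⟨hmin, -⟩
            · rw [show a = m' from hmin, mul_comm m' b]
              omega
            · rw [show a = J from hmin]
              rw [mul_assoc, mul_comm b J] at hdim
              omega)
        exact ⟨W, hWd, pack W hW, hWinv W hWT⟩
    by_cases hi2 : i = 2
    swap
    · obtain ⟨l, hl, hlr⟩ := exists_root (hcop hi2) hzq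
      exact power l hl hlr
    have hdvd := (not_dvd_succ_iff hr2 hi).2 hi2
    by_cases hpow : ∃ l : F, l ^ (q + 1) = 1 ∧ l ^ r = z
    · obtain ⟨l, hl, hlr⟩ := hpow
      exact power l hl hlr
    have hno : ∀ y : F, y ^ r ≠ z := fun y hy => hpow <| by
      refine exists_root_of_pow hq hdvd ?_
      rcases eq_or_ne y 0 with rfl | hy0
      · rw [zero_pow hrpr.ne_zero] at hy
        rw [← hy] at hzq
        simp at hzq
      have h1 := FiniteField.pow_card_sub_one_eq_one y hy0
      rw [hq, show q ^ 2 - 1 = r * ((q + 1) / r * (q - 1)) by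
        rw [← mul_assoc, Nat.mul_div_cancel' hdvd, ← Nat.sq_sub_sq, one_pow], pow_mul, hy] at h1
      have hg : z ^ Nat.gcd ((q + 1) / r * (q - 1)) (q + 1) = 1 := pow_gcd_eq_one.2 ⟨h1, hzq⟩
      refine orderOf_dvd_iff_pow_eq_one.1 ((orderOf_dvd_of_pow_eq_one hg).trans ?_)
      have hnd : ¬ r ∣ q - 1 := fun h => hr2 <| (Nat.prime_dvd_prime_iff_eq hrpr Nat.prime_two).1 <| by
        have h' := Nat.dvd_sub hdvd h
        rwa [show q + 1 - (q - 1) = 2 by omega] at h'
      conv_lhs => arg 2; rw [← Nat.div_mul_cancel hdvd]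
      rw [Nat.gcd_mul_left, (Nat.coprime_comm.1 ((hrpr.coprime_iff_not_dvd).2 hnd)).gcd_eq_one, mul_one]
    have hdet := Elusive.det_of_nonpower hrF hxr hno
    rw [LinearMap.det_toLin', x.2, hdimV, (Nat.Odd.sub_odd (hrpr.odd_of_ne_two hr2) odd_one).neg_one_pow,
      one_mul] at hdet
    have hrn := Elusive.prime_dvd_finrank hxr hno (U := ⊤) le_top
    rw [finrank_top, hdimV] at hrn
    obtain ⟨-, -, hc2⟩ := hcond.resolve_left (by omega)
    obtain ⟨-, hc2'⟩ := hc2.resolve_left (by omega)
    have hrm : r ∣ m := hc2'.resolve_right fun hv =>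
      hpow (exists_root_of_val hq hdvd (by omega) hrn hv hzq hdet.symm)
    obtain ⟨j, rfl⟩ := hrm
    set A := Matrix.toLin' (x : Matrix (Fin n) (Fin n) F) with hA
    obtain ⟨N, hN0, hAN⟩ : ∃ N, N ≠ 0 ∧ A ^ N = 1 := by
      refine ⟨orderOf x, (orderOf_pos x).ne', ?_⟩
      rw [hA, ← Matrix.toLin'_pow, ← Matrix.SpecialLinearGroup.coe_pow, pow_orderOf_eq_one,
        Matrix.SpecialLinearGroup.coe_one, Matrix.toLin'_one]
      rfl
    obtain ⟨U, -, hUT, hU, hUd⟩ := exists_free_of_step hH (iso_of_su hσ hx) hN0 hAN (e := r) (D := 2 * r)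
      (fun X _ hXT hX hD => step_nonpower hq hσ hσσ hne (p := p) hqp hH (iso_of_su hσ hx) hr2 hdvd hzq hxr hno X hXT hX hD)
      j ⊤ le_rfl le_top htop (by
        rcases Nat.eq_zero_or_pos j with h0 | h0
        · exact Or.inl h0
        · refine Or.inr ?_
          rw [finrank_top, hdimV, ← mul_assoc, ← add_mul]
          refine le_trans ?_ hmn
          rw [← mul_assoc, mul_comm 2 r, mul_assoc, mul_comm r (2 * j)]
          exact Nat.mul_le_mul_right r (by omega))
    exact ⟨U, by rw [hUd, mul_comm], pack U hU, hUT⟩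

end Cfsg.Agent.S5953
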