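import Cfsg.Statements.S5954
import Cfsg.Agent.Lib.Elusive.UnitaryModels
import Cfsg.Agent.Lib.Elusive.UnitaryScalars
import Cfsg.Agent.Lib.Elusive.UnitaryIsotropic
import Cfsg.Agent.Lib.Elusive.Unipotent
-- import your own Cfsg.Agent.* helpers here

set_option autoImplicit false
open scoped MatrixGroups
open Cfsg

namespace Cfsg.Agent.S5954

open Cfsg.Agent Module Elusive.FormIso Elusive.SU

set_option maxHeartbeats 1000000

section

variable {F : Type*} [Field F] [Fintype F] {q : ℕ} {σ : F →+* F}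

/-- An involution up to a scalar with paired eigenspaces. -/
theorem exists_sign_element (hq : Fintype.card F = q ^ 2) (hσ : ∀ x, σ x = x ^ q) (hσσ : ∀ x, σ (σ x) = x)
    (h2 : (2 : F) ≠ 0) {d : ℕ} (hd : 0 < d) {l : F} (hl : l ^ (q + 1) = -1) (hld : (-(l * l)) ^ d = 1) :
    ∃ x : Matrix.SpecialLinearGroup (Fin (d + d)) F, x ∈ Cfsg.SU (d + d) F q ∧
      (∃ z : F, ((x ^ 2 : Matrix.SpecialLinearGroup (Fin (d + d)) F) : Matrix (Fin (d + d)) (Fin (d + d)) F) =
        z • (1 : Matrix (Fin (d + d)) (Fin (d + d)) F)) ∧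
      (∀ z : F, (x : Matrix (Fin (d + d)) (Fin (d + d)) F) ≠ z • (1 : Matrix (Fin (d + d)) (Fin (d + d)) F)) ∧
      ∀ W : Submodule F (Fin (d + d) → F), (∀ u ∈ W, u ≠ 0 → ∃ v ∈ W, Cfsg.hermForm (d + d) F q u v ≠ 0) →
        W.map (Matrix.toLin' (x : Matrix (Fin (d + d)) (Fin (d + d)) F)) ≤ W → Even (finrank F W) := by
  classical
  set H := FormsLib.hermB d σ
  have hH : FormTorus.IsFlipForm σ 1 H := hermB_flip hσσ d
  let B : ((Fin d → F) × (Fin d → F)) →ₛₗ[σ] ((Fin d → F) × (Fin d → F)) →ₗ[F] F :=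
    LinearMap.mk₂'ₛₗ σ (RingHom.id F) (fun u v => H u.1 v.2 + H u.2 v.1)
      (fun u u' v => by simp; abel) (fun a u v => by simp [mul_add])
      (fun u v v' => by simp; abel) (fun a u v => by simp [mul_add])
  have hB : ∀ u v, B u v = H u.1 v.2 + H u.2 v.1 := fun u v => rfl
  have hfl : FormTorus.IsFlipForm σ 1 B := by
    refine ⟨fun u v => ?_, fun u hu => Prod.ext (hH.nondeg _ fun y => ?_) (hH.nondeg _ fun y => ?_)⟩
    · rw [hB, hB, map_add, one_mul, hH.flip u.1 v.2, hH.flip u.2 v.1, one_mul, one_mul, add_comm]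
    · simpa [hB] using hu (0, y)
    · simpa [hB] using hu (y, 0)
  let g : Module.End F ((Fin d → F) × (Fin d → F)) := (l • LinearMap.id).prodMap ((-l) • LinearMap.id)
  have hg : ∀ u, g u = (l • u.1, (-l) • u.2) := fun u => rfl
  have hl0 : l ≠ 0 := fun h => by simp [h] at hl
  have hlσ : σ l * l = -1 := by rw [hσ, ← pow_succ, hl]
  have hiso : ∀ u v, B (g u) (g v) = B u v := fun u v => by
    simp only [hB, hg, map_smul, map_smulₛₗ, LinearMap.smul_apply, smul_eq_mul, map_neg]
    linear_combination -(H u.1 v.2 + H u.2 v.1) * hlσ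
  have hdet : LinearMap.det g = 1 := by
    show LinearMap.det ((l • (LinearMap.id : (Fin d → F) →ₗ[F] _)).prodMap
      ((-l) • (LinearMap.id : (Fin d → F) →ₗ[F] _))) = 1
    rw [LinearMap.det_prodMap, LinearMap.det_smul, LinearMap.det_smul, LinearMap.det_id, finrank_fin_fun, mul_one,
      mul_one, ← mul_pow, mul_neg, hld]
  obtain ⟨x, hx, hxp, hxs, hxW⟩ := exists_su hq hσ hfl (by rw [finrank_prod, finrank_fin_fun]) g hiso hdet
  refine ⟨x, hx, ⟨l * l, hxp 2 _ (LinearMap.ext fun u => ?_)⟩, fun z hz => ?_, fun W hW hWT => ?_⟩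
  · rw [pow_two, Module.End.mul_apply, hg, hg, LinearMap.smul_apply, Module.End.one_apply]
    ext <;> simp [mul_assoc]
  · have h1 := congrArg (fun u => u.1 ⟨0, hd⟩) (hxs z hz (fun _ => 1, fun _ => 1))
    have h2' := congrArg (fun u => u.2 ⟨0, hd⟩) (hxs z hz (fun _ => 1, fun _ => 1))
    simp [hg] at h1 h2'
    exact mul_ne_zero h2 hl0 (by linear_combination h1 - h2')
  · obtain ⟨U, hUd, hUT, -, hUn⟩ := hxW W hWT
    have hU := hUn hW
    have h2l : 2 * l ≠ 0 := mul_ne_zero h2 hl0
    have hfst : ∀ u ∈ U, ((u.1, 0) : (Fin d → F) × (Fin d → F)) ∈ U := fun u hu => by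
      have h := U.smul_mem (2 * l)⁻¹ (U.add_mem (hUT ⟨u, hu, rfl⟩) (U.smul_mem l hu))
      rw [hg] at h
      convert h using 1
      ext j
      · simp only [Prod.smul_mk, Prod.mk_add_mk, Prod.smul_def, Pi.smul_apply, Pi.add_apply, smul_eq_mul]
        field_simp
        ring
      · simp only [Prod.smul_mk, Prod.mk_add_mk, Prod.smul_def, Pi.smul_apply, Pi.add_apply, smul_eq_mul,
          Pi.zero_apply]
        ring
    have hsnd : ∀ u ∈ U, ((0, u.2) : (Fin d → F) × (Fin d → F)) ∈ U := fun u hu => by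
      have h := U.sub_mem hu (hfst u hu)
      convert h using 1
      ext j <;> simp
    set U1 := U.map (LinearMap.fst F (Fin d → F) (Fin d → F))
    set U2 := U.map (LinearMap.snd F (Fin d → F) (Fin d → F))
    have hUeq : U = U1.prod U2 := by
      refine le_antisymm (fun u hu => ⟨⟨u, hu, rfl⟩, ⟨u, hu, rfl⟩⟩) ?_
      rintro ⟨a, b⟩ ⟨⟨u, hu, rfl⟩, ⟨v, hv, rfl⟩⟩
      convert U.add_mem (hfst u hu) (hsnd v hv) using 1
      simp
    have pair_le : ∀ X Y : Submodule F (Fin d → F), (∀ y ∈ Y, (∀ x ∈ X, H x y = 0) → y = 0) →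
        finrank F Y ≤ finrank F X := fun X Y hXY => by
      let bX := finBasis F X
      let L : Y →ₗ[F] (Fin (finrank F X) → F) := LinearMap.pi fun k => (H (bX k : Fin d → F)) ∘ₗ Y.subtype
      refine le_of_le_of_eq (LinearMap.finrank_le_finrank_of_injective (f := L)
        ((injective_iff_map_eq_zero L).2 fun y hy => ?_)) (finrank_fin_fun F)
      refine Subtype.ext (hXY y y.2 fun a ha => ?_)
      have h := congrArg Subtype.val (bX.sum_repr ⟨a, ha⟩)
      rw [Submodule.coe_sum] at h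
      simp only at h
      rw [← h]
      simp only [map_sum, LinearMap.sum_apply]
      refine Finset.sum_eq_zero fun k _ => ?_
      rw [Submodule.coe_smul, map_smulₛₗ, LinearMap.smul_apply,
        show H (bX k : Fin d → F) (y : Fin d → F) = 0 from congrFun hy k, smul_zero]
    have h12 : finrank F U2 ≤ finrank F U1 := pair_le U1 U2 fun y hy hall => by
      have hm : ((0, y) : (Fin d → F) × (Fin d → F)) ∈ U := by
        rw [hUeq]; exact ⟨U1.zero_mem, hy⟩
      refine congrArg Prod.snd (hU _ hm fun v hv => refl_of_flip hfl _ _ ?_)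
      rw [hB, map_zero, add_zero]
      exact hall v.1 ⟨v, hv, rfl⟩
    have h21 : finrank F U1 ≤ finrank F U2 := pair_le U2 U1 fun y hy hall => by
      have hm : ((y, 0) : (Fin d → F) × (Fin d → F)) ∈ U := by
        rw [hUeq]; exact ⟨hy, U2.zero_mem⟩
      refine congrArg Prod.fst (hU _ hm fun v hv => refl_of_flip hfl _ _ ?_)
      rw [hB, map_zero, zero_add]
      exact hall v.2 ⟨v, hv, rfl⟩
    let e : ↥(U1.prod U2) ≃ₗ[F] U1 × U2 :=
      { toFun := fun v => (⟨v.1.1, v.2.1⟩, ⟨v.1.2, v.2.2⟩)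
        invFun := fun v => ⟨(v.1.1, v.2.1), v.1.2, v.2.2⟩
        map_add' := fun _ _ => rfl
        map_smul' := fun _ _ => rfl
        left_inv := fun _ => rfl
        right_inv := fun _ => rfl }
    rw [← hUd, hUeq, e.finrank_eq, finrank_prod, le_antisymm h21 h12]
    exact ⟨_, rfl⟩

end

section

variable {F : Type*} [Field F] {σ : F →+* F} {V : Type*} [AddCommGroup V] [Module F V] [FiniteDimensional F V]
  {B : V →ₛₗ[σ] V →ₗ[F] F} {T : Module.End F V}

omit [FiniteDimensional F V] in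
/-- An invariant nondegenerate plane when the eigenspaces are totally isotropic. -/
theorem exists_plane_neg (h2 : (2 : F) ≠ 0) (hB : FormTorus.IsFlipForm σ 1 B) {S : Module.End F V}
    (hneg : ∀ u v, B (S u) (S v) = - B u v) (hSS : ∀ v, S (S v) = v) {X : Submodule F V} (hX : NdOn B X)
    (hXS : X.map S ≤ X) (hne : X ≠ ⊥) :
    ∃ P : Submodule F V, P ≤ X ∧ P.map S ≤ P ∧ NdOn B P ∧ finrank F P = 2 := by
  obtain ⟨v, hv, hv0⟩ := Submodule.exists_mem_ne_zero_of_ne_bot hne
  obtain ⟨e, s, he, he0, hs, hes⟩ : ∃ (e : V) (s : F), e ∈ X ∧ e ≠ 0 ∧ s * s = 1 ∧ S e = s • e := by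
    by_cases h : v + S v = 0
    · exact ⟨v, -1, hv, hv0, by ring, by rw [neg_one_smul, eq_neg_iff_add_eq_zero, add_comm, h]⟩
    · exact ⟨v + S v, 1, add_mem hv (hXS ⟨v, hv, rfl⟩), h, by ring, by rw [map_add, hSS, one_smul, add_comm]⟩
  have hσs : σ s = s := by
    rcases mul_self_eq_one_iff.1 hs with h | h <;> simp [h]
  obtain ⟨w, hw, hew⟩ : ∃ w ∈ X, B e w ≠ 0 := by
    by_contra h
    push Not at h
    exact he0 (hX e he h)
  set f := w - s • S w
  have hf : f ∈ X := sub_mem hw (X.smul_mem _ (hXS ⟨w, hw, rfl⟩))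
  have hSf : S f = (-s) • f := by
    simp only [f, map_sub, map_smul, hSS, smul_sub, smul_smul, neg_mul, hs, neg_smul, one_smul]
    abel
  have hiso : ∀ (a : F) u, a * a = 1 → σ a = a → S u = a • u → B u u = 0 := fun a u ha hσa hu => by
    have h := hneg u u
    rw [hu] at h
    simp only [map_smul, map_smulₛₗ, LinearMap.smul_apply, smul_eq_mul, hσa] at h
    exact (mul_eq_zero.1 (show (2 : F) * B u u = 0 by linear_combination h - (B u u) * ha)).resolve_left h2
  have hee := hiso s e hs hσs hes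
  have hff := hiso (-s) f (by rw [neg_mul_neg, hs]) (by rw [map_neg, hσs]) hSf
  have hef : B e f ≠ 0 := by
    have h := hneg e w
    rw [hes, map_smulₛₗ, LinearMap.smul_apply, smul_eq_mul, hσs] at h
    intro h0
    simp only [f, map_sub, map_smul, smul_eq_mul] at h0
    exact mul_ne_zero h2 hew (by linear_combination h0 + h)
  have hfe : B f e ≠ 0 := fun h => hef (refl_of_flip hB _ _ h)
  refine ⟨Submodule.span F {e, f}, Submodule.span_le.2 ?_, ?_, fun u hu hall => ?_, ?_⟩
  · rintro x (rfl | rfl) <;> assumption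
  · rw [Submodule.map_span_le]
    rintro x (rfl | rfl)
    · rw [hes]; exact Submodule.smul_mem _ _ (Submodule.subset_span (by simp))
    · rw [hSf]; exact Submodule.smul_mem _ _ (Submodule.subset_span (by simp))
  · obtain ⟨a, b, rfl⟩ := Submodule.mem_span_pair.1 hu
    have h1 := hall e (Submodule.subset_span (by simp))
    have h3 := hall f (Submodule.subset_span (by simp))
    simp [hee, hff, hef, hfe] at h1 h3
    simp [h1, h3]
  · have hli : LinearIndependent F ![e, f] := LinearIndependent.pair_iff.2 fun a b hab => by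
      have h1 := congrArg (B e) hab
      have h3 := congrArg (B f) hab
      simp [hee, hff, hef, hfe] at h1 h3
      exact ⟨h3, h1⟩
    have := finrank_span_eq_card hli
    rwa [Fintype.card_fin, Matrix.range_cons_cons_empty] at this

end

/-- Elements of prime order of PSU_n(q) with no fixed nondegenerate `m`-space. Here `T = PSU_n(q)` (`n ≥ 3`, `(n, q) ≠ (3, 2)`), realised through the matrices of determinant 1 over the field `F` with `q²` elements preserving the Hermitian form `h(u, v) = Σ u_i v_i^q`; an element of `T` of prime order `r` is such a matrix `x` with `x^r` scalar and `x` not scalar. For `r ≠ p` let `i` be the multiplicative order of `q` modulo `r`, `b = i/2` for `i` even and `b = i` for `i` odd, `c = i, i/2, 2i` according as `i ≡ 0, 2 (mod 4)` or `i` odd, and write `k = n mod c`, `ℓ = m mod b`, `ℓ' = m mod c`, `n' = ⌊n/b⌋`, `m' = ⌊m/b⌋`, `s = (r−1)/b`; `(a)_r` is the `r`-part of `a`. Let `1 ≤ m < n/2` and let `r` be a prime dividing the number of nondegenerate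 `m`-spaces. Then every element of `T` of order `r` fixes a nondegenerate `m`-space if and only if one of: (i) `r = p > 2` and every partition of `n` into parts of size at most `p` contains (as a sub-multiset) a partition of `m`; (ii) `r = p = 2` and (`n` is odd or `m` is even); (iii) `r = 2 ≠ p` and (`n` is odd, or `m` is even, or `(q+1)_2 ≥ (n)_2` and `q ≡ 3 (mod 4)`); (iv) `r ≠ p`, `r > 2`, and either `i ≠ 2`, `c ≤ m` and `k ≥ ℓ'`, or `i = 2` and (`r ∣ m` or `(q+1)_r ≥ (n)_r`). -/
theorem result {F : Type*} [Field F] [Fintype F] {p : ℕ} [Fact p.Prime] [CharP F p] {q : ℕ} (hq : Fintype.card F = q ^ 2)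
    (n m : ℕ) (hn : 3 ≤ n) (hT : (n, q) ≠ (3, 2)) (hm : 1 ≤ m) (hmn : 2 * m < n)
    (r : ℕ) [Fact r.Prime]
    (hrΩ : r ∣ Nat.card {W : Submodule F (Fin n → F) // Module.finrank F ↥W = m ∧ (∀ u ∈ W, u ≠ 0 → ∃ v ∈ W, Cfsg.hermForm n F q u v ≠ 0)})
    (i b c : ℕ) (hi : i = orderOf (q : ZMod r)) (hb : b = if Even i then i / 2 else i)
    (hc : c = if i % 4 = 0 then i else if i % 4 = 2 then i / 2 else 2 * i) :
    (∀ x : Matrix.SpecialLinearGroup (Fin n) F, x ∈ Cfsg.SU n F q →
      (∃ z : F, ((x ^ r : Matrix.SpecialLinearGroup (Fin n) F) : Matrix (Fin n) (Fin n) F) = z • (1 : Matrix (Fin n) (Fin n) F)) →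
      (∀ z : F, (x : Matrix (Fin n) (Fin n) F) ≠ z • (1 : Matrix (Fin n) (Fin n) F)) →
      ∃ W : Submodule F (Fin n → F), Module.finrank F ↥W = m ∧ (∀ u ∈ W, u ≠ 0 → ∃ v ∈ W, Cfsg.hermForm n F q u v ≠ 0) ∧
        W.map (Matrix.toLin' (x : Matrix (Fin n) (Fin n) F)) ≤ W) ↔
    ((r = p ∧ 2 < p ∧ (∀ μ : Multiset ℕ, (∀ a ∈ μ, 0 < a ∧ a ≤ p) → μ.sum = n → ∃ ν : Multiset ℕ, ν ≤ μ ∧ ν.sum = m)) ∨
     (r = p ∧ p = 2 ∧ (Odd n ∨ Even m)) ∨
     (r = 2 ∧ p ≠ 2 ∧ (Odd n ∨ Even m ∨ (padicValNat 2 n ≤ padicValNat 2 (q + 1) ∧ q % 4 = 3))) ∨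
     (r ≠ p ∧ 2 < r ∧ ((i ≠ 2 ∧ c ≤ m ∧ m % c ≤ n % c) ∨ (i = 2 ∧ (r ∣ m ∨ padicValNat r n ≤ padicValNat r (q + 1)))))) := by
  classical
  have hrpr := (Fact.out : r.Prime)
  have hppr := (Fact.out : p.Prime)
  obtain ⟨σ, f, hσ, hσσ, hne, hq2, hqp, hf⟩ := exists_setup hq (p := p)
  have hH : FormTorus.IsFlipForm σ 1 (FormsLib.hermB n σ) := hermB_flip hσσ n
  have htop : NdOn (FormsLib.hermB n σ) ⊤ := Elusive.SU.ndOn_top hH
  have hdimV : finrank F (Fin n → F) = n := finrank_fin_fun F
  have pack : ∀ W : Submodule F (Fin n → F), NdOn (FormsLib.hermB n σ) W →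
      ∀ u ∈ W, u ≠ 0 → ∃ v ∈ W, Cfsg.hermForm n F q u v ≠ 0 := by
    intro W hW u hu hu0
    by_contra h
    push Not at h
    exact hu0 (hW u hu fun v hv => refl_of_flip hH _ _ ((FormsLib.hermB_apply hσ v u).trans (h v hv)))
  have unpack : ∀ W : Submodule F (Fin n → F), (∀ u ∈ W, u ≠ 0 → ∃ v ∈ W, Cfsg.hermForm n F q u v ≠ 0) →
      NdOn (FormsLib.hermB n σ) W := by
    intro W hW u hu hall
    by_contra h0
    obtain ⟨v, hv, hv'⟩ := hW u hu h0
    exact hv' ((FormsLib.hermB_apply hσ v u).symm.trans (refl_of_flip hH _ _ (hall v hv)))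
  have normal : ∀ (x : Matrix.SpecialLinearGroup (Fin n) F), x ∈ Cfsg.SU n F q → ∀ z l : F,
      ((x ^ r : Matrix.SpecialLinearGroup (Fin n) F) : Matrix (Fin n) (Fin n) F) = z • (1 : Matrix (Fin n) (Fin n) F) →
      l ^ (q + 1) = 1 → l ^ r = z →
      (∀ u v, FormsLib.hermB n σ ((l⁻¹ • Matrix.toLin' (x : Matrix (Fin n) (Fin n) F)) u)
          ((l⁻¹ • Matrix.toLin' (x : Matrix (Fin n) (Fin n) F)) v) = FormsLib.hermB n σ u v) ∧
      (l⁻¹ • Matrix.toLin' (x : Matrix (Fin n) (Fin n) F)) ^ r = 1 ∧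
      ∀ W : Submodule F (Fin n → F), W.map (l⁻¹ • Matrix.toLin' (x : Matrix (Fin n) (Fin n) F)) ≤ W →
        W.map (Matrix.toLin' (x : Matrix (Fin n) (Fin n) F)) ≤ W := by
    intro x hx z l hz hl hlr
    have hl0 : l ≠ 0 := fun h => by simp [h] at hl
    refine ⟨fun u v => ?_, ?_, fun W hW => ?_⟩
    · have hσl : σ l⁻¹ * l⁻¹ = 1 := by rw [hσ, ← pow_succ, inv_pow, hl, inv_one]
      simp only [LinearMap.smul_apply, map_smul, map_smulₛₗ, iso_of_su hσ hx, smul_eq_mul]
      linear_combination (FormsLib.hermB n σ u v) * hσl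
    · rw [smul_pow, (scalar_power hq hσ (by omega) hx hz).2.2, smul_smul, inv_pow, hlr, inv_mul_cancel₀, one_smul]
      rw [← hlr]
      exact pow_ne_zero _ hl0
    · rintro _ ⟨v, hv, rfl⟩
      have h := W.smul_mem l (hW ⟨v, hv, rfl⟩)
      rwa [LinearMap.smul_apply, smul_smul, mul_inv_cancel₀ hl0, one_smul] at h
  by_cases hrp : r = p
  · -- unipotent elements
    subst hrp
    have key : (∀ x : Matrix.SpecialLinearGroup (Fin n) F, x ∈ Cfsg.SU n F q →
        (∃ z : F, ((x ^ r : Matrix.SpecialLinearGroup (Fin n) F) : Matrix (Fin n) (Fin n) F) = z • (1 : Matrix (Fin n) (Fin n) F)) →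
        (∀ z : F, (x : Matrix (Fin n) (Fin n) F) ≠ z • (1 : Matrix (Fin n) (Fin n) F)) →
        ∃ W : Submodule F (Fin n → F), finrank F ↥W = m ∧ (∀ u ∈ W, u ≠ 0 → ∃ v ∈ W, Cfsg.hermForm n F q u v ≠ 0) ∧
          W.map (Matrix.toLin' (x : Matrix (Fin n) (Fin n) F)) ≤ W) ↔
        (∀ μ : Multiset ℕ, (∀ a ∈ μ, 0 < a ∧ a ≤ r) → μ.sum = n → ∃ ν : Multiset ℕ, ν ≤ μ ∧ ν.sum = m) := by
      constructor
      · intro hall μ hμ hμs
        by_cases hall1 : ∀ a ∈ μ, a = 1
        · have hμ' : μ = Multiset.replicate μ.card 1 := Multiset.eq_replicate.2 ⟨rfl, hall1⟩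
          have hcard : μ.card = n := by
            rw [← hμs]; conv_rhs => rw [hμ', Multiset.sum_replicate, smul_eq_mul, mul_one]
          refine ⟨Multiset.replicate m 1, ?_, by simp⟩
          rw [hμ', hcard]
          exact (Multiset.replicate_le_replicate 1).2 (by omega)
        push Not at hall1
        obtain ⟨a, ha, ha1⟩ := hall1
        obtain ⟨n', g, hn', hiso, hN, hk⟩ := hasModel_of_valid hq hσ hσσ hne μ fun b hb => hμ b hb
        obtain rfl : n' = n := by omega
        have hgr : g ^ r = 1 := Elusive.SpUnip.pow_char_eq_one hN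
        have hdet : LinearMap.det g = 1 := by
          refine frobenius_inj F r ?_
          rw [frobenius_def, frobenius_def, ← map_pow, hgr, map_one, one_pow]
        obtain ⟨x, hx, hxp, hxs, hxW⟩ := exists_su hq hσ hH hdimV g hiso hdet
        obtain ⟨W, hWd, hW, hWT⟩ := hall x hx ⟨1, hxp r 1 (by rw [hgr, one_smul])⟩ fun z hz => by
          have hgz : g = z • (1 : Module.End F (Fin n' → F)) := LinearMap.ext fun v => hxs z hz v
          have hz1 : z = 1 := by
            refine frobenius_inj F r ?_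
            have h := LinearMap.congr_fun hgr (Pi.single ⟨0, by omega⟩ 1)
            rw [hgz, smul_pow, one_pow] at h
            simpa [frobenius_def] using congrFun h ⟨0, by omega⟩
          have h1 := hk 1
          rw [hgz, hz1, one_smul, sub_self, pow_one, LinearMap.range_zero, finrank_bot] at h1
          obtain ⟨ha', -⟩ := hμ a ha
          have h2 : a - 1 ≤ JordanOrth.rk μ 1 := Multiset.le_sum_of_mem (Multiset.mem_map_of_mem (· - 1) ha)
          omega
        obtain ⟨U, hUd, hUT, -, hUn⟩ := hxW W hWT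
        obtain ⟨ν, hν, hνs⟩ := exists_subtype hne hH hiso hrpr.ne_zero hgr hN (fun b hb => (hμ b hb).1) hk
          (hUn hW) hUT
        exact ⟨ν, hν, hνs.trans (hUd.trans hWd)⟩
      · rintro hcond x hx ⟨z, hz⟩ -
        obtain ⟨-, hzq, -⟩ := scalar_power hq hσ (by omega) hx hz
        have hcop : Nat.Coprime r (q + 1) := (hrpr.coprime_iff_not_dvd).2 fun h => by
          have hdq : r ∣ q := hqp ▸ dvd_pow_self r hf.ne'
          exact hrpr.ne_one (Nat.dvd_one.1 ((Nat.dvd_add_right hdq).1 h))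
        obtain ⟨l, hl, hlr⟩ := exists_root hcop hzq
        obtain ⟨hiso, hTr, hWinv⟩ := normal x hx z l hz hl hlr
        set T := l⁻¹ • Matrix.toLin' (x : Matrix (Fin n) (Fin n) F) with hTdef
        have hN : (T - 1) ^ r = 0 := by
          have h1 : ((Polynomial.X : Polynomial F) - 1) ^ r = Polynomial.X ^ r - 1 := by rw [sub_pow_char, one_pow]
          have h2 := congrArg (Polynomial.aeval T) h1
          simp only [map_pow, map_sub, map_one, Polynomial.aeval_X] at h2
          rw [h2, hTr, sub_self]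
        obtain ⟨μ, hμv, hμs, -, hsub⟩ := exists_type hne hH hiso hrpr.ne_zero hTr (p := r) ⊤ htop le_top
          fun u _ => by rw [hN]; rfl
        obtain ⟨ν, hν, hνs⟩ := hcond μ (fun a ha => hμv a ha) (by rw [hμs, finrank_top, hdimV])
        obtain ⟨W, -, hWT, hW, hWd⟩ := hsub ν hν
        exact ⟨W, hWd.trans hνs, pack W hW, hWinv W hWT⟩
    rw [key]
    by_cases hr2 : r = 2
    · subst hr2
      rw [Elusive.partition_two_iff (by omega : m ≤ n)]
      constructor
      · exact fun h => Or.inr (Or.inl ⟨rfl, rfl, h⟩)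
      · rintro (⟨-, h, -⟩ | ⟨-, -, h⟩ | ⟨-, h, -⟩ | ⟨h, -⟩)
        · omega
        · exact h
        · exact absurd rfl h
        · exact absurd rfl h
    · constructor
      · exact fun h => Or.inl ⟨rfl, by have := hrpr.two_le; omega, h⟩
      · rintro (⟨-, -, h⟩ | ⟨-, h, -⟩ | ⟨h, -⟩ | ⟨h, -⟩)
        · exact h
        · exact absurd h hr2
        · exact absurd h hr2
        · exact absurd rfl h
  have hrF : (r : F) ≠ 0 := Elusive.natCast_prime_ne_zero (p := p) hrp
  by_cases hr2 : r = 2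
  · -- involutions
    subst hr2
    have hp2 : p ≠ 2 := fun h => hrp h.symm
    have h20 : (2 : F) ≠ 0 := by exact_mod_cast hrF
    obtain ⟨k, hk⟩ : Odd q := by
      rw [hqp]
      exact (hppr.odd_of_ne_two hp2).pow
    constructor
    · intro hall
      refine Or.inr (Or.inr (Or.inl ⟨rfl, hp2, ?_⟩))
      by_contra h
      push Not at h
      obtain ⟨hno, hme, hcond⟩ := h
      obtain ⟨d, rfl⟩ := Nat.not_odd_iff_even.1 hno
      have key : ∀ l : F, l ^ (q + 1) = -1 → (-(l * l)) ^ d = 1 → False := fun l hl hld => by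
        obtain ⟨x, hx, hxz, hxs, hxW⟩ := exists_sign_element hq hσ hσσ h20 (by omega) hl hld
        obtain ⟨W, hWd, hW, hWT⟩ := hall x hx hxz hxs
        exact hme (hWd ▸ hxW W hW hWT)
      have hne1 : (-1 : F) ≠ 1 := fun h => h20 (by linear_combination -h)
      rcases Nat.even_or_odd k with ⟨u, hu⟩ | hkodd
      · obtain ⟨l, hl, hlq⟩ := exists_sqrt hq h20 (z := (-1 : F)) (Even.neg_one_pow ⟨k + 1, by omega⟩)
        refine key l (hlq.resolve_left fun h => hne1 ?_) (by rw [hl, neg_neg, one_pow])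
        rw [show q + 1 = 2 * (2 * u + 1) by omega, pow_mul, pow_two, hl, Odd.neg_one_pow ⟨u, rfl⟩] at h
        exact h
      · have hq4 : q % 4 = 3 := by
          obtain ⟨u, hu⟩ := hkodd
          omega
        have hv : padicValNat 2 (q + 1) < padicValNat 2 (d + d) :=
          Nat.lt_of_not_le fun h => hcond h hq4
        set v := padicValNat 2 (q + 1) with hvdef
        have hv2 : 2 ≤ v := (padicValNat_dvd_iff_le (p := 2) (by omega)).1 (by
          show 2 ^ 2 ∣ q + 1
          omega)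
        obtain ⟨w, hw⟩ : 2 ^ v ∣ d := by
          have h := (padicValNat_dvd_iff_le (p := 2) (show d + d ≠ 0 by omega)).2 hv
          rw [pow_succ', ← two_mul] at h
          exact Nat.dvd_of_mul_dvd_mul_left two_pos h
        obtain ⟨z, hzq, hzo⟩ := exists_norm_one_of_order hq (N := 2 ^ v) pow_padicValNat_dvd
        obtain ⟨l, hl, hlq⟩ := exists_sqrt hq h20 hzq
        refine key l (hlq.resolve_left fun h => ?_) ?_
        · have hol : orderOf l = 2 ^ (v + 1) := by
            obtain ⟨e, he⟩ : ∃ e, v = e + 1 := ⟨v - 1, by omega⟩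
            rw [he] at hzo ⊢
            refine orderOf_eq_prime_pow (fun h' => ?_) ?_
            · rw [pow_succ' 2 e, pow_mul, pow_two, hl] at h'
              have := Nat.le_of_dvd (pow_pos two_pos _) (orderOf_dvd_of_pow_eq_one h')
              rw [hzo] at this
              exact absurd this (not_le.2 (Nat.pow_lt_pow_right one_lt_two (Nat.lt_succ_self e)))
            · rw [pow_succ' 2 (e + 1), pow_mul, pow_two, hl, ← hzo, pow_orderOf_eq_one]
          have h' := (padicValNat_dvd_iff_le (p := 2) (show q + 1 ≠ 0 by omega)).1 (hol ▸ orderOf_dvd_of_pow_eq_one h)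
          rw [← hvdef] at h'
          omega
        · rw [hl, hw, pow_mul, neg_pow, ← hzo, pow_orderOf_eq_one, mul_one, hzo,
            ((even_two.pow_of_ne_zero (by omega)).neg_one_pow), one_pow]
    · rintro (⟨h, -⟩ | ⟨h, -⟩ | ⟨-, -, hcond⟩ | ⟨-, h, -⟩) x hx ⟨z, hz⟩ -
      · exact absurd h hrp
      · exact absurd h hrp
      swap
      · omega
      obtain ⟨hzn, hzq, hA2⟩ := scalar_power hq hσ (by omega) hx hz
      set A := Matrix.toLin' (x : Matrix (Fin n) (Fin n) F) with hAdef
      have hisoA : ∀ u v, FormsLib.hermB n σ (A u) (A v) = FormsLib.hermB n σ u v := iso_of_su hσ hx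
      obtain ⟨l, hl, hlq⟩ := exists_sqrt hq h20 hzq
      have hl0 : l ≠ 0 := fun h => by
        rw [← hl, h, mul_zero] at hzq
        simp at hzq
      rcases hlq with hlq | hlq
      · -- nondegenerate eigenspaces
        obtain ⟨hiso, hTr, hWinv⟩ := normal x hx z l hz hlq (by rw [pow_two, hl])
        set T := l⁻¹ • Matrix.toLin' (x : Matrix (Fin n) (Fin n) F) with hTdef
        obtain ⟨W, -, hWT, hW, hWd⟩ := exists_invariant (refl_of_flip hH) hiso hrF hTr one_pos one_pos dvd_rfl
          (fun Y _ hfree hY hY0 => by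
            obtain ⟨S, hSY, hS, hSd⟩ := exists_line hne hY hY0
            refine ⟨S, hSY, ?_, hS, hSd⟩
            rintro _ ⟨v, hv, rfl⟩
            have hTv : T v = -v := by
              refine eq_neg_of_add_eq_zero_left (hfree _ (Y.add_mem ?_ (hSY hv)) ?_)
              · exact (‹Y.map T ≤ Y›) ⟨v, hSY hv, rfl⟩
              · rw [map_add, ← Module.End.mul_apply, ← pow_two, hTr, Module.End.one_apply, add_comm]
            rw [hTv]
            exact S.neg_mem hv)
          (fun Y _ hY hY0 => exists_line hne hY hY0) htop le_top (m := m) (by rw [finrank_top, hdimV]; omega)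
          (one_dvd m) (by rw [Nat.mod_one]; exact Nat.zero_le _)
        exact ⟨W, hWd, pack W hW, hWinv W hWT⟩
      · -- totally isotropic eigenspaces
        set S : Module.End F (Fin n → F) := l⁻¹ • A with hSdef
        have hneg : ∀ u v, FormsLib.hermB n σ (S u) (S v) = - FormsLib.hermB n σ u v := fun u v => by
          have hσl : σ l⁻¹ * l⁻¹ = -1 := by rw [hσ, ← pow_succ, inv_pow, hlq, inv_neg, inv_one]
          simp only [hSdef, LinearMap.smul_apply, map_smul, map_smulₛₗ, hisoA, smul_eq_mul]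
          linear_combination (FormsLib.hermB n σ u v) * hσl
        have hSS : ∀ v, S (S v) = v := fun v => by
          simp only [hSdef, LinearMap.smul_apply, map_smul, smul_smul, ← Module.End.mul_apply, ← pow_two, hA2]
          simp only [← hl, LinearMap.smul_apply, Module.End.one_apply, smul_smul]
          rw [show l⁻¹ * (l⁻¹ * (l * l)) = 1 by field_simp, one_smul]
        have hAS : ∀ Y : Submodule F (Fin n → F), Y.map A ≤ Y → Y.map S ≤ Y := fun Y hY => by
          rintro _ ⟨v, hv, rfl⟩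
          exact Y.smul_mem _ (hY ⟨v, hv, rfl⟩)
        have hSA : ∀ Y : Submodule F (Fin n → F), Y.map S ≤ Y → Y.map A ≤ Y := fun Y hY => by
          rintro _ ⟨v, hv, rfl⟩
          have h := Y.smul_mem l (hY ⟨v, hv, rfl⟩)
          rwa [hSdef, LinearMap.smul_apply, smul_smul, mul_inv_cancel₀ hl0, one_smul] at h
        obtain ⟨N, hN0, hAN⟩ : ∃ N, N ≠ 0 ∧ A ^ N = 1 := by
          refine ⟨orderOf x, (orderOf_pos x).ne', ?_⟩
          rw [hAdef, ← Matrix.toLin'_pow, ← Matrix.SpecialLinearGroup.coe_pow, pow_orderOf_eq_one,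
            Matrix.SpecialLinearGroup.coe_one, Matrix.toLin'_one]
          rfl
        have hblock : ∀ Y : Submodule F (Fin n → F), Y ≤ ⊤ → Y.map A ≤ Y → NdOn (FormsLib.hermB n σ) Y → Y ≠ ⊥ →
            ∃ P : Submodule F (Fin n → F), P ≤ Y ∧ P.map A ≤ P ∧ NdOn (FormsLib.hermB n σ) P ∧ finrank F P = 2 :=
          fun Y _ hYA hY hY0 => by
            obtain ⟨P, h1, h2, h3, h4⟩ := exists_plane_neg h20 hH hneg hSS hY (hAS Y hYA) hY0
            exact ⟨P, h1, hSA P h2, h3, h4⟩
        obtain ⟨w, hw⟩ := dvd_finrank (refl_of_flip hH) hisoA hN0 hAN two_pos htop le_top hblock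
        rw [finrank_top, hdimV] at hw
        have hme : Even m := by
          rcases hcond with h | h | ⟨hv, hq4⟩
          · obtain ⟨u, hu⟩ := h
            omega
          · exact h
          · exfalso
            -- the determinant
            have hne1 : (-1 : F) ≠ 1 := fun h => h20 (by linear_combination -h)
            have hdet : LinearMap.det A = 1 := by rw [hAdef, LinearMap.det_toLin']; exact x.2
            have hz : (-z) ^ w = 1 := by
              obtain ⟨d, hd, hdd⟩ := det_sign h20 hσσ hH hneg hSS l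
              rw [hSdef, smul_smul, mul_inv_cancel₀ hl0, one_smul, hdet, hl] at hdd
              rw [hdimV] at hd
              rw [show w = d by omega, ← hdd]
            set v := padicValNat 2 (q + 1) with hvdef
            have hdvd : orderOf (-z) ∣ w := orderOf_dvd_of_pow_eq_one hz
            have hzq' : (-z) ^ (q + 1) = 1 := by rw [(show Even (q + 1) from ⟨k + 1, by omega⟩).neg_pow, hzq]
            have hvn : padicValNat 2 w + 1 ≤ v := by
              rw [hw, padicValNat.mul two_ne_zero (by omega), padicValNat.self one_lt_two] at hv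
              omega
            have hzh : (-z) ^ ((q + 1) / 2) = 1 := by
              refine orderOf_dvd_iff_pow_eq_one.1 ((Nat.dvd_div_iff_mul_dvd (by omega)).2 ?_)
              set o := orderOf (-z)
              have ho1 : o ∣ q + 1 := orderOf_dvd_of_pow_eq_one hzq'
              obtain ⟨e, o', ho', hoe⟩ := Nat.exists_eq_two_pow_mul_odd (n := o) fun e => Nat.succ_ne_zero q (by rw [e, zero_dvd_iff] at ho1; exact ho1)
              rw [hoe, ← mul_assoc, ← pow_succ']
              refine (Nat.Coprime.pow_left _ (Nat.coprime_two_left.2 ho')).mul_dvd_of_dvd_of_dvd ?_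
                ((hoe ▸ dvd_mul_left o' _).trans ho1)
              refine (pow_dvd_pow 2 ?_).trans pow_padicValNat_dvd
              have := (padicValNat_dvd_iff_le (p := 2) (show w ≠ 0 by omega)).1
                ((hoe ▸ dvd_mul_right (2 ^ e) o').trans hdvd)
              omega
            refine hne1 ?_
            rw [neg_pow, Even.neg_one_pow (Nat.even_iff.2 (by omega)), one_mul, ← hl, ← pow_two, ← pow_mul,
              Nat.mul_div_cancel' (by omega : 2 ∣ q + 1), hlq] at hzh
            exact hzh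
        obtain ⟨j, hj⟩ := hme
        obtain ⟨W, -, hWT, hW, hWd⟩ := exists_multiple (refl_of_flip hH) hisoA hN0 hAN two_pos htop le_top hblock j
          (by rw [finrank_top, hdimV]; omega)
        exact ⟨W, by rw [hWd]; omega, pack W hW, hWT⟩
  -- semisimple elements of odd order
  have hr3 : 2 < r := lt_of_le_of_ne hrpr.two_le (Ne.symm hr2)
  have hrq : (q : ZMod r) ≠ 0 := by
    rw [hqp, Nat.cast_pow]
    refine pow_ne_zero _ fun h => hrp ?_
    exact (Nat.prime_dvd_prime_iff_eq hrpr hppr).1 ((ZMod.natCast_eq_zero_iff _ _).1 h)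
  obtain ⟨hb0, hc0, -, -, h42, -⟩ := bc_facts hr2 hrq hi hb hc
  have hblock : ∀ {T : Module.End F (Fin n → F)},
      (∀ u v, FormsLib.hermB n σ (T u) (T v) = FormsLib.hermB n σ u v) → T ^ r = 1 →
      ∀ W : Submodule F (Fin n → F), W.map T ≤ W → (∀ v ∈ W, T v = v → v = 0) →
        NdOn (FormsLib.hermB n σ) W → W ≠ ⊥ →
        ∃ S : Submodule F (Fin n → F), S ≤ W ∧ S.map T ≤ S ∧ NdOn (FormsLib.hermB n σ) S ∧ finrank F S = c :=
    fun hiso hT W hWT hfree hW hW0 =>
      Elusive.SU.block hq hσ hσσ hne (p := p) hqp hH hiso hT hr2 hrF hrq hi hb hc W hWT hfree hW hW0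
  constructor
  · intro hall
    refine Or.inr (Or.inr (Or.inr ⟨hrp, hr3, ?_⟩))
    by_cases hi2 : i = 2
    · refine Or.inr ⟨hi2, ?_⟩
      by_contra h
      push Not at h
      obtain ⟨hrm, hv⟩ := h
      obtain ⟨x, hx, hxz, hxs, hxW⟩ := exists_nonpower_element (r := r) hq hσ hσσ hr2 hrF
        ((not_dvd_succ_iff hr2 hi).2 hi2) (show 0 < n by omega) (not_le.2 hv)
      obtain ⟨W, hWd, -, hWT⟩ := hall x hx hxz hxs
      exact hrm (hWd ▸ hxW W hWT)
    · refine Or.inl ⟨hi2, ?_⟩
      obtain ⟨hkm, hcn⟩ := nd_mod_lt hq hσ hσσ hr2 hrq hi hc hc0 (by omega : m ≤ n) hrΩ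
      obtain ⟨x, hx, hTr, hxz, hfix⟩ := exists_element hq hσ hσσ hne (p := p) hqp hr2 hrF hrq hi hb hc hi2 n
      have hcop : Nat.Coprime r (q + 1) :=
        (hrpr.coprime_iff_not_dvd).2 fun h => hi2 ((not_dvd_succ_iff hr2 hi).1 h)
      obtain ⟨W, hWd, hW, hWT⟩ := hall x hx ⟨1, hxz⟩ fun z hz => by
        set A := Matrix.toLin' (x : Matrix (Fin n) (Fin n) F) with hA
        have hzn : z ^ (q + 1) = 1 := (scalar_power hq hσ (by omega) hx (r := 1) (z := z) (by rw [pow_one]; exact hz)).2.1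
        have hzr : z ^ r = 1 := by
          have h := hTr
          rw [hA, hz, map_smul, Matrix.toLin'_one, smul_pow] at h
          have h' := congrFun (LinearMap.congr_fun h (Pi.single ⟨0, by omega⟩ 1)) ⟨0, by omega⟩
          simpa [show ((LinearMap.id : Module.End F (Fin n → F))) ^ r = 1 from one_pow r] using h'
        have hz1 : z = 1 := by
          have := pow_gcd_eq_one.2 ⟨hzr, hzn⟩
          rwa [hcop.gcd_eq_one, pow_one] at this
        rw [hA, hz, hz1, one_smul, Matrix.toLin'_one,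
          show Elusive.fixedSpace (LinearMap.id : Module.End F (Fin n → F)) = ⊤ from
            eq_top_iff.2 fun v _ => Elusive.mem_fixedSpace.2 rfl, finrank_top, hdimV] at hfix
        have := Nat.mod_lt n hc0
        omega
      have h1 : m % c ≤ n % c := by
        rw [← hfix, ← hWd, finrank_mod (refl_of_flip hH) (iso_of_su hσ hx) hrF hTr hc0
          (hblock (iso_of_su hσ hx) hTr) (unpack W hW) hWT]
        exact (Nat.mod_le _ _).trans (Submodule.finrank_mono inf_le_right)
      refine ⟨?_, h1⟩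
      by_contra hlt
      rw [Nat.mod_eq_of_lt (not_le.1 hlt)] at h1
      omega
  · rintro (⟨h, -⟩ | ⟨h, -⟩ | ⟨h, -⟩ | ⟨-, -, hcond⟩) x hx ⟨z, hz⟩ -
    · exact absurd h hrp
    · exact absurd h hrp
    · exact absurd h hr2
    obtain ⟨hzn, hzq, hxr⟩ := scalar_power hq hσ (by omega) hx hz
    have power : ∀ l : F, l ^ (q + 1) = 1 → l ^ r = z → m % c ≤ n % c →
        ∃ W : Submodule F (Fin n → F), finrank F W = m ∧ (∀ u ∈ W, u ≠ 0 → ∃ v ∈ W, Cfsg.hermForm n F q u v ≠ 0) ∧
          W.map (Matrix.toLin' (x : Matrix (Fin n) (Fin n) F)) ≤ W := by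
      intro l hl hlr hmod
      obtain ⟨hiso, hTr, hWinv⟩ := normal x hx z l hz hl hlr
      obtain ⟨W, -, hWT, hW, hWd⟩ := exists_invariant (refl_of_flip hH) hiso hrF hTr hc0 one_pos (one_dvd c)
        (hblock hiso hTr) (fun Y _ hY hY0 => exists_line hne hY hY0) htop le_top (m := m)
        (by rw [finrank_top, hdimV]; omega) (one_dvd m) (by
          have h1 := finrank_mod (refl_of_flip hH) hiso hrF hTr hc0 (hblock hiso hTr) htop le_top
          rw [finrank_top, hdimV] at h1
          exact (hmod.trans h1.le).trans (Nat.mod_le _ _))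
      exact ⟨W, hWd, pack W hW, hWinv W hWT⟩
    rcases hcond with ⟨hi2, -, hmod⟩ | ⟨hi2, hcond⟩
    · obtain ⟨l, hl, hlr⟩ := exists_root ((hrpr.coprime_iff_not_dvd).2 fun h => hi2 ((not_dvd_succ_iff hr2 hi).1 h)) hzq
      exact power l hl hlr hmod
    · have hc1 : c = 1 := by obtain ⟨h1, -, h3⟩ := h42 (by omega); omega
      have hdvd := (not_dvd_succ_iff hr2 hi).2 hi2
      by_cases hpow : ∃ l : F, l ^ (q + 1) = 1 ∧ l ^ r = z
      · obtain ⟨l, hl, hlr⟩ := hpow
        exact power l hl hlr (by rw [hc1, Nat.mod_one, Nat.mod_one])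
      have hno : ∀ b : F, b ^ r ≠ z := fun b hb => hpow <| by
        refine exists_root_of_pow hq hdvd ?_
        rcases eq_or_ne b 0 with rfl | hb0
        · rw [zero_pow hrpr.ne_zero] at hb
          rw [← hb] at hzq
          simp at hzq
        have h1 := FiniteField.pow_card_sub_one_eq_one b hb0
        rw [hq, show q ^ 2 - 1 = r * ((q + 1) / r * (q - 1)) by
          rw [← mul_assoc, Nat.mul_div_cancel' hdvd, ← Nat.sq_sub_sq, one_pow], pow_mul, hb] at h1
        have hcop : Nat.Coprime ((q + 1) / r) 1 := Nat.coprime_one_right _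
        have hg : z ^ Nat.gcd ((q + 1) / r * (q - 1)) (q + 1) = 1 := pow_gcd_eq_one.2 ⟨h1, hzq⟩
        refine orderOf_dvd_iff_pow_eq_one.1 ((orderOf_dvd_of_pow_eq_one hg).trans ?_)
        have hnd : ¬ r ∣ q - 1 := fun h => hr2 <| (Nat.prime_dvd_prime_iff_eq hrpr Nat.prime_two).1 <| by
          have h' := Nat.dvd_sub hdvd h
          rwa [show q + 1 - (q - 1) = 2 by omega] at h'
        conv_lhs => arg 2; rw [← Nat.div_mul_cancel hdvd]
        rw [Nat.gcd_mul_left, (Nat.coprime_comm.1 ((hrpr.coprime_iff_not_dvd).2 hnd)).gcd_eq_one, mul_one]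
      have hdet := Elusive.det_of_nonpower hrF hxr hno
      rw [LinearMap.det_toLin', x.2, hdimV, (Nat.Odd.sub_odd (hrpr.odd_of_ne_two hr2) odd_one).neg_one_pow,
        one_mul] at hdet
      have hrn := Elusive.prime_dvd_finrank hxr hno (U := ⊤) le_top
      rw [finrank_top, hdimV] at hrn
      have hrm : r ∣ m := hcond.resolve_right fun hv =>
        hpow (exists_root_of_val hq hdvd (by omega) hrn hv hzq hdet.symm)
      obtain ⟨j, rfl⟩ := hrm
      set A := Matrix.toLin' (x : Matrix (Fin n) (Fin n) F) with hA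
      obtain ⟨N, hN0, hAN⟩ : ∃ N, N ≠ 0 ∧ A ^ N = 1 := by
        refine ⟨orderOf x, (orderOf_pos x).ne', ?_⟩
        rw [hA, ← Matrix.toLin'_pow, ← Matrix.SpecialLinearGroup.coe_pow, pow_orderOf_eq_one,
          Matrix.SpecialLinearGroup.coe_one, Matrix.toLin'_one]
        rfl
      obtain ⟨W, -, hWT, hW, hWd⟩ := exists_multiple (refl_of_flip hH) (iso_of_su hσ hx) hN0 hAN hrpr.pos htop le_top
        (fun Y _ hYA hY hY0 => exists_piece_nonpower hne hH (iso_of_su hσ hx) hN0 hAN hxr hno hY hYA hY0) j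
        (by rw [finrank_top, hdimV, mul_comm]; omega)
      exact ⟨W, by rw [hWd, mul_comm], pack W hW, hWT⟩

end Cfsg.Agent.S5954
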