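import Cfsg.Statements.S5956
import Cfsg.Agent.Lib.Elusive.SymplecticSubspaces
import Cfsg.Agent.Lib.Elusive.SymplecticWitness
import Cfsg.Agent.Lib.Elusive.SymplecticUnipotentModels
-- import your own Cfsg.Agent.* helpers here

set_option autoImplicit false
open scoped MatrixGroups
open Cfsg

namespace Cfsg.Agent.S5956

open Cfsg.Agent Module Elusive.FormIso Elusive.SpUnip

section

variable {F : Type*} [Field F] {d : ℕ}

/-- A scalar in the symplectic group squares to one. -/
theorem scalar_sq (hd : 0 < d) {x : ↥(Matrix.symplecticGroup (Fin d) F)} {z : F}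
    (hz : (x : Matrix (Fin d ⊕ Fin d) (Fin d ⊕ Fin d) F) = z • 1) : z * z = 1 := by
  have h1 := (FormsLib.mem_symplectic_iff _).1 x.2 (Pi.single (Sum.inr ⟨0, hd⟩) 1) (Pi.single (Sum.inl ⟨0, hd⟩) 1)
  rw [hz] at h1
  simpa [FormsLib.spB_expand, Pi.single_apply, Matrix.one_apply] using h1

/-- A scalar of odd order in the symplectic group is one. -/
theorem scalar_eq_one (hd : 0 < d) {x : ↥(Matrix.symplecticGroup (Fin d) F)} {z : F} {r : ℕ} (hr : Odd r)
    (hxr : (x : Matrix (Fin d ⊕ Fin d) (Fin d ⊕ Fin d) F) ^ r = 1)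
    (hz : (x : Matrix (Fin d ⊕ Fin d) (Fin d ⊕ Fin d) F) = z • 1) : z = 1 := by
  have h1 := congrArg (fun M : Matrix (Fin d ⊕ Fin d) (Fin d ⊕ Fin d) F => M (Sum.inl ⟨0, hd⟩) (Sum.inl ⟨0, hd⟩)) hxr
  rw [hz] at h1
  simp [smul_pow] at h1
  obtain ⟨l, hl⟩ := hr
  rwa [hl, pow_succ, pow_mul, pow_two, scalar_sq hd hz, one_pow, one_mul] at h1

/-- The matrix of an isometry. -/
theorem exists_elem (g : Module.End F (Fin d ⊕ Fin d → F))
    (hg : ∀ u v, FormsLib.spB d F (g u) (g v) = FormsLib.spB d F u v) :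
    ∃ x : ↥(Matrix.symplecticGroup (Fin d) F), Matrix.toLin' (x : Matrix (Fin d ⊕ Fin d) (Fin d ⊕ Fin d) F) = g :=
  ⟨⟨LinearMap.toMatrix' g, (FormsLib.mem_symplectic_iff _).2 fun u v => by
    rw [LinearMap.toMatrix'_mulVec, LinearMap.toMatrix'_mulVec, hg]⟩, Matrix.toLin'_toMatrix' g⟩

/-- An involution with no fixed nondegenerate subspace of dimension `2` modulo `4`. -/
theorem exists_type_a (hd : Even d) :
    ∃ g : Module.End F (Fin d ⊕ Fin d → F), (∀ u v, FormsLib.spB d F (g u) (g v) = FormsLib.spB d F u v) ∧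
      (g - 1) * (g - 1) = 0 ∧ ((2 : F) = 0 → ∀ u, FormsLib.spB d F u ((g - 1) u) = 0) ∧
      (∀ u, (g - 1) u = 0 → ∃ w, (g - 1) w = u) ∧ (0 < d → g ≠ 1) := by
  let N : Module.End F (Fin d ⊕ Fin d → F) :=
    LinearMap.pi (Sum.elim (fun i => LinearMap.proj (Sum.inr i.rev)) fun _ => 0)
  have hl : ∀ u i, N u (Sum.inl i) = u (Sum.inr i.rev) := fun u i => rfl
  have hr : ∀ u i, N u (Sum.inr i) = 0 := fun u i => rfl
  have hg1 : (1 + N) - 1 = N := add_sub_cancel_left _ _
  refine ⟨1 + N, fun u v => ?_, ?_, fun h2 u => ?_, fun u hu => ?_, fun hd0 h => ?_⟩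
  · have h1 : ∀ u v, FormsLib.spB d F (N u) (N v) = 0 := fun u v => by simp [FormsLib.spB_expand, hr]
    have h3 : FormsLib.spB d F (N u) v + FormsLib.spB d F u (N v) = 0 := by
      simp only [FormsLib.spB_expand, hl, hr, zero_mul, mul_zero, zero_sub, sub_zero, Finset.sum_neg_distrib]
      rw [neg_add_eq_zero]
      exact Fintype.sum_equiv Fin.revPerm _ _ fun i => by simp
    simp only [LinearMap.add_apply, Module.End.one_apply, map_add, h1, add_zero]
    linear_combination h3
  · rw [hg1]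
    refine LinearMap.ext fun u => funext fun i => ?_
    rcases i with i | i
    · exact hr u i.rev
    · rfl
  · rw [hg1, FormsLib.spB_expand]
    simp only [hl, hr, mul_zero, sub_zero]
    refine Finset.sum_involution (fun i _ => i.rev) (fun i _ => ?_) (fun i _ _ h => ?_) (fun i _ => Finset.mem_univ _)
      fun i _ => Fin.rev_rev i
    · rw [Fin.rev_rev]
      linear_combination (u (Sum.inr i) * u (Sum.inr i.rev)) * h2
    · have := congrArg Fin.val h
      rw [Fin.val_rev] at this
      obtain ⟨k, rfl⟩ := hd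
      have := i.2
      omega
  · rw [hg1] at hu ⊢
    refine ⟨Sum.elim 0 fun i => u (Sum.inl i.rev), funext fun i => ?_⟩
    rcases i with i | i
    · rw [hl]
      simp
    · rw [hr]
      have := congrFun hu (Sum.inl i.rev)
      rw [hl, Fin.rev_rev] at this
      exact this.symm
  · have h1 := congrFun (LinearMap.congr_fun h (Pi.single (Sum.inr ⟨0, hd0⟩) 1))
      (Sum.inl (⟨0, hd0⟩ : Fin d).rev)
    rw [LinearMap.add_apply, Pi.add_apply, Module.End.one_apply, hl, Fin.rev_rev] at h1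
    simp at h1

/-- An invariant nondegenerate plane for an involution up to sign in odd characteristic. -/
theorem exists_plane_invariant {V : Type*} [AddCommGroup V] [Module F V] {B : LinearMap.BilinForm F V}
    (h2 : (2 : F) ≠ 0) (hA : LinearMap.IsAlt B) {T : Module.End F V} (hiso : ∀ u v, B (T u) (T v) = B u v) {z : F}
    (hT : ∀ v, T (T v) = z • v) (hz : z * z = 1) {X : Submodule F V} (hX : NdOn B X) (hXT : X.map T ≤ X)
    (hne : X ≠ ⊥) : ∃ S : Submodule F V, S ≤ X ∧ S.map T ≤ S ∧ NdOn B S ∧ finrank F S = 2 := by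
  have mk : ∀ v w : V, v ∈ X → w ∈ X → B v w ≠ 0 → T v ∈ Submodule.span F {v, w} → T w ∈ Submodule.span F {v, w} →
      ∃ S : Submodule F V, S ≤ X ∧ S.map T ≤ S ∧ NdOn B S ∧ finrank F S = 2 := by
    intro v w hv hw h hTv hTw
    refine ⟨Submodule.span F {v, w}, Submodule.span_le.2 ?_, ?_, (Elusive.nd_span_pair hA h).1,
      (Elusive.nd_span_pair hA h).2⟩
    · rintro x (rfl | rfl) <;> assumption
    · rw [Submodule.map_span_le]
      rintro x (rfl | rfl) <;> assumption
  rcases mul_self_eq_one_iff.1 hz with rfl | rfl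
  · -- eigenvectors
    obtain ⟨v, hv, hv0⟩ := Submodule.exists_mem_ne_zero_of_ne_bot hne
    obtain ⟨e, s, he, he0, hs, hes⟩ : ∃ (e : V) (s : F), e ∈ X ∧ e ≠ 0 ∧ s * s = 1 ∧ T e = s • e := by
      by_cases h : v + T v = 0
      · exact ⟨v, -1, hv, hv0, by ring, by rw [neg_one_smul, eq_neg_iff_add_eq_zero, add_comm, h]⟩
      · exact ⟨v + T v, 1, add_mem hv (hXT ⟨v, hv, rfl⟩), h, by ring, by rw [map_add, hT, one_smul, one_smul, add_comm]⟩
    obtain ⟨w, hw, hew⟩ : ∃ w ∈ X, B e w ≠ 0 := by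
      by_contra h
      push Not at h
      exact he0 (hX e he h)
    have h3 : B e (T w) = s * B e w := by
      have h4 := hiso e w
      rw [hes, map_smul, LinearMap.smul_apply, smul_eq_mul] at h4
      linear_combination s * h4 - (B e (T w)) * hs
    refine mk e (w + s • T w) he (add_mem hw (X.smul_mem _ (hXT ⟨w, hw, rfl⟩))) ?_
      (Submodule.mem_span_pair.2 ⟨s, 0, by rw [zero_smul, add_zero, hes]⟩)
      (Submodule.mem_span_pair.2 ⟨0, s, ?_⟩)
    · rw [map_add, map_smul, smul_eq_mul, h3]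
      intro h5
      exact mul_ne_zero h2 hew (by linear_combination h5 - (B e w) * hs)
    · rw [map_add, map_smul, hT, one_smul, zero_smul, zero_add, smul_add, smul_smul, hs, one_smul, add_comm]
  · obtain ⟨v, hv, hvv⟩ : ∃ v ∈ X, B v (T v) ≠ 0 := by
      by_contra h
      push Not at h
      obtain ⟨v, hv, hv0⟩ := Submodule.exists_mem_ne_zero_of_ne_bot hne
      refine hv0 (hX v hv fun w hw => ?_)
      have hTw := hXT ⟨w, hw, rfl⟩
      have h4 := h (v + T w) (add_mem hv hTw)
      have h5 : B (T w) (T v) = -B v w := by rw [hiso, hA.neg]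
      have h6 : T (T w) = -w := by rw [hT, neg_one_smul]
      simp only [map_add, LinearMap.add_apply, h6, map_neg, h v hv, h5] at h4
      have h7 : B (T w) w = 0 := by rw [← hA.neg, h w hw, neg_zero]
      rw [h7] at h4
      exact (mul_eq_zero.1 (show (2 : F) * B v w = 0 by linear_combination -h4)).resolve_left h2
    exact mk v (T v) hv (hXT ⟨v, hv, rfl⟩) hvv (Submodule.mem_span_pair.2 ⟨0, 1, by simp⟩)
      (Submodule.mem_span_pair.2 ⟨-1, 0, by simp [hT]⟩)

end

/-- Elements of prime order of PSp_n(q) with no fixed nondegenerate `m`-space. Here `T = PSp_n(q)` with `n = 2d ≥ 4`, `(n, q) ≠ (4, 2)`, realised through the symplectic matrices over the field `F` with `q` elements (preserving the standard alternating form); an element of `T` of prime order `r` is such a matrix `x` with `x^r` scalar and `x` not scalar. For `r ≠ p` let `i` be the multiplicative order of `q` modulo `r`, `c = i` for `i` even and `c = 2i` for `i` odd, and write `k = n mod c`, `ℓ = m mod i`,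 `ℓ' = m mod c`, `n' = ⌊n/i⌋`, `m' = ⌊m/i⌋`, `t = (r−1)/i`. Let `m` be even with `2 ≤ m < n/2` and let `r` be a prime dividing the number of nondegenerate `m`-spaces. Then every element of `T` of order `r` fixes a nondegenerate `m`-space if and only if one of: (i) `r = p > 2` and every partition of `n` into parts of size at most `p` in which every odd part has even multiplicity contains (as a sub-multiset) a partition of `m` in which every odd part has even multiplicity; (ii) `r = p = 2` and (`n ≡ 2 (mod 4)` or `m ≡ 0 (mod 4)`); (iii) `r = 2 ≠ p`; (iv) `r ≠ p`, `r > 2`, `c ≤ m` and `k ≥ ℓ'`. -/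
theorem result {F : Type*} [Field F] [Fintype F] {p : ℕ} [Fact p.Prime] [CharP F p] {q : ℕ} (hq : Fintype.card F = q)
    (d m : ℕ) (hd : 2 ≤ d) (hT : (d, q) ≠ (2, 2)) (hm : 2 ≤ m) (hme : Even m) (hmd : m < d)
    (r : ℕ) [Fact r.Prime]
    (hrΩ : r ∣ Nat.card {W : Submodule F (Fin d ⊕ Fin d → F) // Module.finrank F ↥W = m ∧ (∀ u ∈ W, u ≠ 0 → ∃ v ∈ W, Cfsg.sympForm d F u v ≠ 0)})
    (i c : ℕ) (hi : i = orderOf (q : ZMod r)) (hc : c = if Even i then i else 2 * i) :
    (∀ x : ↥(Matrix.symplecticGroup (Fin d) F),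
      (∃ z : F, ((x ^ r : ↥(Matrix.symplecticGroup (Fin d) F)) : Matrix (Fin d ⊕ Fin d) (Fin d ⊕ Fin d) F) = z • (1 : Matrix (Fin d ⊕ Fin d) (Fin d ⊕ Fin d) F)) →
      (∀ z : F, (x : Matrix (Fin d ⊕ Fin d) (Fin d ⊕ Fin d) F) ≠ z • (1 : Matrix (Fin d ⊕ Fin d) (Fin d ⊕ Fin d) F)) →
      ∃ W : Submodule F (Fin d ⊕ Fin d → F), Module.finrank F ↥W = m ∧ (∀ u ∈ W, u ≠ 0 → ∃ v ∈ W, Cfsg.sympForm d F u v ≠ 0) ∧
        W.map (Matrix.toLin' (x : Matrix (Fin d ⊕ Fin d) (Fin d ⊕ Fin d) F)) ≤ W) ↔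
    ((r = p ∧ 2 < p ∧ (∀ μ : Multiset ℕ, (∀ a ∈ μ, 0 < a ∧ a ≤ p) → (∀ a : ℕ, Odd a → Even (μ.count a)) → μ.sum = 2 * d →
        ∃ ν : Multiset ℕ, ν ≤ μ ∧ ν.sum = m ∧ ∀ a : ℕ, Odd a → Even (ν.count a))) ∨
     (r = p ∧ p = 2 ∧ ((2 * d) % 4 = 2 ∨ m % 4 = 0)) ∨
     (r = 2 ∧ p ≠ 2) ∨
     (r ≠ p ∧ 2 < r ∧ c ≤ m ∧ m % c ≤ (2 * d) % c)) := by
  classical
  subst hq
  subst hi
  have hrpr := (Fact.out : r.Prime)
  have hppr := (Fact.out : p.Prime)
  have hA : LinearMap.IsAlt (FormsLib.spB d F) := FormsLib.spB_alt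
  have hrefl := refl_of_alt hA
  have htop : NdOn (FormsLib.spB d F) ⊤ := Elusive.SpDecomp.ndOn_top
  have hdimV : finrank F (Fin d ⊕ Fin d → F) = 2 * d := by
    rw [Module.finrank_pi, Fintype.card_sum, Fintype.card_fin, two_mul]
  have pack : ∀ W : Submodule F (Fin d ⊕ Fin d → F), NdOn (FormsLib.spB d F) W →
      ∀ u ∈ W, u ≠ 0 → ∃ v ∈ W, Cfsg.sympForm d F u v ≠ 0 := by
    intro W hW u hu hne
    by_contra h
    push Not at h
    exact hne (hW u hu fun v hv => (Elusive.SpDecomp.sympForm_eq u v).symm.trans (h v hv))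
  have unpack : ∀ W : Submodule F (Fin d ⊕ Fin d → F),
      (∀ u ∈ W, u ≠ 0 → ∃ v ∈ W, Cfsg.sympForm d F u v ≠ 0) → NdOn (FormsLib.spB d F) W := by
    intro W hW u hu h
    by_contra hne
    obtain ⟨v, hv, hv'⟩ := hW u hu hne
    exact hv' ((Elusive.SpDecomp.sympForm_eq u v).trans (h v hv))
  -- normalising the scalar
  have normal : ∀ x : ↥(Matrix.symplecticGroup (Fin d) F), ∀ z : F,
      ((x ^ r : ↥(Matrix.symplecticGroup (Fin d) F)) : Matrix (Fin d ⊕ Fin d) (Fin d ⊕ Fin d) F) = z • 1 →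
      z * z = 1 ∧ (Matrix.toLin' (x : Matrix (Fin d ⊕ Fin d) (Fin d ⊕ Fin d) F)) ^ r =
        z • (1 : Module.End F (Fin d ⊕ Fin d → F)) := by
    intro x z hz
    refine ⟨scalar_sq (by omega) hz, ?_⟩
    rw [← Matrix.toLin'_pow, ← SubmonoidClass.coe_pow, hz, map_smul, Matrix.toLin'_one]
    rfl
  by_cases hr2 : r = 2
  · subst hr2
    by_cases hp2 : p = 2
    · -- involutions in characteristic two
      subst hp2
      have h20 : (2 : F) = 0 := by exact_mod_cast CharP.cast_eq_zero F 2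
      constructor
      · intro hall
        refine Or.inr (Or.inl ⟨rfl, rfl, ?_⟩)
        by_contra h
        push Not at h
        obtain ⟨g, hiso, hN, hq, hker, hne⟩ := exists_type_a (F := F) (d := d)
          (Nat.even_iff.2 (by omega))
        obtain ⟨x, hx⟩ := exists_elem g hiso
        have hgg : g ^ 2 = 1 := pow_char_eq_one (p := 2) (by rw [pow_two, hN])
        obtain ⟨W, hWd, hW, hWT⟩ := hall x ⟨1, Matrix.toLin'.injective (by
          rw [SubmonoidClass.coe_pow, Matrix.toLin'_pow, hx, hgg, map_smul, Matrix.toLin'_one, one_smul]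
          rfl)⟩ fun z hz => hne (by omega) (by
            have hgz : g = z • (1 : Module.End F (Fin d ⊕ Fin d → F)) := by
              rw [← hx, hz, map_smul, Matrix.toLin'_one]
              rfl
            have hz1 : z = 1 := by
              have hzz := scalar_sq (by omega) hz
              rcases mul_self_eq_one_iff.1 hzz with h1 | h1
              · exact h1
              · rw [h1]; linear_combination -h20
            rw [hgz, hz1, one_smul])
        rw [hx] at hWT
        have h4 := (exists_two hA hiso two_ne_zero hgg W (unpack W hW) hWT fun u _ => by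
          rw [pow_two, hN, LinearMap.zero_apply]).2.2 (fun u _ => hq h20 u) fun u _ hu => hker u hu
        omega
      · rintro (⟨-, h, -⟩ | ⟨-, -, hcond⟩ | ⟨-, h⟩ | ⟨h, -⟩) x ⟨z, hz⟩ -
        · omega
        · obtain ⟨hz2, hA2⟩ := normal x z hz
          have hz1 : z = 1 := by
            rcases mul_self_eq_one_iff.1 hz2 with h1 | h1
            · exact h1
            · rw [h1]; linear_combination -h20
          set T := Matrix.toLin' (x : Matrix (Fin d ⊕ Fin d) (Fin d ⊕ Fin d) F)
          rw [hz1, one_smul] at hA2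
          have hN : (T - 1) ^ (2 : ℕ) = 0 := by
            have hchar : ((Polynomial.X : Polynomial F) - 1) ^ 2 = Polynomial.X ^ 2 - 1 := by rw [sub_pow_char, one_pow]
            have h2 := congrArg (Polynomial.aeval T) hchar
            simp only [map_pow, map_sub, map_one, Polynomial.aeval_X] at h2
            rw [h2, hA2, sub_self]
          have hiso : ∀ u v, FormsLib.spB d F (T u) (T v) = FormsLib.spB d F u v :=
            (FormsLib.mem_symplectic_iff _).1 x.2
          obtain ⟨W, -, hWT, hW, hWd⟩ := (exists_two hA hiso two_ne_zero hA2 ⊤ htop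
            le_top fun u _ => by rw [hN, LinearMap.zero_apply]).2.1 m hme (by rw [finrank_top, hdimV]; omega)
            (by rw [finrank_top, hdimV]; exact hcond.symm)
          exact ⟨W, hWd, pack W hW, hWT⟩
        · exact absurd rfl h
        · exact absurd rfl h
    · -- involutions in odd characteristic
      refine iff_of_true ?_ (Or.inr (Or.inr (Or.inl ⟨rfl, hp2⟩)))
      rintro x ⟨z, hz⟩ -
      obtain ⟨hz2, hA2⟩ := normal x z hz
      set T := Matrix.toLin' (x : Matrix (Fin d ⊕ Fin d) (Fin d ⊕ Fin d) F)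
      have hiso : ∀ u v, FormsLib.spB d F (T u) (T v) = FormsLib.spB d F u v := (FormsLib.mem_symplectic_iff _).1 x.2
      have h20 : (2 : F) ≠ 0 := fun h => hp2 ((Nat.prime_dvd_prime_iff_eq hppr Nat.prime_two).1
        ((CharP.cast_eq_zero_iff F p 2).1 (by exact_mod_cast h)))
      have hT4 : T ^ 4 = 1 := by
        rw [show 4 = 2 * 2 from rfl, pow_mul, hA2, smul_pow, pow_two z, hz2, one_pow, one_smul]
      obtain ⟨b, rfl⟩ := even_iff_two_dvd.1 hme
      obtain ⟨W, -, hWT, hW, hWd⟩ := exists_multiple hrefl hiso (show 4 ≠ 0 by omega) hT4 two_pos htop le_top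
        (fun X _ hXT hX hne => exists_plane_invariant h20 hA hiso (z := z) (fun v => by
          rw [← Module.End.mul_apply, ← pow_two, hA2]; rfl) hz2 hX hXT hne) b
        (by rw [finrank_top, hdimV]; omega)
      exact ⟨W, by rw [hWd, mul_comm], pack W hW, hWT⟩
  have hodd : Odd r := hrpr.odd_of_ne_two hr2
  by_cases hrp : r = p
  · -- unipotent elements
    subst hrp
    have h20 : (2 : F) ≠ 0 := fun h => hr2 ((Nat.prime_dvd_prime_iff_eq hppr Nat.prime_two).1
      ((CharP.cast_eq_zero_iff F r 2).1 (by exact_mod_cast h)))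
    constructor
    · intro hall
      refine Or.inl ⟨rfl, by have := hppr.two_le; omega, fun μ hμ1 hμ2 hμs => ?_⟩
      by_cases hall1 : ∀ a ∈ μ, a = 1
      · have hμ : μ = Multiset.replicate μ.card 1 := Multiset.eq_replicate.2 ⟨rfl, hall1⟩
        have hcard : μ.card = 2 * d := by rw [← hμs]; conv_rhs => rw [hμ, Multiset.sum_replicate, smul_eq_mul, mul_one]
        refine ⟨Multiset.replicate m 1, ?_, by simp, fun a ha => ?_⟩
        · rw [hμ, hcard]
          exact (Multiset.replicate_le_replicate 1).2 (by omega)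
        · rw [Multiset.count_replicate]
          split_ifs
          · exact hme
          · exact ⟨0, rfl⟩
      push Not at hall1
      obtain ⟨a, ha, ha1⟩ := hall1
      obtain ⟨d', g, hd', hiso, hN, hk⟩ := hasModel_of_valid (F := F) h20 hppr.pos ⟨fun b hb => hμ1 b hb, hμ2⟩
      obtain rfl : d' = d := by omega
      obtain ⟨x, hx⟩ := exists_elem g hiso
      have hgr : g ^ r = 1 := pow_char_eq_one hN
      have hxr : (x : Matrix (Fin d' ⊕ Fin d') (Fin d' ⊕ Fin d') F) ^ r = 1 := Matrix.toLin'.injective (by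
          rw [Matrix.toLin'_pow, hx, hgr, Matrix.toLin'_one]
          rfl)
      obtain ⟨W, hWd, hW, hWT⟩ := hall x ⟨1, by rw [SubmonoidClass.coe_pow, hxr, one_smul]⟩ fun z hz => by
        have hz1 := scalar_eq_one (by omega) hodd hxr hz
        have hg1 : g = 1 := by rw [← hx, hz, hz1, one_smul, Matrix.toLin'_one]; rfl
        have h1 := hk 1
        rw [hg1, sub_self, pow_one, LinearMap.range_zero, finrank_bot] at h1
        obtain ⟨ha', -⟩ := hμ1 a ha
        have h2 : a - 1 ≤ JordanOrth.rk μ 1 := Multiset.le_sum_of_mem (Multiset.mem_map_of_mem (· - 1) ha)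
        omega
      rw [hx] at hWT
      obtain ⟨ν, hνμ, hνs, hνv⟩ := exists_subtype (p := r) h20 hA hiso hrpr.ne_zero hgr
        (fun u hu => FormsLib.spB_nondeg.1 u hu) hN (fun b hb => (hμ1 b hb).1)
        (fun k => by rw [Submodule.map_top]; exact hk k) (unpack W hW) hWT
      exact ⟨ν, hνμ, hνs.trans hWd, hνv⟩
    · rintro (⟨-, -, hcond⟩ | ⟨-, h, -⟩ | ⟨h, -⟩ | ⟨h, -⟩) x ⟨z, hz⟩ -
      · obtain ⟨hz2, hAr⟩ := normal x z hz
        set A := Matrix.toLin' (x : Matrix (Fin d ⊕ Fin d) (Fin d ⊕ Fin d) F) with hAdef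
        have hisoA : ∀ u v, FormsLib.spB d F (A u) (A v) = FormsLib.spB d F u v :=
          (FormsLib.mem_symplectic_iff _).1 x.2
        set T : Module.End F (Fin d ⊕ Fin d → F) := z • A with hTdef
        have hiso : ∀ u v, FormsLib.spB d F (T u) (T v) = FormsLib.spB d F u v := fun u v => by
          simp only [hTdef, LinearMap.smul_apply, map_smul, hisoA, smul_eq_mul, ← mul_assoc, hz2, one_mul]
        have hTr : T ^ r = 1 := by
          obtain ⟨l, hl⟩ := hodd
          rw [hTdef, smul_pow, hAr, smul_smul, ← pow_succ, hl, show 2 * l + 1 + 1 = 2 * (l + 1) by ring, pow_mul,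
            pow_two, hz2, one_pow, one_smul]
        have hN : (T - 1) ^ r = 0 := by
          have h1 : ((Polynomial.X : Polynomial F) - 1) ^ r = Polynomial.X ^ r - 1 := by rw [sub_pow_char, one_pow]
          have h2 := congrArg (Polynomial.aeval T) h1
          simp only [map_pow, map_sub, map_one, Polynomial.aeval_X] at h2
          rw [h2, hTr, sub_self]
        obtain ⟨μ, hμv, hμs, -, hsub⟩ := exists_type (p := r) h20 hA hiso hrpr.ne_zero hTr ⊤ htop le_top
          fun u _ => by rw [hN, LinearMap.zero_apply]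
        obtain ⟨ν, hνμ, hνs, hνv⟩ := hcond μ hμv.1 hμv.2 (by rw [hμs, finrank_top, hdimV])
        obtain ⟨W, -, hWT, hW, hWd⟩ := hsub ν hνμ ⟨fun b hb => hμv.1 b (Multiset.mem_of_le hνμ hb), hνv⟩
        refine ⟨W, hWd.trans hνs, pack W hW, ?_⟩
        rintro _ ⟨v, hv, rfl⟩
        have h3 := W.smul_mem z (hWT ⟨v, hv, rfl⟩)
        rwa [hTdef, LinearMap.smul_apply, smul_smul, hz2, one_smul] at h3
      · exact absurd h hr2
      · exact absurd h hr2
      · exact absurd rfl h
  -- semisimple elements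
  have hr3 : 2 < r := lt_of_le_of_ne hrpr.two_le (Ne.symm hr2)
  have hrF : (r : F) ≠ 0 := Elusive.natCast_prime_ne_zero (p := p) hrp
  have hrq : (Fintype.card F : ZMod r) ≠ 0 := Elusive.card_cast_ne_zero (F := F) (p := p) hrp
  obtain ⟨hcpos, hceven, -⟩ := Elusive.SpWitness.c_facts (F := F) (p := p) hr2 hrp hc
  have hkm : (2 * d) % c < m ∧ c ≤ 2 * d := by
    obtain ⟨b, rfl⟩ := even_iff_two_dvd.1 hme
    exact Elusive.SpSub.mod_lt_of_dvd (F := F) (p := p) hrp hc (by omega) hrΩ
  have hblock : ∀ {T : Module.End F (Fin d ⊕ Fin d → F)},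
      (∀ u v, FormsLib.spB d F (T u) (T v) = FormsLib.spB d F u v) → T ^ r = 1 →
      ∀ W : Submodule F (Fin d ⊕ Fin d → F), W.map T ≤ W → (∀ v ∈ W, T v = v → v = 0) →
        NdOn (FormsLib.spB d F) W → W ≠ ⊥ →
        ∃ S : Submodule F (Fin d ⊕ Fin d → F), S ≤ W ∧ S.map T ≤ S ∧ NdOn (FormsLib.spB d F) S ∧ finrank F S = c :=
    fun hiso hT W hWT hfree hW hne => alt_block (p := p) hA hiso hr2 hrF hrq hT hc W hWT hfree hW hne
  constructor
  · intro hall
    obtain ⟨x, hxr, hfix⟩ := Elusive.SpWitness.exists_element (F := F) (p := p) hr2 hrp hc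
      (Nat.div_mul_le_self (2 * d) c)
    have hk : 2 * d - 2 * d / c * c = (2 * d) % c := by
      have h1 := Nat.div_add_mod (2 * d) c
      rw [mul_comm c] at h1
      omega
    rw [hk] at hfix
    obtain ⟨W, hWd, hW, hWT⟩ := hall x ⟨1, by rw [SubmonoidClass.coe_pow, hxr, one_smul]⟩ fun z hz => by
      have hz1 := scalar_eq_one (by omega) hodd hxr hz
      rw [hz, hz1, one_smul, Matrix.toLin'_one, show Elusive.fixedSpace (LinearMap.id : Module.End F (Fin d ⊕ Fin d → F))
        = ⊤ from eq_top_iff.2 fun v _ => Elusive.mem_fixedSpace.2 rfl, finrank_top, hdimV] at hfix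
      omega
    set T := Matrix.toLin' (x : Matrix (Fin d ⊕ Fin d) (Fin d ⊕ Fin d) F)
    have hTr : T ^ r = 1 := by
      show (Matrix.toLin' (x : Matrix (Fin d ⊕ Fin d) (Fin d ⊕ Fin d) F)) ^ r = 1
      rw [← Matrix.toLin'_pow, hxr, Matrix.toLin'_one]
      rfl
    have hiso : ∀ u v, FormsLib.spB d F (T u) (T v) = FormsLib.spB d F u v := (FormsLib.mem_symplectic_iff _).1 x.2
    have h1 : m % c ≤ (2 * d) % c := by
      rw [← hfix, ← hWd, finrank_mod hrefl hiso hrF hTr hcpos (hblock hiso hTr) (unpack W hW) hWT]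
      exact (Nat.mod_le _ _).trans (Submodule.finrank_mono inf_le_right)
    refine Or.inr (Or.inr (Or.inr ⟨hrp, hr3, ?_, h1⟩))
    by_contra hlt
    rw [Nat.mod_eq_of_lt (not_le.1 hlt)] at h1
    omega
  · rintro (⟨h, -⟩ | ⟨h, -⟩ | ⟨h, -⟩ | ⟨-, -, -, hcond⟩) x ⟨z, hz⟩ -
    · exact absurd h hrp
    · exact absurd h hrp
    · exact absurd h hr2
    obtain ⟨hz2, hAr⟩ := normal x z hz
    set A := Matrix.toLin' (x : Matrix (Fin d ⊕ Fin d) (Fin d ⊕ Fin d) F) with hAdef
    have hisoA : ∀ u v, FormsLib.spB d F (A u) (A v) = FormsLib.spB d F u v :=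
      (FormsLib.mem_symplectic_iff _).1 x.2
    set T : Module.End F (Fin d ⊕ Fin d → F) := z • A with hTdef
    have hiso : ∀ u v, FormsLib.spB d F (T u) (T v) = FormsLib.spB d F u v := fun u v => by
      simp only [hTdef, LinearMap.smul_apply, map_smul, hisoA, smul_eq_mul, ← mul_assoc, hz2, one_mul]
    have hTr : T ^ r = 1 := by
      obtain ⟨l, hl⟩ := hodd
      rw [hTdef, smul_pow, hAr, smul_smul, ← pow_succ, hl, show 2 * l + 1 + 1 = 2 * (l + 1) by ring, pow_mul,
        pow_two, hz2, one_pow, one_smul]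
    obtain ⟨W, -, hWT, hW, hWd⟩ := exists_invariant hrefl hiso hrF hTr hcpos two_pos (even_iff_two_dvd.1 hceven)
      (hblock hiso hTr) (fun W _ hW hne => exists_plane hA hW hne) htop le_top (m := m)
      (by rw [finrank_top, hdimV]; omega) (even_iff_two_dvd.1 hme) (by
        have h1 := finrank_mod hrefl hiso hrF hTr hcpos (hblock hiso hTr) htop le_top
        rw [finrank_top, hdimV] at h1
        exact (hcond.trans h1.le).trans (Nat.mod_le _ _))
    refine ⟨W, hWd, pack W hW, ?_⟩
    rintro _ ⟨v, hv, rfl⟩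
    have h3 := W.smul_mem z (hWT ⟨v, hv, rfl⟩)
    rwa [hTdef, LinearMap.smul_apply, smul_smul, hz2, one_smul] at h3

end Cfsg.Agent.S5956
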