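import Cfsg.Statements.S5957
import Cfsg.Agent.Lib.Elusive.InvolutionBasis

set_option autoImplicit false
open Cfsg

namespace Cfsg.Agent.S5957

open Cfsg.Agent

/-- Involutions of PSL_n(q) and imprimitive subgroups. Here `T = PSL_n(F)` for a field `F` with `q = p^f` elements (`n ≥ 2`, `(n, q) ≠ (2, 2), (2, 3)`), `n = a·t` with `t ≥ 2`, and Ω is the set of direct-sum decompositions of `F^n` into `t` subspaces of dimension `a` (unordered; their number is the number of ordered ones divided by `t!`), whose stabilizers are the imprimitive subgroups of type GL_a(q) ≀ S_t (maximal except in some small cases; maximality is not assumed); an element of `T` of prime order `r` (a matrix `x` of determinant 1 with `x^r` scalar, `x` not scalar) fixes a point of Ω when it permutes the summands of some such decomposition. If the number of such decompositions is even, then every involution of `T` stabilizes one of them (the action is 2-elusive). -/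
theorem result {F : Type*} [Field F] [Fintype F] {p : ℕ} [Fact p.Prime] [CharP F p] {q : ℕ} (hq : Fintype.card F = q)
    (n a t : ℕ) (hn : 2 ≤ n) (hT : (n, q) ≠ (2, 2) ∧ (n, q) ≠ (2, 3)) (hat : n = a * t) (ha : 1 ≤ a) (ht : 2 ≤ t)
    (hΩ : 2 ∣ Nat.card {D : Fin t → Submodule F (Fin n → F) // Cfsg.Geo.IsMDecomposition a D} / Nat.factorial t)
    (x : Matrix.SpecialLinearGroup (Fin n) F)
    (hx1 : ∃ z : F, ((x ^ 2 : Matrix.SpecialLinearGroup (Fin n) F) : Matrix (Fin n) (Fin n) F) = z • (1 : Matrix (Fin n) (Fin n) F))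
    (hx2 : ∀ z : F, (x : Matrix (Fin n) (Fin n) F) ≠ z • (1 : Matrix (Fin n) (Fin n) F)) :
    ∃ D : Fin t → Submodule F (Fin n → F), Cfsg.Geo.IsMDecomposition a D ∧
        ∃ σ : Equiv.Perm (Fin t), ∀ j, (D j).map (Matrix.toLin' (x : Matrix (Fin n) (Fin n) F)) = D (σ j) := by
  classical
  obtain ⟨z, hz⟩ := hx1
  set A : (Fin n → F) →ₗ[F] (Fin n → F) := Matrix.toLin' (x : Matrix (Fin n) (Fin n) F) with hAdef
  have hA : ∀ v, A (A v) = z • v := fun v => by
    rw [Matrix.SpecialLinearGroup.coe_pow, pow_two] at hz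
    rw [hAdef, Matrix.toLin'_apply, Matrix.toLin'_apply, Matrix.mulVec_mulVec, hz, Matrix.smul_mulVec,
      Matrix.one_mulVec]
  have hz0 : z ≠ 0 := by
    intro h
    have h1 := congrArg Matrix.det hz
    haveI : Nonempty (Fin n) := ⟨⟨0, by omega⟩⟩
    rw [(x ^ 2).det_coe, h, zero_smul, Matrix.det_zero] at h1
    exact one_ne_zero h1
  obtain ⟨ι, _, b, π, μ, hπ, hb⟩ := Elusive.exists_monomial_basis A hz0 hA
  have hcard : (Finset.univ : Finset ι).card = a * t := by
    rw [Finset.card_univ, ← Module.finrank_eq_card_basis b, Module.finrank_pi, Fintype.card_fin, hat]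
  obtain ⟨𝓑, h1, h2, -, h4, h5⟩ :=
    Elusive.exists_blocks hπ ha t Finset.univ (fun i _ => Finset.mem_univ _) hcard
  have hBc : 𝓑.card = t := by
    have hU : 𝓑.biUnion id = Finset.univ :=
      Finset.eq_univ_of_forall fun i => Finset.mem_biUnion.2 (h5 i (Finset.mem_univ i))
    have h := congrArg Finset.card hU
    rw [show (𝓑.biUnion id).card = ∑ B ∈ 𝓑, B.card from
      Finset.card_biUnion fun B hB B' hB' hne => h4 B hB B' hB' hne, hcard] at h
    rw [Finset.sum_congr rfl h1, Finset.sum_const, smul_eq_mul, mul_comm] at h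
    exact Nat.eq_of_mul_eq_mul_left (by omega) h
  let e : Fin t ≃ 𝓑 := (finCongr hBc.symm).trans 𝓑.equivFin.symm
  let D : Fin t → Submodule F (Fin n → F) := fun j => Submodule.span F (b '' (e j : Finset ι))
  have himg : ∀ B : Finset ι, (Submodule.span F (b '' B)).map A =
      Submodule.span F (b '' (B.image π : Finset ι)) := by
    intro B
    have hμ : ∀ i, μ i ≠ 0 := fun i h => by
      have := hb i
      rw [h, zero_smul] at this
      have h' := hA (b i)
      rw [this, map_zero] at h'
      exact (smul_ne_zero hz0 (b.ne_zero i)) h'.symm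
    rw [Submodule.map_span, ← Set.image_comp, Finset.coe_image]
    refine le_antisymm (Submodule.span_le.2 ?_) (Submodule.span_le.2 ?_)
    · rintro _ ⟨i, hi, rfl⟩
      rw [Function.comp_apply, hb]
      exact Submodule.smul_mem _ _ (Submodule.subset_span ⟨π i, ⟨i, hi, rfl⟩, rfl⟩)
    · rintro _ ⟨_, ⟨i, hi, rfl⟩, rfl⟩
      rw [← inv_smul_smul₀ (hμ i) (b (π i)), ← hb]
      exact Submodule.smul_mem _ _ (Submodule.subset_span ⟨i, hi, rfl⟩)
  refine ⟨D, ⟨ht, ha, fun j => ?_, ?_, ?_⟩, ?_⟩
  · show Module.finrank F (Submodule.span F (b '' ((e j : Finset ι) : Set ι))) = a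
    have hli : LinearIndepOn F b ((e j : Finset ι) : Set ι) :=
      b.linearIndependent.comp _ Subtype.val_injective
    rw [Set.image_eq_range, finrank_span_eq_card hli]
    simp [h1 _ (e j).2]
  · intro j
    have hle : (⨆ (k) (_ : k ≠ j), D k) ≤ Submodule.span F (b '' ((e j : Finset ι) : Set ι)ᶜ) :=
      iSup₂_le fun k hk => Submodule.span_mono (Set.image_mono fun i hi hij =>
        Finset.disjoint_left.1 (h4 _ (e k).2 _ (e j).2 fun h => hk (e.injective (Subtype.ext h))) hi hij)
    exact (b.linearIndependent.disjoint_span_image (disjoint_compl_right)).mono_right hle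
  · rw [eq_top_iff, ← b.span_eq, Submodule.span_le]
    rintro _ ⟨i, rfl⟩
    obtain ⟨B, hB, hiB⟩ := h5 i (Finset.mem_univ i)
    exact Submodule.mem_iSup_of_mem (e.symm ⟨B, hB⟩)
      (Submodule.subset_span ⟨i, by simpa using hiB, rfl⟩)
  · let s : Fin t → Fin t := fun j => e.symm ⟨(e j : Finset ι).image π, h2 _ (e j).2⟩
    have hs : Function.Involutive s := fun j => by
      apply e.injective
      ext i
      simp [s, Finset.mem_image, hπ _]
    exact ⟨hs.toPerm s, fun j => by
      show (Submodule.span F (b '' ((e j : Finset ι) : Set ι))).map A = D (s j)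
      rw [himg]
      simp [D, s]⟩

end Cfsg.Agent.S5957
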