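import Cfsg.Statements.S5958
import Cfsg.Agent.Lib.Elusive.Decomposition
import Cfsg.Agent.Lib.Elusive.Arith
-- import your own Cfsg.Agent.* helpers here

set_option autoImplicit false
open scoped MatrixGroups
open Cfsg

namespace Cfsg.Agent.S5958

open Cfsg.Agent Module

section

variable {F : Type*} [Field F] [Fintype F] {n a t : ℕ}

/-- The prime divides the number of decompositions only if `ord_r q ≤ n`. -/
theorem orderOf_le_of_dvd (hat : n = a * t) (ha : 1 ≤ a) (ht : 2 ≤ t) {r : ℕ} [Fact r.Prime]
    (hrq : (Fintype.card F : ZMod r) ≠ 0)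
    (hΩ : r ∣ Nat.card {D : Fin t → Submodule F (Fin n → F) // Cfsg.Geo.IsMDecomposition a D} / Nat.factorial t) :
    orderOf (Fintype.card F : ZMod r) ≤ n := by
  classical
  by_contra hlt
  push Not at hlt
  set q := Fintype.card F
  have hrp := (Fact.out : r.Prime)
  set Ω := {D : Fin t → Submodule F (Fin n → F) // Cfsg.Geo.IsMDecomposition a D}
  -- the symmetric group acts freely
  letI : MulAction (Equiv.Perm (Fin t)) Ω :=
    { smul := fun σ D => ⟨fun j => D.1 (σ⁻¹ j),
        ⟨ht, ha, fun i => D.2.finrank_eq _, D.2.indep.comp σ⁻¹.injective,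
          by rw [← D.2.iSup_eq_top]; exact (σ⁻¹ : Equiv.Perm (Fin t)).iSup_comp (g := D.1)⟩⟩
      one_smul := fun D => Subtype.ext (funext fun j => by show D.1 ((1 : Equiv.Perm (Fin t))⁻¹ j) = _; simp)
      mul_smul := fun σ τ D => Subtype.ext (funext fun j => by
        show D.1 ((σ * τ)⁻¹ j) = D.1 (τ⁻¹ (σ⁻¹ j))
        rw [mul_inv_rev, Equiv.Perm.mul_apply]) }
  haveI := Fintype.ofFinite Ω
  have hfree : ∀ D : Ω, MulAction.stabilizer (Equiv.Perm (Fin t)) D = ⊥ := fun D => by
    rw [Subgroup.eq_bot_iff_forall]
    intro σ hσ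
    refine Equiv.ext fun j => ?_
    by_contra hne
    have h1 := congrFun (congrArg Subtype.val hσ) (σ j)
    change D.1 (σ⁻¹ (σ j)) = D.1 (σ j) at h1
    rw [Equiv.Perm.inv_def, Equiv.symm_apply_apply] at h1
    have h2 := D.2.indep.pairwiseDisjoint (show j ≠ σ j from fun e => hne e.symm)
    rw [Function.onFun, ← h1, disjoint_self] at h2
    have := D.2.finrank_eq j
    rw [h2, finrank_bot] at this
    omega
  have hfac : Nat.factorial t ∣ Nat.card Ω := by
    rw [Nat.card_congr (MulAction.selfEquivSigmaOrbitsQuotientStabilizer (Equiv.Perm (Fin t)) Ω), Nat.card_sigma]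
    refine Finset.dvd_sum fun ω _ => ?_
    rw [← Subgroup.index_eq_card, hfree, Subgroup.index_bot, Nat.card_perm, Nat.card_eq_fintype_card,
      Fintype.card_fin]
  have hrN : r ∣ Nat.card Ω := hΩ.trans (Nat.div_dvd_of_dvd hfac)
  -- the linear group is transitive
  obtain ⟨D₀, hD₀⟩ : ∃ D : Fin t → Submodule F (Fin n → F), Cfsg.Geo.IsMDecomposition a D := by
    let e : Fin n ≃ Fin t × Fin a := Fintype.equivOfCardEq (by simp [hat, mul_comm])
    obtain ⟨D, hD, -⟩ := Elusive.exists_decomposition_of_basis (Pi.basisFun F (Fin n)) 1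
      Function.injective_id (fun i => (e i).1) ht ha (fun j => by
        rw [Nat.card_congr ((e.subtypeEquiv (fun i => Iff.rfl)).trans
          ({ toFun := fun p => p.1.2
             invFun := fun s => ⟨(j, s), rfl⟩
             left_inv := fun p => Subtype.ext (Prod.ext p.2.symm rfl)
             right_inv := fun s => rfl } : {p : Fin t × Fin a // p.1 = j} ≃ Fin a)), Nat.card_eq_fintype_card,
          Fintype.card_fin]) 1 (fun i => Submodule.subset_span ⟨i, rfl, rfl⟩)
    exact ⟨D, hD⟩
  have htrans : ∀ D : Ω, ∃ g : (Fin n → F) ≃ₗ[F] (Fin n → F), ∀ j, (D₀ j).map g.toLinearMap = D.1 j := by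
    intro D
    have h0 := DirectSum.isInternal_submodule_of_iSupIndep_of_iSup_eq_top hD₀.indep hD₀.iSup_eq_top
    have h1 := DirectSum.isInternal_submodule_of_iSupIndep_of_iSup_eq_top D.2.indep D.2.iSup_eq_top
    let b0 := fun j => finBasisOfFinrankEq F (D₀ j) (hD₀.finrank_eq j)
    let b1 := fun j => finBasisOfFinrankEq F (D.1 j) (D.2.finrank_eq j)
    let g := (h0.collectedBasis b0).equiv (h1.collectedBasis b1) (Equiv.refl _)
    refine ⟨g, fun j => Submodule.eq_of_le_of_finrank_eq ?_ (by
      rw [g.finrank_map_eq, hD₀.finrank_eq, D.2.finrank_eq])⟩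
    have hspan : D₀ j = Submodule.span F (Set.range fun i => ((b0 j i : D₀ j) : Fin n → F)) := by
      rw [show Set.range (fun i => ((b0 j i : D₀ j) : Fin n → F)) = (D₀ j).subtype '' Set.range (b0 j) by
        rw [← Set.range_comp]; rfl, Submodule.span_image, (b0 j).span_eq, Submodule.map_top,
        Submodule.range_subtype]
    rw [hspan, Submodule.map_span_le]
    rintro _ ⟨i, rfl⟩
    have : g ((b0 j i : D₀ j) : Fin n → F) = ((b1 j i : D.1 j) : Fin n → F) := by
      have := (h0.collectedBasis b0).equiv_apply ⟨j, i⟩ (h1.collectedBasis b1) (Equiv.refl _)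
      simpa [DirectSum.IsInternal.collectedBasis_coe] using this
    rw [LinearEquiv.coe_coe, this]
    exact (b1 j i).2
  choose g hg using htrans
  let Stab := {s : (Fin n → F) ≃ₗ[F] (Fin n → F) // ∀ j, (D₀ j).map s.toLinearMap = D₀ j}
  let φ : Ω × Stab → ((Fin n → F) ≃ₗ[F] (Fin n → F)) := fun x => x.2.1.trans (g x.1)
  have hmapφ : ∀ x j, (D₀ j).map (φ x).toLinearMap = x.1.1 j := fun x j => by
    rw [show (φ x).toLinearMap = (g x.1).toLinearMap ∘ₗ x.2.1.toLinearMap from rfl, Submodule.map_comp,
      x.2.2, hg]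
  have hφ : Function.Bijective φ := by
    constructor
    · intro x y hxy
      have h1 : x.1 = y.1 := Subtype.ext (funext fun j => by rw [← hmapφ x j, hxy, hmapφ y j])
      obtain ⟨D, s⟩ := x
      obtain ⟨D', s'⟩ := y
      obtain rfl : D = D' := h1
      refine Prod.ext rfl (Subtype.ext (LinearEquiv.ext fun v => (g D).injective ?_))
      exact LinearEquiv.congr_fun hxy v
    · intro h
      have hinj : ∀ j, finrank F ((D₀ j).map h.toLinearMap) = a := fun j => by
        rw [h.finrank_map_eq, hD₀.finrank_eq]
      let D : Ω := ⟨fun j => (D₀ j).map h.toLinearMap, ht, ha, hinj,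
        hD₀.indep.map_orderIso (f := Submodule.orderIsoMapComap h),
        by rw [← Submodule.map_iSup, hD₀.iSup_eq_top, Submodule.map_top, LinearEquiv.range]⟩
      refine ⟨(D, ⟨h.trans (g D).symm, fun j => ?_⟩), LinearEquiv.ext fun v => (g D).apply_symm_apply _⟩
      show (D₀ j).map ((g D).symm.toLinearMap ∘ₗ h.toLinearMap) = D₀ j
      rw [Submodule.map_comp]
      show (D.1 j).map (g D).symm.toLinearMap = D₀ j
      rw [← hg D j, ← Submodule.map_comp, LinearEquiv.comp_coe, LinearEquiv.self_trans_symm]
      exact Submodule.map_id _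
  have hGL : Nat.card ((Fin n → F) ≃ₗ[F] (Fin n → F)) = ∏ i : Fin n, (q ^ n - q ^ (i : ℕ)) := by
    rw [← Matrix.card_GL_field, Nat.card_congr (Matrix.GeneralLinearGroup.toLin (n := Fin n) (R := F)).toEquiv,
      Nat.card_congr (LinearMap.GeneralLinearGroup.generalLinearEquiv F (Fin n → F)).toEquiv]
  have hd : r ∣ ∏ i : Fin n, (q ^ n - q ^ (i : ℕ)) := by
    rw [← hGL, ← Nat.card_eq_of_bijective φ hφ, Nat.card_prod]
    exact hrN.mul_right _
  obtain ⟨i, -, hi⟩ := (hrp.prime.dvd_finsetProd_iff _).1 hd
  rw [← ZMod.natCast_eq_zero_iff, Nat.cast_sub (Nat.pow_le_pow_right Fintype.card_pos i.2.le), Nat.cast_pow,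
    Nat.cast_pow, sub_eq_zero] at hi
  have h1 : (q : ZMod r) ^ (n - i) = 1 := by
    refine mul_left_cancel₀ (pow_ne_zero (i : ℕ) hrq) ?_
    rw [← pow_add, Nat.add_sub_cancel' i.2.le, hi, mul_one]
  have := Nat.le_of_dvd (by have := i.2; omega) (orderOf_dvd_of_pow_eq_one h1)
  omega

/-- A decomposition into lines given by a permuted basis. -/
theorem lines_count (B : Module.End F (Fin n → F)) {r : ℕ} [Fact r.Prime] (hr : (r : F) ≠ 0) (hB : B ^ r = 1)
    (hi : orderOf (Fintype.card F : ZMod r) ≠ 1) (b : Basis (Fin n) F (Fin n → F)) (σ : Equiv.Perm (Fin n))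
    (hσ : ∀ i, ∃ μ : F, B (b i) = μ • b (σ i)) :
    n ≤ finrank F ↥(Elusive.fixedSpace B) * r := by
  classical
  have hrp := (Fact.out : r.Prime)
  choose μ hμ using hσ
  have hBinj : Function.Injective B := by
    intro v w h
    have := congrArg (B ^ (r - 1)) h
    rwa [← Module.End.mul_apply, ← Module.End.mul_apply, ← pow_succ, Nat.sub_add_cancel hrp.one_le, hB] at this
  have hμ0 : ∀ i, μ i ≠ 0 := fun i h => b.ne_zero i (hBinj (by rw [map_zero, hμ, h, zero_smul]))
  have hpow : ∀ (l : ℕ) i, ∃ ν : F, ν ≠ 0 ∧ (B ^ l) (b i) = ν • b ((σ ^ l) i) := by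
    intro l
    induction l with
    | zero => intro i; exact ⟨1, one_ne_zero, by simp⟩
    | succ l ih =>
      intro i
      obtain ⟨ν, hν0, hν⟩ := ih i
      refine ⟨ν * μ ((σ ^ l) i), mul_ne_zero hν0 (hμ0 _), ?_⟩
      rw [pow_succ' B, pow_succ' σ, Module.End.mul_apply, Equiv.Perm.mul_apply, hν, map_smul, hμ, smul_smul]
  choose ν hν0 hν using hpow
  have hσr : ∀ i, (σ ^ r) i = i := fun i => by
    have h := hν r i
    rw [hB, Module.End.one_apply] at h
    have := congrArg (fun v => b.repr v i) h
    by_contra hne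
    simp [hne] at this
  let orbit : Fin n → Finset (Fin n) := fun i => (Finset.range r).image fun l => (σ ^ l) i
  have hmem : ∀ i, i ∈ orbit i := fun i => Finset.mem_image.2 ⟨0, Finset.mem_range.2 hrp.pos, by simp⟩
  have hclosed : ∀ i, ∀ m : ℕ, (σ ^ m) i ∈ orbit i := by
    intro i m
    refine Finset.mem_image.2 ⟨m % r, Finset.mem_range.2 (Nat.mod_lt _ hrp.pos), ?_⟩
    conv_rhs => rw [← Nat.mod_add_div m r]
    rw [pow_add, Equiv.Perm.mul_apply]
    congr 1
    have : ∀ u : ℕ, ((σ ^ r) ^ u) i = i := fun u => by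
      induction u with
      | zero => rfl
      | succ u ih => rw [pow_succ, Equiv.Perm.mul_apply, hσr, ih]
    rw [pow_mul]
    exact (this _).symm
  have horb : ∀ i k, k ∈ orbit i → orbit k = orbit i := by
    intro i k hk
    obtain ⟨l, hl, rfl⟩ := Finset.mem_image.1 hk
    apply Finset.Subset.antisymm
    · intro y hy
      obtain ⟨m, -, rfl⟩ := Finset.mem_image.1 hy
      rw [← Equiv.Perm.mul_apply, ← pow_add]
      exact hclosed i _
    · intro y hy
      obtain ⟨m, -, rfl⟩ := Finset.mem_image.1 hy
      have h1 := hclosed ((σ ^ l) i) (r - l + m)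
      rw [← Equiv.Perm.mul_apply, ← pow_add, show r - l + m + l = m + r by
        have := Finset.mem_range.1 hl; omega, pow_add, Equiv.Perm.mul_apply, hσr] at h1
      exact h1
  let rep : Fin n → Fin n := fun i => (orbit i).min' ⟨i, hmem i⟩
  have hrep : ∀ i, rep i ∈ orbit i := fun i => Finset.min'_mem _ _
  have hrep2 : ∀ i, rep (rep i) = rep i := fun i => by
    simp only [rep]
    congr 1
    exact horb i _ (hrep i)
  let O := Finset.univ.image rep
  let S : Module.End F (Fin n → F) := ∑ l ∈ Finset.range r, B ^ l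
  have hSfix : ∀ v, S v ∈ Elusive.fixedSpace B := fun v => by
    rw [Elusive.mem_fixedSpace, LinearMap.sum_apply, map_sum]
    have h1 := Finset.sum_range_succ' (fun l => (B ^ l) v) r
    rw [Finset.sum_range_succ, hB, pow_zero] at h1
    rw [add_right_cancel h1]
    exact Finset.sum_congr rfl fun l _ => by rw [pow_succ', Module.End.mul_apply]
  have hrepr : ∀ o, ∀ k, k ∉ orbit o → b.repr (S (b o)) k = 0 := fun o k hk => by
    rw [LinearMap.sum_apply, map_sum, Finsupp.finset_sum_apply]
    refine Finset.sum_eq_zero fun l hl => ?_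
    have : (σ ^ l) o ≠ k := fun e => hk (Finset.mem_image.2 ⟨l, hl, e⟩)
    simp [hν, this]
  have hdiag : ∀ o, b.repr (S (b o)) o ≠ 0 := fun o => by
    rw [LinearMap.sum_apply, map_sum, Finsupp.finset_sum_apply]
    by_cases hmove : σ o = o
    · have hμ1 : μ o = 1 := by
        refine Elusive.eq_one_of_pow_eq_one (r := r) hi ?_
        have hl : ∀ l : ℕ, (B ^ l) (b o) = μ o ^ l • b o := by
          intro l
          induction l with
          | zero => simp
          | succ l ih => rw [pow_succ', Module.End.mul_apply, ih, map_smul, hμ, hmove, smul_smul, pow_succ]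
        have := hl r
        rw [hB, Module.End.one_apply] at this
        exact (smul_left_injective F (b.ne_zero o) (by simpa using this)).symm
      have hfix : ∀ l : ℕ, (B ^ l) (b o) = b o := by
        intro l
        induction l with
        | zero => rfl
        | succ l ih => rw [pow_succ', Module.End.mul_apply, ih, hμ, hμ1, hmove, one_smul]
      rw [Finset.sum_congr rfl fun l _ => by rw [hfix l, b.repr_self, Finsupp.single_eq_same]]
      simpa using hr
    · rw [Finset.sum_eq_single 0 ?_ (fun h => absurd (Finset.mem_range.2 hrp.pos) h)]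
      · simp
      · intro l hl hl0
        have hper : Function.minimalPeriod σ o = r := by
          refine Function.minimalPeriod_eq_prime ?_ hmove
          show σ^[r] o = o
          rw [← Equiv.Perm.coe_pow, hσr]
        have : (σ ^ l) o ≠ o := fun e => by
          have hp' : Function.IsPeriodicPt σ l o := by
            show σ^[l] o = o
            rw [← Equiv.Perm.coe_pow]; exact e
          have := hp'.minimalPeriod_le (Nat.pos_of_ne_zero hl0)
          have := Finset.mem_range.1 hl
          omega
        simp [hν, this]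
  have hli : LinearIndependent F fun o : O => (⟨S (b o), hSfix _⟩ : Elusive.fixedSpace B) := by
    rw [Fintype.linearIndependent_iff]
    intro c hc o
    have h1 := congrArg (fun v : Elusive.fixedSpace B => b.repr (v : Fin n → F) o) hc
    simp only [Submodule.coe_sum, Submodule.coe_smul, map_sum, map_smul, Finsupp.finset_sum_apply,
      Finsupp.smul_apply, smul_eq_mul, Submodule.coe_zero, map_zero, Finsupp.zero_apply] at h1
    rw [Finset.sum_eq_single o (fun o' _ hne => ?_) (by simp)] at h1
    · exact (mul_eq_zero.1 h1).resolve_right (hdiag _)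
    · rw [hrepr _ _ (fun hm => ?_), mul_zero]
      refine hne (Subtype.ext ?_)
      obtain ⟨i, -, hi'⟩ := Finset.mem_image.1 o.2
      obtain ⟨i', -, hi''⟩ := Finset.mem_image.1 o'.2
      have ho : rep (o : Fin n) = o := by rw [← hi', hrep2]
      have ho' : rep (o' : Fin n) = o' := by rw [← hi'', hrep2]
      rw [← ho, ← ho']
      simp only [rep]
      congr 1
      exact (horb _ _ hm).symm
  have h1 := hli.fintype_card_le_finrank
  rw [Fintype.card_coe] at h1
  have h2 : (Finset.univ : Finset (Fin n)).card ≤ r * O.card := by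
    refine Finset.card_le_mul_card_image _ r fun o _ => ?_
    refine le_trans (Finset.card_le_card (t := orbit o) fun i hi => ?_)
      (Finset.card_image_le.trans (Finset.card_range r).le)
    rw [← (Finset.mem_filter.1 hi).2, horb i _ (hrep i)]
    exact hmem i
  rw [Finset.card_univ, Fintype.card_fin] at h2
  rw [mul_comm]
  exact h2.trans (Nat.mul_le_mul_left r h1)

/-- If a decomposition is stabilised blockwise, the fixed space is large. -/
theorem fixed_bound (B : Module.End F (Fin n → F)) {r : ℕ} [Fact r.Prime] (hr : (r : F) ≠ 0) (hB : B ^ r = 1)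
    (D : Fin t → Submodule F (Fin n → F)) (hD : Cfsg.Geo.IsMDecomposition a D) (hinv : ∀ j, (D j).map B ≤ D j) :
    t * (a % orderOf (Fintype.card F : ZMod r)) ≤ finrank F ↥(Elusive.fixedSpace B) := by
  classical
  let Φ : (∀ j, ↥(D j ⊓ Elusive.fixedSpace B)) →ₗ[F] Elusive.fixedSpace B :=
    ∑ j, (Submodule.inclusion inf_le_right) ∘ₗ LinearMap.proj j
  have hΦ : ∀ c, (Φ c : Fin n → F) = ∑ j, (c j : Fin n → F) := fun c => by
    simp [Φ]
  have hinj : Function.Injective Φ := by
    rw [injective_iff_map_eq_zero]
    intro c hc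
    have h0 : ∑ j, (c j : Fin n → F) = 0 := by rw [← hΦ, hc, Submodule.coe_zero]
    funext j
    refine Subtype.ext ?_
    have h1 : (c j : Fin n → F) ∈ ⨆ (k) (_ : k ≠ j), D k := by
      rw [← Finset.add_sum_erase _ _ (Finset.mem_univ j), add_eq_zero_iff_eq_neg] at h0
      rw [h0]
      exact neg_mem (Submodule.sum_mem _ fun k hk =>
        Submodule.mem_iSup_of_mem k (Submodule.mem_iSup_of_mem (Finset.ne_of_mem_erase hk) (c k).2.1))
    exact Submodule.disjoint_def.1 (hD.indep j) _ (c j).2.1 h1
  have h1 := LinearMap.finrank_le_finrank_of_injective hinj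
  rw [Module.finrank_pi_fintype] at h1
  refine le_trans ?_ h1
  have h2 : ∑ _j : Fin t, a % orderOf (Fintype.card F : ZMod r) = t * (a % orderOf (Fintype.card F : ZMod r)) := by
    simp
  rw [← h2]
  refine Finset.sum_le_sum fun j _ => ?_
  rw [← hD.finrank_eq j, Elusive.finrank_mod_orderOf hB hr (hinv j)]
  exact Nat.mod_le _ _

end

/-- Elements of odd prime order of PSL_n(q) and imprimitive subgroups. Here `T = PSL_n(F)` for a field `F` with `q = p^f` elements (`n ≥ 2`, `(n, q) ≠ (2, 2), (2, 3)`), `n = a·t` with `t ≥ 2`, and Ω is the set of direct-sum decompositions of `F^n` into `t` subspaces of dimension `a` (unordered; their number is the number of ordered ones divided by `t!`), whose stabilizers are the imprimitive subgroups of type GL_a(q) ≀ S_t (maximal except in some small cases; maximality is not assumed); an element of `T` of prime order `r` (a matrix `x` of determinant 1 with `x^r` scalar, `x` not scalar) fixes a point of Ω when it permutes the summands of some such decomposition. Let `r ≠ p` be an odd prime dividing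 the number of such decompositions, let `c` be the multiplicative order of `q` modulo `r`, and write `k = n mod c`, `ℓ = a mod c`. Then every element of `T` of order `r` stabilizes such a decomposition if and only if either `a = 1`, `c = r − 1 > 1` and `n ≤ k·r`, or `c ≤ a` and `k = t·ℓ`. -/
theorem result {F : Type*} [Field F] [Fintype F] {p : ℕ} [Fact p.Prime] [CharP F p] {q : ℕ} (hq : Fintype.card F = q)
    (n a t : ℕ) (hn : 2 ≤ n) (hT : (n, q) ≠ (2, 2) ∧ (n, q) ≠ (2, 3)) (hat : n = a * t) (ha : 1 ≤ a) (ht : 2 ≤ t)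
    (r : ℕ) [Fact r.Prime] (hr2 : r ≠ 2) (hrp : r ≠ p) (hΩ : r ∣ Nat.card {D : Fin t → Submodule F (Fin n → F) // Cfsg.Geo.IsMDecomposition a D} / Nat.factorial t)
    (c : ℕ) (hc : c = orderOf (q : ZMod r)) :
    (∀ x : Matrix.SpecialLinearGroup (Fin n) F,
      (∃ z : F, ((x ^ r : Matrix.SpecialLinearGroup (Fin n) F) : Matrix (Fin n) (Fin n) F) = z • (1 : Matrix (Fin n) (Fin n) F)) →
      (∀ z : F, (x : Matrix (Fin n) (Fin n) F) ≠ z • (1 : Matrix (Fin n) (Fin n) F)) →
      ∃ D : Fin t → Submodule F (Fin n → F), Cfsg.Geo.IsMDecomposition a D ∧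
        ∃ σ : Equiv.Perm (Fin t), ∀ j, (D j).map (Matrix.toLin' (x : Matrix (Fin n) (Fin n) F)) = D (σ j)) ↔
    ((a = 1 ∧ 1 < c ∧ c = r - 1 ∧ n ≤ (n % c) * r) ∨ (c ≤ a ∧ n % c = t * (a % c))) := by
  classical
  subst hq
  have hrpr := (Fact.out : r.Prime)
  have hrF : (r : F) ≠ 0 := Elusive.natCast_prime_ne_zero (p := p) hrp
  have hrq : (Fintype.card F : ZMod r) ≠ 0 := Elusive.card_cast_ne_zero (F := F) (p := p) hrp
  have hcpos : 0 < c := by
    rw [hc]; exact Elusive.orderOf_card_pos (F := F) (p := p) hrp
  have hcn : c ≤ n := by rw [hc]; exact orderOf_le_of_dvd hat ha ht hrq hΩ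
  have hdimV : finrank F (Fin n → F) = n := by rw [Module.finrank_pi, Fintype.card_fin]
  have hcr : c ∣ r - 1 := by
    rw [hc]
    refine orderOf_dvd_of_pow_eq_one ?_
    exact ZMod.pow_card_sub_one_eq_one hrq
  have hkt : n % c = (t * (a % c)) % c := by
    rw [hat, Nat.mul_mod, mul_comm, ← Nat.mul_mod_mod]
    simp [Nat.mul_mod]
  have hDinj : ∀ D : Fin t → Submodule F (Fin n → F), Cfsg.Geo.IsMDecomposition a D → Function.Injective D := by
    intro D hD i j hij
    by_contra hne
    have hd := hD.indep.pairwiseDisjoint hne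
    rw [Function.onFun, hij, disjoint_self] at hd
    have := hD.finrank_eq j
    rw [hd, finrank_bot] at this
    omega
  constructor
  · intro hall
    by_cases hc1 : c = 1
    · exact Or.inr ⟨by omega, by simp [hc1, Nat.mod_one]⟩
    have hc2 : 2 ≤ orderOf (Fintype.card F : ZMod r) := by rw [← hc]; omega
    have hne1 : orderOf (Fintype.card F : ZMod r) ≠ 1 := by omega
    -- properties of a stabilised decomposition
    have key : ∀ (j₀ : ℕ), 1 ≤ j₀ → j₀ * c ≤ n → ∃ (B : Module.End F (Fin n → F))
        (D : Fin t → Submodule F (Fin n → F)) (σ : Equiv.Perm (Fin t)), B ^ r = 1 ∧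
        finrank F ↥(Elusive.fixedSpace B) = n - j₀ * c ∧ Cfsg.Geo.IsMDecomposition a D ∧
        ∀ j, (D j).map B = D (σ j) := by
      intro j₀ h1 h2
      rw [hc] at h2
      obtain ⟨x, hx, hns, hfix⟩ := Elusive.exists_fixed_blocks (F := F) hrp (n := n) hc2 h1 h2
      obtain ⟨D, hD, σ, hσ⟩ := hall x ⟨1, hx⟩ hns
      refine ⟨Matrix.toLin' (x : Matrix (Fin n) (Fin n) F), D, σ, ?_, by rw [hfix, hc], hD, hσ⟩
      rw [Elusive.toLin'_pow_eq x hx, one_smul]
    have hmovebound : ∀ (B : Module.End F (Fin n → F)) (D : Fin t → Submodule F (Fin n → F))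
        (σ : Equiv.Perm (Fin t)), B ^ r = 1 → Cfsg.Geo.IsMDecomposition a D → (∀ j, (D j).map B = D (σ j)) →
        ∀ j, σ j ≠ j → a ≤ finrank F ↥(Elusive.fixedSpace B) ∧
          a * (r - 1) ≤ n - finrank F ↥(Elusive.fixedSpace B) := by
      intro B D σ hB hD hσ j hj
      have hpowmem : ∀ (l : ℕ), ∀ v ∈ D j, (B ^ l) v ∈ D ((σ ^ l) j) := by
        intro l
        induction l with
        | zero => intro v hv; exact hv
        | succ l ih =>
          intro v hv
          rw [pow_succ' B, pow_succ' σ, Module.End.mul_apply, Equiv.Perm.mul_apply, ← hσ]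
          exact ⟨_, ih v hv, rfl⟩
      have hσr : (σ ^ r) j = j := hDinj D hD (by
        have h2 : ∀ (l : ℕ), (D j).map (B ^ l) = D ((σ ^ l) j) := by
          intro l
          induction l with
          | zero => exact Submodule.map_id _
          | succ l ih =>
            rw [pow_succ' B, pow_succ' σ, Equiv.Perm.mul_apply, ← hσ, ← ih, ← Submodule.map_comp]
            rfl
        rw [← h2, hB]
        exact Submodule.map_id _)
      have hper : Function.minimalPeriod σ j = r := by
        refine Function.minimalPeriod_eq_prime ?_ hj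
        show σ^[r] j = j
        rw [← Equiv.Perm.coe_pow, hσr]
      have hne : ∀ l, 0 < l → l < r → (σ ^ l) j ≠ j := fun l hl1 hl2 e => by
        have hp' : Function.IsPeriodicPt σ l j := by
          show σ^[l] j = j
          rw [← Equiv.Perm.coe_pow]; exact e
        have := hp'.minimalPeriod_le hl1
        omega
      constructor
      · let S : Module.End F (Fin n → F) := ∑ l ∈ Finset.range r, B ^ l
        have hSfix : ∀ v, S v ∈ Elusive.fixedSpace B := fun v => by
          rw [Elusive.mem_fixedSpace, LinearMap.sum_apply, map_sum]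
          have h1 := Finset.sum_range_succ' (fun l => (B ^ l) v) r
          rw [Finset.sum_range_succ, hB, pow_zero] at h1
          rw [add_right_cancel h1]
          exact Finset.sum_congr rfl fun l _ => by rw [pow_succ', Module.End.mul_apply]
        let L : D j →ₗ[F] Elusive.fixedSpace B := (S ∘ₗ (D j).subtype).codRestrict _ fun v => hSfix _
        have hL : Function.Injective L := by
          rw [injective_iff_map_eq_zero]
          intro v hv
          have h0 : S v = 0 := congrArg Subtype.val hv
          rw [LinearMap.sum_apply, ← Finset.add_sum_erase _ _ (Finset.mem_range.2 hrpr.pos), pow_zero,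
            Module.End.one_apply, add_eq_zero_iff_eq_neg] at h0
          refine Subtype.ext (Submodule.disjoint_def.1 (hD.indep j) _ v.2 ?_)
          rw [h0]
          refine neg_mem (Submodule.sum_mem _ fun l hl => ?_)
          obtain ⟨hl1, hl2⟩ := Finset.mem_erase.1 hl
          exact Submodule.mem_iSup_of_mem ((σ ^ l) j) (Submodule.mem_iSup_of_mem
            (hne l (Nat.pos_of_ne_zero hl1) (Finset.mem_range.1 hl2)) (hpowmem l v v.2))
        rw [← hD.finrank_eq j]
        exact LinearMap.finrank_le_finrank_of_injective hL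
      · let Ψ : (Fin (r - 1) → D j) →ₗ[F] LinearMap.range (B - 1) :=
          (∑ i : Fin (r - 1), ((B ^ ((i : ℕ) + 1) - 1) ∘ₗ (D j).subtype) ∘ₗ LinearMap.proj i).codRestrict _
            fun v => by
              rw [LinearMap.sum_apply]
              refine Submodule.sum_mem _ fun i _ => ?_
              refine ⟨(∑ l ∈ Finset.range ((i : ℕ) + 1), B ^ l) (v i : Fin n → F), ?_⟩
              rw [← Module.End.mul_apply, mul_geom_sum]
              rfl
        have hΨ : Function.Injective Ψ := by
          rw [injective_iff_map_eq_zero]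
          intro v hv
          have h0 := congrArg Subtype.val hv
          simp only [Ψ, LinearMap.codRestrict_apply, LinearMap.sum_apply, LinearMap.comp_apply,
            LinearMap.proj_apply, Submodule.subtype_apply, LinearMap.sub_apply, Module.End.one_apply,
            Submodule.coe_zero, Finset.sum_sub_distrib] at h0
          funext i
          refine Subtype.ext ?_
          set J := (σ ^ ((i : ℕ) + 1)) j
          have hBi : (B ^ ((i : ℕ) + 1)) (v i : Fin n → F) ∈ D J := hpowmem _ _ (v i).2
          have h3 : (B ^ ((i : ℕ) + 1)) (v i : Fin n → F) ∈ ⨆ (k) (_ : k ≠ J), D k := by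
            rw [sub_eq_zero, ← Finset.add_sum_erase _ _ (Finset.mem_univ i), ← eq_sub_iff_add_eq] at h0
            rw [h0]
            refine sub_mem (Submodule.sum_mem _ fun k _ => ?_) (Submodule.sum_mem _ fun k hk => ?_)
            · refine Submodule.mem_iSup_of_mem j (Submodule.mem_iSup_of_mem ?_ (v k).2)
              exact (hne _ (Nat.succ_pos _) (by have := i.2; omega)).symm
            · refine Submodule.mem_iSup_of_mem ((σ ^ ((k : ℕ) + 1)) j) (Submodule.mem_iSup_of_mem ?_ (hpowmem _ _ (v k).2))
              intro e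
              have hki : (k : ℕ) ≠ i := fun e' => Finset.ne_of_mem_erase hk (Fin.ext e')
              rcases Nat.lt_or_gt_of_ne hki with hlt | hlt
              · refine hne ((i : ℕ) - k) (by omega) (by have := i.2; omega) ((σ ^ ((k : ℕ) + 1)).injective ?_)
                rw [← Equiv.Perm.mul_apply, ← pow_add, show (k : ℕ) + 1 + ((i : ℕ) - k) = (i : ℕ) + 1 by omega]
                exact e.symm
              · refine hne ((k : ℕ) - i) (by omega) (by have := k.2; omega) ((σ ^ ((i : ℕ) + 1)).injective ?_)
                rw [← Equiv.Perm.mul_apply, ← pow_add, show (i : ℕ) + 1 + ((k : ℕ) - i) = (k : ℕ) + 1 by omega]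
                exact e
          have h4 := Submodule.disjoint_def.1 (hD.indep J) _ hBi h3
          have h5 := congrArg (B ^ (r - ((i : ℕ) + 1))) h4
          rwa [← Module.End.mul_apply, ← pow_add, Nat.sub_add_cancel (by have := i.2; omega), hB, map_zero] at h5
        have h1 := LinearMap.finrank_le_finrank_of_injective hΨ
        rw [Module.finrank_pi_fintype, Finset.sum_congr rfl (fun i _ => hD.finrank_eq j), Finset.sum_const,
          Finset.card_univ, Fintype.card_fin, smul_eq_mul] at h1
        have h2 := LinearMap.finrank_range_add_finrank_ker (B - 1)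
        rw [hdimV] at h2
        have h3 : finrank F ↥(Elusive.fixedSpace B) = finrank F ↥(LinearMap.ker (B - 1)) := rfl
        rw [h3, mul_comm]
        omega
    -- the element with one block
    obtain ⟨B₁, D₁, σ₁, hB₁, hfix₁, hD₁, hσ₁⟩ := key 1 le_rfl (by omega)
    -- the element with the smallest fixed space
    obtain ⟨B₂, D₂, σ₂, hB₂, hfix₂, hD₂, hσ₂⟩ := key (n / c) (Nat.div_pos hcn hcpos) (Nat.div_mul_le_self _ _)
    have hk : finrank F ↥(Elusive.fixedSpace B₂) = n % c := by
      rw [hfix₂]
      have h1 := Nat.div_add_mod n c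
      rw [mul_comm c] at h1
      omega
    rcases Nat.lt_or_ge a c with hac | hac
    · -- `a < c`: every decomposition moves a block
      have hmove : ∀ (B : Module.End F (Fin n → F)) (D : Fin t → Submodule F (Fin n → F))
          (σ : Equiv.Perm (Fin t)), B ^ r = 1 → Cfsg.Geo.IsMDecomposition a D → (∀ j, (D j).map B = D (σ j)) →
          finrank F ↥(Elusive.fixedSpace B) < n → ∃ j, σ j ≠ j := by
        intro B D σ hB hD hσ hlt
        by_contra h
        push Not at h
        have hinv : ∀ j, (D j).map B ≤ D j := fun j => by rw [hσ, h j]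
        have h1 := fixed_bound B hrF hB D hD hinv
        rw [← hc, Nat.mod_eq_of_lt hac, mul_comm, ← hat] at h1
        omega
      obtain ⟨j, hj⟩ := hmove B₁ D₁ σ₁ hB₁ hD₁ hσ₁ (by omega)
      obtain ⟨-, h2⟩ := hmovebound B₁ D₁ σ₁ hB₁ hD₁ hσ₁ j hj
      have hr1 : 1 ≤ r - 1 := by have := hrpr.two_le; omega
      have hcle : c ≤ r - 1 := Nat.le_of_dvd (by omega) hcr
      have h3 : a * (r - 1) ≤ c := by omega
      have ha1 : a = 1 := by
        by_contra hne
        have := Nat.mul_le_mul_right (r - 1) (show 2 ≤ a by omega)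
        omega
      have hceq : c = r - 1 := by rw [ha1, one_mul] at h3; omega
      refine Or.inl ⟨ha1, by omega, hceq, ?_⟩
      subst ha1
      obtain rfl : n = t := by rw [hat, one_mul]
      have hv : ∀ j, ∃ v : Fin n → F, v ∈ D₂ j ∧ v ≠ 0 := fun j => by
        refine Submodule.exists_mem_ne_zero_of_ne_bot fun h => ?_
        have := hD₂.finrank_eq j
        rw [h, finrank_bot] at this
        omega
      choose v hv hv0 using hv
      have hline : ∀ j, ∀ u ∈ D₂ j, ∃ s : F, u = s • v j := fun j u hu => by
        obtain ⟨s, hs⟩ := (finrank_eq_one_iff_of_nonzero' (⟨v j, hv j⟩ : D₂ j)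
          fun e => hv0 j (congrArg Subtype.val e)).1 (hD₂.finrank_eq j) ⟨u, hu⟩
        exact ⟨s, (congrArg Subtype.val hs).symm⟩
      let b : Basis (Fin n) F (Fin n → F) := basisOfTopLeSpanOfCardEqFinrank v (by
        rw [← hD₂.iSup_eq_top]
        refine iSup_le fun j u hu => ?_
        obtain ⟨s, rfl⟩ := hline j u hu
        exact Submodule.smul_mem _ s (Submodule.subset_span ⟨j, rfl⟩)) (by rw [hdimV, Fintype.card_fin])
      have hb : ∀ j, b j = v j := fun j => by simp [b]
      have h4 := lines_count B₂ hrF hB₂ hne1 b σ₂ fun j => by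
        obtain ⟨s, hs⟩ := hline (σ₂ j) (B₂ (v j)) (hσ₂ j ▸ ⟨v j, hv j, rfl⟩)
        exact ⟨s, by rw [hb, hb, hs]⟩
      rwa [hk] at h4
    · -- `c ≤ a`: no block of the extreme element moves
      refine Or.inr ⟨hac, ?_⟩
      have hmod : n % c < c := Nat.mod_lt _ hcpos
      have hinv : ∀ j, (D₂ j).map B₂ ≤ D₂ j := fun j => by
        rw [hσ₂]
        by_contra h
        have hj : σ₂ j ≠ j := fun e => h (by rw [e])
        have := (hmovebound B₂ D₂ σ₂ hB₂ hD₂ hσ₂ j hj).1
        omega
      have h1 := fixed_bound B₂ hrF hB₂ D₂ hD₂ hinv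
      rw [← hc, hk] at h1
      rw [hkt, Nat.mod_eq_of_lt (lt_of_le_of_lt h1 hmod)]
  · intro hcond x ⟨z, hz⟩ hns
    set A : Module.End F (Fin n → F) := Matrix.toLin' (x : Matrix (Fin n) (Fin n) F) with hAdef
    have hz0 : z ≠ 0 := Elusive.scalar_ne_zero (by omega) x hz
    have hAr : A ^ r = z • (1 : Module.End F (Fin n → F)) := Elusive.toLin'_pow_eq x hz
    have hAinj : Function.Injective A := by
      intro v w h
      have := congrArg (A ^ (r - 1)) h
      rw [← Module.End.mul_apply, ← Module.End.mul_apply, ← pow_succ, Nat.sub_add_cancel hrpr.one_le, hAr] at this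
      exact smul_right_injective _ hz0 this
    -- turning blocks of vectors into a decomposition
    have ofBlocks : ∀ w : Fin t → Fin a → (Fin n → F),
        Submodule.span F (Set.range fun q : Fin t × Fin a => w q.1 q.2) = ⊤ →
        (∀ k i, A (w k i) ∈ Submodule.span F (Set.range (w k))) →
        ∃ D : Fin t → Submodule F (Fin n → F), Cfsg.Geo.IsMDecomposition a D ∧
          ∃ σ : Equiv.Perm (Fin t), ∀ j, (D j).map A = D (σ j) := by
      intro w hspan hw
      let b := basisOfTopLeSpanOfCardEqFinrank (fun q : Fin t × Fin a => w q.1 q.2) hspan.ge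
        (by rw [hdimV, hat, Fintype.card_prod, Fintype.card_fin, Fintype.card_fin, mul_comm])
      have hb : ∀ q, b q = w q.1 q.2 := fun q => by simp [b]
      obtain ⟨D, hD, hDσ⟩ := Elusive.exists_decomposition_of_basis b A hAinj Prod.fst ht ha (fun j => by
        rw [Nat.card_congr ({ toFun := fun q => q.1.2
                              invFun := fun s => ⟨(j, s), rfl⟩
                              left_inv := fun q => Subtype.ext (Prod.ext q.2.symm rfl)
                              right_inv := fun s => rfl } : {q : Fin t × Fin a // q.1 = j} ≃ Fin a),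
          Nat.card_eq_fintype_card, Fintype.card_fin]) 1 (fun q => by
        rw [hb, Equiv.Perm.one_apply]
        refine Submodule.span_mono ?_ (hw q.1 q.2)
        rintro _ ⟨i, rfl⟩
        exact ⟨(q.1, i), rfl, hb _⟩)
      exact ⟨D, hD, 1, hDσ⟩
    by_cases hzp : ∃ l : F, l ^ r = z
    · obtain ⟨l, rfl⟩ := hzp
      have hl : l ≠ 0 := fun h => hz0 (by rw [h, zero_pow hrpr.ne_zero])
      set B : Module.End F (Fin n → F) := l⁻¹ • A with hBdef
      have hAB : A = l • B := by rw [hBdef, smul_inv_smul₀ hl]
      have hBr : B ^ r = 1 := by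
        rw [hBdef, smul_pow, hAr, smul_smul, ← mul_pow, inv_mul_cancel₀ hl, one_pow, one_smul]
      have hABinv : ∀ U : Submodule F (Fin n → F), U.map B ≤ U → U.map A ≤ U := fun U hU => by
        rw [hAB]
        rintro _ ⟨v, hv, rfl⟩
        exact U.smul_mem l (hU ⟨v, hv, rfl⟩)
      rcases hcond with ⟨ha1, -, hceq, hnk⟩ | ⟨hca, hk⟩
      · -- lines in cycles
        subst ha1
        have htn : n = t := by rw [hat, one_mul]
        have hfix : n % c ≤ finrank F ↥((⊤ : Submodule F (Fin n → F)) ⊓ Elusive.fixedSpace B) := by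
          have h1 := Elusive.finrank_mod_orderOf hBr hrF (X := ⊤) le_top
          rw [finrank_top, hdimV, ← hc] at h1
          rw [h1]
          exact Nat.mod_le _ _
        obtain ⟨ι, _, w, π, hw1, hcard, hw2⟩ := Elusive.exists_permuted_lines hrF hrq B hBr (hc ▸ hceq) n ⊤
          (by rw [finrank_top, hdimV]) le_top (hnk.trans (Nat.mul_le_mul_right r hfix))
        let e : ι ≃ Fin t := Fintype.equivFinOfCardEq (hcard.trans htn)
        let b := basisOfTopLeSpanOfCardEqFinrank w hw1.ge (by rw [hdimV, hcard])
        have hb : ∀ i, b i = w i := fun i => by simp [b]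
        obtain ⟨D, hD, hDσ⟩ := Elusive.exists_decomposition_of_basis b A hAinj e ht ha (fun j => by
          rw [Nat.card_eq_fintype_card, Fintype.card_eq_one_iff]
          exact ⟨⟨e.symm j, e.apply_symm_apply j⟩, fun y => Subtype.ext (e.injective (by rw [y.2, e.apply_symm_apply]))⟩)
          ((e.symm.trans π).trans e) (fun i => by
          rw [hb, hAB, LinearMap.smul_apply, hw2]
          exact Submodule.smul_mem _ l (Submodule.subset_span ⟨π i, by simp, hb _⟩))
        exact ⟨D, hD, _, hDσ⟩
      · -- invariant blocks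
        obtain ⟨w, hw1, hw2⟩ := Elusive.exists_invariant_blocks A hrF hz0 hAr t (a := a)
          (fun t' X ht' hXi hX => by
            have hXiB : X.map B ≤ X := by
              rw [hBdef]
              rintro _ ⟨v, hv, rfl⟩
              exact X.smul_mem _ (hXi ⟨v, hv, rfl⟩)
            obtain ⟨U, hUX, hUi, hUd, -⟩ := Elusive.exists_invariant_dim hBr hrF hrq hXiB (m := a)
              (by rw [hX]; exact Nat.le_mul_of_pos_right a (Nat.succ_pos t')) (by
                rw [← hc]
                have h1 := Elusive.finrank_mod_orderOf hBr hrF hXiB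
                rw [← hc, hX] at h1
                have h2 : (a % c) * (t' + 1) ≤ n % c := by
                  rw [hk, mul_comm]
                  exact Nat.mul_le_mul_right _ (by omega)
                have h3 : (a * (t' + 1)) % c = (a % c) * (t' + 1) := by
                  rw [Nat.mul_mod, Nat.mul_mod_mod, Nat.mod_eq_of_lt (lt_of_le_of_lt h2 (Nat.mod_lt _ hcpos))]
                calc a % c ≤ (a % c) * (t' + 1) := Nat.le_mul_of_pos_right _ (Nat.succ_pos t')
                  _ = _ := h3.symm.trans h1
                  _ ≤ _ := Nat.mod_le _ _)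
            exact ⟨U, hUX, hABinv U hUi, hUd⟩)
          ⊤ le_top (by rw [finrank_top, hdimV, hat])
        exact ofBlocks w hw1 hw2
    · -- the scalar is no `r`-th power
      push Not at hzp
      have hc1 : c = 1 := by
        by_contra hne
        obtain ⟨l, hl⟩ := Elusive.exists_pow_eq_of_orderOf_ne_one (F := F) (r := r) (hc ▸ hne) z
        exact hzp l hl
      by_cases hra : r ∣ a
      · obtain ⟨w, hw1, hw2⟩ := Elusive.exists_invariant_blocks A hrF hz0 hAr t (a := a)
          (fun t' X _ hXi hX => Elusive.exists_invariant_dim_nonpower hrF hAr hzp hXi hra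
            (by rw [hX]; exact Nat.le_mul_of_pos_right a (Nat.succ_pos t')))
          ⊤ le_top (by rw [finrank_top, hdimV, hat])
        exact ofBlocks w hw1 hw2
      · obtain ⟨J, w, hw1, hJ, hw2⟩ := Elusive.exists_cycles A hrF hAr hzp n ⊤ (by rw [finrank_top, hdimV]) le_top
        obtain ⟨t₁, rfl⟩ : r ∣ t :=
          (hrpr.dvd_mul.1 (hat ▸ ⟨J, by rw [mul_comm]; exact hJ.symm⟩ : r ∣ a * t)).resolve_left hra
        have hJa : J = t₁ * a := Nat.eq_of_mul_eq_mul_right hrpr.pos (by rw [hJ, hat]; ring)
        let b := basisOfTopLeSpanOfCardEqFinrank (fun q : Fin J × Fin r => w q.1 q.2) hw1.ge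
          (by rw [hdimV, Fintype.card_prod, Fintype.card_fin, Fintype.card_fin, hJ])
        have hb : ∀ q, b q = w q.1 q.2 := fun q => by simp [b]
        let e : Fin J ≃ Fin t₁ × Fin a := (finCongr hJa).trans finProdFinEquiv.symm
        let ψ : Fin t₁ × Fin r ≃ Fin (r * t₁) := finProdFinEquiv.trans (finCongr (mul_comm _ _))
        let β : Fin J × Fin r → Fin (r * t₁) := fun q => ψ ((e q.1).1, q.2)
        obtain ⟨D, hD, hDσ⟩ := Elusive.exists_decomposition_of_basis b A hAinj β ht ha (fun j => by
          rw [Nat.card_congr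
            ({ toFun := fun q => (e q.1.1).2
               invFun := fun s => ⟨(e.symm ((ψ.symm j).1, s), (ψ.symm j).2), by simp [β]⟩
               left_inv := fun q => by
                 obtain ⟨⟨u, i⟩, hq⟩ := q
                 have h' : ψ.symm j = ((e u).1, i) := by rw [← hq]; simp [β]
                 refine Subtype.ext (Prod.ext (e.injective (Prod.ext ?_ ?_)) ?_) <;> simp [h']
               right_inv := fun s => by simp } : {q : Fin J × Fin r // β q = j} ≃ Fin a),
            Nat.card_eq_fintype_card, Fintype.card_fin])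
          (ψ.permCongr (Equiv.prodCongr (Equiv.refl _) (finRotate r))) (fun q => by
          obtain ⟨μ, hμ⟩ := hw2 q.1 q.2
          rw [hb, hμ]
          exact Submodule.smul_mem _ μ (Submodule.subset_span
            ⟨(q.1, finRotate r q.2), by simp [β, Equiv.permCongr_apply], hb _⟩))
        exact ⟨D, hD, _, hDσ⟩

end Cfsg.Agent.S5958
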