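import Cfsg.Statements.S5959
import Cfsg.Agent.Lib.Elusive.JordanElement
-- import your own Cfsg.Agent.* helpers here

set_option autoImplicit false
open scoped MatrixGroups
open Cfsg

namespace Cfsg.Agent.S5959

open Cfsg.Agent

/-- Elements of order `p` of PSL_n(q) and imprimitive subgroups: a necessary condition. Here `T = PSL_n(F)` for a field `F` with `q = p^f` elements (`n ≥ 2`, `(n, q) ≠ (2, 2), (2, 3)`), `n = a·t` with `t ≥ 2`, and Ω is the set of direct-sum decompositions of `F^n` into `t` subspaces of dimension `a` (unordered; their number is the number of ordered ones divided by `t!`), whose stabilizers are the imprimitive subgroups of type GL_a(q) ≀ S_t (maximal except in some small cases; maximality is not assumed); an element of `T` of prime order `r` (a matrix `x` of determinant 1 with `x^r` scalar, `x` not scalar) fixes a point of Ω when it permutes the summands of some such decomposition. Suppose `p > 2` divides the number of such decompositions. If every element of `T` of order `p` stabilizes such a decomposition,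 then every partition of `n` into parts of size at most `p` in which the part `p` occurs fewer than `a` times contains (as a sub-multiset) a partition of `a`. -/
theorem result {F : Type*} [Field F] [Fintype F] {p : ℕ} [Fact p.Prime] [CharP F p] {q : ℕ} (hq : Fintype.card F = q)
    (n a t : ℕ) (hn : 2 ≤ n) (hT : (n, q) ≠ (2, 2) ∧ (n, q) ≠ (2, 3)) (hat : n = a * t) (ha : 1 ≤ a) (ht : 2 ≤ t)
    (hp : 2 < p) (hΩ : p ∣ Nat.card {D : Fin t → Submodule F (Fin n → F) // Cfsg.Geo.IsMDecomposition a D} / Nat.factorial t)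
    (h : ∀ x : Matrix.SpecialLinearGroup (Fin n) F,
      (∃ z : F, ((x ^ p : Matrix.SpecialLinearGroup (Fin n) F) : Matrix (Fin n) (Fin n) F) = z • (1 : Matrix (Fin n) (Fin n) F)) →
      (∀ z : F, (x : Matrix (Fin n) (Fin n) F) ≠ z • (1 : Matrix (Fin n) (Fin n) F)) →
      ∃ D : Fin t → Submodule F (Fin n → F), Cfsg.Geo.IsMDecomposition a D ∧
        ∃ σ : Equiv.Perm (Fin t), ∀ j, (D j).map (Matrix.toLin' (x : Matrix (Fin n) (Fin n) F)) = D (σ j)) :
    (∀ μ : Multiset ℕ, (∀ b ∈ μ, 0 < b ∧ b ≤ p) → μ.sum = n → μ.count p < a → ∃ ν : Multiset ℕ, ν ≤ μ ∧ ν.sum = a) := by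
  classical
  intro μ hμ hsum hcount
  have hdim : Module.finrank F (Fin n → F) = n := by rw [Module.finrank_pi, Fintype.card_fin]
  by_cases h1 : ∀ b ∈ μ, b = 1
  · have h2 : μ = Multiset.replicate μ.card 1 := Multiset.eq_replicate_card.2 h1
    rw [h2, Multiset.sum_replicate, smul_eq_mul, mul_one] at hsum
    refine ⟨Multiset.replicate a 1, ?_, by simp⟩
    rw [h2, hsum]
    exact (Multiset.replicate_le_replicate 1).2 (hat ▸ Nat.le_mul_of_pos_right a (by omega))
  push Not at h1
  obtain ⟨t', d, x, e, hμd, hxp, hns, hMe, hMp⟩ := Elusive.exists_jordan_element (F := F) μ hμ hsum h1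
  obtain ⟨D, hD, σ, hσ⟩ := h x ⟨1, hxp⟩ hns
  set A : Module.End F (Fin n → F) := Matrix.toLin' (x : Matrix (Fin n) (Fin n) F)
  have hAp : A ^ p = 1 := by rw [Elusive.toLin'_pow_eq x hxp, one_smul]
  have hDinj : Function.Injective D := fun i j hij => by
    by_contra hne
    have hd := hD.indep.pairwiseDisjoint hne
    rw [Function.onFun, hij, disjoint_self] at hd
    have := hD.finrank_eq j
    rw [hd, finrank_bot] at this
    omega
  have hpowmem : ∀ (l : ℕ) j, ∀ v ∈ D j, (A ^ l) v ∈ D ((σ ^ l) j) := by
    intro l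
    induction l with
    | zero => intro j v hv; exact hv
    | succ l ih =>
      intro j v hv
      rw [pow_succ' A, pow_succ' σ, Module.End.mul_apply, Equiv.Perm.mul_apply, ← hσ]
      exact ⟨_, ih j v hv, rfl⟩
  by_cases hfix : ∃ j, σ j = j
  · obtain ⟨j, hj⟩ := hfix
    have hinv : ∀ k, ∀ v ∈ D k, (A - 1) v ∈ D k ⊔ D (σ k) := fun k v hv =>
      (D k ⊔ D (σ k)).sub_mem (Submodule.mem_sup_right (hσ k ▸ ⟨v, hv, rfl⟩)) (Submodule.mem_sup_left hv)
    have hU : (D j).map (A - 1) ≤ D j := by
      rintro _ ⟨v, hv, rfl⟩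
      have := hinv j v hv
      rwa [hj, sup_idem] at this
    have hW : (⨆ (k) (_ : k ≠ j), D k).map (A - 1) ≤ ⨆ (k) (_ : k ≠ j), D k := by
      rw [Submodule.map_iSup]
      simp only [Submodule.map_iSup]
      refine iSup₂_le fun k hk => ?_
      rintro _ ⟨v, hv, rfl⟩
      have hsk : σ k ≠ j := fun h => hk (σ.injective (h.trans hj.symm))
      exact (show D k ⊔ D (σ k) ≤ ⨆ (i) (_ : i ≠ j), D i from
        sup_le (le_iSup₂_of_le k hk le_rfl) (le_iSup₂_of_le (σ k) hsk le_rfl)) (hinv k v hv)
    have hcompl : IsCompl (D j) (⨆ (k) (_ : k ≠ j), D k) := by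
      refine ⟨hD.indep j, ?_⟩
      rw [codisjoint_iff, eq_top_iff, ← hD.iSup_eq_top]
      refine iSup_le fun k => ?_
      by_cases hk : k = j
      · rw [hk]; exact le_sup_left
      · exact le_trans (le_iSup₂_of_le k hk le_rfl) le_sup_right
    obtain ⟨ν, hν, hνs⟩ := Elusive.exists_sub_of_decomposition (A - 1) e hMe hMp hcompl hU hW
    exact ⟨ν, hμd ▸ hν, hνs.trans (hD.finrank_eq j)⟩
  · exfalso
    push Not at hfix
    have hσp : σ ^ p = 1 := Equiv.ext fun j => hDinj (by
      have h2 : ∀ (l : ℕ), (D j).map (A ^ l) = D ((σ ^ l) j) := by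
        intro l
        induction l with
        | zero => exact Submodule.map_id _
        | succ l ih =>
          rw [pow_succ' A, pow_succ' σ, Equiv.Perm.mul_apply, ← hσ, ← ih, ← Submodule.map_comp]
          rfl
      rw [← h2, hAp]
      exact Submodule.map_id _)
    let j : Fin t := ⟨0, by omega⟩
    have hper : Function.minimalPeriod σ j = p := by
      refine Function.minimalPeriod_eq_prime ?_ (hfix j)
      show σ^[p] j = j
      rw [← Equiv.Perm.coe_pow, hσp, Equiv.Perm.one_apply]
    have hinj : Function.Injective (((A - 1) ^ (p - 1)).domRestrict (D j)) := by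
      rw [injective_iff_map_eq_zero]
      intro v hv
      rw [LinearMap.domRestrict_apply, Elusive.sub_one_pow_eq_sum, LinearMap.sum_apply,
        Finset.range_eq_Ico, Finset.sum_eq_sum_Ico_succ_bot (by omega : 0 < p), pow_zero,
        Module.End.one_apply, ← eq_neg_iff_add_eq_zero] at hv
      refine Subtype.ext (Submodule.disjoint_def.1 (hD.indep j) _ v.2 ?_)
      rw [hv]
      refine neg_mem (Submodule.sum_mem _ fun l hl => ?_)
      obtain ⟨hl1, hl2⟩ := Finset.mem_Ico.1 hl
      refine Submodule.mem_iSup_of_mem ((σ ^ l) j) (Submodule.mem_iSup_of_mem ?_ (hpowmem l j v v.2))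
      intro hc
      have hc' : Function.IsPeriodicPt σ l j := by
        show σ^[l] j = j
        rw [← Equiv.Perm.coe_pow]
        exact hc
      have := hc'.minimalPeriod_le (by omega)
      omega
    have h3 := LinearMap.finrank_range_of_inj hinj
    rw [LinearMap.range_domRestrict, hD.finrank_eq j] at h3
    have h4 : Module.finrank F ((D j).map ((A - 1) ^ (p - 1))) ≤
        Module.finrank F (LinearMap.range ((A - 1) ^ (p - 1))) :=
      Submodule.finrank_mono LinearMap.map_le_range
    rw [Elusive.finrank_range_pow_of_chains (A - 1) e hMe, hμd] at h4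
    have hz : ∀ l, p ≤ l → (μ.map (· - l)).sum = 0 := fun l hl => Multiset.sum_eq_zero fun b hb => by
      obtain ⟨c, hc, rfl⟩ := Multiset.mem_map.1 hb
      have := (hμ c hc).2
      omega
    have h5 := Elusive.count_add_two_mul_sum μ (l := p) (by omega)
    have := hz p le_rfl
    have := hz (p + 1) (by omega)
    omega

end Cfsg.Agent.S5959
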