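import Cfsg.Statements.S5960
import Cfsg.Agent.Lib.Elusive.SymplecticPlanes
import Cfsg.Agent.Lib.Elusive.InvolutionBasis
-- import your own Cfsg.Agent.* helpers here

set_option autoImplicit false
open scoped MatrixGroups
open Cfsg

namespace Cfsg.Agent.S5960

open Cfsg.Agent

/-- Involutions of PSp_n(q) and imprimitive subgroups. Here `T = PSp_n(q)`, `n = 2d ≥ 4`, `(n, q) ≠ (4, 2)`, realised through the symplectic matrices over the field `F` with `q` elements and the standard alternating form; `n = a·t` with `a` even and `t ≥ 2`, and Ω is the (nonempty) set of orthogonal decompositions of `F^n` into `t` nondegenerate subspaces of dimension `a` (unordered; counted as ordered ones divided by `t!`), whose stabilizers are the imprimitive subgroups of type Sp_a(q) ≀ S_t (maximality is not assumed); an element of `T` of prime order `r` (a symplectic matrix `x` with `x^r` scalar, `x` not scalar) fixes a point of Ω when it permutes the summands of some such decomposition.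 If the number of such decompositions is even, then every involution of `T` stabilizes one of them (the action is 2-elusive). -/
theorem result {F : Type*} [Field F] [Fintype F] {p : ℕ} [Fact p.Prime] [CharP F p] {q : ℕ} (hq : Fintype.card F = q)
    (d : ℕ) (hd : 2 ≤ d) (hT : (d, q) ≠ (2, 2))
    (a t : ℕ) (hat : 2 * d = a * t) (ha : 2 ≤ a) (hae : Even a) (ht : 2 ≤ t) (hΩ : 2 ∣ Nat.card {D : Fin t → Submodule F (Fin d ⊕ Fin d → F) // (Cfsg.Geo.IsMDecomposition a D ∧ (∀ j, ∀ u ∈ D j, u ≠ 0 → ∃ v ∈ D j, Cfsg.sympForm d F u v ≠ 0) ∧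
          (∀ j j', j ≠ j' → ∀ u ∈ D j, ∀ v ∈ D j', Cfsg.sympForm d F u v = 0))} / Nat.factorial t)
    (x : ↥(Matrix.symplecticGroup (Fin d) F))
    (hx1 : ∃ z : F, ((x ^ 2 : ↥(Matrix.symplecticGroup (Fin d) F)) : Matrix (Fin d ⊕ Fin d) (Fin d ⊕ Fin d) F) = z • (1 : Matrix (Fin d ⊕ Fin d) (Fin d ⊕ Fin d) F))
    (hx2 : ∀ z : F, (x : Matrix (Fin d ⊕ Fin d) (Fin d ⊕ Fin d) F) ≠ z • (1 : Matrix (Fin d ⊕ Fin d) (Fin d ⊕ Fin d) F)) :
    ∃ D : Fin t → Submodule F (Fin d ⊕ Fin d → F), (Cfsg.Geo.IsMDecomposition a D ∧ (∀ j, ∀ u ∈ D j, u ≠ 0 → ∃ v ∈ D j, Cfsg.sympForm d F u v ≠ 0) ∧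
          (∀ j j', j ≠ j' → ∀ u ∈ D j, ∀ v ∈ D j', Cfsg.sympForm d F u v = 0)) ∧
        ∃ σ : Equiv.Perm (Fin t), ∀ j, (D j).map (Matrix.toLin' (x : Matrix (Fin d ⊕ Fin d) (Fin d ⊕ Fin d) F)) = D (σ j) := by
  classical
  obtain ⟨z, hz⟩ := hx1
  set A : Module.End F (Fin d ⊕ Fin d → F) :=
    Matrix.toLin' (x : Matrix (Fin d ⊕ Fin d) (Fin d ⊕ Fin d) F) with hAdef
  have hiso : ∀ u v, FormsLib.spB d F (A u) (A v) = FormsLib.spB d F u v := fun u v =>
    (FormsLib.mem_symplectic_iff _).1 x.2 u v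
  have hA : ∀ v, A (A v) = z • v := fun v => by
    simp only [hAdef, Matrix.toLin'_apply, Matrix.mulVec_mulVec]
    rw [show (x : Matrix (Fin d ⊕ Fin d) (Fin d ⊕ Fin d) F) * x = z • 1 by
      rw [← hz, pow_two, Submonoid.coe_mul]]
    rw [Matrix.smul_mulVec, Matrix.one_mulVec]
  have hz0 : z ≠ 0 := by
    intro h
    haveI : Nonempty (Fin d ⊕ Fin d) := ⟨Sum.inl ⟨0, by omega⟩⟩
    have h1 := congrArg Matrix.det hz
    rw [h, zero_smul, Matrix.det_zero, SubmonoidClass.coe_pow, Matrix.det_pow] at h1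
    exact (SymplecticGroup.symplectic_det x.2).ne_zero (eq_zero_of_pow_eq_zero h1)
  have hB : LinearMap.IsAlt (FormsLib.spB d F) := FormsLib.spB_alt
  have htop : Elusive.Nd (FormsLib.spB d F) ⊤ := fun u _ h =>
    FormsLib.spB_nondeg.1 u fun v => h v trivial
  obtain ⟨𝓟, h1, h2, h3⟩ := Elusive.exists_plane_decomposition hB hiso hA hz0 _ ⊤ rfl htop le_top
  have hback : ∀ P : Submodule F (Fin d ⊕ Fin d → F), (P.map A).map A = P := fun P => by
    rw [← Submodule.map_comp, show A ∘ₗ A = z • (LinearMap.id : _ →ₗ[F] _) from LinearMap.ext hA,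
      Submodule.map_smul _ _ _ hz0, Submodule.map_id]
  let π : {P // P ∈ 𝓟} → {P // P ∈ 𝓟} := fun P => ⟨P.1.map A, (h1 P.1 P.2).2.2⟩
  have hπ : Function.Involutive π := fun P => Subtype.ext (hback P.1)
  obtain ⟨b, rfl⟩ : ∃ b, a = 2 * b := even_iff_two_dvd.1 hae
  have hbt : d = b * t := by
    rw [mul_assoc] at hat
    omega
  let Pf : {P // P ∈ 𝓟} → Submodule F (Fin d ⊕ Fin d → F) := Subtype.val
  have hnd : ∀ P, Elusive.Nd (FormsLib.spB d F) (Pf P) := fun P => (h1 P.1 P.2).1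
  have ho : ∀ P Q, P ≠ Q → Elusive.Orth (FormsLib.spB d F) (Pf P) (Pf Q) := fun P Q h =>
    h2 P.1 P.2 Q.1 Q.2 fun e => h (Subtype.ext e)
  have hall := Elusive.nd_finset_sup hB Pf Finset.univ (fun P _ => hnd P) (fun P _ Q _ => ho P Q)
  have hsupall : (Finset.univ.sup Pf) = ⊤ := by
    refine eq_top_iff.2 ?_
    rw [← h3]
    exact Finset.sup_le fun P hP => Finset.le_sup (f := Pf) (Finset.mem_univ ⟨P, hP⟩)
  have hcard : Fintype.card {P // P ∈ 𝓟} = b * t := by
    have := hall.2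
    rw [hsupall, finrank_top, Module.finrank_pi, Fintype.card_sum, Fintype.card_fin,
      Finset.sum_congr rfl (fun P _ => show Module.finrank F (Pf P) = 2 from (h1 P.1 P.2).2.1),
      Finset.sum_const, smul_eq_mul, Finset.card_univ] at this
    omega
  obtain ⟨𝓑, hB1, hB2, -, hB4, hB5⟩ := Elusive.exists_blocks hπ (a := b) (by omega) t Finset.univ
    (fun _ _ => Finset.mem_univ _) (by rw [Finset.card_univ, hcard])
  have hBt : 𝓑.card = t := by
    have hu : 𝓑.biUnion id = Finset.univ := Finset.eq_univ_iff_forall.2 fun P => by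
      obtain ⟨Bk, hBk, hP⟩ := hB5 P (Finset.mem_univ _)
      exact Finset.mem_biUnion.2 ⟨Bk, hBk, hP⟩
    have := Finset.card_biUnion (s := 𝓑) (t := id) fun Bk hBk Bl hBl hne => hB4 Bk hBk Bl hBl hne
    rw [hu, Finset.card_univ, hcard, Finset.sum_congr rfl (fun Bk hBk => show (id Bk).card = b from hB1 Bk hBk),
      Finset.sum_const, smul_eq_mul, mul_comm] at this
    exact (Nat.eq_of_mul_eq_mul_right (by omega) this).symm
  let e : Fin t ≃ {Bk // Bk ∈ 𝓑} := (Fintype.equivFinOfCardEq (by rw [Fintype.card_coe, hBt])).symm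
  let D : Fin t → Submodule F (Fin d ⊕ Fin d → F) := fun j => (e j).1.sup Pf
  have hDnd : ∀ j, Elusive.Nd (FormsLib.spB d F) (D j) ∧ Module.finrank F (D j) = 2 * b := fun j => by
    obtain ⟨p1, p2⟩ := Elusive.nd_finset_sup hB Pf (e j).1 (fun P _ => hnd P) (fun P _ Q _ => ho P Q)
    refine ⟨p1, p2.trans ?_⟩
    rw [Finset.sum_congr rfl (fun P _ => show Module.finrank F (Pf P) = 2 from (h1 P.1 P.2).2.1),
      Finset.sum_const, hB1 _ (e j).2, smul_eq_mul, mul_comm]
  have hDo : ∀ i j, i ≠ j → ∀ u ∈ D i, ∀ v ∈ D j, FormsLib.spB d F u v = 0 := by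
    intro i j hij u hu v hv
    have hd : Disjoint (e i).1 (e j).1 := hB4 _ (e i).2 _ (e j).2 fun h => hij (e.injective (Subtype.ext h))
    have key : ∀ P ∈ (e i).1, ∀ x ∈ Pf P, FormsLib.spB d F x v = 0 := by
      intro P hP x hx
      have h4 : D j ≤ LinearMap.ker (FormsLib.spB d F x) :=
        Finset.sup_le fun Q hQ y hy =>
          ho P Q (fun h => Finset.disjoint_left.1 hd hP (h ▸ hQ)) x hx y hy
      exact h4 hv
    have h5 : D i ≤ LinearMap.ker ((FormsLib.spB d F).flip v) := Finset.sup_le fun P hP x hx => key P hP x hx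
    exact h5 hu
  have hsymp : ∀ u v, Cfsg.sympForm d F u v = FormsLib.spB d F u v := fun u v => (FormsLib.spB_apply u v).symm
  have hDM : Cfsg.Geo.IsMDecomposition (2 * b) D := by
    refine ⟨ht, by omega, fun j => (hDnd j).2, fun i => ?_, ?_⟩
    · rw [Submodule.disjoint_def]
      intro v hv hv'
      refine (hDnd i).1 v hv fun w hw => ?_
      have h6 : (⨆ (j) (_ : j ≠ i), D j) ≤ LinearMap.ker ((FormsLib.spB d F).flip w) :=
        iSup₂_le fun j hj y hy => hDo j i hj y hy w hw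
      exact h6 hv'
    · refine eq_top_iff.2 ?_
      rw [← hsupall]
      refine Finset.sup_le fun P _ => ?_
      obtain ⟨Bk, hBk, hP⟩ := hB5 P (Finset.mem_univ _)
      obtain ⟨j, hj⟩ := e.surjective ⟨Bk, hBk⟩
      exact le_iSup_of_le j (show Pf P ≤ D j from Finset.le_sup (f := Pf) (by rw [hj]; exact hP))
  refine ⟨D, ⟨hDM, fun j u hu hu0 => ?_, fun i j hij u hu v hv => (hsymp u v).trans (hDo i j hij u hu v hv)⟩, ?_⟩
  · by_contra h
    push Not at h
    exact hu0 ((hDnd j).1 u hu fun v hv => (hsymp u v).symm.trans (h v hv))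
  let s : Fin t → Fin t := fun j => e.symm ⟨(e j).1.image π, hB2 _ (e j).2⟩
  have hs : Function.Involutive s := fun j => by
    apply e.injective
    refine Subtype.ext ?_
    simp only [s, Equiv.apply_symm_apply]
    simp [Finset.image_image, hπ.comp_self]
  refine ⟨hs.toPerm, fun j => ?_⟩
  show (D j).map A = D (s j)
  simp only [D, s, Equiv.apply_symm_apply, Finset.sup_image]
  rw [Finset.apply_sup_eq_sup_comp (Submodule.map A) (fun U W => Submodule.map_sup U W A) (Submodule.map_bot A)]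
  rfl

end Cfsg.Agent.S5960
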