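import Cfsg.Statements.S5961
import Cfsg.Agent.Lib.Elusive.SymplecticDecompositions
import Cfsg.Agent.Lib.Elusive.SymplecticWitness
import Cfsg.Agent.Lib.Elusive.BlockBounds
-- import your own Cfsg.Agent.* helpers here

set_option autoImplicit false
open scoped MatrixGroups
open Cfsg

namespace Cfsg.Agent.S5961

open Cfsg.Agent Module Elusive.FormIso Elusive.SpDecomp

/-- Elements of odd prime order of PSp_n(q) and imprimitive subgroups. Here `T = PSp_n(q)`, `n = 2d ≥ 4`, `(n, q) ≠ (4, 2)`, realised through the symplectic matrices over the field `F` with `q` elements and the standard alternating form; `n = a·t` with `a` even and `t ≥ 2`, and Ω is the (nonempty) set of orthogonal decompositions of `F^n` into `t` nondegenerate subspaces of dimension `a` (unordered; counted as ordered ones divided by `t!`), whose stabilizers are the imprimitive subgroups of type Sp_a(q) ≀ S_t (maximality is not assumed); an element of `T` of prime order `r` (a symplectic matrix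 `x` with `x^r` scalar, `x` not scalar) fixes a point of Ω when it permutes the summands of some such decomposition. Let `r ≠ p` be an odd prime dividing the number of such decompositions, let `i` be the multiplicative order of `q` modulo `r`, `c = i` if `i` is even and `c = 2i` if `i` is odd, and write `k = n mod c`, `ℓ = a mod c`. Then every element of `T` of order `r` stabilizes such a decomposition if and only if `c ≤ a` and `k = t·ℓ`. -/
theorem result {F : Type*} [Field F] [Fintype F] {p : ℕ} [Fact p.Prime] [CharP F p] {q : ℕ} (hq : Fintype.card F = q)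
    (d : ℕ) (hd : 2 ≤ d) (hT : (d, q) ≠ (2, 2))
    (a t : ℕ) (hat : 2 * d = a * t) (ha : 2 ≤ a) (hae : Even a) (ht : 2 ≤ t)
    (r : ℕ) [Fact r.Prime] (hr2 : r ≠ 2) (hrp : r ≠ p) (hΩ : r ∣ Nat.card {D : Fin t → Submodule F (Fin d ⊕ Fin d → F) // (Cfsg.Geo.IsMDecomposition a D ∧ (∀ j, ∀ u ∈ D j, u ≠ 0 → ∃ v ∈ D j, Cfsg.sympForm d F u v ≠ 0) ∧
          (∀ j j', j ≠ j' → ∀ u ∈ D j, ∀ v ∈ D j', Cfsg.sympForm d F u v = 0))} / Nat.factorial t)
    (i c : ℕ) (hi : i = orderOf (q : ZMod r)) (hc : c = if Even i then i else 2 * i) :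
    (∀ x : ↥(Matrix.symplecticGroup (Fin d) F),
      (∃ z : F, ((x ^ r : ↥(Matrix.symplecticGroup (Fin d) F)) : Matrix (Fin d ⊕ Fin d) (Fin d ⊕ Fin d) F) = z • (1 : Matrix (Fin d ⊕ Fin d) (Fin d ⊕ Fin d) F)) →
      (∀ z : F, (x : Matrix (Fin d ⊕ Fin d) (Fin d ⊕ Fin d) F) ≠ z • (1 : Matrix (Fin d ⊕ Fin d) (Fin d ⊕ Fin d) F)) →
      ∃ D : Fin t → Submodule F (Fin d ⊕ Fin d → F), (Cfsg.Geo.IsMDecomposition a D ∧ (∀ j, ∀ u ∈ D j, u ≠ 0 → ∃ v ∈ D j, Cfsg.sympForm d F u v ≠ 0) ∧
          (∀ j j', j ≠ j' → ∀ u ∈ D j, ∀ v ∈ D j', Cfsg.sympForm d F u v = 0)) ∧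
        ∃ σ : Equiv.Perm (Fin t), ∀ j, (D j).map (Matrix.toLin' (x : Matrix (Fin d ⊕ Fin d) (Fin d ⊕ Fin d) F)) = D (σ j)) ↔
    (c ≤ a ∧ (2 * d) % c = t * (a % c)) := by
  classical
  subst hq
  have hrpr := (Fact.out : r.Prime)
  have hrF : (r : F) ≠ 0 := Elusive.natCast_prime_ne_zero (p := p) hrp
  have hrq : (Fintype.card F : ZMod r) ≠ 0 := Elusive.card_cast_ne_zero (F := F) (p := p) hrp
  subst hi
  obtain ⟨hcpos, hceven, hcr⟩ := Elusive.SpWitness.c_facts (F := F) (p := p) hr2 hrp hc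
  have hA : LinearMap.IsAlt (FormsLib.spB d F) := FormsLib.spB_alt
  have hrefl := refl_of_alt hA
  have hcd : c ≤ 2 * d := Elusive.SpWitness.c_le_of_dvd_card (F := F) (p := p) hr2 hrp hc
    (dvd_card_symplectic hat (by omega) hae ht hΩ)
  have hdimV : finrank F (Fin d ⊕ Fin d → F) = 2 * d := by
    rw [Module.finrank_pi, Fintype.card_sum, Fintype.card_fin, two_mul]
  have hkt : (2 * d) % c = (t * (a % c)) % c := by
    rw [hat, mul_comm a t, Nat.mul_mod_mod]
  -- the fixed space and the summands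
  have hblock : ∀ {T : Module.End F (Fin d ⊕ Fin d → F)},
      (∀ u v, FormsLib.spB d F (T u) (T v) = FormsLib.spB d F u v) → T ^ r = 1 →
      ∀ W : Submodule F (Fin d ⊕ Fin d → F), W.map T ≤ W → (∀ v ∈ W, T v = v → v = 0) →
        NdOn (FormsLib.spB d F) W → W ≠ ⊥ →
        ∃ S : Submodule F (Fin d ⊕ Fin d → F), S ≤ W ∧ S.map T ≤ S ∧ NdOn (FormsLib.spB d F) S ∧ finrank F S = c :=
    fun hiso hT W hWT hfree hW hne => alt_block (p := p) hA hiso hr2 hrF hrq hT hc W hWT hfree hW hne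
  constructor
  · intro hall
    have key : ∀ j₀ : ℕ, 1 ≤ j₀ → j₀ * c ≤ 2 * d → ∃ (B : Module.End F (Fin d ⊕ Fin d → F))
        (D : Fin t → Submodule F (Fin d ⊕ Fin d → F)) (σ : Equiv.Perm (Fin t)), B ^ r = 1 ∧
        (∀ u v, FormsLib.spB d F (B u) (B v) = FormsLib.spB d F u v) ∧
        finrank F ↥(Elusive.fixedSpace B) = 2 * d - j₀ * c ∧ IsND a D ∧ ∀ j, (D j).map B = D (σ j) := by
      intro j₀ h1 h2
      obtain ⟨x, hxr, hfix⟩ := Elusive.SpWitness.exists_element (F := F) (p := p) hr2 hrp hc h2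
      have hBr : (Matrix.toLin' (x : Matrix (Fin d ⊕ Fin d) (Fin d ⊕ Fin d) F)) ^ r = 1 := by
        rw [← Matrix.toLin'_pow, hxr, Matrix.toLin'_one]
        rfl
      obtain ⟨D, hD, σ, hσ⟩ := hall x ⟨1, by rw [SubmonoidClass.coe_pow, hxr, one_smul]⟩ fun z hz => by
        have h3 : j₀ * c ≠ 0 := (Nat.mul_pos h1 hcpos).ne'
        rw [hz] at hfix
        by_cases hz1 : z = 1
        · subst hz1
          rw [one_smul, Matrix.toLin'_one, show Elusive.fixedSpace (LinearMap.id : Module.End F (Fin d ⊕ Fin d → F)) = ⊤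
            from eq_top_iff.2 fun v _ => Elusive.mem_fixedSpace.2 rfl, finrank_top, hdimV] at hfix
          omega
        · have hbot : Elusive.fixedSpace (Matrix.toLin' (z • (1 : Matrix (Fin d ⊕ Fin d) (Fin d ⊕ Fin d) F))) = ⊥ := by
            rw [eq_bot_iff]
            intro v hv
            have h4 := Elusive.mem_fixedSpace.1 hv
            rw [map_smul, Matrix.toLin'_one, LinearMap.smul_apply, LinearMap.id_apply] at h4
            have h5 : (z - 1) • v = 0 := by rw [sub_smul, one_smul, h4, sub_self]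
            exact (Submodule.mem_bot F).2 ((smul_eq_zero.1 h5).resolve_left (sub_ne_zero.2 hz1))
          rw [hbot, finrank_bot] at hfix
          -- a scalar of order `r` preserving the form
          have h6 := congrArg (fun M : Matrix (Fin d ⊕ Fin d) (Fin d ⊕ Fin d) F => M (Sum.inl ⟨0, by omega⟩) (Sum.inl ⟨0, by omega⟩)) hxr
          rw [hz] at h6
          simp [smul_pow] at h6
          have h7 := (FormsLib.mem_symplectic_iff _).1 x.2 (Pi.single (Sum.inr ⟨0, by omega⟩) 1) (Pi.single (Sum.inl ⟨0, by omega⟩) 1)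
          rw [hz] at h7
          simp [FormsLib.spB_expand, Pi.single_apply, Matrix.one_apply] at h7
          obtain ⟨l, hl⟩ := hrpr.odd_of_ne_two hr2
          rw [hl, pow_succ, pow_mul, pow_two, h7, one_pow, one_mul] at h6
          exact hz1 h6
      exact ⟨_, D, σ, hBr, (FormsLib.mem_symplectic_iff _).1 x.2, hfix, hD, hσ⟩
    have hfixsum : ∀ (B : Module.End F (Fin d ⊕ Fin d → F)) (D : Fin t → Submodule F (Fin d ⊕ Fin d → F)),
        B ^ r = 1 → (∀ u v, FormsLib.spB d F (B u) (B v) = FormsLib.spB d F u v) → IsND a D →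
        (∀ j, (D j).map B ≤ D j) → t * (a % c) ≤ finrank F ↥(Elusive.fixedSpace B) := by
      intro B D hB hiso hD hinv
      refine le_trans ?_ (Elusive.sum_finrank_inf_le hD.1.indep _)
      rw [show t * (a % c) = ∑ _j : Fin t, a % c by simp]
      refine Finset.sum_le_sum fun j _ => ?_
      rw [← hD.1.finrank_eq j,
        finrank_mod hrefl hiso hrF hB hcpos (hblock hiso hB) (ndOn_of_isND hD j) (hinv j)]
      exact Nat.mod_le _ _
    obtain ⟨B₁, D₁, σ₁, hB₁, hiso₁, hfix₁, hD₁, hσ₁⟩ := key 1 le_rfl (by omega)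
    have hfixed : ∀ j, σ₁ j = j := fun j => by
      by_contra hj
      obtain ⟨-, h2⟩ := Elusive.moved_block_bound hD₁.1.indep (by omega) hD₁.1.finrank_eq B₁ hB₁ σ₁ hσ₁ hj
      rw [hfix₁, hdimV] at h2
      have hr1 : 2 ≤ r := hrpr.two_le
      have hcle : c ≤ r - 1 := Nat.le_of_dvd (by omega) hcr
      have := Nat.mul_le_mul_right (r - 1) ha
      omega
    have h1 := hfixsum B₁ D₁ hB₁ hiso₁ hD₁ fun j => by rw [hσ₁, hfixed]
    have hca : c ≤ a := by
      by_contra hlt
      rw [Nat.mod_eq_of_lt (not_le.1 hlt), hfix₁, mul_comm, ← hat] at h1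
      omega
    refine ⟨hca, ?_⟩
    obtain ⟨B₂, D₂, σ₂, hB₂, hiso₂, hfix₂, hD₂, hσ₂⟩ :=
      key (2 * d / c) (Nat.div_pos hcd hcpos) (Nat.div_mul_le_self _ _)
    have hk : finrank F ↥(Elusive.fixedSpace B₂) = (2 * d) % c := by
      rw [hfix₂]
      have h1 := Nat.div_add_mod (2 * d) c
      rw [mul_comm c] at h1
      omega
    have hmod : (2 * d) % c < c := Nat.mod_lt _ hcpos
    have hfixed₂ : ∀ j, σ₂ j = j := fun j => by
      by_contra hj
      have := (Elusive.moved_block_bound hD₂.1.indep (by omega) hD₂.1.finrank_eq B₂ hB₂ σ₂ hσ₂ hj).1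
      omega
    have h2 := hfixsum B₂ D₂ hB₂ hiso₂ hD₂ fun j => by rw [hσ₂, hfixed₂]
    rw [hk] at h2
    rw [hkt, Nat.mod_eq_of_lt (lt_of_le_of_lt h2 hmod)]
  · rintro ⟨hca, hk⟩ x ⟨z, hz⟩ -
    set A := Matrix.toLin' (x : Matrix (Fin d ⊕ Fin d) (Fin d ⊕ Fin d) F) with hAdef
    have hisoA : ∀ u v, FormsLib.spB d F (A u) (A v) = FormsLib.spB d F u v :=
      (FormsLib.mem_symplectic_iff _).1 x.2
    have hz2 : z * z = 1 := by
      have h1 := (FormsLib.mem_symplectic_iff _).1 (x ^ r).2 (Pi.single (Sum.inr ⟨0, by omega⟩) 1)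
        (Pi.single (Sum.inl ⟨0, by omega⟩) 1)
      rw [hz] at h1
      simpa [FormsLib.spB_expand, Pi.single_apply, Matrix.one_apply] using h1
    set B : Module.End F (Fin d ⊕ Fin d → F) := z • A with hBdef
    have hiso : ∀ u v, FormsLib.spB d F (B u) (B v) = FormsLib.spB d F u v := fun u v => by
      simp only [hBdef, LinearMap.smul_apply, map_smul, hisoA, smul_eq_mul, ← mul_assoc, hz2, one_mul]
    have hBr : B ^ r = 1 := by
      have hAr : A ^ r = z • (1 : Module.End F (Fin d ⊕ Fin d → F)) := by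
        rw [hAdef, ← Matrix.toLin'_pow, ← SubmonoidClass.coe_pow, hz, map_smul, Matrix.toLin'_one]
        rfl
      obtain ⟨l, hl⟩ := hrpr.odd_of_ne_two hr2
      rw [hBdef, smul_pow, hAr, smul_smul, ← pow_succ, hl, show 2 * l + 1 + 1 = 2 * (l + 1) by ring, pow_mul,
        pow_two, hz2, one_pow, one_smul]
    obtain ⟨D, h1, h2, h3⟩ := exists_blocks (a := a) hA hiso hrpr.ne_zero hBr t
      (fun t' X ht' hX hXi hXd => exists_invariant hrefl hiso hrF hBr hcpos two_pos (even_iff_two_dvd.1 hceven)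
        (hblock hiso hBr) (fun W _ hW hne => exists_plane hA hW hne) hX hXi
        (by rw [hXd]; exact Nat.le_mul_of_pos_right a (Nat.succ_pos t')) (even_iff_two_dvd.1 hae) (by
          have h1 := finrank_mod hrefl hiso hrF hBr hcpos (hblock hiso hBr) hX hXi
          rw [hXd] at h1
          have h2 : (a % c) * (t' + 1) ≤ (2 * d) % c := by
            rw [hk, mul_comm]
            exact Nat.mul_le_mul_right _ (by omega)
          have h3 : (a * (t' + 1)) % c = (a % c) * (t' + 1) := by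
            rw [Nat.mul_mod, Nat.mul_mod_mod, Nat.mod_eq_of_lt (lt_of_le_of_lt h2 (Nat.mod_lt _ hcpos))]
          calc a % c ≤ (a % c) * (t' + 1) := Nat.le_mul_of_pos_right _ (Nat.succ_pos t')
            _ = _ := h3.symm.trans h1
            _ ≤ _ := Nat.mod_le _ _))
      ⊤ ndOn_top le_top (by rw [finrank_top, hdimV, hat])
    refine ⟨D, isND_of ht (by omega) (fun j => ⟨(h1 j).2.1, (h1 j).2.2⟩) h2 h3, 1, fun j => ?_⟩
    rw [Equiv.Perm.one_apply]
    have hz0 : z ≠ 0 := left_ne_zero_of_mul_eq_one hz2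
    conv_rhs => rw [← map_eq hrpr.ne_zero hBr (h1 j).1, hBdef, Submodule.map_smul _ _ _ hz0]

end Cfsg.Agent.S5961
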