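import Cfsg.Statements.S5962
import Cfsg.Agent.Lib.Elusive.SymplecticPlanes
-- import your own Cfsg.Agent.* helpers here

set_option autoImplicit false
open scoped MatrixGroups
open Cfsg

namespace Cfsg.Agent.S5962

open Cfsg.Agent

/-- Involutions of PSp_n(q), q odd, and the subgroups GL_{n/2}(q).2. Here `T = PSp_n(q)`, `n = 2d ≥ 4`, `q` odd, realised through the symplectic matrices over the field `F` with `q` elements; Ω is the set of unordered pairs `{U, W}` of complementary totally isotropic `d`-spaces (`F^n = U ⊕ W`), whose stabilizers are the subgroups of type GL_d(q).2 (maximal except in some small cases; maximality is not assumed); an element of `T` of prime order `r` (a symplectic matrix `x` with `x^r` scalar, `x` not scalar) fixes such a pair when it fixes or interchanges `U` and `W`. If the number of such pairs is even, every involution of `T` fixes one of them (the action is 2-elusive). -/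
theorem result {F : Type*} [Field F] [Fintype F] {p : ℕ} [Fact p.Prime] [CharP F p] {q : ℕ} (hq : Fintype.card F = q)
    (d : ℕ) (hd : 2 ≤ d) (hT : (d, q) ≠ (2, 2)) (hodd : Odd q)
    (hΩ : 2 ∣ Nat.card {P : Submodule F (Fin d ⊕ Fin d → F) × Submodule F (Fin d ⊕ Fin d → F) // IsCompl P.1 P.2 ∧ (∀ u ∈ P.1, ∀ v ∈ P.1, Cfsg.sympForm d F u v = 0) ∧ (∀ u ∈ P.2, ∀ v ∈ P.2, Cfsg.sympForm d F u v = 0)} / 2)
    (x : ↥(Matrix.symplecticGroup (Fin d) F))
    (hx1 : ∃ z : F, ((x ^ 2 : ↥(Matrix.symplecticGroup (Fin d) F)) : Matrix (Fin d ⊕ Fin d) (Fin d ⊕ Fin d) F) = z • (1 : Matrix (Fin d ⊕ Fin d) (Fin d ⊕ Fin d) F))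
    (hx2 : ∀ z : F, (x : Matrix (Fin d ⊕ Fin d) (Fin d ⊕ Fin d) F) ≠ z • (1 : Matrix (Fin d ⊕ Fin d) (Fin d ⊕ Fin d) F)) :
    ∃ U W : Submodule F (Fin d ⊕ Fin d → F), IsCompl U W ∧ (∀ u ∈ U, ∀ v ∈ U, Cfsg.sympForm d F u v = 0) ∧ (∀ u ∈ W, ∀ v ∈ W, Cfsg.sympForm d F u v = 0) ∧
        ((U.map (Matrix.toLin' (x : Matrix (Fin d ⊕ Fin d) (Fin d ⊕ Fin d) F)) = U ∧ W.map (Matrix.toLin' (x : Matrix (Fin d ⊕ Fin d) (Fin d ⊕ Fin d) F)) = W) ∨
         (U.map (Matrix.toLin' (x : Matrix (Fin d ⊕ Fin d) (Fin d ⊕ Fin d) F)) = W ∧ W.map (Matrix.toLin' (x : Matrix (Fin d ⊕ Fin d) (Fin d ⊕ Fin d) F)) = U)) := by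
  classical
  obtain ⟨z, hz⟩ := hx1
  subst hq
  set A : Module.End F (Fin d ⊕ Fin d → F) :=
    Matrix.toLin' (x : Matrix (Fin d ⊕ Fin d) (Fin d ⊕ Fin d) F) with hAdef
  have hiso : ∀ u v, FormsLib.spB d F (A u) (A v) = FormsLib.spB d F u v := fun u v =>
    (FormsLib.mem_symplectic_iff _).1 x.2 u v
  have hA : ∀ v, A (A v) = z • v := fun v => by
    simp only [hAdef, Matrix.toLin'_apply, Matrix.mulVec_mulVec]
    rw [show (x : Matrix (Fin d ⊕ Fin d) (Fin d ⊕ Fin d) F) * x = z • 1 by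
      rw [← hz, pow_two, Submonoid.coe_mul]]
    rw [Matrix.smul_mulVec, Matrix.one_mulVec]
  have hz0 : z ≠ 0 := by
    intro h
    haveI : Nonempty (Fin d ⊕ Fin d) := ⟨Sum.inl ⟨0, by omega⟩⟩
    have h1 := congrArg Matrix.det hz
    rw [h, zero_smul, Matrix.det_zero, SubmonoidClass.coe_pow, Matrix.det_pow] at h1
    exact (SymplecticGroup.symplectic_det x.2).ne_zero (eq_zero_of_pow_eq_zero h1)
  have h2 : (2 : F) ≠ 0 := fun h => by
    haveI : CharP F 2 := CharTwo.of_one_ne_zero_of_two_eq_zero one_ne_zero h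
    obtain ⟨e, -, he⟩ := FiniteField.card F 2
    rw [he] at hodd
    exact Nat.not_even_iff_odd.2 hodd (even_two.pow_of_ne_zero e.pos.ne')
  have htop : Elusive.Nd (FormsLib.spB d F) ⊤ := fun u _ h =>
    FormsLib.spB_nondeg.1 u fun v => h v trivial
  obtain ⟨U, W, hsup, hU, hW, hcase⟩ := Elusive.exists_lagrangian_pair h2 FormsLib.spB_alt hiso hA hz0 _ ⊤ rfl
    htop le_top
  have hsymp : ∀ u v, Cfsg.sympForm d F u v = FormsLib.spB d F u v := fun u v => (FormsLib.spB_apply u v).symm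
  have hinf : U ⊓ W = ⊥ := by
    rw [Submodule.eq_bot_iff]
    rintro v ⟨hvU, hvW⟩
    refine htop v trivial fun y _ => ?_
    obtain ⟨u, hu, w, hw, rfl⟩ := Submodule.mem_sup.1 (hsup ▸ Submodule.mem_top : y ∈ U ⊔ W)
    rw [map_add, hU v hvU u hu, hW v hvW w hw, add_zero]
  have hc : IsCompl U W := IsCompl.of_eq hinf hsup
  refine ⟨U, W, hc, fun u hu v hv => (hsymp u v).trans (hU u hu v hv),
    fun u hu v hv => (hsymp u v).trans (hW u hu v hv), ?_⟩
  rcases hcase with ⟨-, h1, h3⟩ | ⟨-, h1, h3⟩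
  · exact Or.inl ⟨Elusive.map_invariant_eq hA hz0 h1, Elusive.map_invariant_eq hA hz0 h3⟩
  · have hback : ∀ P : Submodule F (Fin d ⊕ Fin d → F), (P.map A).map A = P := fun P => by
      rw [← Submodule.map_comp, show A ∘ₗ A = z • (LinearMap.id : _ →ₗ[F] _) from LinearMap.ext hA,
        Submodule.map_smul _ _ _ hz0, Submodule.map_id]
    refine Or.inr ⟨le_antisymm h1 ?_, le_antisymm h3 ?_⟩
    · have := Submodule.map_mono (f := A) h3
      rwa [hback] at this
    · have := Submodule.map_mono (f := A) h1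
      rwa [hback] at this

end Cfsg.Agent.S5962
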