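import Cfsg.Statements.S5963
import Cfsg.Agent.Lib.Elusive.LagrangianPairs
import Cfsg.Agent.Lib.Elusive.CyclicModel
import Cfsg.Agent.Lib.FormTorus.SymplecticOrders
import Cfsg.Agent.Lib.TransvMax.NonsingModels
-- import your own Cfsg.Agent.* helpers here

set_option autoImplicit false
open scoped MatrixGroups
open Cfsg

namespace Cfsg.Agent.S5963

open Cfsg.Agent

/-- Derangements of odd prime order of PSp_n(q), q odd, on pairs of complementary totally isotropic subspaces. Here `T = PSp_n(q)`, `n = 2d ≥ 4`, `q` odd, realised through the symplectic matrices over the field `F` with `q` elements; Ω is the set of unordered pairs `{U, W}` of complementary totally isotropic `d`-spaces (`F^n = U ⊕ W`), whose stabilizers are the subgroups of type GL_d(q).2 (maximal except in some small cases; maximality is not assumed); an element of `T` of prime order `r` (a symplectic matrix `x` with `x^r` scalar, `x` not scalar) fixes such a pair when it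 fixes or interchanges `U` and `W`. For every odd prime `r ≠ p` dividing the number of such pairs, some element of `T` of order `r` fixes no such pair (the action is never `r`-elusive for odd `r ≠ p`). -/
theorem result {F : Type*} [Field F] [Fintype F] {p : ℕ} [Fact p.Prime] [CharP F p] {q : ℕ} (hq : Fintype.card F = q)
    (d : ℕ) (hd : 2 ≤ d) (hT : (d, q) ≠ (2, 2)) (hodd : Odd q)
    (r : ℕ) [Fact r.Prime] (hr2 : r ≠ 2) (hrp : r ≠ p) (hΩ : r ∣ Nat.card {P : Submodule F (Fin d ⊕ Fin d → F) × Submodule F (Fin d ⊕ Fin d → F) // IsCompl P.1 P.2 ∧ (∀ u ∈ P.1, ∀ v ∈ P.1, Cfsg.sympForm d F u v = 0) ∧ (∀ u ∈ P.2, ∀ v ∈ P.2, Cfsg.sympForm d F u v = 0)} / 2) :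
    ∃ x : ↥(Matrix.symplecticGroup (Fin d) F),
      (∃ z : F, ((x ^ r : ↥(Matrix.symplecticGroup (Fin d) F)) : Matrix (Fin d ⊕ Fin d) (Fin d ⊕ Fin d) F) = z • (1 : Matrix (Fin d ⊕ Fin d) (Fin d ⊕ Fin d) F)) ∧
      (∀ z : F, (x : Matrix (Fin d ⊕ Fin d) (Fin d ⊕ Fin d) F) ≠ z • (1 : Matrix (Fin d ⊕ Fin d) (Fin d ⊕ Fin d) F)) ∧
      ¬ (∃ U W : Submodule F (Fin d ⊕ Fin d → F), IsCompl U W ∧ (∀ u ∈ U, ∀ v ∈ U, Cfsg.sympForm d F u v = 0) ∧ (∀ u ∈ W, ∀ v ∈ W, Cfsg.sympForm d F u v = 0) ∧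
        ((U.map (Matrix.toLin' (x : Matrix (Fin d ⊕ Fin d) (Fin d ⊕ Fin d) F)) = U ∧ W.map (Matrix.toLin' (x : Matrix (Fin d ⊕ Fin d) (Fin d ⊕ Fin d) F)) = W) ∨
         (U.map (Matrix.toLin' (x : Matrix (Fin d ⊕ Fin d) (Fin d ⊕ Fin d) F)) = W ∧ W.map (Matrix.toLin' (x : Matrix (Fin d ⊕ Fin d) (Fin d ⊕ Fin d) F)) = U))) := by
  classical
  subst hq
  set q := Fintype.card F with hqdef
  have hrpr := (Fact.out : r.Prime)
  have h2 : (2 : F) ≠ 0 := fun h => by
    haveI : CharP F 2 := CharTwo.of_one_ne_zero_of_two_eq_zero one_ne_zero h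
    obtain ⟨e, -, he⟩ := FiniteField.card F 2
    rw [hqdef, he] at hodd
    exact Nat.not_even_iff_odd.2 hodd (even_two.pow_of_ne_zero e.pos.ne')
  have hq1 : 1 < q := Fintype.one_lt_card
  have hrq : ¬ r ∣ q := fun h => by
    obtain ⟨e, hp, he⟩ := FiniteField.card F p
    rw [hqdef, he] at h
    exact hrp ((Nat.prime_dvd_prime_iff_eq hrpr hp).1 (hrpr.dvd_of_dvd_pow h))
  -- some `q ^ k + 1` with `k ≤ d` is divisible by `r`
  have hcount := Elusive.card_pairs_mul (F := F) (d := d)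
  set N := Nat.card {P : Submodule F (Fin d ⊕ Fin d → F) × Submodule F (Fin d ⊕ Fin d → F) //
    IsCompl P.1 P.2 ∧ (∀ u ∈ P.1, ∀ v ∈ P.1, Cfsg.sympForm d F u v = 0) ∧
      (∀ u ∈ P.2, ∀ v ∈ P.2, Cfsg.sympForm d F u v = 0)}
  have hNeven : 2 ∣ N := by
    have hev : 2 ∣ q ^ (d ^ 2) * ∏ i ∈ Finset.range d, (q ^ (i + 1) + 1) :=
      (Dvd.dvd.mul_left ((even_iff_two_dvd.1 (by rw [pow_one]; exact hodd.add_one)).trans
        (Finset.dvd_prod_of_mem (fun i => q ^ (i + 1) + 1) (Finset.mem_range.2 (by omega : 0 < d)))) _)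
    rw [← hcount] at hev
    exact (Nat.prime_two.dvd_mul.1 hev).resolve_right fun h =>
      Nat.not_even_iff_odd.2 hodd.pow (even_iff_two_dvd.2 h)
  have hrN : r ∣ N := hΩ.trans (Nat.div_dvd_of_dvd hNeven)
  obtain ⟨i₀, hi₀, hri⟩ : ∃ i < d, r ∣ q ^ (i + 1) + 1 := by
    have h := hrN.mul_right (q ^ (∑ i ∈ Finset.range d, i))
    rw [hcount] at h
    obtain ⟨i, hi, h'⟩ := (hrpr.prime.dvd_finsetProd_iff _).1
      ((hrpr.dvd_mul.1 h).resolve_left fun h' => hrq (hrpr.dvd_of_dvd_pow h'))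
    exact ⟨i, Finset.mem_range.1 hi, h'⟩
  -- the order of `q`
  set e := orderOf (q : ZMod r) with hedef
  have hz : (q : ZMod r) ^ (i₀ + 1) = -1 := by
    rw [eq_neg_iff_add_eq_zero]
    exact_mod_cast (ZMod.natCast_eq_zero_iff _ _).2 hri
  have h2r : (2 : ZMod r) ≠ 0 := fun h => hr2 <| (Nat.prime_dvd_prime_iff_eq hrpr Nat.prime_two).1 <|
    (ZMod.natCast_eq_zero_iff 2 r).1 (by exact_mod_cast h)
  have hne1 : (-1 : ZMod r) ≠ 1 := fun h => h2r (by linear_combination -h)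
  have he2 : e ∣ 2 * (i₀ + 1) := orderOf_dvd_of_pow_eq_one (by rw [mul_comm, pow_mul, hz, neg_one_sq])
  have hend : ¬ e ∣ i₀ + 1 := fun h => hne1 (hz.symm.trans (orderOf_dvd_iff_pow_eq_one.1 h))
  obtain ⟨h, heh⟩ : 2 ∣ e := by
    by_contra ho
    exact hend (((Nat.prime_two.coprime_iff_not_dvd.2 ho).symm).dvd_of_dvd_mul_left he2)
  have hhd : h ∣ i₀ + 1 := by
    rw [heh] at he2
    exact Nat.dvd_of_mul_dvd_mul_left two_pos he2
  have hepos : 0 < e := by
    refine orderOf_pos_iff.2 (isOfFinOrder_iff_pow_eq_one.2 ⟨2 * (i₀ + 1), by omega, ?_⟩)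
    rw [mul_comm, pow_mul, hz, neg_one_sq]
  have hh : 1 ≤ h := by omega
  have hhled : h ≤ d := (Nat.le_of_dvd (by omega) hhd).trans hi₀
  have hzh : (q : ZMod r) ^ h = -1 := by
    have h1 : (q : ZMod r) ^ h * (q : ZMod r) ^ h = 1 := by
      rw [← pow_add, ← two_mul, ← heh]
      exact pow_orderOf_eq_one _
    refine (mul_self_eq_one_iff.1 h1).resolve_left fun h' => ?_
    have := Nat.le_of_dvd hh (orderOf_dvd_of_pow_eq_one h')
    omega
  have hdvd : r ∣ q ^ h + 1 := (ZMod.natCast_eq_zero_iff _ _).1 (by push_cast; rw [hzh]; ring)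
  -- the field of `q ^ e` elements
  obtain ⟨K, _, _, _, hKdim, hKcard, ζ, hζ, hζ1⟩ := NonsingPoints.exists_root_of_unity (F := F) e (by omega) hrpr
    ((Nat.modEq_iff_dvd' (Nat.one_le_pow _ _ (by omega))).1
      ((ZMod.natCast_eq_natCast_iff _ _ _).1 (by push_cast; exact (pow_orderOf_eq_one (q : ZMod r)).symm)))
  haveI : Module.Finite F K := Module.Finite.of_finite
  let φ : K →ₐ[F] K := FiniteField.frobeniusAlgHom F K ^ h
  have hφ : ∀ a : K, φ a = a ^ q ^ h := by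
    intro a
    show (FiniteField.frobeniusAlgHom F K ^ h) a = _
    clear_value e
    clear heh hh hhled hzh hdvd hhd φ
    induction h generalizing a with
    | zero => simp
    | succ k ih =>
      rw [pow_succ, AlgHom.mul_apply, ih, FiniteField.coe_frobeniusAlgHom, ← pow_mul, pow_succ', hqdef]
  let τ : K →+* K := φ.toRingHom
  have hττ : ∀ a, τ (τ a) = a := fun a => by
    show φ (φ a) = a
    rw [hφ, hφ, ← pow_mul, ← pow_add, ← two_mul, ← heh, ← hKcard, FiniteField.pow_card]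
  have htr : ∀ z, Algebra.trace F K (τ z) = (RingHom.id F) (Algebra.trace F K z) := fun z => by
    let ψ : K ≃ₐ[F] K := AlgEquiv.ofBijective φ ⟨φ.toRingHom.injective, fun a => ⟨φ a, hττ a⟩⟩
    exact Algebra.trace_eq_of_algEquiv ψ z
  have hτc : ∀ c : F, τ (algebraMap F K c) = algebraMap F K ((RingHom.id F) c) := fun c => φ.commutes c
  have hτζ : τ ζ * ζ = 1 := by
    show φ ζ * ζ = 1
    obtain ⟨k, hk⟩ := hdvd
    rw [hφ, ← pow_succ, hk, pow_mul, hζ, one_pow]
  set δ : K := ζ - τ ζ with hδdef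
  have hδ0 : δ ≠ 0 := fun h0 => by
    rw [← sub_eq_zero.1 h0] at hτζ
    exact hζ1 (by
      obtain ⟨k, hk⟩ := hrpr.odd_of_ne_two hr2
      rw [hk, pow_succ, pow_mul, pow_two, hτζ, one_pow, one_mul] at hζ
      exact hζ)
  have hδ : algebraMap F K (-1 : F) * τ δ = δ := by
    rw [map_neg, map_one, hδdef, map_sub, hττ]
    ring
  have hflip := FormTorus.fieldB_isFlip (RingHom.id F) (-1 : F) τ hτc htr hττ δ hδ hδ0
  set B₁ := FormTorus.fieldB (RingHom.id F) τ hτc δ
  have hflip2 : FormTorus.IsFlipForm (RingHom.id F) (-1) (FormsLib.spB (d - h) F) :=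
    ⟨(FormsLib.spB_trace (m := d - h) (F := F)).flip, (FormsLib.spB_trace (m := d - h) (F := F)).nondeg⟩
  obtain ⟨hA, hN⟩ := FormTorus.isAlt_of_isFlip h2 (FormTorus.prodB_isFlip hflip hflip2)
  obtain ⟨Φ, hΦ⟩ := FormTorus.exists_sp_frame hA hN (m := d) (by
    rw [Module.finrank_prod, hKdim, heh, Module.finrank_pi, Fintype.card_sum, Fintype.card_fin]
    omega)
  let V₂ := Fin (d - h) ⊕ Fin (d - h) → F
  let g : Module.End F (K × V₂) := (LinearMap.mulLeft F ζ).prodMap LinearMap.id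
  have hg : ∀ a b, FormTorus.prodB (RingHom.id F) B₁ (FormsLib.spB (d - h) F) (g a) (g b) =
      FormTorus.prodB (RingHom.id F) B₁ (FormsLib.spB (d - h) F) a b := fun a b => by
    rw [FormTorus.prodB_apply, FormTorus.prodB_apply]
    exact congrArg (· + _) (FormTorus.fieldB_mul (RingHom.id F) τ hτc δ ζ hτζ a.1 b.1)
  let L : Module.End F (Fin d ⊕ Fin d → F) :=
    (Φ : (K × V₂) →ₗ[F] _) ∘ₗ g ∘ₗ (Φ.symm : _ →ₗ[F] (K × V₂))
  let x : ↥(Matrix.symplecticGroup (Fin d) F) := ⟨LinearMap.toMatrix' L,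
    (FormsLib.mem_symplectic_iff _).2 fun u v => by
      rw [LinearMap.toMatrix'_mulVec, LinearMap.toMatrix'_mulVec]
      show FormsLib.spB d F (Φ (g (Φ.symm u))) (Φ (g (Φ.symm v))) = _
      rw [← hΦ, hg, hΦ, Φ.apply_symm_apply, Φ.apply_symm_apply]⟩
  have hpow : ∀ k : ℕ, (LinearMap.toMatrix' L) ^ k =
      LinearMap.toMatrix' ((Φ : (K × V₂) →ₗ[F] _) ∘ₗ
        ((LinearMap.mulLeft F (ζ ^ k)).prodMap LinearMap.id) ∘ₗ (Φ.symm : _ →ₗ[F] (K × V₂))) := by
    intro k
    induction k with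
    | zero =>
      rw [pow_zero, ← LinearMap.toMatrix'_id]
      congr 1
      refine LinearMap.ext fun v => ?_
      simp
    | succ k ih =>
      rw [pow_succ, ih, ← LinearMap.toMatrix'_comp]
      congr 1
      refine LinearMap.ext fun v => ?_
      simp [L, g, pow_succ, mul_assoc, V₂]
  have hxr : (x : Matrix (Fin d ⊕ Fin d) (Fin d ⊕ Fin d) F) ^ r = 1 := by
    show (LinearMap.toMatrix' L) ^ r = 1
    rw [hpow, hζ, ← LinearMap.toMatrix'_id]
    congr 1
    refine LinearMap.ext fun v => ?_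
    simp
  refine ⟨x, ⟨1, by rw [one_smul, SubmonoidClass.coe_pow, hxr]⟩, fun z hzz => ?_, ?_⟩
  · have hL : L = z • LinearMap.id := by
      apply LinearMap.toMatrix'.injective
      rw [map_smul, LinearMap.toMatrix'_id]
      exact hzz
    have h0 : g ((1 : K), (0 : V₂)) = z • ((1 : K), (0 : V₂)) := Φ.injective (by
      have := LinearMap.congr_fun hL (Φ (1, 0))
      rw [map_smul]
      simpa [L] using this)
    have h1 : ζ = algebraMap F K z := by
      simpa [g, Algebra.algebraMap_eq_smul_one] using congrArg Prod.fst h0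
    have h2' : τ ζ = ζ := by rw [h1, hτc]; rfl
    exact hδ0 (by rw [hδdef, h2', sub_self])
  rintro ⟨U, W, hUW, hU, hW, hcase⟩
  -- the element cannot interchange the two members
  have hfix : ∀ X : Submodule F (Fin d ⊕ Fin d → F),
      X = X.map (Matrix.toLin' (x : Matrix (Fin d ⊕ Fin d) (Fin d ⊕ Fin d) F)) →
      (∀ u ∈ X, ∀ v ∈ X, Cfsg.sympForm d F u v = 0) →
      X ≤ (Submodule.prod ⊥ ⊤ : Submodule F (K × V₂)).map (Φ : (K × V₂) →ₗ[F] _) := by
    intro X hX hiso w hw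
    let U' : Submodule F (K × V₂) := X.comap (Φ : (K × V₂) →ₗ[F] _)
    have hinv : ∀ a ∈ U', g a ∈ U' := fun a ha => by
      show Φ (g a) ∈ X
      rw [hX]
      exact ⟨Φ a, ha, by simp [x, L]⟩
    let U0 : Submodule F K := U'.comap (LinearMap.inl F K V₂)
    have hU0 : ∀ a ∈ U0, ζ * a ∈ U0 := fun a ha => by
      have := hinv (a, 0) ha
      simpa [g, U0] using this
    have hU0bot : U0 = ⊥ := by
      refine (Elusive.eq_bot_or_eq_top_of_mul hζ hζ1 hKdim hU0).resolve_right fun htop => ?_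
      refine one_ne_zero (α := K) (hflip.nondeg 1 fun b => ?_)
      have h1 := hiso _ (htop ▸ Submodule.mem_top : (1 : K) ∈ U0) _ (htop ▸ Submodule.mem_top : b ∈ U0)
      rw [Cfsg.sympForm, ← FormsLib.spB_apply] at h1
      exact (by simpa [FormTorus.prodB_apply] using
        (hΦ ((1, 0) : K × V₂) ((b, 0) : K × V₂)).trans h1)
    refine ⟨Φ.symm w, ⟨?_, trivial⟩, Φ.apply_symm_apply w⟩
    have hmem : Φ.symm w ∈ U' := by
      show Φ (Φ.symm w) ∈ X
      rwa [Φ.apply_symm_apply]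
    have h3 : ((ζ - 1) * (Φ.symm w).1) ∈ U0 := by
      have := U'.sub_mem (hinv _ hmem) hmem
      show ((ζ - 1) * (Φ.symm w).1, (0 : V₂)) ∈ U'
      convert this using 1
      simp [g, sub_mul, Prod.ext_iff]
    rw [hU0bot, Submodule.mem_bot] at h3
    exact (Submodule.mem_bot F).2 ((mul_eq_zero.1 h3).resolve_left (sub_ne_zero.2 hζ1))
  have hboth : U.map (Matrix.toLin' (x : Matrix (Fin d ⊕ Fin d) (Fin d ⊕ Fin d) F)) = U ∧
      W.map (Matrix.toLin' (x : Matrix (Fin d ⊕ Fin d) (Fin d ⊕ Fin d) F)) = W := by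
    refine hcase.resolve_right fun ⟨hU1, hW1⟩ => ?_
    set T := Matrix.toLin' (x : Matrix (Fin d ⊕ Fin d) (Fin d ⊕ Fin d) F)
    have hrT : T ^ r = 1 := by
      show (Matrix.toLin' (x : Matrix (Fin d ⊕ Fin d) (Fin d ⊕ Fin d) F)) ^ r = 1
      rw [← Matrix.toLin'_pow, hxr, Matrix.toLin'_one]
      rfl
    have heven : ∀ k, U.map (T ^ (2 * k)) = U := by
      intro k
      induction k with
      | zero => exact Submodule.map_id U
      | succ k ih =>
        rw [show 2 * (k + 1) = 2 * k + 1 + 1 by ring, pow_succ' T, pow_succ' T, Module.End.mul_eq_comp,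
          Module.End.mul_eq_comp, Submodule.map_comp, Submodule.map_comp, ih, hU1, hW1]
    obtain ⟨k, hk⟩ := hrpr.odd_of_ne_two hr2
    have hUW' : U = W := by
      calc U = U.map (T ^ r) := by rw [hrT]; exact (Submodule.map_id U).symm
        _ = W := by rw [hk, pow_succ' T, Module.End.mul_eq_comp, Submodule.map_comp, heven, hU1]
    have h0 : U = ⊥ := by simpa [← hUW'] using hUW.inf_eq_bot
    have h1 : U = ⊤ := by simpa [← hUW'] using hUW.sup_eq_top
    haveI : Nonempty (Fin d ⊕ Fin d) := ⟨Sum.inl ⟨0, by omega⟩⟩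
    exact bot_ne_top (h0.symm.trans h1)
  have hle : (⊤ : Submodule F (Fin d ⊕ Fin d → F)) ≤ (Submodule.prod ⊥ ⊤ : Submodule F (K × V₂)).map
      (Φ : (K × V₂) →ₗ[F] _) := by
    rw [← hUW.sup_eq_top]
    exact sup_le (hfix U hboth.1.symm hU) (hfix W hboth.2.symm hW)
  obtain ⟨a, ha, hae⟩ := hle (Submodule.mem_top : Φ (1, 0) ∈ ⊤)
  have := ha.1
  rw [Φ.injective hae] at this
  exact one_ne_zero (α := K) ((Submodule.mem_bot F).1 this)

end Cfsg.Agent.S5963
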