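import Cfsg.Statements.S5964
import Cfsg.Agent.Lib.Elusive.InvolutionType
import Cfsg.Agent.Lib.LinearGroups.Basic
-- import your own Cfsg.Agent.* helpers here

set_option autoImplicit false
open scoped MatrixGroups
open Cfsg

namespace Cfsg.Agent.S5964

open Cfsg.Agent

section

variable {F : Type*} [Field F] {n : ℕ} (F₀ : Subfield F)

theorem mem_subfieldSL (y : Matrix.SpecialLinearGroup (Fin n) F) :
    y ∈ (Cfsg.Geo.subfieldSubgroup F₀ 1).comap
        (Matrix.SpecialLinearGroup.toGL : Matrix.SpecialLinearGroup (Fin n) F →* GL (Fin n) F) ↔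
      ∃ (c : F) (M : Matrix (Fin n) (Fin n) F₀), c ≠ 0 ∧
        (y : Matrix (Fin n) (Fin n) F) = c • M.map F₀.subtype := by
  rw [Subgroup.mem_comap]
  unfold Cfsg.Geo.subfieldSubgroup
  rw [Subgroup.mem_map]
  constructor
  · rintro ⟨z, hz, hzy⟩
    obtain ⟨g, ⟨M, rfl⟩, s, hs, rfl⟩ := Subgroup.mem_sup_of_normal_right.1 hz
    obtain ⟨c, hc⟩ := (Cfsg.Geo.mem_scalars_iff _).1 hs
    refine ⟨c, (M : Matrix (Fin n) (Fin n) F₀), c.ne_zero, ?_⟩
    have h := congrArg (fun u : GL (Fin n) F => (u : Matrix (Fin n) (Fin n) F)) hzy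
    simp only [map_one, MulEquiv.coe_toMonoidHom, MulAut.one_apply, Units.val_mul,
      Matrix.SpecialLinearGroup.toGL] at h
    rw [hc] at h
    simpa using h.symm
  · rintro ⟨c, M, hc, hy⟩
    have hdet : IsUnit M.det := by
      refine isUnit_iff_ne_zero.2 fun h0 => ?_
      have h := congrArg Matrix.det hy
      rw [y.det_coe, Matrix.det_smul, ← RingHom.mapMatrix_apply, ← RingHom.map_det, h0, map_zero,
        mul_zero] at h
      exact one_ne_zero h
    let g : GL (Fin n) F₀ := Matrix.GeneralLinearGroup.mk'' M hdet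
    let s : GL (Fin n) F := Units.map (Matrix.scalar (Fin n) : F →+* Matrix (Fin n) (Fin n) F).toMonoidHom
      (Units.mk0 c hc)
    refine ⟨Matrix.GeneralLinearGroup.map F₀.subtype g * s, Subgroup.mul_mem_sup ⟨g, rfl⟩ ⟨_, rfl⟩,
      Units.ext ?_⟩
    show _ = (y : Matrix (Fin n) (Fin n) F)
    rw [hy]
    simp [g, s, Matrix.GeneralLinearGroup.mk'', ← Matrix.smul_one_eq_diagonal]
    rfl

end

section

variable {F : Type*} [Field F] [Fintype F] {n : ℕ} (F₀ : Subfield F)

omit [Fintype F] in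
/-- A basis giving a matrix with entries in the subfield, up to a scalar, yields a conjugate in `H`. -/
theorem exists_conj {ι : Type*} [Fintype ι] (b : Module.Basis ι F (Fin n → F))
    (x : Matrix.SpecialLinearGroup (Fin n) F) {l : F} (hl : l ≠ 0) (π : ι → ι) (s : ι → F₀)
    (hb : ∀ i, Matrix.toLin' (x : Matrix (Fin n) (Fin n) F) (b i) = (l * F₀.subtype (s i)) • b (π i))
    (hw : ∀ d : F, d ≠ 0 → ∃ w : ι → F, (∀ i, w (π i) = w i) ∧ ∏ i, w i = d) :
    ∃ P : Matrix.SpecialLinearGroup (Fin n) F,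
      P⁻¹ * x * P ∈ (Cfsg.Geo.subfieldSubgroup F₀ 1).comap
        (Matrix.SpecialLinearGroup.toGL : Matrix.SpecialLinearGroup (Fin n) F →* GL (Fin n) F) := by
  classical
  let e : ι ≃ Fin n := Fintype.equivFinOfCardEq (by
    rw [← Module.finrank_eq_card_basis b, Module.finrank_pi, Fintype.card_fin])
  let b' := b.reindex e
  let P0 : Matrix (Fin n) (Fin n) F := (Pi.basisFun F (Fin n)).toMatrix b'
  have hP0 : P0.det ≠ 0 := by
    haveI := (Pi.basisFun F (Fin n)).invertibleToMatrix b'
    exact (Matrix.isUnit_det_of_invertible P0).ne_zero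
  obtain ⟨w, hwπ, hwp⟩ := hw P0.det⁻¹ (inv_ne_zero hP0)
  let W : Matrix (Fin n) (Fin n) F := Matrix.diagonal fun j => w (e.symm j)
  have hW : W.det = P0.det⁻¹ := by
    rw [Matrix.det_diagonal, ← hwp]
    exact Equiv.prod_comp e.symm w
  let P : Matrix.SpecialLinearGroup (Fin n) F := ⟨P0 * W, by
    rw [Matrix.det_mul, hW, mul_inv_cancel₀ hP0]⟩
  let M : Matrix (Fin n) (Fin n) F₀ :=
    Matrix.of fun i j => if i = e (π (e.symm j)) then s (e.symm j) else 0
  refine ⟨P, (mem_subfieldSL F₀ _).2 ⟨l, M, hl, ?_⟩⟩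
  have h1 : (x : Matrix (Fin n) (Fin n) F) * P0 = P0 * (l • M.map F₀.subtype) := by
    ext i j
    have h := congrFun (hb (e.symm j)) i
    rw [Matrix.toLin'_apply] at h
    have hR : (P0 * (l • M.map F₀.subtype)) i j =
        b' (e (π (e.symm j))) i * (l * F₀.subtype (s (e.symm j))) := by
      rw [Matrix.mul_apply, Finset.sum_eq_single (e (π (e.symm j)))
        (fun k _ hk => by simp [M, hk]) (by simp)]
      simp [P0, M, Module.Basis.toMatrix_apply]
    have hL : ((x : Matrix (Fin n) (Fin n) F) * P0) i j =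
        (x : Matrix (Fin n) (Fin n) F).mulVec (b (e.symm j)) i := by
      simp [Matrix.mul_apply, Matrix.mulVec, dotProduct, P0, b', Module.Basis.toMatrix_apply]
    rw [hL, hR, h]
    simp [b', mul_comm]
  have h2 : (l • M.map F₀.subtype) * W = W * (l • M.map F₀.subtype) := by
    ext i j
    simp only [W, Matrix.mul_diagonal, Matrix.diagonal_mul, M, Matrix.smul_apply, Matrix.map_apply,
      Matrix.of_apply]
    by_cases hij : i = e (π (e.symm j))
    · rw [hij, Equiv.symm_apply_apply, hwπ, mul_comm]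
    · rw [if_neg hij]; simp
  have h3 : (x : Matrix (Fin n) (Fin n) F) * (P0 * W) = (P0 * W) * (l • M.map F₀.subtype) := by
    rw [← Matrix.mul_assoc, h1, Matrix.mul_assoc, h2, Matrix.mul_assoc]
  have h4 : ((P⁻¹ : Matrix.SpecialLinearGroup (Fin n) F) : Matrix (Fin n) (Fin n) F) * (P0 * W) = 1 := by
    show _ * (P : Matrix (Fin n) (Fin n) F) = 1
    rw [← Matrix.SpecialLinearGroup.coe_mul, inv_mul_cancel, Matrix.SpecialLinearGroup.coe_one]
  rw [Matrix.SpecialLinearGroup.coe_mul, Matrix.SpecialLinearGroup.coe_mul, Matrix.mul_assoc]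
  show _ * ((x : Matrix (Fin n) (Fin n) F) * (P0 * W)) = _
  rw [h3, ← Matrix.mul_assoc, h4, Matrix.one_mul]

/-- For an odd degree of the field extension the subfield subgroup has odd index. -/
theorem odd_index (hn : 1 ≤ n) {k q₀ : ℕ} (hF₀ : Nat.card ↥F₀ = q₀) (hqk : Fintype.card F = q₀ ^ k)
    (hq : Odd (Fintype.card F)) (hk : Odd k) :
    Odd ((Cfsg.Geo.subfieldSubgroup F₀ 1).comap
        (Matrix.SpecialLinearGroup.toGL : Matrix.SpecialLinearGroup (Fin n) F →* GL (Fin n) F)).index := by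
  classical
  haveI : Fintype F₀ := Fintype.ofFinite _
  have hq0 : Odd q₀ := Odd.of_dvd_nat hq (hqk ▸ dvd_pow_self q₀ hk.pos.ne')
  set H := (Cfsg.Geo.subfieldSubgroup F₀ 1).comap
        (Matrix.SpecialLinearGroup.toGL : Matrix.SpecialLinearGroup (Fin n) F →* GL (Fin n) F)
  let φ : Matrix.SpecialLinearGroup (Fin n) F₀ →* Matrix.SpecialLinearGroup (Fin n) F :=
    Matrix.SpecialLinearGroup.map F₀.subtype
  have hφ : Function.Injective φ := fun a b h => Subtype.ext
    (Matrix.map_injective F₀.subtype.injective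
      (congrArg (fun u : Matrix.SpecialLinearGroup (Fin n) F => (u : Matrix (Fin n) (Fin n) F)) h))
  have hle : φ.range ≤ H := by
    rintro _ ⟨a, rfl⟩
    exact (mem_subfieldSL F₀ _).2 ⟨1, a, one_ne_zero, by rw [one_smul]; rfl⟩
  have hdvd : Nat.card (Matrix.SpecialLinearGroup (Fin n) F₀) * H.index ∣
      Nat.card (Matrix.SpecialLinearGroup (Fin n) F) := by
    rw [← H.card_mul_index, Nat.card_congr (MonoidHom.ofInjective hφ).toEquiv]
    exact mul_dvd_mul_right (Subgroup.card_dvd_of_le hle) _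
  obtain ⟨t, ht⟩ := hdvd
  have h0 := LinGrp.natCard_SL_mul (F := F₀) n hn
  have h1 := LinGrp.natCard_SL_mul (F := F) n hn
  rw [← Nat.card_eq_fintype_card, hF₀] at h0
  rw [hqk, ht] at h1
  have h2 : ∏ i : Fin n, ((q₀ ^ k) ^ n - (q₀ ^ k) ^ (i : ℕ)) = (∏ i : Fin n, (q₀ ^ n - q₀ ^ (i : ℕ))) *
      ∏ i : Fin n, ((q₀ ^ (i : ℕ)) ^ (k - 1) * ∑ j ∈ Finset.range k, (q₀ ^ (n - (i : ℕ))) ^ j) := by
    rw [← Finset.prod_mul_distrib]
    refine Finset.prod_congr rfl fun i _ => ?_
    have hi : (i : ℕ) ≤ n := i.2.le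
    have hg := geom_sum_mul_of_one_le (Nat.one_le_pow (n - (i : ℕ)) q₀ hq0.pos) k
    rw [show q₀ ^ n - q₀ ^ (i : ℕ) = q₀ ^ (i : ℕ) * (q₀ ^ (n - (i : ℕ)) - 1) by
      rw [Nat.mul_sub, mul_one, ← pow_add, Nat.add_sub_cancel' hi]]
    rw [show (q₀ ^ (i : ℕ) * (q₀ ^ (n - (i : ℕ)) - 1)) * ((q₀ ^ (i : ℕ)) ^ (k - 1) *
        ∑ j ∈ Finset.range k, (q₀ ^ (n - (i : ℕ))) ^ j) = (q₀ ^ (i : ℕ)) ^ (k - 1) * q₀ ^ (i : ℕ) *
        ((∑ j ∈ Finset.range k, (q₀ ^ (n - (i : ℕ))) ^ j) * (q₀ ^ (n - (i : ℕ)) - 1)) by ring,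
      hg, ← pow_succ, Nat.sub_add_cancel hk.pos, Nat.mul_sub, mul_one, ← mul_pow, ← pow_add,
      Nat.add_sub_cancel' hi, pow_right_comm q₀ k, pow_right_comm q₀ k]
  have h3 : q₀ ^ k - 1 = (∑ j ∈ Finset.range k, q₀ ^ j) * (q₀ - 1) :=
    (geom_sum_mul_of_one_le hq0.pos k).symm
  rw [h2, ← h0, h3] at h1
  have hq1 : 1 < q₀ := hF₀ ▸ Finite.one_lt_card
  have hgeo : ∀ a, Odd a → Odd (∑ j ∈ Finset.range k, a ^ j) := fun a ha => by
    rw [Finset.odd_sum_iff_odd_card_odd, Finset.filter_true_of_mem fun j _ => ha.pow, Finset.card_range]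
    exact hk
  have hpos : 0 < (q₀ - 1) * Nat.card (Matrix.SpecialLinearGroup (Fin n) F₀) :=
    Nat.mul_pos (by omega) Nat.card_pos
  have h4 : (∑ j ∈ Finset.range k, q₀ ^ j) * H.index * t =
      ∏ i : Fin n, ((q₀ ^ (i : ℕ)) ^ (k - 1) * ∑ j ∈ Finset.range k, (q₀ ^ (n - (i : ℕ))) ^ j) :=
    Nat.eq_of_mul_eq_mul_left hpos (by rw [← h1]; ring)
  have h5 : Odd (∏ i : Fin n, ((q₀ ^ (i : ℕ)) ^ (k - 1) * ∑ j ∈ Finset.range k, (q₀ ^ (n - (i : ℕ))) ^ j)) :=
    Finset.prod_induction _ Odd (fun a b ha hb => ha.mul hb) odd_one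
      fun i _ => (hq0.pow.pow).mul (hgeo _ hq0.pow)
  rw [← h4, Nat.odd_mul, Nat.odd_mul] at h5
  exact h5.1.2

end

/-- Involutions of PSL_n(q) and subfield subgroups. Here `T = PSL_n(F)` for a field `F` with `q = p^f` elements (`n ≥ 2`, `(n, q) ≠ (2, 2), (2, 3)`), `F₀` is the subfield with `q₀` elements where `q = q₀^k` for a prime `k`, and `H` is the subgroup of matrices of determinant 1 lying in the subfield group of `F₀` (invertible matrices over `F₀` times scalars) — a maximal subgroup of type GL_n(q₀) (the case `n = 2`, `q₀ = 2` is excluded); Ω is the set of `T`-conjugates of `H` (cosets of `H`), so an element of `T` of prime order `r` (a matrix `x` of determinant 1 with `x^r` scalar, `x` not scalar) fixes a point of Ω when some conjugate of `x` by a matrix of determinant 1 lies in `H`. Suppose the index of `H` is even. Then every involution of `T` is conjugate in `T` into `H` if and only if either `q` is even, or `k = 2` and `(n)_2 ≤ (q − 1)_2`. (For `q` odd and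 `k` odd the index of `H` is odd, so that case does not arise.) -/
theorem result {F : Type*} [Field F] [Fintype F] {p : ℕ} [Fact p.Prime] [CharP F p] {q : ℕ} (hq : Fintype.card F = q)
    (n : ℕ) (hn : 2 ≤ n) (hT : (n, q) ≠ (2, 2) ∧ (n, q) ≠ (2, 3))
    (F₀ : Subfield F) (k q₀ : ℕ) (hk : k.Prime) (hF₀ : Nat.card ↥F₀ = q₀) (hqk : q = q₀ ^ k) (hC5 : ¬ (n = 2 ∧ q₀ = 2)) (hΩ : 2 ∣ ((Cfsg.Geo.subfieldSubgroup F₀ 1).comap (Matrix.SpecialLinearGroup.toGL : Matrix.SpecialLinearGroup (Fin n) F →* GL (Fin n) F)).index) :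
    (∀ x : Matrix.SpecialLinearGroup (Fin n) F,
      (∃ z : F, ((x ^ 2 : Matrix.SpecialLinearGroup (Fin n) F) : Matrix (Fin n) (Fin n) F) = z • (1 : Matrix (Fin n) (Fin n) F)) →
      (∀ z : F, (x : Matrix (Fin n) (Fin n) F) ≠ z • (1 : Matrix (Fin n) (Fin n) F)) →
      ∃ P : Matrix.SpecialLinearGroup (Fin n) F, P⁻¹ * x * P ∈ ((Cfsg.Geo.subfieldSubgroup F₀ 1).comap (Matrix.SpecialLinearGroup.toGL : Matrix.SpecialLinearGroup (Fin n) F →* GL (Fin n) F))) ↔
    (Odd q → (k = 2 ∧ padicValNat 2 n ≤ padicValNat 2 (q - 1))) := by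
  classical
  haveI : Fintype F₀ := Fintype.ofFinite _
  haveI : Fact (Nat.Prime 2) := ⟨Nat.prime_two⟩
  subst hq
  have hq1 : 1 < Fintype.card F := Fintype.one_lt_card
  have hn0 : 0 < n := by omega
  constructor
  · intro h hodd
    have hk2 : k = 2 := hk.eq_two_or_odd'.resolve_right fun hko =>
      Nat.not_even_iff_odd.2 (odd_index F₀ (by omega) hF₀ hqk hodd hko) (even_iff_two_dvd.2 hΩ)
    subst hk2
    refine ⟨rfl, le_of_not_gt fun hlt => ?_⟩
    have hq0 : Odd q₀ := Odd.of_dvd_nat hodd (hqk ▸ dvd_pow_self q₀ two_ne_zero)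
    have h2q : 2 ∣ Fintype.card F - 1 := (Nat.even_sub' hq1.le |>.2 (iff_of_true hodd odd_one)).two_dvd
    obtain ⟨h2n, c, hc, hcd⟩ := Elusive.exists_scalar_witness (F := F) (r := 2) (n := n) (by omega) h2q
      (Or.inl hlt)
    have hp2 : 2 ≠ p := by
      intro hp
      obtain ⟨e, -, he⟩ := FiniteField.card F p
      rw [he, ← hp] at hodd
      exact Nat.not_even_iff_odd.2 hodd (even_two.pow_of_ne_zero e.pos.ne')
    obtain ⟨x, hx⟩ := Elusive.exists_nonpower_element (F := F) hp2 h2n hc hcd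
    obtain ⟨P, hP⟩ := h x ⟨c, hx⟩ fun a ha => hc a (by
      have h1 := hx
      rw [Matrix.SpecialLinearGroup.coe_pow, ha, smul_pow, one_pow] at h1
      simpa using congrFun (congrFun h1 ⟨0, hn0⟩) ⟨0, hn0⟩)
    obtain ⟨a, M, ha, hM⟩ := (mem_subfieldSL F₀ _).1 hP
    have h1 : (((P⁻¹ * x * P) ^ 2 : Matrix.SpecialLinearGroup (Fin n) F) : Matrix (Fin n) (Fin n) F) =
        c • (1 : Matrix (Fin n) (Fin n) F) := by
      rw [show (P⁻¹ * x * P) ^ 2 = P⁻¹ * x ^ 2 * P by rw [pow_two, pow_two]; group,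
        Matrix.SpecialLinearGroup.coe_mul, Matrix.SpecialLinearGroup.coe_mul, hx, Matrix.mul_smul,
        Matrix.mul_one, Matrix.smul_mul, ← Matrix.SpecialLinearGroup.coe_mul, inv_mul_cancel,
        Matrix.SpecialLinearGroup.coe_one]
    rw [Matrix.SpecialLinearGroup.coe_pow, hM, smul_pow, ← RingHom.mapMatrix_apply, ← map_pow] at h1
    have h2 : a ^ 2 * F₀.subtype ((M ^ 2) ⟨0, hn0⟩ ⟨0, hn0⟩) = c := by
      simpa using congrFun (congrFun h1 ⟨0, hn0⟩) ⟨0, hn0⟩
    set e := (M ^ 2) ⟨0, hn0⟩ ⟨0, hn0⟩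
    have he0 : e ≠ 0 := fun he => hc 0 (by rw [← h2, he, map_zero, mul_zero]; simp)
    have hsq : IsSquare (F₀.subtype e) := by
      obtain ⟨m, hm⟩ := hq0
      have hchar : ringChar F ≠ 2 := by rw [ringChar.eq F p]; exact hp2.symm
      rw [FiniteField.isSquare_iff hchar ((map_ne_zero _).2 he0), hqk, hm,
        show (2 * m + 1) ^ 2 / 2 = (2 * m + 1 - 1) * (m + 1) by
          rw [Nat.add_sub_cancel, show (2 * m + 1) ^ 2 = 2 * (2 * m * (m + 1)) + 1 by ring]
          omega,
        ← hm, ← hF₀, Nat.card_eq_fintype_card, pow_mul, ← map_pow,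
        FiniteField.pow_card_sub_one_eq_one e he0, map_one, one_pow]
    obtain ⟨s, hs⟩ := hsq
    exact hc (a * s) (by rw [← h2, hs]; ring)
  · intro hcond x ⟨z, hz⟩ hns
    have hz0 : z ≠ 0 := Elusive.scalar_ne_zero hn0 x hz
    set A : Module.End F (Fin n → F) := Matrix.toLin' (x : Matrix (Fin n) (Fin n) F) with hAdef
    have hA2 : A ^ 2 = z • (1 : Module.End F (Fin n → F)) := Elusive.toLin'_pow_eq x hz
    have hAA : ∀ v, A (A v) = z • v := fun v => by
      have := LinearMap.congr_fun hA2 v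
      rwa [pow_two, Module.End.mul_apply, LinearMap.smul_apply, Module.End.one_apply] at this
    by_cases h2 : (2 : F) = 0
    · -- characteristic two
      haveI : CharP F 2 := CharTwo.of_one_ne_zero_of_two_eq_zero one_ne_zero h2
      have hsurj : Function.Surjective (frobenius F 2) := surjective_frobenius F 2
      obtain ⟨l, hl⟩ := hsurj z
      rw [frobenius_def] at hl
      have hl0 : l ≠ 0 := fun h => hz0 (by rw [← hl, h, zero_pow two_ne_zero])
      obtain ⟨ι, _, b, π, μ, hπ, hb⟩ := Elusive.exists_monomial_basis A hz0 hAA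
      letI : LinearOrder ι := linearOrderOfSTO WellOrderingRel
      have hμ : ∀ i, μ i * μ (π i) = z := fun i => by
        have h := hAA (b i)
        rw [hb, map_smul, hb, hπ, smul_smul] at h
        have := congrArg (fun v => b.repr v i) h
        simpa using this
      have hu : ∀ i, (if i ≤ π i then 1 else μ (π i) / l) ≠ (0 : F) := fun i => by
        split_ifs
        · exact one_ne_zero
        · exact div_ne_zero (fun h => hz0 (by rw [← hμ i, h, mul_zero])) hl0
      let b' := b.unitsSMul fun i => Units.mk0 _ (hu i)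
      have hb' : ∀ i, A (b' i) = l • b' (π i) := fun i => by
        simp only [b', Module.Basis.unitsSMul_apply, Units.smul_def, Units.val_mk0, map_smul, hb,
          smul_smul, hπ i]
        congr 1
        rcases lt_trichotomy i (π i) with h | h | h
        · rw [if_pos h.le, if_neg (not_le.2 h), one_mul, mul_div_cancel₀ _ hl0]
        · rw [← h, if_pos le_rfl, one_mul, mul_one]
          exact sub_eq_zero.1 (pow_eq_zero_iff two_ne_zero |>.1 (by
            have := hμ i
            rw [← h, ← hl] at this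
            linear_combination this + (l * l - μ i * l) * h2))
        · rw [if_neg (not_le.2 h), if_pos h.le, mul_one, div_mul_eq_mul_div, mul_comm, hμ, ← hl, pow_two,
            mul_div_assoc, div_self hl0, mul_one]
      refine exists_conj F₀ b' x hl0 π (fun _ => 1) (fun i => by rw [map_one, mul_one]; exact hb' i) ?_
      intro d hd
      haveI : Nonempty ι := by
        refine Fintype.card_pos_iff.1 ?_
        rw [← Module.finrank_eq_card_basis b, Module.finrank_pi, Fintype.card_fin]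
        exact hn0
      obtain ⟨j⟩ := ‹Nonempty ι›
      obtain ⟨t, ht⟩ : ∃ t : F, t ^ ({j, π j} : Finset ι).card = d := by
        rcases Nat.lt_or_ge ({j, π j} : Finset ι).card 2 with h | h
        · have : 0 < ({j, π j} : Finset ι).card := Finset.card_pos.2 ⟨j, by simp⟩
          exact ⟨d, by rw [show ({j, π j} : Finset ι).card = 1 by omega, pow_one]⟩
        · obtain ⟨t, ht⟩ := hsurj d
          exact ⟨t, by rw [le_antisymm Finset.card_le_two h]; exact ht⟩
      refine ⟨fun i => if i ∈ ({j, π j} : Finset ι) then t else 1, fun i => ?_, ?_⟩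
      · refine if_congr ?_ rfl rfl
        simp only [Finset.mem_insert, Finset.mem_singleton]
        constructor
        · rintro (h | h)
          · exact Or.inr (by rw [← h, hπ])
          · exact Or.inl (hπ.injective h)
        · rintro (h | h)
          · exact Or.inr (by rw [h])
          · exact Or.inl (by rw [h, hπ])
      · rw [Finset.prod_ite_mem, Finset.univ_inter, Finset.prod_const, ht]
    · -- odd characteristic
      have hp2 : p ≠ 2 := fun hp => h2 (by
        subst hp
        exact CharP.cast_eq_zero F 2)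
      have hodd : Odd (Fintype.card F) := by
        obtain ⟨e, hpp, he⟩ := FiniteField.card F p
        exact he ▸ (hpp.odd_of_ne_two hp2).pow
      obtain ⟨rfl, hle⟩ := hcond hodd
      have hq4 : Fintype.card F % 4 = 1 := by
        obtain ⟨m, hm⟩ := (Odd.of_dvd_nat hodd (hqk ▸ dvd_pow_self q₀ two_ne_zero) : Odd q₀)
        rw [hqk, hm, show (2 * m + 1) ^ 2 = 4 * (m * m + m) + 1 by ring]
        omega
      obtain ⟨l, rfl⟩ : ∃ l : F, l ^ 2 = z := by
        by_contra hns'
        push Not at hns'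
        have h2F : ((2 : ℕ) : F) ≠ 0 := by exact_mod_cast h2
        have hdet := Elusive.det_of_nonpower h2F hA2 hns'
        rw [hAdef, LinearMap.det_toLin', x.det_coe, Module.finrank_pi, Fintype.card_fin] at hdet
        have hdvd := Elusive.prime_dvd_finrank hA2 hns' (U := ⊤) le_top
        rw [finrank_top, Module.finrank_pi, Fintype.card_fin] at hdvd
        exact Elusive.no_nonpower_scalar (F := F) (r := 2) (by omega) hdvd hns' hdet.symm hle fun _ _ => hq4
      have hl0 : l ≠ 0 := fun h => hz0 (by rw [h, zero_pow two_ne_zero])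
      set K₁ := LinearMap.ker (A - l • LinearMap.id) with hK₁
      set K₂ := LinearMap.ker (A + l • LinearMap.id) with hK₂
      have hK : IsCompl K₁ K₂ := Elusive.isCompl_eigen h2 A hl0 hAA
      let b := ((Module.finBasis F K₁).prod (Module.finBasis F K₂)).map
        (Submodule.prodEquivOfIsCompl K₁ K₂ hK)
      refine exists_conj F₀ b x hl0 id (Sum.elim (fun _ => 1) (fun _ => -1)) ?_ ?_
      · rintro (i | i)
        · have h := (Module.finBasis F K₁ i).2
          simp only [hK₁, LinearMap.mem_ker, LinearMap.sub_apply, LinearMap.smul_apply,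
            LinearMap.id_apply, sub_eq_zero] at h
          simpa [b, hAdef, Module.Basis.prod_apply] using h
        · have h := (Module.finBasis F K₂ i).2
          simp only [hK₂, LinearMap.mem_ker, LinearMap.add_apply, LinearMap.smul_apply,
            LinearMap.id_apply, ← eq_neg_iff_add_eq_zero] at h
          simpa [b, hAdef, Module.Basis.prod_apply, neg_smul] using h
      · intro d hd
        have hcard : 0 < Fintype.card (Fin (Module.finrank F K₁) ⊕ Fin (Module.finrank F K₂)) := by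
          rw [← Module.finrank_eq_card_basis b, Module.finrank_pi, Fintype.card_fin]
          exact hn0
        obtain ⟨i₀⟩ := Fintype.card_pos_iff.1 hcard
        refine ⟨Function.update 1 i₀ d, fun i => rfl, ?_⟩
        rw [Finset.prod_update_of_mem (Finset.mem_univ i₀)]
        simp

end Cfsg.Agent.S5964
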