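import Cfsg.Statements.S5965
import Cfsg.Agent.Lib.Elusive.SubfieldIndex
import Cfsg.Agent.Lib.Elusive.SimpleFactors
import Cfsg.Agent.Lib.Elusive.Linear
import Cfsg.Agent.Lib.Elusive.Arith
-- import your own Cfsg.Agent.* helpers here

set_option autoImplicit false
open scoped MatrixGroups
open Cfsg

namespace Cfsg.Agent.S5965

open Cfsg.Agent Module
open scoped Matrix

set_option linter.style.haveILetI false

section

/-- Five multiplicities with sum five and weighted sum zero are symmetric about some residue. -/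
theorem centre_five (a b c d e : ℕ) (h : a + b + c + d + e = 5) (hw : (b + 2 * c + 3 * d + 4 * e) % 5 = 0) :
    (0 < a ∧ b = e ∧ c = d) ∨ (0 < b ∧ c = a ∧ d = e) ∨ (0 < c ∧ d = b ∧ e = a) ∨ (0 < d ∧ e = c ∧ a = b) ∨
      (0 < e ∧ a = d ∧ b = c) := by
  have ha : a ≤ 5 := by omega
  have hb : b ≤ 5 := by omega
  have hc : c ≤ 5 := by omega
  have hd : d ≤ 5 := by omega
  interval_cases a <;> interval_cases b <;>
    (first | omega | (interval_cases c <;> (first | omega | (interval_cases d <;> omega))))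

/-- Symmetry of multiplicities for three and five residues. -/
theorem exists_centre {r : ℕ} [Fact r.Prime] (hr : r = 3 ∨ r = 5) (m : ZMod r → ℕ) (hsum : ∑ v, m v = r)
    (hw : ∑ v, m v • v = 0) : ∃ c, 0 < m c ∧ ∀ v, m (c + v) = m (c - v) := by
  rcases hr with rfl | rfl
  · have hs : m 0 + m 1 + m 2 = 3 := (Fin.sum_univ_three m).symm.trans hsum
    have hz : ((m 1 + 2 * m 2 : ℕ) : ZMod 3) = 0 := by
      have h : m 0 • (0 : ZMod 3) + m 1 • (1 : ZMod 3) + m 2 • (2 : ZMod 3) = 0 :=
        (Fin.sum_univ_three fun v : ZMod 3 => m v • v).symm.trans hw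
      rw [nsmul_eq_mul, nsmul_eq_mul, nsmul_eq_mul] at h
      push_cast
      linear_combination h
    rw [ZMod.natCast_eq_zero_iff] at hz
    obtain ⟨h0, h⟩ | ⟨h0, h⟩ | ⟨h0, h⟩ :
        (0 < m 0 ∧ m 1 = m 2) ∨ (0 < m 1 ∧ m 2 = m 0) ∨ (0 < m 2 ∧ m 0 = m 1) := by omega
    · refine ⟨0, h0, fun v => ?_⟩
      fin_cases v <;> first | rfl | exact h | exact h.symm
    · refine ⟨1, h0, fun v => ?_⟩
      fin_cases v <;> first | rfl | exact h | exact h.symm
    · refine ⟨2, h0, fun v => ?_⟩
      fin_cases v <;> first | rfl | exact h | exact h.symm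
  · have hs : m 0 + m 1 + m 2 + m 3 + m 4 = 5 := (Fin.sum_univ_five m).symm.trans hsum
    have hz : ((m 1 + 2 * m 2 + 3 * m 3 + 4 * m 4 : ℕ) : ZMod 5) = 0 := by
      have h : m 0 • (0 : ZMod 5) + m 1 • (1 : ZMod 5) + m 2 • (2 : ZMod 5) + m 3 • (3 : ZMod 5) +
          m 4 • (4 : ZMod 5) = 0 :=
        (Fin.sum_univ_five fun v : ZMod 5 => m v • v).symm.trans hw
      rw [nsmul_eq_mul, nsmul_eq_mul, nsmul_eq_mul, nsmul_eq_mul, nsmul_eq_mul] at h
      push_cast
      linear_combination h
    rw [ZMod.natCast_eq_zero_iff] at hz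
    rcases centre_five _ _ _ _ _ hs (Nat.mod_eq_zero_of_dvd hz) with
      ⟨h0, h, h'⟩ | ⟨h0, h, h'⟩ | ⟨h0, h, h'⟩ | ⟨h0, h, h'⟩ | ⟨h0, h, h'⟩
    · refine ⟨0, h0, fun v => ?_⟩
      fin_cases v <;> first | rfl | exact h | exact h.symm | exact h' | exact h'.symm
    · refine ⟨1, h0, fun v => ?_⟩
      fin_cases v <;> first | rfl | exact h | exact h.symm | exact h' | exact h'.symm
    · refine ⟨2, h0, fun v => ?_⟩
      fin_cases v <;> first | rfl | exact h | exact h.symm | exact h' | exact h'.symm
    · refine ⟨3, h0, fun v => ?_⟩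
      fin_cases v <;> first | rfl | exact h | exact h.symm | exact h' | exact h'.symm
    · refine ⟨4, h0, fun v => ?_⟩
      fin_cases v <;> first | rfl | exact h | exact h.symm | exact h' | exact h'.symm

/-- Symmetric multiplicities are realised by an involution of the indices. -/
theorem exists_involution {ι : Type*} [Fintype ι] {G : Type*} [AddCommGroup G] [DecidableEq G] (e : ι → G)
    (h : ∀ v, (Finset.univ.filter fun j => e j = -v).card = (Finset.univ.filter fun j => e j = v).card) :
    ∃ π : ι → ι, (∀ j, π (π j) = j) ∧ (∀ j, e (π j) = -e j) ∧ ∀ j, -e j = e j → π j = j := by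
  classical
  let N : G → ℕ := fun v => (Finset.univ.filter fun j => e j = v).card
  let eqv : ∀ v, {j // e j = v} ≃ Fin (N v) := fun v => Fintype.equivFinOfCardEq (Fintype.card_subtype _)
  let π : ι → ι := fun j => ((eqv (-e j)).symm (Fin.cast (h (e j)).symm (eqv (e j) ⟨j, rfl⟩))).1
  have heπ : ∀ j, e (π j) = -e j := fun j => ((eqv (-e j)).symm _).2
  have hval : ∀ v w, v = w → ∀ (a : {j // e j = v}) (b : {j // e j = w}), a.1 = b.1 →
      ((eqv v a : Fin _) : ℕ) = (eqv w b : Fin _) := by
    rintro v w rfl a b hab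
    rw [Subtype.ext hab]
  have hsymm : ∀ v w, v = w → ∀ (a : Fin (N v)) (b : Fin (N w)), (a : ℕ) = b →
      ((eqv v).symm a).1 = ((eqv w).symm b).1 := by
    rintro v w rfl a b hab
    rw [Fin.ext hab]
  refine ⟨π, fun j => ?_, heπ, fun j hj => ?_⟩
  swap
  · exact (hsymm _ (e j) hj _ (eqv (e j) ⟨j, rfl⟩) (Fin.val_cast ..)).trans (by rw [Equiv.symm_apply_apply])
  show ((eqv (-e (π j))).symm (Fin.cast _ (eqv (e (π j)) ⟨π j, rfl⟩))).1 = j
  refine (hsymm _ (e j) (by rw [heπ, neg_neg]) _ (eqv (e j) ⟨j, rfl⟩) ?_).trans ?_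
  · rw [Fin.val_cast, hval _ _ (heπ j) ⟨π j, rfl⟩ ((eqv (-e j)).symm (Fin.cast (h (e j)).symm (eqv (e j) ⟨j, rfl⟩))) rfl,
      Equiv.apply_symm_apply, Fin.val_cast]
  · rw [Equiv.symm_apply_apply]

end

section

variable {F : Type*} [Field F] [Fintype F] {r : ℕ} [Fact r.Prime] {n : ℕ}

/-- The powers of a root of unity, indexed by residues. -/
def chi (ζ : F) (a : ZMod r) : F := ζ ^ a.val

theorem chi_add {ζ : F} (hζ : orderOf ζ = r) (a b : ZMod r) : chi ζ (a + b) = chi ζ a * chi ζ b := by
  rw [chi, chi, chi, ← pow_add, ZMod.val_add, ← pow_mod_orderOf ζ (a.val + b.val), hζ]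

theorem chi_natCast_mul {ζ : F} (hζ : orderOf ζ = r) (N : ℕ) (a : ZMod r) :
    chi ζ ((N : ZMod r) * a) = chi ζ a ^ N := by
  rw [chi, chi, ← pow_mul, ← pow_mod_orderOf ζ (a.val * N), hζ, mul_comm a.val N]
  congr 1
  conv_lhs => rw [← ZMod.natCast_zmod_val a, ← Nat.cast_mul]
  rw [ZMod.val_natCast]

theorem chi_injective {ζ : F} (hζ : orderOf ζ = r) : Function.Injective (chi ζ : ZMod r → F) := fun a b h =>
  ZMod.val_injective r (pow_injOn_Iio_orderOf (by rw [Set.mem_Iio, hζ]; exact ZMod.val_lt a)
    (by rw [Set.mem_Iio, hζ]; exact ZMod.val_lt b) h)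

theorem chi_zero {ζ : F} : chi ζ (0 : ZMod r) = 1 := by rw [chi, ZMod.val_zero, pow_zero]

theorem chi_prod {ζ : F} (hζ : orderOf ζ = r) {ι : Type*} (s : Finset ι) (e : ι → ZMod r) :
    ∏ j ∈ s, chi ζ (e j) = chi ζ (∑ j ∈ s, e j) := by
  classical
  induction s using Finset.induction_on with
  | empty => rw [Finset.prod_empty, Finset.sum_empty, chi_zero]
  | insert a s ha ih => rw [Finset.prod_insert ha, Finset.sum_insert ha, chi_add hζ, ih]

theorem chi_pow_prime {ζ : F} (hζ : orderOf ζ = r) (a : ZMod r) : chi ζ a ^ r = 1 := by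
  rw [← chi_natCast_mul hζ, ZMod.natCast_self, zero_mul, chi_zero]

/-- The multiplicities give back the total and the sum. -/
theorem count_facts (e : Fin n → ZMod r) :
    ∑ v, (Finset.univ.filter fun j => e j = v).card = n ∧
    ∑ v, (Finset.univ.filter fun j => e j = v).card • v = ∑ j, e j := by
  classical
  constructor
  · rw [← Finset.card_eq_sum_card_fiberwise (fun j _ => Finset.mem_univ _), Finset.card_univ, Fintype.card_fin]
  · rw [← Finset.sum_fiberwise' Finset.univ e fun v => v]
    exact Finset.sum_congr rfl fun v _ => by rw [Finset.sum_const]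

/-- A translation in the symmetry of the multiplicities vanishes. -/
theorem shift_zero {u t : ZMod r} (hu : u ≠ 0) (e : Fin n → ZMod r)
    (h : ∀ v, (Finset.univ.filter fun j => e j = u * v + t).card = (Finset.univ.filter fun j => e j = v).card)
    (hc : ((n : ZMod r) ≠ 0 ∧ ∑ j, e j = 0) ∨
      ∀ v, v ≠ 0 → (Finset.univ.filter fun j => e j = v).card < (Finset.univ.filter fun j => e j = 0).card) :
    t = 0 := by
  classical
  obtain ⟨hn, hs⟩ | hc := hc
  · obtain ⟨h1, h2⟩ := count_facts e
    rw [hs] at h2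
    let E : ZMod r ≃ ZMod r := (Equiv.mulLeft₀ u hu).trans (Equiv.addRight t)
    have h3 : ∑ v, (Finset.univ.filter fun j => e j = v).card • (u * v + t) = 0 := by
      refine Eq.trans ?_ h2
      refine Eq.trans (Finset.sum_congr rfl fun v _ => ?_) (Equiv.sum_comp E
        (fun v => (Finset.univ.filter fun j => e j = v).card • v))
      show _ = (Finset.univ.filter fun j => e j = u * v + t).card • (u * v + t)
      rw [h v]
    simp only [nsmul_eq_mul, mul_add, Finset.sum_add_distrib, mul_left_comm _ u, ← Finset.mul_sum,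
      ← Finset.sum_mul, ← Nat.cast_sum, h1] at h3
    simp only [nsmul_eq_mul] at h2
    rw [h2, mul_zero, zero_add] at h3
    exact (mul_eq_zero.1 h3).resolve_left hn
  · by_contra ht
    have h0 := h 0
    rw [mul_zero, zero_add] at h0
    exact (hc t ht).ne h0

variable {p : ℕ} [Fact p.Prime] [CharP F p] (F₀ : Subfield F)

/-- Rank invariance of an element conjugate into the subfield subgroup. -/
theorem rank_shift (φ : F →+* F) (hφ : ∀ a : F₀, φ a = a) {x P : Matrix.SpecialLinearGroup (Fin n) F}
    (hP : P⁻¹ * x * P ∈ (Cfsg.Geo.subfieldSubgroup F₀ 1).comap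
        (Matrix.SpecialLinearGroup.toGL : Matrix.SpecialLinearGroup (Fin n) F →* GL (Fin n) F)) :
    ∃ (c : F) (M : Matrix (Fin n) (Fin n) F₀), c ≠ 0 ∧
      (∀ a : F, ((x : Matrix (Fin n) (Fin n) F) - a • 1).rank = (c • M.map F₀.subtype - a • 1).rank) ∧
      ((P⁻¹ * x * P : Matrix.SpecialLinearGroup (Fin n) F) : Matrix (Fin n) (Fin n) F) = c • M.map F₀.subtype ∧
      ∀ a : F, ((x : Matrix (Fin n) (Fin n) F) - (c * φ (a / c)) • 1).rank =
        ((x : Matrix (Fin n) (Fin n) F) - a • 1).rank := by
  classical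
  obtain ⟨c, M, hc, hM⟩ := (S5964.mem_subfieldSL F₀ _).1 hP
  have h1 : ∀ a : F, ((x : Matrix (Fin n) (Fin n) F) - a • 1).rank = (c • M.map F₀.subtype - a • 1).rank := by
    intro a
    have h : c • M.map F₀.subtype - a • (1 : Matrix (Fin n) (Fin n) F) =
        ((P⁻¹ : Matrix.SpecialLinearGroup (Fin n) F) : Matrix (Fin n) (Fin n) F) *
          ((x : Matrix (Fin n) (Fin n) F) - a • 1) * (P : Matrix (Fin n) (Fin n) F) := by
      rw [← hM, Matrix.SpecialLinearGroup.coe_mul, Matrix.SpecialLinearGroup.coe_mul, Matrix.mul_sub,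
        Matrix.sub_mul, Matrix.mul_smul, Matrix.mul_one, Matrix.smul_mul, ← Matrix.SpecialLinearGroup.coe_mul P⁻¹ P,
        inv_mul_cancel, Matrix.SpecialLinearGroup.coe_one]
    rw [h, Matrix.rank_mul_eq_left_of_isUnit_det _ _ (by rw [Matrix.SpecialLinearGroup.det_coe]; exact isUnit_one),
      Matrix.rank_mul_eq_right_of_isUnit_det _ _ (by rw [Matrix.SpecialLinearGroup.det_coe]; exact isUnit_one)]
  refine ⟨c, M, hc, h1, hM, fun a => ?_⟩
  have h2 : ∀ b : F, (c • M.map F₀.subtype - (c * b) • (1 : Matrix (Fin n) (Fin n) F)).rank =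
      (M.map F₀.subtype - b • (1 : Matrix (Fin n) (Fin n) F)).rank := fun b => by
    rw [mul_smul, ← smul_sub, Matrix.smul_eq_diagonal_mul, Matrix.rank_mul_eq_right_of_isUnit_det _ _ (by
      rw [Matrix.det_diagonal, Finset.prod_const]; exact (isUnit_iff_ne_zero.2 hc).pow _)]
  rw [h1, h1, h2, show a = c * (a / c) by field_simp, h2, show c * (a / c) / c = a / c by field_simp]
  rw [← Elusive.Subfld.rank_map φ (M.map F₀.subtype - (a / c) • 1)]
  congr 1
  ext i j
  by_cases hij : i = j <;> simp [hij, hφ]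

/-- The obstruction for diagonal elements. -/
theorem exists_shift {q₀ : ℕ} (φ : F →+* F) (hφ₀ : ∀ a : F, φ a = a ^ q₀) (hφ : ∀ a : F₀, φ a = a) {ζ : F}
    (hζ : orderOf ζ = r) {l : F} (hl : l ≠ 0) (e : Fin n → ZMod r) (hne : ∃ j j', e j ≠ e j')
    (hdet : l ^ n * chi ζ (∑ j, e j) = 1)
    (hall : ∀ x : Matrix.SpecialLinearGroup (Fin n) F,
      (∃ z : F, ((x ^ r : Matrix.SpecialLinearGroup (Fin n) F) : Matrix (Fin n) (Fin n) F) =
        z • (1 : Matrix (Fin n) (Fin n) F)) →
      (∀ z : F, (x : Matrix (Fin n) (Fin n) F) ≠ z • (1 : Matrix (Fin n) (Fin n) F)) →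
      ∃ P : Matrix.SpecialLinearGroup (Fin n) F, P⁻¹ * x * P ∈ ((Cfsg.Geo.subfieldSubgroup F₀ 1).comap
        (Matrix.SpecialLinearGroup.toGL : Matrix.SpecialLinearGroup (Fin n) F →* GL (Fin n) F))) :
    ∃ t, ∀ v, (Finset.univ.filter fun j => e j = (q₀ : ZMod r) * v + t).card =
      (Finset.univ.filter fun j => e j = v).card := by
  classical
  let d : Fin n → F := fun j => l * chi ζ (e j)
  let x : Matrix.SpecialLinearGroup (Fin n) F := ⟨Matrix.diagonal d, by
    rw [Matrix.det_diagonal, Finset.prod_mul_distrib, Finset.prod_const, Finset.card_univ, Fintype.card_fin,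
      chi_prod hζ, hdet]⟩
  obtain ⟨P, hP⟩ := hall x ⟨l ^ r, by
      rw [Matrix.SpecialLinearGroup.coe_pow, Matrix.smul_one_eq_diagonal]
      show Matrix.diagonal d ^ r = _
      rw [Matrix.diagonal_pow]
      congr 1
      funext j
      simp only [d, Pi.pow_apply, mul_pow, chi_pow_prime hζ, mul_one]⟩ fun z hz => by
    obtain ⟨j, j', hjj⟩ := hne
    have h := fun j => congrFun (congrFun hz j) j
    simp only [x, Matrix.diagonal_apply_eq, Matrix.smul_apply, Matrix.one_apply_eq, smul_eq_mul, mul_one] at h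
    exact hjj (chi_injective hζ (mul_left_cancel₀ hl ((h j).trans (h j').symm)))
  obtain ⟨c, M, hc, -, -, hrk⟩ := rank_shift F₀ φ hφ hP
  have hfilt : ∀ a : F, ((x : Matrix (Fin n) (Fin n) F) - a • 1).rank +
      (Finset.univ.filter fun j => d j = a).card = n := by
    intro a
    show (Matrix.diagonal d - a • 1).rank + _ = n
    rw [Matrix.smul_one_eq_diagonal, Matrix.diagonal_sub, Matrix.rank_diagonal, Fintype.card_subtype, add_comm]
    have h := Finset.card_filter_add_card_filter_not (s := (Finset.univ : Finset (Fin n))) (fun j => d j = a)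
    rw [Finset.card_univ, Fintype.card_fin] at h
    convert h using 3
    ext j
    simp [sub_eq_zero]
  have hd : ∀ v, (Finset.univ.filter fun j => d j = l * chi ζ v) = Finset.univ.filter fun j => e j = v := fun v => by
    ext j
    simp only [d, Finset.mem_filter, Finset.mem_univ, true_and]
    exact ⟨fun h => chi_injective hζ (mul_left_cancel₀ hl h), fun h => by rw [h]⟩
  set ν := c * φ l / (φ c * l)
  have hφc : φ c ≠ 0 := (map_ne_zero φ).2 hc
  have himg : ∀ v, c * φ (l * chi ζ v / c) = l * (ν * chi ζ ((q₀ : ZMod r) * v)) := fun v => by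
    rw [map_div₀, map_mul, chi_natCast_mul hζ, ← hφ₀ (chi ζ v)]
    simp only [ν]
    field_simp
  obtain ⟨j₀, -⟩ := hne
  have hj : ∃ j, d j = c * φ (d j₀ / c) := by
    by_contra hno
    push Not at hno
    have h := hfilt (c * φ (d j₀ / c))
    rw [hrk, Finset.filter_false_of_mem fun j _ => hno j, Finset.card_empty] at h
    have h2 := hfilt (d j₀)
    have : 0 < (Finset.univ.filter fun j => d j = d j₀).card := Finset.card_pos.2 ⟨j₀, by simp⟩
    omega
  obtain ⟨j, hj⟩ := hj
  refine ⟨e j - (q₀ : ZMod r) * e j₀, fun v => ?_⟩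
  have hν : ν * chi ζ ((q₀ : ZMod r) * v) = chi ζ ((q₀ : ZMod r) * v + (e j - (q₀ : ZMod r) * e j₀)) := by
    simp only [d] at hj
    rw [himg] at hj
    have h1 := mul_left_cancel₀ hl hj
    have h2 : ν = chi ζ (e j - (q₀ : ZMod r) * e j₀) := by
      have h3 : chi ζ ((q₀ : ZMod r) * e j₀) ≠ 0 := fun h0 => by
        have := chi_pow_prime hζ ((q₀ : ZMod r) * e j₀)
        rw [h0, zero_pow (Fact.out : r.Prime).ne_zero] at this
        exact zero_ne_one this
      refine mul_right_cancel₀ h3 ?_
      rw [← h1, ← chi_add hζ, sub_add_cancel]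
    rw [h2, ← chi_add hζ, add_comm]
  have h1 := hfilt (c * φ (l * chi ζ v / c))
  rw [hrk, himg, hν, hd] at h1
  have h2 := hfilt (l * chi ζ v)
  rw [hd] at h2
  omega

omit [Fintype F] [Fact r.Prime] in
theorem range_append {α : Type*} {a c : ℕ} (u : Fin a → α) (v : Fin c → α) :
    Set.range (Fin.append u v) = Set.range u ∪ Set.range v := by
  ext z
  constructor
  · rintro ⟨i, rfl⟩
    induction i using Fin.addCases with
    | left i => rw [Fin.append_left]; exact Or.inl ⟨i, rfl⟩
    | right i => rw [Fin.append_right]; exact Or.inr ⟨i, rfl⟩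
  · rintro (⟨i, rfl⟩ | ⟨i, rfl⟩)
    · exact ⟨_, Fin.append_left u v i⟩
    · exact ⟨_, Fin.append_right u v i⟩

/-- A family adapted to a linear map of prime order, from invariant pieces. -/
theorem exists_family {V : Type*} [AddCommGroup V] [Module F V] [FiniteDimensional F V] {T : Module.End F V}
    (hrF : (r : F) ≠ 0) (hT : T ^ r = 1) (R : Set V → V → Prop) (hmono : ∀ s t, s ⊆ t → ∀ v, R s v → R t v)
    (hmin : ∀ W : Submodule F V, W.map T ≤ W → W ≠ ⊥ → ∃ S : Submodule F V, S ≤ W ∧ S.map T ≤ S ∧ S ≠ ⊥ ∧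
      ∃ b : Fin (finrank F S) → V, Submodule.span F (Set.range b) = S ∧ ∀ j, R (Set.range b) (b j)) :
    ∀ (D : ℕ) (X : Submodule F V), X.map T ≤ X → finrank F X ≤ D →
      ∃ b : Fin (finrank F X) → V, Submodule.span F (Set.range b) = X ∧ ∀ j, R (Set.range b) (b j) := by
  intro D
  induction D with
  | zero =>
    intro X _ hd
    have h : finrank F X = 0 := Nat.le_zero.1 hd
    refine ⟨fun j => (Fin.cast h j).elim0, ?_, fun j => (Fin.cast h j).elim0⟩
    haveI : IsEmpty (Fin (finrank F X)) := ⟨fun j => (Fin.cast h j).elim0⟩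
    rw [Set.range_eq_empty, Submodule.span_empty, Submodule.finrank_eq_zero.1 h]
  | succ D ih =>
    intro X hX hd
    rcases Nat.lt_or_ge (finrank F X) (D + 1) with h | h
    · exact ih X hX (Nat.lt_succ_iff.1 h)
    obtain ⟨S, hSX, hSi, hS0, bS, hbS, hRS⟩ := hmin X hX fun e => by rw [e, finrank_bot] at h; omega
    obtain ⟨C, -, hCi, hsup, -, hdim⟩ :=
      Elusive.exists_invariant_compl_in T hrF one_ne_zero (by rw [one_smul, hT]) hSi hX hSX
    have hSpos : 0 < finrank F S := Nat.pos_of_ne_zero fun e => hS0 (Submodule.finrank_eq_zero.1 e)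
    obtain ⟨bC, hbC, hRC⟩ := ih C hCi (by omega)
    refine ⟨Fin.append bS bC ∘ Fin.cast hdim.symm, ?_, fun j => ?_⟩ <;>
      rw [show Set.range (Fin.append bS bC ∘ Fin.cast hdim.symm) = Set.range (Fin.append bS bC) from
        (finCongr hdim.symm).surjective.range_comp _]
    · rw [show Set.range (Fin.append bS bC) = Set.range bS ∪ Set.range bC from range_append bS bC,
        Submodule.span_union, hbS, hbC, hsup]
    · show R _ (Fin.append bS bC (Fin.cast hdim.symm j))
      induction Fin.cast hdim.symm j using Fin.addCases with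
      | left a =>
        rw [Fin.append_left]
        exact hmono _ _ (by rw [range_append]; exact Set.subset_union_left) _ (hRS a)
      | right a =>
        rw [Fin.append_right]
        exact hmono _ _ (by rw [range_append]; exact Set.subset_union_right) _ (hRC a)

/-- The irreducible factors over the subfield stay irreducible when the orders agree. -/
theorem exists_subfield_factor (hrF : (r : F) ≠ 0) (hrq : (Fintype.card F : ZMod r) ≠ 0) {q₀ : ℕ}
    (hF₀ : Nat.card ↥F₀ = q₀) (hord : orderOf (q₀ : ZMod r) = orderOf (Fintype.card F : ZMod r))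
    {f : Polynomial F} (hfm : f.Monic) (hf : Irreducible f) (hdvd : f ∣ ∑ l ∈ Finset.range r, Polynomial.X ^ l) :
    ∃ g : Polynomial F₀, g.map F₀.subtype = f := by
  classical
  haveI : Fintype F₀ := Fintype.ofFinite _
  have hq : Fintype.card F₀ = q₀ := by rw [← Nat.card_eq_fintype_card, hF₀]
  have hr0 : (r : F₀) ≠ 0 := fun h => hrF (by rw [← map_natCast F₀.subtype, h, map_zero])
  set P₀ : Polynomial F₀ := ∑ l ∈ Finset.range r, Polynomial.X ^ l with hP₀
  have hP0 : P₀ ≠ 0 := fun h => by
    have h1 := congrArg (Polynomial.eval 1) h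
    simp only [hP₀, Polynomial.eval_finsetSum, Polynomial.eval_pow, Polynomial.eval_X, one_pow, Finset.sum_const,
      Finset.card_range, nsmul_eq_mul, mul_one, Polynomial.eval_zero] at h1
    exact hr0 h1
  have hmap : P₀.map F₀.subtype = ∑ l ∈ Finset.range r, Polynomial.X ^ l := by
    simp [hP₀, Polynomial.map_sum]
  have hassoc := UniqueFactorizationMonoid.prod_normalizedFactors hP0
  have hd : f ∣ ((UniqueFactorizationMonoid.normalizedFactors P₀).prod).map F₀.subtype := by
    refine hdvd.trans ?_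
    rw [← hmap]
    exact Polynomial.map_dvd _ hassoc.symm.dvd
  rw [← Polynomial.coe_mapRingHom, map_multiset_prod] at hd
  obtain ⟨y, hy, hfy⟩ := hf.prime.exists_mem_multiset_dvd hd
  obtain ⟨g, hg, rfl⟩ := Multiset.mem_map.1 hy
  refine ⟨g, ?_⟩
  have hgi := UniqueFactorizationMonoid.irreducible_of_normalized_factor g hg
  have hgn := UniqueFactorizationMonoid.normalize_normalized_factor g hg
  have hgm : g.Monic := by
    rw [← hgn]
    exact Polynomial.monic_normalize hgi.ne_zero
  have hgd := Elusive.Simple.natDegree_factor (F := F₀) hr0 (by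
    rw [hq]
    intro h0
    rw [h0, orderOf_zero] at hord
    exact (orderOf_pos_iff.2 (isUnit_iff_ne_zero.2 hrq).isOfFinOrder).ne hord) hgi
    (UniqueFactorizationMonoid.dvd_of_mem_normalizedFactors hg)
  rw [hq, hord, ← Elusive.Simple.natDegree_factor hrF hrq hf hdvd] at hgd
  exact Polynomial.eq_of_monic_of_dvd_of_natDegree_le hfm (hgm.map _) hfy
    (by rw [Polynomial.natDegree_map, hgd])

/-- A family with matrix over the subfield, when the orders agree. -/
theorem exists_subfield_family (hrF : (r : F) ≠ 0) (hrq : (Fintype.card F : ZMod r) ≠ 0) {q₀ : ℕ}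
    (hF₀ : Nat.card ↥F₀ = q₀) (hord : orderOf (q₀ : ZMod r) = orderOf (Fintype.card F : ZMod r))
    {T : Module.End F (Fin n → F)} (hT : T ^ r = 1) :
    ∃ b : Fin n → (Fin n → F), Submodule.span F (Set.range b) = ⊤ ∧
      ∀ j, T (b j) ∈ Submodule.span F₀ (Set.range b) := by
  classical
  obtain ⟨b, hb, hbR⟩ := exists_family (r := r) hrF hT (fun s v => T v ∈ Submodule.span F₀ s)
    (fun s t hst v h => Submodule.span_mono hst h) (fun W hW hW0 => by
      by_cases hfix : ∃ v ∈ W, T v = v ∧ v ≠ 0
      · obtain ⟨v, hvW, hv, hv0⟩ := hfix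
        refine ⟨Submodule.span F {v}, Submodule.span_le.2 (Set.singleton_subset_iff.2 hvW), ?_, ?_,
          fun _ => v, ?_, fun j => ?_⟩
        · rw [Submodule.map_span, Set.image_singleton, hv]
        · rwa [Ne, Submodule.span_singleton_eq_bot]
        · haveI : Nonempty (Fin (finrank F (Submodule.span F {v}))) := ⟨⟨0, by rw [finrank_span_singleton hv0]; omega⟩⟩
          rw [Set.range_const]
        · haveI : Nonempty (Fin (finrank F (Submodule.span F {v}))) := ⟨⟨0, by rw [finrank_span_singleton hv0]; omega⟩⟩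
          rw [hv, Set.range_const]
          exact Submodule.subset_span rfl
      push Not at hfix
      have hfree : ∀ v ∈ W, T v = v → v = 0 := hfix
      obtain ⟨S, hSW, hSi, hSd⟩ := Elusive.exists_invariant_orderOf hT hrq hW hW0 hfree
      have hpos : 0 < orderOf (Fintype.card F : ZMod r) := orderOf_pos_iff.2 (isUnit_iff_ne_zero.2 hrq).isOfFinOrder
      obtain ⟨f, hfm, hfi, hfd, hfS⟩ := Elusive.Simple.exists_factor hrF hT hSi (fun v hv => hfree v (hSW hv)) hSd
        (by omega)
      have hdeg : finrank F S = f.natDegree := by rw [hSd, Elusive.Simple.natDegree_factor hrF hrq hfi hfd]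
      have hS0 : S ≠ ⊥ := fun e => by rw [e, finrank_bot] at hSd; omega
      obtain ⟨v, hvS, hv0⟩ := Submodule.exists_mem_ne_zero_of_ne_bot hS0
      set U := Submodule.span F (Set.range fun l : Fin f.natDegree => (T ^ (l : ℕ)) v) with hU
      obtain ⟨hUi, hvU⟩ := Elusive.Simple.span_orbit_invariant hfm (hfS v hvS) U hU
      have hUS : U ≤ S := Submodule.span_le.2 (by
        rintro _ ⟨l, rfl⟩
        exact Elusive.FormIso.pow_mem hSi hvS l)
      have hUeq : U = S := Submodule.eq_of_le_of_finrank_le hUS (by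
        rw [hSd]
        exact Nat.le_of_dvd (Nat.pos_of_ne_zero fun e => hv0 (by
            rw [Submodule.finrank_eq_zero.1 e, Submodule.mem_bot] at hvU; exact hvU))
          (Elusive.orderOf_dvd_finrank hT hUi fun w hw => hfree w (hSW (hUS hw))))
      refine ⟨S, hSW, hSi, hS0, fun l => (T ^ (l : ℕ)) v, ?_, fun l => ?_⟩
      · refine Eq.trans ?_ hUeq
        rw [hU]
        congr 1
        exact (finCongr hdeg).surjective.range_comp fun l : Fin f.natDegree => (T ^ (l : ℕ)) v
      · show T ((T ^ (l : ℕ)) v) ∈ _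
        rw [← Module.End.mul_apply, ← pow_succ']
        rcases Nat.lt_or_ge ((l : ℕ) + 1) (finrank F S) with hl | hl
        · exact Submodule.subset_span ⟨⟨(l : ℕ) + 1, hl⟩, rfl⟩
        obtain ⟨g, hg⟩ := exists_subfield_factor F₀ hrF hrq hF₀ hord hfm hfi hfd
        have h0 := hfS v hvS
        rw [Polynomial.aeval_eq_sum_range, LinearMap.sum_apply, Finset.sum_range_succ] at h0
        simp only [LinearMap.smul_apply] at h0
        rw [hfm.coeff_natDegree, one_smul, add_eq_zero_iff_eq_neg'] at h0
        have hl' : (l : ℕ) + 1 = f.natDegree := by have := l.2; omega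
        rw [hl', h0]
        refine neg_mem (Submodule.sum_mem _ fun a ha => ?_)
        have : f.coeff a • (T ^ a) v = g.coeff a • (T ^ a) v := by
          rw [← hg, Polynomial.coeff_map, Subfield.smul_def]; rfl
        rw [this]
        exact Submodule.smul_mem _ _ (Submodule.subset_span ⟨⟨a, by rw [hdeg]; exact Finset.mem_range.1 ha⟩, rfl⟩))
    n ⊤ le_top (by rw [finrank_top, finrank_fin_fun])
  have hn : n = finrank F (⊤ : Submodule F (Fin n → F)) := by rw [finrank_top, finrank_fin_fun]
  refine ⟨b ∘ Fin.cast hn, ?_, fun j => ?_⟩ <;>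
    rw [show Set.range (b ∘ Fin.cast hn) = Set.range b from (finCongr hn).surjective.range_comp _]
  exacts [hb, hbR _]

/-- A basis of eigenvectors. -/
theorem exists_eigen_family (hrF : (r : F) ≠ 0) (hr1 : (Fintype.card F : ZMod r) = 1) {ζ : F} (hζ : orderOf ζ = r)
    {T : Module.End F (Fin n → F)} (hT : T ^ r = 1) :
    ∃ (b : Fin n → (Fin n → F)) (e : Fin n → ZMod r), Submodule.span F (Set.range b) = ⊤ ∧
      ∀ j, T (b j) = chi ζ (e j) • b j := by
  classical
  obtain ⟨b, hb, hbR⟩ := exists_family (r := r) hrF hT (fun _ v => ∃ a : ZMod r, T v = chi ζ a • v)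
    (fun _ _ _ _ h => h) (fun W hW hW0 => by
      obtain ⟨S, hSW, hSi, hSd⟩ : ∃ S : Submodule F (Fin n → F), S ≤ W ∧ S.map T ≤ S ∧ finrank F S = 1 := by
        by_cases hfix : ∃ v ∈ W, T v = v ∧ v ≠ 0
        · obtain ⟨v, hvW, hv, hv0⟩ := hfix
          exact ⟨Submodule.span F {v}, Submodule.span_le.2 (Set.singleton_subset_iff.2 hvW),
            by rw [Submodule.map_span, Set.image_singleton, hv], finrank_span_singleton hv0⟩
        push Not at hfix
        obtain ⟨S, hSW, hSi, hSd⟩ := Elusive.exists_invariant_orderOf hT (by rw [hr1]; exact one_ne_zero) hW hW0 hfix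
        exact ⟨S, hSW, hSi, by rw [hSd, hr1, orderOf_one]⟩
      have hS0 : S ≠ ⊥ := fun e => by rw [e, finrank_bot] at hSd; omega
      obtain ⟨v, hvS, hv0⟩ := Submodule.exists_mem_ne_zero_of_ne_bot hS0
      have hspan : Submodule.span F {v} = S := Submodule.eq_of_le_of_finrank_le
        (Submodule.span_le.2 (Set.singleton_subset_iff.2 hvS)) (by rw [hSd, finrank_span_singleton hv0])
      refine ⟨S, hSW, hSi, hS0, fun _ => v, ?_, fun _ => ?_⟩
      · haveI : Nonempty (Fin (finrank F S)) := ⟨⟨0, by omega⟩⟩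
        rw [Set.range_const, hspan]
      obtain ⟨μ, hμ⟩ := Submodule.mem_span_singleton.1 (hspan.symm ▸ hSi ⟨v, hvS, rfl⟩ : T v ∈ Submodule.span F {v})
      have hpow : ∀ l : ℕ, (T ^ l) v = μ ^ l • v := by
        intro l
        induction l with
        | zero => simp
        | succ l ih => rw [pow_succ', Module.End.mul_apply, ih, map_smul, ← hμ, smul_smul, ← pow_succ]
      have hμr : μ ^ r = 1 := by
        have h := hpow r
        rw [hT, Module.End.one_apply] at h
        exact smul_left_injective F hv0 (by simpa using h.symm)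
      obtain ⟨a, ha, rfl⟩ := (hζ ▸ IsPrimitiveRoot.orderOf ζ : IsPrimitiveRoot ζ r).eq_pow_of_pow_eq_one hμr
      exact ⟨(a : ZMod r), by rw [chi, ZMod.val_natCast, Nat.mod_eq_of_lt ha, hμ]⟩)
    n ⊤ le_top (by rw [finrank_top, finrank_fin_fun])
  choose a ha using hbR
  have hn : n = finrank F (⊤ : Submodule F (Fin n → F)) := by rw [finrank_top, finrank_fin_fun]
  refine ⟨b ∘ Fin.cast hn, a ∘ Fin.cast hn, ?_, fun j => ha _⟩
  rw [show Set.range (b ∘ Fin.cast hn) = Set.range b from (finCongr hn).surjective.range_comp _, hb]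

/-- An adapted family gives a conjugate in the subfield subgroup, the determinant being adjusted by an invariant
subspace. -/
theorem exists_conj_of_family (hrF : (r : F) ≠ 0) {k q₀ : ℕ} (hF₀ : Nat.card ↥F₀ = q₀) (hqk : Fintype.card F = q₀ ^ k)
    (hn : 0 < n) (x : Matrix.SpecialLinearGroup (Fin n) F) {l : F} (hl : l ≠ 0) {T : Module.End F (Fin n → F)}
    (hT : T ^ r = 1) (hxT : Matrix.toLin' (x : Matrix (Fin n) (Fin n) F) = l • T)
    (b : Fin n → (Fin n → F)) (hb : Submodule.span F (Set.range b) = ⊤)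
    (hbT : ∀ j, T (b j) ∈ Submodule.span F₀ (Set.range b)) (S : Submodule F (Fin n → F)) (hS : S.map T ≤ S)
    (hcop : Nat.Coprime (finrank F S) (∑ t ∈ Finset.range k, q₀ ^ t)) :
    ∃ P : Matrix.SpecialLinearGroup (Fin n) F, P⁻¹ * x * P ∈ (Cfsg.Geo.subfieldSubgroup F₀ 1).comap
        (Matrix.SpecialLinearGroup.toGL : Matrix.SpecialLinearGroup (Fin n) F →* GL (Fin n) F) := by
  classical
  choose M hM using fun j => (Submodule.mem_span_range_iff_exists_fun F₀).1 (hbT j)
  let Mm : Matrix (Fin n) (Fin n) F₀ := Matrix.of fun i j => M j i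
  let P0 : Matrix (Fin n) (Fin n) F := Matrix.of fun i j => b j i
  have hP0 : P0.det ≠ 0 := by
    have hli : LinearIndependent F b := linearIndependent_of_top_le_span_of_card_eq_finrank hb.ge
      (by rw [Fintype.card_fin, finrank_fin_fun])
    have h1 : LinearIndependent F P0.transpose.row := hli
    have h2 := ((Matrix.isUnit_iff_isUnit_det _).1 (Matrix.linearIndependent_rows_iff_isUnit.1 h1)).ne_zero
    rwa [Matrix.det_transpose] at h2
  have hxP : (x : Matrix (Fin n) (Fin n) F) * P0 = P0 * (l • Mm.map F₀.subtype) := by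
    ext i j
    have h := congrFun (LinearMap.congr_fun hxT (b j)) i
    rw [Matrix.toLin'_apply, LinearMap.smul_apply, ← hM j] at h
    refine (show _ = ((x : Matrix (Fin n) (Fin n) F) *ᵥ b j) i from rfl).trans (h.trans ?_)
    simp only [Pi.smul_apply, Finset.sum_apply, Subfield.smul_def, smul_eq_mul, Finset.mul_sum, Matrix.mul_apply,
      P0, Mm, Matrix.of_apply, Matrix.smul_apply, Matrix.map_apply, Subfield.subtype_apply]
    exact Finset.sum_congr rfl fun a _ => by ring
  -- the determinant
  obtain ⟨C, hSC, hCi⟩ := Elusive.exists_invariant_compl T hrF one_ne_zero (by rw [one_smul, hT]) hS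
  set N := ∑ t ∈ Finset.range k, q₀ ^ t
  set δ := P0.det⁻¹ with hδ
  have hδ0 : δ ≠ 0 := inv_ne_zero hP0
  set a := δ ^ Nat.gcdA (finrank F S) N
  set w := (δ ^ N) ^ Nat.gcdB (finrank F S) N
  have hw : w ∈ F₀ := by
    refine zpow_mem (Elusive.Subfld.mem_of_pow_eq F₀ hF₀ ?_) _
    have hq0 : 1 ≤ q₀ := hF₀ ▸ Nat.card_pos
    rw [← pow_mul, show N * q₀ = N * (q₀ - 1) + N by rw [← Nat.mul_succ]; congr 1; omega,
      geom_sum_mul_of_one_le hq0 k, ← hqk, pow_add, FiniteField.pow_card_sub_one_eq_one δ hδ0, one_mul]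
  have haw : a ^ finrank F S * w = δ := by
    have h := Nat.gcd_eq_gcd_ab (finrank F S) N
    rw [hcop, Nat.cast_one] at h
    simp only [a, w]
    rw [← zpow_natCast, ← zpow_mul, ← zpow_natCast δ N, ← zpow_mul, ← zpow_add₀ hδ0,
      mul_comm (Nat.gcdA (finrank F S) N), ← h, zpow_one]
  let Ψ := Submodule.prodEquivOfIsCompl S C hSC
  let W : Module.End F (Fin n → F) := (Ψ : _ →ₗ[F] _) ∘ₗ
    ((a • (LinearMap.id : S →ₗ[F] S)).prodMap (LinearMap.id : C →ₗ[F] C)) ∘ₗ (Ψ.symm : _ →ₗ[F] _)
  have hWdet : LinearMap.det W = a ^ finrank F S := by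
    rw [LinearMap.det_conj, LinearMap.det_prodMap, LinearMap.det_smul, LinearMap.det_id, LinearMap.det_id, mul_one,
      mul_one]
  have hWs : ∀ p : S × C, W (Ψ p) = Ψ (a • p.1, p.2) := fun p => by
    show Ψ (((a • (LinearMap.id : S →ₗ[F] S)).prodMap (LinearMap.id : C →ₗ[F] C)) (Ψ.symm (Ψ p))) = _
    rw [LinearEquiv.symm_apply_apply]
    rfl
  have hTΨ : ∀ p : S × C, T (Ψ p) = Ψ (⟨T p.1, hS ⟨p.1, p.1.2, rfl⟩⟩, ⟨T p.2, hCi ⟨p.2, p.2.2, rfl⟩⟩) := fun p => by
    simp [Ψ, Submodule.coe_prodEquivOfIsCompl']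
  have hWT : ∀ v, W (T v) = T (W v) := by
    intro v
    obtain ⟨p, rfl⟩ := Ψ.surjective v
    rw [hTΨ, hWs, hWs, hTΨ]
    congr 2
    exact Subtype.ext (map_smul T a (p.1 : Fin n → F)).symm
  let Wm := LinearMap.toMatrix' W
  have hxW : (x : Matrix (Fin n) (Fin n) F) * Wm = Wm * (x : Matrix (Fin n) (Fin n) F) := by
    refine Matrix.toLin'.injective (LinearMap.ext fun v => ?_)
    rw [Matrix.toLin'_mul, Matrix.toLin'_mul, hxT]
    simp [Wm, hWT]
  let i₀ : Fin n := ⟨0, hn⟩
  have hw0 : (⟨w, hw⟩ : F₀) ≠ 0 := fun e => hδ0 (by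
    rw [← haw, show w = 0 from congrArg Subtype.val e, mul_zero])
  let C₀ : Matrix (Fin n) (Fin n) F₀ := Matrix.diagonal (Function.update 1 i₀ ⟨w, hw⟩)
  let C₁ : Matrix (Fin n) (Fin n) F₀ := Matrix.diagonal (Function.update 1 i₀ (⟨w, hw⟩ : F₀)⁻¹)
  have hCC : C₀ * C₁ = 1 := by
    rw [Matrix.diagonal_mul_diagonal, ← Matrix.diagonal_one]
    congr 1
    funext i
    by_cases hi : i = i₀
    · subst hi; simp [hw0]
    · simp [Function.update_of_ne hi]
  have hdet : (Wm * P0 * C₀.map F₀.subtype).det = 1 := by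
    rw [Matrix.det_mul, Matrix.det_mul, ← RingHom.mapMatrix_apply, ← RingHom.map_det, LinearMap.det_toMatrix', hWdet]
    have h3 : C₀.det = ⟨w, hw⟩ := by
      simp [C₀, Matrix.det_diagonal, Finset.prod_update_of_mem (Finset.mem_univ i₀)]
    rw [h3, Subfield.subtype_apply, mul_right_comm, haw, hδ, inv_mul_cancel₀ hP0]
  let P : Matrix.SpecialLinearGroup (Fin n) F := ⟨_, hdet⟩
  refine ⟨P, (S5964.mem_subfieldSL F₀ _).2 ⟨l, C₁ * Mm * C₀, hl, ?_⟩⟩
  have hmul : (P : Matrix (Fin n) (Fin n) F) * (l • (C₁ * Mm * C₀).map F₀.subtype) =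
      (x : Matrix (Fin n) (Fin n) F) * P := by
    show Wm * P0 * C₀.map F₀.subtype * (l • (C₁ * Mm * C₀).map F₀.subtype) =
      (x : Matrix (Fin n) (Fin n) F) * (Wm * P0 * C₀.map F₀.subtype)
    rw [Matrix.mul_smul, Matrix.mul_assoc (Wm * P0), ← Matrix.map_mul, ← Matrix.mul_assoc C₀, ← Matrix.mul_assoc C₀,
      hCC, Matrix.one_mul, Matrix.map_mul, ← Matrix.mul_smul, ← Matrix.smul_mul, Matrix.mul_assoc Wm,
      ← Matrix.mul_assoc P0, ← hxP]
    simp only [← Matrix.mul_assoc]
    rw [hxW]
  rw [Matrix.SpecialLinearGroup.coe_mul, Matrix.SpecialLinearGroup.coe_mul, Matrix.mul_assoc, ← hmul,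
    ← Matrix.mul_assoc, ← Matrix.SpecialLinearGroup.coe_mul, inv_mul_cancel, Matrix.SpecialLinearGroup.coe_one,
    Matrix.one_mul]

end

/-- Elements of odd prime order r ≠ p of PSL_n(q) and subfield subgroups. Here `T = PSL_n(F)` for a field `F` with `q = p^f` elements (`n ≥ 2`, `(n, q) ≠ (2, 2), (2, 3)`), `F₀` is the subfield with `q₀` elements where `q = q₀^k` for a prime `k`, and `H` is the subgroup of matrices of determinant 1 lying in the subfield group of `F₀` (invertible matrices over `F₀` times scalars) — a maximal subgroup of type GL_n(q₀) (the case `n = 2`, `q₀ = 2` is excluded); Ω is the set of `T`-conjugates of `H` (cosets of `H`), so an element of `T` of prime order `r` (a matrix `x` of determinant 1 with `x^r` scalar, `x` not scalar) fixes a point of Ω when some conjugate of `x` by a matrix of determinant 1 lies in `H`. Let `r ≠ p` be an odd prime dividing the index of `H`, with `(n, r) ≠ (6, 3)` and, when `r = k` divides `q₀ − 1`, with `(n)_r ≤ (q − 1)_r`. Then every element of `T` of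 order `r` is conjugate in `T` into `H` if and only if `r = k`, or `k = 2`, `r = n ∈ {3, 5}` and `(q₀ + 1)_r = r`. The two excluded cases, `(n, r) = (6, 3)` and `r = k ∣ q₀ − 1` with `(n)_r > (q − 1)_r`, are ones where this criterion can fail, so they are left out. -/
theorem result {F : Type*} [Field F] [Fintype F] {p : ℕ} [Fact p.Prime] [CharP F p] {q : ℕ} (hq : Fintype.card F = q)
    (n : ℕ) (hn : 2 ≤ n) (hT : (n, q) ≠ (2, 2) ∧ (n, q) ≠ (2, 3))
    (F₀ : Subfield F) (k q₀ : ℕ) (hk : k.Prime) (hF₀ : Nat.card ↥F₀ = q₀) (hqk : q = q₀ ^ k) (hC5 : ¬ (n = 2 ∧ q₀ = 2)) (r : ℕ) [Fact r.Prime] (hr2 : r ≠ 2) (hrp : r ≠ p) (hgap : ¬ (n = 6 ∧ r = 3)) (hgapk : r = k → r ∣ q₀ - 1 → padicValNat r n ≤ padicValNat r (q - 1)) (hΩ : r ∣ ((Cfsg.Geo.subfieldSubgroup F₀ 1).comap (Matrix.SpecialLinearGroup.toGL : Matrix.SpecialLinearGroup (Fin n) F →* GL (Fin n) F)).index) :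
    (∀ x : Matrix.SpecialLinearGroup (Fin n) F,
      (∃ z : F, ((x ^ r : Matrix.SpecialLinearGroup (Fin n) F) : Matrix (Fin n) (Fin n) F) = z • (1 : Matrix (Fin n) (Fin n) F)) →
      (∀ z : F, (x : Matrix (Fin n) (Fin n) F) ≠ z • (1 : Matrix (Fin n) (Fin n) F)) →
      ∃ P : Matrix.SpecialLinearGroup (Fin n) F, P⁻¹ * x * P ∈ ((Cfsg.Geo.subfieldSubgroup F₀ 1).comap (Matrix.SpecialLinearGroup.toGL : Matrix.SpecialLinearGroup (Fin n) F →* GL (Fin n) F))) ↔
    (r = k ∨ (k = 2 ∧ r = n ∧ (n = 3 ∨ n = 5) ∧ padicValNat r (q₀ + 1) = 1)) := by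
  classical
  subst hq
  haveI : Fintype F₀ := Fintype.ofFinite _
  have hrp' := (Fact.out : r.Prime)
  have hrF : (r : F) ≠ 0 := Elusive.natCast_prime_ne_zero (p := p) hrp
  have hrq := Elusive.card_cast_ne_zero (F := F) (p := p) hrp
  have hq0card : Fintype.card F₀ = q₀ := by rw [← Nat.card_eq_fintype_card, hF₀]
  have hq01 : 1 < q₀ := hF₀ ▸ Finite.one_lt_card
  have hu : (q₀ : ZMod r) ≠ 0 := fun h => hrq (by rw [hqk, Nat.cast_pow, h, zero_pow hk.ne_zero])
  have hqu : (Fintype.card F : ZMod r) = (q₀ : ZMod r) ^ k := by rw [hqk, Nat.cast_pow]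
  haveI : CharP F₀ p := (RingHom.charP_iff _ F₀.subtype.injective p).2 inferInstance
  obtain ⟨f₀, -, hf₀⟩ := FiniteField.card F₀ p
  let φ : F →+* F := iterateFrobenius F p (f₀ : ℕ)
  have hφ₀ : ∀ a : F, φ a = a ^ q₀ := fun a => by
    rw [iterateFrobenius_def, ← hf₀, hq0card]
  have hφ : ∀ a : F₀, φ a = a := fun a => by
    rw [hφ₀, ← hq0card, ← SubmonoidClass.coe_pow, FiniteField.pow_card]
  constructor
  · intro hall
    by_contra hR
    push Not at hR
    obtain ⟨hrk, hexc⟩ := hR
    obtain ⟨j, hj2, hjn, hj⟩ := Elusive.Subfld.exists_geom_of_dvd_index F₀ (by omega) hk.pos hF₀ hqk hrp'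
      (fun h => hu ((ZMod.natCast_eq_zero_iff _ _).2 h)) hΩ
    have hgeom : ∑ t ∈ Finset.range k, ((q₀ : ZMod r) ^ j) ^ t = 0 := by
      have h := (ZMod.natCast_eq_zero_iff _ r).2 hj
      push_cast at h
      exact h
    have hj1 : (q₀ : ZMod r) ^ j ≠ 1 := fun h => by
      rw [h] at hgeom
      simp only [one_pow, Finset.sum_const, Finset.card_range, nsmul_eq_mul, mul_one] at hgeom
      exact hrk ((Nat.prime_dvd_prime_iff_eq hrp' hk).1 ((ZMod.natCast_eq_zero_iff _ _).1 hgeom))
    have hqj : (Fintype.card F : ZMod r) ^ j = 1 := by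
      rw [hqu, ← pow_mul, mul_comm, pow_mul, ← sub_eq_zero, ← geom_sum_mul, hgeom, zero_mul]
    set i := orderOf (Fintype.card F : ZMod r) with hi
    have hij : i ∣ j := orderOf_dvd_of_pow_eq_one hqj
    have hi0 : ¬ orderOf (q₀ : ZMod r) ∣ i := fun h => hj1 (orderOf_dvd_iff_pow_eq_one.1 (h.trans hij))
    have hipos : 0 < i := orderOf_pos_iff.2 (isUnit_iff_ne_zero.2 hrq).isOfFinOrder
    have hin : i ≤ n := (Nat.le_of_dvd (by omega) hij).trans hjn
    rcases Nat.lt_or_ge i 2 with hi1 | hi2
    swap
    · -- one block and fixed vectors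
      obtain ⟨x, hx, hns, hfix⟩ := Elusive.exists_fixed_blocks (F := F) hrp (n := n) (hi ▸ hi2) le_rfl
        (by rw [one_mul]; exact hin)
      obtain ⟨P, hP⟩ := hall x ⟨1, hx⟩ hns
      obtain ⟨c, M, hc, hrk', hM, -⟩ := rank_shift F₀ φ hφ hP
      have hy : (c • M.map F₀.subtype) ^ r = 1 := by
        rw [← hM, ← Matrix.SpecialLinearGroup.coe_pow, show (P⁻¹ * x * P) ^ r = P⁻¹ * x ^ r * P by
            rw [show P⁻¹ * x * P = P⁻¹ * x * (P⁻¹)⁻¹ by rw [inv_inv], conj_pow, inv_inv],
          Matrix.SpecialLinearGroup.coe_mul, Matrix.SpecialLinearGroup.coe_mul, hx, one_smul, Matrix.mul_one,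
          ← Matrix.SpecialLinearGroup.coe_mul, inv_mul_cancel, Matrix.SpecialLinearGroup.coe_one]
      have hcF : c ∈ F₀ := by
        refine Elusive.Subfld.mem_of_pow_eq F₀ hF₀ ?_
        rw [smul_pow, ← RingHom.mapMatrix_apply, ← map_pow] at hy
        have h3 : c ^ r * ((M ^ r) ⟨0, by omega⟩ ⟨0, by omega⟩ : F) = 1 := by
          simpa using congrFun (congrFun hy ⟨0, by omega⟩) ⟨0, by omega⟩
        have h4 : (φ c) ^ r = c ^ r := by
          have h5 := congrArg φ h3
          rw [map_mul, map_pow, hφ, map_one] at h5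
          exact mul_right_cancel₀ (fun e => by rw [e, mul_zero] at h3; exact zero_ne_one h3) (h5.trans h3.symm)
        have h5 := Elusive.eq_one_of_pow_eq_one (r := r) (show i ≠ 1 by omega) (d := φ c / c)
          (by rw [div_pow, h4, div_self (pow_ne_zero _ hc)])
        rw [← hφ₀]
        exact eq_of_div_eq_one h5
      set M' : Matrix (Fin n) (Fin n) F₀ := (⟨c, hcF⟩ : F₀) • M
      have hM' : M'.map F₀.subtype = c • M.map F₀.subtype := by
        ext a b; rfl
      have hM'r : M' ^ r = 1 := by
        refine Matrix.map_injective F₀.subtype.injective ?_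
        show F₀.subtype.mapMatrix (M' ^ r) = F₀.subtype.mapMatrix 1
        rw [map_pow, RingHom.mapMatrix_apply, hM', hy, map_one]
      have hrank : (M' - 1).rank = i := by
        have h1 := hrk' 1
        rw [← hM', one_smul, show M'.map F₀.subtype - 1 = (M' - 1).map F₀.subtype by
          rw [← RingHom.mapMatrix_apply, ← RingHom.mapMatrix_apply, map_sub, map_one],
          Elusive.Subfld.rank_map] at h1
        rw [← h1, Matrix.rank]
        have h2 := LinearMap.finrank_range_add_finrank_ker
          ((x : Matrix (Fin n) (Fin n) F) - 1).mulVecLin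
        have h3 : LinearMap.ker ((x : Matrix (Fin n) (Fin n) F) - 1).mulVecLin =
            Elusive.fixedSpace (Matrix.toLin' (x : Matrix (Fin n) (Fin n) F)) := by
          ext v
          simp [Elusive.mem_fixedSpace, Matrix.sub_mulVec, sub_eq_zero]
        rw [h3, hfix, finrank_fin_fun] at h2
        omega
      set B : Module.End F₀ (Fin n → F₀) := Matrix.toLin' M' with hB
      have hBr : B ^ r = 1 := by rw [hB, ← Matrix.toLin'_pow, hM'r, Matrix.toLin'_one]; rfl
      have hU : (LinearMap.range (B - 1)).map B ≤ LinearMap.range (B - 1) := by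
        rintro _ ⟨_, ⟨v, rfl⟩, rfl⟩
        exact ⟨B v, by simp⟩
      have hfree : ∀ v ∈ LinearMap.range (B - 1), B v = v → v = 0 := by
        rintro _ ⟨w, rfl⟩ hv
        have hsum : ∑ t ∈ Finset.range r, (B ^ t) ((B - 1) w) = 0 := by
          rw [← LinearMap.sum_apply, ← Module.End.mul_apply, geom_sum_mul, hBr, sub_self, LinearMap.zero_apply]
        have hcons : ∀ t, (B ^ t) ((B - 1) w) = (B - 1) w := by
          intro t
          induction t with
          | zero => rfl
          | succ t ih => rw [pow_succ', Module.End.mul_apply, ih, hv]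
        rw [Finset.sum_congr rfl fun t _ => hcons t, Finset.sum_const, Finset.card_range,
          ← Nat.cast_smul_eq_nsmul F₀, smul_eq_zero] at hsum
        exact hsum.resolve_left fun e => hrF (by rw [← map_natCast F₀.subtype, e, map_zero])
      have hdiv := Elusive.orderOf_dvd_finrank (r := r) hBr hU hfree
      rw [hq0card, show finrank F₀ (LinearMap.range (B - 1)) = i by
        rw [← hrank, Matrix.rank,
          show B - 1 = (M' - 1).mulVecLin from LinearMap.ext fun v => by simp [hB, Matrix.sub_mulVec]]] at hdiv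
      exact hi0 hdiv
    · -- diagonal elements
      have hi1' : i = 1 := by omega
      have hq1 : (Fintype.card F : ZMod r) = 1 := orderOf_eq_one_iff.1 hi1'
      have hu1 : (q₀ : ZMod r) ≠ 1 := fun h => hj1 (by rw [h, one_pow])
      have hordk : orderOf (q₀ : ZMod r) = k := by
        haveI := Fact.mk hk
        exact orderOf_eq_prime (hqu ▸ hq1) hu1
      have hkr : k ∣ r - 1 := hordk ▸ ZMod.orderOf_dvd_card_sub_one hu
      have hrdvd : r ∣ Nat.card Fˣ := by
        rw [Nat.card_units, Nat.card_eq_fintype_card, ← ZMod.natCast_eq_zero_iff, Nat.cast_sub Fintype.card_pos,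
          Nat.cast_one, hq1, sub_self]
      obtain ⟨g, hg⟩ := exists_prime_orderOf_dvd_card' r hrdvd
      set ζ : F := (g : F)
      have hζ : orderOf ζ = r := by rw [orderOf_units, hg]
      have hr3 : 3 ≤ r := by have := hrp'.two_le; omega
      have hrodd : r % 2 = 1 := hrp'.eq_two_or_odd.resolve_left hr2
      haveI : Fact (2 < r) := ⟨by omega⟩
      have h11 : (1 : ZMod r) ≠ 0 := one_ne_zero
      have hneg : (-1 : ZMod r) ≠ 1 := ZMod.neg_one_ne_one
      have hsub : ∀ (e : Fin n → ZMod r) (N : ℕ), (∀ a : Fin n, N ≤ (a : ℕ) → e a = 0) →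
          (∀ v, v ≠ 0 → (Finset.univ.filter fun a => e a = v).card ≤ N) ∧
            n ≤ (Finset.univ.filter fun a => e a = 0).card + N := by
        intro e N he
        have hlow : (Finset.univ.filter fun a : Fin n => (a : ℕ) < N).card ≤ N :=
          (Finset.card_le_card_of_injOn (t := Finset.range N) Fin.val
            (fun a ha => Finset.mem_range.2 (Finset.mem_filter.1 ha).2) Fin.val_injective.injOn).trans
            (Finset.card_range N).le
        refine ⟨fun v hv => (Finset.card_le_card fun a ha => ?_).trans hlow, ?_⟩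
        · refine Finset.mem_filter.2 ⟨Finset.mem_univ _, not_le.1 fun h => hv ?_⟩
          rw [← (Finset.mem_filter.1 ha).2, he a h]
        · have h := Finset.card_filter_add_card_filter_not (s := (Finset.univ : Finset (Fin n)))
            (fun a => e a = 0)
          rw [Finset.card_univ, Fintype.card_fin] at h
          have h2 : (Finset.univ.filter fun a => ¬ e a = 0).card ≤ N := by
            refine (Finset.card_le_card fun a ha => ?_).trans hlow
            exact Finset.mem_filter.2 ⟨Finset.mem_univ _, not_le.1 fun h => (Finset.mem_filter.1 ha).2 (he a h)⟩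
          omega
      have main : ∀ (e : Fin n → ZMod r) (l : F), l ≠ 0 → (∃ a b, e a ≠ e b) →
          l ^ n * chi ζ (∑ a, e a) = 1 →
          (((n : ZMod r) ≠ 0 ∧ ∑ a, e a = 0) ∨ ∀ v, v ≠ 0 → (Finset.univ.filter fun a => e a = v).card <
            (Finset.univ.filter fun a => e a = 0).card) →
          ∀ a, ∃ b, e b = (q₀ : ZMod r) * e a := by
        intro e l hl hne hdet hc a
        obtain ⟨t, ht⟩ := exists_shift F₀ φ hφ₀ hφ hζ hl e hne hdet hall
        obtain rfl := shift_zero hu e ht hc
        have h := ht (e a)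
        rw [add_zero] at h
        have hpos : 0 < (Finset.univ.filter fun b => e b = (q₀ : ZMod r) * e a).card :=
          h ▸ Finset.card_pos.2 ⟨a, by simp⟩
        obtain ⟨b, hb⟩ := Finset.card_pos.1 hpos
        exact ⟨b, (Finset.mem_filter.1 hb).2⟩
      by_cases hk2 : k = 2
      · subst hk2
        have hum : (q₀ : ZMod r) = -1 := ((mul_self_eq_one_iff.1 (by rw [← pow_two, ← hqu, hq1])).resolve_left hu1)
        have hj3 : j ≠ 2 := fun h => hj1 (by rw [h, ← hqu, hq1])
        obtain ⟨m, rfl⟩ : ∃ m, n = m + 3 := ⟨n - 3, by omega⟩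
        by_cases hex : r = m + 3 ∧ (m + 3 = 3 ∨ m + 3 = 5)
        · -- the exceptional degrees
          have hv := hexc rfl hex.1 hex.2
          have hq0r : ¬ r ∣ q₀ - 1 := fun h => hu1 (by
            have h' := (ZMod.natCast_eq_zero_iff _ _).2 h
            rwa [Nat.cast_sub (by omega), Nat.cast_one, sub_eq_zero] at h')
          have hr1 : r ∣ q₀ + 1 := (ZMod.natCast_eq_zero_iff _ _).1 (by push_cast; rw [hum, neg_add_cancel])
          have h2 : r ^ 2 ∣ Fintype.card F - 1 := by
            refine ((padicValNat_dvd_iff_le (p := r) (show q₀ + 1 ≠ 0 by omega)).2 ?_).trans ⟨q₀ - 1, ?_⟩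
            · have := one_le_padicValNat_of_dvd (p := r) (show q₀ + 1 ≠ 0 by omega) hr1
              omega
            · rw [hqk, ← Nat.sq_sub_sq, one_pow]
          obtain ⟨γ, hγ⟩ := IsCyclic.exists_ofOrder_eq_natCard (α := Fˣ)
          rw [Nat.card_units, Nat.card_eq_fintype_card] at hγ
          set w : F := ((γ ^ (orderOf γ / r ^ 2) : Fˣ) : F)
          have hw : orderOf w = r ^ 2 := by
            rw [orderOf_units]
            exact orderOf_pow_orderOf_div (orderOf_pos γ).ne' (hγ ▸ h2)
          have hwr2 : (w ^ r) ^ r = 1 := by rw [← pow_mul, ← pow_two, ← hw, pow_orderOf_eq_one]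
          obtain ⟨s, hs, hsw⟩ := (hζ ▸ IsPrimitiveRoot.orderOf ζ : IsPrimitiveRoot ζ r).eq_pow_of_pow_eq_one hwr2
          have hs0 : s ≠ 0 := fun h => by
            rw [h, pow_zero] at hsw
            have h5 := orderOf_dvd_of_pow_eq_one hsw.symm
            rw [hw, pow_two] at h5
            have := Nat.le_of_dvd hrp'.pos h5
            nlinarith [hr3]
          have hsz : (s : ZMod r) ≠ 0 := fun h =>
            hs0 (Nat.eq_zero_of_dvd_of_lt ((ZMod.natCast_eq_zero_iff _ _).1 h) hs)
          have hw0 : w ≠ 0 := Units.ne_zero _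
          let e : Fin (m + 3) → ZMod r := fun a => if (a : ℕ) = 0 then (s : ZMod r) else 0
          obtain ⟨hc1, hc2⟩ := hsub e 1 fun a ha => if_neg (by omega)
          obtain ⟨b, hb⟩ := main e w⁻¹ (inv_ne_zero hw0) ⟨0, 1, by simpa [e] using hsz⟩ (by
              rw [show w⁻¹ ^ (m + 3) = w⁻¹ ^ r by rw [hex.1], inv_pow, show ∑ a, e a = (s : ZMod r) by simp [e, Fin.sum_univ_succ], chi,
                ZMod.val_natCast, Nat.mod_eq_of_lt hs, hsw, inv_mul_cancel₀ (pow_ne_zero _ hw0)])
            (Or.inr fun v hv => by have := hc1 v hv; omega) 0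
          simp only [e, hum, Fin.val_zero, if_true, neg_one_mul] at hb
          split_ifs at hb
          · exact hneg (mul_right_cancel₀ hsz (by rw [neg_one_mul, one_mul]; exact hb.symm))
          · exact hsz (neg_eq_zero.1 hb.symm)
        let e : Fin (m + 3) → ZMod r := fun a =>
          if (a : ℕ) < 2 then 1 else if (a : ℕ) = 2 then -2 else 0
        have hsum : ∑ a, e a = 0 := by
          simp [e, Fin.sum_univ_succ]
          norm_num
        obtain ⟨hc1, hc2⟩ := hsub e 3 fun a ha => by
          simp only [e]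
          rw [if_neg (by omega), if_neg (by omega)]
        obtain ⟨b, hb⟩ := main e 1 one_ne_zero (by
            by_cases h3 : (1 : ZMod r) = -2
            · have hr : r = 3 := (Nat.prime_dvd_prime_iff_eq hrp' Nat.prime_three).1
                ((ZMod.natCast_eq_zero_iff _ _).1 (by push_cast; linear_combination h3))
              have hm : 0 < m := by
                by_contra h0
                exact hex ⟨by omega, Or.inl (by omega)⟩
              exact ⟨0, ⟨3, by omega⟩, by simp [e]⟩
            · exact ⟨0, ⟨2, by omega⟩, by simpa [e] using h3⟩)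
          (by rw [one_pow, one_mul, hsum, chi_zero])
          (by
            by_cases hn0 : ((m + 3 : ℕ) : ZMod r) = 0
            · refine Or.inr fun v hv => ?_
              have := hc1 v hv
              have hd := (ZMod.natCast_eq_zero_iff _ _).1 hn0
              have h7 : 7 ≤ m + 3 := by
                by_contra h7
                obtain ⟨q', hq'⟩ := hd
                have hq2 : q' ≤ 2 := by nlinarith
                interval_cases q' <;> omega
              omega
            · exact Or.inl ⟨hn0, hsum⟩) 0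
        simp only [e, hum, Fin.val_zero, show (0 : ℕ) < 2 from two_pos, if_true, mul_one] at hb
        split_ifs at hb
        · exact hneg hb.symm
        · exact h11 (by linear_combination -hb)
        · exact h11 (neg_eq_zero.1 hb.symm)
      · have hk3 : 3 ≤ k := by have := hk.two_le; omega
        obtain ⟨m, rfl⟩ : ∃ m, n = m + 2 := ⟨n - 2, by omega⟩
        let e : Fin (m + 2) → ZMod r := fun a => if (a : ℕ) = 0 then 1 else if (a : ℕ) = 1 then -1 else 0
        have hsum : ∑ a, e a = 0 := by simp [e, Fin.sum_univ_succ]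
        obtain ⟨hc1, hc2⟩ := hsub e 2 fun a ha => by
          simp only [e]
          rw [if_neg (by omega), if_neg (by omega)]
        obtain ⟨b, hb⟩ := main e 1 one_ne_zero ⟨0, ⟨1, by omega⟩, by simpa [e] using hneg.symm⟩
          (by rw [one_pow, one_mul, hsum, chi_zero])
          (by
            by_cases hn0 : ((m + 2 : ℕ) : ZMod r) = 0
            · refine Or.inr fun v hv => ?_
              have := hc1 v hv
              have hd := Nat.le_of_dvd (by omega) ((ZMod.natCast_eq_zero_iff _ _).1 hn0)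
              have hkle := Nat.le_of_dvd (by omega) hkr
              omega
            · exact Or.inl ⟨hn0, hsum⟩) 0
        simp only [e, Fin.val_zero, if_true, mul_one] at hb
        split_ifs at hb
        · exact hu1 hb.symm
        · rw [← hb, orderOf_neg_one, ringChar.eq (ZMod r) r, if_neg hr2] at hordk
          omega
        · exact hu hb.symm
  · intro hR x ⟨z, hz⟩ hns
    set A : Module.End F (Fin n → F) := Matrix.toLin' (x : Matrix (Fin n) (Fin n) F) with hAdef
    have hA : A ^ r = z • (1 : Module.End F (Fin n → F)) := Elusive.toLin'_pow_eq x hz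
    have hz0 : z ≠ 0 := Elusive.scalar_ne_zero (by omega) x hz
    have hAdet : LinearMap.det A = 1 := by rw [hAdef, LinearMap.det_toLin']; exact x.det_coe
    -- the scalar is an `r`-th power
    obtain ⟨l, hl⟩ : ∃ l : F, l ^ r = z := by
      by_contra hno
      push Not at hno
      have hrn : r ∣ n := by
        have := Elusive.prime_dvd_finrank hA hno (U := ⊤) le_top
        rwa [finrank_top, finrank_fin_fun] at this
      have hi1 : orderOf (Fintype.card F : ZMod r) = 1 := by
        by_contra h
        obtain ⟨l, hl⟩ := Elusive.exists_pow_eq_of_orderOf_ne_one (r := r) h z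
        exact hno l hl
      have hd1 := Elusive.det_of_nonpower hrF hA hno
      rw [hAdet, finrank_fin_fun] at hd1
      have hrd : r ∣ Fintype.card F - 1 := by
        rw [← ZMod.natCast_eq_zero_iff, Nat.cast_sub Fintype.card_pos, Nat.cast_one, orderOf_eq_one_iff.1 hi1, sub_self]
      refine Elusive.no_nonpower_scalar (r := r) (n := n) (by omega) hrn hno hd1.symm ?_ (fun h => absurd h hr2)
      rcases hR with hrk | ⟨-, hrn', -, -⟩
      · refine hgapk hrk ?_
        have h1 : (q₀ : ZMod r) = 1 := by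
          have h2 : (q₀ : ZMod r) ^ k = (q₀ : ZMod r) ^ r := congrArg _ hrk.symm
          rw [← hqu, orderOf_eq_one_iff.1 hi1, ZMod.pow_card] at h2
          exact h2.symm
        rw [← ZMod.natCast_eq_zero_iff, Nat.cast_sub (by omega), Nat.cast_one, h1, sub_self]
      · rw [← hrn', padicValNat.self hrp'.one_lt]
        exact one_le_padicValNat_of_dvd (by have := Fintype.one_lt_card (α := F); omega) hrd
    have hl0 : l ≠ 0 := fun h => hz0 (by rw [← hl, h, zero_pow hrp'.ne_zero])
    set T : Module.End F (Fin n → F) := l⁻¹ • A with hTdef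
    have hT : T ^ r = 1 := by
      rw [hTdef, smul_pow, hA, smul_smul, inv_pow, hl, inv_mul_cancel₀ hz0, one_smul]
    have hxT : A = l • T := by rw [hTdef, smul_smul, mul_inv_cancel₀ hl0, one_smul]
    rcases hR with hrk | ⟨hk2, hrn, h35, hv⟩
    · -- the extension has degree `r`
      subst hrk
      have hord : orderOf (q₀ : ZMod r) = orderOf (Fintype.card F : ZMod r) := by rw [hqu, ZMod.pow_card]
      obtain ⟨b, hb, hbT⟩ := exists_subfield_family F₀ hrF hrq hF₀ hord hT
      have hipos : 0 < orderOf (Fintype.card F : ZMod r) := orderOf_pos_iff.2 (isUnit_iff_ne_zero.2 hrq).isOfFinOrder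
      have htop : (⊤ : Submodule F (Fin n → F)) ≠ ⊥ := fun e => by
        have := finrank_fin_fun (R := F) (n := n)
        rw [← finrank_top F (Fin n → F), e, finrank_bot] at this
        omega
      obtain ⟨S, hSi, hSd⟩ : ∃ S : Submodule F (Fin n → F), S.map T ≤ S ∧
          (finrank F S = 1 ∨ finrank F S = orderOf (Fintype.card F : ZMod r)) := by
        by_cases hfix : ∃ v, T v = v ∧ v ≠ 0
        · obtain ⟨v, hv, hv0⟩ := hfix
          exact ⟨Submodule.span F {v}, by rw [Submodule.map_span, Set.image_singleton, hv],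
            Or.inl (finrank_span_singleton hv0)⟩
        push Not at hfix
        obtain ⟨S, -, hSi, hSd⟩ := Elusive.exists_invariant_orderOf hT hrq le_top htop fun v _ => hfix v
        exact ⟨S, hSi, Or.inr hSd⟩
      refine exists_conj_of_family F₀ hrF hF₀ hqk (by omega) x hl0 hT hxT b hb hbT S hSi ?_
      rcases hSd with h | h
      · rw [h]; exact Nat.coprime_one_left _
      rw [h]
      refine Nat.coprime_of_dvd fun s hs h1 h2 => ?_
      haveI := Fact.mk hs
      have hdr : orderOf (Fintype.card F : ZMod r) ∣ r - 1 := ZMod.orderOf_dvd_card_sub_one hrq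
      have hsr : s < r := by
        have := Nat.le_of_dvd (by have := hrp'.two_le; omega) (h1.trans hdr)
        have := hrp'.two_le
        omega
      have hy : ∑ t ∈ Finset.range r, (q₀ : ZMod s) ^ t = 0 := by
        have h' := (ZMod.natCast_eq_zero_iff _ s).2 h2
        push_cast at h'
        exact h'
      by_cases hy1 : (q₀ : ZMod s) = 1
      · rw [hy1] at hy
        simp only [one_pow, Finset.sum_const, Finset.card_range, nsmul_eq_mul, mul_one] at hy
        exact hsr.ne ((Nat.prime_dvd_prime_iff_eq hs hrp').1 ((ZMod.natCast_eq_zero_iff _ _).1 hy))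
      have hyr : (q₀ : ZMod s) ^ r = 1 := by rw [← sub_eq_zero, ← geom_sum_mul, hy, zero_mul]
      have hy0 : (q₀ : ZMod s) ≠ 0 := fun e => by rw [e, zero_pow hrp'.ne_zero] at hyr; exact zero_ne_one hyr
      have := Nat.le_of_dvd (by have := hs.two_le; omega)
        (orderOf_eq_prime hyr hy1 ▸ ZMod.orderOf_dvd_card_sub_one hy0)
      omega
    · -- degree `r` and quadratic extension
      subst hk2
      subst hrn
      have hd : r ∣ q₀ + 1 := dvd_of_one_le_padicValNat hv.ge
      have hum : (q₀ : ZMod r) = -1 := eq_neg_of_add_eq_zero_left (by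
        have := (ZMod.natCast_eq_zero_iff _ r).2 hd
        push_cast at this
        exact this)
      have hq1 : (Fintype.card F : ZMod r) = 1 := by rw [hqu, hum, neg_one_sq]
      have hrdvd : r ∣ Nat.card Fˣ := by
        rw [Nat.card_units, Nat.card_eq_fintype_card, ← ZMod.natCast_eq_zero_iff, Nat.cast_sub Fintype.card_pos,
          Nat.cast_one, hq1, sub_self]
      obtain ⟨g, hg⟩ := exists_prime_orderOf_dvd_card' r hrdvd
      set ζ : F := (g : F)
      have hζ : orderOf ζ = r := by rw [orderOf_units, hg]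
      obtain ⟨b, e, hb, hbe⟩ := exists_eigen_family (r := r) hrF hq1 hζ hT
      have hli : LinearIndependent F b := linearIndependent_of_top_le_span_of_card_eq_finrank hb.ge
        (by rw [Fintype.card_fin, finrank_fin_fun])
      have hdetT : LinearMap.det T = chi ζ (∑ j, e j) := by
        let Bb := Module.Basis.mk hli hb.ge
        rw [← LinearMap.det_toMatrix Bb, show LinearMap.toMatrix Bb Bb T = Matrix.diagonal fun j => chi ζ (e j) by
          ext a c
          rw [LinearMap.toMatrix_apply, show Bb c = b c from Module.Basis.mk_apply hli hb.ge c, hbe, map_smul,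
            show b c = Bb c from (Module.Basis.mk_apply hli hb.ge c).symm, Module.Basis.repr_self]
          by_cases hac : a = c
          · subst hac; simp
          · simp [Matrix.diagonal_apply_ne _ hac, Finsupp.single_apply, Ne.symm hac],
          Matrix.det_diagonal, chi_prod hζ]
      have hsum : ∑ j, e j = 0 := by
        have h1 : l ^ r * chi ζ (∑ j, e j) = 1 := by
          have h := hAdet
          rwa [hxT, LinearMap.det_smul, finrank_fin_fun, hdetT] at h
        by_contra hne
        have hlr : l ^ r ≠ 1 := fun h => by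
          rw [h, one_mul, ← chi_zero (r := r) (ζ := ζ)] at h1
          exact hne (chi_injective hζ h1)
        have hlr2 : l ^ (r ^ (1 + 1)) = 1 := by
          have h := congrArg (fun a => a ^ r) h1
          simp only [mul_pow, chi_pow_prime hζ, mul_one, one_pow] at h
          rwa [pow_succ, pow_one, pow_mul]
        have hol : orderOf l = r ^ (1 + 1) := orderOf_eq_prime_pow (by rwa [pow_one]) hlr2
        have hdiv : r ^ 2 ∣ Fintype.card F - 1 :=
          hol ▸ orderOf_dvd_of_pow_eq_one (FiniteField.pow_card_sub_one_eq_one l hl0)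
        rw [hqk, show q₀ ^ 2 - 1 = (q₀ + 1) * (q₀ - 1) by rw [← Nat.sq_sub_sq, one_pow]] at hdiv
        have hcp : Nat.Coprime r (q₀ - 1) := hrp'.coprime_iff_not_dvd.2 fun h => by
          have h' := (ZMod.natCast_eq_zero_iff _ r).2 h
          rw [Nat.cast_sub (by omega), Nat.cast_one, hum] at h'
          haveI : Fact (2 < r) := ⟨by have := hrp'.two_le; omega⟩
          exact ZMod.neg_one_ne_one (sub_eq_zero.1 h')
        have := (padicValNat_dvd_iff_le (p := r) (show q₀ + 1 ≠ 0 by omega)).1
          ((hcp.pow_left 2).dvd_of_dvd_mul_right hdiv)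
        omega
      obtain ⟨hn1, hn2⟩ := count_facts e
      obtain ⟨c, hc0, hcs⟩ := exists_centre h35 (fun v => (Finset.univ.filter fun j => e j = v).card) hn1
        (hn2.trans hsum)
      let e' : Fin r → ZMod r := fun j => e j - c
      obtain ⟨π, hπ, hπe, hinv⟩ := exists_involution e' fun v => by
        have h := hcs v
        simp only [e', sub_eq_iff_eq_add', ← sub_eq_add_neg]
        exact h.symm
      set T' : Module.End F (Fin r → F) := chi ζ (-c) • T with hT'
      have hcc : chi ζ c * chi ζ (-c) = 1 := by rw [← chi_add hζ, add_neg_cancel, chi_zero]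
      have hxT' : A = (l * chi ζ c) • T' := by rw [hT', smul_smul, mul_assoc, hcc, mul_one, hxT]
      have hT'r : T' ^ r = 1 := by rw [hT', smul_pow, chi_pow_prime hζ, one_smul, hT]
      have hbe' : ∀ j, T' (b j) = chi ζ (e' j) • b j := fun j => by
        simp only [hT', LinearMap.smul_apply, hbe, smul_smul, e', ← chi_add hζ, neg_add_eq_sub]
      let u : Fin r → (Fin r → F) := fun j =>
        if π j = j then b j else if j < π j then b j + b (π j)
          else chi ζ (e' j) • b j + chi ζ (e' (π j)) • b (π j)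
      have hch : ∀ j, chi ζ (e' j) * chi ζ (e' (π j)) = 1 := fun j => by
        rw [← chi_add hζ, hπe, add_neg_cancel, chi_zero]
      haveI : Fact (2 < r) := ⟨by have := hrp'.two_le; omega⟩
      have h2ne : ∀ a : ZMod r, -a = a → a = 0 := fun a h => by
        by_contra ha
        exact ZMod.neg_one_ne_one (mul_right_cancel₀ ha (by rw [neg_one_mul, one_mul, h]))
      have hfix : ∀ j, π j = j → T' (b j) = b j := fun j h => by
        have h0 : e' j = 0 := h2ne _ ((hπe j).symm.trans (congrArg e' h))
        rw [hbe', h0, chi_zero, one_smul]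
      have hu : ∀ j, T' (u j) ∈ Submodule.span F₀ (Set.range u) := by
        intro j
        rcases lt_trichotomy j (π j) with h | h | h
        · have hne : π j ≠ j := h.ne'
          have hne' : π (π j) ≠ π j := by rw [hπ]; exact h.ne
          have : T' (u j) = u (π j) := by
            simp only [u, hπ, if_neg hne, if_pos h, if_neg h.ne, if_neg h.not_gt, map_add, hbe']
            exact add_comm _ _
          rw [this]
          exact Submodule.subset_span ⟨_, rfl⟩
        · simp only [u, if_pos h.symm, hfix j h.symm]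
          exact Submodule.subset_span ⟨j, by simp [u, h.symm]⟩
        · have hne : π j ≠ j := h.ne
          have hne' : π (π j) ≠ π j := by rw [hπ]; exact h.ne'
          set s := chi ζ (e' j) + chi ζ (e' (π j))
          have hs : s ∈ F₀ := by
            refine Elusive.Subfld.mem_of_pow_eq F₀ hF₀ ?_
            rw [← hφ₀, map_add, hφ₀, hφ₀, ← chi_natCast_mul hζ, ← chi_natCast_mul hζ, hum, hπe]
            simp only [neg_one_mul, neg_neg, s]
            rw [add_comm, hπe]
          have : T' (u j) = (⟨s, hs⟩ : F₀) • u j - u (π j) := by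
            simp only [u, hπ, if_neg hne, if_neg h.not_gt, if_neg h.ne', if_pos h,
              map_add, map_smul, hbe', Subfield.smul_def, smul_add, smul_smul]
            rw [show s * chi ζ (e' j) = chi ζ (e' j) * chi ζ (e' j) + 1 by
                rw [← hch j, mul_comm (chi ζ (e' j)) (chi ζ (e' (π j))), ← add_mul],
              show s * chi ζ (e' (π j)) = chi ζ (e' (π j)) * chi ζ (e' (π j)) + 1 by
                rw [← hch j, ← add_mul, add_comm]]
            module
          rw [this]
          exact sub_mem (Submodule.smul_mem _ _ (Submodule.subset_span ⟨_, rfl⟩)) (Submodule.subset_span ⟨_, rfl⟩)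
      have hspan : Submodule.span F (Set.range u) = ⊤ := by
        rw [eq_top_iff, ← hb, Submodule.span_le]
        have key : ∀ j, j < π j → b j ∈ Submodule.span F (Set.range u) ∧ b (π j) ∈ Submodule.span F (Set.range u) := by
          intro j h
          have hne : π j ≠ j := h.ne'
          have hne' : π (π j) ≠ π j := by rw [hπ]; exact h.ne
          have h1 : b j + b (π j) ∈ Submodule.span F (Set.range u) :=
            Submodule.subset_span ⟨j, by simp [u, if_neg hne, if_pos h]⟩
          have h2 : chi ζ (e' (π j)) • b (π j) + chi ζ (e' j) • b j ∈ Submodule.span F (Set.range u) :=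
            Submodule.subset_span ⟨π j, by
              simp only [u, hπ, if_neg h.ne, if_neg h.not_gt]⟩
          have hd : chi ζ (e' (π j)) - chi ζ (e' j) ≠ 0 := sub_ne_zero.2 fun he => by
            have h0 := chi_injective hζ he
            rw [hπe] at h0
            exact hne (hinv j h0)
          have h4 := Submodule.sub_mem _ (Submodule.smul_mem _ (chi ζ (e' (π j))) h1) h2
          rw [show chi ζ (e' (π j)) • (b j + b (π j)) - (chi ζ (e' (π j)) • b (π j) + chi ζ (e' j) • b j) =
            (chi ζ (e' (π j)) - chi ζ (e' j)) • b j by module, Submodule.smul_mem_iff _ hd] at h4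
          exact ⟨h4, by simpa using Submodule.sub_mem _ h1 h4⟩
        rintro _ ⟨j, rfl⟩
        rcases lt_trichotomy j (π j) with h | h | h
        · exact (key j h).1
        · exact Submodule.subset_span ⟨j, by simp [u, h.symm]⟩
        · have := (key (π j) (by rw [hπ]; exact h)).2
          rwa [hπ] at this
      obtain ⟨j₀, hj₀⟩ := Finset.card_pos.1 hc0
      have hj₀e : T' (b j₀) = b j₀ := by
        rw [hbe', show e' j₀ = 0 by simp [e', (Finset.mem_filter.1 hj₀).2], chi_zero, one_smul]
      refine exists_conj_of_family F₀ hrF hF₀ hqk (by omega) x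
        (mul_ne_zero hl0 fun h => by rw [h, zero_mul] at hcc; exact zero_ne_one hcc) hT'r hxT' u hspan hu
        (Submodule.span F {b j₀}) (by rw [Submodule.map_span, Set.image_singleton, hj₀e]) ?_
      rw [finrank_span_singleton (hli.ne_zero j₀)]
      exact Nat.coprime_one_left _

end Cfsg.Agent.S5965
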