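import Cfsg.Statements.S5966
import Cfsg.Agent.S5964
import Cfsg.Agent.Lib.Elusive.Unipotent
-- import your own Cfsg.Agent.* helpers here

set_option autoImplicit false
open scoped MatrixGroups
open Cfsg

namespace Cfsg.Agent.S5966

open Cfsg.Agent
open scoped Matrix

section

variable {F : Type*} [Field F] [Fintype F] (F₀ : Subfield F) {q₀ : ℕ}

/-- Over a quadratic extension, elements of the subfield are squares. -/
theorem isSquare_of_quadratic (h2 : ringChar F ≠ 2) (hF₀ : Nat.card ↥F₀ = q₀)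
    (hqk : Fintype.card F = q₀ ^ 2) (e : F₀) : IsSquare (e : F) := by
  haveI : Fintype F₀ := Fintype.ofFinite _
  by_cases he : e = 0
  · rw [he]; exact ⟨0, by simp⟩
  have hodd : Odd q₀ := by
    by_contra h
    rw [Nat.not_odd_iff_even] at h
    have : Even (Fintype.card F) := hqk ▸ h.pow_of_ne_zero two_ne_zero
    exact h2 (FiniteField.even_card_iff_char_two.2 (Nat.even_iff.1 this))
  obtain ⟨m, hm⟩ := hodd
  rw [FiniteField.isSquare_iff h2 (fun h => he (Subtype.ext h)), hqk, hm,
    show (2 * m + 1) ^ 2 / 2 = (2 * m + 1 - 1) * (m + 1) by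
      rw [Nat.add_sub_cancel, show (2 * m + 1) ^ 2 = 2 * (2 * m * (m + 1)) + 1 by ring]
      omega,
    ← hm, ← hF₀, Nat.card_eq_fintype_card, pow_mul, ← SubmonoidClass.coe_pow,
    FiniteField.pow_card_sub_one_eq_one e he, OneMemClass.coe_one, one_pow]

/-- Over an extension of odd degree, some element of the subfield is no square. -/
theorem exists_nonsquare_of_odd (h2 : ringChar F ≠ 2) (hF₀ : Nat.card ↥F₀ = q₀) {k : ℕ}
    (hqk : Fintype.card F = q₀ ^ k) (hk : Odd k) : ∃ e : F₀, ¬ IsSquare (e : F) := by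
  haveI : Fintype F₀ := Fintype.ofFinite _
  haveI : CharP F₀ (ringChar F) := (RingHom.charP_iff _ F₀.subtype.injective _).2 inferInstance
  have h20 : ringChar F₀ ≠ 2 := by rwa [ringChar.eq F₀ (ringChar F)]
  have hodd : q₀ % 2 = 1 := by
    rw [← hF₀, Nat.card_eq_fintype_card]
    exact FiniteField.odd_card_of_char_ne_two h20
  obtain ⟨e, he⟩ := FiniteField.exists_nonsquare h20
  have he0 : e ≠ 0 := fun h => he (h ▸ ⟨0, by simp⟩)
  have h3 : (∑ j ∈ Finset.range k, q₀ ^ j) * (q₀ / 2) = Fintype.card F / 2 := by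
    have hg := geom_sum_mul_of_one_le (show 1 ≤ q₀ by omega) k
    have : q₀ - 1 = 2 * (q₀ / 2) := by omega
    rw [this, mul_left_comm] at hg
    have hodd' : (q₀ ^ k) % 2 = 1 := by simp [Nat.pow_mod, hodd]
    rw [hqk]
    omega
  have he1 : e ^ (q₀ / 2) = -1 := by
    have h0 : ¬ e ^ (Fintype.card F₀ / 2) = 1 := fun h => he ((FiniteField.isSquare_iff h20 he0).2 h)
    have h1 := FiniteField.pow_dichotomy h20 he0
    rw [← Nat.card_eq_fintype_card, hF₀] at h0 h1
    exact h1.resolve_left h0
  refine ⟨e, fun h => ?_⟩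
  rw [FiniteField.isSquare_iff h2 (fun h => he0 (Subtype.ext h)), ← h3, mul_comm, pow_mul,
    ← SubmonoidClass.coe_pow, he1] at h
  have hgeo : Odd (∑ j ∈ Finset.range k, q₀ ^ j) := by
    rw [Finset.odd_sum_iff_odd_card_odd, Finset.filter_true_of_mem
      (fun j _ => (Nat.odd_iff.2 hodd).pow), Finset.card_range]
    exact hk
  push_cast at h
  rw [hgeo.neg_one_pow] at h
  exact Ring.two_ne_zero h2 (by linear_combination -h)

omit [Fintype F] in
/-- The determinant of a matrix commuting with the standard square-zero matrix is a square. -/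
theorem isSquare_det_of_commute {h : ℕ} (S : Matrix (Fin h ⊕ Fin h) (Fin h ⊕ Fin h) F)
    (hS : Matrix.fromBlocks 0 1 0 0 * S = S * Matrix.fromBlocks 0 1 0 0) : IsSquare S.det := by
  classical
  obtain ⟨X, Y, Z, W, rfl⟩ : ∃ X Y Z W, S = Matrix.fromBlocks X Y Z W :=
    ⟨_, _, _, _, (Matrix.fromBlocks_toBlocks S).symm⟩
  rw [Matrix.fromBlocks_multiply, Matrix.fromBlocks_multiply, Matrix.fromBlocks_inj] at hS
  simp only [Matrix.one_mul, Matrix.mul_one, Matrix.zero_mul, Matrix.mul_zero, add_zero, zero_add] at hS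
  obtain ⟨hZ, hW, -, -⟩ := hS
  subst hZ hW
  exact ⟨W.det, Matrix.det_fromBlocks_zero₂₁ _ _ _⟩

omit [Fintype F] in
/-- A square-zero matrix whose kernel is its range, in standard form. -/
theorem exists_standard {h : ℕ} (N : Matrix (Fin h ⊕ Fin h) (Fin h ⊕ Fin h) F) (hN : N * N = 0)
    (hker : ∀ v, N *ᵥ v = 0 → ∃ w, N *ᵥ w = v) :
    ∃ C : Matrix (Fin h ⊕ Fin h) (Fin h ⊕ Fin h) F, C.det ≠ 0 ∧ N * C = C * Matrix.fromBlocks 0 1 0 0 := by
  classical
  set L := N.mulVecLin
  have hK : LinearMap.ker L = LinearMap.range L := by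
    refine le_antisymm (fun v hv => hker v hv) ?_
    rintro _ ⟨w, rfl⟩
    show N *ᵥ (N *ᵥ w) = 0
    rw [Matrix.mulVec_mulVec, hN, Matrix.zero_mulVec]
  obtain ⟨U, hU⟩ := Submodule.exists_isCompl (LinearMap.ker L)
  have hUd : Module.finrank F U = h := by
    have h1 := Submodule.finrank_add_eq_of_isCompl hU
    have h2 := LinearMap.finrank_range_add_finrank_ker L
    rw [← hK] at h2
    rw [Module.finrank_pi, Fintype.card_sum, Fintype.card_fin] at h1 h2
    omega
  let u := Module.finBasisOfFinrankEq F U hUd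
  let col : Fin h ⊕ Fin h → (Fin h ⊕ Fin h → F) := Sum.elim (fun i => N *ᵥ (u i : Fin h ⊕ Fin h → F)) fun i => u i
  have hli : LinearIndependent F col := by
    rw [Fintype.linearIndependent_iff]
    intro g hg
    simp only [Fintype.sum_sum_type, col, Sum.elim_inl, Sum.elim_inr] at hg
    have hb : ∀ i, g (Sum.inr i) = 0 := by
      have h1 : N *ᵥ (∑ i, g (Sum.inr i) • (u i : Fin h ⊕ Fin h → F)) = 0 := by
        have := congrArg (fun v => N *ᵥ v) hg
        simpa [Matrix.mulVec_add, Matrix.mulVec_sum, Matrix.mulVec_smul, Matrix.mulVec_mulVec, hN] using this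
      have h2 : ∑ i, g (Sum.inr i) • u i = 0 := Subtype.ext (Submodule.disjoint_def.1 hU.disjoint _
        (by simpa [L, Matrix.mulVec_sum, Matrix.mulVec_smul] using h1) (∑ i, g (Sum.inr i) • u i).2)
      exact fun i => Fintype.linearIndependent_iff.1 u.linearIndependent _ h2 i
    simp only [hb, zero_smul, Finset.sum_const_zero, add_zero] at hg
    rintro (i | i)
    · have h1 : N *ᵥ (∑ i, g (Sum.inl i) • (u i : Fin h ⊕ Fin h → F)) = 0 := by
        simpa [Matrix.mulVec_sum, Matrix.mulVec_smul] using hg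
      have h2 : ∑ i, g (Sum.inl i) • u i = 0 := Subtype.ext (Submodule.disjoint_def.1 hU.disjoint _
        (by simpa [L, Matrix.mulVec_sum, Matrix.mulVec_smul] using h1) (∑ i, g (Sum.inl i) • u i).2)
      exact Fintype.linearIndependent_iff.1 u.linearIndependent _ h2 i
    · exact hb i
  refine ⟨Matrix.of fun i j => col j i, ?_, ?_⟩
  · have : (Matrix.of fun i j => col j i).transpose.det ≠ 0 := by
      have h1 : LinearIndependent F (Matrix.of fun i j => col j i).transpose.row := hli
      exact ((Matrix.isUnit_iff_isUnit_det _).1 (Matrix.linearIndependent_rows_iff_isUnit.1 h1)).ne_zero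
    rwa [Matrix.det_transpose] at this
  · ext i j
    rcases j with j | j
    · have h1 : (N *ᵥ (N *ᵥ (u j : Fin h ⊕ Fin h → F))) i = 0 := by
        rw [Matrix.mulVec_mulVec, hN, Matrix.zero_mulVec, Pi.zero_apply]
      calc (N * Matrix.of fun i j => col j i) i (Sum.inl j)
          = (N *ᵥ col (Sum.inl j)) i := rfl
        _ = 0 := h1
        _ = _ := by simp [Matrix.mul_apply, Fintype.sum_sum_type, Matrix.fromBlocks]
    · calc (N * Matrix.of fun i j => col j i) i (Sum.inr j)
          = (N *ᵥ col (Sum.inr j)) i := rfl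
        _ = col (Sum.inl j) i := rfl
        _ = _ := by simp [Matrix.mul_apply, Fintype.sum_sum_type, Matrix.fromBlocks, Matrix.one_apply]

end

/-- Elements of order 3 of PSL_n(q) in characteristic 3 and subfield subgroups. Here `T = PSL_n(F)` for a field `F` with `q` elements, `q` a power of 3 (`n ≥ 2`, `(n, q) ≠ (2, 2), (2, 3)`), `F₀` is the subfield with `q₀` elements where `q = q₀^k` for a prime `k`, and `H` is the subgroup of matrices of determinant 1 lying in the subfield group of `F₀` (invertible matrices over `F₀` times scalars) — a maximal subgroup of type GL_n(q₀) (the case `n = 2`, `q₀ = 2` is excluded); Ω is the set of `T`-conjugates of `H` (cosets of `H`), so an element of `T` of prime order `r` (a matrix `x` of determinant 1 with `x^r` scalar, `x` not scalar) fixes a point of Ω when some conjugate of `x` by a matrix of determinant 1 lies in `H`. Suppose 3 divides the index of `H`. Then every element of `T` of order 3 is conjugate in `T` into `H` if and only if `n` is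 odd, or `n` is even and `k > 2`. -/
theorem result {F : Type*} [Field F] [Fintype F] [CharP F 3] {q : ℕ} (hq : Fintype.card F = q)
    (n : ℕ) (hn : 2 ≤ n) (hT : (n, q) ≠ (2, 3))
    (F₀ : Subfield F) (k q₀ : ℕ) (hk : k.Prime) (hF₀ : Nat.card ↥F₀ = q₀) (hqk : q = q₀ ^ k) (hC5 : ¬ (n = 2 ∧ q₀ = 2)) (hΩ : 3 ∣ ((Cfsg.Geo.subfieldSubgroup F₀ 1).comap (Matrix.SpecialLinearGroup.toGL : Matrix.SpecialLinearGroup (Fin n) F →* GL (Fin n) F)).index) :
    (∀ x : Matrix.SpecialLinearGroup (Fin n) F,
      (∃ z : F, ((x ^ 3 : Matrix.SpecialLinearGroup (Fin n) F) : Matrix (Fin n) (Fin n) F) = z • (1 : Matrix (Fin n) (Fin n) F)) →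
      (∀ z : F, (x : Matrix (Fin n) (Fin n) F) ≠ z • (1 : Matrix (Fin n) (Fin n) F)) →
      ∃ P : Matrix.SpecialLinearGroup (Fin n) F, P⁻¹ * x * P ∈ ((Cfsg.Geo.subfieldSubgroup F₀ 1).comap (Matrix.SpecialLinearGroup.toGL : Matrix.SpecialLinearGroup (Fin n) F →* GL (Fin n) F))) ↔
    (Odd n ∨ (Even n ∧ 2 < k)) := by
  classical
  subst hq
  haveI : Fact (Nat.Prime 3) := ⟨Nat.prime_three⟩
  haveI : Fintype F₀ := Fintype.ofFinite _
  haveI : CharP F₀ 3 := (RingHom.charP_iff _ F₀.subtype.injective 3).2 inferInstance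
  have h2 : ringChar F ≠ 2 := by rw [ringChar.eq F 3]; norm_num
  constructor
  · intro hall
    rcases Nat.even_or_odd n with hev | hodd
    swap
    · exact Or.inl hodd
    refine Or.inr ⟨hev, lt_of_le_of_ne hk.two_le fun hk2 => ?_⟩
    subst hk2
    obtain ⟨h, hn2⟩ := hev
    let e : Fin h ⊕ Fin h ≃ Fin n := finSumFinEquiv.trans (finCongr hn2.symm)
    let i₀ : Fin h ⊕ Fin h := Sum.inr ⟨0, by omega⟩
    obtain ⟨d, hd⟩ := FiniteField.exists_nonsquare h2
    have hd0 : d ≠ 0 := fun h0 => hd (h0 ▸ ⟨0, by simp⟩)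
    let J : Matrix (Fin h ⊕ Fin h) (Fin h ⊕ Fin h) F := Matrix.fromBlocks 0 1 0 0
    have hJ : J * J = 0 := by simp [J, Matrix.fromBlocks_multiply]
    let D : Matrix (Fin h ⊕ Fin h) (Fin h ⊕ Fin h) F := Matrix.diagonal (Function.update 1 i₀ d)
    let D' : Matrix (Fin h ⊕ Fin h) (Fin h ⊕ Fin h) F := Matrix.diagonal (Function.update 1 i₀ d⁻¹)
    have hDD : D * D' = 1 ∧ D' * D = 1 := by
      constructor <;> rw [Matrix.diagonal_mul_diagonal, ← Matrix.diagonal_one] <;> congr 1 <;> funext i <;>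
        by_cases hi : i = i₀
      all_goals first
        | (subst hi; simp [hd0])
        | simp [Function.update_of_ne hi]
    have hDdet : D.det = d := by
      simp [D, Matrix.det_diagonal, Finset.prod_update_of_mem (Finset.mem_univ i₀)]
    let X : Matrix (Fin h ⊕ Fin h) (Fin h ⊕ Fin h) F := 1 + D * J * D'
    have hX2 : (D * J * D') * (D * J * D') = 0 := by
      rw [show (D * J * D') * (D * J * D') = D * J * (D' * D) * (J * D') by simp only [Matrix.mul_assoc],
        hDD.2, Matrix.mul_one, Matrix.mul_assoc D J, ← Matrix.mul_assoc J J, hJ]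
      simp
    have hX : X = D * (1 + J) * D' := by
      rw [Matrix.mul_add, Matrix.add_mul, Matrix.mul_one, hDD.1]
    have hXdet : X.det = 1 := by
      rw [hX, Matrix.det_mul_right_comm, hDD.1, Matrix.one_mul,
        show (1 : Matrix (Fin h ⊕ Fin h) (Fin h ⊕ Fin h) F) + J = Matrix.fromBlocks 1 1 0 1 by
          rw [← Matrix.fromBlocks_one, Matrix.fromBlocks_add]; simp]
      simp [Matrix.det_fromBlocks_zero₂₁]
    have hX3 : X ^ 3 = 1 := by
      have h3 : (3 : Matrix (Fin h ⊕ Fin h) (Fin h ⊕ Fin h) F) = 0 := by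
        haveI : Nonempty (Fin h ⊕ Fin h) := ⟨i₀⟩
        exact_mod_cast CharP.cast_eq_zero (Matrix (Fin h ⊕ Fin h) (Fin h ⊕ Fin h) F) 3
      show (1 + D * J * D') ^ 3 = 1
      generalize D * J * D' = N at hX2
      calc (1 + N) ^ 3 = 1 + 3 * N + (3 * (N * N) + N * (N * N)) := by noncomm_ring
        _ = 1 := by rw [hX2, h3]; simp
    let x : Matrix.SpecialLinearGroup (Fin n) F := ⟨Matrix.reindex e e X, by
      rw [Matrix.det_reindex_self, hXdet]⟩
    obtain ⟨P, hP⟩ := hall x ⟨1, by
        rw [one_smul, Matrix.SpecialLinearGroup.coe_pow]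
        show (Matrix.reindexAlgEquiv F F e X) ^ 3 = 1
        rw [← map_pow, hX3, map_one]⟩ fun z hz => by
        have h1 : X = z • 1 := (Matrix.reindexAlgEquiv F F e).injective (by rw [map_smul, map_one]; exact hz)
        have := congrFun (congrFun h1 (Sum.inl ⟨0, by omega⟩)) (Sum.inr ⟨0, by omega⟩)
        simp [X, D, D', J, i₀, Matrix.one_apply, Matrix.diagonal_mul, Matrix.mul_diagonal] at this
        exact hd0 this
    obtain ⟨c, M, hc, hM⟩ := (Cfsg.Agent.S5964.mem_subfieldSL F₀ _).1 hP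
    set y := P⁻¹ * x * P with hydef
    have hPy : (x : Matrix (Fin n) (Fin n) F) * (P : Matrix (Fin n) (Fin n) F) =
        (P : Matrix (Fin n) (Fin n) F) * (y : Matrix (Fin n) (Fin n) F) := by
      rw [← Matrix.SpecialLinearGroup.coe_mul, ← Matrix.SpecialLinearGroup.coe_mul, hydef]
      congr 1
      simp [mul_assoc]
      rfl
    -- the scalar lies in the subfield
    have hcF : ∃ a : F₀, (a : F) = c := by
      have hx3 : x ^ 3 = 1 := Subtype.ext (by
        rw [Matrix.SpecialLinearGroup.coe_pow]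
        show (Matrix.reindexAlgEquiv F F e X) ^ 3 = 1
        rw [← map_pow, hX3, map_one])
      have h1 : ((y ^ 3 : Matrix.SpecialLinearGroup (Fin n) F) : Matrix (Fin n) (Fin n) F) = 1 := by
        rw [show y ^ 3 = P⁻¹ * x ^ 3 * P by
          rw [hydef, show P⁻¹ * x * P = P⁻¹ * x * (P⁻¹)⁻¹ by rw [inv_inv], conj_pow, inv_inv], hx3]
        simp
      rw [Matrix.SpecialLinearGroup.coe_pow, hM, smul_pow, ← RingHom.mapMatrix_apply, ← map_pow] at h1
      have h3 : c ^ 3 * ((M ^ 3) ⟨0, by omega⟩ ⟨0, by omega⟩ : F) = 1 := by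
        simpa using congrFun (congrFun h1 ⟨0, by omega⟩) ⟨0, by omega⟩
      obtain ⟨a, ha⟩ := surjective_frobenius F₀ 3 ((M ^ 3) ⟨0, by omega⟩ ⟨0, by omega⟩)⁻¹
      refine ⟨a, frobenius_inj F 3 ?_⟩
      rw [frobenius_def, frobenius_def, ← SubmonoidClass.coe_pow]
      rw [frobenius_def] at ha
      rw [ha]
      push_cast
      exact (eq_inv_of_mul_eq_one_left h3).symm
    obtain ⟨a, rfl⟩ := hcF
    let ρ := (Matrix.reindexAlgEquiv F F e).symm
    let ρ₀ := (Matrix.reindexAlgEquiv F₀ F₀ e).symm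
    let N₀ : Matrix (Fin h ⊕ Fin h) (Fin h ⊕ Fin h) F₀ := ρ₀ (a • M) - 1
    let R := ρ (P : Matrix (Fin n) (Fin n) F)
    have hRdet : R.det = 1 := by
      show (Matrix.reindex e.symm e.symm (P : Matrix (Fin n) (Fin n) F)).det = 1
      rw [Matrix.det_reindex_self, P.det_coe]
    have hmapN : N₀.map F₀.subtype = ρ (y : Matrix (Fin n) (Fin n) F) - 1 := by
      rw [hM]
      ext i j
      simp [N₀, ρ, ρ₀, Matrix.one_apply, apply_ite]
      intro h1 h3
      exact absurd h1 h3
    have hρx : ρ (x : Matrix (Fin n) (Fin n) F) = X := (Matrix.reindexAlgEquiv F F e).symm_apply_apply X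
    have hmain : (D * J * D') * R = R * N₀.map F₀.subtype := by
      have h1 : X * R = R * ρ (y : Matrix (Fin n) (Fin n) F) := by
        rw [← hρx, ← map_mul, ← map_mul, hPy]
      rw [hmapN, Matrix.mul_sub, ← h1, Matrix.mul_one]
      simp [X, Matrix.add_mul]
    obtain ⟨R', hR'⟩ : ∃ R', R' * R = 1 := ⟨R⁻¹, Matrix.nonsing_inv_mul R (by rw [hRdet]; exact isUnit_one)⟩
    have hRR' : R * R' = 1 := mul_eq_one_comm.1 hR'
    have hN' : N₀.map F₀.subtype = R' * (D * J * D') * R := by
      rw [Matrix.mul_assoc, hmain, ← Matrix.mul_assoc, hR', Matrix.one_mul]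
    have hN0 : N₀ * N₀ = 0 := by
      refine Matrix.map_injective F₀.subtype.injective ?_
      show (N₀ * N₀).map F₀.subtype = (0 : Matrix (Fin h ⊕ Fin h) (Fin h ⊕ Fin h) F₀).map F₀.subtype
      rw [Matrix.map_mul, hN', Matrix.map_zero _ (map_zero _),
        show R' * (D * J * D') * R * (R' * (D * J * D') * R) =
          R' * (D * J * D') * (R * R') * ((D * J * D') * R) by simp only [Matrix.mul_assoc],
        hRR', Matrix.mul_one, Matrix.mul_assoc R' (D * J * D'), ← Matrix.mul_assoc (D * J * D') (D * J * D'), hX2]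
      simp
    have hker : ∀ v, N₀ *ᵥ v = 0 → ∃ w, N₀ *ᵥ w = v := by
      intro v hv
      obtain ⟨π, hπ⟩ : ∃ π : F →ₗ[F₀] F₀, ∀ a : F₀, π a = a := by
        obtain ⟨π, hπ⟩ := LinearMap.exists_leftInverse_of_injective (Algebra.linearMap F₀ F)
          (LinearMap.ker_eq_bot.2 (algebraMap F₀ F).injective)
        exact ⟨π, fun a => LinearMap.congr_fun hπ a⟩
      let vF : Fin h ⊕ Fin h → F := fun i => (v i : F)
      have h1 : N₀.map F₀.subtype *ᵥ vF = 0 := by
        funext i
        have := congrArg (fun a : F₀ => (a : F)) (congrFun hv i)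
        simpa [vF, Matrix.mulVec, dotProduct] using this
      have h3 : J *ᵥ ((D' * R) *ᵥ vF) = 0 := by
        have h4 := congrArg (fun u => (D' * R) *ᵥ u) h1
        simp only [Matrix.mulVec_zero, Matrix.mulVec_mulVec] at h4
        rw [hN', show D' * R * (R' * (D * J * D') * R) = D' * (R * R') * (D * J * D') * R by
          simp only [Matrix.mul_assoc], hRR', Matrix.mul_one, ← Matrix.mul_assoc D', ← Matrix.mul_assoc D',
          hDD.2, Matrix.one_mul, Matrix.mul_assoc J D' R] at h4
        rw [Matrix.mulVec_mulVec]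
        exact h4
      set u := (D' * R) *ᵥ vF with hu
      have hu2 : ∀ i, u (Sum.inr i) = 0 := fun i => by
        have := congrFun h3 (Sum.inl i)
        simpa [J, Matrix.fromBlocks_mulVec] using this
      let w' : Fin h ⊕ Fin h → F := Sum.elim 0 fun i => u (Sum.inl i)
      have hJw : J *ᵥ w' = u := by
        funext i
        rcases i with i | i
        · simp [J, w', Matrix.fromBlocks_mulVec]
        · simp [J, Matrix.fromBlocks_mulVec, hu2]
      let wF := (R' * D) *ᵥ w'
      have hwF : N₀.map F₀.subtype *ᵥ wF = vF := by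
        rw [hN', Matrix.mulVec_mulVec, show R' * (D * J * D') * R * (R' * D) =
          R' * D * J * (D' * (R * R') * D) by simp only [Matrix.mul_assoc], hRR', Matrix.mul_one, hDD.2,
          Matrix.mul_one, ← Matrix.mulVec_mulVec, hJw, hu, Matrix.mulVec_mulVec,
          show R' * D * (D' * R) = R' * (D * D') * R by simp only [Matrix.mul_assoc], hDD.1, Matrix.mul_one, hR',
          Matrix.one_mulVec]
      refine ⟨fun i => π (wF i), funext fun i => ?_⟩
      have h5 := congrArg π (congrFun hwF i)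
      simp only [vF, hπ, Matrix.mulVec, dotProduct, map_sum] at h5
      rw [← h5]
      show ∑ j, N₀ i j * π (wF j) = _
      refine Finset.sum_congr rfl fun j _ => ?_
      rw [Matrix.map_apply, Subfield.subtype_apply, ← smul_eq_mul (N₀ i j), ← map_smul, Subfield.smul_def,
        smul_eq_mul]
    obtain ⟨C, hC, hNC⟩ := exists_standard N₀ hN0 hker
    have hNC' : N₀.map F₀.subtype * C.map F₀.subtype = C.map F₀.subtype * J := by
      rw [← Matrix.map_mul, hNC, Matrix.map_mul]
      congr 1
      simp [J, Matrix.fromBlocks_map]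
    have hcomm : J * (D' * R * C.map F₀.subtype) = D' * R * C.map F₀.subtype * J := by
      have h1 : J * D' * R = D' * R * N₀.map F₀.subtype := by
        rw [Matrix.mul_assoc D' R, ← hmain, ← Matrix.mul_assoc D', ← Matrix.mul_assoc D', ← Matrix.mul_assoc D',
          hDD.2, Matrix.one_mul]
      rw [← Matrix.mul_assoc, ← Matrix.mul_assoc, h1, Matrix.mul_assoc, hNC', ← Matrix.mul_assoc]
    obtain ⟨s, hs⟩ := isSquare_det_of_commute _ hcomm
    rw [Matrix.det_mul, Matrix.det_mul, hRdet, mul_one, ← RingHom.mapMatrix_apply, ← RingHom.map_det] at hs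
    obtain ⟨b, hb⟩ := isSquare_of_quadratic F₀ h2 hF₀ hqk C.det
    have hs' : d⁻¹ * (b * b) = s * s := by
      rw [← hs, ← hb]
      congr 1
      simp [D', Matrix.det_diagonal, Finset.prod_update_of_mem (Finset.mem_univ i₀)]
    have hs0 : s ≠ 0 := fun h0 => by
      rw [h0, mul_zero] at hs'
      exact hC (Subtype.ext (by rw [hb, (mul_eq_zero.1 hs').resolve_left (inv_ne_zero hd0)]; rfl))
    refine hd ⟨b / s, ?_⟩
    field_simp
    field_simp at hs'
    linear_combination -hs'
  · intro hcond x hx hns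
    obtain ⟨l, N, hl, hN, hxN⟩ := Elusive.exists_unipotent (p := 3) (by omega) x hx
    obtain ⟨t, d, T, hd3, hT⟩ := JordanType.exists_chains N 3 hN
    let M₁ : Matrix (JordanType.Idx d) (JordanType.Idx d) F₀ := 1 + JordanType.shift F₀ d
    have hM₁ : M₁.map F₀.subtype = 1 + JordanType.shift F d := by
      ext a b
      by_cases hab : a = b <;> simp [M₁, JordanType.shift_apply, Matrix.one_apply, hab, apply_ite]
    let ε : JordanType.Idx d ≃ Fin n := Fintype.equivFinOfCardEq (by
      have := T.finrank_eq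
      rwa [Module.finrank_pi, Module.finrank_pi, Fintype.card_fin] at this)
    let P0 : Matrix (Fin n) (Fin n) F := LinearMap.toMatrix'
      ((T : (JordanType.Idx d → F) →ₗ[F] (Fin n → F)) ∘ₗ
        (LinearEquiv.funCongrLeft F F ε : (Fin n → F) →ₗ[F] (JordanType.Idx d → F)))
    have hP0 : P0.det ≠ 0 := by
      let Φ := (LinearEquiv.funCongrLeft F F ε).trans T
      have : P0 = LinearMap.toMatrix' (Φ : (Fin n → F) →ₗ[F] (Fin n → F)) := rfl
      rw [this, LinearMap.det_toMatrix']
      exact (LinearEquiv.isUnit_det' Φ).ne_zero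
    have hM2 : ((Matrix.reindex ε ε) M₁).map F₀.subtype = Matrix.reindex ε ε (1 + JordanType.shift F d) := by
      rw [← hM₁]; rfl
    have hxP0 : (x : Matrix (Fin n) (Fin n) F) * P0 =
        P0 * (l • ((Matrix.reindex ε ε) M₁).map F₀.subtype) := by
      rw [hM2]
      refine Matrix.toLin'.injective (LinearMap.ext fun c => ?_)
      rw [Matrix.toLin'_mul, Matrix.toLin'_mul, LinearMap.comp_apply, LinearMap.comp_apply]
      simp only [P0, Matrix.toLin'_toMatrix', LinearMap.comp_apply, LinearEquiv.coe_coe, map_smul,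
        LinearMap.smul_apply]
      rw [hxN, LinearMap.smul_apply, LinearMap.add_apply, Module.End.one_apply, hT, ← map_add]
      congr 2
      funext a
      simp [LinearEquiv.funCongrLeft_apply, LinearMap.funLeft_apply, Matrix.reindex_apply, Matrix.add_mulVec,
        Matrix.mulVec, dotProduct, Matrix.one_apply, ← Equiv.sum_comp ε, Finset.sum_add_distrib, add_mul]
    -- adjusting the determinant
    obtain ⟨u, e₁, he₁, hu⟩ : ∃ (u : Fin t → F) (e₁ : F₀), e₁ ≠ 0 ∧
        (e₁ : F) * ∏ a : JordanType.Idx d, u a.1 = P0.det⁻¹ := by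
      have hprod : ∀ (k₀ : Fin t) (s : F),
          ∏ a : JordanType.Idx d, (Function.update (1 : Fin t → F) k₀ s) a.1 = s ^ d k₀ := fun k₀ s => by
        rw [Fintype.prod_sigma, Finset.prod_eq_single k₀ (fun b _ hb => by simp [Function.update_of_ne hb]) (by simp)]
        simp
      by_cases h13 : ∃ k₀, d k₀ = 1 ∨ d k₀ = 3
      · obtain ⟨k₀, hk₀⟩ := h13
        obtain ⟨s, hs⟩ : ∃ s : F, s ^ d k₀ = P0.det⁻¹ := by
          rcases hk₀ with h' | h'
          · exact ⟨P0.det⁻¹, by rw [h', pow_one]⟩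
          · obtain ⟨s, hs⟩ := surjective_frobenius F 3 P0.det⁻¹
            exact ⟨s, by rw [h']; exact hs⟩
        exact ⟨Function.update 1 k₀ s, 1, one_ne_zero, by rw [hprod, hs]; simp⟩
      · push Not at h13
        have hd02 : ∀ k₀, d k₀ = 0 ∨ d k₀ = 2 := fun k₀ => by
          have := hd3 k₀
          have := h13 k₀
          omega
        have hsum : ∑ k₀, d k₀ = n := by
          have := Fintype.card_congr ε
          simpa [Fintype.card_sigma] using this
        have hev : Even n := hsum ▸ Finset.even_sum _ fun k₀ _ => by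
          rcases hd02 k₀ with h' | h' <;> rw [h'] <;> decide
        have hk2 : 2 < k := (hcond.resolve_left (Nat.not_odd_iff_even.2 hev)).2
        obtain ⟨k₀, hk₀⟩ : ∃ k₀, d k₀ = 2 := by
          by_contra hno
          push Not at hno
          have : ∑ k₀, d k₀ = 0 := Finset.sum_eq_zero fun k₀ _ => (hd02 k₀).resolve_right (hno k₀)
          omega
        obtain ⟨e₁, he₁⟩ := exists_nonsquare_of_odd F₀ h2 hF₀ hqk (hk.odd_of_ne_two (by omega))
        have he0 : (e₁ : F) ≠ 0 := fun h0 => he₁ (h0 ▸ ⟨0, by simp⟩)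
        by_cases hsq : IsSquare P0.det⁻¹
        · obtain ⟨s, hs⟩ := hsq
          exact ⟨Function.update 1 k₀ s, 1, one_ne_zero, by rw [hprod, hk₀, hs]; simp [pow_two]⟩
        · have h' : IsSquare (P0.det⁻¹ / (e₁ : F)) := by
            rw [← quadraticChar_one_iff_isSquare (div_ne_zero (inv_ne_zero hP0) he0), div_eq_mul_inv, map_mul,
              (quadraticChar_neg_one_iff_not_isSquare).2 hsq,
              (quadraticChar_neg_one_iff_not_isSquare (a := (e₁ : F)⁻¹)).2 (fun h' => he₁ (by simpa using h'.inv))]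
            norm_num
          obtain ⟨s, hs⟩ := h'
          refine ⟨Function.update 1 k₀ s, e₁, fun h0 => he0 (by rw [h0]; rfl), ?_⟩
          rw [hprod, hk₀, pow_two, ← hs, mul_div_cancel₀ _ he0]
    let C₀ : Matrix (Fin n) (Fin n) F₀ := Matrix.diagonal (Function.update 1 (⟨0, by omega⟩ : Fin n) e₁)
    let C₁ : Matrix (Fin n) (Fin n) F₀ := Matrix.diagonal (Function.update 1 (⟨0, by omega⟩ : Fin n) e₁⁻¹)
    have hCC : C₀ * C₁ = 1 := by
      rw [Matrix.diagonal_mul_diagonal, ← Matrix.diagonal_one]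
      congr 1
      funext i
      by_cases hi : i = (⟨0, by omega⟩ : Fin n)
      · subst hi; simp [he₁]
      · simp [Function.update_of_ne hi]
    let W : Matrix (Fin n) (Fin n) F := Matrix.diagonal fun j => u (ε.symm j).1
    let M₂ := Matrix.reindex ε ε M₁
    have hW : W * (l • M₂.map F₀.subtype) = (l • M₂.map F₀.subtype) * W := by
      ext i j
      simp only [W, Matrix.diagonal_mul, Matrix.mul_diagonal, Matrix.smul_apply, Matrix.map_apply, M₂,
        Matrix.reindex_apply, Matrix.submatrix_apply, M₁, Matrix.add_apply, JordanType.shift_apply]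
      by_cases hij : (ε.symm i).1 = (ε.symm j).1
      · rw [show u (ε.symm i).1 = u (ε.symm j).1 from congrArg u hij, mul_comm]
      · have hij' : ε.symm i ≠ ε.symm j := fun h' => hij (by rw [h'])
        simp [hij, Matrix.one_apply_ne hij']
    have hdetP : (P0 * W * C₀.map F₀.subtype).det = 1 := by
      rw [Matrix.det_mul, Matrix.det_mul, ← RingHom.mapMatrix_apply, ← RingHom.map_det]
      have h1 : W.det = ∏ a : JordanType.Idx d, u a.1 := by
        rw [Matrix.det_diagonal]; exact Equiv.prod_comp ε.symm (fun a : JordanType.Idx d => u a.1)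
      have h3 : C₀.det = e₁ := by
        simp [C₀, Matrix.det_diagonal, Finset.prod_update_of_mem (Finset.mem_univ (⟨0, by omega⟩ : Fin n))]
      rw [h1, h3, Subfield.subtype_apply, mul_assoc, mul_comm (∏ a : JordanType.Idx d, u a.1), hu,
        mul_inv_cancel₀ hP0]
    let P : Matrix.SpecialLinearGroup (Fin n) F := ⟨_, hdetP⟩
    refine ⟨P, (Cfsg.Agent.S5964.mem_subfieldSL F₀ _).2 ⟨l, C₁ * M₂ * C₀, hl, ?_⟩⟩
    have hmul : (P : Matrix (Fin n) (Fin n) F) * (l • (C₁ * M₂ * C₀).map F₀.subtype) =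
        (x : Matrix (Fin n) (Fin n) F) * P := by
      show P0 * W * C₀.map F₀.subtype * (l • (C₁ * M₂ * C₀).map F₀.subtype) =
        (x : Matrix (Fin n) (Fin n) F) * (P0 * W * C₀.map F₀.subtype)
      rw [Matrix.mul_smul, Matrix.mul_assoc (P0 * W), ← Matrix.map_mul, ← Matrix.mul_assoc C₀, ← Matrix.mul_assoc C₀,
        hCC, Matrix.one_mul, Matrix.map_mul, ← Matrix.mul_smul, ← Matrix.smul_mul, ← Matrix.mul_assoc (P0 * W),
        Matrix.mul_assoc P0 W, hW, ← Matrix.mul_assoc P0, ← hxP0]
      simp only [Matrix.mul_assoc]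
    rw [Matrix.SpecialLinearGroup.coe_mul, Matrix.SpecialLinearGroup.coe_mul, Matrix.mul_assoc, ← hmul,
      ← Matrix.mul_assoc, ← Matrix.SpecialLinearGroup.coe_mul, inv_mul_cancel, Matrix.SpecialLinearGroup.coe_one,
      Matrix.one_mul]

end Cfsg.Agent.S5966
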