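import Cfsg.Statements.S5967
import Cfsg.Agent.Lib.Elusive.SymplecticType
-- import your own Cfsg.Agent.* helpers here

set_option autoImplicit false
open scoped MatrixGroups
open Cfsg

namespace Cfsg.Agent.S5967

open Cfsg.Agent
open scoped Matrix

/-- Involutions of PSL_n(q) and the symplectic-type subgroups. Here `T = PSL_n(F)` for a field `F` with `q` elements, `n ≥ 4` even, `f` is a nondegenerate alternating form on `F^n`, and `H` is the subgroup of matrices of determinant 1 preserving `f` up to a scalar — a maximal subgroup of type Sp_n(q); Ω is the set of `T`-conjugates of `H` (cosets of `H`), so an element of `T` of prime order `r` (a matrix `x` of determinant 1 with `x^r` scalar, `x` not scalar) fixes a point of Ω when some conjugate of `x` by a matrix of determinant 1 preserves `f` up to a scalar. Suppose the index of `H` is even. Then every involution of `T` is conjugate in `T` into `H` if and only if `(q − 1)_2 ≤ (n)_2`. -/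
theorem result {F : Type*} [Field F] [Fintype F] {p : ℕ} [Fact p.Prime] [CharP F p] {q : ℕ} (hq : Fintype.card F = q)
    (n : ℕ) (hn : 4 ≤ n) (he : Even n) (f : (Fin n → F) → (Fin n → F) → F) (hf : Cfsg.Geo.IsSymplecticForm f)
    (hΩ : 2 ∣ ((Cfsg.Geo.similarityGroup f).comap (Matrix.SpecialLinearGroup.toGL : Matrix.SpecialLinearGroup (Fin n) F →* GL (Fin n) F)).index) :
    (∀ x : Matrix.SpecialLinearGroup (Fin n) F,
      (∃ z : F, ((x ^ 2 : Matrix.SpecialLinearGroup (Fin n) F) : Matrix (Fin n) (Fin n) F) = z • (1 : Matrix (Fin n) (Fin n) F)) →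
      (∀ z : F, (x : Matrix (Fin n) (Fin n) F) ≠ z • (1 : Matrix (Fin n) (Fin n) F)) →
      ∃ P : Matrix.SpecialLinearGroup (Fin n) F, P⁻¹ * x * P ∈ ((Cfsg.Geo.similarityGroup f).comap (Matrix.SpecialLinearGroup.toGL : Matrix.SpecialLinearGroup (Fin n) F →* GL (Fin n) F))) ↔
    padicValNat 2 (q - 1) ≤ padicValNat 2 n := by
  classical
  subst hq
  have hdim : Module.finrank F (Fin n → F) = n := by rw [Module.finrank_pi, Fintype.card_fin]
  constructor
  · intro h
    by_contra hlt
    push Not at hlt
    obtain ⟨x, μ, hx, hns, hμ, h2, hsq, h1⟩ := Elusive.exists_reflection_type (by omega) hlt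
    obtain ⟨P, hP⟩ := h x hx hns
    obtain ⟨c, hc⟩ := hP
    set A : Module.End F (Fin n → F) := Matrix.toLin' (x : Matrix (Fin n) (Fin n) F)
    set R : Module.End F (Fin n → F) := Matrix.toLin' (P : Matrix (Fin n) (Fin n) F)
    set G : Module.End F (Fin n → F) :=
      Matrix.toLin' ((P⁻¹ * x * P : Matrix.SpecialLinearGroup (Fin n) F) : Matrix (Fin n) (Fin n) F)
    have hsim : ∀ u v, f (G u) (G v) = (c : F) * f u v := hc
    have hRG : ∀ v, R (G v) = A (R v) := fun v => by
      simp only [R, G, A, Matrix.toLin'_apply, Matrix.mulVec_mulVec, ← Matrix.SpecialLinearGroup.coe_mul]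
      rw [show P * (P⁻¹ * x * P) = x * P by group]
    have hRinj : Function.Injective R := by
      intro u v huv
      have : ((P⁻¹ * P : Matrix.SpecialLinearGroup (Fin n) F) : Matrix (Fin n) (Fin n) F) *ᵥ u =
          ((P⁻¹ * P : Matrix.SpecialLinearGroup (Fin n) F) : Matrix (Fin n) (Fin n) F) *ᵥ v := by
        rw [Matrix.SpecialLinearGroup.coe_mul, ← Matrix.mulVec_mulVec, ← Matrix.mulVec_mulVec]
        exact congrArg _ huv
      rwa [inv_mul_cancel, Matrix.SpecialLinearGroup.coe_one,
        Matrix.one_mulVec, Matrix.one_mulVec] at this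
    let Re : (Fin n → F) ≃ₗ[F] (Fin n → F) :=
      LinearEquiv.ofBijective R ⟨hRinj, LinearMap.surjective_of_injective hRinj⟩
    have hK := Elusive.isCompl_eigen h2 A hμ hsq
    have hd := Submodule.finrank_add_eq_of_isCompl hK
    rw [h1, hdim] at hd
    set K₁ := (LinearMap.ker (A - μ • LinearMap.id)).comap R with hK₁
    set K₂ := (LinearMap.ker (A + μ • LinearMap.id)).comap R with hK₂
    have hm1 : ∀ v ∈ K₁, G v = μ • v := fun v hv => hRinj (by
      rw [hRG, map_smul]
      simpa [hK₁, sub_eq_zero] using hv)
    have hm2 : ∀ v ∈ K₂, G v = -(μ • v) := fun v hv => hRinj (by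
      rw [hRG, map_neg, map_smul]
      simpa [hK₂, ← eq_neg_iff_add_eq_zero] using hv)
    have hd1 : Module.finrank F K₁ + 1 = n := by
      have : K₁ = (LinearMap.ker (A - μ • LinearMap.id)).map Re.symm.toLinearMap :=
        (Submodule.map_equiv_eq_comap_symm Re.symm _).symm
      rw [this, Re.symm.finrank_map_eq]; exact hd
    have hd2 : Module.finrank F K₂ = 1 := by
      have : K₂ = (LinearMap.ker (A + μ • LinearMap.id)).map Re.symm.toLinearMap :=
        (Submodule.map_equiv_eq_comap_symm Re.symm _).symm
      rw [this, Re.symm.finrank_map_eq]; exact h1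
    by_cases hc1 : (c : F) = μ ^ 2
    · -- the eigenline would be in the radical
      obtain ⟨w, hw, hw0⟩ := Submodule.exists_mem_ne_zero_of_ne_bot (p := K₂) fun e => by
        rw [e, finrank_bot] at hd2; omega
      refine (hf.nondegenerate w hw0).2.elim fun v hv => hv ?_
      obtain ⟨u, rfl⟩ := Re.symm.surjective v
      obtain ⟨a, ha, b, hb, hab⟩ := Submodule.mem_sup.1
        (show u ∈ LinearMap.ker (A - μ • LinearMap.id) ⊔ LinearMap.ker (A + μ • LinearMap.id) by
          rw [hK.sup_eq_top]; trivial)
      have ha' : Re.symm a ∈ K₁ := by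
        rw [hK₁, Submodule.mem_comap]
        rw [show R (Re.symm a) = a from Re.apply_symm_apply a]; exact ha
      have hb' : Re.symm b ∈ K₂ := by
        rw [hK₂, Submodule.mem_comap]
        rw [show R (Re.symm b) = b from Re.apply_symm_apply b]; exact hb
      have hspan : ∀ z ∈ K₂, ∃ s : F, z = s • w := fun z hz => by
        obtain ⟨s, hs⟩ := (finrank_eq_one_iff_of_nonzero' (⟨w, hw⟩ : K₂) (fun e => hw0 (congrArg Subtype.val e))).1
          hd2 ⟨z, hz⟩
        exact ⟨s, (congrArg Subtype.val hs).symm⟩
      obtain ⟨s, hs⟩ := hspan _ hb'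
      have h0 : f w (Re.symm a) = 0 := by
        have := hsim w (Re.symm a)
        rw [hm1 _ ha', hm2 _ hw, ← neg_smul, hf.bilinear.smul_left, hf.bilinear.smul_right, hc1] at this
        have h' : (2 * μ ^ 2) * f w (Re.symm a) = 0 := by linear_combination -this
        exact (mul_eq_zero.1 h').resolve_left (mul_ne_zero h2 (pow_ne_zero 2 hμ))
      rw [← hab, map_add, hf.bilinear.add_right, h0, hs, hf.bilinear.smul_right, hf.alternating]
      ring
    · -- the big eigenspace would be totally isotropic
      set B := TransvMax.toBil hf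
      have hle : K₁ ≤ B.orthogonal K₁ := fun v hv u hu => by
        show f u v = 0
        have := hsim u v
        rw [hm1 _ hv, hm1 _ hu, hf.bilinear.smul_left, hf.bilinear.smul_right] at this
        have h' : (μ ^ 2 - c) * f u v = 0 := by linear_combination this
        exact (mul_eq_zero.1 h').resolve_left (sub_ne_zero.2 (Ne.symm hc1))
      have horth := LinearMap.BilinForm.finrank_orthogonal (TransvMax.toBil_nondeg hf) K₁
      have := Submodule.finrank_mono hle
      rw [horth, hdim] at this
      omega
  · intro hle x hx hns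
    obtain ⟨z, hz⟩ := hx
    set A : Module.End F (Fin n → F) := Matrix.toLin' (x : Matrix (Fin n) (Fin n) F) with hAdef
    have hA : ∀ v, A (A v) = z • v := fun v => by
      rw [Matrix.SpecialLinearGroup.coe_pow, pow_two] at hz
      rw [hAdef, Matrix.toLin'_apply, Matrix.toLin'_apply, Matrix.mulVec_mulVec, hz, Matrix.smul_mulVec,
        Matrix.one_mulVec]
    have hz0 : z ≠ 0 := Elusive.scalar_ne_zero (by omega) x hz
    by_cases hsplit : (2 : F) ≠ 0 ∧ ∃ l : F, z = l ^ 2
    · obtain ⟨h2, l, rfl⟩ := hsplit
      have hl : l ≠ 0 := fun e => hz0 (by rw [e]; ring)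
      have hK := Elusive.isCompl_eigen h2 A hl hA
      have hdet := Elusive.det_split h2 A hl hA
      rw [LinearMap.det_toLin', x.det_coe, hdim] at hdet
      set K₁ := LinearMap.ker (A - l • LinearMap.id)
      set K₂ := LinearMap.ker (A + l • LinearMap.id)
      have hev2 : Even (Module.finrank F K₂) := by
        by_contra hodd
        rw [Nat.not_even_iff_odd] at hodd
        have := Elusive.lt_of_pow_eq_neg_one h2 (by omega : n ≠ 0) (l := l) (by
          rw [hodd.neg_one_pow] at hdet
          linear_combination hdet)
        omega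
      have hsum := Submodule.finrank_add_eq_of_isCompl hK
      rw [hdim] at hsum
      have hev1 : Even (Module.finrank F K₁) :=
        (Nat.even_add.1 (hsum.symm ▸ he : Even (Module.finrank F K₁ + Module.finrank F K₂))).2 hev2
      obtain ⟨a, ha⟩ := hev1
      obtain ⟨b, hb⟩ := hev2
      let bK := ((Module.finBasis F K₁).prod (Module.finBasis F K₂)).map
        (Submodule.prodEquivOfIsCompl K₁ K₂ hK)
      let ε : (Fin (Module.finrank F K₁) ⊕ Fin (Module.finrank F K₂)) ≃ Fin (a + b) ⊕ Fin (a + b) :=
        (Equiv.sumCongr ((finCongr ha).trans finSumFinEquiv.symm) ((finCongr hb).trans finSumFinEquiv.symm)).trans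
          ((Equiv.sumSumSumComm _ _ _ _).trans (Equiv.sumCongr finSumFinEquiv finSumFinEquiv))
      let μ : Fin (a + b) → F := fun j => Sum.elim (fun _ => l) (fun _ => -l) (finSumFinEquiv.symm j)
      have hbK : ∀ k, A (bK k) = Sum.elim (fun _ => l) (fun _ => -l) k • bK k := by
        rintro (i | i)
        · have h := (Module.finBasis F K₁ i).2
          simp only [K₁, LinearMap.mem_ker, LinearMap.sub_apply, LinearMap.smul_apply,
            LinearMap.id_apply, sub_eq_zero] at h
          simpa [bK, Module.Basis.prod_apply] using h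
        · have h := (Module.finBasis F K₂ i).2
          simp only [K₂, LinearMap.mem_ker, LinearMap.add_apply, LinearMap.smul_apply,
            LinearMap.id_apply, ← eq_neg_iff_add_eq_zero] at h
          simpa [bK, Module.Basis.prod_apply, neg_smul] using h
      refine Elusive.exists_conj_similitude (by omega) hf x (d := l ^ 2) hz0
        ⟨a + b, bK.reindex ε, μ, fun _ => 0, fun _ => 0, μ, fun j => ?_, fun j => ?_, fun j => ?_⟩
      · rw [Module.Basis.reindex_apply, zero_smul, add_zero, ← hAdef, hbK]
        congr 1
        rcases hj : finSumFinEquiv.symm j with u | u <;> simp [ε, μ, hj]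
      · rw [Module.Basis.reindex_apply, zero_smul, zero_add, ← hAdef, hbK]
        congr 1
        rcases hj : finSumFinEquiv.symm j with u | u <;> simp [ε, μ, hj]
      · simp only [μ]
        rcases finSumFinEquiv.symm j with u | u <;> simp <;> ring
    · obtain ⟨ι, _, b, π, μ, hπ, hb⟩ := Elusive.exists_monomial_basis A hz0 hA
      have hμμ : ∀ i, μ i * μ (π i) = z := fun i => by
        have h := hA (b i)
        rw [hb, map_smul, hb, hπ, smul_smul] at h
        exact smul_left_injective F (b.ne_zero i) h
      refine Elusive.exists_conj_similitude (by omega) hf x (d := -z) (neg_ne_zero.2 hz0)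
        (Elusive.isPaired_of_monomial A b π μ hπ hb (by
          rw [← Module.finrank_eq_card_basis b, hdim]; exact he) (fun i _ => by rw [hμμ i])
          fun i j hi hj => ?_)
      have hii : μ i * μ i = z := by simpa only [hi] using hμμ i
      have hjj : μ j * μ j = z := by simpa only [hj] using hμμ j
      have h2 : (2 : F) = 0 := by
        by_contra h
        exact hsplit ⟨h, μ i, by rw [← hii, pow_two]⟩
      have hij : μ i = μ j := by
        have : (μ i - μ j) * (μ i - μ j) = 0 := by
          linear_combination hii + hjj + (z - μ i * μ j) * h2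
        exact sub_eq_zero.1 (mul_self_eq_zero.1 this)
      rw [← hij, hii]
      linear_combination z * h2

end Cfsg.Agent.S5967
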