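import Cfsg.Statements.S5968
import Cfsg.Agent.Lib.Elusive.SymplecticType
import Cfsg.Agent.Lib.Elusive.SymplecticPlanes
import Cfsg.Agent.Lib.Forms.SpOrder
import Cfsg.Agent.Lib.LinearGroups.Basic
-- import your own Cfsg.Agent.* helpers here

set_option autoImplicit false
open scoped MatrixGroups
open Cfsg

namespace Cfsg.Agent.S5968

open Cfsg.Agent
open scoped Matrix

section

variable {F : Type*} [Field F] {n : ℕ} {f : (Fin n → F) → (Fin n → F) → F}

/-- A conjugate in the similitude group makes the element a similitude of another form. -/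
theorem transport (hf : Cfsg.Geo.IsSymplecticForm f) (x P : Matrix.SpecialLinearGroup (Fin n) F)
    (hP : P⁻¹ * x * P ∈ (Cfsg.Geo.similarityGroup f).comap
      (Matrix.SpecialLinearGroup.toGL : Matrix.SpecialLinearGroup (Fin n) F →* GL (Fin n) F)) :
    ∃ (B : LinearMap.BilinForm F (Fin n → F)) (l : F), l ≠ 0 ∧ LinearMap.IsAlt B ∧
      (∀ u, (∀ v, B u v = 0) → u = 0) ∧
      ∀ u v, B ((x : Matrix (Fin n) (Fin n) F) *ᵥ u) ((x : Matrix (Fin n) (Fin n) F) *ᵥ v) = l * B u v := by
  obtain ⟨c, hc⟩ := hP
  let Q : Module.End F (Fin n → F) :=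
    Matrix.toLin' ((P⁻¹ : Matrix.SpecialLinearGroup (Fin n) F) : Matrix (Fin n) (Fin n) F)
  refine ⟨(TransvMax.toBil hf).compl₁₂ Q Q, c, c.ne_zero, fun v => hf.alternating _, fun u hu => ?_,
    fun u v => ?_⟩
  · have h1 : Q u = 0 := (TransvMax.toBil_nondeg hf).1 _ fun w => by
      have := hu ((P : Matrix (Fin n) (Fin n) F) *ᵥ w)
      simpa [Q, LinearMap.compl₁₂_apply, Matrix.mulVec_mulVec, Matrix.adjugate_mul,
        ← Matrix.SpecialLinearGroup.coe_mul] using this
    have h2 := congrArg (fun w => (P : Matrix (Fin n) (Fin n) F) *ᵥ w) h1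
    simpa [Q, Matrix.mulVec_mulVec, Matrix.mul_adjugate, ← Matrix.SpecialLinearGroup.coe_mul] using h2
  · have key : ∀ w, Q ((x : Matrix (Fin n) (Fin n) F) *ᵥ w) =
        ((P⁻¹ * x * P : Matrix.SpecialLinearGroup (Fin n) F) : Matrix (Fin n) (Fin n) F) *ᵥ Q w := fun w => by
      simp only [Q, Matrix.toLin'_apply, Matrix.mulVec_mulVec, ← Matrix.SpecialLinearGroup.coe_mul,
        mul_inv_cancel_right]
    show f (Q ((x : Matrix (Fin n) (Fin n) F) *ᵥ u)) (Q ((x : Matrix (Fin n) (Fin n) F) *ᵥ v)) = _
    rw [key, key]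
    exact hc _ _

theorem prod_range_two_mul {M : Type*} [CommMonoid M] (g : ℕ → M) (h : ℕ) :
    ∏ i ∈ Finset.range (2 * h), g i =
      (∏ i ∈ Finset.range h, g (2 * i)) * ∏ i ∈ Finset.range h, g (2 * i + 1) := by
  induction h with
  | zero => simp
  | succ h ih =>
    rw [Nat.mul_succ, Finset.prod_range_succ, Finset.prod_range_succ, ih, Finset.prod_range_succ,
      Finset.prod_range_succ, mul_mul_mul_comm, mul_assoc]

/-- The arithmetic consequence of `r` dividing the index. -/
theorem exists_odd_degree [Fintype F] (hf : Cfsg.Geo.IsSymplecticForm f) {h : ℕ} (hn : n = 2 * h) (hh : 1 ≤ h)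
    {r : ℕ} (hr : r.Prime) (hrq : ¬ r ∣ Fintype.card F)
    (hΩ : r ∣ ((Cfsg.Geo.similarityGroup f).comap
      (Matrix.SpecialLinearGroup.toGL : Matrix.SpecialLinearGroup (Fin n) F →* GL (Fin n) F)).index) :
    ∃ i, 1 ≤ i ∧ i < h ∧ r ∣ Fintype.card F ^ (2 * i + 1) - 1 := by
  classical
  set H := (Cfsg.Geo.similarityGroup f).comap
    (Matrix.SpecialLinearGroup.toGL : Matrix.SpecialLinearGroup (Fin n) F →* GL (Fin n) F)
  obtain ⟨e, he⟩ := FormModel.exists_symp_coords (TransvMax.toBil_alt hf)
    (fun u hu => (TransvMax.toBil_nondeg hf).1 u hu) (m := h)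
    (by rw [Module.finrank_pi, Fintype.card_fin, hn])
  let conj : Matrix.symplecticGroup (Fin h) F → Module.End F (Fin n → F) := fun s =>
    (e : (Fin h ⊕ Fin h → F) →ₗ[F] (Fin n → F)) ∘ₗ Matrix.toLin' (s : Matrix (Fin h ⊕ Fin h) (Fin h ⊕ Fin h) F) ∘ₗ
      (e.symm : (Fin n → F) →ₗ[F] (Fin h ⊕ Fin h → F))
  let φ : Matrix.symplecticGroup (Fin h) F →* Matrix.SpecialLinearGroup (Fin n) F :=
    { toFun := fun s => ⟨LinearMap.toMatrix' (conj s), by
        rw [LinearMap.det_toMatrix', LinearMap.det_conj, LinearMap.det_toLin',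
          SymplecticGroup.det_eq_one s.2]⟩
      map_one' := Subtype.ext (by
        show LinearMap.toMatrix' (conj 1) = 1
        rw [← LinearMap.toMatrix'_id]
        congr 1
        refine LinearMap.ext fun v => ?_
        simp [conj])
      map_mul' := fun s t => Subtype.ext (by
        show LinearMap.toMatrix' (conj (s * t)) = LinearMap.toMatrix' (conj s) * LinearMap.toMatrix' (conj t)
        rw [← LinearMap.toMatrix'_comp]
        congr 1
        refine LinearMap.ext fun v => ?_
        simp [conj, Matrix.mulVec_mulVec]) }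
  have hφ : Function.Injective φ := fun s t hst => by
    have h1 := LinearMap.toMatrix'.injective (congrArg Subtype.val hst)
    refine Subtype.ext (Matrix.toLin'.injective (LinearMap.ext fun v => e.injective ?_))
    have := LinearMap.congr_fun h1 (e v)
    simpa [conj] using this
  have hle : φ.range ≤ H := by
    rintro _ ⟨s, rfl⟩
    refine ⟨1, fun u v => ?_⟩
    show f (LinearMap.toMatrix' (conj s) *ᵥ u) (LinearMap.toMatrix' (conj s) *ᵥ v) = (1 : F) * f u v
    rw [LinearMap.toMatrix'_mulVec, LinearMap.toMatrix'_mulVec, one_mul, ← TransvMax.toBil_apply hf]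
    show TransvMax.toBil hf (e (Matrix.toLin' _ (e.symm u))) (e (Matrix.toLin' _ (e.symm v))) = _
    rw [he, Matrix.toLin'_apply, Matrix.toLin'_apply, (FormsLib.mem_symplectic_iff _).1 s.2, ← he,
      e.apply_symm_apply, e.apply_symm_apply]
    rfl
  have hd : Nat.card (Matrix.symplecticGroup (Fin h) F) * r ∣
      Nat.card (Matrix.SpecialLinearGroup (Fin n) F) := by
    rw [← H.card_mul_index, Nat.card_congr (MonoidHom.ofInjective hφ).toEquiv]
    exact mul_dvd_mul (Subgroup.card_dvd_of_le hle) hΩ
  obtain ⟨t, ht⟩ := hd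
  have h1 := LinGrp.natCard_SL_mul (F := F) n (by omega)
  rw [ht, FormsLib.card_symplecticGroup, hn] at h1
  set q := Fintype.card F
  have hq : 1 < q := Fintype.one_lt_card
  have h2 : ∏ i : Fin (2 * h), (q ^ (2 * h) - q ^ (i : ℕ)) = q ^ (∑ i ∈ Finset.range (2 * h), i) *
      ((∏ i ∈ Finset.range h, (q ^ (2 * i + 1) - 1)) * ∏ i ∈ Finset.range h, (q ^ (2 * (i + 1)) - 1)) := by
    rw [Fin.prod_univ_eq_prod_range (fun i => q ^ (2 * h) - q ^ i),
      show (∏ i ∈ Finset.range h, (q ^ (2 * i + 1) - 1)) * ∏ i ∈ Finset.range h, (q ^ (2 * (i + 1)) - 1) =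
        ∏ i ∈ Finset.range (2 * h), (q ^ (i + 1) - 1) from (prod_range_two_mul (fun i => q ^ (i + 1) - 1) h).symm,
      ← Finset.prod_range_reflect (fun i => q ^ (i + 1) - 1), ← Finset.prod_pow_eq_pow_sum,
      ← Finset.prod_mul_distrib]
    refine Finset.prod_congr rfl fun i hi => ?_
    have := Finset.mem_range.1 hi
    rw [Nat.mul_sub, mul_one, ← pow_add]
    congr 2
    omega
  obtain ⟨g, rfl⟩ : ∃ g, h = g + 1 := ⟨h - 1, by omega⟩
  rw [h2, Finset.prod_range_succ' (fun i => q ^ (2 * i + 1) - 1), mul_zero, zero_add, pow_one] at h1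
  have hpos : 0 < (q - 1) * ∏ i ∈ Finset.range (g + 1), (q ^ (2 * (i + 1)) - 1) :=
    Nat.mul_pos (by omega) (Finset.prod_pos fun i _ => Nat.sub_pos_of_lt (Nat.one_lt_pow (by omega) hq))
  have h3 : q ^ ((g + 1) ^ 2) * t * r =
      q ^ (∑ i ∈ Finset.range (2 * (g + 1)), i) * ∏ i ∈ Finset.range g, (q ^ (2 * (i + 1) + 1) - 1) :=
    Nat.eq_of_mul_eq_mul_left hpos (by linear_combination h1)
  have h4 : r ∣ q ^ (∑ i ∈ Finset.range (2 * (g + 1)), i) *
      ∏ i ∈ Finset.range g, (q ^ (2 * (i + 1) + 1) - 1) := ⟨q ^ ((g + 1) ^ 2) * t, by rw [← h3]; ring⟩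
  obtain ⟨i, hi, h5⟩ := (hr.prime.dvd_finsetProd_iff _).1
    ((hr.dvd_mul.1 h4).resolve_left fun h' => hrq (hr.dvd_of_dvd_pow h'))
  exact ⟨i + 1, by omega, Nat.add_lt_add_right (Finset.mem_range.1 hi) 1, h5⟩

theorem finrank_even_of_nd [FiniteDimensional F (Fin n → F)] {B : LinearMap.BilinForm F (Fin n → F)}
    (hB : LinearMap.IsAlt B) {X : Submodule F (Fin n → F)} (hX : Elusive.Nd B X) :
    Even (Module.finrank F X) := by
  classical
  obtain ⟨𝓟, h1, h2, h3⟩ := Elusive.exists_plane_decomposition (A := 1) hB (fun u v => rfl)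
    (z := 1) (fun v => (one_smul F v).symm) one_ne_zero _ X rfl hX (Submodule.map_id X).le
  have := (Elusive.nd_finset_sup hB id 𝓟 (fun P hP => (h1 P hP).1) h2).2
  rw [h3, Finset.sum_congr rfl fun P hP => show Module.finrank F (id P : Submodule F (Fin n → F)) = 2 from
    (h1 P hP).2.1, Finset.sum_const, smul_eq_mul] at this
  exact this ▸ (even_two.mul_left _)

/-- A form pairing a set of coordinates only with its complement. -/
theorem card_le_of_pairing {B : LinearMap.BilinForm F (Fin n → F)} (hnd : ∀ u, (∀ v, B u v = 0) → u = 0)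
    (S : Finset (Fin n)) (hS : ∀ i ∈ S, ∀ j ∈ S, B (Pi.single i 1) (Pi.single j 1) = 0) :
    S.card ≤ Sᶜ.card := by
  classical
  let E : (S → F) →ₗ[F] (Fin n → F) := (Pi.basisFun F (Fin n)).constr F (fun _ => 0) ∘ₗ 0 +
    LinearMap.pi fun j => if hj : j ∈ S then LinearMap.proj ⟨j, hj⟩ else 0
  have hE : ∀ (a : S → F) j, E a j = if hj : j ∈ S then a ⟨j, hj⟩ else 0 := fun a j => by
    by_cases hj : j ∈ S <;> simp [E, hj]
  let L : (S → F) →ₗ[F] ((↥Sᶜ) → F) := LinearMap.pi fun j => (B.flip (Pi.single (j : Fin n) 1)) ∘ₗ E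
  have hL : Function.Injective L := by
    rw [injective_iff_map_eq_zero]
    intro a ha
    have h1 : E a = 0 := hnd _ fun v => by
      have h0 : B (E a) = 0 := (Pi.basisFun F (Fin n)).ext fun j => by
        rw [Pi.basisFun_apply, LinearMap.zero_apply]
        by_cases hj : j ∈ S
        · have : E a = ∑ i : S, a i • Pi.single (i : Fin n) 1 := funext fun k => by
            rw [hE, Finset.sum_apply]
            by_cases hk : k ∈ S
            · rw [dif_pos hk, Finset.sum_eq_single ⟨k, hk⟩ (fun b _ hb => by
                rw [Pi.smul_apply, Pi.single_eq_of_ne (fun e => hb (Subtype.ext e.symm)), smul_zero]) (by simp)]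
              simp
            · rw [dif_neg hk, Finset.sum_eq_zero fun b _ => by
                rw [Pi.smul_apply, Pi.single_eq_of_ne (fun e : k = (b : Fin n) => hk (e ▸ b.2)), smul_zero]]
          rw [this, map_sum, LinearMap.sum_apply, Finset.sum_eq_zero fun i _ => by
            rw [map_smul, LinearMap.smul_apply, hS _ i.2 j hj, smul_zero]]
        · exact congrFun ha ⟨j, Finset.mem_compl.2 hj⟩
      rw [h0, LinearMap.zero_apply]
    funext i
    have := congrFun h1 i
    rwa [hE, dif_pos i.2] at this
  have := LinearMap.finrank_le_finrank_of_injective hL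
  simpa [Module.finrank_pi, Fintype.card_coe, Finset.card_compl] using this

end

/-- Derangements of odd prime order of PSL_n(q) on the cosets of a symplectic-type subgroup. Here `T = PSL_n(F)` for a field `F` with `q` elements, `n ≥ 4` even, `f` is a nondegenerate alternating form on `F^n`, and `H` is the subgroup of matrices of determinant 1 preserving `f` up to a scalar — a maximal subgroup of type Sp_n(q); Ω is the set of `T`-conjugates of `H` (cosets of `H`), so an element of `T` of prime order `r` (a matrix `x` of determinant 1 with `x^r` scalar, `x` not scalar) fixes a point of Ω when some conjugate of `x` by a matrix of determinant 1 preserves `f` up to a scalar. For every odd prime `r` dividing the index of `H`, with `(n, r) ≠ (6, 3)`, there is an element of `T` of order `r` with no conjugate in `H`. (For `n = 6`, `r = 3` this can fail: when `(q − 1)_3 = 3` every element of order 3 is conjugate into `H`.) -/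
theorem result {F : Type*} [Field F] [Fintype F] {p : ℕ} [Fact p.Prime] [CharP F p] {q : ℕ} (hq : Fintype.card F = q)
    (n : ℕ) (hn : 4 ≤ n) (he : Even n) (f : (Fin n → F) → (Fin n → F) → F) (hf : Cfsg.Geo.IsSymplecticForm f)
    (r : ℕ) [Fact r.Prime] (hr2 : r ≠ 2) (hgap : ¬ (n = 6 ∧ r = 3)) (hΩ : r ∣ ((Cfsg.Geo.similarityGroup f).comap (Matrix.SpecialLinearGroup.toGL : Matrix.SpecialLinearGroup (Fin n) F →* GL (Fin n) F)).index) :
    ∃ x : Matrix.SpecialLinearGroup (Fin n) F,
      (∃ z : F, ((x ^ r : Matrix.SpecialLinearGroup (Fin n) F) : Matrix (Fin n) (Fin n) F) = z • (1 : Matrix (Fin n) (Fin n) F)) ∧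
      (∀ z : F, (x : Matrix (Fin n) (Fin n) F) ≠ z • (1 : Matrix (Fin n) (Fin n) F)) ∧
      ∀ P : Matrix.SpecialLinearGroup (Fin n) F, P⁻¹ * x * P ∉ ((Cfsg.Geo.similarityGroup f).comap (Matrix.SpecialLinearGroup.toGL : Matrix.SpecialLinearGroup (Fin n) F →* GL (Fin n) F)) := by
  classical
  subst hq
  have hrpr := (Fact.out : r.Prime)
  have hr3 : 3 ≤ r := by have := hrpr.two_le; omega
  have h2r : ∀ w : F, w ^ r = 1 → w ^ 2 = 1 → w = 1 := fun w h1 h2 => by
    obtain ⟨k, hk⟩ := hrpr.odd_of_ne_two hr2
    rwa [hk, pow_succ, pow_mul, h2, one_pow, one_mul] at h1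
  by_cases hrp : r = p
  · -- the characteristic: a Jordan block of size three
    subst hrp
    have h2 : (2 : F) ≠ 0 := fun h => hr2 (by
      have := (CharP.cast_eq_zero_iff F r 2).1 (by exact_mod_cast h)
      exact (Nat.prime_dvd_prime_iff_eq hrpr Nat.prime_two).1 this)
    let i0 : Fin n := ⟨0, by omega⟩
    let i1 : Fin n := ⟨1, by omega⟩
    let i2 : Fin n := ⟨2, by omega⟩
    let N : Matrix (Fin n) (Fin n) F := Matrix.single i0 i1 1 + Matrix.single i1 i2 1
    have hN2 : N * N = Matrix.single i0 i2 1 := by
      simp [N, add_mul, mul_add, i0, i1, i2, Fin.ext_iff]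
    have hN3 : N ^ 3 = 0 := by
      rw [pow_succ, pow_two, hN2]
      simp [N, mul_add, i0, i1, i2, Fin.ext_iff]
    have hdet : (1 + N).det = 1 := by
      rw [Matrix.det_of_upperTriangular]
      · refine Finset.prod_eq_one fun i _ => ?_
        simp only [N]
        rw [Matrix.add_apply, Matrix.one_apply_eq, Matrix.add_apply, Matrix.single_apply, Matrix.single_apply,
          if_neg, if_neg, add_zero, add_zero] <;>
        · rintro ⟨h1, h3⟩
          have := congrArg Fin.val (h1.trans h3.symm)
          simp [i0, i1, i2] at this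
      · intro i j hij
        have hlt : j.val < i.val := hij
        simp only [N]
        rw [Matrix.add_apply, Matrix.one_apply_ne (fun e => by simp [e] at hlt), Matrix.add_apply,
          Matrix.single_apply, Matrix.single_apply, if_neg, if_neg, add_zero, add_zero] <;>
        · rintro ⟨rfl, rfl⟩
          simp [i0, i1, i2] at hlt
    haveI : Nonempty (Fin n) := ⟨i0⟩
    let x : Matrix.SpecialLinearGroup (Fin n) F := ⟨1 + N, hdet⟩
    refine ⟨x, ⟨1, ?_⟩, fun z hz => ?_, fun P hP => ?_⟩
    · rw [Matrix.SpecialLinearGroup.coe_pow]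
      show (1 + N) ^ r = _
      rw [add_pow_char_of_commute _ (Commute.one_left N), one_pow, one_smul,
        show r = 3 + (r - 3) by omega, pow_add, hN3, zero_mul, add_zero]
    · have := congrFun (congrFun hz i0) i1
      simp [x, N, Matrix.single_apply, i0, i1, i2, Fin.ext_iff] at this
    obtain ⟨B, l, hl, hBalt, hnd, hsim⟩ := transport hf x P hP
    set A : Module.End F (Fin n → F) := Matrix.toLin' (1 + N)
    have hsim' : ∀ u v, B (A u) (A v) = l * B u v := hsim
    set w : Fin n → F := Pi.single i0 1
    set u0 : Fin n → F := Pi.single i2 1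
    set D : Module.End F (Fin n → F) := A - 1 with hD
    have hAD : ∀ v, A v = v + D v := fun v => by simp [hD]
    have hDN : ∀ v, D v = N *ᵥ v := fun v => by
      simp [hD, A, Matrix.add_mulVec]
    have hDD : ∀ v, D (D v) = v i2 • w := fun v => by
      rw [hDN, hDN, Matrix.mulVec_mulVec, hN2]
      funext j
      simp [w, Matrix.single_mulVec, Pi.single_apply, Function.update_apply]
    have hAw : A w = w := by
      rw [hAD, hDN]
      have : N *ᵥ w = 0 := by
        funext j
        simp [N, w, Matrix.add_mulVec, Matrix.single_apply, i0, i1, i2, Fin.ext_iff]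
      rw [this, add_zero]
    have hl1 : l = 1 := by
      obtain ⟨v, hv⟩ : ∃ v, B w v ≠ 0 := by
        by_contra h
        push Not at h
        have := congrFun (hnd w h) i0
        simp [w] at this
      have hpow : ∀ k : ℕ, ∀ u v, B ((A ^ k) u) ((A ^ k) v) = l ^ k * B u v := by
        intro k
        induction k with
        | zero => simp
        | succ k ih =>
          intro u v
          rw [pow_succ' A, Module.End.mul_apply, Module.End.mul_apply, hsim', ih, pow_succ', mul_assoc]
      have hAr : A ^ r = 1 := by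
        show (Matrix.toLin' (1 + N)) ^ r = 1
        rw [← Matrix.toLin'_pow, add_pow_char_of_commute _ (Commute.one_left N), one_pow,
          show r = 3 + (r - 3) by omega, pow_add, hN3, zero_mul, add_zero, Matrix.toLin'_one]
        rfl
      have h1 := hpow r w v
      rw [hAr, Module.End.one_apply, Module.End.one_apply] at h1
      have h3 : l ^ r = 1 := (mul_eq_right₀ hv).1 h1.symm
      have h4 : frobenius F r l = frobenius F r 1 := by rw [frobenius_def, map_one, h3]
      exact frobenius_inj F r h4
    subst hl1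
    have hone : ∀ u v, B (D u) v = - B (A u) (D v) := fun u v => by
      have := hsim' u v
      rw [one_mul, hAD v, hAD u] at this
      rw [hAD u]
      simp only [map_add, LinearMap.add_apply] at this ⊢
      linear_combination this
    have hcomm : ∀ u, A (D u) = D (A u) := fun u => by simp [hD]
    have htwo : ∀ u v, B (D (D u)) v = B (A (A u)) (D (D v)) := fun u v => by
      rw [hone, hcomm, hone, neg_neg]
    have hinv : ∀ u, B (A u) w = B u w := fun u => by
      conv_lhs => rw [← hAw]
      rw [hsim', one_mul]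
    have hkey : ∀ u v, u i2 * B w v = v i2 * B u w := fun u v => by
      have := htwo u v
      rwa [hDD, hDD, map_smul, LinearMap.smul_apply, map_smul, smul_eq_mul, smul_eq_mul, hinv, hinv] at this
    have hu0 : B u0 w = 0 := by
      have h1 := hkey u0 u0
      simp only [u0, Pi.single_eq_same, one_mul] at h1
      rw [← hBalt.neg] at h1
      have : (2 : F) * B (Pi.single i2 1) w = 0 := by linear_combination -h1
      exact (mul_eq_zero.1 this).resolve_left h2
    have hw0 : w = 0 := hnd w fun v => by
      have h1 := hkey u0 v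
      rw [hu0, mul_zero] at h1
      simpa [u0] using h1
    have := congrFun hw0 i0
    simp [w] at this
  · obtain ⟨h, hnh⟩ := he.two_dvd
    by_cases hi1 : orderOf (Fintype.card F : ZMod r) = 1
    · -- split semisimple element
      obtain ⟨m, rfl⟩ : ∃ m, n = m + 3 := ⟨n - 3, by omega⟩
      obtain ⟨ω₀, hω₀⟩ := exists_prime_orderOf_dvd_card' (G := Fˣ) r (by
        rw [Nat.card_units, Nat.card_eq_fintype_card]
        exact (Nat.modEq_iff_dvd' Fintype.card_pos).1
          ((ZMod.natCast_eq_natCast_iff _ _ _).1 (by rw [Nat.cast_one]; exact (orderOf_eq_one_iff.1 hi1).symm)))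
      set ω : F := (ω₀ : F)
      have hω0 : ω ≠ 0 := ω₀.ne_zero
      have hord : orderOf ω = r := by rw [orderOf_units]; exact hω₀
      have hωr : ω ^ r = 1 := hord ▸ pow_orderOf_eq_one ω
      have hω1 : ω ≠ 1 := fun e => by
        rw [e, orderOf_one] at hord
        omega
      have hωk : ∀ k, ω ^ k = 1 → r ∣ k := fun k hk => hord ▸ orderOf_dvd_of_pow_eq_one hk
      let w : Fin (m + 3) → F := fun i => if i.val < m then 1 else if i.val < m + 2 then ω else (ω ^ 2)⁻¹
      have hdet : (Matrix.diagonal w).det = 1 := by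
        rw [Matrix.det_diagonal, Fin.prod_univ_castSucc, Fin.prod_univ_castSucc, Fin.prod_univ_castSucc]
        simp [w, Fin.val_castSucc, Fin.val_last]
        field_simp
      let x : Matrix.SpecialLinearGroup (Fin (m + 3)) F := ⟨Matrix.diagonal w, hdet⟩
      let ia : Fin (m + 3) := ⟨m, by omega⟩
      let ic : Fin (m + 3) := ⟨m + 2, by omega⟩
      let iz : Fin (m + 3) := ⟨0, by omega⟩
      have hm1 : 1 ≤ m := by omega
      have hwz : w iz = 1 := by simp only [w, iz]; rw [if_pos (by omega)]
      have hwa : w ia = ω := by simp [w, ia]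
      have hwc : w ic = (ω ^ 2)⁻¹ := by simp [w, ic]
      refine ⟨x, ⟨1, ?_⟩, fun z hz => ?_, fun P hP => ?_⟩
      · rw [Matrix.SpecialLinearGroup.coe_pow, one_smul]
        show Matrix.diagonal w ^ r = 1
        rw [Matrix.diagonal_pow, ← Matrix.diagonal_one]
        congr 1
        funext i
        simp only [Pi.pow_apply, w]
        split_ifs
        · rw [one_pow]
        · exact hωr
        · rw [inv_pow, ← pow_mul, mul_comm, pow_mul, hωr, one_pow, inv_one]
      · have h1 := congrFun (congrFun hz iz) iz
        have h3 := congrFun (congrFun hz ia) ia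
        simp [x, hwz, hwa] at h1 h3
        exact hω1 (h3.trans h1.symm)
      obtain ⟨B, l, hl, hBalt, hnd, hsim⟩ := transport hf x P hP
      have hM : ∀ i j, B (Pi.single i 1) (Pi.single j 1) ≠ 0 → w i * w j = l := fun i j hij => by
        have := hsim (Pi.single i 1) (Pi.single j 1)
        simp only [x, Matrix.diagonal_mulVec_single] at this
        rw [show Pi.single i (w i * 1) = w i • (Pi.single i 1 : Fin (m + 3) → F) by
            rw [← Pi.single_smul', smul_eq_mul],
          show Pi.single j (w j * 1) = w j • (Pi.single j 1 : Fin (m + 3) → F) by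
            rw [← Pi.single_smul', smul_eq_mul],
          map_smul, map_smul] at this
        simp only [LinearMap.smul_apply, smul_eq_mul, ← mul_assoc] at this
        exact (mul_comm _ _).trans (mul_right_cancel₀ hij this)
      have hex : ∀ i, ∃ j, j ≠ i ∧ B (Pi.single i 1) (Pi.single j 1) ≠ 0 := fun i => by
        by_contra h
        push Not at h
        have h1 : B (Pi.single i 1) = 0 := (Pi.basisFun F _).ext fun j => by
          rw [Pi.basisFun_apply, LinearMap.zero_apply]
          by_cases e : j = i
          · rw [e]; exact hBalt _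
          · exact h j e
        have := congrFun (hnd _ fun v => by rw [h1, LinearMap.zero_apply]) i
        simp at this
      have hwcase : ∀ i, w i = 1 ∨ w i = ω ∨ i = ic := fun i => by
        simp only [w]
        split_ifs with h1 h2
        · exact Or.inl rfl
        · exact Or.inr (Or.inl rfl)
        · exact Or.inr (Or.inr (Fin.ext (by have := i.2; simp only [ic]; omega)))
      -- the multiplier is `ω⁻²` and `r = 3`
      have hω2 : ω ^ 2 ≠ 1 := fun e => hω1 (h2r ω hωr e)
      obtain ⟨jc, hjc, hBc⟩ := hex ic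
      have hlc : l = (ω ^ 2)⁻¹ ∨ l = ω⁻¹ := by
        rcases hwcase jc with e | e | e
        · left; rw [← hM _ _ hBc, hwc, e, mul_one]
        · right; rw [← hM _ _ hBc, hwc, e]; field_simp
        · exact absurd e hjc
      obtain ⟨jz, hjz, hBz⟩ := hex iz
      have hlz : l = w jz := by rw [← hM _ _ hBz, hwz, one_mul]
      have hl2 : l = (ω ^ 2)⁻¹ := by
        rcases hlc with e | e
        · exact e
        exfalso
        rw [e] at hlz
        rcases hwcase jz with e' | e' | e'
        · rw [e', inv_eq_one] at hlz; exact hω1 hlz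
        · rw [e'] at hlz; exact hω2 (by rw [pow_two]; nth_rw 1 [← hlz]; rw [inv_mul_cancel₀ hω0])
        · rw [e', hwc, inv_inj] at hlz
          exact hω1 (mul_left_cancel₀ hω0 (by rw [mul_one, ← pow_two]; exact hlz.symm))
      obtain ⟨ja, hja, hBa⟩ := hex ia
      have hla : ω * w ja = (ω ^ 2)⁻¹ := by
        have := hM _ _ hBa
        rwa [hwa, hl2] at this
      have hω3 : ω ^ 3 = 1 := by
        rcases hwcase ja with e | e | e
        · rw [e, mul_one] at hla
          rw [pow_succ']
          nth_rw 1 [hla]
          exact inv_mul_cancel₀ (pow_ne_zero _ hω0)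
        · rw [e] at hla
          have : ω ^ 4 = 1 := by
            rw [show (4 : ℕ) = 2 + 2 by rfl, pow_add]
            nth_rw 1 [pow_two]
            rw [hla, inv_mul_cancel₀ (pow_ne_zero _ hω0)]
          exact absurd (h2r _ (by rw [← pow_mul, mul_comm, pow_mul, hωr, one_pow]) (by rw [← pow_mul]; exact this)) hω2
        · rw [e, hwc] at hla
          exact absurd ((mul_eq_right₀ (inv_ne_zero (pow_ne_zero _ hω0))).1 hla) hω1
      obtain rfl : r = 3 := (Nat.prime_dvd_prime_iff_eq hrpr Nat.prime_three).1 (hωk 3 hω3)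
      have hinv2 : (ω ^ 2)⁻¹ = ω := by
        rw [inv_eq_one_div, div_eq_iff (pow_ne_zero _ hω0), ← pow_succ', hω3]
      rw [hinv2] at hl2
      have hw2 : ∀ i : Fin (m + 3), (i.val < m ∧ w i = 1) ∨ (¬ i.val < m ∧ w i = ω) := fun i => by
        by_cases hlt : i.val < m
        · exact Or.inl ⟨hlt, if_pos hlt⟩
        · refine Or.inr ⟨hlt, ?_⟩
          simp only [w, if_neg hlt]
          split_ifs
          exacts [rfl, hinv2]
      set S : Finset (Fin (m + 3)) := Finset.univ.filter fun i => i.val < m
      have hSmem : ∀ i, i ∈ S ↔ i.val < m := fun i => by simp [S]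
      have hScard : S.card = m := Fin.card_filter_val_lt.trans (min_eq_right (by omega))
      have hScc : Sᶜ.card = 3 := by rw [Finset.card_compl, hScard, Fintype.card_fin]; omega
      have c1 := card_le_of_pairing hnd S fun i hi j hj => by
        by_contra hne
        have := hM i j hne
        rcases hw2 i with ⟨-, e1⟩ | ⟨e0, -⟩
        · rcases hw2 j with ⟨-, e2⟩ | ⟨e0, -⟩
          · rw [e1, e2, hl2, one_mul] at this; exact hω1 this.symm
          · exact e0 ((hSmem j).1 hj)
        · exact e0 ((hSmem i).1 hi)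
      have c2 := card_le_of_pairing hnd Sᶜ fun i hi j hj => by
        by_contra hne
        have := hM i j hne
        rw [Finset.mem_compl, hSmem] at hi hj
        rcases hw2 i with ⟨e0, -⟩ | ⟨-, e1⟩
        · exact hi e0
        rcases hw2 j with ⟨e0, -⟩ | ⟨-, e2⟩
        · exact hj e0
        rw [e1, e2, hl2] at this
        exact hω1 ((mul_eq_left₀ hω0).1 this)
      rw [compl_compl, hScard, hScc] at c2
      rw [hScard, hScc] at c1
      exact hgap ⟨by omega, rfl⟩
    · -- a block of odd dimension
      have hq0 := Elusive.orderOf_card_pos (F := F) (p := p) hrp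
      set e := orderOf (Fintype.card F : ZMod r) with hedef
      have hrq : ¬ r ∣ Fintype.card F := fun hd => Elusive.card_cast_ne_zero (F := F) (p := p) hrp
        ((ZMod.natCast_eq_zero_iff _ _).2 hd)
      obtain ⟨i, hi, hih, hdvd⟩ := exists_odd_degree hf hnh (by omega) hrpr hrq hΩ
      have hed : e ∣ 2 * i + 1 := orderOf_dvd_of_pow_eq_one (by
        have := (ZMod.natCast_eq_zero_iff _ r).2 hdvd
        rw [Nat.cast_sub (Nat.one_le_pow _ _ Fintype.card_pos), Nat.cast_pow, Nat.cast_one, sub_eq_zero] at this
        exact this)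
      have heodd : Odd e := Odd.of_dvd_nat ⟨i, rfl⟩ hed
      have hen : e ≤ n := (Nat.le_of_dvd (by omega) hed).trans (by omega)
      obtain ⟨x, hx, hns, hfix⟩ := Elusive.exists_fixed_blocks (F := F) hrp (n := n)
        (show 2 ≤ orderOf (Fintype.card F : ZMod r) by omega) (j := 1) le_rfl (by omega)
      refine ⟨x, ⟨1, hx⟩, hns, fun P hP => ?_⟩
      obtain ⟨B, l, hl, hBalt, hnd, hsim⟩ := transport hf x P hP
      set A : Module.End F (Fin n → F) := Matrix.toLin' (x : Matrix (Fin n) (Fin n) F)
      have hsim' : ∀ u v, B (A u) (A v) = l * B u v := hsim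
      have hAr : A ^ r = 1 := by rw [Elusive.toLin'_pow_eq x hx, one_smul]
      have hl1 : l = 1 := by
        have hpow : ∀ k : ℕ, ∀ u v, B ((A ^ k) u) ((A ^ k) v) = l ^ k * B u v := by
          intro k
          induction k with
          | zero => simp
          | succ k ih =>
            intro u v
            rw [pow_succ' A, Module.End.mul_apply, Module.End.mul_apply, hsim', ih, pow_succ', mul_assoc]
        let i0 : Fin n := ⟨0, by omega⟩
        obtain ⟨v, hv⟩ : ∃ v, B (Pi.single i0 1) v ≠ 0 := by
          by_contra h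
          push Not at h
          have := congrFun (hnd _ h) i0
          simp at this
        refine Elusive.eq_one_of_pow_eq_one (r := r) hi1 ((mul_eq_right₀ hv).1 ?_)
        have := hpow r (Pi.single i0 1) v
        rw [hAr, Module.End.one_apply, Module.End.one_apply] at this
        exact this.symm
      subst hl1
      set Fx := Elusive.fixedSpace A
      set R := LinearMap.range (A - 1)
      have hker : LinearMap.ker (A - 1) = Fx := by
        ext v
        simp [Fx, Elusive.mem_fixedSpace, sub_eq_zero]
      have horth : ∀ u ∈ Fx, ∀ v ∈ R, B u v = 0 := by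
        rintro u hu _ ⟨w, rfl⟩
        have := hsim' u w
        rw [Elusive.mem_fixedSpace.1 hu, one_mul] at this
        rw [LinearMap.sub_apply, Module.End.one_apply, map_sub, this, sub_self]
      have hinf : Fx ⊓ R = ⊥ := by
        rw [Submodule.eq_bot_iff]
        rintro v ⟨hv, w, hw⟩
        have hfixv := Elusive.mem_fixedSpace.1 hv
        have hk : ∀ k : ℕ, (A ^ k) w = w + (k : F) • v := by
          intro k
          induction k with
          | zero => simp
          | succ k ih =>
            rw [pow_succ', Module.End.mul_apply, ih, map_add, map_smul, hfixv, ← hw]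
            simp only [LinearMap.sub_apply, Module.End.one_apply, Nat.cast_succ]
            module
        have := hk r
        rw [hAr, Module.End.one_apply, left_eq_add, smul_eq_zero] at this
        exact this.resolve_left (Elusive.natCast_prime_ne_zero (F := F) (p := p) hrp)
      have hrk := LinearMap.finrank_range_add_finrank_ker (A - 1)
      rw [hker, Module.finrank_pi, Fintype.card_fin] at hrk
      have hR : Module.finrank F R = e := by
        have : Module.finrank F Fx = n - 1 * e := hfix
        rw [one_mul] at this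
        show Module.finrank F (LinearMap.range (A - 1)) = e
        omega
      have hsup : Fx ⊔ R = ⊤ := by
        refine Submodule.eq_top_of_finrank_eq ?_
        have := Submodule.finrank_sup_add_finrank_inf_eq Fx R
        rw [hinf, finrank_bot] at this
        rw [Module.finrank_pi, Fintype.card_fin]
        change Module.finrank F R + Module.finrank F Fx = n at hrk
        omega
      have hRnd : Elusive.Nd B R := fun u hu hall => hnd u fun v => by
        obtain ⟨a, ha, b, hb, rfl⟩ := Submodule.mem_sup.1 (hsup ▸ Submodule.mem_top : v ∈ Fx ⊔ R)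
        rw [map_add, hall b hb, add_zero, ← hBalt.neg, horth a ha u hu, neg_zero]
      exact Nat.not_even_iff_odd.2 heodd (hR ▸ finrank_even_of_nd hBalt hRnd)

end Cfsg.Agent.S5968
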