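import Cfsg.Statements.S5969
import Cfsg.Agent.Lib.Elusive.QuadraticExt
import Cfsg.Agent.Lib.Elusive.SingerConj
-- import your own Cfsg.Agent.* helpers here

set_option autoImplicit false
open scoped MatrixGroups
open Cfsg

namespace Cfsg.Agent.S5969

open Cfsg.Agent
open scoped Matrix

variable {F : Type*} [Field F] [Fintype F]

/-- In dimension two a non-scalar map squaring to the identity determines everything up to conjugation
in `SL`, in characteristic two. -/
theorem exists_conj_two [CharP F 2] (A G : Module.End F (Fin 2 → F)) (hA : ∀ v, A (A v) = v)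
    (hG : ∀ v, G (G v) = v) {a : Fin 2 → F} (ha : ∀ c : F, A a ≠ c • a) {g : Fin 2 → F}
    (hg : ∀ c : F, G g ≠ c • g) :
    ∃ P : Matrix.SpecialLinearGroup (Fin 2) F, ∀ v, A (Matrix.toLin' (P : Matrix (Fin 2) (Fin 2) F) v) =
      Matrix.toLin' (P : Matrix (Fin 2) (Fin 2) F) (G v) := by
  classical
  have hli : ∀ (B : Module.End F (Fin 2 → F)) (u : Fin 2 → F), (∀ c : F, B u ≠ c • u) →
      LinearIndependent F ![u, B u] := fun B u hu => by
    rw [LinearIndependent.pair_iff' (fun e => hu 0 (by rw [e, map_zero, smul_zero]))]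
    exact fun c e => hu c e.symm
  let bA := basisOfLinearIndependentOfCardEqFinrank (hli A a ha) (by simp)
  let bG := basisOfLinearIndependentOfCardEqFinrank (hli G g hg) (by simp)
  let Q := (bG.equiv bA (Equiv.refl _) : (Fin 2 → F) ≃ₗ[F] (Fin 2 → F))
  set D := LinearMap.det (Q : (Fin 2 → F) →ₗ[F] (Fin 2 → F)) with hD
  have hD0 : D ≠ 0 := (LinearEquiv.isUnit_det' Q).ne_zero
  obtain ⟨s, hs⟩ := surjective_frobenius F 2 D⁻¹
  rw [frobenius_def] at hs
  let R : Module.End F (Fin 2 → F) := s • (Q : (Fin 2 → F) →ₗ[F] (Fin 2 → F))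
  refine ⟨⟨LinearMap.toMatrix' R, ?_⟩, fun v => ?_⟩
  · rw [LinearMap.det_toMatrix', LinearMap.det_smul, Module.finrank_pi, Fintype.card_fin, hs]
    exact inv_mul_cancel₀ hD0
  · show A (Matrix.toLin' (LinearMap.toMatrix' R) v) = Matrix.toLin' (LinearMap.toMatrix' R) (G v)
    rw [Matrix.toLin'_toMatrix']
    refine LinearMap.congr_fun (f := A ∘ₗ R) (g := R ∘ₗ G) (bG.ext fun k => ?_) v
    have hQ : ∀ k, Q (bG k) = bA k := fun k => by simp [Q]
    have h0 : bA 0 = a := by simp [bA]
    have h1 : bA 1 = A a := by simp [bA]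
    have g0 : bG 0 = g := by simp [bG]
    have g1 : bG 1 = G g := by simp [bG]
    simp only [R, LinearMap.comp_apply, LinearMap.smul_apply, LinearEquiv.coe_coe, map_smul]
    congr 1
    rcases (show k = (0 : Fin 2) ∨ k = (1 : Fin 2) from Fin.exists_fin_two.1 ⟨k, rfl⟩) with rfl | rfl
    · rw [hQ, show G (bG 0) = bG 1 by rw [g0, g1], hQ]
      show A (bA 0) = bA 1
      rw [h0, h1]
    · rw [hQ, show G (bG 1) = bG 0 by rw [g0, g1, hG], hQ]
      show A (bA 1) = bA 0
      rw [h0, h1, hA]

/-- A map commuting or anticommuting with a square root of `d` gives a conjugate in the normaliser. -/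
theorem conj_of_root {n : ℕ} (hn : 0 < n) {K : Subalgebra F (Matrix (Fin n) (Fin n) F)}
    {j : Matrix (Fin n) (Fin n) F} (hjK : j ∈ K) {d : F} (hd : ∀ e : F, e ^ 2 ≠ d) (hjj : j * j = d • 1)
    (hgen : ∀ k ∈ K, ∃ s t : F, k = s • 1 + t • j) (x : Matrix.SpecialLinearGroup (Fin n) F)
    (J : Module.End F (Fin n → F)) (hJ : ∀ v, J (J v) = d • v) {ε : F} (hε : ε ^ 2 = 1)
    (hcomm : ∀ v, Matrix.toLin' (x : Matrix (Fin n) (Fin n) F) (J v) =
      ε • J (Matrix.toLin' (x : Matrix (Fin n) (Fin n) F) v)) :
    ∃ P : Matrix.SpecialLinearGroup (Fin n) F, P⁻¹ * x * P ∈ (Cfsg.Geo.subalgebraNormalizer K).comap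
      (Matrix.SpecialLinearGroup.toGL : Matrix.SpecialLinearGroup (Fin n) F →* GL (Fin n) F) := by
  obtain ⟨P, hP⟩ := Elusive.exists_conj_root hd hn J (Matrix.toLin' j) hJ (fun v => by
    rw [Matrix.toLin'_apply, Matrix.toLin'_apply, Matrix.mulVec_mulVec, hjj, Matrix.smul_mulVec,
      Matrix.one_mulVec])
  refine ⟨P, Elusive.mem_normalizer_of_sign hjK hgen hε ?_⟩
  set y := P⁻¹ * x * P with hy
  show (y : Matrix (Fin n) (Fin n) F) * j = ε • (j * (y : Matrix (Fin n) (Fin n) F))
  refine Matrix.ext_of_mulVec_single fun i => ?_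
  set v : Fin n → F := Pi.single i 1
  rw [← Matrix.mulVec_mulVec, Matrix.smul_mulVec, ← Matrix.mulVec_mulVec]
  set p := (P : Matrix (Fin n) (Fin n) F)
  have hPy : ∀ w : Fin n → F, p *ᵥ ((y : Matrix (Fin n) (Fin n) F) *ᵥ w) =
      (x : Matrix (Fin n) (Fin n) F) *ᵥ (p *ᵥ w) := fun w => by
    rw [Matrix.mulVec_mulVec, Matrix.mulVec_mulVec, ← Matrix.SpecialLinearGroup.coe_mul,
      ← Matrix.SpecialLinearGroup.coe_mul, show P * y = x * P by rw [hy]; group]
  have hP' : ∀ w, J (p *ᵥ w) = p *ᵥ (j *ᵥ w) := fun w => hP w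
  have hinj : ∀ u w : Fin n → F, p *ᵥ u = p *ᵥ w → u = w := fun u w h => by
    have : ((P⁻¹ * P : Matrix.SpecialLinearGroup (Fin n) F) : Matrix (Fin n) (Fin n) F) *ᵥ u =
        ((P⁻¹ * P : Matrix.SpecialLinearGroup (Fin n) F) : Matrix (Fin n) (Fin n) F) *ᵥ w := by
      rw [Matrix.SpecialLinearGroup.coe_mul, ← Matrix.mulVec_mulVec, ← Matrix.mulVec_mulVec, h]
    rwa [inv_mul_cancel, Matrix.SpecialLinearGroup.coe_one, Matrix.one_mulVec, Matrix.one_mulVec] at this
  refine hinj _ _ ?_
  rw [hPy, ← hP', Matrix.mulVec_smul, ← hP', hPy]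
  exact hcomm _

/-- Involutions of PSL_n(q) and extension-field subgroups of degree 2. Here `T = PSL_n(F)` for a field `F` with `q = p^f` elements (`n ≥ 2`, `(n, q) ≠ (2, 2), (2, 3)`), `k` is a prime dividing `n`, `K` is a subalgebra of the `n × n` matrices that is a field of degree `k` over `F` (an extension-field structure F_{q^k} on `F^n`), and `H` is the subgroup of matrices of determinant 1 normalizing `K` — a subgroup of type GL_{n/k}(q^k) (maximal except in some small cases; maximality is not assumed); Ω is the set of cosets of `H` in `T`, so an element of `T` of prime order `r` (a matrix `x` of determinant 1 with `x^r` scalar, `x` not scalar) fixes a point of Ω when some conjugate of `x` by a matrix of determinant 1 normalizes `K`. Take `k = 2` and suppose the index of `H` is even. Then every involution of `T` is conjugate in `T` into `H` if and only if `n = 2`, or `q` is odd and `(q − 1)_2 ≤ (n)_2`. -/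
theorem result {F : Type*} [Field F] [Fintype F] {p : ℕ} [Fact p.Prime] [CharP F p] {q : ℕ} (hq : Fintype.card F = q)
    (n : ℕ) (hn : 2 ≤ n) (hT : (n, q) ≠ (2, 2) ∧ (n, q) ≠ (2, 3))
    (k : ℕ) (hk : k.Prime) (hkn : k ∣ n) (K : Subalgebra F (Matrix (Fin n) (Fin n) F)) (hK : Cfsg.Geo.IsFieldSubalgebra k K) (hk2 : k = 2) (hΩ : 2 ∣ ((Cfsg.Geo.subalgebraNormalizer K).comap (Matrix.SpecialLinearGroup.toGL : Matrix.SpecialLinearGroup (Fin n) F →* GL (Fin n) F)).index) :
    (∀ x : Matrix.SpecialLinearGroup (Fin n) F,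
      (∃ z : F, ((x ^ 2 : Matrix.SpecialLinearGroup (Fin n) F) : Matrix (Fin n) (Fin n) F) = z • (1 : Matrix (Fin n) (Fin n) F)) →
      (∀ z : F, (x : Matrix (Fin n) (Fin n) F) ≠ z • (1 : Matrix (Fin n) (Fin n) F)) →
      ∃ P : Matrix.SpecialLinearGroup (Fin n) F, P⁻¹ * x * P ∈ ((Cfsg.Geo.subalgebraNormalizer K).comap (Matrix.SpecialLinearGroup.toGL : Matrix.SpecialLinearGroup (Fin n) F →* GL (Fin n) F))) ↔
    (n = 2 ∨ (Odd q ∧ padicValNat 2 (q - 1) ≤ padicValNat 2 n)) := by
  classical
  subst hk2 hq
  have hdim : Module.finrank F (Fin n → F) = n := by rw [Module.finrank_pi, Fintype.card_fin]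
  obtain ⟨m, hm⟩ := hkn
  have hchar2 : (2 : F) = 0 ↔ ¬ Odd (Fintype.card F) := by
    obtain ⟨f, hp, hf⟩ := FiniteField.card F p
    rw [hf, Nat.odd_pow_iff f.pos.ne', Nat.not_odd_iff_even, hp.even_iff]
    constructor
    · intro h
      exact ((Nat.prime_dvd_prime_iff_eq hp Nat.prime_two).1
        ((CharP.cast_eq_zero_iff F p 2).1 (by exact_mod_cast h)))
    · rintro rfl
      exact_mod_cast CharP.cast_eq_zero F 2
  constructor
  · intro h
    refine or_iff_not_imp_left.2 fun hn2 => ?_
    have hn4 : 4 ≤ n := by omega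
    by_contra hcond
    obtain ⟨x, μ, hx, hns, hμ, hr⟩ : ∃ (x : Matrix.SpecialLinearGroup (Fin n) F) (μ : F),
        (∃ z : F, ((x ^ 2 : Matrix.SpecialLinearGroup (Fin n) F) : Matrix (Fin n) (Fin n) F) = z • 1) ∧
        (∀ z : F, (x : Matrix (Fin n) (Fin n) F) ≠ z • 1) ∧ μ ≠ 0 ∧
        Module.finrank F (LinearMap.range
          (Matrix.toLin' (x : Matrix (Fin n) (Fin n) F) - μ • LinearMap.id)) = 1 := by
      by_cases hodd : Odd (Fintype.card F)
      · obtain ⟨x, μ, hx, hns, hμ, h2, hsq, h1⟩ := Elusive.exists_reflection_type (by omega : 2 ≤ n)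
          (not_le.1 fun hle => hcond ⟨hodd, hle⟩)
        refine ⟨x, μ, hx, hns, hμ, ?_⟩
        set A : Module.End F (Fin n → F) := Matrix.toLin' (x : Matrix (Fin n) (Fin n) F)
        have hK := Submodule.finrank_add_eq_of_isCompl (Elusive.isCompl_eigen h2 A hμ hsq)
        have hr := LinearMap.finrank_range_add_finrank_ker (A - μ • LinearMap.id)
        rw [h1] at hK
        omega
      · have h2 := hchar2.2 hodd
        haveI : CharP F 2 := CharTwo.of_one_ne_zero_of_two_eq_zero one_ne_zero h2
        let i0 : Fin n := ⟨0, by omega⟩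
        let i1 : Fin n := ⟨1, by omega⟩
        have h01 : i0 ≠ i1 := by simp [i0, i1]
        let E : Matrix (Fin n) (Fin n) F := Matrix.transvection i0 i1 1
        have hEd : E.det = 1 := Matrix.det_transvection_of_ne i0 i1 h01 1
        refine ⟨⟨E, hEd⟩, 1, ⟨1, ?_⟩, fun z hz => ?_, one_ne_zero, ?_⟩
        · change E ^ 2 = _
          rw [pow_two, Matrix.transvection_mul_transvection_same (i := i0) (j := i1) h01, CharTwo.add_self_eq_zero,
            Matrix.transvection_zero, one_smul]
        · have ha := congrFun (congrFun hz i0) i1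
          simp [E, Matrix.transvection, h01] at ha
        · have hrange : LinearMap.range (Matrix.toLin' E - (1 : F) • LinearMap.id) =
              F ∙ (Pi.single i0 1 : Fin n → F) := by
            have happ : ∀ v : Fin n → F, (Matrix.toLin' E - (1 : F) • LinearMap.id : _ →ₗ[F] _) v =
                v i1 • (Pi.single i0 1 : Fin n → F) := fun v => by
              rw [LinearMap.sub_apply, one_smul, LinearMap.id_apply, Matrix.toLin'_apply]
              funext l
              simp [E, Matrix.transvection, Matrix.add_mulVec, Matrix.single_mulVec,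
                Function.update_apply, Pi.single_apply]
            refine le_antisymm ?_ ?_
            · rintro _ ⟨v, rfl⟩
              rw [happ]
              exact Submodule.smul_mem _ _ (Submodule.mem_span_singleton_self _)
            · rw [Submodule.span_singleton_le_iff_mem]
              exact ⟨Pi.single i1 1, by rw [happ]; simp⟩
          rw [show ((⟨E, hEd⟩ : Matrix.SpecialLinearGroup (Fin n) F) : Matrix (Fin n) (Fin n) F) = E from rfl,
            hrange, finrank_span_singleton]
          simp
    obtain ⟨P, hP⟩ := h x hx hns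
    refine Elusive.not_rank_one hn4 hK hP hμ ?_
    let T : (Fin n → F) ≃ₗ[F] (Fin n → F) := Matrix.SpecialLinearGroup.toLin' P⁻¹
    show Module.finrank F (LinearMap.range (Matrix.toLin'
      ((P⁻¹ * x * P : Matrix.SpecialLinearGroup (Fin n) F) : Matrix (Fin n) (Fin n) F) - μ • LinearMap.id)) = 1
    have hrange : LinearMap.range (Matrix.toLin'
        ((P⁻¹ * x * P : Matrix.SpecialLinearGroup (Fin n) F) : Matrix (Fin n) (Fin n) F) - μ • LinearMap.id) =
        (LinearMap.range (Matrix.toLin' (x : Matrix (Fin n) (Fin n) F) - μ • LinearMap.id)).map T.toLinearMap := by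
      have happ : ∀ v, T ((Matrix.toLin' (x : Matrix (Fin n) (Fin n) F) - μ • LinearMap.id :
            Module.End F (Fin n → F)) v) =
          (Matrix.toLin' ((P⁻¹ * x * P : Matrix.SpecialLinearGroup (Fin n) F) : Matrix (Fin n) (Fin n) F) -
            μ • LinearMap.id : Module.End F (Fin n → F)) (T v) := fun v => by
        show (P⁻¹ : Matrix.SpecialLinearGroup (Fin n) F).1 *ᵥ _ = _
        simp only [LinearMap.sub_apply, LinearMap.smul_apply, LinearMap.id_apply, Matrix.toLin'_apply,
          Matrix.mulVec_sub, Matrix.mulVec_smul]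
        show _ = _ *ᵥ ((P⁻¹ : Matrix.SpecialLinearGroup (Fin n) F).1 *ᵥ v) -
          μ • ((P⁻¹ : Matrix.SpecialLinearGroup (Fin n) F).1 *ᵥ v)
        rw [Matrix.mulVec_mulVec, Matrix.mulVec_mulVec, ← Matrix.SpecialLinearGroup.coe_mul,
          ← Matrix.SpecialLinearGroup.coe_mul, show P⁻¹ * x * P * P⁻¹ = P⁻¹ * x by group]
      refine le_antisymm ?_ ?_
      · rintro _ ⟨v, rfl⟩
        refine ⟨_, ⟨T.symm v, rfl⟩, ?_⟩
        rw [LinearEquiv.coe_coe, happ, LinearEquiv.apply_symm_apply]
      · rintro _ ⟨_, ⟨v, rfl⟩, rfl⟩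
        exact ⟨T v, (happ v).symm⟩
    exact (LinearEquiv.ofEq _ _ hrange).finrank_eq.trans (by rw [T.finrank_map_eq, hr])
  · intro hcond x hx hns
    obtain ⟨z, hz⟩ := hx
    set A : Module.End F (Fin n → F) := Matrix.toLin' (x : Matrix (Fin n) (Fin n) F) with hAdef
    have hA : ∀ v, A (A v) = z • v := fun v => by
      rw [Matrix.SpecialLinearGroup.coe_pow, pow_two] at hz
      rw [hAdef, Matrix.toLin'_apply, Matrix.toLin'_apply, Matrix.mulVec_mulVec, hz, Matrix.smul_mulVec,
        Matrix.one_mulVec]
    have hz0 : z ≠ 0 := Elusive.scalar_ne_zero (by omega) x hz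
    by_cases h2 : (2 : F) = 0
    · -- characteristic two: dimension two
      haveI : CharP F 2 := CharTwo.of_one_ne_zero_of_two_eq_zero one_ne_zero h2
      have hn2 : n = 2 := hcond.resolve_right fun h => hchar2.1 h2 h.1
      subst hn2
      obtain ⟨l, hl⟩ := surjective_frobenius F 2 z
      rw [frobenius_def] at hl
      have hl0 : l ≠ 0 := fun e => hz0 (by rw [← hl, e]; ring)
      let B : Module.End F (Fin 2 → F) := l⁻¹ • A
      have hB : ∀ v, B (B v) = v := fun v => by
        simp only [B, LinearMap.smul_apply, map_smul, hA, smul_smul, ← hl]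
        rw [show l⁻¹ * (l⁻¹ * l ^ 2) = 1 by field_simp, one_smul]
      have hxB : Matrix.toLin' (x : Matrix (Fin 2) (Fin 2) F) = l • B := (smul_inv_smul₀ hl0 _).symm
      have hexists : ∀ (C : Module.End F (Fin 2 → F)), (∀ z : F, C ≠ z • 1) →
          ∃ u, ∀ c : F, C u ≠ c • u := by
        intro C hC
        by_contra hno
        push Not at hno
        obtain ⟨a, ha⟩ := LinearMap.exists_eq_smul_id_of_forall_notLinearIndependent (f := C) fun v hli => by
          obtain ⟨c, hc⟩ := hno v
          exact (LinearIndependent.pair_iff' (hli.ne_zero 0)).1 hli c hc.symm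
        exact hC a ha
      obtain ⟨u, hu⟩ := hexists B fun c hc => hns (l * c) (by
        refine Matrix.toLin'.injective ?_
        rw [hxB, hc, map_smul, Matrix.toLin'_one, smul_smul]
        rfl)
      obtain ⟨g, hg, hgn, hgns, -⟩ := Elusive.exists_frobenius_element Nat.prime_two hK
      set G : Module.End F (Fin 2 → F) := Matrix.toLin' (g : Matrix (Fin 2) (Fin 2) F) with hGdef
      have hG : ∀ v, G (G v) = v := fun v => by
        rw [hGdef, Matrix.toLin'_apply, Matrix.toLin'_apply, Matrix.mulVec_mulVec, ← pow_two, hgn,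
          Matrix.one_mulVec]
      obtain ⟨w, hw⟩ := hexists G fun c hc => hgns c (by
        refine Matrix.toLin'.injective ?_
        rw [← hGdef, hc, map_smul, Matrix.toLin'_one]
        rfl)
      obtain ⟨P, hP⟩ := exists_conj_two B G hB hG hu hw
      exact ⟨P, Elusive.conj_mem hg hl0 hxB hP⟩
    · obtain ⟨j, hjK, d, hd, hjj, hgen⟩ := Elusive.exists_sqrt_generator h2 (by omega) hK
      by_cases hsplit : ∃ l : F, z = l ^ 2
      · obtain ⟨l, rfl⟩ := hsplit
        have hl : l ≠ 0 := fun e => hz0 (by rw [e]; ring)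
        have hC := Elusive.isCompl_eigen h2 A hl hA
        have hdet := Elusive.det_split h2 A hl hA
        rw [LinearMap.det_toLin', x.det_coe, hdim] at hdet
        set K₁ := LinearMap.ker (A - l • LinearMap.id)
        set K₂ := LinearMap.ker (A + l • LinearMap.id)
        have hsum := Submodule.finrank_add_eq_of_isCompl hC
        rw [hdim] at hsum
        let bK := ((Module.finBasis F K₁).prod (Module.finBasis F K₂)).map
          (Submodule.prodEquivOfIsCompl K₁ K₂ hC)
        have hbK : ∀ k, A (bK k) = Sum.elim (fun _ => l) (fun _ => -l) k • bK k := by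
          rintro (i | i)
          · have h := (Module.finBasis F K₁ i).2
            simp only [K₁, LinearMap.mem_ker, LinearMap.sub_apply, LinearMap.smul_apply,
              LinearMap.id_apply, sub_eq_zero] at h
            simpa [bK, Module.Basis.prod_apply] using h
          · have h := (Module.finBasis F K₂ i).2
            simp only [K₂, LinearMap.mem_ker, LinearMap.add_apply, LinearMap.smul_apply,
              LinearMap.id_apply, ← eq_neg_iff_add_eq_zero] at h
            simpa [bK, Module.Basis.prod_apply, neg_smul] using h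
        obtain ⟨h, ε, c, hε, hc⟩ : ∃ (h : ℕ) (ε : F) (c : Module.Basis (Fin h ⊕ Fin h) F (Fin n → F)),
            ε ^ 2 = 1 ∧ ∀ i, ∃ e : F, A (c (Sum.inl i)) = e • c (Sum.inl i) ∧
              A (c (Sum.inr i)) = (ε * e) • c (Sum.inr i) := by
          by_cases hev : Even (Module.finrank F K₂)
          · have hev1 : Even (Module.finrank F K₁) :=
              (Nat.even_add.1 (hsum.symm ▸ ⟨m, by omega⟩ :
                Even (Module.finrank F K₁ + Module.finrank F K₂))).2 hev
            obtain ⟨a, ha⟩ := hev1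
            obtain ⟨b, hb⟩ := hev
            let σ : (Fin (Module.finrank F K₁) ⊕ Fin (Module.finrank F K₂)) ≃ Fin (a + b) ⊕ Fin (a + b) :=
              (Equiv.sumCongr ((finCongr ha).trans finSumFinEquiv.symm) ((finCongr hb).trans finSumFinEquiv.symm)).trans
                ((Equiv.sumSumSumComm _ _ _ _).trans (Equiv.sumCongr finSumFinEquiv finSumFinEquiv))
            refine ⟨a + b, 1, bK.reindex σ, one_pow 2, fun i =>
              ⟨Sum.elim (fun _ => l) (fun _ => -l) (finSumFinEquiv.symm i), ?_, ?_⟩⟩
            · rw [Module.Basis.reindex_apply, hbK]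
              congr 1
              rcases hi : finSumFinEquiv.symm i with u | u <;> simp [σ, hi]
            · rw [one_mul, Module.Basis.reindex_apply, hbK]
              congr 1
              rcases hi : finSumFinEquiv.symm i with u | u <;> simp [σ, hi]
          · rw [Nat.not_even_iff_odd] at hev
            have hn2 : n = 2 := hcond.resolve_right fun h => by
              have := Elusive.lt_of_pow_eq_neg_one h2 (by omega : n ≠ 0) (l := l) (by
                rw [hev.neg_one_pow] at hdet
                linear_combination hdet)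
              omega
            have h1 : Module.finrank F K₁ = 1 ∧ Module.finrank F K₂ = 1 := by
              obtain ⟨w, hw⟩ := hev
              omega
            refine ⟨1, -1, bK.reindex (Equiv.sumCongr (finCongr h1.1) (finCongr h1.2)), neg_one_sq,
              fun i => ⟨l, ?_, ?_⟩⟩
            · rw [Module.Basis.reindex_apply, hbK]; simp
            · rw [Module.Basis.reindex_apply, hbK]; simp
        let J : Module.End F (Fin n → F) := c.constr F
          (Sum.elim (fun i => c (Sum.inr i)) fun i => d • c (Sum.inl i))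
        have hJl : ∀ i, J (c (Sum.inl i)) = c (Sum.inr i) := fun i => by simp [J]
        have hJr : ∀ i, J (c (Sum.inr i)) = d • c (Sum.inl i) := fun i => by simp [J]
        refine conj_of_root (by omega) hjK hd hjj hgen x J (fun v => ?_) hε fun v => ?_
        · refine LinearMap.congr_fun (f := J ∘ₗ J) (g := d • LinearMap.id) (c.ext ?_) v
          rintro (i | i) <;> simp [hJl, hJr]
        · refine LinearMap.congr_fun (f := A ∘ₗ J) (g := ε • (J ∘ₗ A)) (c.ext ?_) v
          have hεε : ε * ε = 1 := by rw [← pow_two, hε]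
          rintro (i | i) <;> obtain ⟨e, he1, he2⟩ := hc i <;>
            simp only [LinearMap.comp_apply, LinearMap.smul_apply, hJl, hJr, map_smul, he1, he2, smul_smul]
          congr 1
          linear_combination -d * e * hεε
      · push Not at hsplit
        obtain ⟨s, hs⟩ : ∃ s : F, s ^ 2 * z = d := by
          have hd0 : d ≠ 0 := fun e => hd 0 (by rw [e]; ring)
          have h1 : quadraticChar F z = -1 :=
            quadraticChar_neg_one_iff_not_isSquare.2 fun ⟨b, hb⟩ => hsplit b (by rw [hb, pow_two])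
          have h2' : quadraticChar F d = -1 :=
            quadraticChar_neg_one_iff_not_isSquare.2 fun ⟨b, hb⟩ => hd b (by rw [hb, pow_two])
          obtain ⟨b, hb⟩ := (quadraticChar_one_iff_isSquare (mul_ne_zero hd0 hz0)).1
            (by rw [map_mul, h1, h2']; norm_num)
          exact ⟨b / z, by field_simp; linear_combination -hb⟩
        refine conj_of_root (by omega) hjK hd hjj hgen x (s • A) (fun v => ?_) (one_pow 2) fun v => ?_
        · simp only [LinearMap.smul_apply, map_smul, hA, smul_smul]
          congr 1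
          linear_combination hs
        · simp only [LinearMap.smul_apply, map_smul, one_smul]
          rfl

end Cfsg.Agent.S5969
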