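import Cfsg.Statements.S5970
import Cfsg.Agent.Lib.Elusive.SingerConj
-- import your own Cfsg.Agent.* helpers here

set_option autoImplicit false
open scoped MatrixGroups
open Cfsg

namespace Cfsg.Agent.S5970

open Cfsg.Agent

/-- Elements of order `n` of PSL_n(q), `n` prime, and the normalizer of a Singer cycle. Here `T = PSL_n(F)` for a field `F` with `q = p^f` elements (`n ≥ 2`, `(n, q) ≠ (2, 2), (2, 3)`), `k` is a prime dividing `n`, `K` is a subalgebra of the `n × n` matrices that is a field of degree `k` over `F` (an extension-field structure F_{q^k} on `F^n`), and `H` is the subgroup of matrices of determinant 1 normalizing `K` — a subgroup of type GL_{n/k}(q^k) (maximal except in some small cases; maximality is not assumed); Ω is the set of cosets of `H` in `T`, so an element of `T` of prime order `r` (a matrix `x` of determinant 1 with `x^r` scalar, `x` not scalar) fixes a point of Ω when some conjugate of `x` by a matrix of determinant 1 normalizes `K`. Take `k = n > 3` prime with `n ≠ p` (so `H` is the normalizer of a Singer cycle), and suppose `n` divides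 the index of `H`. Then every element of `T` of order `n` is conjugate in `T` into `H` if and only if the multiplicative order of `q` modulo `n` is `n − 1`. -/
theorem result {F : Type*} [Field F] [Fintype F] {p : ℕ} [Fact p.Prime] [CharP F p] {q : ℕ} (hq : Fintype.card F = q)
    (n : ℕ) (hn : 2 ≤ n) (hT : (n, q) ≠ (2, 2) ∧ (n, q) ≠ (2, 3))
    (k : ℕ) (hk : k.Prime) (hkn : k ∣ n) (K : Subalgebra F (Matrix (Fin n) (Fin n) F)) (hK : Cfsg.Geo.IsFieldSubalgebra k K) (hkn' : k = n) (hn3 : 3 < n) (hnp : n ≠ p) (hΩ : n ∣ ((Cfsg.Geo.subalgebraNormalizer K).comap (Matrix.SpecialLinearGroup.toGL : Matrix.SpecialLinearGroup (Fin n) F →* GL (Fin n) F)).index) :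
    (∀ x : Matrix.SpecialLinearGroup (Fin n) F,
      (∃ z : F, ((x ^ n : Matrix.SpecialLinearGroup (Fin n) F) : Matrix (Fin n) (Fin n) F) = z • (1 : Matrix (Fin n) (Fin n) F)) →
      (∀ z : F, (x : Matrix (Fin n) (Fin n) F) ≠ z • (1 : Matrix (Fin n) (Fin n) F)) →
      ∃ P : Matrix.SpecialLinearGroup (Fin n) F, P⁻¹ * x * P ∈ ((Cfsg.Geo.subalgebraNormalizer K).comap (Matrix.SpecialLinearGroup.toGL : Matrix.SpecialLinearGroup (Fin n) F →* GL (Fin n) F))) ↔
    orderOf (q : ZMod n) = n - 1 := by
  classical
  subst hkn' hq
  haveI : Fact k.Prime := ⟨hk⟩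
  set i := orderOf (Fintype.card F : ZMod k) with hidef
  constructor
  · intro h
    by_contra hi
    have hdvd : i ∣ k - 1 := ZMod.orderOf_dvd_card_sub_one (Elusive.card_cast_ne_zero hnp)
    have hipos : 0 < i := Elusive.orderOf_card_pos hnp
    have hile : i ≤ k - 1 := Nat.le_of_dvd (by omega) hdvd
    obtain ⟨x, μ, hx, hns, h2⟩ : ∃ (x : Matrix.SpecialLinearGroup (Fin k) F) (μ : F),
        (∃ z : F, ((x ^ k : Matrix.SpecialLinearGroup (Fin k) F) : Matrix (Fin k) (Fin k) F) = z • 1) ∧
        (∀ z : F, (x : Matrix (Fin k) (Fin k) F) ≠ z • 1) ∧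
        2 ≤ Module.finrank F (LinearMap.ker
          (Matrix.toLin' (x : Matrix (Fin k) (Fin k) F) - μ • LinearMap.id)) := by
      by_cases hi1 : i = 1
      · obtain ⟨ζ, hζ⟩ := exists_prime_orderOf_dvd_card' (G := Fˣ) k (by
          rw [Nat.card_units, Nat.card_eq_fintype_card]
          exact Elusive.orderOf_card_eq_one_iff.1 hi1)
        have hζk : (ζ : F) ^ k = 1 := by
          rw [← Units.val_pow_eq_pow_val, ← hζ, pow_orderOf_eq_one, Units.val_one]
        have hζ1 : (ζ : F) ≠ 1 := fun e => hk.ne_one (hζ ▸ orderOf_eq_one_iff.2 (Units.ext e))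
        let i0 : Fin k := ⟨0, by omega⟩
        let i1 : Fin k := ⟨1, by omega⟩
        let i2 : Fin k := ⟨2, by omega⟩
        let i3 : Fin k := ⟨3, by omega⟩
        have hne : i0 ≠ i1 := by simp [i0, i1]
        let w : Fin k → F := fun j => if j = i0 then (ζ : F) else if j = i1 then (ζ : F)⁻¹ else 1
        have hdet : (Matrix.diagonal w).det = 1 := by
          rw [Matrix.det_diagonal, Fintype.prod_eq_mul i0 i1 hne (fun j hj => by simp [w, hj.1, hj.2])]
          simp [w, hne.symm]
        refine ⟨(⟨Matrix.diagonal w, hdet⟩ : Matrix.SpecialLinearGroup (Fin k) F), 1, ⟨1, ?_⟩,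
          fun z hz => ?_, ?_⟩
        · change Matrix.diagonal w ^ k = _
          rw [Matrix.diagonal_pow, one_smul, ← Matrix.diagonal_one]
          congr 1
          funext j
          simp only [w, Pi.pow_apply]
          split_ifs with a b
          · exact hζk
          · rw [inv_pow, hζk, inv_one]
          · exact one_pow _
        · have ha := congrFun (congrFun hz i0) i0
          have hb := congrFun (congrFun hz i2) i2
          simp [w, i0, i1, i2] at ha hb
          exact hζ1 (ha.trans hb.symm)
        · have hli : LinearIndependent F (fun j : Fin 2 => (Pi.single (if j = 0 then i2 else i3) 1 : Fin k → F)) :=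
            by
            have h := (Pi.basisFun F (Fin k)).linearIndependent.comp
              (fun j : Fin 2 => if j = 0 then i2 else i3) (by
              intro a b hab
              fin_cases a <;> fin_cases b <;> simp [i2, i3] at hab ⊢)
            simpa [Function.comp_def] using h
          have hle : Submodule.span F (Set.range fun j : Fin 2 =>
              (Pi.single (if j = 0 then i2 else i3) 1 : Fin k → F)) ≤ LinearMap.ker
              (Matrix.toLin' (Matrix.diagonal w) - (1 : F) • LinearMap.id) := by
            rw [Submodule.span_le]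
            rintro _ ⟨j, rfl⟩
            simp only [SetLike.mem_coe, LinearMap.mem_ker, LinearMap.sub_apply, one_smul, LinearMap.id_apply,
              Matrix.toLin'_apply, Matrix.diagonal_mulVec_single]
            fin_cases j <;> simp [w, i0, i1, i2, i3]
          have := Submodule.finrank_mono hle
          rwa [finrank_span_eq_card hli, Fintype.card_fin] at this
      · obtain ⟨x, hx, hns, hfix⟩ := Elusive.exists_fixed_blocks (F := F) (r := k) hnp (n := k)
          (by omega) (j := 1) le_rfl (by omega)
        refine ⟨x, 1, ⟨1, hx⟩, hns, ?_⟩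
        rw [one_smul, ← Module.End.one_eq_id]
        show 2 ≤ Module.finrank F (Elusive.fixedSpace (Matrix.toLin' (x : Matrix (Fin k) (Fin k) F)))
        rw [hfix]
        omega
    obtain ⟨P, hP⟩ := h x hx hns
    exact Elusive.not_conj_of_eigen hk hK x hns h2 P hP
  · intro hi x hx hns
    exact Elusive.conj_of_primitive (by omega) hnp hK hi x hx hns

end Cfsg.Agent.S5970
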