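import Cfsg.Statements.S5971
import Cfsg.Agent.Lib.Elusive.SingerThree
import Cfsg.Agent.Lib.Elusive.JordanElement
-- import your own Cfsg.Agent.* helpers here

set_option autoImplicit false
open scoped MatrixGroups
open Cfsg

namespace Cfsg.Agent.S5971

open Cfsg.Agent

theorem two_ne_one_mod_three : ((2 : ℕ) : ZMod 3) ≠ 1 := by decide

theorem two_sq_mod_three : ((2 : ℕ) : ZMod 3) ^ 2 = 1 := by decide

/-- Elements of order 3 of PSL_3(q) and the normalizer of a Singer cycle. Here `T = PSL_n(F)` for a field `F` with `q = p^f` elements (`n ≥ 2`, `(n, q) ≠ (2, 2), (2, 3)`), `k` is a prime dividing `n`, `K` is a subalgebra of the `n × n` matrices that is a field of degree `k` over `F` (an extension-field structure F_{q^k} on `F^n`), and `H` is the subgroup of matrices of determinant 1 normalizing `K` — a subgroup of type GL_{n/k}(q^k) (maximal except in some small cases; maximality is not assumed); Ω is the set of cosets of `H` in `T`, so an element of `T` of prime order `r` (a matrix `x` of determinant 1 with `x^r` scalar, `x` not scalar) fixes a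 point of Ω when some conjugate of `x` by a matrix of determinant 1 normalizes `K`. Take `n = k = 3` and suppose 3 divides the index of `H`. Then every element of `T` of order 3 is conjugate in `T` into `H` if and only if `q ≡ 4, 7` or `8 (mod 9)`. -/
theorem result {F : Type*} [Field F] [Fintype F] {p : ℕ} [Fact p.Prime] [CharP F p] {q : ℕ} (hq : Fintype.card F = q)
    (n : ℕ) (hn : n = 3) (k : ℕ) (hk : k.Prime) (hkn : k ∣ n) (K : Subalgebra F (Matrix (Fin n) (Fin n) F)) (hK : Cfsg.Geo.IsFieldSubalgebra k K) (hk3 : k = 3) (hΩ : 3 ∣ ((Cfsg.Geo.subalgebraNormalizer K).comap (Matrix.SpecialLinearGroup.toGL : Matrix.SpecialLinearGroup (Fin n) F →* GL (Fin n) F)).index) :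
    (∀ x : Matrix.SpecialLinearGroup (Fin n) F,
      (∃ z : F, ((x ^ 3 : Matrix.SpecialLinearGroup (Fin n) F) : Matrix (Fin n) (Fin n) F) = z • (1 : Matrix (Fin n) (Fin n) F)) →
      (∀ z : F, (x : Matrix (Fin n) (Fin n) F) ≠ z • (1 : Matrix (Fin n) (Fin n) F)) →
      ∃ P : Matrix.SpecialLinearGroup (Fin n) F, P⁻¹ * x * P ∈ ((Cfsg.Geo.subalgebraNormalizer K).comap (Matrix.SpecialLinearGroup.toGL : Matrix.SpecialLinearGroup (Fin n) F →* GL (Fin n) F))) ↔
    (q % 9 = 4 ∨ q % 9 = 7 ∨ q % 9 = 8) := by
  classical
  subst hn hk3 hq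
  haveI : Fact (Nat.Prime 3) := ⟨Nat.prime_three⟩
  set q := Fintype.card F with hq
  have hdim : Module.finrank F (Fin 3 → F) = 3 := by rw [Module.finrank_pi, Fintype.card_fin]
  obtain ⟨f, -, hf⟩ := FiniteField.card F p
  have hp3 : q % 3 = 0 ↔ (3 : ℕ) = p := by
    constructor
    · intro h
      exact (Nat.prime_dvd_prime_iff_eq Nat.prime_three Fact.out).1
        (Nat.prime_three.dvd_of_dvd_pow (by rw [← hf]; exact Nat.dvd_of_mod_eq_zero h))
    · rintro rfl
      rw [hq, hf]
      exact Nat.mod_eq_zero_of_dvd (dvd_pow_self 3 f.pos.ne')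
  have hord : ∀ (a : ℕ), q % 3 = a → (q : ZMod 3) = (a : ZMod 3) := fun a h => by
    rw [← h, ZMod.natCast_mod]
  have hq1 : 1 < q := Fintype.one_lt_card
  constructor
  · intro h
    by_contra hneg
    have key : ∀ x : Matrix.SpecialLinearGroup (Fin 3) F, ∀ μ : F,
        (∃ z : F, ((x ^ 3 : Matrix.SpecialLinearGroup (Fin 3) F) : Matrix (Fin 3) (Fin 3) F) = z • 1) →
        (∀ z : F, (x : Matrix (Fin 3) (Fin 3) F) ≠ z • 1) →
        2 ≤ Module.finrank F (LinearMap.ker
          (Matrix.toLin' (x : Matrix (Fin 3) (Fin 3) F) - μ • LinearMap.id)) → False :=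
      fun x μ hx hns h2 => by
        obtain ⟨P, hP⟩ := h x hx hns
        exact Elusive.not_conj_of_eigen Nat.prime_three hK x hns h2 P hP
    rcases (show q % 3 = 0 ∨ q % 9 = 1 ∨ q % 9 = 2 ∨ q % 9 = 5 by omega) with h0 | h1 | h25
    · -- characteristic three
      obtain rfl := hp3.1 h0
      obtain ⟨t, d, x, e, hμ, hxp, hns, hMe, -⟩ :=
        Elusive.exists_jordan_element (F := F) (p := 3) (n := 3) {2, 1} (by decide) (by decide)
          ⟨2, by decide, by decide⟩
      refine key x 1 ⟨1, hxp⟩ hns ?_
      have hr := Elusive.finrank_range_pow_of_chains _ e hMe 1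
      rw [hμ, pow_one] at hr
      have hrn := LinearMap.finrank_range_add_finrank_ker
        (Matrix.toLin' (x : Matrix (Fin 3) (Fin 3) F) - 1 : Module.End F (Fin 3 → F))
      rw [hr, hdim] at hrn
      rw [one_smul, ← Module.End.one_eq_id]
      norm_num at hrn ⊢
      omega
    · -- nine divides q - 1
      obtain ⟨η, hη⟩ : ∃ η : Fˣ, orderOf η = 9 := by
        obtain ⟨g, hg⟩ := IsCyclic.exists_ofOrder_eq_natCard (α := Fˣ)
        rw [Nat.card_units, Nat.card_eq_fintype_card, ← hq] at hg
        refine ⟨g ^ ((q - 1) / 9), ?_⟩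
        rw [orderOf_pow_of_dvd (by omega) ⟨9, by omega⟩, hg]
        exact Nat.div_eq_of_eq_mul_left (by omega) (by omega)
      have hp9 : (η : F) ^ 9 = 1 := by
        rw [← Units.val_pow_eq_pow_val, ← hη, pow_orderOf_eq_one, Units.val_one]
      have hne : (η : F) ^ 7 ≠ η := fun e => by
        have h6 : η ^ 6 = 1 := Units.ext (by
          rw [Units.val_pow_eq_pow_val, Units.val_one]
          exact mul_right_cancel₀ η.ne_zero (by rw [one_mul, ← pow_succ, e]))
        have := orderOf_dvd_of_pow_eq_one h6
        rw [hη] at this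
        norm_num at this
      let w : Fin 3 → F := ![(η : F), η, (η : F) ^ 7]
      have hdet : (Matrix.diagonal w).det = 1 := by
        rw [Matrix.det_diagonal, Fin.prod_univ_three]
        show (η : F) * η * η ^ 7 = 1
        linear_combination hp9
      refine key (⟨Matrix.diagonal w, hdet⟩ : Matrix.SpecialLinearGroup (Fin 3) F) η ⟨(η : F) ^ 3, ?_⟩
        (fun z hz => ?_) ?_
      · change Matrix.diagonal w ^ 3 = _
        rw [Matrix.diagonal_pow, ← Matrix.diagonal_one, ← Matrix.diagonal_smul]
        congr 1
        funext j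
        fin_cases j <;> simp [w]
        linear_combination ((η : F) ^ 12 + (η : F) ^ 3) * hp9
      · have ha := congrFun (congrFun hz 0) 0
        have hb := congrFun (congrFun hz 2) 2
        simp [w] at ha hb
        exact hne (hb.trans ha.symm)
      · have hli : LinearIndependent F (fun j : Fin 2 => (Pi.single (Fin.castSucc j) 1 : Fin 3 → F)) := by
          have h := (Pi.basisFun F (Fin 3)).linearIndependent.comp Fin.castSucc (Fin.castSucc_injective _)
          simpa [Function.comp_def] using h
        have hle : Submodule.span F (Set.range fun j : Fin 2 => (Pi.single (Fin.castSucc j) 1 : Fin 3 → F)) ≤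
            LinearMap.ker (Matrix.toLin' (Matrix.diagonal w) - (η : F) • LinearMap.id) := by
          rw [Submodule.span_le]
          rintro _ ⟨j, rfl⟩
          simp only [SetLike.mem_coe, LinearMap.mem_ker, LinearMap.sub_apply, LinearMap.smul_apply,
            LinearMap.id_apply, Matrix.toLin'_apply, Matrix.diagonal_mulVec_single]
          fin_cases j <;> simp [w, ← Pi.single_smul']
        have := Submodule.finrank_mono hle
        rwa [finrank_span_eq_card hli, Fintype.card_fin] at this
    · -- the index is prime to three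
      have hp : (3 : ℕ) ≠ p := fun e => by
        have := hp3.2 e
        omega
      obtain ⟨g, hg, hgn, hgns, -⟩ := Elusive.exists_frobenius_element Nat.prime_three hK
      have hi : orderOf (q : ZMod 3) ≠ 1 := by
        rw [Ne, orderOf_eq_one_iff, hord 2 (by omega)]
        exact two_ne_one_mod_three
      have hgdet : (g : Matrix (Fin 3) (Fin 3) F).det = 1 :=
        Elusive.eq_one_of_pow_eq_one (r := 3) hi (by rw [← Matrix.det_pow, hgn, Matrix.det_one])
      let g' : Matrix.SpecialLinearGroup (Fin 3) F := ⟨(g : Matrix (Fin 3) (Fin 3) F), hgdet⟩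
      have hg' : Matrix.SpecialLinearGroup.toGL g' = g := Units.ext rfl
      set H := (Cfsg.Geo.subalgebraNormalizer K).comap
        (Matrix.SpecialLinearGroup.toGL : Matrix.SpecialLinearGroup (Fin 3) F →* GL (Fin 3) F)
      have hgH : g' ∈ H := by rw [Subgroup.mem_comap, hg']; exact hg
      have hord3 : orderOf g' = 3 := by
        refine orderOf_eq_prime (Subtype.ext ?_) fun e => hgns 1 ?_
        · exact (Matrix.SpecialLinearGroup.coe_pow g' 3).trans hgn
        · rw [one_smul]
          exact congrArg Subtype.val e
      have h3H : 3 ∣ Nat.card H := by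
        exact hord3.symm.dvd.trans (Subgroup.orderOf_dvd_natCard H hgH)
      have h9 : 9 ∣ Nat.card (Matrix.SpecialLinearGroup (Fin 3) F) := by
        rw [← Subgroup.card_mul_index H, show (9 : ℕ) = 3 * 3 from rfl]
        exact Nat.mul_dvd_mul h3H hΩ
      have h9' : 9 ∣ Nat.card (GL (Fin 3) F) :=
        h9.trans (Subgroup.card_dvd_of_injective Matrix.SpecialLinearGroup.toGL
          (fun a b e => Subtype.ext (congrArg Units.val e)))
      rw [Matrix.card_GL_field, Fin.prod_univ_three, ← hq, ← ZMod.natCast_eq_zero_iff, Nat.cast_mul,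
        Nat.cast_mul, Nat.cast_sub (Nat.pow_le_pow_right (by omega) (by simp)),
        Nat.cast_sub (Nat.pow_le_pow_right (by omega) (by simp)),
        Nat.cast_sub (Nat.pow_le_pow_right (by omega) (by simp)), Nat.cast_pow, Nat.cast_pow, Nat.cast_pow,
        Nat.cast_pow, ← ZMod.natCast_mod q 9] at h9'
      rcases h25 with e | e <;> rw [e] at h9' <;> revert h9' <;> decide
  · intro hcond x hx hns
    have hp : (3 : ℕ) ≠ p := fun e => by
      have := hp3.2 e
      omega
    by_cases h8 : q % 9 = 8
    · refine Elusive.conj_of_primitive le_rfl hp hK ?_ x hx hns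
      rw [← hq, hord 2 (by omega)]
      exact (orderOf_eq_prime (p := 2) two_sq_mod_three two_ne_one_mod_three : orderOf ((2 : ℕ) : ZMod 3) = 2)
    · have hi1 : orderOf (q : ZMod 3) = 1 := by
        rw [orderOf_eq_one_iff, hord 1 (by omega)]; rfl
      have h3F := Elusive.natCast_prime_ne_zero (F := F) (p := p) (r := 3) hp
      rcases Elusive.scalar_cases (by norm_num) hp x hx with ⟨l, B, hl, hB, hxB⟩ | ⟨c, hc, -, -, -, hdet⟩
      swap
      · norm_num at hdet
        exact absurd (by rw [one_pow, hdet]) (hc 1)
      -- the determinant of `B` is one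
      have hlB : l ^ 3 * LinearMap.det B = 1 := by
        have h := congrArg LinearMap.det hxB
        rw [LinearMap.det_toLin', x.det_coe, LinearMap.det_smul, hdim] at h
        exact h.symm
      have hdB : LinearMap.det B = 1 := by
        have hd3 : LinearMap.det B ^ 3 = 1 := by rw [← map_pow, hB, map_one]
        have hl9 : l ^ 9 = 1 := by
          have h := congrArg (· ^ 3) hlB
          simp only [mul_pow, hd3, mul_one, one_pow, ← pow_mul] at h
          exact h
        have hgcd : Nat.gcd 9 (q - 1) = 3 := by
          refine Nat.dvd_antisymm ?_ (Nat.dvd_gcd (by norm_num) (by omega))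
          have h1 : Nat.gcd 9 (q - 1) ∣ 3 ^ 2 := Nat.gcd_dvd_left 9 (q - 1)
          obtain ⟨j, hj, hje⟩ := (Nat.dvd_prime_pow Nat.prime_three).1 h1
          rw [hje]
          interval_cases j
          · norm_num
          · norm_num
          · have := Nat.gcd_dvd_right 9 (q - 1)
            rw [hje] at this
            omega
        have hl3 := pow_gcd_eq_one.2 ⟨hl9, FiniteField.pow_card_sub_one_eq_one l hl⟩
        rw [← hq, hgcd] at hl3
        rwa [hl3, one_mul] at hlB
      -- shift so that `B` has a fixed vector
      obtain ⟨ω, hω⟩ := exists_prime_orderOf_dvd_card' (G := Fˣ) 3 (by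
        rw [Nat.card_units, Nat.card_eq_fintype_card, ← hq]; omega)
      have hω3 : (ω : F) ^ 3 = 1 := by
        rw [← Units.val_pow_eq_pow_val, ← hω, pow_orderOf_eq_one, Units.val_one]
      have hω1 : (ω : F) - 1 ≠ 0 := sub_ne_zero.2 fun e =>
        Nat.prime_three.ne_one (hω ▸ orderOf_eq_one_iff.2 (Units.ext e))
      have hω2 : 1 + (ω : F) + (ω : F) ^ 2 = 0 :=
        (mul_eq_zero.1 (show ((ω : F) - 1) * (1 + ω + ω ^ 2) = 0 by linear_combination hω3)).resolve_left hω1
      obtain ⟨μ, hμ3, v, hv, hBv⟩ : ∃ μ : F, μ ^ 3 = 1 ∧ ∃ v : Fin 3 → F, v ≠ 0 ∧ B v = μ • v := by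
        by_contra hno
        push Not at hno
        have hinj : ∀ μ : F, μ ^ 3 = 1 → ∀ v, B v - μ • v = 0 → v = 0 := fun μ hμ v h =>
          by_contra fun hv => hno μ hμ v hv (sub_eq_zero.1 h)
        obtain ⟨v, hv⟩ := exists_ne (0 : Fin 3 → F)
        refine hv ?_
        refine hinj 1 (one_pow 3) _ (hinj (ω : F) hω3 _ (hinj ((ω : F) ^ 2)
          (by rw [← pow_mul, mul_comm, pow_mul, hω3, one_pow]) _ ?_))
        have hb : B (B (B v)) = v := by
          have h : (B ^ 3) v = v := by rw [hB]; rfl
          exact h
        simp only [map_sub, map_smul, hb, one_smul]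
        match_scalars <;> first
          | linear_combination hω2
          | linear_combination -hω2
          | linear_combination (ω : F) * hω2
          | linear_combination -(ω : F) * hω2
          | linear_combination hω3
          | linear_combination -hω3
      have hμ0 : μ ≠ 0 := fun e => by rw [e] at hμ3; norm_num at hμ3
      let B' : Module.End F (Fin 3 → F) := μ⁻¹ • B
      have hB' : B' ^ 3 = 1 := by rw [smul_pow, hB, inv_pow, hμ3, inv_one, one_smul]
      have hdB' : LinearMap.det B' = 1 := by
        rw [LinearMap.det_smul, hdB, hdim, inv_pow, hμ3, inv_one, mul_one]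
      have hxB' : Matrix.toLin' (x : Matrix (Fin 3) (Fin 3) F) = (l * μ) • B' := by
        rw [hxB, smul_smul, mul_assoc, mul_inv_cancel₀ hμ0, mul_one]
      have hv' : v ∈ Elusive.fixedSpace B' := Elusive.mem_fixedSpace.2 (by
        rw [LinearMap.smul_apply, hBv, inv_smul_smul₀ hμ0])
      obtain ⟨M, hc, -⟩ := Elusive.exists_invariant_compl B' h3F one_ne_zero (by rw [one_smul, hB'])
        (Elusive.fixedSpace_invariant B')
      have hfixU : ∀ w ∈ Elusive.fixedSpace B', B' w = w := fun w hw => Elusive.mem_fixedSpace.1 hw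
      have hnotscalar : ∀ c : F, (∀ w, B' w = c • w) → False := fun c hcw => hns ((l * μ) * c) (by
        refine Matrix.toLin'.injective (LinearMap.ext fun w => ?_)
        rw [hxB', LinearMap.smul_apply, hcw, smul_smul, map_smul, Matrix.toLin'_one, LinearMap.smul_apply,
          LinearMap.id_apply])
      have hle := Submodule.finrank_le (Elusive.fixedSpace B')
      rw [hdim] at hle
      have hpos : 0 < Module.finrank F (Elusive.fixedSpace B') := Nat.pos_of_ne_zero fun e => hv (by
        rwa [Submodule.finrank_eq_zero.1 e, Submodule.mem_bot] at hv')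
      have hd := Submodule.finrank_add_eq_of_isCompl hc
      rw [hdim] at hd
      have hfix : Module.finrank F (Elusive.fixedSpace B') = 1 := by
        by_contra hne
        rcases (show Module.finrank F (Elusive.fixedSpace B') = 3 ∨ Module.finrank F M = 1 by omega) with e | e
        · refine hnotscalar 1 fun w => ?_
          rw [one_smul]
          refine hfixU w ?_
          rw [Submodule.eq_top_of_finrank_eq (e.trans hdim.symm)]
          trivial
        · obtain ⟨u, hu, hu0⟩ := Submodule.exists_mem_ne_zero_of_ne_bot (p := M) fun e' => by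
            rw [e', finrank_bot] at e; omega
          obtain ⟨M', hc', hM'i⟩ := Elusive.exists_invariant_compl B' h3F one_ne_zero
            (by rw [one_smul, hB']) (Elusive.fixedSpace_invariant B')
          have hd' := Submodule.finrank_add_eq_of_isCompl hc'
          rw [hdim] at hd'
          have e1 : Module.finrank F M' = 1 := by omega
          obtain ⟨⟨u', hu'⟩, -, hspan⟩ := finrank_eq_one_iff'.1 e1
          obtain ⟨c, hc1⟩ := hspan ⟨B' u', hM'i ⟨u', hu', rfl⟩⟩
          have hc1' : c • u' = B' u' := congrArg Subtype.val hc1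
          have hsc : ∀ w ∈ M', B' w = c • w := fun w hw => by
            obtain ⟨a, ha⟩ := hspan ⟨w, hw⟩
            have ha' : a • u' = w := congrArg Subtype.val ha
            rw [← ha', map_smul, ← hc1', smul_comm]
          have := Elusive.det_of_scalar_on_compl B' hc' hfixU hsc
          rw [hdB', e1, pow_one] at this
          refine hnotscalar 1 fun w => ?_
          obtain ⟨a, ha, b, hb, rfl⟩ := Submodule.mem_sup.1
            (show w ∈ Elusive.fixedSpace B' ⊔ M' by rw [hc'.sup_eq_top]; trivial)
          rw [map_add, hfixU a ha, hsc b hb, ← this, one_smul, one_smul]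
      obtain ⟨g, hg, hgn, hgns, v₁, hv₁, hgv₁⟩ := Elusive.exists_frobenius_element Nat.prime_three hK
      have hG : (Matrix.toLin' (g : Matrix (Fin 3) (Fin 3) F) : Module.End F (Fin 3 → F)) ^ 3 = 1 := by
        rw [← Matrix.toLin'_pow, hgn, Matrix.toLin'_one]; rfl
      have hGfix := Elusive.finrank_fixed_eq_one Nat.prime_three hK hg hgns hv₁ hgv₁
      have hR1 : Elusive.IsRegularOrder B' := by
        refine Elusive.isRegularOrder_three hp hB' hfix fun M' c hc' hsc => ?_
        have hd' := Submodule.finrank_add_eq_of_isCompl hc'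
        rw [hdim, hfix] at hd'
        have := Elusive.det_of_scalar_on_compl B' hc' hfixU hsc
        rw [hdB', show Module.finrank F M' = 2 by omega] at this
        obtain ⟨u, hu, hu0⟩ := Submodule.exists_mem_ne_zero_of_ne_bot (p := M') fun e' => by
          rw [e', finrank_bot] at hd'; omega
        have h3 : (B' ^ 3) u = c ^ 3 • u := by
          show B' (B' (B' u)) = _
          rw [hsc u hu, map_smul, hsc u hu, map_smul, map_smul, hsc u hu, smul_smul, smul_smul]
          ring_nf
        rw [hB', Module.End.one_apply] at h3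
        have hc3 : c ^ 3 = 1 := smul_left_injective F hu0 (show c ^ 3 • u = (1 : F) • u by rw [one_smul, ← h3])
        have hc1 : c = 1 := by linear_combination hc3 + c * this
        exact hu0 (Submodule.disjoint_def.1 hc'.disjoint u
          (Elusive.mem_fixedSpace.2 (by rw [hsc u hu, hc1, one_smul])) hu)
      have hR2 : Elusive.IsRegularOrder (Matrix.toLin' (g : Matrix (Fin 3) (Fin 3) F)) := by
        refine Elusive.isRegularOrder_three hp hG hGfix fun M' c hc' hsc => ?_
        have hd' := Submodule.finrank_add_eq_of_isCompl hc'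
        rw [hdim, hGfix] at hd'
        have h2 := Elusive.finrank_eigen_le_one Nat.prime_three hK hg (μ := c) hgns
        have hsub : M' ≤ LinearMap.ker
            (Matrix.toLin' (g : Matrix (Fin 3) (Fin 3) F) - c • LinearMap.id) := fun w hw => by
          rw [LinearMap.mem_ker, LinearMap.sub_apply, LinearMap.smul_apply, LinearMap.id_apply, hsc w hw, sub_self]
        have := Submodule.finrank_mono hsub
        omega
      obtain ⟨P, hP⟩ := hR1.conj (by norm_num) hR2
      exact ⟨P, Elusive.conj_mem hg (mul_ne_zero hl hμ0) hxB' hP⟩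

end Cfsg.Agent.S5971
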