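import Cfsg.Statements.S5972
import Cfsg.Agent.Lib.Elusive.OrthogonalCount
import Cfsg.Agent.Lib.Elusive.OrthogonalWitness
import Cfsg.Agent.Lib.Elusive.SymplecticClassWitness
-- import your own Cfsg.Agent.* helpers here

set_option autoImplicit false
open scoped MatrixGroups
open Cfsg

namespace Cfsg.Agent.S5972

open Cfsg.Agent Module Elusive.FormIso

/-- Passing from the odd dimension to the even one below it. -/
theorem mod_succ_even {n c : ℕ} (hn : Even n) (hc : Even c) (hc0 : 0 < c) :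
    (n + 1) % c = n % c + 1 ∧ (n + 1) / c = n / c := by
  obtain ⟨a, ha⟩ := hn
  obtain ⟨b, rfl⟩ := hc
  have h1 := Nat.div_add_mod n (b + b)
  have h2 := Nat.mod_lt n hc0
  have h3 : n % (b + b) % 2 = 0 := by
    rw [Nat.mod_mod_of_dvd _ ⟨b, (two_mul b).symm⟩]
    omega
  have h4 : n % (b + b) + 1 < b + b := by omega
  have h5 : n + 1 = (n % (b + b) + 1) + (b + b) * (n / (b + b)) := by omega
  exact ⟨by rw [h5, Nat.add_mul_mod_self_left, Nat.mod_eq_of_lt h4],
    by rw [h5, Nat.add_mul_div_left _ _ hc0, Nat.div_eq_of_lt h4, Nat.zero_add]⟩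

section

variable {F : Type*} [Field F] [Fintype F] {d : ℕ}

/-- An involution without invariant totally singular half when `-1` is not a square. -/
theorem exists_bad (h2 : (2 : F) ≠ 0) (hd : 1 ≤ d) (hns : ¬ IsSquare (-1 : F)) :
    ∃ x : GL (Unit ⊕ (Fin d ⊕ Fin d)) F, x ∈ Cfsg.Geo.omegaGL (Cfsg.quadFormOdd d F) ∧ orderOf x = 2 ∧
      ∀ W : Submodule F (Unit ⊕ (Fin d ⊕ Fin d) → F), (∀ w ∈ W, Cfsg.quadFormOdd d F w = 0) →
        W.map (Matrix.toLin' (x : Matrix (Unit ⊕ (Fin d ⊕ Fin d)) (Unit ⊕ (Fin d ⊕ Fin d)) F)) ≤ W →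
        finrank F W < d := by
  classical
  set Q := FormsLib.qOdd d F
  have hQc : ∀ v, Q v = Cfsg.quadFormOdd d F v := fun v => congrFun FormsLib.coe_qOdd v
  have hQ := FormsLib.qOdd_nondeg (m := d) h2
  set B := QuadraticMap.polarBilin Q
  let i₀ : Fin d := ⟨0, hd⟩
  let b : Fin 2 → (Unit ⊕ (Fin d ⊕ Fin d) → F) :=
    ![Pi.single (Sum.inl ()) 1, Pi.single (Sum.inr (Sum.inl i₀)) 1 + Pi.single (Sum.inr (Sum.inr i₀)) 1]
  have hQb : ∀ k, Q (b k) = 1 := fun k => by
    fin_cases k <;> simp [b, Q, FormsLib.qOdd_apply, Pi.single_apply]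
  have horth : QuadraticMap.polar Q (b 0) (b 1) = 0 := by
    simp [b, Q, FormsLib.qOdd_polar, Pi.single_apply]
  have hb : ∀ k l, k ≠ l → QuadraticMap.polar Q (b k) (b l) = 0 := fun k l hkl => by
    fin_cases k <;> fin_cases l <;>
      first
      | exact absurd rfl hkl
      | exact horth
      | exact (QuadraticMap.polar_comm _ _ _).trans horth
  obtain ⟨σ, hσb, hσf, hdick, hspin⟩ :=
    Spinor.exists_neg_on hQ (Spinor.reflGroup_eq_top_of_odd hQ h2) b hb Finset.univ fun k _ => by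
      rw [hQb]; exact one_ne_zero
  have hself : ∀ k, QuadraticMap.polar Q (b k) (b k) = 2 := fun k => by rw [FormsLib.polar_self', hQb, mul_one]
  let co : (Unit ⊕ (Fin d ⊕ Fin d) → F) → Fin 2 → F := fun v k => QuadraticMap.polar Q v (b k) / 2
  have hσ : ∀ v, σ.1 v = v - (2 * co v 0) • b 0 - (2 * co v 1) • b 1 := by
    intro v
    have hfix := hσf (v - co v 0 • b 0 - co v 1 • b 1) fun k _ => by
      rw [QuadraticMap.polar_sub_left, QuadraticMap.polar_sub_left, QuadraticMap.polar_smul_left,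
        QuadraticMap.polar_smul_left, smul_eq_mul, smul_eq_mul]
      fin_cases k
      · show QuadraticMap.polar Q v (b 0) - _ * QuadraticMap.polar Q (b 0) (b 0) - _ * QuadraticMap.polar Q (b 1) (b 0) = 0
        rw [hself, QuadraticMap.polar_comm Q (b 1), horth]
        simp only [co]
        field_simp
        ring
      · show QuadraticMap.polar Q v (b 1) - _ * QuadraticMap.polar Q (b 0) (b 1) - _ * QuadraticMap.polar Q (b 1) (b 1) = 0
        rw [hself, horth]
        simp only [co]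
        field_simp
        ring
    rw [map_sub, map_sub, map_smul, map_smul, hσb 0 (Finset.mem_univ _), hσb 1 (Finset.mem_univ _)] at hfix
    linear_combination (norm := module) hfix
  have hσσ : σ.1 * σ.1 = 1 := LinearEquiv.ext fun v => by
    show σ.1 (σ.1 v) = v
    rw [hσ v, map_sub, map_sub, map_smul, map_smul, hσb 0 (Finset.mem_univ _), hσb 1 (Finset.mem_univ _), hσ v]
    module
  have hne : σ.1 ≠ 1 := fun h => by
    have h1 := hσb 0 (Finset.mem_univ _)
    rw [h] at h1
    have h3 := congrFun h1 (Sum.inl ())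
    simp [b] at h3
    exact h2 (by linear_combination h3)
  refine ⟨TransvMax.glOf σ.1, ?_, ?_, ?_⟩
  · rw [← FormsLib.coe_qOdd]
    exact SymRoot.glOf_mem_omega h2 hQ σ (by rw [hdick]; simp) (hspin.2 (by simp [hQb]))
  · refine orderOf_eq_prime (by rw [pow_two, ← map_mul, hσσ, map_one]) fun h => hne (LinearEquiv.ext fun v => ?_)
    rw [← TransvMax.glOf_mulVec σ.1 v, h]
    simp
  intro W hW hWT
  have hperp : ∀ w ∈ W, ∀ k, co w k = 0 := by
    intro w hw
    have h1 := hWT ⟨w, hw, rfl⟩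
    rw [Matrix.toLin'_apply, TransvMax.glOf_mulVec] at h1
    have h3 := W.smul_mem (2 : F)⁻¹ (W.sub_mem hw h1)
    have hz : (2 : F)⁻¹ • (w - σ.1 w) = co w 0 • b 0 + co w 1 • b 1 := by
      rw [hσ]
      match_scalars <;> field_simp <;> ring
    rw [hz] at h3
    have h4 := hW _ h3
    rw [← hQc, FormsLib.quad_add, QuadraticMap.map_smul, QuadraticMap.map_smul, QuadraticMap.polar_smul_left,
      QuadraticMap.polar_smul_right, horth, hQb, hQb] at h4
    simp only [smul_eq_mul, mul_one, mul_zero, add_zero] at h4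
    have h1' : co w 1 = 0 := by
      by_contra hne'
      exact hns ⟨co w 0 / co w 1, by field_simp; linear_combination -h4⟩
    rw [h1', mul_zero, add_zero] at h4
    intro k
    fin_cases k
    exacts [mul_self_eq_zero.1 h4, h1']
  set P := Submodule.span F ({b 0, b 1} : Set (Unit ⊕ (Fin d ⊕ Fin d) → F))
  have hcoef : ∀ a c : F, B (a • b 0 + c • b 1) (b 0) = a * 2 ∧ B (a • b 0 + c • b 1) (b 1) = c * 2 := fun a c => by
    constructor <;> rw [map_add, map_smul, map_smul, LinearMap.add_apply, LinearMap.smul_apply, LinearMap.smul_apply]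
    · show a * QuadraticMap.polar Q (b 0) (b 0) + c * QuadraticMap.polar Q (b 1) (b 0) = _
      rw [hself, QuadraticMap.polar_comm Q (b 1), horth, mul_zero, add_zero]
    · show a * QuadraticMap.polar Q (b 0) (b 1) + c * QuadraticMap.polar Q (b 1) (b 1) = _
      rw [hself, horth, mul_zero, zero_add]
  have hm0 : b 0 ∈ P := Submodule.subset_span (by simp)
  have hm1 : b 1 ∈ P := Submodule.subset_span (by simp)
  have hP : NdOn B P := by
    intro u hu h
    obtain ⟨a, c, rfl⟩ := Submodule.mem_span_pair.1 hu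
    have ha := (hcoef a c).1.symm.trans (h _ hm0)
    have hc := (hcoef a c).2.symm.trans (h _ hm1)
    simp [(mul_eq_zero.1 ha).resolve_right h2, (mul_eq_zero.1 hc).resolve_right h2]
  have hPd : finrank F P = 2 := by
    have hli : LinearIndependent F ![b 0, b 1] := LinearIndependent.pair_iff.2 fun a c hac => by
      have ha : a * 2 = 0 := (hcoef a c).1.symm.trans (by simp [hac])
      have hc : c * 2 = 0 := (hcoef a c).2.symm.trans (by simp [hac])
      exact ⟨(mul_eq_zero.1 ha).resolve_right h2, (mul_eq_zero.1 hc).resolve_right h2⟩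
    have := finrank_span_eq_card hli
    rwa [Fintype.card_fin, Matrix.range_cons_cons_empty] at this
  have htop : NdOn B ⊤ := fun u _ h => hQ.1 u fun v => h v trivial
  obtain ⟨X', -, -, hX', ho, hsup, -, hd'⟩ := exists_compl (T := (1 : Module.End F _))
    (fun u v h => (Elusive.OrthIso.polar_symm v u).trans h) (fun _ _ => rfl) one_ne_zero (one_pow 1) htop
    le_top hP (Submodule.map_id P).le le_top
  have hWX : W ≤ X' := by
    intro w hw
    have hwm : w ∈ P ⊔ X' := hsup ▸ Submodule.mem_top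
    obtain ⟨p, hp, y, hy, rfl⟩ := Submodule.mem_sup.1 hwm
    have hpP : ∀ k, B p (b k) = 0 := fun k => by
      have h1 := (div_eq_zero_iff.1 (hperp _ hw k)).resolve_right h2
      rw [QuadraticMap.polar_add_left] at h1
      have h3 : QuadraticMap.polar Q y (b k) = 0 := (Elusive.OrthIso.polar_symm y (b k)).trans
        (ho (b k) (by fin_cases k <;> assumption) y hy)
      rwa [h3, add_zero] at h1
    have hp0 : p = 0 := hP p hp fun v hv => by
      have : P ≤ LinearMap.ker (B p) := Submodule.span_le.2 (by rintro z (rfl | rfl) <;> exact hpP _)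
      exact this hv
    simpa [hp0] using hy
  have := Elusive.SpIso.two_mul_finrank_le hX' hWX ((Elusive.OrthIso.orthTo_iff h2).2 fun w hw => by
    rw [hQc]; exact hW w hw)
  rw [hPd, finrank_top, finrank_pi, Fintype.card_sum, Fintype.card_sum, Fintype.card_unit, Fintype.card_fin] at hd'
  omega

/-- Invariant totally singular subspaces of an involution in the derived group. -/
theorem exists_invol (h2 : (2 : F) ≠ 0) (σ : FormsLib.oGroup (FormsLib.qOdd d F)) (hdick : Spinor.dick σ = 1)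
    (hspin : Spinor.spin σ = 1) (hσ2 : ∀ v, σ.1 (σ.1 v) = v) {m : ℕ} (hm : m ≤ d)
    (hcond : m < d ∨ IsSquare (-1 : F)) :
    ∃ W : Submodule F (Unit ⊕ (Fin d ⊕ Fin d) → F), finrank F W = m ∧ (∀ w ∈ W, FormsLib.qOdd d F w = 0) ∧
      ∀ w ∈ W, σ.1 w ∈ W := by
  classical
  let Q := FormsLib.qOdd d F
  have hQ := FormsLib.qOdd_nondeg (m := d) h2
  let B := QuadraticMap.polarBilin Q
  let T : Module.End F (Unit ⊕ (Fin d ⊕ Fin d) → F) := σ.1.toLinearMap
  have hTa : ∀ v, T v = σ.1 v := fun v => rfl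
  have hQσ : ∀ v, Q (σ.1 v) = Q v := σ.2
  have hiso : ∀ u v, B (T u) (T v) = B u v := fun u v => by
    show QuadraticMap.polar Q (σ.1 u) (σ.1 v) = QuadraticMap.polar Q u v
    simp only [QuadraticMap.polar, ← map_add, hQσ]
  have htop : NdOn B ⊤ := fun u _ h => hQ.1 u fun v => h v trivial
  have hdimV : finrank F (Unit ⊕ (Fin d ⊕ Fin d) → F) = 2 * d + 1 := by simp; omega
  obtain ⟨M, -, hMT, hfree, hsup, ho, hM, hK, hdim⟩ :=
    exists_split (T := T) (r := 2) (fun u v h => (Elusive.OrthIso.polar_symm v u).trans h) hiso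
      (by exact_mod_cast h2) (LinearMap.ext fun v => by rw [pow_two, Module.End.mul_apply, hTa, hTa, hσ2]; rfl) htop le_top
  rw [finrank_top, hdimV] at hdim
  set K := ⊤ ⊓ Elusive.fixedSpace T
  have hneg : ∀ v ∈ M, σ.1 v = -v := fun v hv => by
    refine eq_neg_of_add_eq_zero_left (hfree _ (M.add_mem (hMT ⟨v, hv, rfl⟩) hv) ?_)
    rw [map_add, hTa, hTa, hσ2, add_comm]
  have hfix : ∀ v ∈ K, σ.1 v = v := fun v hv => Elusive.mem_fixedSpace.1 hv.2
  have iso' : ∀ (k : ℕ) (X : Submodule F (Unit ⊕ (Fin d ⊕ Fin d) → F)), NdOn B X → k = 0 ∨ 2 * k < finrank F X →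
      ∃ W : Submodule F (Unit ⊕ (Fin d ⊕ Fin d) → F), W ≤ X ∧ OrthTo B W W ∧ finrank F W = k := by
    rintro k X hX (rfl | hk)
    · exact ⟨⊥, bot_le, fun u hu v _ => by simp [(Submodule.mem_bot F).1 hu], finrank_bot F _⟩
    · exact Elusive.OrthIso.exists_isotropic h2 k X hX hk
  -- it suffices to find the two parts
  have build : ∀ U₀ U₁ : Submodule F (Unit ⊕ (Fin d ⊕ Fin d) → F), U₀ ≤ K → U₁ ≤ M → OrthTo B U₀ U₀ → OrthTo B U₁ U₁ →
      finrank F U₀ + finrank F U₁ = m →
      ∃ W : Submodule F (Unit ⊕ (Fin d ⊕ Fin d) → F), finrank F W = m ∧ (∀ w ∈ W, Q w = 0) ∧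
        ∀ w ∈ W, σ.1 w ∈ W := by
    intro U₀ U₁ h0 h1 i0 i1 hd'
    refine ⟨U₀ ⊔ U₁, ?_, (Elusive.OrthIso.orthTo_iff h2).1
      (Elusive.OrthIso.orthTo_sup Elusive.OrthIso.polar_symm i0 i1 fun u hu v hv => ho u (h0 hu) v (h1 hv)), ?_⟩
    · have hinf : U₀ ⊓ U₁ = ⊥ := by
        rw [Submodule.eq_bot_iff]
        rintro v ⟨hv0, hv1⟩
        exact hfree v (h1 hv1) (hfix v (h0 hv0))
      have := Submodule.finrank_sup_add_finrank_inf_eq U₀ U₁
      rw [hinf, finrank_bot] at this
      omega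
    · intro w hw
      obtain ⟨a, ha, b, hb, rfl⟩ := Submodule.mem_sup.1 hw
      rw [map_add, hfix a (h0 ha), hneg b (h1 hb)]
      exact Submodule.add_mem_sup ha (U₁.neg_mem hb)
  by_cases hmd : m < d
  · obtain ⟨U₀, h0, i0, hd0⟩ := iso' (min m ((finrank F K - 1) / 2)) K hK (by omega)
    obtain ⟨U₁, h1, i1, hd1⟩ := iso' (m - min m ((finrank F K - 1) / 2)) M hM (by omega)
    exact build U₀ U₁ h0 h1 i0 i1 (by omega)
  have hsq := hcond.resolve_left hmd
  -- an orthogonal basis of the negated part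
  haveI : Invertible (2 : F) := invertibleOfNonzero h2
  obtain ⟨v, hv⟩ := LinearMap.BilinForm.exists_orthogonal_basis (K := F) (V := M)
    (B := B.compl₁₂ M.subtype M.subtype) ⟨fun x y => by simp only [RingHom.id_apply, LinearMap.compl₁₂_apply]; exact Elusive.OrthIso.polar_symm _ _⟩
  let b : Fin (finrank F M) → (Unit ⊕ (Fin d ⊕ Fin d) → F) := fun i => (v i : _ → F)
  have hb : ∀ i j, i ≠ j → QuadraticMap.polar Q (b i) (b j) = 0 := fun i j hij => hv hij
  have hbne : ∀ i, Q (b i) ≠ 0 := by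
    intro i h0
    refine v.ne_zero i (Subtype.ext (hM _ (v i).2 fun w hw => ?_))
    have : (B.compl₁₂ M.subtype M.subtype) (v i) = 0 := v.ext fun j => by
      show QuadraticMap.polar Q (b i) (b j) = 0
      by_cases hij : i = j
      · subst hij
        rw [FormsLib.polar_self', h0, mul_zero]
      · exact hb i j hij
    exact LinearMap.congr_fun this ⟨w, hw⟩
  obtain ⟨τ, hτb, hτf, hτd, hτs⟩ :=
    Spinor.exists_neg_on hQ (Spinor.reflGroup_eq_top_of_odd hQ h2) b hb Finset.univ fun i _ => hbne i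
  have hτσ : τ = σ := by
    refine Subtype.ext (LinearEquiv.ext fun y => ?_)
    have hy : y ∈ K ⊔ M := hsup ▸ Submodule.mem_top
    obtain ⟨a, ha, c, hc, rfl⟩ := Submodule.mem_sup.1 hy
    have hca : τ.1.toLinearMap ∘ₗ M.subtype = σ.1.toLinearMap ∘ₗ M.subtype := v.ext fun i => by
      show τ.1 (b i) = σ.1 (b i)
      rw [hτb i (Finset.mem_univ _), hneg _ (v i).2]
    rw [map_add, map_add, hτf a fun i _ => ho a ha (b i) (v i).2, hfix a ha]
    exact congrArg (a + ·) (LinearMap.congr_fun hca ⟨c, hc⟩)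
  rw [hτσ] at hτd hτs
  rw [hdick, Finset.card_univ, Fintype.card_fin] at hτd
  obtain ⟨l, hl⟩ : Even (finrank F M) := (neg_one_pow_eq_one_iff_even (by decide : (-1 : ℤˣ) ≠ 1)).1 hτd.symm
  obtain ⟨U₁, h1, i1, hd1⟩ := Elusive.OrthIso.exists_half h2 hsq b hb l Finset.univ
    (by rw [Finset.card_univ, Fintype.card_fin]; omega) (fun i _ => hbne i) (hτs.1 hspin)
  obtain ⟨U₀, h0, i0, hd0⟩ := iso' (m - l) K hK (by omega)
  exact build U₀ U₁ h0 (h1.trans (Submodule.span_le.2 (by rintro _ ⟨i, -, rfl⟩; exact (v i).2))) i0 i1 (by omega)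

end

/-- Elements of prime order of Ω_n(q), n = 2d+1 ≥ 7, q odd, with no fixed totally singular `m`-space. Here `T = Ω_n(q)` is realised as the commutator subgroup of the isometry group of the quadratic form `x₀² + Σ xᵢyᵢ` over the field `F` with `q` elements (it has trivial centre, so its elements of prime order `r` are used directly); let `1 ≤ m ≤ d` and let `r` be a prime dividing the number of totally singular `m`-spaces. For `r ≠ p` let `i` be the multiplicative order of `q` modulo `r`, `c = i` for `i` even and `c = 2i` for `i` odd, and write `k = n mod c`, `ℓ = m mod i`, `n' = ⌊n/i⌋`, `m' = ⌊m/i⌋`, `t = (r−1)/i`. Then every element of `T` of order `r` fixes some totally singular `m`-space if and only if either (i) `r = 2` and (`m < (n−1)/2` or `q ≡ 1 (mod 4)`); or (ii) `r ≠ p` is odd, `i ≤ m`, `k > 2ℓ`, and (`i` is odd or `n' − 2m' ≥ t`). -/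
theorem result {F : Type*} [Field F] [Fintype F] {p : ℕ} [Fact p.Prime] [CharP F p] {q : ℕ} (hq : Fintype.card F = q) (hqodd : Odd q)
    (d m : ℕ) (hd : 3 ≤ d) (hm : 1 ≤ m) (hmd : m ≤ d)
    (r : ℕ) [Fact r.Prime]
    (hrΩ : r ∣ Nat.card {W : Submodule F (Unit ⊕ (Fin d ⊕ Fin d) → F) // Module.finrank F ↥W = m ∧ (∀ w ∈ W, Cfsg.quadFormOdd d F w = 0)})
    (i c : ℕ) (hi : i = orderOf (q : ZMod r)) (hc : c = if Even i then i else 2 * i) :
    (∀ x : GL (Unit ⊕ (Fin d ⊕ Fin d)) F, x ∈ Cfsg.Geo.omegaGL (Cfsg.quadFormOdd d F) → orderOf x = r →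
      ∃ W : Submodule F (Unit ⊕ (Fin d ⊕ Fin d) → F), Module.finrank F ↥W = m ∧ (∀ w ∈ W, Cfsg.quadFormOdd d F w = 0) ∧
        W.map (Matrix.toLin' (x : Matrix (Unit ⊕ (Fin d ⊕ Fin d)) (Unit ⊕ (Fin d ⊕ Fin d)) F)) ≤ W) ↔
    ((r = 2 ∧ (m < d ∨ q % 4 = 1)) ∨
     (r ≠ p ∧ 2 < r ∧ i ≤ m ∧ 2 * (m % i) < (2 * d + 1) % c ∧ (Odd i ∨ (r - 1) / i + 2 * (m / i) ≤ (2 * d + 1) / i))) := by
  classical
  subst hq
  subst hi
  have hrpr := (Fact.out : r.Prime)
  have hppr := (Fact.out : p.Prime)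
  have h20 : (2 : F) ≠ 0 := fun h => by
    have h' : ringChar F = 2 := (ringChar.eq F p).trans ((Nat.prime_dvd_prime_iff_eq hppr Nat.prime_two).1
      ((CharP.cast_eq_zero_iff F p 2).1 (by exact_mod_cast h)))
    have := FiniteField.even_card_of_char_two h'
    rw [Nat.odd_iff] at hqodd
    omega
  have hΩ' := hrΩ
  rw [Elusive.OrthCount.card_eq h20 hmd] at hΩ'
  have hrp : r ≠ p := by
    rintro rfl
    exact Elusive.SpIso.not_dvd_card (F := F) (p := r) hmd hΩ'
  set Q := FormsLib.qOdd d F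
  have hQc : ∀ v, Q v = Cfsg.quadFormOdd d F v := fun v => congrFun FormsLib.coe_qOdd v
  have hQ := FormsLib.qOdd_nondeg (m := d) h20
  set B := QuadraticMap.polarBilin Q
  have htop : NdOn B ⊤ := fun u _ h => hQ.1 u fun v => h v trivial
  have hdimV : finrank F (Unit ⊕ (Fin d ⊕ Fin d) → F) = 2 * d + 1 := by simp; omega
  have pack : ∀ W : Submodule F (Unit ⊕ (Fin d ⊕ Fin d) → F), OrthTo B W W →
      ∀ w ∈ W, Cfsg.quadFormOdd d F w = 0 :=
    fun W hW w hw => (hQc w).symm.trans ((Elusive.OrthIso.orthTo_iff h20).1 hW w hw)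
  -- reading an element of the derived group
  have normal : ∀ x : GL (Unit ⊕ (Fin d ⊕ Fin d)) F, x ∈ Cfsg.Geo.omegaGL (Cfsg.quadFormOdd d F) → orderOf x = r →
      ∃ σ : FormsLib.oGroup Q, Spinor.dick σ = 1 ∧ Spinor.spin σ = 1 ∧
        Matrix.toLin' (x : Matrix (Unit ⊕ (Fin d ⊕ Fin d)) (Unit ⊕ (Fin d ⊕ Fin d)) F) = σ.1.toLinearMap ∧
        (σ.1.toLinearMap : Module.End F (Unit ⊕ (Fin d ⊕ Fin d) → F)) ^ r = 1 := by
    intro x hx ho
    rw [← FormsLib.coe_qOdd] at hx
    obtain ⟨g, hg, hgx⟩ := hx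
    obtain ⟨hd1, hs1⟩ := (OrthRows.mem_omega hQ (Or.inl (Spinor.card_ne_two h20))).1 hg
    have hlin : Matrix.toLin' (x : Matrix (Unit ⊕ (Fin d ⊕ Fin d)) (Unit ⊕ (Fin d ⊕ Fin d)) F) =
        (FormsLib.oEquiv Q g).1.toLinearMap := by
      rw [← hgx]
      rfl
    refine ⟨FormsLib.oEquiv Q g, hd1, hs1, hlin, ?_⟩
    rw [← hlin, ← Matrix.toLin'_pow, ← Units.val_pow_eq_pow_val, ← ho, pow_orderOf_eq_one, Units.val_one,
      Matrix.toLin'_one]
    rfl
  by_cases hr2 : r = 2
  · subst hr2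
    constructor
    · intro hall
      refine Or.inl ⟨rfl, ?_⟩
      by_contra h
      push Not at h
      have hns : ¬ IsSquare (-1 : F) := by
        rw [FiniteField.isSquare_neg_one_iff]
        rw [Nat.odd_iff] at hqodd
        omega
      obtain ⟨x, hx, ho, hbad⟩ := exists_bad h20 (by omega : 1 ≤ d) hns
      obtain ⟨W, hWd, hW, hWT⟩ := hall x hx ho
      have := hbad W hW hWT
      omega
    · rintro (⟨-, hcond⟩ | ⟨-, h, -⟩) x hx ho
      swap; · omega
      obtain ⟨σ, hd1, hs1, hlin, hpow⟩ := normal x hx ho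
      obtain ⟨W, hWd, hW, hWT⟩ := exists_invol h20 σ hd1 hs1 (fun v => by
        have := LinearMap.congr_fun hpow v
        rwa [pow_two] at this) hmd (hcond.imp id fun h => by
          rw [FiniteField.isSquare_neg_one_iff]
          omega)
      refine ⟨W, hWd, fun w hw => (hQc w).symm.trans (hW w hw), ?_⟩
      rintro _ ⟨w, hw, rfl⟩
      rw [hlin]
      exact hWT w hw
  -- elements of odd order
  have hodd : Odd r := hrpr.odd_of_ne_two hr2
  have hr3 : 2 < r := lt_of_le_of_ne hrpr.two_le (Ne.symm hr2)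
  have hrF : (r : F) ≠ 0 := Elusive.natCast_prime_ne_zero (p := p) hrp
  have hrq : (Fintype.card F : ZMod r) ≠ 0 := Elusive.card_cast_ne_zero (F := F) (p := p) hrp
  obtain ⟨hcpos, hceven, -⟩ := Elusive.SpWitness.c_facts (F := F) (p := p) hr2 hrp hc
  obtain ⟨hkm, hcd⟩ := Elusive.SpIso.mod_lt_of_dvd (F := F) hc hmd hΩ'
  set e := orderOf (Fintype.card F : ZMod r) with he
  have hepos : 0 < e := Elusive.orderOf_card_pos (F := F) (p := p) hrp
  obtain ⟨t, ht⟩ : e ∣ r - 1 := orderOf_dvd_of_pow_eq_one (ZMod.pow_card_sub_one_eq_one hrq)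
  have htt : (r - 1) / e = t := by rw [ht, Nat.mul_div_cancel_left _ hepos]
  have ht1 : 1 ≤ t := Nat.one_le_iff_ne_zero.2 fun h => by
    rw [h, mul_zero] at ht
    omega
  rw [htt]
  have hmodc : (2 * d + 1) % c = (2 * d) % c + 1 := (mod_succ_even (even_two_mul d) hceven hcpos).1
  constructor
  · intro hall
    have hmain : 2 * (m % e) ≤ (2 * d) % c := by
      obtain ⟨h, hh⟩ := hceven
      have hdiv := Nat.div_add_mod (2 * d) c
      set j := 2 * d / c
      have hj : 1 ≤ j := (Nat.le_div_iff_mul_le hcpos).2 (by omega)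
      obtain ⟨d', hd'⟩ : ∃ d', j * h = d' := ⟨_, rfl⟩
      have hd'2 : j * c = 2 * d' := by rw [← hd', hh]; ring
      rw [mul_comm c j, hd'2] at hdiv
      obtain ⟨y, hyr, hfix⟩ := Elusive.SpWitness.exists_element (F := F) (p := p) hr2 hrp hc (m := d') (j := j)
        hd'2.le
      rw [hd'2, Nat.sub_self, Submodule.finrank_eq_zero] at hfix
      set T := Matrix.toLin' (y : Matrix (Fin d' ⊕ Fin d') (Fin d' ⊕ Fin d') F)
      have hTr : T ^ r = 1 := by
        show (Matrix.toLin' (y : Matrix (Fin d' ⊕ Fin d') (Fin d' ⊕ Fin d') F)) ^ r = 1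
        rw [← Matrix.toLin'_pow, hyr, Matrix.toLin'_one]
        rfl
      have hfree : ∀ v, T v = v → v = 0 := fun v hv => by
        have : v ∈ Elusive.fixedSpace T := Elusive.mem_fixedSpace.2 hv
        rwa [hfix, Submodule.mem_bot] at this
      have hpos : 0 < d' := by
        rw [← hd']
        exact Nat.mul_pos hj (by omega)
      obtain ⟨g, hg, hgo, hgW⟩ := Elusive.OrthWitness.exists_element h20 hr2 hpos (d := d) (by omega) T
        ((FormsLib.mem_symplectic_iff _).1 y.2) hTr hfree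
      obtain ⟨W, hWd, hW, hWT⟩ := hall g hg hgo
      obtain ⟨W₁, -, hW₁T, hle, hrest⟩ := hgW W hW hWT
      obtain ⟨a, ha⟩ := Elusive.orderOf_dvd_finrank hTr hW₁T fun v _ => hfree v
      rw [hWd, ha, ← he] at hle hrest
      have hdecomp := congrArg (· % e) (Nat.sub_add_cancel hle)
      simp only [Nat.add_mul_mod_self_left] at hdecomp
      have h3 := Nat.mod_le (m - e * a) e
      omega
    have hem : e ≤ m := by
      by_contra hlt
      rw [Nat.mod_eq_of_lt (not_le.1 hlt)] at hmain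
      omega
    refine Or.inr ⟨hrp, hr3, hem, by omega, ?_⟩
    by_contra h
    push Not at h
    obtain ⟨hev, hlt⟩ := h
    have hev' := Nat.not_odd_iff_even.1 hev
    rw [if_pos hev'] at hc
    rw [hc] at hmain hcd
    rw [(mod_succ_even (even_two_mul d) hev' hepos).2] at hlt
    have hn := Nat.div_add_mod (2 * d) e
    have hm' := Nat.div_add_mod m e
    have hmm := Nat.mod_lt m hepos
    have hk := Nat.mod_lt (2 * d) hepos
    set n' := 2 * d / e
    set m' := m / e
    have hm'1 : 1 ≤ m' := (Nat.le_div_iff_mul_le hepos).2 (by omega)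
    have hnm : 2 * m' ≤ n' := (Nat.le_div_iff_mul_le hepos).2 (by
      have : m' * e ≤ m := Nat.div_mul_le_self m e
      rw [mul_assoc]
      omega)
    set s := min (n' - 2 * m' + 1) (t - 1) with hs
    have hsn : 2 * m' - 1 + s ≤ n' := by omega
    have hsn' : n' ≤ 2 * m' + s := by omega
    obtain ⟨h, hh⟩ := hev'.two_dvd
    obtain ⟨d', hd'⟩ : ∃ d', (2 * m' - 1 + s) * h = d' := ⟨_, rfl⟩
    have hd'2 : (2 * m' - 1 + s) * e = 2 * d' := by rw [← hd', hh]; ring
    obtain ⟨y, hyr, hfix, hbad⟩ := Elusive.SpClass.exists_class_element (F := F) (p := p) hr2 hrp (d := d')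
      (L := 2 * m' - 1) (s := s) (he ▸ hev') (by omega)
      (by rw [← he, ht, mul_comm e]; exact Nat.mul_le_mul_right e (by omega))
      (by rw [← he, hd'2])
    rw [← he, hd'2, Nat.sub_self] at hfix hbad
    rw [Submodule.finrank_eq_zero] at hfix
    set T := Matrix.toLin' (y : Matrix (Fin d' ⊕ Fin d') (Fin d' ⊕ Fin d') F)
    have hTr : T ^ r = 1 := by
      show (Matrix.toLin' (y : Matrix (Fin d' ⊕ Fin d') (Fin d' ⊕ Fin d') F)) ^ r = 1
      rw [← Matrix.toLin'_pow, hyr, Matrix.toLin'_one]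
      rfl
    have hfree : ∀ v, T v = v → v = 0 := fun v hv => by
      have : v ∈ Elusive.fixedSpace T := Elusive.mem_fixedSpace.2 hv
      rwa [hfix, Submodule.mem_bot] at this
    have hpos : 0 < d' := by
      rw [← hd']
      exact Nat.mul_pos (by omega) (by omega)
    have hd'd : d' ≤ d := by
      have := (Nat.mul_le_mul_right e hsn).trans (Nat.div_mul_le_self (2 * d) e)
      omega
    obtain ⟨g, hg, hgo, hgW⟩ := Elusive.OrthWitness.exists_element h20 hr2 hpos (d := d) hd'd T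
      ((FormsLib.mem_symplectic_iff _).1 y.2) hTr hfree
    obtain ⟨W, hWd, hW, hWT⟩ := hall g hg hgo
    obtain ⟨W₁, hW₁, hW₁T, hle, hrest⟩ := hgW W hW hWT
    obtain ⟨a, ha, ha2, hfa⟩ := hbad W₁ hW₁ hW₁T
    rw [hWd] at hle hrest
    have h1 : (a + 1) * e ≤ m' * e := Nat.mul_le_mul_right e (by omega)
    have h2 : n' * e ≤ (2 * m' - 1 + s + 1) * e := Nat.mul_le_mul_right e (by omega)
    rw [add_mul, one_mul] at h1 h2
    rw [mul_comm e n'] at hn
    rw [mul_comm e m'] at hm'
    omega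
  · rintro (⟨h, -⟩ | ⟨-, -, hem, hmain, hcond⟩) x hx ho
    · exact absurd h hr2
    obtain ⟨σ, -, -, hlin, hTr⟩ := normal x hx ho
    set T : Module.End F (Unit ⊕ (Fin d ⊕ Fin d) → F) := σ.1.toLinearMap
    have hiso : ∀ u v, B (T u) (T v) = B u v := fun u v => by
      show QuadraticMap.polar Q (σ.1 u) (σ.1 v) = QuadraticMap.polar Q u v
      simp only [QuadraticMap.polar, ← map_add, σ.2 _]
    obtain ⟨M, -, hMT, hMfree, -, -, hM, -, hdim⟩ :=
      exists_split (fun u v h => (Elusive.OrthIso.polar_symm v u).trans h) hiso hrF hTr htop le_top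
    obtain ⟨J, hJ⟩ := Elusive.OrthIso.dvd_free (p := p) Elusive.OrthIso.polar_symm hiso hr2 hrF hrq hTr hc hM hMT hMfree
    rw [hJ, finrank_top, hdimV] at hdim
    set f₁ := finrank F ↥((⊤ : Submodule F (Unit ⊕ (Fin d ⊕ Fin d) → F)) ⊓ Elusive.fixedSpace T) with hf₁
    have hf1 : 1 ≤ f₁ := by
      by_contra h0
      have : Even (c * J) := hceven.mul_right J
      rw [even_iff_two_dvd] at this
      omega
    obtain ⟨f, hf⟩ : ∃ f, f₁ = f + 1 := ⟨f₁ - 1, by omega⟩
    have hdim : f + c * J = 2 * d := by omega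
    have hmain : 2 * (m % e) ≤ (2 * d) % c := by omega
    have hkf : (2 * d) % c ≤ f := by
      rw [← hdim, Nat.add_mul_mod_self_left]
      exact Nat.mod_le _ _
    have hm' := Nat.div_add_mod m e
    obtain ⟨a, ha1, ha2, ha3, ha4⟩ : ∃ a, a * e ≤ m ∧ 2 * (m - a * e) ≤ f ∧ f + 2 * (a * e) ≤ 2 * d ∧
        (Even e → a = 0 ∨ f + 2 * (a * e) + (r - 1) ≤ 2 * d + e) := by
      rw [ht]
      set m' := m / e
      by_cases hev : Even e
      · rw [if_pos hev] at hc
        rw [hc] at hdim hmain hkf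
        have hcond' := hcond.resolve_left (Nat.not_odd_iff_even.2 hev)
        rw [(mod_succ_even (even_two_mul d) hev hepos).2] at hcond'
        have hn := Nat.div_add_mod (2 * d) e
        set n' := 2 * d / e
        refine ⟨min m' ((J + 1 - t) / 2), ?_, ?_, ?_, fun _ => ?_⟩
        · have : min m' ((J + 1 - t) / 2) * e ≤ m' * e := Nat.mul_le_mul_right e (min_le_left _ _)
          rw [mul_comm m' e] at this
          omega
        · rcases min_cases m' ((J + 1 - t) / 2) with ⟨hmin, -⟩ | ⟨hmin, -⟩ <;> rw [hmin]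
          · rw [mul_comm m' e]
            omega
          · set A0 := (J + 1 - t) / 2
            have h1 : J * e ≤ (2 * A0 + t) * e := Nat.mul_le_mul_right e (by omega)
            have h2 : (t + 2 * m') * e ≤ n' * e := Nat.mul_le_mul_right e hcond'
            rw [add_mul, mul_assoc] at h1 h2
            rw [mul_comm e n'] at hn
            rw [mul_comm e m'] at hm'
            rw [mul_comm e J] at hdim
            omega
        · have h1 : 2 * min m' ((J + 1 - t) / 2) * e ≤ J * e := Nat.mul_le_mul_right e (by omega)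
          rw [mul_assoc, mul_comm J e] at h1
          omega
        · rcases Nat.eq_zero_or_pos (min m' ((J + 1 - t) / 2)) with h0 | h0
          · exact Or.inl h0
          · have h1 : (2 * min m' ((J + 1 - t) / 2) + t) * e ≤ (J + 1) * e := Nat.mul_le_mul_right e (by omega)
            rw [add_mul, mul_assoc, add_mul, one_mul, mul_comm J e, mul_comm t e] at h1
            exact Or.inr (by omega)
      · rw [if_neg hev] at hc
        rw [hc] at hdim hmain hkf
        refine ⟨min m' J, ?_, ?_, ?_, fun h => absurd h hev⟩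
        · have : min m' J * e ≤ m' * e := Nat.mul_le_mul_right e (min_le_left _ _)
          rw [mul_comm m' e] at this
          omega
        · rcases min_cases m' J with ⟨hmin, -⟩ | ⟨hmin, -⟩ <;> rw [hmin]
          · rw [mul_comm m' e]
            omega
          · rw [mul_assoc, mul_comm e J] at hdim
            omega
        · have h1 : min m' J * e ≤ J * e := Nat.mul_le_mul_right e (min_le_right _ _)
          rw [mul_assoc, mul_comm e J] at hdim
          omega
    obtain ⟨W, -, hWT, hW, hWd⟩ := Elusive.OrthIso.exists_isotropic_invariant (p := p) h20 hiso hr2 hrF hrq hTr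
      htop le_top (m := m) (a := a) (he ▸ ha1) (by rw [← hf₁, ← he]; omega)
      (by rw [← hf₁, ← he, finrank_top, hdimV]; omega)
      (fun hev => by rw [← hf₁, ← he, finrank_top, hdimV]; exact (ha4 (he ▸ hev)).imp id fun h => by omega)
    exact ⟨W, hWd, pack W hW, by rw [hlin]; exact hWT⟩

end Cfsg.Agent.S5972
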