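import Cfsg.Statements.S5973
import Cfsg.Agent.Lib.Elusive.OrthogonalEvenMain
import Cfsg.Agent.Lib.Elusive.OrthogonalEvenSquares

set_option autoImplicit false
open scoped MatrixGroups
open Cfsg

namespace Cfsg.Agent.S5973

/-- Elements of prime order of PΩ⁺_n(q), n = 2d ≥ 8, with no fixed totally singular `m`-space, `m < n/2`. Here `T = PΩ⁺_n(q)` is realised through `Ω⁺_n(q)`, the commutator subgroup of the isometry group of the quadratic form `Σ xᵢyᵢ` over the field `F` with `q` elements; an element of `T` of prime order `r` is an element `x` of `Ω⁺_n(q)` with `x^r` scalar and `x` not scalar. Let `1 ≤ m < d` and let `r` be a prime dividing the number of totally singular `m`-spaces. For `r ≠ p` let `i` be the multiplicative order of `q` modulo `r`, `c = i` for `i` even and `c = 2i` for `i` odd, and write `k = n mod c`, `ℓ = m mod i`, `n' = ⌊n/i⌋`, `m' = ⌊m/i⌋`, `t = (r−1)/i`. Then every element of `T`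 of order `r` fixes some totally singular `m`-space if and only if one of: (i) `r = 2 ≠ p` and either `q ≡ 1 (mod 4)`, or `q ≡ 3 (mod 4)`, `m ≤ n/2 − 2` and (`m` even or `n ≡ 2 (mod 4)`); (ii) `r ≠ p` odd, `i` odd, `i ≤ m` and `k ≥ 2ℓ`; (iii) `r ≠ p` odd, `i` even, `i ≤ m`, `n' − 2m' ≥ t`, and one of: `i ≥ 2ℓ`, `k = 0`, `n/i` odd and `n' − 2m' > t`; or `k ≥ 2ℓ` and `n'` even; or `k > 2ℓ` and `n'` odd. -/
theorem result {F : Type*} [Field F] [Fintype F] {p : ℕ} [Fact p.Prime] [CharP F p] {q : ℕ} (hq : Fintype.card F = q)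
    (d m : ℕ) (hd : 4 ≤ d) (hm : 1 ≤ m) (hmd : m < d)
    (r : ℕ) [Fact r.Prime]
    (hrΩ : r ∣ Nat.card {W : Submodule F (Fin d ⊕ Fin d → F) // Module.finrank F ↥W = m ∧ (∀ w ∈ W, Cfsg.quadFormPlus d F w = 0)})
    (i c : ℕ) (hi : i = orderOf (q : ZMod r)) (hc : c = if Even i then i else 2 * i) :
    (∀ x : GL (Fin d ⊕ Fin d) F, x ∈ Cfsg.Geo.omegaGL (Cfsg.quadFormPlus d F) →
      (∃ z : F, ((x ^ r : GL (Fin d ⊕ Fin d) F) : Matrix (Fin d ⊕ Fin d) (Fin d ⊕ Fin d) F) = z • (1 : Matrix (Fin d ⊕ Fin d) (Fin d ⊕ Fin d) F)) →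
      (∀ z : F, (x : Matrix (Fin d ⊕ Fin d) (Fin d ⊕ Fin d) F) ≠ z • (1 : Matrix (Fin d ⊕ Fin d) (Fin d ⊕ Fin d) F)) →
      ∃ W : Submodule F (Fin d ⊕ Fin d → F), Module.finrank F ↥W = m ∧ (∀ w ∈ W, Cfsg.quadFormPlus d F w = 0) ∧
        W.map (Matrix.toLin' (x : Matrix (Fin d ⊕ Fin d) (Fin d ⊕ Fin d) F)) ≤ W) ↔
    ((r = 2 ∧ p ≠ 2 ∧ (q % 4 = 1 ∨ (q % 4 = 3 ∧ m + 2 ≤ d ∧ (Even m ∨ (2 * d) % 4 = 2)))) ∨
     (r ≠ p ∧ 2 < r ∧ Odd i ∧ i ≤ m ∧ 2 * (m % i) ≤ (2 * d) % c) ∨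
     (r ≠ p ∧ 2 < r ∧ Even i ∧ i ≤ m ∧ (r - 1) / i + 2 * (m / i) ≤ (2 * d) / i ∧
       ((2 * (m % i) ≤ i ∧ (2 * d) % c = 0 ∧ Odd ((2 * d) / i) ∧ (r - 1) / i + 2 * (m / i) < (2 * d) / i) ∨
        (2 * (m % i) ≤ (2 * d) % c ∧ Even ((2 * d) / i)) ∨
        (2 * (m % i) < (2 * d) % c ∧ Odd ((2 * d) / i))))) := by
  classical
  subst hq hi hc
  set Q := Cfsg.Agent.OrthOrder.qPlus d F with hQdef
  have hQc : ⇑Q = Cfsg.quadFormPlus d F := funext (Cfsg.Agent.OrthOrder.qPlus_apply d)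
  have hι : Fintype.card (Fin d ⊕ Fin d) = 2 * d := by simp; omega
  have hσ : (0 : ℕ) = 0 ∧ Cfsg.Agent.Elusive.OrthType.Half Q ⊤ ∨ (0 : ℕ) = 1 ∧ ¬ Cfsg.Agent.Elusive.OrthType.Half Q ⊤ := by
    refine Or.inl ⟨rfl, Cfsg.Agent.Elusive.OrthType.half_iff.2 ?_⟩
    obtain ⟨W, hW, hW'⟩ := Cfsg.Agent.OrthClasses.plus_half (F := F) d
    refine ⟨W, le_top, fun w hw => (congrFun hQc w).trans (hW' w hw), ?_⟩
    rw [hW, finrank_top, Module.finrank_pi, hι]
    omega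
  have key := Cfsg.Agent.Elusive.OrthEvenMain.all_fix_iff (p := p) (Q := Q) (r := r)
    (Cfsg.Agent.OrthForms.qPlus_nondeg d) (d := d) (m := m) (by omega) hι hσ hm (by omega) (by rw [hQc]; exact hrΩ)
  rw [hQc] at key
  refine key.trans (or_congr ?_ ?_)
  · refine and_congr_right fun _ => and_congr_right fun hp => ?_
    have h20 : (2 : F) ≠ 0 := Ring.two_ne_zero (by rwa [ringChar.eq F p])
    have hodd := Cfsg.Agent.Elusive.OrthEvenSquares.card_mod_two (F := F) hp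
    rw [FiniteField.isSquare_neg_one_iff, Cfsg.Agent.Elusive.OrthEvenSquares.two_pow_iff h20]
    simp only [Nat.even_iff, true_iff, forall_const]
    omega
  · rw [Cfsg.Agent.Elusive.OrthEven.Cond]
    set e := orderOf (Fintype.card F : ZMod r)
    rcases Nat.even_or_odd e with he | he
    · have hne := Nat.not_odd_iff_even.2 he
      simp only [↓reduceIte, he, hne, Nat.add_zero, Nat.zero_ne_one, false_and, and_false, or_false, false_or,
        true_and, ne_eq]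
    · have hne := Nat.not_even_iff_odd.2 he
      simp only [↓reduceIte, he, hne, Nat.add_zero, Nat.zero_ne_one, false_and, and_false, or_false, false_or,
        true_and, ne_eq]

end Cfsg.Agent.S5973
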