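import Cfsg.Statements.S5974
import Cfsg.Agent.Lib.Elusive.OrthogonalNdOdd
import Cfsg.Agent.Lib.Elusive.OrthogonalNdTwo
import Cfsg.Agent.Lib.Elusive.OrthogonalNdInvol

set_option autoImplicit false
open scoped MatrixGroups
open Cfsg

namespace Cfsg.Agent.S5974

/-- Elements of prime order of PΩ⁺_n(q), n = 2d ≥ 8, with no fixed nondegenerate hyperbolic `m`-space. Here `T = PΩ⁺_n(q)` is realised through `Ω⁺_n(q)`, the commutator subgroup of the isometry group of `Q = Σ xᵢyᵢ` over the field `F` with `q` elements; an element of `T` of prime order `r` is an element `x` of `Ω⁺_n(q)` with `x^r` scalar and `x` not scalar. A hyperbolic `m`-space is a subspace `W` of even dimension `m` on which the polar form of `Q` is nondegenerate and which contains a totally singular subspace of dimension `m/2`. Let `m` be even with `2 ≤ m < n/2`, and let `r` be a prime dividing the number of hyperbolic `m`-spaces, with `r = 2` or `r ≠ p`. For `r ≠ p` let `i` be the multiplicative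 order of `q` modulo `r`, `c = i` for `i` even and `c = 2i` for `i` odd, and write `k = n mod c`, `ℓ' = m mod c`. Then every element of `T` of order `r` fixes some hyperbolic `m`-space if and only if one of: (i) `r = 2` and (`n ≡ 2 (mod 4)`, or `m ≡ 0 (mod 4)`, or `q ≡ 1 (mod 4)`); (ii) `r ≠ p` odd, `i` odd, `c ≤ m` and `k ≥ ℓ'`; (iii) `r ≠ p` odd, `i` even, and either `k = 0` and (`n/i` odd, or `ℓ' = 0` and `m/i` even), or `i ≤ m` and (`k > ℓ' > 0`, or `k = ℓ' > 0` and `(n + m − 2k)/i` even, or `k > ℓ' = 0` and `m/i` even). -/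
theorem result {F : Type*} [Field F] [Fintype F] {p : ℕ} [Fact p.Prime] [CharP F p] {q : ℕ} (hq : Fintype.card F = q)
    (d m : ℕ) (hd : 4 ≤ d) (hm : 2 ≤ m) (hme : Even m) (hmd : m < d)
    (r : ℕ) [Fact r.Prime] (hr : r = 2 ∨ r ≠ p)
    (hrΩ : r ∣ Nat.card {W : Submodule F (Fin d ⊕ Fin d → F) // (Module.finrank F ↥W = m ∧ (∀ u ∈ W, u ≠ 0 → ∃ v ∈ W, QuadraticMap.polar (Cfsg.quadFormPlus d F) u v ≠ 0) ∧
          ∃ U : Submodule F (Fin d ⊕ Fin d → F), U ≤ W ∧ 2 * Module.finrank F ↥U = m ∧ ∀ u ∈ U, Cfsg.quadFormPlus d F u = 0)})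
    (i c : ℕ) (hi : i = orderOf (q : ZMod r)) (hc : c = if Even i then i else 2 * i) :
    (∀ x : GL (Fin d ⊕ Fin d) F, x ∈ Cfsg.Geo.omegaGL (Cfsg.quadFormPlus d F) →
      (∃ z : F, ((x ^ r : GL (Fin d ⊕ Fin d) F) : Matrix (Fin d ⊕ Fin d) (Fin d ⊕ Fin d) F) = z • (1 : Matrix (Fin d ⊕ Fin d) (Fin d ⊕ Fin d) F)) →
      (∀ z : F, (x : Matrix (Fin d ⊕ Fin d) (Fin d ⊕ Fin d) F) ≠ z • (1 : Matrix (Fin d ⊕ Fin d) (Fin d ⊕ Fin d) F)) →
      ∃ W : Submodule F (Fin d ⊕ Fin d → F), (Module.finrank F ↥W = m ∧ (∀ u ∈ W, u ≠ 0 → ∃ v ∈ W, QuadraticMap.polar (Cfsg.quadFormPlus d F) u v ≠ 0) ∧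
          ∃ U : Submodule F (Fin d ⊕ Fin d → F), U ≤ W ∧ 2 * Module.finrank F ↥U = m ∧ ∀ u ∈ U, Cfsg.quadFormPlus d F u = 0) ∧
        W.map (Matrix.toLin' (x : Matrix (Fin d ⊕ Fin d) (Fin d ⊕ Fin d) F)) ≤ W) ↔
    ((r = 2 ∧ ((2 * d) % 4 = 2 ∨ m % 4 = 0 ∨ q % 4 = 1)) ∨
     (r ≠ p ∧ 2 < r ∧ Odd i ∧ c ≤ m ∧ m % c ≤ (2 * d) % c) ∨
     (r ≠ p ∧ 2 < r ∧ Even i ∧
       (((2 * d) % c = 0 ∧ (Odd ((2 * d) / i) ∨ (m % c = 0 ∧ Even (m / i)))) ∨
        (i ≤ m ∧ ((m % c < (2 * d) % c ∧ 0 < m % c) ∨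
                  ((2 * d) % c = m % c ∧ 0 < m % c ∧ Even ((2 * d + m - 2 * ((2 * d) % c)) / i)) ∨
                  (0 < (2 * d) % c ∧ m % c = 0 ∧ Even (m / i))))))) := by
  classical
  subst hq hi
  have hrpr := (Fact.out : r.Prime)
  have hppr := (Fact.out : p.Prime)
  set Q := Cfsg.Agent.OrthOrder.qPlus d F with hQdef
  have hQc : ⇑Q = Cfsg.quadFormPlus d F := funext (Cfsg.Agent.OrthOrder.qPlus_apply d)
  have hQ : (QuadraticMap.polarBilin Q).Nondegenerate := Cfsg.Agent.OrthForms.qPlus_nondeg d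
  have hι : Fintype.card (Fin d ⊕ Fin d) = 2 * d := by simp; omega
  have hH : Cfsg.Agent.Elusive.OrthType.Half Q ⊤ := by
    refine Cfsg.Agent.Elusive.OrthType.half_iff.2 ?_
    obtain ⟨W, hW, hW'⟩ := Cfsg.Agent.OrthClasses.plus_half (F := F) d
    refine ⟨W, le_top, fun w hw => (congrFun hQc w).trans (hW' w hw), ?_⟩
    rw [hW, finrank_top, Module.finrank_pi, hι]
    omega
  have hk : ∀ W : Submodule F (Fin d ⊕ Fin d → F),
      (Module.finrank F ↥W = m ∧ (∀ u ∈ W, u ≠ 0 → ∃ v ∈ W, QuadraticMap.polar (Cfsg.quadFormPlus d F) u v ≠ 0) ∧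
          ∃ U : Submodule F (Fin d ⊕ Fin d → F), U ≤ W ∧ 2 * Module.finrank F ↥U = m ∧ ∀ u ∈ U, Cfsg.quadFormPlus d F u = 0) ↔
      (Module.finrank F W = m ∧ Cfsg.Agent.Elusive.FormIso.NdOn (QuadraticMap.polarBilin Q) W ∧
        (Cfsg.Agent.Elusive.OrthType.Half Q W ↔ True)) := fun W => by
    rw [← hQc, Cfsg.Agent.Elusive.OrthNd.nd_exists_iff, iff_true, Cfsg.Agent.Elusive.OrthType.half_iff]
    obtain ⟨h, rfl⟩ := hme
    exact and_congr_right fun hd' => and_congr_right fun _ =>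
      ⟨fun ⟨U, hU, hUd, hU0⟩ => ⟨U, hU, hU0, by omega⟩, fun ⟨U, hU, hU0, hUd⟩ => ⟨U, hU, by omega, hU0⟩⟩
  simp only [hk] at hrΩ ⊢
  rw [← hQc]
  obtain ⟨h, rfl⟩ := hme
  rw [← two_mul] at *
  by_cases hr2 : r = 2
  · subst hr2
    by_cases hp2 : p = 2
    · subst hp2
      have h20 : (2 : F) = 0 := by exact_mod_cast CharP.cast_eq_zero F 2
      have hqe : Fintype.card F % 2 = 0 := FiniteField.even_card_of_char_two (ringChar.eq F 2)
      constructor
      · intro hall
        by_contra hcon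
        simp only [lt_irrefl, ne_eq, not_true_eq_false, false_and, and_false, or_false, true_and, Nat.even_iff,
          Nat.odd_iff] at hcon
        obtain ⟨x, hx, hxp, hxn, hbad⟩ := Cfsg.Agent.Elusive.OrthNd.uni_bad (p := 2) hQ (d := d) (a := d / 2) hι
          (by omega) (by omega) (Or.inr ⟨by omega, hH⟩)
        obtain ⟨W, ⟨hWd, hW, hWpl⟩, hWT⟩ := hall x hx ⟨1, hxp⟩ hxn
        obtain ⟨b', w, hbw, hw, hw0, -⟩ := hbad W hW hWT
        rw [hWd] at hbw
        omega
      · intro hcond x hx ⟨z, hz⟩ _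
        simp only [lt_irrefl, ne_eq, not_true_eq_false, false_and, and_false, or_false, true_and, Nat.even_iff,
          Nat.odd_iff] at hcond
        exact Cfsg.Agent.Elusive.OrthNd.invol_fix h20 hQ (by omega) hι (by omega) (by omega) True
          (by simp only [hH, Nat.even_iff, Nat.odd_iff, not_true_eq_false, not_false_eq_true, true_and, false_and, false_or, or_false]; omega) hx hz
    have h20 : (2 : F) ≠ 0 := Ring.two_ne_zero (by rwa [ringChar.eq F p])
    have hodd := Cfsg.Agent.Elusive.OrthEvenSquares.card_mod_two (F := F) hp2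
    rw [Cfsg.Agent.Elusive.OrthNd.two_even_iff h20 hQ (by omega) hι (by omega) (by omega) True,
      FiniteField.isSquare_neg_one_iff, Cfsg.Agent.Elusive.OrthEvenSquares.two_pow_iff h20]
    simp only [hH, hp2, Nat.even_iff, Nat.odd_iff, true_iff, false_iff, ne_eq, not_false_eq_true, true_and, lt_irrefl,
      false_and, and_false, false_or, or_false]
    omega
  have hrp : r ≠ p := hr.resolve_left hr2
  have hrp' := hrp
  have hr3 : 2 < r := lt_of_le_of_ne hrpr.two_le (Ne.symm hr2)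
  generalize hm2 : 2 * h = m at *
  have hme : Even m := ⟨h, by omega⟩
  rw [Cfsg.Agent.Elusive.OrthNd.even_iff_cond (p := p) (c := c) hQ (by omega) hι (by omega) hme (by omega) True
    hr2 hrp hc hrΩ]
  set e := orderOf (Fintype.card F : ZMod r) with he
  have hn := Nat.div_add_mod (2 * d) c
  have hmdiv := Nat.div_add_mod m c
  have hcm : m % c = 0 → c ≤ m := fun h => Nat.le_of_dvd (by omega) (Nat.dvd_of_mod_eq_zero h)
  have hle : m / c ≤ 2 * d / c := Nat.div_le_div_right (by omega)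
  simp only [hH, hr2, hr3, hrp', Cfsg.Agent.Elusive.OrthNd.Plus, ne_eq, not_false_eq_true, false_and, false_or,
    true_and, false_iff, true_iff]
  rcases Nat.even_or_odd e with hev | hodd
  · rw [if_pos hev] at hc
    subst hc
    have hne := Nat.not_odd_iff_even.2 hev
    have hc0 : 0 < e := Nat.pos_of_ne_zero fun h => by
      have h1 : orderOf (Fintype.card F : ZMod r) ≠ 0 :=
        (orderOf_pos_iff.2 (isUnit_iff_ne_zero.2 (Cfsg.Agent.Elusive.card_cast_ne_zero (F := F) (p := p) hrp)).isOfFinOrder).ne'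
      exact h1 h
    have hsum : m % e = 2 * d % e → (2 * d + m - 2 * (2 * d % e)) / e = 2 * d / e + m / e := fun h => by
      rw [show 2 * d + m - 2 * (2 * d % e) = e * (2 * d / e + m / e) by rw [Nat.mul_add]; omega,
        Nat.mul_div_cancel_left _ hc0]
    have hX : m % e = 2 * d % e → ((2 * d + m - 2 * (2 * d % e)) / e) % 2 = (2 * d / e - m / e) % 2 := fun h => by
      rw [hsum h]; omega
    simp only [hev, hne, Nat.even_iff, Nat.odd_iff, forall_const, false_and, false_or, true_and]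
    generalize (2 * d + m - 2 * (2 * d % e)) / e = X at hX ⊢
    generalize hN : 2 * d / e = N at hn hle hX ⊢
    generalize hM : m / e = M at hmdiv hle hX ⊢
    generalize hk' : 2 * d % e = k at hn hX ⊢
    generalize hl' : m % e = l at hmdiv hcm hX ⊢
    clear hsum
    omega
  · have hne := Nat.not_even_iff_odd.2 hodd
    simp only [hodd, hne, false_implies, not_true_eq_false, not_false_eq_true, and_false, false_and, false_or, or_false,
      true_and, and_true]
    omega

end Cfsg.Agent.S5974
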