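import Cfsg.Agent.Lib.TransvMax.SkewRoot
import Cfsg.Agent.Lib.TransvMax.SpBridge
import Cfsg.Agent.Lib.TransvMax.Basic
-- import your own Cfsg.Agent.* helpers here

set_option autoImplicit false
open scoped MatrixGroups
open scoped Matrix
open Cfsg

namespace Cfsg.Agent.S5975

set_option maxHeartbeats 1000000

open Cfsg.Agent Cfsg.Agent.FormsLib Cfsg.Agent.SkewRoot Module
open scoped Matrix

variable {F : Type*} [Field F] [Fintype F]

/-- A field of degree `k` acting by self-adjoint alternating maps. -/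
structure IsKStr {V : Type*} [AddCommGroup V] [Module F V] (k : ℕ) {L : Type*} [Field L] [Algebra F L]
    (B : LinearMap.BilinForm F V) (ρ : L →ₐ[F] Module.End F V) : Prop where
  rank : finrank F L = k
  self : ∀ a u v, B (ρ a u) v = B u (ρ a v)
  alt : ∀ a v, B (ρ a v) v = 0

/-- A field of degree `k` does not map to elements fixed by a coprime power of Frobenius. -/
private theorem no_hom {k i : ℕ} (hk : k.Prime) (hi : ¬ k ∣ i) {L : Type*} [Field L] [Algebra F L]
    (hrank : finrank F L = k) {K : Type*} [Field K] (φ : L →+* K)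
    (hfix : ∀ a, φ a ^ (Fintype.card F) ^ i = φ a) : False := by
  classical
  haveI : FiniteDimensional F L := FiniteDimensional.of_finrank_pos (hrank ▸ hk.pos)
  haveI : Finite L := Module.finite_of_finite F
  haveI := Fintype.ofFinite L
  set q := Fintype.card F
  have hq : 1 < q := Fintype.one_lt_card
  have hL : Fintype.card L = q ^ k := by rw [Module.card_eq_pow_finrank (K := F) (V := L), hrank]
  have hall : ∀ a, φ a ^ q = φ a := fun a => by
    have h1 : Function.IsPeriodicPt (fun x : K => x ^ q) k (φ a) := by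
      show (fun x : K => x ^ q)^[k] (φ a) = φ a
      rw [pow_iterate]
      show φ a ^ q ^ k = φ a
      rw [← hL, ← map_pow, FiniteField.pow_card]
    have h2 : Function.IsPeriodicPt (fun x : K => x ^ q) i (φ a) := by
      show (fun x : K => x ^ q)^[i] (φ a) = φ a
      rw [pow_iterate]
      exact hfix a
    have h3 := h1.gcd h2
    rw [(hk.coprime_iff_not_dvd.2 hi).gcd_eq_one] at h3
    exact h3
  have hsub : (Finset.univ.image φ).val ⊆ (Polynomial.X ^ q - Polynomial.X : Polynomial K).roots := by
    intro x hx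
    obtain ⟨a, -, rfl⟩ := Finset.mem_image.1 hx
    rw [Polynomial.mem_roots (FiniteField.X_pow_card_sub_X_ne_zero K hq), Polynomial.IsRoot.def,
      Polynomial.eval_sub, Polynomial.eval_pow, Polynomial.eval_X, hall, sub_self]
  have h := Polynomial.card_le_degree_of_subset_roots hsub
  rw [FiniteField.X_pow_card_sub_X_natDegree_eq K hq, Finset.card_image_of_injective _ φ.injective,
    Finset.card_univ, hL] at h
  have h1 : q ^ 1 < q ^ k := Nat.pow_lt_pow_right hq hk.one_lt
  rw [pow_one] at h1
  omega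

/-- A map normalising but not centralising the field fixes few vectors. -/
private theorem fix_bound {V : Type*} [AddCommGroup V] [Module F V] [FiniteDimensional F V] [Nontrivial V]
    {k : ℕ} (hk : k.Prime) {L : Type*} [Field L] [Algebra F L] (hrank : finrank F L = k)
    (ρ : L →ₐ[F] Module.End F V) {x : V ≃ₗ[F] V}
    (hnorm : ∀ a, ∃ a', ∀ v, x (ρ a v) = ρ a' (x v)) (hnc : ∃ a, ∃ v, x (ρ a v) ≠ ρ a (x v)) :
    k * finrank F (LinearMap.ker ((x : V →ₗ[F] V) - LinearMap.id)) ≤ finrank F V := by
  classical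
  haveI : FiniteDimensional F L := FiniteDimensional.of_finrank_pos (hrank ▸ hk.pos)
  have hinj : Function.Injective ρ := ρ.toRingHom.injective
  choose s hs using hnorm
  let E : Subalgebra F L :=
    { carrier := {a | ∀ v, x (ρ a v) = ρ a (x v)}
      mul_mem' := fun {a b} ha hb v => by
        rw [map_mul, Module.End.mul_apply, ha, hb, Module.End.mul_apply]
      one_mem' := fun v => by simp
      add_mem' := fun {a b} ha hb v => by
        rw [map_add, LinearMap.add_apply, map_add, ha, hb, LinearMap.add_apply]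
      zero_mem' := fun v => by simp
      algebraMap_mem' := fun c v => by simp [Module.algebraMap_end_apply] }
  have hE : E = ⊥ := by
    haveI := Subalgebra.isSimpleOrder_of_finrank_prime F L (by rw [hrank]; exact hk)
    refine (IsSimpleOrder.eq_bot_or_eq_top E).resolve_right fun h => ?_
    obtain ⟨a, v, hav⟩ := hnc
    exact hav ((h ▸ Algebra.mem_top : a ∈ E) v)
  set W := LinearMap.ker ((x : V →ₗ[F] V) - LinearMap.id)
  have hW : ∀ w : W, x (w : V) = w := fun w => sub_eq_zero.1 w.2
  set b := Module.finBasis F W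
  let Φ : (Fin (finrank F W) → L) →ₗ[F] V :=
    { toFun := fun a => ∑ i, ρ (a i) (b i : V)
      map_add' := fun a a' => by simp [map_add, Finset.sum_add_distrib]
      map_smul' := fun c a => by simp [Finset.smul_sum] }
  have hΦ : ∀ a, Φ a = ∑ i, ρ (a i) (b i : V) := fun a => rfl
  have key : ∀ n, ∀ a, (Finset.univ.filter fun i => a i ≠ 0).card = n → Φ a = 0 → a = 0 := by
    intro n
    induction n using Nat.strong_induction_on with
    | _ n ih =>
      intro a ha h0
      by_contra hne
      obtain ⟨j, hj⟩ := Function.ne_iff.1 hne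
      simp only [Pi.zero_apply] at hj
      -- normalise one coefficient
      let a₁ : Fin (finrank F W) → L := fun i => (a j)⁻¹ * a i
      have h1 : Φ a₁ = 0 := by
        have h := congrArg (ρ (a j)⁻¹) h0
        rw [map_zero, hΦ, map_sum] at h
        rw [hΦ]
        simpa [a₁] using h
      have h2 : Φ (fun i => s (a₁ i)) = 0 := by
        have h := congrArg x h1
        rw [map_zero, hΦ, map_sum] at h
        rw [hΦ]
        simpa [hs, hW] using h
      have hsj : s (a₁ j) = a₁ j := by
        refine hinj (LinearMap.ext fun v => ?_)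
        obtain ⟨v, rfl⟩ := x.surjective v
        have e : a₁ j = 1 := inv_mul_cancel₀ hj
        rw [← hs, e]
        simp
      have hfix : ∀ i, s (a₁ i) = a₁ i := by
        have hlt : (Finset.univ.filter fun i => s (a₁ i) - a₁ i ≠ 0).card < n := by
          rw [← ha]
          refine Finset.card_lt_card ((Finset.ssubset_iff_of_subset fun i hi => ?_).2 ⟨j, ?_, ?_⟩)
          · rw [Finset.mem_filter] at hi ⊢
            refine ⟨hi.1, fun e => hi.2 ?_⟩
            have e' : a₁ i = 0 := by simp [a₁, e]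
            have e2 : s (a₁ i) = 0 := hinj (LinearMap.ext fun v => by
              obtain ⟨v, rfl⟩ := x.surjective v
              rw [← hs, e']; simp)
            rw [e2, e', sub_zero]
          · simpa using hj
          · simp [hsj]
        have h3 := ih _ hlt (fun i => s (a₁ i) - a₁ i) rfl (by
            rw [show (fun i => s (a₁ i) - a₁ i) = (fun i => s (a₁ i)) - a₁ from rfl, map_sub, h2, h1, sub_zero])
        exact fun i => sub_eq_zero.1 (congrFun h3 i)
      have hbot : ∀ i, ∃ c : F, algebraMap F L c = a₁ i := fun i => by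
        have hmem : a₁ i ∈ E := fun v => by rw [hs, hfix]
        rw [hE, Algebra.mem_bot] at hmem
        exact hmem
      choose c hc using hbot
      have h4 : (∑ i, c i • b i) = 0 := Subtype.ext (by
        rw [Submodule.coe_sum]
        have h := h1
        rw [hΦ] at h
        simpa [← hc, Module.algebraMap_end_apply] using h)
      have h5 := Fintype.linearIndependent_iff.1 b.linearIndependent c h4 j
      have h6 : a₁ j = 1 := inv_mul_cancel₀ hj
      rw [← hc, h5, map_zero] at h6
      exact zero_ne_one h6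
  have h := LinearMap.finrank_le_finrank_of_injective (f := Φ)
    ((injective_iff_map_eq_zero Φ).2 fun a h => key _ a rfl h)
  rw [finrank_pi_fintype, Finset.sum_const, Finset.card_univ, Fintype.card_fin, hrank, smul_eq_mul, mul_comm] at h
  exact h

/-- A map of prime order normalising but not centralising the field has order at most the degree. -/
private theorem order_le {V : Type*} [AddCommGroup V] [Module F V] [Nontrivial V]
    {k : ℕ} (hk : k.Prime) {L : Type*} [Field L] [Algebra F L] (hrank : finrank F L = k)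
    (ρ : L →ₐ[F] Module.End F V) {r : ℕ} (hr : r.Prime) {x : V ≃ₗ[F] V} (hxr : x ^ r = 1)
    (hnorm : ∀ a, ∃ a', ∀ v, x (ρ a v) = ρ a' (x v)) (hnc : ∃ a, ∃ v, x (ρ a v) ≠ ρ a (x v)) : r ≤ k := by
  classical
  haveI : FiniteDimensional F L := FiniteDimensional.of_finrank_pos (hrank ▸ hk.pos)
  have hinj : Function.Injective ρ := ρ.toRingHom.injective
  choose s hs using hnorm
  obtain ⟨a, v₀, hav⟩ := hnc
  have hit : ∀ n : ℕ, ∀ v, (x ^ n) (ρ a v) = ρ (s^[n] a) ((x ^ n) v) := by
    intro n
    induction n with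
    | zero => intro v; simp
    | succ n ih => intro v; rw [pow_succ', LinearEquiv.mul_apply, ih, hs, Function.iterate_succ_apply', LinearEquiv.mul_apply]
  have hper : Function.IsPeriodicPt s r a := by
    refine hinj (LinearMap.ext fun v => ?_)
    have h := hit r v
    rw [hxr] at h
    exact h.symm
  have hmin : Function.minimalPeriod s a = r := by
    refine ((Nat.dvd_prime hr).1 hper.minimalPeriod_dvd).resolve_left fun h1 => hav ?_
    have h2 : s a = a := Function.minimalPeriod_eq_one_iff_isFixedPt.1 h1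
    rw [hs, h2]
  have hP : ∀ (P : Polynomial F) (b : L) (v : V), x (ρ (Polynomial.aeval b P) v) = ρ (Polynomial.aeval (s b) P) (x v) := by
    intro P b
    induction P using Polynomial.induction_on' with
    | add P Q h1 h2 => intro v; simp [map_add, h1, h2]
    | monomial n c =>
      induction n with
      | zero => intro v; simp [Module.algebraMap_end_apply]
      | succ n ih =>
        intro v
        rw [Polynomial.aeval_monomial, Polynomial.aeval_monomial] at *
        simp only [pow_succ, ← mul_assoc] at *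
        rw [map_mul, Module.End.mul_apply, ih, hs, map_mul ρ _ (s b), Module.End.mul_apply]
  have hint : IsIntegral F a := Algebra.IsIntegral.isIntegral a
  have hroot : ∀ n, Polynomial.aeval (s^[n] a) (minpoly F a) = 0 := by
    intro n
    induction n with
    | zero => exact minpoly.aeval F a
    | succ n ih =>
      refine hinj (LinearMap.ext fun v => ?_)
      obtain ⟨v, rfl⟩ := x.surjective v
      rw [Function.iterate_succ_apply', ← hP, ih]
      simp
  have hsub : ((Finset.range r).image fun n => s^[n] a).val ⊆ ((minpoly F a).map (algebraMap F L)).roots := by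
    intro y hy
    obtain ⟨n, -, rfl⟩ := Finset.mem_image.1 (by rwa [Finset.mem_val] at hy)
    rw [Polynomial.mem_roots (Polynomial.map_ne_zero (minpoly.ne_zero hint)), Polynomial.IsRoot.def,
      Polynomial.eval_map, ← Polynomial.aeval_def, hroot]
  have h := Polynomial.card_le_degree_of_subset_roots hsub
  rw [Finset.card_image_of_injOn, Finset.card_range, Polynomial.natDegree_map] at h
  · exact h.trans (hrank ▸ minpoly.natDegree_le a)
  · intro m hm n hn hmn
    refine Function.iterate_injOn_Iio_minimalPeriod ?_ ?_ hmn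
    · rw [hmin]; exact Finset.mem_range.1 hm
    · rw [hmin]; exact Finset.mem_range.1 hn

/-- Extension of a fixed-point-free isometry to the standard space. -/
private theorem exists_ext {d e r k : ℕ} (he : e ≤ d) {W : Type*} [AddCommGroup W] [Module F W]
    [FiniteDimensional F W] {B₁ : LinearMap.BilinForm F W} (hA : LinearMap.IsAlt B₁)
    (hB : ∀ u, (∀ v, B₁ u v = 0) → u = 0) (hdim : finrank F W = 2 * e) {g₁ : W ≃ₗ[F] W}
    (hg : Preserves B₁ g₁) (hgr : g₁ ^ r = 1) (hfix : ∀ w, g₁ w = w → w = 0)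
    {L : Type*} [Field L] [Algebra F L]
    (hno : ∀ ρ₁ : L →ₐ[F] Module.End F W, IsKStr k B₁ ρ₁ → ¬ ∀ a w, g₁ (ρ₁ a w) = ρ₁ a (g₁ w)) :
    ∃ g : (Fin d ⊕ Fin d → F) ≃ₗ[F] (Fin d ⊕ Fin d → F),
      Preserves (spB d F) g ∧ g ^ r = 1 ∧
      finrank F (LinearMap.ker ((g : (Fin d ⊕ Fin d → F) →ₗ[F] _) - LinearMap.id)) = 2 * d - 2 * e ∧
      ∀ ρ : L →ₐ[F] Module.End F (Fin d ⊕ Fin d → F), IsKStr k (spB d F) ρ →
        ¬ ∀ a v, g (ρ a v) = ρ a (g v) := by
  classical
  set U := Fin (d - e) ⊕ Fin (d - e) → F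
  let B : LinearMap.BilinForm F (W × U) :=
    B₁.compl₁₂ (LinearMap.fst F W U) (LinearMap.fst F W U) +
      (spB (d - e) F).compl₁₂ (LinearMap.snd F W U) (LinearMap.snd F W U)
  have hBv : ∀ a b, B a b = B₁ a.1 b.1 + spB (d - e) F a.2 b.2 := fun a b => rfl
  have hBA : LinearMap.IsAlt B := fun a => by rw [hBv, hA, spB_alt, add_zero]
  have hBnd : ∀ u, (∀ v, B u v = 0) → u = 0 := fun u h => Prod.ext
    (hB _ fun w => by simpa [hBv] using h (w, 0))
    (spB_trace.nondeg _ fun w => by simpa [hBv] using h (0, w))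
  obtain ⟨Φ, hΦ⟩ := FormModel.exists_symp_coords hBA hBnd (m := d) (by
    rw [finrank_prod, hdim, finrank_fintype_fun_eq_card, Fintype.card_sum, Fintype.card_fin]; omega)
  let g := Φ.trans ((g₁.prodCongr (LinearEquiv.refl F U)).trans Φ.symm)
  have hgv : ∀ w, g (Φ.symm w) = Φ.symm (g₁ w.1, w.2) := fun w => by simp [g]
  have hpow : ∀ k : ℕ, ∀ w, (g ^ k) (Φ.symm w) = Φ.symm ((g₁ ^ k) w.1, w.2) := by
    intro k
    induction k with
    | zero => intro w; simp
    | succ k ih => intro w; rw [pow_succ', LinearEquiv.mul_apply, ih, hgv, pow_succ']; rfl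
  let ι : W →ₗ[F] (Fin d ⊕ Fin d → F) := (Φ.symm : W × U →ₗ[F] _) ∘ₗ LinearMap.inl F W U
  have hι : ∀ w, ι w = Φ.symm (w, 0) := fun w => rfl
  have hιB : ∀ u v, spB d F (ι u) (ι v) = B₁ u v := fun u v => by
    rw [hι, hι, ← hΦ, Φ.apply_symm_apply, Φ.apply_symm_apply, hBv]
    simp
  have hιinj : Function.Injective ι := fun a b h => congrArg Prod.fst (Φ.symm.injective h)
  have hιg : ∀ w, g (ι w) = ι (g₁ w) := fun w => by rw [hι, hι, hgv]
  refine ⟨g, fun u v => ?_, LinearEquiv.ext fun v => ?_, ?_, fun ρ hρ hc => ?_⟩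
  · obtain ⟨a, rfl⟩ := Φ.symm.surjective u
    obtain ⟨b, rfl⟩ := Φ.symm.surjective v
    rw [hgv, hgv, ← hΦ, ← hΦ]
    simp [hBv, hg a.1 b.1]
  · obtain ⟨a, rfl⟩ := Φ.symm.surjective v
    rw [hpow, hgr]
    rfl
  · have hker : LinearMap.ker ((g : (Fin d ⊕ Fin d → F) →ₗ[F] _) - LinearMap.id) =
        LinearMap.range ((Φ.symm : W × U →ₗ[F] _) ∘ₗ LinearMap.inr F W U) := by
      ext v
      rw [LinearMap.mem_ker, LinearMap.sub_apply, sub_eq_zero]
      obtain ⟨a, rfl⟩ := Φ.symm.surjective v
      show g (Φ.symm a) = Φ.symm a ↔ _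
      rw [hgv, Φ.symm.injective.eq_iff]
      refine ⟨fun h => ⟨a.2, ?_⟩, fun ⟨u, hu⟩ => ?_⟩
      · have h1 := hfix _ (congrArg Prod.fst h)
        show Φ.symm (0, a.2) = _
        rw [← h1]
      · have : (0, u) = a := Φ.symm.injective hu
        rw [← this]
        simp
    rw [hker, LinearMap.finrank_range_of_inj (f := (Φ.symm : W × U →ₗ[F] (Fin d ⊕ Fin d → F)) ∘ₗ LinearMap.inr F W U)
      (Φ.symm.injective.comp (LinearMap.inr_injective (R := F) (M := W) (M₂ := U))), finrank_fintype_fun_eq_card,
      Fintype.card_sum, Fintype.card_fin]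
    omega
  · -- restriction to the moved space
    let f₁ : W →ₗ[F] W := (g₁ : W →ₗ[F] W) - LinearMap.id
    have hsurj : Function.Surjective f₁ :=
      LinearMap.injective_iff_surjective.1 ((injective_iff_map_eq_zero f₁).2 fun w hw =>
        hfix w (sub_eq_zero.1 hw))
    have hres : ∀ a w, ρ a (ι w) = ι ((Φ (ρ a (ι w))).1) := fun a w => by
      apply Φ.injective
      rw [hι ((Φ (ρ a (ι w))).1), Φ.apply_symm_apply]
      refine Prod.ext rfl ?_
      show (Φ (ρ a (ι w))).2 = 0
      obtain ⟨w', rfl⟩ := hsurj w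
      have h1 : ι (f₁ w') = g (ι w') - ι w' := by
        rw [hι, hι, hgv, ← map_sub, Prod.mk_sub_mk, sub_zero]
        rfl
      rw [h1, map_sub, ← hc]
      obtain ⟨c, hc'⟩ := Φ.symm.surjective (ρ a (ι w'))
      rw [← hc', hgv, map_sub, Φ.apply_symm_apply, Φ.apply_symm_apply]
      exact sub_self _
    let R : L → Module.End F W := fun a => LinearMap.fst F W U ∘ₗ (Φ : _ →ₗ[F] W × U) ∘ₗ ρ a ∘ₗ ι
    have hR : ∀ a w, ι (R a w) = ρ a (ι w) := fun a w => (hres a w).symm
    let ρ₁ : L →ₐ[F] Module.End F W :=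
      { toFun := R
        map_one' := LinearMap.ext fun w => hιinj (by rw [hR, map_one]; rfl)
        map_mul' := fun a b => LinearMap.ext fun w => hιinj (by
          rw [hR, Module.End.mul_apply, hR, hR, map_mul, Module.End.mul_apply])
        map_zero' := LinearMap.ext fun w => hιinj (by rw [hR, map_zero]; simp)
        map_add' := fun a b => LinearMap.ext fun w => hιinj (by
          rw [hR, map_add, LinearMap.add_apply, LinearMap.add_apply, map_add, hR, hR])
        commutes' := fun c => LinearMap.ext fun w => hιinj (by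
          rw [hR, AlgHom.commutes]; simp [Module.algebraMap_end_apply]) }
    have h1 : ∀ a w, ι (ρ₁ a w) = ρ a (ι w) := hR
    refine hno ρ₁ ⟨hρ.rank, fun a u v => ?_, fun a v => ?_⟩ fun a w => hιinj ?_
    · rw [← hιB, ← hιB u, h1, h1, hρ.self]
    · rw [← hιB, h1, hρ.alt]
    · rw [← hιg, h1, h1, ← hιg, hc]

/-- Generation of an extension by a root of unity of the right order. -/
private theorem adjoin_full {K : Type*} [Field K] [Algebra F K] [FiniteDimensional F K] {r o : ℕ}
    (ho : orderOf (Fintype.card F : ZMod r) = o) (hfr : finrank F K = o) (y : Kˣ) (hy : orderOf y = r) (z : K) :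
    z ∈ Algebra.adjoin F {(y : K)} := by
  classical
  haveI : Finite K := Module.finite_of_finite F
  set E := IntermediateField.adjoin F {(y : K)}
  haveI : Fintype E := Fintype.ofFinite E
  have hEd : finrank F E = o := by
    have h1 : finrank F E ∣ o := ⟨finrank E K, by rw [Module.finrank_mul_finrank, hfr]⟩
    refine Nat.dvd_antisymm h1 (ho ▸ orderOf_dvd_of_pow_eq_one ?_)
    have hE : Fintype.card E = Fintype.card F ^ finrank F E := Module.card_eq_pow_finrank
    let y' : Eˣ := Units.mk0 ⟨(y : K), IntermediateField.mem_adjoin_simple_self F (y : K)⟩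
      (fun h => y.ne_zero (congrArg Subtype.val h))
    have hy' : orderOf y' = r := by
      rw [← hy, ← orderOf_units, ← orderOf_units (y := y)]
      exact (orderOf_injective (E.val : E →* K) E.val.injective _).symm
    have h3 : r ∣ Fintype.card F ^ finrank F E - 1 := by
      rw [← hE, ← Fintype.card_units, ← hy']
      exact orderOf_dvd_card
    rw [← ZMod.natCast_eq_zero_iff, Nat.cast_sub (Nat.one_le_pow _ _ Fintype.card_pos), sub_eq_zero] at h3
    exact_mod_cast h3
  have htop : E = ⊤ := IntermediateField.eq_of_le_of_finrank_eq le_top (by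
    rw [hEd, IntermediateField.finrank_top', hfr])
  rw [← IntermediateField.adjoin_simple_toSubalgebra_of_isAlgebraic (Algebra.IsAlgebraic.isAlgebraic (y : K))]
  exact htop.ge IntermediateField.mem_top

/-- An element of odd order `r` centralising no structure of degree `k`. -/
private theorem exists_bad {r : ℕ} {p : ℕ} [Fact p.Prime] [CharP F p] (hp2r : r ≠ 2) {d k : ℕ} (hk : k.Prime)
    [Fact r.Prime] {j : ℕ} (hj0 : 0 < j) (hj : ¬ k ∣ j) (hjd : j ≤ d) (hrj : r ∣ Fintype.card F ^ (2 * j) - 1)
    (hrq : ¬ r ∣ Fintype.card F) (L : Type*) [Field L] [Algebra F L] :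
    ∃ (g : (Fin d ⊕ Fin d → F) ≃ₗ[F] (Fin d ⊕ Fin d → F)) (i : ℕ),
      Preserves (spB d F) g ∧ g ^ r = 1 ∧ 0 < i ∧ i ≤ d ∧ 2 * i ≤ r - 1 ∧
      finrank F (LinearMap.ker ((g : (Fin d ⊕ Fin d → F) →ₗ[F] _) - LinearMap.id)) = 2 * d - 2 * i ∧
      ∀ ρ : L →ₐ[F] Module.End F (Fin d ⊕ Fin d → F), IsKStr k (spB d F) ρ →
        ¬ ∀ a v, g (ρ a v) = ρ a (g v) := by
  classical
  have hr : r.Prime := Fact.out
  set q := Fintype.card F with hq
  have hq2 : 2 ≤ q := Fintype.one_lt_card
  have hcast : ∀ m : ℕ, r ∣ q ^ m - 1 ↔ (q : ZMod r) ^ m = 1 := fun m => by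
    rw [← ZMod.natCast_eq_zero_iff, Nat.cast_sub (Nat.one_le_pow _ _ (by omega)), sub_eq_zero, Nat.cast_pow, Nat.cast_one]
  set o := orderOf (q : ZMod r) with ho
  have ho2 : o ∣ 2 * j := orderOf_dvd_of_pow_eq_one ((hcast _).1 hrj)
  have hor : o ∣ r - 1 := orderOf_dvd_of_pow_eq_one (ZMod.pow_card_sub_one_eq_one (by
    rwa [Ne, ZMod.natCast_eq_zero_iff]))
  have ho0 : 0 < o := Nat.pos_of_ne_zero fun h => by rw [h, zero_dvd_iff] at ho2; omega
  haveI : NeZero o := ⟨ho0.ne'⟩
  set K := FiniteField.Extension F p o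
  have hK : Nat.card K = q ^ o := by rw [FiniteField.natCard_extension, Nat.card_eq_fintype_card]
  have hfr : finrank F K = o := FiniteField.finrank_extension F p o
  haveI : Finite K := Nat.finite_of_card_ne_zero (by rw [hK]; positivity)
  haveI : Module.Finite F K := Module.Finite.of_finite
  haveI : Fintype K := Fintype.ofFinite K
  obtain ⟨y, hy⟩ := exists_prime_orderOf_dvd_card' r (show r ∣ Nat.card Kˣ by
    rw [Nat.card_units, hK, hcast]; exact pow_orderOf_eq_one _)
  have hyr : (y : K) ^ r = 1 := by rw [← Units.val_pow_eq_pow_val, ← hy, pow_orderOf_eq_one, Units.val_one]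
  have hy1 : (y : K) ≠ 1 := fun h => hr.ne_one (by rw [← hy, orderOf_eq_one_iff]; exact Units.ext h)
  have hgen := adjoin_full (F := F) ho.symm hfr y hy
  rcases Nat.even_or_odd o with ⟨i, hi⟩ | hodd
  · -- an irreducible torus
    have hio : o = 2 * i := by omega
    have hi0 : 0 < i := by omega
    have hij : i ∣ j := Nat.dvd_of_mul_dvd_mul_left two_pos (hio ▸ ho2)
    have hqi : (q : ZMod r) ^ i = -1 := by
      have h1 : ((q : ZMod r) ^ i) ^ 2 = 1 := by rw [← pow_mul, mul_comm, ← hio, pow_orderOf_eq_one]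
      exact (sq_eq_one_iff.1 h1).resolve_left fun h => by
        have := Nat.le_of_dvd hi0 (orderOf_dvd_of_pow_eq_one h)
        omega
    let τ : K ≃ₐ[F] K := FiniteField.frobeniusAlgEquivOfAlgebraic F K ^ i
    have hτ : ∀ z, τ z = z ^ q ^ i := fun z => by
      show (⇑(FiniteField.frobeniusAlgEquivOfAlgebraic F K ^ i)) z = _
      rw [AlgEquiv.coe_pow, FiniteField.coe_frobeniusAlgEquivOfAlgebraic_iterate]
    have hττ : ∀ z, τ (τ z) = z := fun z => by
      rw [hτ, hτ, ← pow_mul, ← pow_add, ← two_mul, ← hio, ← hK, Nat.card_eq_fintype_card, FiniteField.pow_card]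
    have hyy : τ (y : K) * (y : K) = 1 := by
      obtain ⟨s, hs⟩ : r ∣ q ^ i + 1 := by
        rw [← ZMod.natCast_eq_zero_iff]; push_cast; rw [hqi]; ring
      rw [hτ, ← pow_succ, hs, pow_mul, hyr, one_pow]
    -- an element changing sign under `τ`, or fixed in characteristic two
    obtain ⟨ε, hε0, hετ, htr⟩ : ∃ ε : K, ε ≠ 0 ∧ τ ε = -ε ∧ ∀ a, Algebra.trace F K (ε * τ a * a) = 0 := by
      obtain ⟨g₀, hg₀⟩ := IsCyclic.exists_generator (α := Kˣ)
      set w : K := (g₀ : K)
      set ε := w - τ w with hεdef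
      have hε0 : ε ≠ 0 := fun h => by
        have h1 : (g₀ : K) ^ q ^ i = g₀ := by rw [← hτ]; exact (sub_eq_zero.1 h).symm
        have h2 : g₀ ^ (q ^ i - 1) = 1 := by
          have h3 : g₀ ^ (q ^ i - 1) * g₀ = g₀ := by
            rw [← pow_succ, Nat.sub_add_cancel (Nat.one_le_pow _ _ (by omega))]
            exact Units.ext (by simpa using h1)
          exact mul_eq_right.1 h3
        have h4 := orderOf_dvd_of_pow_eq_one h2
        rw [orderOf_eq_card_of_forall_mem_zpowers hg₀, Nat.card_units, hK] at h4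
        have h5 : 1 < q ^ i := Nat.one_lt_pow hi0.ne' (by omega)
        have h6 := Nat.le_of_dvd (by omega) h4
        have h7 : q ^ i < q ^ o := Nat.pow_lt_pow_right (by omega) (by omega)
        omega
      refine ⟨ε, hε0, by rw [hεdef, map_sub, hττ]; ring, fun a => ?_⟩
      -- the trace of `c - τ c`
      have hn : τ (τ a * a) = τ a * a := by rw [map_mul, hττ, mul_comm]
      have h1 : ε * τ a * a = w * (τ a * a) - τ (w * (τ a * a)) := by
        rw [hεdef, map_mul τ w, hn]; ring
      rw [h1, map_sub, Algebra.trace_eq_of_algEquiv τ, sub_self]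
    let B₁ : LinearMap.BilinForm F K :=
      (Algebra.traceForm F K).compl₁₂ (LinearMap.mulLeft F ε ∘ₗ τ.toLinearMap) LinearMap.id
    have hBv : ∀ a b : K, B₁ a b = Algebra.trace F K (ε * τ a * b) := fun a b => rfl
    have hA : LinearMap.IsAlt B₁ := fun a => by rw [hBv]; exact htr a
    have hnd : ∀ u, (∀ v, B₁ u v = 0) → u = 0 := fun u h => by
      have h1 := (traceForm_nondegenerate F K).1 (ε * τ u) fun b => h b
      exact τ.injective (by rw [(mul_eq_zero.1 h1).resolve_left hε0, map_zero])
    let g₁ : K ≃ₗ[F] K := (LinearEquiv.smulOfUnit y : K ≃ₗ[K] K).restrictScalars F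
    have hgv : ∀ a, g₁ a = (y : K) * a := fun a => rfl
    have hpow : ∀ m : ℕ, ∀ a, (g₁ ^ m) a = (y : K) ^ m * a := by
      intro m
      induction m with
      | zero => intro a; simp
      | succ m ih => intro a; rw [pow_succ', LinearEquiv.mul_apply, ih, hgv, pow_succ', mul_assoc]
    have hid : i ≤ d := (Nat.le_of_dvd hj0 hij).trans hjd
    obtain ⟨g, h1, h2, h3, h4⟩ := exists_ext (k := k) hid hA hnd (by rw [hfr, hio]) (g₁ := g₁) (fun a b => by
        rw [hgv, hgv, hBv, hBv, map_mul τ]
        congr 1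
        linear_combination (ε * τ a * b) * hyy)
      (LinearEquiv.ext fun a => by rw [hpow, hyr, one_mul]; rfl)
      (fun a h => (mul_eq_zero.1 (show ((y : K) - 1) * a = 0 by rw [sub_one_mul, ← hgv, h, sub_self])).resolve_left
        (sub_ne_zero.2 hy1))
      (L := L) (fun ρ hρ hc => by
        have hmul : ∀ a z b, ρ a (z * b) = z * ρ a b := by
          intro a z
          induction hgen z using Algebra.adjoin_induction with
          | mem z hz => intro b; rw [Set.mem_singleton_iff.1 hz, ← hgv, ← hc, hgv]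
          | algebraMap c => intro b; rw [← Algebra.smul_def, map_smul, Algebra.smul_def]
          | add x z _ _ h1 h2 => intro b; rw [add_mul, map_add, h1, h2, add_mul]
          | mul x z _ _ h1 h2 => intro b; rw [mul_assoc, h1, h2, mul_assoc]
        have hval : ∀ a b, ρ a b = b * ρ a 1 := fun a b => by rw [← hmul, mul_one]
        let φ : L →+* K :=
          { toFun := fun a => ρ a 1
            map_one' := by simp
            map_mul' := fun a b => by
              rw [map_mul, Module.End.mul_apply, hval a (ρ b 1), mul_comm]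
            map_zero' := by simp
            map_add' := fun a b => by simp }
        refine no_hom hk (fun h => hj (h.trans hij)) hρ.rank φ fun a => ?_
        show (ρ a 1) ^ q ^ i = ρ a 1
        rw [← hτ]
        have h : ∀ b, Algebra.trace F K (ε * τ (ρ a 1) * b) = Algebra.trace F K (ε * (b * ρ a 1)) := fun b => by
          have h := hρ.self a 1 b
          rwa [hBv, hBv, hval a b, map_one τ, mul_one] at h
        have h5 : ε * (τ (ρ a 1) - ρ a 1) = 0 := (traceForm_nondegenerate F K).1 _ fun b => by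
          rw [Algebra.traceForm_apply, show ε * (τ (ρ a 1) - ρ a 1) * b = ε * τ (ρ a 1) * b - ε * (b * ρ a 1) by ring,
            map_sub, h b, sub_self]
        exact sub_eq_zero.1 ((mul_eq_zero.1 h5).resolve_left hε0))
    exact ⟨g, i, h1, h2, hi0, hid, by have := Nat.le_of_dvd (by have := hr.two_le; omega) hor; omega, h3, h4⟩
  · -- two dual halves
    have hoj : o ∣ j := (Nat.Coprime.dvd_mul_left (Nat.coprime_two_right.2 hodd)).1 ho2
    have hod : o ≤ d := (Nat.le_of_dvd hj0 hoj).trans hjd
    obtain ⟨k₀, hk₀⟩ := hodd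
    have hyinv : (y : K)⁻¹ ≠ y := fun h => by
      have h1 : y ^ 2 = 1 := Units.ext (by
        rw [Units.val_pow_eq_pow_val, pow_two, Units.val_one]
        nth_rewrite 2 [← h]
        exact mul_inv_cancel₀ y.ne_zero)
      exact hp2r ((Nat.prime_dvd_prime_iff_eq hr Nat.prime_two).1 (hy ▸ orderOf_dvd_of_pow_eq_one h1))
    have hμ : Polynomial.aeval ((y : K)⁻¹) (minpoly F (y : K)) ≠ 0 := fun h => by
      obtain ⟨s, hs⟩ := minpoly.exists_algEquiv_of_root' (L := K)
        (Algebra.IsAlgebraic.isAlgebraic (y : K)) h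
      have hss : ∀ n : ℕ, (s ^ (2 * n + 1)) (y : K) = (y : K)⁻¹ := by
        intro n
        induction n with
        | zero => simpa using hs
        | succ n ih =>
          rw [show 2 * (n + 1) + 1 = 2 + (2 * n + 1) by ring, pow_add, AlgEquiv.mul_apply, ih, pow_two,
            AlgEquiv.mul_apply, map_inv₀, hs, inv_inv, hs]
      have h1 := hss k₀
      have e : s ^ o = 1 := by
        have h2 := pow_card_eq_one' (x := s)
        rwa [IsGalois.card_aut_eq_finrank, hfr] at h2
      rw [← hk₀, e, AlgEquiv.one_apply] at h1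
      exact hyinv h1.symm
    let B₁ : LinearMap.BilinForm F (K × K) :=
      (Algebra.traceForm F K).compl₁₂ (LinearMap.fst F K K) (LinearMap.snd F K K) -
        (Algebra.traceForm F K).compl₁₂ (LinearMap.snd F K K) (LinearMap.fst F K K)
    have hBv : ∀ a b : K × K, B₁ a b = Algebra.trace F K (a.1 * b.2) - Algebra.trace F K (a.2 * b.1) :=
      fun a b => rfl
    let g₁ : (K × K) ≃ₗ[F] (K × K) := ((LinearEquiv.smulOfUnit y : K ≃ₗ[K] K).restrictScalars F).prodCongr
      ((LinearEquiv.smulOfUnit y⁻¹ : K ≃ₗ[K] K).restrictScalars F)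
    have hgv : ∀ a, g₁ a = ((y : K) * a.1, (y : K)⁻¹ * a.2) := fun a =>
      Prod.ext rfl (by show ((y⁻¹ : Kˣ) : K) * a.2 = _; rw [Units.val_inv_eq_inv_val])
    have hpow : ∀ m : ℕ, ∀ a, (g₁ ^ m) a = ((y : K) ^ m * a.1, ((y : K)⁻¹) ^ m * a.2) := by
      intro m
      induction m with
      | zero => intro a; simp
      | succ m ih => intro a; rw [pow_succ', LinearEquiv.mul_apply, ih, hgv, pow_succ', pow_succ', mul_assoc, mul_assoc]
    obtain ⟨g, h1, h2, h3, h4⟩ := exists_ext (k := k) hod (B₁ := B₁)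
      (fun a => by rw [hBv, mul_comm a.1, sub_self])
      (fun u h => Prod.ext ((traceForm_nondegenerate F K).1 _ fun b => by simpa [hBv] using h (0, b))
        ((traceForm_nondegenerate F K).1 _ fun b => by simpa [hBv] using h (b, 0)))
      (by rw [finrank_prod, hfr, two_mul]) (g₁ := g₁) (fun a b => by
        have hy0 := y.ne_zero
        rw [hgv, hgv, hBv, hBv, show (y : K) * a.1 * ((y : K)⁻¹ * b.2) = a.1 * b.2 by
            rw [mul_mul_mul_comm, mul_inv_cancel₀ hy0, one_mul],
          show (y : K)⁻¹ * a.2 * ((y : K) * b.1) = a.2 * b.1 by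
            rw [mul_mul_mul_comm, inv_mul_cancel₀ hy0, one_mul]])
      (LinearEquiv.ext fun a => by rw [hpow, hyr, inv_pow, hyr, inv_one, one_mul, one_mul]; rfl)
      (fun a h => by
        rw [hgv, Prod.ext_iff] at h
        simp only at h
        refine Prod.ext ?_ ?_
        · exact (mul_eq_zero.1 (show ((y : K) - 1) * a.1 = 0 by rw [sub_one_mul, h.1, sub_self])).resolve_left
            (sub_ne_zero.2 hy1)
        · exact (mul_eq_zero.1 (show ((y : K)⁻¹ - 1) * a.2 = 0 by rw [sub_one_mul, h.2, sub_self])).resolve_left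
            (sub_ne_zero.2 fun e => hy1 (inv_eq_one.1 e)))
      (L := L) (fun ρ hρ hc => by
        have hy' : ∀ a b, (ρ a ((y : K) * b, 0)).1 = (y : K) * (ρ a (b, 0)).1 ∧
            (ρ a ((y : K) * b, 0)).2 = (y : K)⁻¹ * (ρ a (b, 0)).2 := fun a b => by
          have h := hc a (b, 0)
          rw [hgv, hgv, mul_zero] at h
          exact ⟨(congrArg Prod.fst h).symm, (congrArg Prod.snd h).symm⟩
        have hpoly : ∀ a (P : Polynomial F) b,
            (ρ a (Polynomial.aeval (y : K) P * b, 0)).1 = Polynomial.aeval (y : K) P * (ρ a (b, 0)).1 ∧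
            (ρ a (Polynomial.aeval (y : K) P * b, 0)).2 = Polynomial.aeval ((y : K)⁻¹) P * (ρ a (b, 0)).2 := by
          intro a P
          induction P using Polynomial.induction_on' with
          | add P Q h1 h2 =>
            intro b
            have hp : ((Polynomial.aeval (y : K) (P + Q) * b, 0) : K × K) =
                (Polynomial.aeval (y : K) P * b, 0) + (Polynomial.aeval (y : K) Q * b, 0) := by
              simp [add_mul]
            rw [hp, map_add, map_add, map_add, Prod.fst_add, Prod.snd_add, (h1 b).1, (h2 b).1, (h1 b).2, (h2 b).2,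
              add_mul, add_mul]
            exact ⟨rfl, rfl⟩
          | monomial n c =>
            induction n with
            | zero =>
              intro b
              have hp : ((algebraMap F K c * b, 0) : K × K) = c • ((b, 0) : K × K) := by
                simp [Algebra.smul_def]
              simp only [Polynomial.aeval_monomial, pow_zero, mul_one, hp, map_smul, Prod.smul_fst, Prod.smul_snd]
              exact ⟨Algebra.smul_def _ _, Algebra.smul_def _ _⟩
            | succ n ih =>
              intro b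
              have := ih ((y : K) * b)
              simp only [Polynomial.aeval_monomial, pow_succ, ← mul_assoc] at this ⊢
              rw [this.1, this.2, (hy' a b).1, (hy' a b).2]
              constructor <;> ring
        have hz : ∀ a b, (ρ a (b, 0)).2 = 0 := fun a b => by
          have h := (hpoly a (minpoly F (y : K)) b).2
          rw [minpoly.aeval, zero_mul] at h
          simp only [Prod.mk_zero_zero, map_zero, Prod.snd_zero] at h
          exact (mul_eq_zero.1 h.symm).resolve_left hμ
        have hval : ∀ a z, (ρ a (z, 0)).1 = z * (ρ a (1, 0)).1 := fun a z => by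
          obtain ⟨P, hP⟩ : ∃ P : Polynomial F, Polynomial.aeval (y : K) P = z := by
            have h := hgen z
            rw [Algebra.adjoin_singleton_eq_range_aeval] at h
            exact h
          have h := (hpoly a P 1).1
          rwa [hP, mul_one] at h
        let φ : L →+* K :=
          { toFun := fun a => (ρ a (1, 0)).1
            map_one' := by simp
            map_mul' := fun a b => by
              have hb : ρ b (1, 0) = ((ρ b (1, 0)).1, 0) := Prod.ext rfl (hz b 1)
              rw [map_mul, Module.End.mul_apply, hb, hval a, mul_comm]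
            map_zero' := by simp
            map_add' := fun a b => by simp }
        refine no_hom hk (i := o) (fun h => hj (h.trans hoj)) hρ.rank φ fun a => ?_
        rw [← hK, Nat.card_eq_fintype_card, FiniteField.pow_card])
    refine ⟨g, o, h1, h2, ho0, hod, ?_, h3, h4⟩
    obtain ⟨t, ht⟩ := hor
    have hev : Even (r - 1) := Nat.Prime.even_sub_one hr hp2r
    rw [ht, Nat.even_mul] at hev
    obtain ⟨t', rfl⟩ := hev.resolve_left (Nat.not_even_iff_odd.2 ⟨k₀, hk₀⟩)
    have : 0 < t' := Nat.pos_of_ne_zero fun h => by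
      have := hr.two_le
      rw [h] at ht; simp at ht; omega
    rw [ht]
    nlinarith

/-- The element `diag (-1, -1, 1, …, 1)`. -/
private theorem bad_two (h2 : (2 : F) ≠ 0) {d k : ℕ} (hk : k.Prime) (hd : 1 ≤ d) (L : Type*) [Field L] [Algebra F L] :
    ∃ g : (Fin d ⊕ Fin d → F) ≃ₗ[F] (Fin d ⊕ Fin d → F),
      Preserves (spB d F) g ∧ g ^ 2 = 1 ∧
      finrank F (LinearMap.ker ((g : (Fin d ⊕ Fin d → F) →ₗ[F] _) - LinearMap.id)) = 2 * d - 2 * 1 ∧
      ∀ ρ : L →ₐ[F] Module.End F (Fin d ⊕ Fin d → F), IsKStr k (spB d F) ρ →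
        ¬ ∀ a v, g (ρ a v) = ρ a (g v) := by
  classical
  refine exists_ext hd (B₁ := spB 1 F) spB_alt spB_trace.nondeg (by simp)
    (g₁ := LinearEquiv.neg F) (fun u v => by simp)
    (LinearEquiv.ext fun v => by simp [pow_two]) (fun w hw => ?_) fun ρ hρ _ => ?_
  · have h : (2 : F) • w = 0 := by
      rw [two_smul]
      nth_rewrite 1 [← hw]
      simp
    exact (smul_eq_zero.1 h).resolve_left h2
  · set er : Fin 1 ⊕ Fin 1 → F := Pi.single (.inr 0) 1
    set el : Fin 1 ⊕ Fin 1 → F := Pi.single (.inl 0) 1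
    have hv : ∀ v : Fin 1 ⊕ Fin 1 → F, v = v (.inr 0) • er + v (.inl 0) • el := fun v => funext fun i => by
      rcases i with i | i <;> fin_cases i <;> simp [er, el]
    have hsc : ∀ a v, ρ a v = (ρ a er (.inr 0)) • v := fun a v => by
      have h1 := hρ.alt a er
      have h2' := hρ.alt a el
      have h3 := hρ.alt a (er + el)
      simp [spB_expand, er, el, map_add] at h1 h2' h3
      have hr : ρ a er = (ρ a er (.inr 0)) • er := funext fun i => by
        rcases i with i | i <;> fin_cases i <;> simp [er] <;> simpa [er] using h1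
      have hl : ρ a el = (ρ a er (.inr 0)) • el := funext fun i => by
        rcases i with i | i <;> fin_cases i <;> simp [er, el]
        · linear_combination -h3 - h1 + h2'
        · simpa [el] using h2'
      conv_lhs => rw [hv v, map_add, map_smul, map_smul, hr, hl]
      conv_rhs => rw [hv v]
      module
    let φ : L →+* F :=
      { toFun := fun a => ρ a er (.inr 0)
        map_one' := by simp [er]
        map_mul' := fun a b => by
          show ρ (a * b) er (.inr 0) = _
          rw [map_mul, Module.End.mul_apply, hsc a (ρ b er), Pi.smul_apply, smul_eq_mul]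
        map_zero' := by simp
        map_add' := fun a b => by simp }
    exact no_hom hk (i := 1) hk.not_dvd_one hρ.rank φ fun a => by rw [pow_one, FiniteField.pow_card]

/-- A transvection centralises no structure and fixes a hyperplane. -/
private theorem transv {p : ℕ} [Fact p.Prime] [CharP F p] {d k : ℕ} (hk : k.Prime) (hd : 1 ≤ d) (L : Type*) [Field L] [Algebra F L] :
    ∃ g : (Fin d ⊕ Fin d → F) ≃ₗ[F] (Fin d ⊕ Fin d → F),
      Preserves (spB d F) g ∧ g ^ p = 1 ∧ g ≠ 1 ∧
      2 * d - 1 ≤ finrank F (LinearMap.ker ((g : (Fin d ⊕ Fin d → F) →ₗ[F] _) - LinearMap.id)) ∧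
      ∀ ρ : L →ₐ[F] Module.End F (Fin d ⊕ Fin d → F), IsKStr k (spB d F) ρ →
        ¬ ∀ a v, g (ρ a v) = ρ a (g v) := by
  classical
  set B := spB d F with hB
  set a : Fin d ⊕ Fin d → F := Pi.single (.inl ⟨0, hd⟩) 1
  have ha0 : a ≠ 0 := fun h => by simpa [a] using congrFun h (.inl ⟨0, hd⟩)
  obtain ⟨g, hg, hgv⟩ := spB_trace.exists_equiv (LinearMap.id + (B a).smulRight a) (fun u v => by
    simp only [LinearMap.add_apply, LinearMap.id_apply, LinearMap.smulRight_apply, map_add, map_smul,
      LinearMap.smul_apply, smul_eq_mul, spB_alt a, hB, alt_swap spB_alt a u]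
    ring)
  have hgv' : ∀ v, g v = v + B a v • a := fun v => by rw [hgv]; simp
  have hpow : ∀ m : ℕ, ∀ v, (g ^ m) v = v + ((m : F) * B a v) • a := by
    intro m
    induction m with
    | zero => intro v; simp
    | succ m ih =>
      intro v
      rw [pow_succ', LinearEquiv.mul_apply, ih, hgv', map_add (B a), map_smul (B a),
        show B a a = 0 from spB_alt a, smul_zero, add_zero, add_assoc, ← add_smul]
      push_cast; ring_nf
  obtain ⟨w, hw⟩ : ∃ w, B a w ≠ 0 := by
    by_contra hc
    push Not at hc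
    exact ha0 (spB_trace.nondeg a hc)
  refine ⟨g, hg, LinearEquiv.ext fun v => by rw [hpow, CharP.cast_eq_zero]; simp, fun h => ?_, ?_, fun ρ hρ hc => ?_⟩
  · have := hgv' w
    rw [h, LinearEquiv.coe_one, id, left_eq_add, smul_eq_zero] at this
    exact this.elim hw ha0
  · have hle : LinearMap.ker (B a) ≤ LinearMap.ker ((g : (Fin d ⊕ Fin d → F) →ₗ[F] _) - LinearMap.id) := fun v hv => by
      rw [LinearMap.mem_ker, LinearMap.sub_apply, sub_eq_zero]
      show g v = v
      rw [hgv', LinearMap.mem_ker.1 hv, zero_smul, add_zero]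
    have h1 := Submodule.finrank_mono hle
    have h2 := LinearMap.finrank_range_add_finrank_ker (B a)
    have h3 := Submodule.finrank_le (LinearMap.range (B a))
    rw [Module.finrank_self] at h3
    rw [finrank_fintype_fun_eq_card, Fintype.card_sum, Fintype.card_fin] at h2
    omega
  · set c : L → F := fun x => (B a w)⁻¹ * B a (ρ x w)
    have hsc : ∀ x, ρ x a = c x • a := fun x => by
      have h1 := hc x w
      rw [hgv', hgv', map_add, map_smul, add_right_inj] at h1
      rw [mul_smul, h1, smul_smul, inv_mul_cancel₀ hw, one_smul]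
    have hinj := smul_left_injective F ha0
    let φ : L →+* F :=
      { toFun := c
        map_one' := hinj (show c 1 • a = (1 : F) • a by rw [← hsc, map_one, one_smul]; rfl)
        map_mul' := fun x y => hinj (show c (x * y) • a = (c x * c y) • a by
          rw [← hsc, map_mul, Module.End.mul_apply, hsc, map_smul, hsc, smul_smul, mul_comm])
        map_zero' := hinj (show c 0 • a = (0 : F) • a by rw [← hsc, map_zero, zero_smul]; rfl)
        map_add' := fun x y => hinj (show c (x + y) • a = (c x + c y) • a by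
          rw [← hsc, map_add, LinearMap.add_apply, hsc, hsc, add_smul]) }
    exact no_hom hk (i := 1) hk.not_dvd_one hρ.rank φ fun x => by rw [pow_one, FiniteField.pow_card]

/-- Coordinates over the extension field. -/
private theorem exists_coords {d k : ℕ} (hk : k.Prime) {L : Type*} [Field L] [Algebra F L]
    {ρ : L →ₐ[F] Module.End F (Fin d ⊕ Fin d → F)} (hρ : IsKStr k (spB d F) ρ) :
    ∃ m, d = k * m ∧ ∃ e : (Fin m ⊕ Fin m → L) ≃ₗ[F] (Fin d ⊕ Fin d → F),
      (∀ u v, spB d F (e u) (e v) = Algebra.trace F L (spB m L u v)) ∧ ∀ a u, ρ a (e u) = e (a • u) := by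
  classical
  haveI : FiniteDimensional F L := FiniteDimensional.of_finrank_pos (hρ.rank ▸ hk.pos)
  haveI : Finite L := Module.finite_of_finite F
  haveI : Algebra.IsSeparable F L := inferInstance
  set B := spB d F with hB
  letI : Module L (Fin d ⊕ Fin d → F) := Module.compHom _ ρ.toRingHom
  have hsmul : ∀ (a : L) (v : Fin d ⊕ Fin d → F), a • v = ρ a v := fun a v => rfl
  haveI : IsScalarTower F L (Fin d ⊕ Fin d → F) := ⟨fun c a v => by
    rw [hsmul, hsmul, map_smul]; rfl⟩
  haveI : FiniteDimensional L (Fin d ⊕ Fin d → F) := Module.Finite.of_restrictScalars_finite F L _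
  let T := LinearMap.BilinForm.toDual (Algebra.traceForm F L) (traceForm_nondegenerate F L)
  let t : (Fin d ⊕ Fin d → F) → (Fin d ⊕ Fin d → F) → L := fun u v => T.symm
    { toFun := fun a => B (ρ a u) v
      map_add' := fun a b => by simp
      map_smul' := fun c a => by simp }
  have ht : ∀ u v a, Algebra.trace F L (t u v * a) = B (ρ a u) v := fun u v a =>
    LinearMap.BilinForm.apply_toDual_symm_apply (hB := traceForm_nondegenerate F L) _ a
  have huniq : ∀ x y : L, (∀ a, Algebra.trace F L (x * a) = Algebra.trace F L (y * a)) → x = y := fun x y h =>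
    sub_eq_zero.1 ((traceForm_nondegenerate F L).1 _ fun a => by
      rw [Algebra.traceForm_apply, sub_mul, map_sub, h, sub_self])
  let b : LinearMap.BilinForm L (Fin d ⊕ Fin d → F) := LinearMap.mk₂ L t
    (fun u u' v => huniq _ _ fun a => by simp [ht, add_mul])
    (fun c u v => huniq _ _ fun a => by
      rw [ht, hsmul, smul_eq_mul, show c * t u v * a = t u v * (a * c) by ring, ht, map_mul,
        Module.End.mul_apply])
    (fun u v v' => huniq _ _ fun a => by simp [ht, add_mul])
    (fun c u v => huniq _ _ fun a => by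
      rw [ht, hsmul, smul_eq_mul, show c * t u v * a = t u v * (c * a) by ring, ht, ← hρ.self, ← Module.End.mul_apply,
        ← map_mul])
  have hA : LinearMap.IsAlt b := fun v => huniq _ _ fun a => by
    rw [show b v v = t v v from rfl, ht, hρ.alt, zero_mul, map_zero]
  have hnd : ∀ u, (∀ v, b u v = 0) → u = 0 := fun u h => spB_trace.nondeg u fun v => by
    have h1 := ht u v 1
    rw [show t u v = 0 from h v, zero_mul, map_zero, map_one] at h1
    exact h1.symm
  obtain ⟨m, bb, -⟩ := exists_symplectic_basis_nondeg hA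
    ⟨hnd, fun y hy => hnd y fun x => by rw [alt_swap hA x y, hy x, neg_zero]⟩
  have hdim : finrank L (Fin d ⊕ Fin d → F) = 2 * m := by
    rw [finrank_eq_card_basis bb, Fintype.card_sum, Fintype.card_fin, two_mul]
  have hdm := Module.finrank_mul_finrank F L (Fin d ⊕ Fin d → F)
  rw [hρ.rank, hdim, finrank_fintype_fun_eq_card, Fintype.card_sum, Fintype.card_fin] at hdm
  obtain ⟨e, he⟩ := FormModel.exists_symp_coords hA hnd hdim
  refine ⟨m, by nlinarith, e.restrictScalars F, fun u v => ?_, fun a u => (map_smul e a u).symm⟩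
  have h1 := ht (e u) (e v) 1
  rw [mul_one, map_one] at h1
  rw [← he]
  exact h1.symm

/-- The odd prime divisors of the index, and the even ones. -/
private theorem dvd_index {d k : ℕ} (hk : k.Prime) {L : Type*} [Field L] [Algebra F L]
    {ρ : L →ₐ[F] Module.End F (Fin d ⊕ Fin d → F)} (hρ : IsKStr k (spB d F) ρ)
    (H : Subgroup (GL (Fin d ⊕ Fin d) F))
    (hH : ∀ x ∈ Cfsg.spGL d F, (∀ a v, TransvMax.linOf x (ρ a v) = ρ a (TransvMax.linOf x v)) → x ∈ H)
    {r : ℕ} (hr : r.Prime) (hrq : ¬ r ∣ Fintype.card F) (hΩ : r ∣ H.relIndex (Cfsg.spGL d F)) :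
    ∃ j, 0 < j ∧ ¬ k ∣ j ∧ j ≤ d ∧ r ∣ Fintype.card F ^ (2 * j) - 1 := by
  classical
  haveI : FiniteDimensional F L := FiniteDimensional.of_finrank_pos (hρ.rank ▸ hk.pos)
  haveI : Finite L := Module.finite_of_finite F
  haveI := Fintype.ofFinite L
  obtain ⟨m, hdm, e, he, hea⟩ := exists_coords hk hρ
  set q := Fintype.card F with hq
  have hq2 : 2 ≤ q := Fintype.one_lt_card
  let φ : SpIso m L →* GL (Fin d ⊕ Fin d) F :=
    MonoidHom.mk' (fun g => TransvMax.glOf (e.symm.trans (((g : (Fin m ⊕ Fin m → L) ≃ₗ[L] _).restrictScalars F).trans e)))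
      (fun g h => TransvMax.gl_ext fun v => by
        rw [Units.val_mul, ← Matrix.mulVec_mulVec]
        simp)
  have hφv : ∀ g : SpIso m L, ∀ v, TransvMax.linOf (φ g) v = e ((g : (Fin m ⊕ Fin m → L) ≃ₗ[L] _) (e.symm v)) :=
    fun g v => TransvMax.glOf_mulVec _ v
  have hφH : φ.range ≤ H ⊓ Cfsg.spGL d F := by
    rintro _ ⟨g, rfl⟩
    have hsp : φ g ∈ Cfsg.spGL d F := fun u v => by
      show Cfsg.sympForm d F (TransvMax.linOf (φ g) u) (TransvMax.linOf (φ g) v) = Cfsg.sympForm d F u v
      obtain ⟨a, rfl⟩ := e.surjective u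
      obtain ⟨b, rfl⟩ := e.surjective v
      rw [TransvMax.sympForm_eq_spB, TransvMax.sympForm_eq_spB, hφv, hφv, e.symm_apply_apply, e.symm_apply_apply,
        he, he, g.2]
    refine ⟨hH _ hsp fun a v => ?_, hsp⟩
    obtain ⟨u, rfl⟩ := e.surjective v
    rw [hea, hφv, hφv, e.symm_apply_apply, e.symm_apply_apply, hea, map_smul]
  have hinj : Function.Injective φ := fun g h hgh => Subtype.ext (LinearEquiv.ext fun w => by
    have := congrArg (fun x => TransvMax.linOf x (e w)) hgh
    simp only [hφv, e.symm_apply_apply] at this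
    exact e.injective this)
  have hdvd : H.relIndex (Cfsg.spGL d F) * Nat.card (SpIso m L) ∣ Nat.card (Cfsg.spGL d F) := by
    refine (Nat.mul_dvd_mul_left _ (Nat.card_congr (MonoidHom.ofInjective hinj).toEquiv ▸
      Subgroup.card_dvd_of_le hφH)).trans (dvd_of_eq ?_)
    rw [mul_comm, ← Subgroup.inf_relIndex_right, ← Subgroup.relIndex_bot_left,
      ← Subgroup.relIndex_bot_left (H := Cfsg.spGL d F)]
    exact Subgroup.relIndex_mul_relIndex _ _ _ bot_le inf_le_right
  have hsp : Nat.card (Cfsg.spGL d F) = q ^ (d ^ 2) * ∏ i ∈ Finset.range d, (q ^ (2 * (i + 1)) - 1) := by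
    rw [← card_symplecticGroup, Nat.card_congr (spEquiv d F).toEquiv]
    exact Nat.card_congr
      { toFun := fun x => ⟨TransvMax.linOf x.1, fun u v => by
          have := x.2 u v
          rw [TransvMax.sympForm_eq_spB, TransvMax.sympForm_eq_spB] at this
          exact this⟩
        invFun := fun g => ⟨TransvMax.glOf g.1, TransvMax.glOf_mem_spGL.2 g.2⟩
        left_inv := fun x => Subtype.ext (TransvMax.glOf_linOf _)
        right_inv := fun g => Subtype.ext (LinearEquiv.ext fun v => TransvMax.glOf_mulVec _ v) }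
  have hmain := (Nat.mul_dvd_mul hΩ (dvd_refl _)).trans hdvd
  rw [hsp, ← Nat.card_congr (spEquiv m L).toEquiv, card_symplecticGroup,
    Module.card_eq_pow_finrank (K := F) (V := L), hρ.rank] at hmain
  set f : ℕ → ℕ := fun i => q ^ (2 * (i + 1)) - 1 with hf
  have hbij : ∏ i ∈ (Finset.range d).filter (fun i => k ∣ i + 1), f i =
      ∏ j ∈ Finset.range m, ((q ^ k) ^ (2 * (j + 1)) - 1) := by
    refine (Finset.prod_nbij' (fun j => k * (j + 1) - 1) (fun i => (i + 1) / k - 1) ?_ ?_ ?_ ?_ ?_).symm
    · intro j hj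
      rw [Finset.mem_range] at hj
      have h0 : 0 < k * (j + 1) := Nat.mul_pos hk.pos (Nat.succ_pos j)
      have h1 : k * (j + 1) ≤ k * m := Nat.mul_le_mul_left k hj
      simp only [Finset.mem_filter, Finset.mem_range]
      exact ⟨by omega, by rw [Nat.sub_add_cancel h0]; exact Dvd.intro _ rfl⟩
    · intro i hi
      simp only [Finset.mem_filter, Finset.mem_range] at hi
      obtain ⟨⟨hid, c, hc⟩⟩ := And.intro hi trivial
      rw [Finset.mem_range, hc, Nat.mul_div_cancel_left _ hk.pos]
      have : c ≤ m := Nat.le_of_mul_le_mul_left (by omega) hk.pos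
      have : c ≠ 0 := fun h => by rw [h, mul_zero] at hc; omega
      omega
    · intro j _
      have h0 : 0 < k * (j + 1) := Nat.mul_pos hk.pos (Nat.succ_pos j)
      show (k * (j + 1) - 1 + 1) / k - 1 = j
      rw [Nat.sub_add_cancel h0, Nat.mul_div_cancel_left _ hk.pos, Nat.add_sub_cancel]
    · intro i hi
      simp only [Finset.mem_filter, Finset.mem_range] at hi
      obtain ⟨hid, c, hc⟩ := hi
      show k * ((i + 1) / k - 1 + 1) - 1 = i
      rw [hc, Nat.mul_div_cancel_left _ hk.pos]
      have : c ≠ 0 := fun h => by rw [h, mul_zero] at hc; omega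
      rw [show c - 1 + 1 = c by omega]
      omega
    · intro j _
      have h0 : 0 < k * (j + 1) := Nat.mul_pos hk.pos (Nat.succ_pos j)
      show (q ^ k) ^ (2 * (j + 1)) - 1 = q ^ (2 * (k * (j + 1) - 1 + 1)) - 1
      rw [Nat.sub_add_cancel h0, ← pow_mul]
      congr 2
      ring
  rw [show (∏ i ∈ Finset.range d, (q ^ (2 * (i + 1)) - 1)) = ∏ i ∈ Finset.range d, f i from rfl,
    ← Finset.prod_filter_mul_prod_filter_not (Finset.range d) (fun i => k ∣ i + 1) f, hbij] at hmain
  have hpos : 0 < ∏ j ∈ Finset.range m, ((q ^ k) ^ (2 * (j + 1)) - 1) :=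
    Finset.prod_pos fun j _ => by
      have : 1 < (q ^ k) ^ (2 * (j + 1)) := Nat.one_lt_pow (by omega) (Nat.one_lt_pow hk.ne_zero (by omega))
      omega
  rw [mul_comm (∏ j ∈ Finset.range m, _) (∏ i ∈ Finset.filter (fun i => ¬k ∣ i + 1) _, f i), ← mul_assoc,
    ← mul_assoc] at hmain
  have hd' := (Dvd.intro _ rfl).trans (Nat.dvd_of_mul_dvd_mul_right hpos hmain)
  rcases hr.dvd_mul.1 hd' with h' | h'
  · exact absurd (hr.dvd_of_dvd_pow h') hrq
  · obtain ⟨i, hi, hi'⟩ := (Prime.dvd_finsetProd_iff hr.prime _).1 h'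
    rw [Finset.mem_filter, Finset.mem_range] at hi
    exact ⟨i + 1, by omega, hi.2, by omega, hi'⟩

/-- Elements of prime order of PSp_n(q) and the field-extension subgroups of type Sp_{n/k}(q^k). Here `T = PSp_{2d}(F)` for a field `F` with `q` elements (`d ≥ 2`, `(d, q) ≠ (2, 2)`), realised through the matrices preserving the standard alternating form `f`; `k` is a prime and `K` is a subalgebra of the `2d × 2d` matrices that is a field of degree `k` over `F` whose elements are self-adjoint for `f` and satisfy `f(a v, v) = 0` (so `F^{2d}` becomes a vector space over `K ≅ F_{q^k}` on which `f` is the trace of a `K`-bilinear alternating form); `H` is the subgroup of `T` normalizing `K` — the symplectic maps that are `K`-linear or `K`-semilinear, a subgroup of type Sp_{2d/k}(q^k) (maximality is not assumed). Ω is the set of cosets of `H` in `T`, so an element of `T` of prime order `r` (`x ∈ T` with `x^r` scalar, `x` not scalar) fixes a point of Ω exactly when some `T`-conjugate of `x` normalizes `K`. Let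 `r` be a prime dividing the index of `H`. Then every element of `T` of order `r` fixes a point of Ω if and only if `r = 2`, `d = 2`, `k = 2` and `q` is odd. -/
theorem result {F : Type*} [Field F] [Fintype F] {p : ℕ} [Fact p.Prime] [CharP F p] {q : ℕ} (hq : Fintype.card F = q)
    (d : ℕ) (hd : 2 ≤ d) (hT : (d, q) ≠ (2, 2)) (k : ℕ) (hk : k.Prime)
    (K : Subalgebra F (Matrix (Fin d ⊕ Fin d) (Fin d ⊕ Fin d) F)) (hK : Cfsg.Geo.IsFieldSubalgebra k K)
    (hKf : Cfsg.Geo.IsSelfAdjointFor (Cfsg.sympForm d F) K) (hKalt : ∀ a ∈ K, ∀ v : Fin d ⊕ Fin d → F, Cfsg.sympForm d F (a *ᵥ v) v = 0)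
    (r : ℕ) [Fact r.Prime]
    (hΩ : r ∣ (Cfsg.Geo.subalgebraNormalizer K).relIndex (Cfsg.spGL d F)) :
    (∀ x ∈ Cfsg.spGL d F, (∃ z : F, ((x ^ r : GL (Fin d ⊕ Fin d) F) : Matrix (Fin d ⊕ Fin d) (Fin d ⊕ Fin d) F) = z • (1 : Matrix (Fin d ⊕ Fin d) (Fin d ⊕ Fin d) F)) →
      (∀ z : F, (x : Matrix (Fin d ⊕ Fin d) (Fin d ⊕ Fin d) F) ≠ z • (1 : Matrix (Fin d ⊕ Fin d) (Fin d ⊕ Fin d) F)) →
      ∃ g ∈ Cfsg.spGL d F, g⁻¹ * x * g ∈ Cfsg.Geo.subalgebraNormalizer K) ↔
    (r = 2 ∧ d = 2 ∧ k = 2 ∧ Odd q) := by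
  classical
  subst hq
  have hr : r.Prime := Fact.out
  have hp : p.Prime := Fact.out
  set B := spB d F with hB
  have hf : ∀ u v, Cfsg.sympForm d F u v = B u v := TransvMax.sympForm_eq_spB
  have hd0 : Nonempty (Fin d ⊕ Fin d) := ⟨.inl ⟨0, by omega⟩⟩
  haveI : Nontrivial (Fin d ⊕ Fin d → F) := by
    obtain ⟨i⟩ := hd0
    exact ⟨⟨Pi.single i 1, 0, fun h => by simpa using congrFun h i⟩⟩
  have hmem : ∀ x : GL (Fin d ⊕ Fin d) F, x ∈ Cfsg.spGL d F ↔ Preserves B (TransvMax.linOf x) := fun x => by
    refine ⟨fun h u v => ?_, fun h u v => ?_⟩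
    · rw [← hf, ← hf]; exact h u v
    · rw [hf, hf]; exact h u v
  -- the field
  letI : CommRing K := { (inferInstance : Ring K) with
    mul_comm := fun x y => Subtype.ext (hK.comm x x.2 y y.2) }
  haveI : Nontrivial K := Module.nontrivial_of_finrank_pos (R := F) (by rw [hK.finrank_eq]; exact hk.pos)
  letI : Field K := IsField.toField ⟨exists_pair_ne K, mul_comm, fun {x} hx => by
    obtain ⟨y, hy, hxy⟩ := hK.inv x x.2 fun h => hx (Subtype.ext h)
    exact ⟨⟨y, hy⟩, Subtype.ext hxy⟩⟩
  let ρ₀ : K →ₐ[F] Module.End F (Fin d ⊕ Fin d → F) :=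
    (Matrix.toLinAlgEquiv' : Matrix (Fin d ⊕ Fin d) (Fin d ⊕ Fin d) F ≃ₐ[F] _).toAlgHom.comp K.val
  have hρv : ∀ (a : K) v, ρ₀ a v = (a : Matrix (Fin d ⊕ Fin d) (Fin d ⊕ Fin d) F) *ᵥ v := fun a v =>
    Matrix.toLinAlgEquiv'_apply _ _
  have hρ₀ : IsKStr k B ρ₀ := ⟨hK.finrank_eq, fun a u v => by rw [hρv, hρv, ← hf, ← hf]; exact hKf a a.2 u v,
    fun a v => by rw [hρv, ← hf]; exact hKalt a a.2 v⟩
  obtain ⟨m, hdm, e₀, he₀, he₀a⟩ := exists_coords hk hρ₀
  have hkd : k ≤ d := by
    rw [hdm]
    refine Nat.le_mul_of_pos_right k (Nat.pos_of_ne_zero fun h => ?_)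
    rw [h, mul_zero] at hdm
    omega
  -- fixed points give structures normalised by the element
  have hfwd : ∀ g : (Fin d ⊕ Fin d → F) ≃ₗ[F] (Fin d ⊕ Fin d → F),
      (∃ h ∈ Cfsg.spGL d F, h⁻¹ * TransvMax.glOf g * h ∈ Cfsg.Geo.subalgebraNormalizer K) →
      ∃ ρ : K →ₐ[F] Module.End F (Fin d ⊕ Fin d → F), IsKStr k B ρ ∧ ∀ a, ∃ a', ∀ v, g (ρ a v) = ρ a' (g v) := by
    rintro g ⟨h, hh, hn⟩
    have hhB := (hmem h).1 hh
    set l := TransvMax.linOf h
    let ρ : K →ₐ[F] Module.End F (Fin d ⊕ Fin d → F) := (LinearEquiv.conjAlgEquiv F l).toAlgHom.comp ρ₀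
    have hρ : ∀ a v, ρ a v = l (ρ₀ a (l.symm v)) := fun a v => rfl
    refine ⟨ρ, ⟨hK.finrank_eq, fun a u v => ?_, fun a v => ?_⟩, fun a => ?_⟩
    · rw [hρ, hρ]
      conv_lhs => rw [← l.apply_symm_apply v, hhB, hρ₀.self, ← hhB, l.apply_symm_apply]
    · rw [hρ]
      conv_lhs => rw [← l.apply_symm_apply v, hhB, l.symm_apply_apply]
      exact hρ₀.alt a _
    · set y := h⁻¹ * TransvMax.glOf g * h
      refine ⟨⟨_, (hn a.1).1 a.2⟩, fun v => ?_⟩
      obtain ⟨v, rfl⟩ := l.surjective v
      rw [hρ, hρ, l.symm_apply_apply]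
      have hy : ∀ w, l (TransvMax.linOf y w) = g (l w) := fun w => by
        simp only [l, y, TransvMax.linOf_apply, Matrix.mulVec_mulVec, ← Units.val_mul, mul_assoc, mul_inv_cancel_left]
        rw [Units.val_mul, ← Matrix.mulVec_mulVec, TransvMax.glOf_mulVec]
      rw [← hy, ← hy, l.symm_apply_apply]
      congr 1
      rw [hρv, hρv]
      simp only [TransvMax.linOf_apply, Matrix.mulVec_mulVec, mul_assoc]
      rw [← Units.val_mul, inv_mul_cancel, Units.val_one, mul_one]
  constructor
  · intro hall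
    have key : ∀ g : (Fin d ⊕ Fin d → F) ≃ₗ[F] (Fin d ⊕ Fin d → F), Preserves B g → g ^ r = 1 →
        (∀ z : F, ∃ v, g v ≠ z • v) →
        ∀ (_ : ∀ ρ : K →ₐ[F] Module.End F (Fin d ⊕ Fin d → F), IsKStr k B ρ → ¬ ∀ a v, g (ρ a v) = ρ a (g v)),
        k * finrank F (LinearMap.ker ((g : (Fin d ⊕ Fin d → F) →ₗ[F] _) - LinearMap.id)) ≤ 2 * d ∧ r ≤ k := by
      intro g hg hgr hns hno
      have hx : TransvMax.glOf g ∈ Cfsg.spGL d F := TransvMax.glOf_mem_spGL.2 hg
      obtain ⟨ρ, hρ, hnorm⟩ := hfwd g (hall _ hx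
        ⟨1, by rw [← map_pow, hgr, map_one, Units.val_one, one_smul]⟩
        (fun z hz => by
          obtain ⟨v, hv⟩ := hns z
          exact hv (by rw [← TransvMax.glOf_mulVec g v, hz, Matrix.smul_mulVec, Matrix.one_mulVec])))
      have hnc := hno ρ hρ
      push Not at hnc
      obtain ⟨a, v, hav⟩ := hnc
      refine ⟨?_, order_le hk hρ.rank ρ hr hgr hnorm ⟨a, v, hav⟩⟩
      have h := fix_bound hk hρ.rank ρ hnorm ⟨a, v, hav⟩
      rw [finrank_fintype_fun_eq_card, Fintype.card_sum, Fintype.card_fin] at h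
      omega
    have hns : ∀ (g : (Fin d ⊕ Fin d → F) ≃ₗ[F] (Fin d ⊕ Fin d → F)) (n : ℕ),
        finrank F (LinearMap.ker ((g : (Fin d ⊕ Fin d → F) →ₗ[F] _) - LinearMap.id)) = n → 0 < n → g ≠ 1 →
        ∀ z : F, ∃ v, g v ≠ z • v := by
      intro g n hn hn0 hg1 z
      by_contra hc
      push Not at hc
      have hne : LinearMap.ker ((g : (Fin d ⊕ Fin d → F) →ₗ[F] _) - LinearMap.id) ≠ ⊥ := fun h => by
        rw [h, finrank_bot] at hn; omega
      obtain ⟨v, hv, hv0⟩ := Submodule.exists_mem_ne_zero_of_ne_bot hne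
      rw [LinearMap.mem_ker, LinearMap.sub_apply, sub_eq_zero] at hv
      have h1 : z • v = (1 : F) • v := by rw [← hc, one_smul]; exact hv
      have hz1 : z = 1 := smul_left_injective F hv0 h1
      exact hg1 (LinearEquiv.ext fun w => by rw [hc, hz1, one_smul]; rfl)
    have hrp : r ≠ p := by
      rintro rfl
      obtain ⟨g, hg, hgr, hg1, hfix, hno⟩ := transv (F := F) (p := r) hk (by omega : 1 ≤ d) K
      have h := (key g hg hgr (hns g _ rfl (by omega) hg1) hno).1
      have := Nat.mul_le_mul hk.two_le hfix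
      omega
    have hrq : ¬ r ∣ Fintype.card F := by
      obtain ⟨a, -, hcard⟩ := FiniteField.card F p
      intro h
      rw [hcard] at h
      exact hrp ((Nat.prime_dvd_prime_iff_eq hr hp).1 (hr.dvd_of_dvd_pow h))
    rcases eq_or_ne r 2 with hr2 | hr2
    · subst hr2
      have h2F : (2 : F) ≠ 0 := fun h => hrp (by
        have : (p : ℕ) ∣ 2 := (CharP.cast_eq_zero_iff F p 2).1 (by exact_mod_cast h)
        exact ((Nat.prime_dvd_prime_iff_eq hp Nat.prime_two).1 this).symm)
      obtain ⟨g, hg, hgr, hfix, hno⟩ := bad_two h2F hk (by omega : 1 ≤ d) K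
      have hg1 : g ≠ 1 := fun h => by
        have h1 : LinearMap.ker ((g : (Fin d ⊕ Fin d → F) →ₗ[F] _) - LinearMap.id) = ⊤ :=
          LinearMap.ker_eq_top.2 (LinearMap.ext fun v => by rw [h]; exact sub_self v)
        rw [h1, finrank_top, finrank_fintype_fun_eq_card, Fintype.card_sum, Fintype.card_fin] at hfix
        omega
      have h := (key g hg hgr (hns g _ hfix (by omega) hg1) hno).1
      rw [hfix] at h
      have hk2 : k = 2 := by
        by_contra hne
        have h3 : 3 ≤ k := by have := hk.two_le; omega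
        have := Nat.mul_le_mul_right (2 * d - 2 * 1) h3
        omega
      subst hk2
      refine ⟨rfl, by omega, rfl, ?_⟩
      rw [← Nat.not_even_iff_odd, even_iff_two_dvd]
      exact hrq
    · exfalso
      obtain ⟨j, hj0, hj, hjd, hrj⟩ := dvd_index hk hρ₀ _ (fun x hx hc => by
        intro a
        have hiff : ∀ a : K, (x : Matrix (Fin d ⊕ Fin d) (Fin d ⊕ Fin d) F) * a.1 *
            ((x⁻¹ : GL (Fin d ⊕ Fin d) F) : Matrix (Fin d ⊕ Fin d) (Fin d ⊕ Fin d) F) = a.1 := fun a =>
          Matrix.ext_iff_mulVec.2 fun v => by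
            have h := hc a ((((x⁻¹ : GL (Fin d ⊕ Fin d) F)) : Matrix (Fin d ⊕ Fin d) (Fin d ⊕ Fin d) F) *ᵥ v)
            rw [hρv, hρv] at h
            simp only [TransvMax.linOf_apply, TransvMax.mulVec_inv_mulVec] at h
            rwa [← Matrix.mulVec_mulVec, ← Matrix.mulVec_mulVec]
        refine ⟨fun ha => by rw [hiff ⟨a, ha⟩]; exact ha, fun ha => ?_⟩
        have h := hiff ⟨_, ha⟩
        rw [Units.mul_left_inj, Units.mul_right_inj] at h
        exact h ▸ ha) hr hrq hΩ
      obtain ⟨g, i, hg, hgr, hi0, hid, hir, hfix, hno⟩ :=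
        exists_bad (p := p) hr2 hk hj0 hj hjd hrj hrq K
      have hg1 : g ≠ 1 := fun h => by
        have h1 : LinearMap.ker ((g : (Fin d ⊕ Fin d → F) →ₗ[F] _) - LinearMap.id) = ⊤ :=
          LinearMap.ker_eq_top.2 (LinearMap.ext fun v => by rw [h]; exact sub_self v)
        rw [h1, finrank_top, finrank_fintype_fun_eq_card, Fintype.card_sum, Fintype.card_fin] at hfix
        omega
      have hns' : ∀ z : F, ∃ v, g v ≠ z • v := by
        rcases Nat.eq_zero_or_pos (2 * d - 2 * i) with h0 | h0
        · -- no fixed vectors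
          intro z
          by_contra hc
          push Not at hc
          refine hno ρ₀ hρ₀ fun a v => ?_
          rw [hc, hc, map_smul]
        · exact hns g _ hfix h0 hg1
      obtain ⟨h, hrk⟩ := key g hg hgr hns' hno
      rw [hfix] at h
      have h2 : 2 * i ≤ k - 1 := by omega
      have h3 : k * (2 * d - 2 * i) + k * (2 * i) = k * (2 * d) := by
        rw [← mul_add, Nat.sub_add_cancel (by omega)]
      have h4 : k * (2 * i) ≤ k * (k - 1) := Nat.mul_le_mul_left k h2
      have h5 : 2 * d * (k - 1) ≤ k * (k - 1) := by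
        have h6 : 2 * d * (k - 1) + 2 * d = k * (2 * d) := by
          conv_rhs => rw [show k = k - 1 + 1 by omega]
          ring
        omega
      have := Nat.le_of_mul_le_mul_right h5 (by have := hk.two_le; omega)
      omega
  · rintro ⟨rfl, rfl, rfl, hqodd⟩ x hx ⟨z, hz⟩ hxns
    have hp2 : p ≠ 2 := by
      rintro rfl
      exact Nat.not_even_iff_odd.2 hqodd (Nat.even_iff.2 (FiniteField.even_card_iff_char_two.1 (ringChar.eq F 2)))
    have h2F : (2 : F) ≠ 0 := fun h => hp2 (by
      have : (p : ℕ) ∣ 2 := (CharP.cast_eq_zero_iff F p 2).1 (by exact_mod_cast h)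
      exact (Nat.prime_dvd_prime_iff_eq hp Nat.prime_two).1 this)
    obtain rfl : m = 1 := by omega
    haveI : FiniteDimensional F K := FiniteDimensional.of_finrank_pos (by rw [hK.finrank_eq]; norm_num)
    -- a square root generating the field
    have hA : ∃ a : K, ∀ c : F, a ≠ algebraMap F K c := by
      by_contra hc
      push Not at hc
      have h : (⊥ : Subalgebra F K) = ⊤ := eq_top_iff.2 fun a _ => Algebra.mem_bot.2 (by
        obtain ⟨c, hc⟩ := hc a; exact ⟨c, hc.symm⟩)
      rw [Subalgebra.bot_eq_top_iff_finrank_eq_one, hK.finrank_eq] at h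
      omega
    obtain ⟨a₀, ha₀⟩ := hA
    have hpair : ∀ a : K, (∀ c : F, a ≠ algebraMap F K c) → ∀ b : K, ∃ s t : F, b = algebraMap F K s + t • a := by
      intro a ha b
      have hli : LinearIndependent F ![(1 : K), a] := by
        rw [LinearIndependent.pair_iff]
        intro s t hst
        by_cases ht : t = 0
        · rw [ht, zero_smul, add_zero, smul_eq_zero] at hst
          exact ⟨hst.resolve_right one_ne_zero, ht⟩
        · refine absurd ?_ (ha (-(s / t)))
          rw [map_neg, eq_neg_iff_add_eq_zero, Algebra.algebraMap_eq_smul_one, div_eq_inv_mul, mul_smul,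
            ← inv_smul_smul₀ ht a, ← smul_add, add_comm, hst, smul_zero]
      have hsp := hli.span_eq_top_of_card_eq_finrank (by rw [Fintype.card_fin, hK.finrank_eq])
      obtain ⟨c, hc⟩ := Submodule.mem_span_range_iff_exists_fun F |>.1 (hsp.ge (Submodule.mem_top (x := b)))
      rw [Fin.sum_univ_two] at hc
      exact ⟨c 0, c 1, by rw [← hc, Algebra.algebraMap_eq_smul_one]; rfl⟩
    obtain ⟨s₀, t₀, hst₀⟩ := hpair a₀ ha₀ (a₀ * a₀)
    set J : K := a₀ - algebraMap F K (t₀ / 2)
    have hJ0 : ∀ c : F, J ≠ algebraMap F K c := fun c hc => ha₀ (c + t₀ / 2) (by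
      rw [map_add, ← hc, sub_add_cancel])
    set δ := s₀ + t₀ / 2 * (t₀ / 2)
    have hJ2 : J * J = algebraMap F K δ := by
      have h2t : t₀ = t₀ / 2 + t₀ / 2 := by field_simp; ring
      have h3 : (algebraMap F K t₀) = algebraMap F K (t₀ / 2) + algebraMap F K (t₀ / 2) := by
        rw [← map_add, ← h2t]
      simp only [J, δ, map_add, map_mul]
      rw [Algebra.smul_def] at hst₀
      linear_combination hst₀ + a₀ * h3
    have hδ : ∀ c : F, c * c ≠ δ := fun c hc => by
      have h : (J - algebraMap F K c) * (J + algebraMap F K c) = 0 := by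
        rw [show (J - algebraMap F K c) * (J + algebraMap F K c) = J * J - algebraMap F K c * algebraMap F K c by ring,
          hJ2, ← map_mul, hc, sub_self]
      rcases mul_eq_zero.1 h with h' | h'
      · exact hJ0 c (sub_eq_zero.1 h')
      · exact hJ0 (-c) (by rw [map_neg]; exact eq_neg_of_add_eq_zero_left h')
    have hrep : ∀ a : K, ∃ s t : F, a = algebraMap F K s + t • J := hpair J hJ0
    have hxB := (hmem x).1 hx
    set X := TransvMax.linOf x
    have hXX : ∀ v, X (X v) = z • v := fun v => by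
      simp only [X, TransvMax.linOf_apply, Matrix.mulVec_mulVec]
      rw [← Units.val_mul, ← pow_two, hz, Matrix.smul_mulVec, Matrix.one_mulVec]
    -- it suffices to find a root commuting up to sign
    suffices hJ' : ∃ J' : (Fin 2 ⊕ Fin 2 → F) →ₗ[F] (Fin 2 ⊕ Fin 2 → F), (∀ u v, B (J' u) v = B u (J' v)) ∧
        (∀ v, J' (J' v) = δ • v) ∧ ∃ b : F, b * b = 1 ∧ ∀ v, X (J' v) = b • J' (X v) by
      obtain ⟨J', hJself, hJsq, b, hb, hbv⟩ := hJ'
      choose s t hst using hrep
      have huniq : ∀ s t s' t' : F, algebraMap F K s + t • J = algebraMap F K s' + t' • J → s = s' ∧ t = t' := by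
        intro s t s' t' h
        by_cases ht : t = t'
        · subst ht
          exact ⟨(algebraMap F K).injective (add_right_cancel h), rfl⟩
        · refine absurd ?_ (hJ0 ((s' - s) / (t - t')))
          have h1 : (t - t') • J = algebraMap F K (s' - s) := by rw [sub_smul, map_sub]; linear_combination h
          rw [div_eq_inv_mul, map_mul, ← h1, ← Algebra.smul_def, inv_smul_smul₀ (sub_ne_zero.2 ht)]
      have hmulrep : ∀ s t s' t' : F, (algebraMap F K s + t • J) * (algebraMap F K s' + t' • J) =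
          algebraMap F K (s * s' + t * t' * δ) + (s * t' + t * s') • J := fun s t s' t' => by
        simp only [Algebra.smul_def, map_add, map_mul]
        linear_combination (algebraMap F K t * algebraMap F K t') * hJ2
      let ρ' : K →ₐ[F] Module.End F (Fin 2 ⊕ Fin 2 → F) :=
        { toFun := fun a => s a • 1 + t a • J'
          map_one' := by
            obtain ⟨h1, h2⟩ := huniq 1 0 (s 1) (t 1) (by rw [← hst, map_one, zero_smul, add_zero])
            rw [← h1, ← h2, one_smul, zero_smul, add_zero]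
          map_mul' := fun a c => by
            obtain ⟨h1, h2⟩ := huniq _ _ (s (a * c)) (t (a * c))
              ((hmulrep (s a) (t a) (s c) (t c)).symm.trans (by rw [← hst, ← hst, ← hst]))
            rw [← h1, ← h2]
            refine LinearMap.ext fun v => ?_
            simp only [LinearMap.add_apply, LinearMap.smul_apply, Module.End.one_apply, Module.End.mul_apply, map_add,
              map_smul, hJsq]
            module
          map_zero' := by
            obtain ⟨h1, h2⟩ := huniq 0 0 (s 0) (t 0) (by rw [← hst, map_zero, zero_smul, add_zero])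
            rw [← h1, ← h2, zero_smul, zero_smul, add_zero]
          map_add' := fun a c => by
            obtain ⟨h1, h2⟩ := huniq (s a + s c) (t a + t c) (s (a + c)) (t (a + c)) (by
              rw [← hst, map_add, add_smul]; conv_rhs => rw [hst a, hst c]
              abel)
            rw [← h1, ← h2]
            module
          commutes' := fun c => by
            obtain ⟨h1, h2⟩ := huniq c 0 (s (algebraMap F K c)) (t (algebraMap F K c)) (by rw [← hst, zero_smul, add_zero])
            rw [← h1, ← h2, zero_smul, add_zero, Algebra.algebraMap_eq_smul_one] }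
      have hρ'v : ∀ a v, ρ' a v = s a • v + t a • J' v := fun a v => rfl
      have hJalt : ∀ v, B (J' v) v = 0 := fun v => (mul_eq_zero.1 (show (2 : F) * B (J' v) v = 0 by
        have h := hJself v v
        rw [alt_swap spB_alt (J' v) v] at h
        linear_combination h)).resolve_left h2F
      have hρ' : IsKStr 2 B ρ' := ⟨hK.finrank_eq, fun a u v => by
          simp only [hρ'v, map_add, map_smul, LinearMap.add_apply, LinearMap.smul_apply, hJself],
        fun a v => by
          simp only [hρ'v, map_add, map_smul, LinearMap.add_apply, LinearMap.smul_apply, hJalt, show B v v = 0 from spB_alt v,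
            smul_zero, add_zero]⟩
      obtain ⟨m', hdm', e₁, he₁, he₁a⟩ := exists_coords hk hρ'
      obtain rfl : m' = 1 := by omega
      let g := TransvMax.glOf (e₀.symm.trans e₁)
      have hg : g ∈ Cfsg.spGL 2 F := TransvMax.glOf_mem_spGL.2 fun u v => by
        obtain ⟨u, rfl⟩ := e₀.surjective u
        obtain ⟨v, rfl⟩ := e₀.surjective v
        simp [he₀, he₁]
      have hgρ : ∀ a v, TransvMax.linOf g (ρ₀ a v) = ρ' a (TransvMax.linOf g v) := fun a v => by
        obtain ⟨v, rfl⟩ := e₀.surjective v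
        simp only [g, TransvMax.linOf_apply, TransvMax.glOf_mulVec, LinearEquiv.trans_apply]
        rw [he₀a, e₀.symm_apply_apply, e₀.symm_apply_apply, he₁a]
      have hJρ : ∀ v, ρ' J v = J' v := fun v => by
        obtain ⟨h1, h2⟩ := huniq 0 1 (s J) (t J) (by rw [← hst, map_zero, zero_add, one_smul])
        rw [hρ'v, ← h1, ← h2, zero_smul, one_smul, zero_add]
      refine ⟨g, hg, ?_⟩
      set y := g⁻¹ * x * g
      have hyJ : ∀ v, TransvMax.linOf y (ρ₀ J v) = b • ρ₀ J (TransvMax.linOf y v) := fun v => by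
        apply (TransvMax.linOf g).injective
        have hyv : ∀ w, TransvMax.linOf g (TransvMax.linOf y w) = X (TransvMax.linOf g w) := fun w => by
          simp only [y, X, TransvMax.linOf_apply, Matrix.mulVec_mulVec, ← Units.val_mul, mul_assoc, mul_inv_cancel_left]
        rw [hyv, map_smul, hgρ, hgρ, hyv, hJρ, hJρ, hbv]
      have hconj : (y : Matrix (Fin 2 ⊕ Fin 2) (Fin 2 ⊕ Fin 2) F) * J.1 *
          ((y⁻¹ : GL (Fin 2 ⊕ Fin 2) F) : Matrix (Fin 2 ⊕ Fin 2) (Fin 2 ⊕ Fin 2) F) = b • J.1 :=
        Matrix.ext_iff_mulVec.2 fun v => by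
          have h := hyJ ((((y⁻¹ : GL (Fin 2 ⊕ Fin 2) F)) : Matrix (Fin 2 ⊕ Fin 2) (Fin 2 ⊕ Fin 2) F) *ᵥ v)
          rw [hρv, hρv] at h
          simp only [TransvMax.linOf_apply, TransvMax.mulVec_inv_mulVec] at h
          rw [← Matrix.mulVec_mulVec, ← Matrix.mulVec_mulVec, h, Matrix.smul_mulVec]
      have himg : ∀ s t : F, (y : Matrix (Fin 2 ⊕ Fin 2) (Fin 2 ⊕ Fin 2) F) * (s • 1 + t • J.1) *
          ((y⁻¹ : GL (Fin 2 ⊕ Fin 2) F) : Matrix (Fin 2 ⊕ Fin 2) (Fin 2 ⊕ Fin 2) F) = s • 1 + (t * b) • J.1 := by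
        intro s t
        simp only [mul_add, add_mul, Matrix.mul_smul, Matrix.smul_mul, mul_one, Units.mul_inv, hconj, smul_smul]
      have hKrep : ∀ k ∈ K, ∃ s t : F, k = s • 1 + t • J.1 := fun k hk => by
        have h := congrArg Subtype.val (hst ⟨k, hk⟩)
        rw [Algebra.algebraMap_eq_smul_one] at h
        exact ⟨_, _, h⟩
      intro k
      constructor
      · intro hk
        obtain ⟨s, t, rfl⟩ := hKrep k hk
        rw [himg]
        exact K.add_mem (K.smul_mem K.one_mem _) (K.smul_mem J.2 _)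
      · intro hk
        obtain ⟨s, t, hkst⟩ := hKrep _ hk
        have h2 := (himg s (t * b)).trans (by rw [mul_assoc, hb, mul_one, ← hkst])
        rw [((Units.mul_right_inj y).1 ((Units.mul_left_inj y⁻¹).1 h2)).symm]
        exact K.add_mem (K.smul_mem K.one_mem _) (K.smul_mem J.2 _)
    obtain ⟨i⟩ := hd0
    obtain ⟨w, hw⟩ : ∃ w, B (Pi.single i 1) w ≠ 0 := by
      by_contra hc
      push Not at hc
      simpa using congrFun (spB_trace.nondeg (Pi.single i 1) hc) i
    have hz2 : z * z = 1 := by
      have h1 : B (X (X (Pi.single i 1))) (X (X w)) = B (Pi.single i 1) w := by rw [hxB, hxB]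
      rw [hXX, hXX] at h1
      simp only [map_smul, LinearMap.smul_apply, smul_eq_mul] at h1
      exact mul_right_cancel₀ hw (by linear_combination h1)
    rcases mul_self_eq_one_iff.1 hz2 with rfl | rfl
    · -- an involution
      set P := LinearMap.ker ((X : (Fin 2 ⊕ Fin 2 → F) →ₗ[F] _) - LinearMap.id)
      set M := LinearMap.ker ((X : (Fin 2 ⊕ Fin 2 → F) →ₗ[F] _) + LinearMap.id)
      have hPm : ∀ v, v ∈ P ↔ X v = v := fun v => by rw [LinearMap.mem_ker, LinearMap.sub_apply, sub_eq_zero]; rfl
      have hMm : ∀ v, v ∈ M ↔ X v = -v := fun v => by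
        rw [LinearMap.mem_ker, LinearMap.add_apply, add_eq_zero_iff_eq_neg]; rfl
      have hPM : IsCompl P M := by
        refine IsCompl.of_eq ?_ ?_
        · rw [Submodule.eq_bot_iff]
          rintro v ⟨h1, h2⟩
          have h3 := ((hPm v).1 h1).symm.trans ((hMm v).1 h2)
          exact (smul_eq_zero.1 (show (2 : F) • v = 0 by rw [two_smul]; exact add_eq_zero_iff_eq_neg.2 h3)).resolve_left h2F
        · rw [eq_top_iff]
          intro v _
          have h1 : v + X v ∈ P := by rw [hPm, map_add, hXX, one_smul, add_comm]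
          have h2 : v - X v ∈ M := by rw [hMm, map_sub, hXX, one_smul, neg_sub]
          rw [show v = (2 : F)⁻¹ • ((v + X v) + (v - X v)) by
            rw [add_add_sub_cancel, ← two_smul F, smul_smul, inv_mul_cancel₀ h2F, one_smul]]
          exact Submodule.smul_mem _ _ (Submodule.add_mem_sup h1 h2)
      have hperp : ∀ v ∈ P, ∀ u ∈ M, B v u = 0 := fun v hv u hu => by
        have h1 := hxB v u
        rw [(hPm v).1 hv, (hMm u).1 hu, map_neg] at h1
        exact (mul_eq_zero.1 (show (2 : F) * B v u = 0 by linear_combination -h1)).resolve_left h2F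
      have hperp' : ∀ v ∈ M, ∀ u ∈ P, B v u = 0 := fun v hv u hu => by
        rw [alt_swap spB_alt u v, hperp u hu v hv, neg_zero]
      have hcoord : ∀ S T : Submodule F (Fin 2 ⊕ Fin 2 → F), IsCompl S T → (∀ v ∈ S, ∀ u ∈ T, B v u = 0) → S ≠ ⊥ →
          ∃ mS, 0 < mS ∧ finrank F S = 2 * mS ∧ ∃ eS : (Fin mS ⊕ Fin mS → F) ≃ₗ[F] S,
            ∀ u v, B (eS u : Fin 2 ⊕ Fin 2 → F) (eS v) = spB mS F u v := by
        intro S T hST hpST hne
        have hA' : LinearMap.IsAlt (B.compl₁₂ S.subtype S.subtype) := fun v => spB_alt _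
        have hnd : ∀ u : S, (∀ v : S, B.compl₁₂ S.subtype S.subtype u v = 0) → u = 0 := fun u h =>
          Subtype.ext (spB_trace.nondeg _ fun v => by
            obtain ⟨a, ha, c, hc, rfl⟩ := Submodule.mem_sup.1 (hST.sup_eq_top.ge (Submodule.mem_top (x := v)))
            have h0 : B (u : Fin 2 ⊕ Fin 2 → F) a = 0 := h ⟨a, ha⟩
            rw [← hB, map_add, h0, hpST _ u.2 c hc, add_zero])
        obtain ⟨mS, bb, -⟩ := exists_symplectic_basis_nondeg hA'
          ⟨hnd, fun y hy => hnd y fun x => by rw [alt_swap hA' x y, hy x, neg_zero]⟩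
        have hdimS : finrank F S = 2 * mS := by
          rw [finrank_eq_card_basis bb, Fintype.card_sum, Fintype.card_fin, two_mul]
        obtain ⟨eS, heS⟩ := FormModel.exists_symp_coords hA' hnd hdimS
        refine ⟨mS, Nat.pos_of_ne_zero fun h => hne ?_, hdimS, eS, heS⟩
        rw [← Submodule.finrank_eq_zero, hdimS, h]
      have hPne : P ≠ ⊥ := fun h => hxns (-1) (Matrix.ext_iff_mulVec.2 fun v => by
        have h1 : v ∈ M := by
          have := hPM.sup_eq_top
          rw [h, bot_sup_eq] at this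
          rw [this]; trivial
        have h2 := (hMm v).1 h1
        rw [TransvMax.linOf_apply] at h2
        rw [h2, Matrix.smul_mulVec, Matrix.one_mulVec, neg_one_smul])
      have hMne : M ≠ ⊥ := fun h => hxns 1 (Matrix.ext_iff_mulVec.2 fun v => by
        have h1 : v ∈ P := by
          have := hPM.sup_eq_top
          rw [h, sup_bot_eq] at this
          rw [this]; trivial
        have h2 := (hPm v).1 h1
        rw [TransvMax.linOf_apply] at h2
        rw [h2, Matrix.smul_mulVec, Matrix.one_mulVec, one_smul])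
      obtain ⟨m₁, hm₁, hd₁, eP, heP⟩ := hcoord P M hPM hperp hPne
      obtain ⟨m₂, hm₂, hd₂, eM, heM⟩ := hcoord M P hPM.symm hperp' hMne
      have hsum := Submodule.finrank_add_eq_of_isCompl hPM
      rw [hd₁, hd₂, finrank_fintype_fun_eq_card, Fintype.card_sum, Fintype.card_fin] at hsum
      obtain rfl : m₁ = 1 := by omega
      obtain rfl : m₂ = 1 := by omega
      have hδ0 : δ ≠ 0 := fun h => hδ 0 (by rw [mul_zero, h])
      -- a similitude between the eigenspaces
      let D : (Fin 1 ⊕ Fin 1 → F) ≃ₗ[F] (Fin 1 ⊕ Fin 1 → F) :=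
        LinearEquiv.piCongrRight fun i => Sum.elim (fun _ => LinearEquiv.smulOfNeZero F F δ hδ0)
          (fun _ => LinearEquiv.refl F F) i
      have hD : ∀ u v, spB 1 F (D u) (D v) = δ * spB 1 F u v := fun u v => by
        simp [spB_expand, D]
        ring
      let C : M ≃ₗ[F] P := eM.symm.trans (D.trans eP)
      have hC : ∀ u v : M, B (C u : Fin 2 ⊕ Fin 2 → F) (C v) = δ * B (u : Fin 2 ⊕ Fin 2 → F) v := fun u v => by
        obtain ⟨u, rfl⟩ := eM.surjective u
        obtain ⟨v, rfl⟩ := eM.surjective v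
        simp [C, heP, heM, hD]
      set E := Submodule.prodEquivOfIsCompl P M hPM
      have hE : ∀ c, E c = (c.1 : Fin 2 ⊕ Fin 2 → F) + c.2 := fun c => rfl
      have hEB : ∀ c c', B (E c) (E c') =
          B (c.1 : Fin 2 ⊕ Fin 2 → F) c'.1 + B (c.2 : Fin 2 ⊕ Fin 2 → F) c'.2 := fun c c' => by
        simp only [hE, map_add, LinearMap.add_apply, hperp _ c.1.2 _ c'.2.2, hperp' _ c.2.2 _ c'.1.2, add_zero, zero_add]
      let T : P × M →ₗ[F] P × M :=
        ((C : M →ₗ[F] P) ∘ₗ LinearMap.snd F P M).prod (δ • ((C.symm : P →ₗ[F] M) ∘ₗ LinearMap.fst F P M))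
      have hT : ∀ c, T c = (C c.2, δ • C.symm c.1) := fun c => rfl
      have hC' : ∀ (u : M) (v : P), B (C u : Fin 2 ⊕ Fin 2 → F) v = δ * B (u : Fin 2 ⊕ Fin 2 → F) (C.symm v) := fun u v => by
        rw [← hC, C.apply_symm_apply]
      refine ⟨E.conj T, fun u v => ?_, fun v => ?_, -1, by ring, fun v => ?_⟩
      · obtain ⟨c, rfl⟩ := E.surjective u
        obtain ⟨c', rfl⟩ := E.surjective v
        simp only [LinearEquiv.conj_apply, LinearMap.comp_apply, LinearEquiv.coe_coe, LinearEquiv.symm_apply_apply,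
          hT, hEB, Submodule.coe_smul, map_smul, LinearMap.smul_apply, smul_eq_mul]
        have h2 := hC' c'.2 c.1
        rw [alt_swap spB_alt (c.1 : Fin 2 ⊕ Fin 2 → F) (C c'.2),
          alt_swap spB_alt (C.symm c.1 : Fin 2 ⊕ Fin 2 → F) c'.2] at h2
        linear_combination hC' c.2 c'.1 + h2
      · obtain ⟨c, rfl⟩ := E.surjective v
        simp only [LinearEquiv.conj_apply, LinearMap.comp_apply, LinearEquiv.coe_coe, LinearEquiv.symm_apply_apply,
          hT, map_smul, C.apply_symm_apply, C.symm_apply_apply]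
        rw [← map_smul E]
        rfl
      · obtain ⟨c, rfl⟩ := E.surjective v
        have hXE : ∀ c, X (E c) = E (c.1, -c.2) := fun c => by
          rw [hE, hE, map_add, (hPm _).1 c.1.2, (hMm _).1 c.2.2]; rfl
        simp only [LinearEquiv.conj_apply, LinearMap.comp_apply, LinearEquiv.coe_coe, LinearEquiv.symm_apply_apply, hT]
        rw [hXE, hXE, LinearEquiv.symm_apply_apply, ← map_smul E]
        simp [smul_neg]
    · -- a root of `-1`
      have hXr : IsRoot B (X : (Fin 2 ⊕ Fin 2 → F) →ₗ[F] _) (-1) := ⟨fun u v => by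
          rw [LinearEquiv.coe_coe, ← hxB (X u) v, hXX, neg_one_smul, map_neg, LinearMap.neg_apply], hXX⟩
      obtain ⟨e, he, heX⟩ := exists_basis h2F spB_alt spB_trace.nondeg (neg_ne_zero.2 one_ne_zero) hXr
        (d := 2) (by simp)
      obtain ⟨a, c, hac⟩ : ∃ a c : F, a ^ 2 + c ^ 2 = δ := by
        obtain ⟨a, c, h⟩ := FiniteField.exists_root_sum_quadratic (R := F)
          (f := Polynomial.X ^ 2) (g := Polynomial.X ^ 2 - Polynomial.C δ) (Polynomial.degree_X_pow 2)
          (Polynomial.degree_X_pow_sub_C (by decide) _) (Nat.odd_iff.1 hqodd)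
        simp at h
        exact ⟨a, c, by linear_combination h⟩
      let A : (Fin 2 → F) → (Fin 2 → F) := fun x => ![a * x 0 + c * x 1, c * x 0 - a * x 1]
      let J₀ : (Fin 2 ⊕ Fin 2 → F) →ₗ[F] (Fin 2 ⊕ Fin 2 → F) :=
        { toFun := fun v => Sum.elim (A fun i => v (.inl i)) (A fun i => v (.inr i))
          map_add' := fun u v => by funext i; rcases i with i | i <;> fin_cases i <;> simp [A] <;> ring
          map_smul' := fun t v => by funext i; rcases i with i | i <;> fin_cases i <;> simp [A] <;> ring }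
      refine ⟨e.conj J₀, fun u v => ?_, fun v => ?_, 1, one_mul 1, fun v => ?_⟩
      · obtain ⟨u, rfl⟩ := e.surjective u
        obtain ⟨v, rfl⟩ := e.surjective v
        simp only [LinearEquiv.conj_apply, LinearMap.comp_apply, LinearEquiv.coe_coe, LinearEquiv.symm_apply_apply,
          hB, he]
        simp [spB_expand, J₀, A, Fin.sum_univ_two]
        ring
      · obtain ⟨v, rfl⟩ := e.surjective v
        simp only [LinearEquiv.conj_apply, LinearMap.comp_apply, LinearEquiv.coe_coe, LinearEquiv.symm_apply_apply]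
        rw [← map_smul e]
        congr 1
        funext i
        rcases i with i | i <;> fin_cases i <;> simp [J₀, A]
        · linear_combination (v (.inl 0)) * hac
        · linear_combination (v (.inl 1)) * hac
        · linear_combination (v (.inr 0)) * hac
        · linear_combination (v (.inr 1)) * hac
      · obtain ⟨v, rfl⟩ := e.surjective v
        have heX' : ∀ v, X (e v) = e (stdRoot 2 (-1) v) := heX
        simp only [LinearEquiv.conj_apply, LinearMap.comp_apply, LinearEquiv.coe_coe, LinearEquiv.symm_apply_apply, one_smul]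
        rw [heX', heX', LinearEquiv.symm_apply_apply]
        congr 1
        funext i
        rcases i with i | i <;> fin_cases i <;> simp [J₀, A, stdRoot] <;> ring

end Cfsg.Agent.S5975
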