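import Cfsg.Agent.Lib.TransvMax.SkewRoot
import Cfsg.Agent.Lib.TransvMax.SpBridge
import Cfsg.Agent.Lib.TransvMax.Basic
import Cfsg.Agent.Lib.LinearGroups.UnitaryOrder
-- import your own Cfsg.Agent.* helpers here

set_option autoImplicit false
open scoped MatrixGroups
open Cfsg

namespace Cfsg.Agent.S5976

set_option maxHeartbeats 1000000

open Cfsg.Agent Cfsg.Agent.FormsLib Cfsg.Agent.SkewRoot Module
open scoped Matrix

variable {F : Type*} [Field F] [Fintype F]

/-- `g` preserves `B`, has order dividing `r`, is not `1` and commutes with no root of `δ`. -/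
def IsBad {V : Type*} [AddCommGroup V] [Module F V] (B : LinearMap.BilinForm F V) (δ : F) (r : ℕ)
    (g : V ≃ₗ[F] V) : Prop :=
  Preserves B g ∧ g ^ r = 1 ∧ g ≠ 1 ∧ ∀ J, IsRoot B J δ → ¬ ∀ v, g (J v) = J (g v)

/-- Extension of a fixed-point-free bad isometry to the standard space. -/
private theorem exists_ext {d e r : ℕ} (he : e ≤ d) (he0 : 0 < e) {W : Type*} [AddCommGroup W] [Module F W]
    [FiniteDimensional F W] {B₁ : LinearMap.BilinForm F W} (hA : LinearMap.IsAlt B₁)
    (hB : ∀ u, (∀ v, B₁ u v = 0) → u = 0) (hdim : finrank F W = 2 * e) {δ : F} {g₁ : W ≃ₗ[F] W}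
    (hg : Preserves B₁ g₁) (hgr : g₁ ^ r = 1) (hfix : ∀ w, g₁ w = w → w = 0)
    (hno : ∀ J, IsRoot B₁ J δ → ¬ ∀ v, g₁ (J v) = J (g₁ v)) :
    ∃ g, IsBad (spB d F) δ r g := by
  classical
  set U := Fin (d - e) ⊕ Fin (d - e) → F
  let B : LinearMap.BilinForm F (W × U) :=
    B₁.compl₁₂ (LinearMap.fst F W U) (LinearMap.fst F W U) +
      (spB (d - e) F).compl₁₂ (LinearMap.snd F W U) (LinearMap.snd F W U)
  have hBv : ∀ a b, B a b = B₁ a.1 b.1 + spB (d - e) F a.2 b.2 := fun a b => rfl
  have hBA : LinearMap.IsAlt B := fun a => by rw [hBv, hA, spB_alt, add_zero]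
  have hBnd : ∀ u, (∀ v, B u v = 0) → u = 0 := fun u h => Prod.ext
    (hB _ fun w => by simpa [hBv] using h (w, 0))
    (spB_trace.nondeg _ fun w => by simpa [hBv] using h (0, w))
  obtain ⟨Φ, hΦ⟩ := FormModel.exists_symp_coords hBA hBnd (m := d) (by
    rw [finrank_prod, hdim, finrank_fintype_fun_eq_card, Fintype.card_sum, Fintype.card_fin]; omega)
  let g := Φ.trans ((g₁.prodCongr (LinearEquiv.refl F U)).trans Φ.symm)
  have hgv : ∀ w, g (Φ.symm w) = Φ.symm (g₁ w.1, w.2) := fun w => by simp [g]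
  have hpow : ∀ k : ℕ, ∀ w, (g ^ k) (Φ.symm w) = Φ.symm ((g₁ ^ k) w.1, w.2) := by
    intro k
    induction k with
    | zero => intro w; simp
    | succ k ih => intro w; rw [pow_succ', LinearEquiv.mul_apply, ih, hgv, pow_succ']; rfl
  have hpres : Preserves (spB d F) g := fun u v => by
    obtain ⟨a, rfl⟩ := Φ.symm.surjective u
    obtain ⟨b, rfl⟩ := Φ.symm.surjective v
    rw [hgv, hgv, ← hΦ, ← hΦ]
    simp [hBv, hg a.1 b.1]
  refine ⟨g, hpres, ?_, ?_, fun J hJ hc => ?_⟩
  · refine LinearEquiv.ext fun v => ?_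
    obtain ⟨a, rfl⟩ := Φ.symm.surjective v
    rw [hpow, hgr]
    rfl
  · intro h
    obtain ⟨w, hw⟩ : ∃ w : W, w ≠ 0 := by
      by_contra hc
      push Not at hc
      haveI : Subsingleton W := ⟨fun a b => by rw [hc a, hc b]⟩
      rw [finrank_zero_of_subsingleton] at hdim
      omega
    refine hw (hfix w ?_)
    have h1 := hgv (w, 0)
    rw [h] at h1
    exact (congrArg Prod.fst (Φ.symm.injective h1)).symm
  · -- the root preserves the moved space
    let f₁ : W →ₗ[F] W := (g₁ : W →ₗ[F] W) - LinearMap.id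
    have hsurj : Function.Surjective f₁ :=
      LinearMap.injective_iff_surjective.1 ((injective_iff_map_eq_zero f₁).2 fun w hw =>
        hfix w (sub_eq_zero.1 hw))
    have hJW : ∀ w, (Φ (J (Φ.symm (w, 0)))).2 = 0 := fun w => by
      obtain ⟨w', rfl⟩ := hsurj w
      have h1 : (Φ.symm (f₁ w', 0)) = g (Φ.symm (w', 0)) - Φ.symm (w', 0) := by
        rw [hgv, ← map_sub, Prod.mk_sub_mk, sub_zero]
        rfl
      rw [h1, map_sub, ← hc]
      obtain ⟨a, ha⟩ := Φ.symm.surjective (J (Φ.symm (w', 0)))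
      rw [← ha, hgv, map_sub, Φ.apply_symm_apply, Φ.apply_symm_apply]
      exact sub_self _
    let J₁ : W →ₗ[F] W :=
      LinearMap.fst F W U ∘ₗ (Φ : _ →ₗ[F] W × U) ∘ₗ J ∘ₗ (Φ.symm : W × U →ₗ[F] _) ∘ₗ LinearMap.inl F W U
    have hJ1 : ∀ w, J (Φ.symm (w, 0)) = Φ.symm (J₁ w, 0) := fun w => by
      apply Φ.injective
      rw [Φ.apply_symm_apply]
      exact Prod.ext rfl (hJW w)
    refine hno J₁ ⟨fun u v => ?_, fun v => ?_⟩ fun v => ?_
    · have h := hJ.skew (Φ.symm (u, 0)) (Φ.symm (v, 0))
      rw [hJ1, hJ1, ← hΦ, ← hΦ] at h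
      simpa [hBv] using h
    · have h := hJ.sq (Φ.symm (v, 0))
      rw [hJ1, hJ1, ← map_smul, Prod.smul_mk, smul_zero] at h
      exact congrArg Prod.fst (Φ.symm.injective h)
    · have h := hc (Φ.symm (v, 0))
      rw [hJ1, hgv, hgv, hJ1] at h
      exact congrArg Prod.fst (Φ.symm.injective h)

/-- Bad elements of order prime to the characteristic. -/
private theorem exists_bad {p : ℕ} [Fact p.Prime] [CharP F p] (hp2 : p ≠ 2) {δ : F}
    (hδ : ∀ e : F, e * e ≠ δ) {d r : ℕ} (hr : r.Prime) (hr2 : r ≠ 2) {j : ℕ} (hj : 0 < j) (hjd : j ≤ d)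
    (hdvd : (r : ℤ) ∣ (Fintype.card F : ℤ) ^ j + (-1) ^ j) : ∃ g, IsBad (spB d F) δ r g := by
  classical
  haveI := Fact.mk hr
  set q := Fintype.card F with hq
  have hq2 : 2 ≤ q := Fintype.one_lt_card
  have h2F : (2 : F) ≠ 0 := fun h => hp2 (by
    have : (p : ℕ) ∣ 2 := (CharP.cast_eq_zero_iff F p 2).1 (by exact_mod_cast h)
    exact (Nat.prime_dvd_prime_iff_eq Fact.out Nat.prime_two).1 this)
  by_cases hex : ∃ o, Odd o ∧ o ≤ d ∧ r ∣ q ^ o - 1
  · -- two dual halves of odd dimension
    obtain ⟨o, ho, hod, hro⟩ := hex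
    obtain ⟨k₀, hk₀⟩ := ho
    haveI : NeZero o := ⟨by omega⟩
    set K := FiniteField.Extension F p o
    have hK : Nat.card K = q ^ o := by rw [FiniteField.natCard_extension, Nat.card_eq_fintype_card]
    have hfr : finrank F K = o := FiniteField.finrank_extension F p o
    haveI : Finite K := Nat.finite_of_card_ne_zero (by rw [hK]; positivity)
    haveI : Module.Finite F K := Module.Finite.of_finite
    haveI : Fintype K := Fintype.ofFinite K
    obtain ⟨y, hy⟩ := exists_prime_orderOf_dvd_card' r (show r ∣ Nat.card Kˣ by rw [Nat.card_units, hK]; exact hro)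
    have hyr : (y : K) ^ r = 1 := by rw [← Units.val_pow_eq_pow_val, ← hy, pow_orderOf_eq_one, Units.val_one]
    have hy1 : (y : K) ≠ 1 := fun h => hr.ne_one (by rw [← hy, orderOf_eq_one_iff]; exact Units.ext h)
    have hyinv : (y : K)⁻¹ ≠ y := fun h => by
      have h1 : y ^ 2 = 1 := Units.ext (by
        rw [Units.val_pow_eq_pow_val, pow_two, Units.val_one]
        nth_rewrite 2 [← h]
        exact mul_inv_cancel₀ y.ne_zero)
      exact hr2 ((Nat.prime_dvd_prime_iff_eq hr Nat.prime_two).1 (hy ▸ orderOf_dvd_of_pow_eq_one h1))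
    -- the inverse is not a conjugate
    have hμ : Polynomial.aeval ((y : K)⁻¹) (minpoly F (y : K)) ≠ 0 := fun h => by
      obtain ⟨s, hs⟩ := minpoly.exists_algEquiv_of_root' (L := K)
        (Algebra.IsAlgebraic.isAlgebraic (y : K)) h
      have hss : ∀ n : ℕ, (s ^ (2 * n + 1)) (y : K) = (y : K)⁻¹ := by
        intro n
        induction n with
        | zero => simpa using hs
        | succ n ih =>
          rw [show 2 * (n + 1) + 1 = 2 + (2 * n + 1) by ring, pow_add, AlgEquiv.mul_apply, ih, pow_two,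
            AlgEquiv.mul_apply, map_inv₀, hs, inv_inv, hs]
      have h1 := hss k₀
      have e : s ^ o = 1 := by
        have h2 := pow_card_eq_one' (x := s)
        rwa [IsGalois.card_aut_eq_finrank, hfr] at h2
      rw [← hk₀, e, AlgEquiv.one_apply] at h1
      exact hyinv h1.symm
    let B₁ : LinearMap.BilinForm F (K × K) :=
      (Algebra.traceForm F K).compl₁₂ (LinearMap.fst F K K) (LinearMap.snd F K K) -
        (Algebra.traceForm F K).compl₁₂ (LinearMap.snd F K K) (LinearMap.fst F K K)
    have hBv : ∀ a b : K × K, B₁ a b = Algebra.trace F K (a.1 * b.2) - Algebra.trace F K (a.2 * b.1) :=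
      fun a b => rfl
    have hA : LinearMap.IsAlt B₁ := fun a => by rw [hBv, mul_comm a.1, sub_self]
    have hnd : ∀ u, (∀ v, B₁ u v = 0) → u = 0 := fun u h => Prod.ext
      ((traceForm_nondegenerate F K).1 _ fun b => by simpa [hBv] using h (0, b))
      ((traceForm_nondegenerate F K).1 _ fun b => by simpa [hBv] using h (b, 0))
    let g₁ : (K × K) ≃ₗ[F] (K × K) := ((LinearEquiv.smulOfUnit y : K ≃ₗ[K] K).restrictScalars F).prodCongr
      ((LinearEquiv.smulOfUnit y⁻¹ : K ≃ₗ[K] K).restrictScalars F)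
    have hgv : ∀ a, g₁ a = ((y : K) * a.1, (y : K)⁻¹ * a.2) := fun a =>
      Prod.ext rfl (by show ((y⁻¹ : Kˣ) : K) * a.2 = _; rw [Units.val_inv_eq_inv_val])
    have hpow : ∀ k : ℕ, ∀ a, (g₁ ^ k) a = ((y : K) ^ k * a.1, ((y : K)⁻¹) ^ k * a.2) := by
      intro k
      induction k with
      | zero => intro a; simp
      | succ k ih => intro a; rw [pow_succ', LinearEquiv.mul_apply, ih, hgv, pow_succ', pow_succ', mul_assoc, mul_assoc]
    refine exists_ext hod (by omega) hA hnd (by rw [finrank_prod, hfr, two_mul]) (g₁ := g₁) (fun a b => ?_)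
      (LinearEquiv.ext fun a => by rw [hpow, hyr, inv_pow, hyr, inv_one, one_mul, one_mul]; rfl)
      (fun a h => ?_) fun J hJ hc => ?_
    · rw [hgv, hgv, hBv, hBv]
      have hy0 := y.ne_zero
      rw [show (y : K) * a.1 * ((y : K)⁻¹ * b.2) = a.1 * b.2 by
          rw [mul_mul_mul_comm, mul_inv_cancel₀ hy0, one_mul],
        show (y : K)⁻¹ * a.2 * ((y : K) * b.1) = a.2 * b.1 by
          rw [mul_mul_mul_comm, inv_mul_cancel₀ hy0, one_mul]]
    · rw [hgv, Prod.mk.injEq] at h
      refine Prod.ext ?_ ?_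
      · exact (mul_eq_zero.1 (show ((y : K) - 1) * a.1 = 0 by rw [sub_one_mul, h.1, sub_self])).resolve_left
          (sub_ne_zero.2 hy1)
      · exact (mul_eq_zero.1 (show ((y : K)⁻¹ - 1) * a.2 = 0 by rw [sub_one_mul, h.2, sub_self])).resolve_left
          (sub_ne_zero.2 fun e => hy1 (inv_eq_one.1 e))
    · let α : K →ₗ[F] K := LinearMap.fst F K K ∘ₗ J ∘ₗ LinearMap.inl F K K
      let β : K →ₗ[F] K := LinearMap.snd F K K ∘ₗ J ∘ₗ LinearMap.inl F K K
      have hαβ : ∀ a, J (a, 0) = (α a, β a) := fun a => rfl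
      have hβy : ∀ a, β ((y : K) * a) = (y : K)⁻¹ * β a := fun a => by
        have h := congrArg Prod.snd (hc (a, 0))
        rw [hgv, hgv, mul_zero, hαβ, hαβ] at h
        exact h.symm
      have hβP : ∀ (P : Polynomial F) a, β (Polynomial.aeval (y : K) P * a) =
          Polynomial.aeval ((y : K)⁻¹) P * β a := by
        intro P
        induction P using Polynomial.induction_on' with
        | add P Q h1 h2 => intro a; rw [map_add, map_add, add_mul, add_mul, map_add, h1, h2]
        | monomial n c =>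
          intro a
          induction n generalizing a with
          | zero => simp [← Algebra.smul_def]
          | succ n ih =>
            rw [Polynomial.aeval_monomial, Polynomial.aeval_monomial, pow_succ, pow_succ]
            have := ih ((y : K) * a)
            rw [Polynomial.aeval_monomial, Polynomial.aeval_monomial, hβy] at this
            rw [← mul_assoc, ← mul_assoc, mul_assoc _ (y : K) a, this]
            ring
      have hβ : ∀ a, β a = 0 := fun a => by
        have h := hβP (minpoly F (y : K)) a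
        rw [minpoly.aeval, zero_mul, map_zero] at h
        exact (mul_eq_zero.1 h.symm).resolve_left hμ
      have hα2 : α ∘ₗ α = δ • LinearMap.id := LinearMap.ext fun a => by
        have h := congrArg Prod.fst (hJ.sq (a, 0))
        rw [hαβ, hβ, hαβ, hβ] at h
        simpa using h
      have h := congrArg LinearMap.det hα2
      rw [LinearMap.det_comp, LinearMap.det_smul, LinearMap.det_id, mul_one, hfr] at h
      replace h : LinearMap.det α * LinearMap.det α = δ ^ (2 * k₀) * δ := by rw [h, ← pow_succ, ← hk₀]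
      rw [mul_comm 2, pow_mul] at h
      have hδ0 : δ ≠ 0 := fun e => hδ 0 (by rw [e, mul_zero])
      refine hδ (LinearMap.det α / δ ^ k₀) ?_
      field_simp
      linear_combination h
  · -- an irreducible torus
    have hje : Even j := by
      by_contra ho
      rw [Nat.not_even_iff_odd] at ho
      refine hex ⟨j, ho, hjd, ?_⟩
      rw [← Int.natCast_dvd_natCast, Nat.cast_sub (Nat.one_le_pow _ _ (by omega))]
      push_cast
      rw [ho.neg_one_pow] at hdvd
      simpa [sub_eq_add_neg] using hdvd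
    have hrj : r ∣ q ^ j + 1 := by
      rw [hje.neg_one_pow] at hdvd
      exact_mod_cast hdvd
    -- the least exponent
    have hz : (q : ZMod r) ^ j = -1 := by
      rw [eq_neg_iff_add_eq_zero]
      exact_mod_cast (ZMod.natCast_eq_zero_iff _ _).2 hrj
    have h1ne : (-1 : ZMod r) ≠ 1 := fun h => by
      have : ((2 : ℕ) : ZMod r) = 0 := by push_cast; linear_combination -h
      exact hr2 ((Nat.prime_dvd_prime_iff_eq hr Nat.prime_two).1 ((ZMod.natCast_eq_zero_iff _ _).1 this))
    set o := orderOf (q : ZMod r)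
    have ho2 : o ∣ 2 * j := orderOf_dvd_of_pow_eq_one (by rw [mul_comm, pow_mul, hz]; ring)
    have honj : ¬ o ∣ j := fun h => h1ne (by rw [← hz, orderOf_dvd_iff_pow_eq_one.1 h])
    obtain ⟨i, hi⟩ : Even o := by
      by_contra hoo
      rw [Nat.not_even_iff_odd] at hoo
      exact honj ((Nat.Coprime.dvd_mul_left (Nat.coprime_two_right.2 hoo)).1 ho2)
    have hio : o = 2 * i := by omega
    obtain ⟨t, ht⟩ : i ∣ j := Nat.dvd_of_mul_dvd_mul_left two_pos (hio ▸ ho2)
    have hto : Odd t := by
      rw [← Nat.not_even_iff_odd]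
      rintro ⟨t', rfl⟩
      exact honj ⟨t', by rw [hio, ht]; ring⟩
    have hie : Even i := by
      rw [ht, Nat.even_mul] at hje
      exact hje.resolve_right (Nat.not_even_iff_odd.2 hto)
    have hid : i ≤ d := le_trans (Nat.le_of_dvd hj (ht ▸ Dvd.intro t rfl)) hjd
    have hi0 : 0 < i := Nat.pos_of_ne_zero fun h => by rw [h, zero_mul] at ht; omega
    haveI : NeZero o := ⟨by omega⟩
    set K := FiniteField.Extension F p o
    have hK : Nat.card K = q ^ o := by rw [FiniteField.natCard_extension, Nat.card_eq_fintype_card]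
    have hfr : finrank F K = o := FiniteField.finrank_extension F p o
    haveI : Finite K := Nat.finite_of_card_ne_zero (by rw [hK]; positivity)
    haveI : Module.Finite F K := Module.Finite.of_finite
    haveI : Fintype K := Fintype.ofFinite K
    have hro : r ∣ q ^ o - 1 := by
      rw [← ZMod.natCast_eq_zero_iff, Nat.cast_sub (Nat.one_le_pow _ _ (by omega)), Nat.cast_pow,
        pow_orderOf_eq_one, Nat.cast_one, sub_self]
    obtain ⟨y, hy⟩ := exists_prime_orderOf_dvd_card' r (show r ∣ Nat.card Kˣ by rw [Nat.card_units, hK]; exact hro)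
    have hyr : (y : K) ^ r = 1 := by rw [← Units.val_pow_eq_pow_val, ← hy, pow_orderOf_eq_one, Units.val_one]
    have hy1 : (y : K) ≠ 1 := fun h => hr.ne_one (by rw [← hy, orderOf_eq_one_iff]; exact Units.ext h)
    let τ : K ≃ₐ[F] K := FiniteField.frobeniusAlgEquivOfAlgebraic F K ^ i
    have hτ : ∀ z, τ z = z ^ q ^ i := fun z => by
      show (⇑(FiniteField.frobeniusAlgEquivOfAlgebraic F K ^ i)) z = _
      rw [AlgEquiv.coe_pow, FiniteField.coe_frobeniusAlgEquivOfAlgebraic_iterate]
    have hττ : ∀ z, τ (τ z) = z := fun z => by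
      rw [hτ, hτ, ← pow_mul, ← pow_add, ← two_mul, ← hio, ← hK, Nat.card_eq_fintype_card, FiniteField.pow_card]
    have hqi : (q : ZMod r) ^ i = -1 := by
      have h1 : ((q : ZMod r) ^ i) ^ 2 = 1 := by rw [← pow_mul, mul_comm, ← hio, pow_orderOf_eq_one]
      exact (sq_eq_one_iff.1 h1).resolve_left fun h => by
        have := Nat.le_of_dvd hi0 (orderOf_dvd_of_pow_eq_one h)
        omega
    have hyy : τ (y : K) * (y : K) = 1 := by
      obtain ⟨s, hs⟩ : r ∣ q ^ i + 1 := by
        rw [← ZMod.natCast_eq_zero_iff]; push_cast; rw [hqi]; ring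
      rw [hτ, ← pow_succ, hs, pow_mul, hyr, one_pow]
    have hgen : ∀ z : K, z ∈ Algebra.adjoin F {(y : K)} := by
      set E := IntermediateField.adjoin F {(y : K)}
      have hEd : finrank F E = o := by
        have hle : finrank F E ≤ o := Nat.le_of_dvd (by omega) ⟨finrank E K, by rw [Module.finrank_mul_finrank, hfr]⟩
        refine le_antisymm hle (Nat.le_of_dvd finrank_pos (orderOf_dvd_of_pow_eq_one ?_))
        haveI : Fintype E := Fintype.ofFinite E
        have hE : Fintype.card E = q ^ finrank F E := Module.card_eq_pow_finrank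
        let y' : Eˣ := Units.mk0 ⟨(y : K), IntermediateField.mem_adjoin_simple_self F (y : K)⟩
          (fun h => y.ne_zero (congrArg Subtype.val h))
        have hy' : orderOf y' = r := by
          rw [← hy, ← orderOf_units, ← orderOf_units (y := y)]
          exact (orderOf_injective (E.val : E →* K) E.val.injective _).symm
        have h3 : r ∣ q ^ finrank F E - 1 := by
          rw [← hE, ← Fintype.card_units, ← hy']
          exact orderOf_dvd_card
        rw [← ZMod.natCast_eq_zero_iff, Nat.cast_sub (Nat.one_le_pow _ _ (by omega)), sub_eq_zero] at h3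
        exact_mod_cast h3
      have htop : E = ⊤ := IntermediateField.eq_of_le_of_finrank_eq le_top (by
        rw [hEd, IntermediateField.finrank_top', hfr])
      intro z
      rw [← IntermediateField.adjoin_simple_toSubalgebra_of_isAlgebraic (Algebra.IsAlgebraic.isAlgebraic (y : K))]
      exact htop.ge IntermediateField.mem_top
    obtain ⟨ε, hε0, hετ⟩ : ∃ ε : K, ε ≠ 0 ∧ τ ε = -ε := by
      obtain ⟨g₀, hg₀⟩ := IsCyclic.exists_generator (α := Kˣ)
      refine ⟨(g₀ : K) - τ g₀, fun h => ?_, by rw [map_sub, hττ]; ring⟩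
      have h1 : (g₀ : K) ^ q ^ i = g₀ := by rw [← hτ]; exact (sub_eq_zero.1 h).symm
      have h2 : g₀ ^ (q ^ i - 1) = 1 := by
        have h3 : g₀ ^ (q ^ i - 1) * g₀ = g₀ := by
          rw [← pow_succ, Nat.sub_add_cancel (Nat.one_le_pow _ _ (by omega))]
          exact Units.ext (by simpa using h1)
        exact mul_eq_right.1 h3
      have h4 := orderOf_dvd_of_pow_eq_one h2
      rw [orderOf_eq_card_of_forall_mem_zpowers hg₀, Nat.card_units, hK] at h4
      have h5 : 1 < q ^ i := Nat.one_lt_pow hi0.ne' (by omega)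
      have h6 := Nat.le_of_dvd (by omega) h4
      have h7 : q ^ i < q ^ o := Nat.pow_lt_pow_right (by omega) (by omega)
      omega
    let B₁ : LinearMap.BilinForm F K :=
      (Algebra.traceForm F K).compl₁₂ (LinearMap.mulLeft F ε ∘ₗ τ.toLinearMap) LinearMap.id
    have hBv : ∀ a b : K, B₁ a b = Algebra.trace F K (ε * τ a * b) := fun a b => rfl
    have hA : LinearMap.IsAlt B₁ := fun a => by
      have h := Algebra.trace_eq_of_algEquiv τ (ε * τ a * a)
      rw [map_mul τ, map_mul τ, hττ, hετ, show -ε * a * τ a = -(ε * τ a * a) by ring, map_neg] at h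
      rw [hBv]
      exact (mul_eq_zero.1 (show (2 : F) * Algebra.trace F K (ε * τ a * a) = 0 by linear_combination -h)).resolve_left h2F
    have hnd : ∀ u, (∀ v, B₁ u v = 0) → u = 0 := fun u h => by
      have h1 := (traceForm_nondegenerate F K).1 (ε * τ u) fun b => h b
      exact τ.injective (by rw [(mul_eq_zero.1 h1).resolve_left hε0, map_zero])
    let g₁ : K ≃ₗ[F] K := (LinearEquiv.smulOfUnit y : K ≃ₗ[K] K).restrictScalars F
    have hgv : ∀ a, g₁ a = (y : K) * a := fun a => rfl
    have hpow : ∀ k : ℕ, ∀ a, (g₁ ^ k) a = (y : K) ^ k * a := by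
      intro k
      induction k with
      | zero => intro a; simp
      | succ k ih => intro a; rw [pow_succ', LinearEquiv.mul_apply, ih, hgv, pow_succ', mul_assoc]
    refine exists_ext hid hi0 hA hnd (by rw [hfr, hio]) (g₁ := g₁) (fun a b => ?_)
      (LinearEquiv.ext fun a => by rw [hpow, hyr, one_mul]; rfl) (fun a h => ?_) fun J hJ hc => ?_
    · rw [hgv, hgv, hBv, hBv, map_mul τ]
      congr 1
      linear_combination (ε * τ a * b) * hyy
    · exact (mul_eq_zero.1 (show ((y : K) - 1) * a = 0 by rw [sub_one_mul, ← hgv, h, sub_self])).resolve_left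
        (sub_ne_zero.2 hy1)
    · have hJmul : ∀ z a, J (z * a) = z * J a := by
        intro z
        induction hgen z using Algebra.adjoin_induction with
        | mem z hz => intro a; rw [Set.mem_singleton_iff.1 hz, ← hgv, ← hc, hgv]
        | algebraMap c => intro a; rw [← Algebra.smul_def, map_smul, Algebra.smul_def]
        | add x z _ _ h1 h2 => intro a; rw [add_mul, map_add, h1, h2, add_mul]
        | mul x z _ _ h1 h2 => intro a; rw [mul_assoc, h1, h2, mul_assoc]
      set c := J 1
      have hJc : ∀ a, J a = a * c := fun a => by rw [← hJmul, mul_one]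
      have hc2 : c * c = algebraMap F K δ := by
        have := hJ.sq 1
        rwa [hJc (J 1), Algebra.smul_def, mul_one] at this
      have hδ0 : δ ≠ 0 := fun e => hδ 0 (by rw [e, mul_zero])
      have hc0 : c ≠ 0 := fun e => hδ0 ((algebraMap F K).injective (by rw [← hc2, e, mul_zero, map_zero]))
      have hτc : τ c = c := by
        have hqo : Odd q := Nat.odd_iff.2 (FiniteField.odd_card_of_char_ne_two (by rw [ringChar.eq F p]; exact hp2))
        obtain ⟨i', rfl⟩ := hie
        obtain ⟨u, hu⟩ := hqo.pow (n := i')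
        have h1 : q ^ (i' + i') = 2 * ((q ^ i' + 1) * u) + 1 := by
          rw [pow_add]; nlinarith [hu]
        have h2 : δ ^ ((q ^ i' + 1) * u) = 1 := by
          have h4 : (q - 1) ∣ (q ^ i' + 1) * u := by
            have h5 : q - 1 ∣ q ^ i' - 1 := by simpa using Nat.sub_dvd_pow_sub_pow q 1 i'
            rw [hu, Nat.add_sub_cancel] at h5
            have h6 : q ^ i' + 1 = 2 * (u + 1) := by omega
            rw [h6, mul_comm 2, mul_assoc]
            exact h5.mul_left _
          obtain ⟨s, hs⟩ := h4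
          rw [hs, pow_mul, FiniteField.pow_card_sub_one_eq_one δ hδ0, one_pow]
        rw [hτ, h1, pow_succ, pow_mul, pow_two, hc2, ← map_pow, h2, map_one, one_mul]
      have hεc : ε * c ≠ 0 := mul_ne_zero hε0 hc0
      obtain ⟨b, hb⟩ : ∃ b, Algebra.trace F K (ε * c * b) ≠ 0 := by
        by_contra hall
        push Not at hall
        exact hεc ((traceForm_nondegenerate F K).1 _ hall)
      have h := hJ.skew 1 b
      rw [hJc, hJc, one_mul, hBv, hBv, hτc, map_one, mul_one, show ε * (b * c) = ε * c * b by ring] at h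
      exact hb ((mul_eq_zero.1 (show (2 : F) * Algebra.trace F K (ε * c * b) = 0 by linear_combination h)).resolve_left h2F)

/-- Index divisors. -/
private theorem dvd_index {p : ℕ} [Fact p.Prime] [CharP F p] (hp2 : p ≠ 2) {d : ℕ} {δ : F} (hδ : ∀ e : F, e * e ≠ δ)
    {J : (Fin d ⊕ Fin d → F) →ₗ[F] (Fin d ⊕ Fin d → F)} (hJ : IsRoot (spB d F) J δ)
    (H : Subgroup (GL (Fin d ⊕ Fin d) F))
    (hH : ∀ x ∈ Cfsg.spGL d F, (∀ v, TransvMax.linOf x (J v) = J (TransvMax.linOf x v)) → x ∈ H)
    {r : ℕ} (hr : r.Prime) (hrq : ¬ r ∣ Fintype.card F) (hΩ : r ∣ H.relIndex (Cfsg.spGL d F)) :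
    ∃ j, 0 < j ∧ j ≤ d ∧ (r : ℤ) ∣ (Fintype.card F : ℤ) ^ j + (-1) ^ j := by
  classical
  set q := Fintype.card F with hq
  have hq2 : 2 ≤ q := Fintype.one_lt_card
  have h2F : (2 : F) ≠ 0 := fun h => hp2 (by
    have : (p : ℕ) ∣ 2 := (CharP.cast_eq_zero_iff F p 2).1 (by exact_mod_cast h)
    exact (Nat.prime_dvd_prime_iff_eq Fact.out Nat.prime_two).1 this)
  have hF2 : ringChar F ≠ 2 := by rw [ringChar.eq F p]; exact hp2
  have hδ0 : δ ≠ 0 := fun e => hδ 0 (by rw [e, mul_zero])
  set L := FiniteField.Extension F p 2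
  have hLc : Nat.card L = q ^ 2 := by rw [FiniteField.natCard_extension, Nat.card_eq_fintype_card]
  have hfr : finrank F L = 2 := FiniteField.finrank_extension F p 2
  haveI : Finite L := Nat.finite_of_card_ne_zero (by rw [hLc]; positivity)
  haveI : Module.Finite F L := Module.Finite.of_finite
  haveI : Fintype L := Fintype.ofFinite L
  have hLF : Fintype.card L = q ^ 2 := by rw [← Nat.card_eq_fintype_card, hLc]
  have hqodd : q % 2 = 1 := FiniteField.odd_card_of_char_ne_two hF2
  have hδh : δ ^ (q / 2) = -1 := (FiniteField.pow_dichotomy hF2 hδ0).resolve_left fun h => by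
    obtain ⟨e, he⟩ := (FiniteField.isSquare_iff hF2 hδ0).2 h
    exact hδ e he.symm
  obtain ⟨ε, hε⟩ : IsSquare (algebraMap F L δ) := by
    have hchar : ringChar L ≠ 2 := by
      rw [← Algebra.ringChar_eq F L]; exact hF2
    rw [FiniteField.isSquare_iff hchar ((_root_.map_ne_zero _).2 hδ0), hLF, ← map_pow]
    have : q ^ 2 / 2 = (q / 2) * (2 * (q / 2) + 2) := by
      obtain ⟨w, hw⟩ : ∃ w, q = 2 * w + 1 := ⟨q / 2, by omega⟩
      rw [hw, show (2 * w + 1) / 2 = w by omega,
        show (2 * w + 1) ^ 2 = 2 * (w * (2 * w + 2)) + 1 by ring]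
      omega
    rw [this, pow_mul, hδh, show 2 * (q / 2) + 2 = 2 * (q / 2 + 1) by ring, pow_mul, neg_one_sq, one_pow, map_one]
  have hε0 : ε ≠ 0 := fun e => hδ0 ((algebraMap F L).injective (by rw [hε, e, mul_zero, map_zero]))
  have hεq : ε ^ q = -ε := by
    have h1 : ε ^ q = ε * (algebraMap F L δ) ^ (q / 2) := by
      conv_lhs => rw [show q = 2 * (q / 2) + 1 by omega, pow_succ', pow_mul, pow_two, ← hε]
    rw [h1, ← map_pow, hδh, map_neg, map_one]; ring
  let τ : L ≃ₐ[F] L := FiniteField.frobeniusAlgEquivOfAlgebraic F L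
  have hτ : ∀ z, τ z = z ^ q := fun z => rfl
  have hττ : ∀ z, τ (τ z) = z := fun z => by
    rw [hτ, hτ, ← pow_mul, ← pow_two, ← hLF, FiniteField.pow_card]
  have hherm : ∀ u v : (Fin d → L), Cfsg.hermForm d L q u v = ∑ i, u i * τ (v i) := fun u v => rfl
  let B : LinearMap.BilinForm F (Fin d → L) := LinearMap.mk₂ F (fun u v => Algebra.trace F L (ε * ∑ i, u i * τ (v i)))
    (fun u u' v => by simp [add_mul, mul_add, Finset.sum_add_distrib])
    (fun c u v => by
      simp only [Pi.smul_apply, smul_mul_assoc, ← Finset.smul_sum, mul_smul_comm, map_smul])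
    (fun u v v' => by simp [mul_add, Finset.sum_add_distrib])
    (fun c u v => by
      simp only [Pi.smul_apply, map_smul, mul_smul_comm, ← Finset.smul_sum])
  have hBv : ∀ u v, B u v = Algebra.trace F L (ε * ∑ i, u i * τ (v i)) := fun u v => rfl
  have hA : LinearMap.IsAlt B := fun u => by
    have h := Algebra.trace_eq_of_algEquiv τ (ε * ∑ i, u i * τ (u i))
    rw [map_mul, map_sum, hτ ε, hεq] at h
    simp only [map_mul, hττ, mul_comm (τ (u _)) (u _)] at h
    rw [neg_mul, map_neg] at h
    rw [hBv]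
    exact (mul_eq_zero.1 (show (2 : F) * Algebra.trace F L (ε * ∑ i, u i * τ (u i)) = 0 by
      linear_combination -h)).resolve_left h2F
  have hnd : ∀ u, (∀ v, B u v = 0) → u = 0 := fun u h => funext fun i => by
    have h1 := (traceForm_nondegenerate F L).1 (ε * u i) fun b => by
      have h2 := h (Pi.single i (τ b))
      rw [hBv, Fintype.sum_eq_single i (fun k hk => by simp [Pi.single_eq_of_ne hk]), Pi.single_eq_same,
        hττ, ← mul_assoc] at h2
      exact h2
    exact (mul_eq_zero.1 h1).resolve_left hε0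
  let X : (Fin d → L) →ₗ[F] (Fin d → L) :=
    { toFun := fun v i => ε * v i
      map_add' := fun u v => funext fun i => mul_add _ _ _
      map_smul' := fun c v => funext fun i => mul_smul_comm c ε (v i) }
  have hXv : ∀ v i, X v i = ε * v i := fun v i => rfl
  have hX : IsRoot B X δ := by
    refine ⟨fun u v => ?_, fun v => funext fun i => ?_⟩
    · rw [hBv, hBv, ← map_neg]
      congr 1
      rw [Finset.mul_sum, Finset.mul_sum, ← Finset.sum_neg_distrib]
      refine Finset.sum_congr rfl fun k _ => ?_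
      rw [hXv, hXv, map_mul, hτ ε, hεq]
      ring
    · rw [hXv, hXv, ← mul_assoc, ← hε, Pi.smul_apply, Algebra.smul_def]
  obtain ⟨e₁, he₁, he₁X⟩ := exists_basis h2F hA hnd hδ0 hX (d := d) (by
    rw [finrank_pi_fintype]
    simp [hfr, mul_comm])
  obtain ⟨e₂, he₂, he₂X⟩ := exists_basis h2F spB_alt spB_trace.nondeg hδ0 hJ (d := d) (by
    simp [two_mul])
  let Ψ : (Fin d ⊕ Fin d → F) ≃ₗ[F] (Fin d → L) := e₂.symm.trans e₁
  have hΨB : ∀ u v, B (Ψ u) (Ψ v) = spB d F u v := fun u v => by
    obtain ⟨a, rfl⟩ := e₂.surjective u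
    obtain ⟨b, rfl⟩ := e₂.surjective v
    simp [Ψ, he₁, he₂]
  have hΨX : ∀ v, Ψ (J v) = X (Ψ v) := fun v => by
    obtain ⟨a, rfl⟩ := e₂.surjective v
    simp [Ψ, he₁X, he₂X]
  let φ : Cfsg.GU d L q →* GL (Fin d ⊕ Fin d) F :=
    MonoidHom.mk' (fun g => TransvMax.glOf (Ψ.trans (((TransvMax.linOf (g : GL (Fin d) L)).restrictScalars F).trans Ψ.symm)))
      (fun g h => TransvMax.gl_ext fun v => by
        rw [Units.val_mul, ← Matrix.mulVec_mulVec]
        simp [Matrix.mulVec_mulVec]
        exact (Matrix.mulVec_mulVec _ _ _).symm)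
  have hφv : ∀ g : Cfsg.GU d L q, ∀ v, TransvMax.linOf (φ g) v = Ψ.symm (((g : GL (Fin d) L) : Matrix (Fin d) (Fin d) L) *ᵥ Ψ v) :=
    fun g v => TransvMax.glOf_mulVec _ v
  have hφH : φ.range ≤ H ⊓ Cfsg.spGL d F := by
    rintro _ ⟨g, rfl⟩
    have hsp : φ g ∈ Cfsg.spGL d F := fun u v => by
      show Cfsg.sympForm d F (TransvMax.linOf (φ g) u) (TransvMax.linOf (φ g) v) = Cfsg.sympForm d F u v
      rw [TransvMax.sympForm_eq_spB, TransvMax.sympForm_eq_spB, hφv, hφv, ← hΨB, ← hΨB u v,
        Ψ.apply_symm_apply, Ψ.apply_symm_apply, hBv, hBv, ← hherm, ← hherm]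
      exact congrArg (fun t => Algebra.trace F L (ε * t)) (g.2 _ _)
    refine ⟨hH _ hsp fun v => ?_, hsp⟩
    apply Ψ.injective
    rw [hφv, Ψ.apply_symm_apply, hΨX, hΨX, hφv, Ψ.apply_symm_apply]
    rw [show X (Ψ v) = ε • Ψ v from rfl, Matrix.mulVec_smul]
    rfl
  have hinj : Function.Injective φ := fun g h hgh => Subtype.ext (TransvMax.gl_ext fun w => by
    obtain ⟨v, rfl⟩ := Ψ.surjective w
    have := congrArg (fun x => TransvMax.linOf x v) hgh
    simp only [hφv] at this
    exact Ψ.symm.injective this)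
  have hdvd : H.relIndex (Cfsg.spGL d F) * Nat.card (Cfsg.GU d L q) ∣ Nat.card (Cfsg.spGL d F) := by
    refine (Nat.mul_dvd_mul_left _ (Nat.card_congr (MonoidHom.ofInjective hinj).toEquiv ▸
      Subgroup.card_dvd_of_le hφH)).trans (dvd_of_eq ?_)
    rw [mul_comm, ← Subgroup.inf_relIndex_right, ← Subgroup.relIndex_bot_left,
      ← Subgroup.relIndex_bot_left (H := Cfsg.spGL d F)]
    exact Subgroup.relIndex_mul_relIndex _ _ _ bot_le inf_le_right
  have hsp : Nat.card (Cfsg.spGL d F) = q ^ (d ^ 2) * ∏ i ∈ Finset.range d, (q ^ (2 * (i + 1)) - 1) := by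
    rw [← card_symplecticGroup, Nat.card_congr (spEquiv d F).toEquiv]
    exact Nat.card_congr
      { toFun := fun x => ⟨TransvMax.linOf x.1, fun u v => by
          have := x.2 u v
          rw [TransvMax.sympForm_eq_spB, TransvMax.sympForm_eq_spB] at this
          exact this⟩
        invFun := fun g => ⟨TransvMax.glOf g.1, TransvMax.glOf_mem_spGL.2 g.2⟩
        left_inv := fun x => Subtype.ext (TransvMax.glOf_linOf _)
        right_inv := fun g => Subtype.ext (LinearEquiv.ext fun v => TransvMax.glOf_mulVec _ v) }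
  have hmain := (Nat.mul_dvd_mul hΩ (dvd_refl _)).trans hdvd
  rw [hsp, UnitaryOrder.card_GU hLF] at hmain
  have hfac : ∀ i : ℕ, q ^ (2 * (i + 1)) - 1 =
      (if Even i then q ^ (i + 1) - 1 else q ^ (i + 1) + 1) * (if Even i then q ^ (i + 1) + 1 else q ^ (i + 1) - 1) := by
    intro i
    have h1 : (q ^ (i + 1) - 1) * (q ^ (i + 1) + 1) = q ^ (2 * (i + 1)) - 1 := by
      rw [mul_comm, ← Nat.sq_sub_sq, one_pow, ← pow_mul, mul_comm]
    split_ifs <;> rw [← h1]
    ring
  simp only [hfac, Finset.prod_mul_distrib] at hmain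
  have hpos : 0 < ∏ i ∈ Finset.range d, (if Even i then q ^ (i + 1) + 1 else q ^ (i + 1) - 1) :=
    Finset.prod_pos fun i _ => by
      have : 1 < q ^ (i + 1) := Nat.one_lt_pow (by omega) (by omega)
      split_ifs <;> omega
  rw [← mul_assoc, ← mul_assoc] at hmain
  have hd' := (Dvd.intro _ rfl).trans (Nat.dvd_of_mul_dvd_mul_right hpos hmain)
  rcases hr.dvd_mul.1 hd' with h' | h'
  · exact absurd (hr.dvd_of_dvd_pow h') hrq
  · obtain ⟨j, hj, hj'⟩ := (Prime.dvd_finsetProd_iff hr.prime _).1 h'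
    refine ⟨j + 1, by omega, by have := Finset.mem_range.1 hj; omega, ?_⟩
    by_cases hje : Even j
    · rw [if_pos hje, ← Int.natCast_dvd_natCast, Nat.cast_sub (Nat.one_le_pow _ _ (by omega))] at hj'
      rw [pow_succ (-1 : ℤ), hje.neg_one_pow]
      simpa [sub_eq_add_neg] using hj'
    · rw [if_neg hje, ← Int.natCast_dvd_natCast] at hj'
      rw [pow_succ (-1 : ℤ), (Nat.not_even_iff_odd.1 hje).neg_one_pow]
      simpa using hj'


/-- Elements of prime order of PSp_n(q), q odd, and the subgroups of type GU_{n/2}(q). Here `T = PSp_{2d}(F)` for a field `F` with `q` elements, `q` odd, `d ≥ 2`, realised through the matrices preserving the standard alternating form `f`; `K` is a subalgebra of the `2d × 2d` matrices that is a field of degree 2 over `F`, closed under taking adjoints for `f` but not consisting of self-adjoint elements (so `F^{2d}` becomes a `d`-dimensional space over `K ≅ F_{q²}` on which `f` is the trace of a multiple of a non-degenerate hermitian form); `H` is the subgroup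 of `T` normalizing `K` — the symplectic maps that are `K`-linear or `K`-semilinear, a subgroup of type GU_d(q) (maximality is not assumed). Ω is the set of cosets of `H` in `T`, so an element of `T` of prime order `r` (`x ∈ T` with `x^r` scalar, `x` not scalar) fixes a point of Ω exactly when some `T`-conjugate of `x` normalizes `K`. Let `r` be a prime dividing the index of `H`. Then every element of `T` of order `r` fixes a point of Ω if and only if `r = 2`. -/
theorem result {F : Type*} [Field F] [Fintype F] {p : ℕ} [Fact p.Prime] [CharP F p] {q : ℕ} (hq : Fintype.card F = q)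
    (hodd : Odd q) (d : ℕ) (hd : 2 ≤ d)
    (K : Subalgebra F (Matrix (Fin d ⊕ Fin d) (Fin d ⊕ Fin d) F)) (hK : Cfsg.Geo.IsFieldSubalgebra 2 K)
    (hKf : Cfsg.Geo.IsAdjointClosedFor (Cfsg.sympForm d F) K) (hKns : ¬ Cfsg.Geo.IsSelfAdjointFor (Cfsg.sympForm d F) K)
    (r : ℕ) [Fact r.Prime]
    (hΩ : r ∣ (Cfsg.Geo.subalgebraNormalizer K).relIndex (Cfsg.spGL d F)) :
    (∀ x ∈ Cfsg.spGL d F, (∃ z : F, ((x ^ r : GL (Fin d ⊕ Fin d) F) : Matrix (Fin d ⊕ Fin d) (Fin d ⊕ Fin d) F) = z • (1 : Matrix (Fin d ⊕ Fin d) (Fin d ⊕ Fin d) F)) →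
      (∀ z : F, (x : Matrix (Fin d ⊕ Fin d) (Fin d ⊕ Fin d) F) ≠ z • (1 : Matrix (Fin d ⊕ Fin d) (Fin d ⊕ Fin d) F)) →
      ∃ g ∈ Cfsg.spGL d F, g⁻¹ * x * g ∈ Cfsg.Geo.subalgebraNormalizer K) ↔ r = 2 := by
  classical
  subst hq
  have hp : p.Prime := Fact.out
  have hr : r.Prime := Fact.out
  have hp2 : p ≠ 2 := by
    rintro rfl
    exact Nat.not_even_iff_odd.2 hodd (Nat.even_iff.2 (FiniteField.even_card_iff_char_two.1 (ringChar.eq F 2)))
  have h2F : (2 : F) ≠ 0 := fun h => hp2 (by
    have : (p : ℕ) ∣ 2 := (CharP.cast_eq_zero_iff F p 2).1 (by exact_mod_cast h)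
    exact (Nat.prime_dvd_prime_iff_eq hp Nat.prime_two).1 this)
  set B := spB d F with hB
  have hf : ∀ u v, Cfsg.sympForm d F u v = B u v := TransvMax.sympForm_eq_spB
  have hBd : finrank F (Fin d ⊕ Fin d → F) = 2 * d := by simp [two_mul]
  have hmem : ∀ x : GL (Fin d ⊕ Fin d) F, x ∈ Cfsg.spGL d F ↔ Preserves B (TransvMax.linOf x) := fun x => by
    refine ⟨fun h u v => ?_, fun h u v => ?_⟩
    · rw [← hf, ← hf]; exact h u v
    · rw [hf, hf]; exact h u v
  -- the field
  obtain ⟨Jm, hJK, hJne, hJskew⟩ : ∃ J ∈ K, J ≠ 0 ∧ ∀ u v, B (J *ᵥ u) v = -B u (J *ᵥ v) := by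
    simp only [Cfsg.Geo.IsSelfAdjointFor] at hKns
    push Not at hKns
    obtain ⟨k, hk, u₀, v₀, hne⟩ := hKns
    obtain ⟨k', hk', hadj⟩ := hKf k hk
    refine ⟨k - k', K.sub_mem hk hk', fun e => hne ?_, fun u v => ?_⟩
    · rw [hadj, sub_eq_zero.1 e]
    · have h1 : B (k *ᵥ u) v = B u (k' *ᵥ v) := by rw [← hf, ← hf, hadj]
      have h2 : B (k' *ᵥ u) v = B u (k *ᵥ v) := by
        rw [alt_swap spB_alt v (k' *ᵥ u), alt_swap spB_alt (k *ᵥ v) u, ← hf, ← hf, hadj]
      rw [Matrix.sub_mulVec, Matrix.sub_mulVec, map_sub, map_sub, LinearMap.sub_apply, h1, h2]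
      ring
  have hd0 : Nonempty (Fin d ⊕ Fin d) := ⟨.inl ⟨0, by omega⟩⟩
  have hJscal : ∀ c : F, Jm ≠ c • 1 := by
    intro c e
    refine hJne ?_
    obtain ⟨u, v, huv⟩ : ∃ u v, B u v ≠ 0 := by
      obtain ⟨i⟩ := hd0
      by_contra hc
      push Not at hc
      have := congrFun (spB_trace.nondeg (Pi.single i 1) (fun v => hc _ v)) i
      simp at this
    have h1 := hJskew u v
    rw [e] at h1
    simp only [Matrix.smul_mulVec, Matrix.one_mulVec, map_smul, LinearMap.smul_apply, smul_eq_mul] at h1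
    have h2 : (2 * c) * B u v = 0 := by linear_combination h1
    rw [e, (mul_eq_zero.1 ((mul_eq_zero.1 h2).resolve_right huv)).resolve_left h2F, zero_smul]
  have hspan : ∀ k ∈ K, ∃ a b : F, k = a • 1 + b • Jm := by
    intro k hk
    have hli : LinearIndependent F ![(⟨1, K.one_mem⟩ : K), ⟨Jm, hJK⟩] := by
      rw [LinearIndependent.pair_iff]
      intro s t hst
      have hst' : s • (1 : Matrix (Fin d ⊕ Fin d) (Fin d ⊕ Fin d) F) + t • Jm = 0 := congrArg Subtype.val hst
      by_cases ht : t = 0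
      · rw [ht, zero_smul, add_zero, smul_eq_zero] at hst'
        exact ⟨hst'.resolve_right one_ne_zero, ht⟩
      · refine absurd ?_ (hJscal (-(s / t)))
        rw [← smul_right_injective _ ht |>.eq_iff, smul_smul, mul_neg, mul_div_cancel₀ _ ht, neg_smul,
          eq_neg_iff_add_eq_zero, add_comm]
        exact hst'
    have hsp := hli.span_eq_top_of_card_eq_finrank (by rw [Fintype.card_fin, hK.finrank_eq])
    have hmemk : (⟨k, hk⟩ : K) ∈ Submodule.span F (Set.range ![(⟨1, K.one_mem⟩ : K), ⟨Jm, hJK⟩]) := by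
      rw [hsp]; trivial
    obtain ⟨c, hc⟩ := Submodule.mem_span_range_iff_exists_fun F |>.1 hmemk
    refine ⟨c 0, c 1, ?_⟩
    have := congrArg Subtype.val hc
    rw [Fin.sum_univ_two] at this
    exact this.symm
  set J := Matrix.toLin' Jm with hJdef
  have hJv : ∀ v, J v = Jm *ᵥ v := fun v => Matrix.toLin'_apply _ _
  obtain ⟨δ, hδ2⟩ : ∃ δ : F, Jm * Jm = δ • 1 := by
    obtain ⟨a, b, hab⟩ := hspan _ (K.mul_mem hJK hJK)
    refine ⟨a, ?_⟩
    rw [hab, add_eq_left]
    by_contra hb
    refine hJne (Matrix.ext_iff_mulVec.2 fun v => ?_)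
    rw [Matrix.zero_mulVec]
    refine spB_trace.nondeg _ fun u => ?_
    have h1 : B ((Jm * Jm) *ᵥ v) u = B v ((Jm * Jm) *ᵥ u) := by
      rw [← Matrix.mulVec_mulVec, ← Matrix.mulVec_mulVec, hJskew, hJskew, neg_neg]
    rw [hab] at h1
    simp only [Matrix.add_mulVec, Matrix.smul_mulVec, Matrix.one_mulVec, map_add, map_smul,
      LinearMap.add_apply, LinearMap.smul_apply, smul_eq_mul] at h1
    rw [← neg_eq_iff_eq_neg.2 (hJskew v u)] at h1
    have hb' : b ≠ 0 := fun e => hb (by rw [e, zero_smul])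
    exact (mul_eq_zero.1 (show (2 * b) * B (Jm *ᵥ v) u = 0 by linear_combination h1)).resolve_left
      (mul_ne_zero h2F hb')
  have hδ : ∀ e : F, e * e ≠ δ := by
    intro e he
    have hmul : (Jm - e • 1) * (Jm + e • 1) = 0 := by
      simp only [sub_mul, mul_add, Matrix.smul_mul, Matrix.mul_smul, one_mul, mul_one, hδ2, smul_smul, he]
      abel
    obtain ⟨y, -, hy⟩ := hK.inv _ (K.sub_mem hJK (K.smul_mem K.one_mem e))
      (fun h => hJscal e (sub_eq_zero.1 h))
    have hy' : y * (Jm - e • 1) = 1 := mul_eq_one_comm.1 hy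
    refine hJscal (-e) ?_
    rw [neg_smul, eq_neg_iff_add_eq_zero]
    calc Jm + e • 1 = (y * (Jm - e • 1)) * (Jm + e • 1) := by rw [hy', one_mul]
      _ = 0 := by rw [mul_assoc, hmul, mul_zero]
  have hδ0 : δ ≠ 0 := fun e => hδ 0 (by rw [e, mul_zero])
  have hJ : IsRoot B J δ := ⟨fun u v => by rw [hJv, hJv, hJskew],
    fun v => by rw [hJv, hJv, Matrix.mulVec_mulVec, hδ2, Matrix.smul_mulVec, Matrix.one_mulVec]⟩
  -- the normaliser
  let Signed : GL (Fin d ⊕ Fin d) F → ((Fin d ⊕ Fin d → F) →ₗ[F] (Fin d ⊕ Fin d → F)) → Prop := fun x J =>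
    ∃ b : F, (b = 1 ∨ b = -1) ∧ ∀ v, TransvMax.linOf x (J v) = b • J (TransvMax.linOf x v)
  have hnorm : ∀ x ∈ Cfsg.spGL d F, (x ∈ Cfsg.Geo.subalgebraNormalizer K ↔ Signed x J) := by
    intro x hx
    have hxB := (hmem x).1 hx
    constructor
    · intro hn
      obtain ⟨a, b, hab⟩ := hspan _ ((hn Jm).1 hJK)
      have heq : ∀ v, TransvMax.linOf x (J v) = a • TransvMax.linOf x v + b • J (TransvMax.linOf x v) := fun v => by
        have h1 := congrArg (· *ᵥ ((x : Matrix (Fin d ⊕ Fin d) (Fin d ⊕ Fin d) F) *ᵥ v)) hab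
        simp only [← Matrix.mulVec_mulVec, Matrix.add_mulVec, Matrix.smul_mulVec, Matrix.one_mulVec,
          TransvMax.inv_mulVec_mulVec] at h1
        simpa [hJv] using h1
      have ha : a = 0 := by
        by_contra ha
        obtain ⟨i⟩ := hd0
        refine one_ne_zero (α := F) ?_
        have hz : (Pi.single i 1 : Fin d ⊕ Fin d → F) = 0 := by
          refine spB_trace.nondeg _ fun v => ?_
          obtain ⟨v, rfl⟩ : ∃ v', TransvMax.linOf x v' = v := (TransvMax.linOf x).surjective v
          obtain ⟨u, hu⟩ := (TransvMax.linOf x).surjective (Pi.single i 1)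
          rw [← hu]
          have h1 : B (TransvMax.linOf x (J u)) (TransvMax.linOf x v) =
              -B (TransvMax.linOf x u) (TransvMax.linOf x (J v)) := by rw [hxB, hxB, hJ.skew]
          rw [heq, heq] at h1
          simp only [map_add, map_smul, LinearMap.add_apply, LinearMap.smul_apply, smul_eq_mul] at h1
          rw [hJ.skew] at h1
          exact (mul_eq_zero.1 (show (2 * a) * B (TransvMax.linOf x u) (TransvMax.linOf x v) = 0 by
            linear_combination h1)).resolve_left (mul_ne_zero h2F ha)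
        simpa using congrFun hz i
      subst ha
      refine ⟨b, ?_, fun v => by rw [heq, zero_smul, zero_add]⟩
      obtain ⟨i⟩ := hd0
      have h1 := heq (J (Pi.single i 1))
      rw [zero_smul, zero_add, hJ.sq, map_smul, heq, zero_smul, zero_add, map_smul, hJ.sq, smul_smul, smul_smul] at h1
      have h2 : (TransvMax.linOf x (Pi.single i 1)) ≠ 0 := fun h => by
        simpa using congrFun ((TransvMax.linOf x).map_eq_zero_iff.1 h) i
      have h3 : δ = b * b * δ := smul_left_injective F h2 h1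
      exact mul_self_eq_one_iff.1 (mul_right_cancel₀ hδ0 (by rw [one_mul]; exact h3.symm))
    · rintro ⟨b, hb, hbv⟩
      have hb2 : b * b = 1 := by rcases hb with rfl | rfl <;> ring
      have hconj : (x : Matrix (Fin d ⊕ Fin d) (Fin d ⊕ Fin d) F) * Jm *
          ((x⁻¹ : GL (Fin d ⊕ Fin d) F) : Matrix (Fin d ⊕ Fin d) (Fin d ⊕ Fin d) F) = b • Jm := by
        refine Matrix.ext_iff_mulVec.2 fun v => ?_
        rw [← Matrix.mulVec_mulVec, ← Matrix.mulVec_mulVec, Matrix.smul_mulVec]
        have := hbv ((((x⁻¹ : GL (Fin d ⊕ Fin d) F) : Matrix (Fin d ⊕ Fin d) (Fin d ⊕ Fin d) F)) *ᵥ v)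
        simpa [hJv, TransvMax.mulVec_inv_mulVec] using this
      have hxx : (x : Matrix (Fin d ⊕ Fin d) (Fin d ⊕ Fin d) F) *
          ((x⁻¹ : GL (Fin d ⊕ Fin d) F) : Matrix (Fin d ⊕ Fin d) (Fin d ⊕ Fin d) F) = 1 := by
        rw [← Units.val_mul, mul_inv_cancel, Units.val_one]
      have himg : ∀ s t : F, (x : Matrix (Fin d ⊕ Fin d) (Fin d ⊕ Fin d) F) * (s • 1 + t • Jm) *
          ((x⁻¹ : GL (Fin d ⊕ Fin d) F) : Matrix (Fin d ⊕ Fin d) (Fin d ⊕ Fin d) F) = s • 1 + (t * b) • Jm := by
        intro s t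
        simp only [mul_add, add_mul, Matrix.mul_smul, Matrix.smul_mul, mul_one, hxx, hconj, smul_smul]
      intro k
      constructor
      · intro hk
        obtain ⟨s, t, rfl⟩ := hspan k hk
        rw [himg]
        exact K.add_mem (K.smul_mem K.one_mem _) (K.smul_mem hJK _)
      · intro hk
        obtain ⟨s, t, hst⟩ := hspan _ hk
        have h1 : k = s • 1 + (t * b) • Jm := by
          have h2 := (himg s (t * b)).trans (by rw [mul_assoc, hb2, mul_one, ← hst])
          exact ((Units.mul_right_inj x).1 ((Units.mul_left_inj x⁻¹).1 h2)).symm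
        rw [h1]
        exact K.add_mem (K.smul_mem K.one_mem _) (K.smul_mem hJK _)
  -- fixed points are roots commuting up to sign
  have hfwd : ∀ x ∈ Cfsg.spGL d F, (∃ g ∈ Cfsg.spGL d F, g⁻¹ * x * g ∈ Cfsg.Geo.subalgebraNormalizer K) →
      ∃ J', IsRoot B J' δ ∧ Signed x J' := by
    rintro x hx ⟨g, hg, hgx⟩
    obtain ⟨b, hb, hbv⟩ := (hnorm _ (mul_mem (mul_mem (inv_mem hg) hx) hg)).1 hgx
    refine ⟨(TransvMax.linOf g).conj J, hJ.conj _ ((hmem g).1 hg), b, hb, fun v => ?_⟩
    obtain ⟨v, rfl⟩ := (TransvMax.linOf g).surjective v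
    simp only [LinearEquiv.conj_apply, LinearMap.comp_apply, LinearEquiv.coe_coe, LinearEquiv.symm_apply_apply]
    have h1 := congrArg (TransvMax.linOf g) (hbv v)
    simp only [map_smul, TransvMax.linOf_apply, Matrix.mulVec_mulVec, ← Units.val_mul, mul_assoc,
      mul_inv_cancel_left] at h1
    rw [Units.val_mul, ← Matrix.mulVec_mulVec] at h1
    simp only [TransvMax.linOf_apply]
    rw [h1]
    congr 2
    rw [show (TransvMax.linOf g).symm ((x : Matrix (Fin d ⊕ Fin d) (Fin d ⊕ Fin d) F) *ᵥ
        ((g : Matrix (Fin d ⊕ Fin d) (Fin d ⊕ Fin d) F) *ᵥ v)) = TransvMax.linOf (g⁻¹ * (x * g)) v from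
      (LinearEquiv.symm_apply_eq _).2 (by
        simp only [TransvMax.linOf_apply, Matrix.mulVec_mulVec, ← Units.val_mul, mul_inv_cancel_left])]
    rfl
  have hbwd : ∀ x ∈ Cfsg.spGL d F, ∀ J', IsRoot B J' δ → Signed x J' →
      ∃ g ∈ Cfsg.spGL d F, g⁻¹ * x * g ∈ Cfsg.Geo.subalgebraNormalizer K := by
    rintro x hx J' hJ' ⟨b, hb, hbv⟩
    obtain ⟨e₁, he₁, he₁J⟩ := exists_basis h2F spB_alt spB_trace.nondeg hδ0 hJ hBd
    obtain ⟨e₂, he₂, he₂J⟩ := exists_basis h2F spB_alt spB_trace.nondeg hδ0 hJ' hBd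
    let g := TransvMax.glOf (e₁.symm.trans e₂)
    have hg : g ∈ Cfsg.spGL d F := TransvMax.glOf_mem_spGL.2 fun u v => by
      obtain ⟨a, rfl⟩ := e₁.surjective u
      obtain ⟨c, rfl⟩ := e₁.surjective v
      simp [he₁, he₂]
    have hgJ : ∀ v, TransvMax.linOf g (J v) = J' (TransvMax.linOf g v) := fun v => by
      obtain ⟨a, rfl⟩ := e₁.surjective v
      simp [g, he₁J, he₂J]
    refine ⟨g, hg, (hnorm _ (mul_mem (mul_mem (inv_mem hg) hx) hg)).2 ⟨b, hb, fun v => ?_⟩⟩
    apply (TransvMax.linOf g).injective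
    rw [map_smul, hgJ]
    have hxg : ∀ w, TransvMax.linOf g (TransvMax.linOf (g⁻¹ * x * g) w) = TransvMax.linOf x (TransvMax.linOf g w) :=
      fun w => by
        simp only [TransvMax.linOf_apply, Matrix.mulVec_mulVec, ← Units.val_mul, mul_assoc, mul_inv_cancel_left]
    rw [hxg, hxg, hgJ, hbv]
  constructor
  · intro hall
    by_contra hr2
    have key : ∀ g : (Fin d ⊕ Fin d → F) ≃ₗ[F] (Fin d ⊕ Fin d → F), Preserves B g → g ^ r = 1 → g ≠ 1 →
        ∃ J', IsRoot B J' δ ∧ ∀ v, g (J' v) = J' (g v) := by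
      intro g hg hgr hg1
      have hx : TransvMax.glOf g ∈ Cfsg.spGL d F := TransvMax.glOf_mem_spGL.2 hg
      have hlg : TransvMax.linOf (TransvMax.glOf g) = g := LinearEquiv.ext fun v => TransvMax.glOf_mulVec g v
      have hro : Odd r := hr.odd_of_ne_two hr2
      obtain ⟨J', hJ', b, hb, hbv⟩ := hfwd _ hx (hall _ hx ⟨1, by rw [← map_pow, hgr, map_one, Units.val_one, one_smul]⟩
        (fun z hz => hg1 (LinearEquiv.ext fun v => by
          have hz' : ∀ v, g v = z • v := fun v => by
            rw [← TransvMax.glOf_mulVec g v, hz, Matrix.smul_mulVec, Matrix.one_mulVec]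
          obtain ⟨i⟩ := hd0
          have hpw : ∀ n : ℕ, ∀ v, (g ^ n) v = z ^ n • v := by
            intro n
            induction n with
            | zero => intro v; simp
            | succ n ih => intro v; rw [pow_succ', LinearEquiv.mul_apply, ih, hz', smul_smul, pow_succ']
          have hzr : z ^ r = 1 := by
            have := congrFun (hpw r (Pi.single i 1)) i
            rw [hgr] at this
            simpa using this.symm
          obtain ⟨u, w, huw⟩ : ∃ u w, B u w ≠ 0 := by
            by_contra hc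
            push Not at hc
            simpa using congrFun (spB_trace.nondeg (Pi.single i 1) (fun v => hc _ v)) i
          have hz2 : z ^ 2 = 1 := by
            have h1 := hg u w
            rw [hz', hz', map_smul, map_smul, LinearMap.smul_apply, smul_eq_mul, smul_eq_mul] at h1
            exact mul_right_cancel₀ huw (by linear_combination h1)
          obtain ⟨k, hk⟩ := hro
          rw [hk, pow_succ, pow_mul, hz2, one_pow, one_mul] at hzr
          rw [hz', hzr, one_smul]
          rfl)))
      rw [hlg] at hbv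
      refine ⟨J', hJ', fun v => ?_⟩
      rcases hb with rfl | rfl
      · rw [hbv, one_smul]
      · exfalso
        have hpw : ∀ n : ℕ, ∀ v, (g ^ n) (J' v) = (-1 : F) ^ n • J' ((g ^ n) v) := by
          intro n
          induction n with
          | zero => intro v; simp
          | succ n ih =>
            intro v
            rw [pow_succ', LinearEquiv.mul_apply, LinearEquiv.mul_apply, ih, map_smul, hbv, smul_smul, pow_succ]
        obtain ⟨i⟩ := hd0
        have h1 := hpw r (Pi.single i 1)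
        rw [hgr, hro.neg_one_pow] at h1
        have h1' : J' (Pi.single i 1) = (-1 : F) • J' (Pi.single i 1) := h1
        have h3 : J' (Pi.single i 1) = 0 :=
          (smul_eq_zero.1 (show (2 : F) • J' (Pi.single i 1) = 0 by
            rw [two_smul]; nth_rewrite 1 [h1']; rw [neg_one_smul, neg_add_cancel])).resolve_left h2F
        have h4 := congrFun (hJ'.sq (Pi.single i 1)) i
        rw [h3, map_zero] at h4
        exact hδ0 (by simpa using h4.symm)
    have hbad : ∀ g, ¬ IsBad B δ r g := by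
      rintro g ⟨h1, h2, h3, h4⟩
      obtain ⟨J', hJ', hc⟩ := key g h1 h2 h3
      exact h4 J' hJ' hc
    have hrp : r ≠ p := by
      rintro rfl
      -- a transvection
      obtain ⟨i⟩ := hd0
      set a : Fin d ⊕ Fin d → F := Pi.single i 1
      have ha0 : a ≠ 0 := fun h => by simpa [a] using congrFun h i
      obtain ⟨g, hg, hgv⟩ := spB_trace.exists_equiv (LinearMap.id + (B a).smulRight a) (fun u v => by
        simp only [LinearMap.add_apply, LinearMap.id_apply, LinearMap.smulRight_apply, map_add, map_smul,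
          LinearMap.smul_apply, smul_eq_mul, spB_alt a, hB, alt_swap spB_alt a u]
        ring)
      have hgv' : ∀ v, g v = v + B a v • a := fun v => by rw [hgv]; simp
      have hpow : ∀ k : ℕ, ∀ v, (g ^ k) v = v + ((k : F) * B a v) • a := by
        intro k
        induction k with
        | zero => intro v; simp
        | succ k ih =>
          intro v
          rw [pow_succ', LinearEquiv.mul_apply, ih, hgv', map_add (B a), map_smul (B a),
            show B a a = 0 from spB_alt a, smul_zero, add_zero, add_assoc, ← add_smul]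
          push_cast; ring_nf
      obtain ⟨w, hw⟩ : ∃ w, B a w ≠ 0 := by
        by_contra hc
        push Not at hc
        exact ha0 (spB_trace.nondeg a hc)
      refine hbad g ⟨hg, LinearEquiv.ext fun v => by rw [hpow, CharP.cast_eq_zero]; simp, fun h => ?_, fun J' hJ' hc => ?_⟩
      · have := hgv' w
        rw [h, LinearEquiv.coe_one, id, left_eq_add, smul_eq_zero] at this
        exact this.elim hw ha0
      · have h1 := hc w
        rw [hgv', hgv', map_add, map_smul, add_right_inj] at h1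
        set s := (B a w)⁻¹ * B a (J' w)
        have h2 : J' a = s • a := by
          rw [mul_smul, h1, smul_smul, inv_mul_cancel₀ hw, one_smul]
        have h3 := hJ'.sq a
        rw [h2, map_smul, h2, smul_smul] at h3
        exact hδ s (smul_left_injective F ha0 h3)
    have hrq : ¬ r ∣ Fintype.card F := by
      obtain ⟨a, -, hcard⟩ := FiniteField.card F p
      intro h
      rw [hcard] at h
      exact hrp ((Nat.prime_dvd_prime_iff_eq hr hp).1 (hr.dvd_of_dvd_pow h))
    obtain ⟨j, hj, hjd, hdvd⟩ := dvd_index (p := p) hp2 hδ hJ _ (fun x hx hc => (hnorm x hx).2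
      ⟨1, Or.inl rfl, fun v => by rw [one_smul]; exact hc v⟩) hr hrq hΩ
    obtain ⟨g, hg⟩ := exists_bad (p := p) hp2 hδ hr hr2 hj hjd hdvd
    exact hbad g hg
  · rintro rfl x hx ⟨z, hz⟩ -
    have hxB := (hmem x).1 hx
    set X := TransvMax.linOf x
    have hXX : ∀ v, X (X v) = z • v := fun v => by
      simp only [X, TransvMax.linOf_apply, Matrix.mulVec_mulVec]
      rw [← Units.val_mul, ← pow_two, hz, Matrix.smul_mulVec, Matrix.one_mulVec]
    obtain ⟨i⟩ := hd0
    obtain ⟨w, hw⟩ : ∃ w, B (Pi.single i 1) w ≠ 0 := by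
      by_contra hc
      push Not at hc
      simpa using congrFun (spB_trace.nondeg (Pi.single i 1) hc) i
    have hz2 : z * z = 1 := by
      have h1 : B (X (X (Pi.single i 1))) (X (X w)) = B (Pi.single i 1) w := by rw [hxB, hxB]
      rw [hXX, hXX] at h1
      simp only [map_smul, LinearMap.smul_apply, smul_eq_mul] at h1
      exact mul_right_cancel₀ hw (by linear_combination h1)
    suffices ∃ J', IsRoot B J' δ ∧ Signed x J' by
      obtain ⟨J', h1, h2⟩ := this
      exact hbwd x hx J' h1 h2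
    rcases mul_self_eq_one_iff.1 hz2 with rfl | rfl
    · -- an involution
      set P := LinearMap.ker ((X : (Fin d ⊕ Fin d → F) →ₗ[F] _) - LinearMap.id)
      set M := LinearMap.ker ((X : (Fin d ⊕ Fin d → F) →ₗ[F] _) + LinearMap.id)
      have hPm : ∀ v, v ∈ P ↔ X v = v := fun v => by rw [LinearMap.mem_ker, LinearMap.sub_apply, sub_eq_zero]; rfl
      have hMm : ∀ v, v ∈ M ↔ X v = -v := fun v => by
        rw [LinearMap.mem_ker, LinearMap.add_apply, add_eq_zero_iff_eq_neg]; rfl
      have hPM : IsCompl P M := by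
        refine IsCompl.of_eq ?_ ?_
        · rw [Submodule.eq_bot_iff]
          rintro v ⟨h1, h2⟩
          have h3 := ((hPm v).1 h1).symm.trans ((hMm v).1 h2)
          exact (smul_eq_zero.1 (show (2 : F) • v = 0 by rw [two_smul]; exact add_eq_zero_iff_eq_neg.2 h3)).resolve_left h2F
        · rw [eq_top_iff]
          intro v _
          have h1 : v + X v ∈ P := by rw [hPm, map_add, hXX, one_smul, add_comm]
          have h2 : v - X v ∈ M := by rw [hMm, map_sub, hXX, one_smul, neg_sub]
          rw [show v = (2 : F)⁻¹ • ((v + X v) + (v - X v)) by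
            rw [add_add_sub_cancel, ← two_smul F, smul_smul, inv_mul_cancel₀ h2F, one_smul]]
          exact Submodule.smul_mem _ _ (Submodule.add_mem_sup h1 h2)
      have hperp : ∀ v ∈ P, ∀ u ∈ M, B v u = 0 := fun v hv u hu => by
        have h1 := hxB v u
        rw [(hPm v).1 hv, (hMm u).1 hu, map_neg] at h1
        exact (mul_eq_zero.1 (show (2 : F) * B v u = 0 by linear_combination -h1)).resolve_left h2F
      have hperp' : ∀ v ∈ M, ∀ u ∈ P, B v u = 0 := fun v hv u hu => by
        rw [alt_swap spB_alt u v, hperp u hu v hv, neg_zero]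
      have hnd : ∀ S T : Submodule F (Fin d ⊕ Fin d → F), IsCompl S T → (∀ v ∈ S, ∀ u ∈ T, B v u = 0) →
          ∀ u : S, (∀ v : S, B.compl₁₂ S.subtype S.subtype u v = 0) → u = 0 := fun S T hST hp u h =>
        Subtype.ext (spB_trace.nondeg _ fun v => by
          obtain ⟨a, ha, c, hc, rfl⟩ := Submodule.mem_sup.1 (hST.sup_eq_top.ge (Submodule.mem_top (x := v)))
          have h0 : B (u : Fin d ⊕ Fin d → F) a = 0 := h ⟨a, ha⟩
          rw [← hB, map_add, h0, hp _ u.2 c hc, add_zero])
      obtain ⟨J₁, hJ₁⟩ := exists_root (B := B.compl₁₂ P.subtype P.subtype) (fun v => spB_alt _) (hnd P M hPM hperp) δ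
      obtain ⟨J₂, hJ₂⟩ := exists_root (B := B.compl₁₂ M.subtype M.subtype) (fun v => spB_alt _) (hnd M P hPM.symm hperp') δ
      set E := Submodule.prodEquivOfIsCompl P M hPM
      have hE : ∀ c, E c = (c.1 : Fin d ⊕ Fin d → F) + c.2 := fun c => rfl
      have hEB : ∀ c c', B (E c) (E c') =
          B.compl₁₂ P.subtype P.subtype c.1 c'.1 + B.compl₁₂ M.subtype M.subtype c.2 c'.2 := fun c c' => by
        simp only [hE, map_add, LinearMap.add_apply, LinearMap.compl₁₂_apply, Submodule.subtype_apply,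
          hperp _ c.1.2 _ c'.2.2, hperp' _ c.2.2 _ c'.1.2, add_zero, zero_add]
      refine ⟨E.conj (J₁.prodMap J₂), ⟨fun u v => ?_, fun v => ?_⟩, 1, Or.inl rfl, fun v => ?_⟩
      · obtain ⟨a, rfl⟩ := E.surjective u
        obtain ⟨c, rfl⟩ := E.surjective v
        simp only [LinearEquiv.conj_apply, LinearMap.comp_apply, LinearEquiv.coe_coe, LinearEquiv.symm_apply_apply,
          LinearMap.prodMap_apply, hEB, hJ₁.skew, hJ₂.skew]
        ring
      · obtain ⟨a, rfl⟩ := E.surjective v
        simp only [LinearEquiv.conj_apply, LinearMap.comp_apply, LinearEquiv.coe_coe, LinearEquiv.symm_apply_apply,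
          LinearMap.prodMap_apply, hJ₁.sq, hJ₂.sq, ← map_smul, Prod.smul_def]
      · obtain ⟨a, rfl⟩ := E.surjective v
        have hXE : ∀ c, X (E c) = E (c.1, -c.2) := fun c => by
          rw [hE, hE, map_add, (hPm _).1 c.1.2, (hMm _).1 c.2.2]; rfl
        simp only [one_smul, LinearEquiv.conj_apply, LinearMap.comp_apply, LinearEquiv.coe_coe,
          LinearEquiv.symm_apply_apply, LinearMap.prodMap_apply]
        change X (E (J₁ a.1, J₂ a.2)) = E (J₁ (E.symm (X (E a))).1, J₂ (E.symm (X (E a))).2)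
        rw [hXE, hXE, LinearEquiv.symm_apply_apply, map_neg]
    · -- a root of `-1`
      have hXr : IsRoot B (X : (Fin d ⊕ Fin d → F) →ₗ[F] _) (-1) := ⟨fun u v => by
          rw [LinearEquiv.coe_coe, ← hxB (X u) v, hXX, neg_one_smul, map_neg, LinearMap.neg_apply], hXX⟩
      obtain ⟨e, he, heX⟩ := exists_basis h2F spB_alt spB_trace.nondeg (neg_ne_zero.2 one_ne_zero) hXr hBd
      obtain ⟨a, b, hab⟩ : ∃ a b : F, a ^ 2 + b ^ 2 = δ := by
        haveI : NeZero p := ⟨hp.ne_zero⟩
        obtain ⟨a, b, h⟩ := FiniteField.exists_root_sum_quadratic (R := F)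
          (f := Polynomial.X ^ 2) (g := Polynomial.X ^ 2 - Polynomial.C δ) (Polynomial.degree_X_pow 2)
          (Polynomial.degree_X_pow_sub_C (by decide) _) (Nat.odd_iff.1 hodd)
        simp at h
        exact ⟨a, b, by linear_combination h⟩
      let J₀ : (Fin d ⊕ Fin d → F) →ₗ[F] (Fin d ⊕ Fin d → F) :=
        { toFun := fun v => Sum.elim (fun i => b * v (.inr i) - a * v (.inl i)) (fun i => a * v (.inr i) + b * v (.inl i))
          map_add' := fun u v => by funext i; rcases i with i | i <;> simp <;> ring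
          map_smul' := fun c v => by funext i; rcases i with i | i <;> simp <;> ring }
      have hJ0r : IsRoot (spB d F) J₀ δ := by
        refine ⟨fun u v => ?_, fun v => funext fun i => ?_⟩
        · rw [spB_expand, spB_expand, ← Finset.sum_neg_distrib]
          refine Finset.sum_congr rfl fun i _ => ?_
          simp [J₀]; ring
        · rcases i with i | i
          · simp [J₀]; linear_combination (v (.inl i)) * hab
          · simp [J₀]; linear_combination (v (.inr i)) * hab
      refine ⟨e.conj J₀, hJ0r.conj e he, -1, Or.inr rfl, fun v => ?_⟩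
      obtain ⟨v, rfl⟩ := e.surjective v
      have heX' : ∀ v, X (e v) = e (stdRoot d (-1) v) := heX
      simp only [LinearEquiv.conj_apply, LinearMap.comp_apply, LinearEquiv.coe_coe, LinearEquiv.symm_apply_apply]
      change X (e (J₀ v)) = (-1 : F) • e (J₀ (e.symm (X (e v))))
      rw [heX', heX', LinearEquiv.symm_apply_apply, ← map_smul]
      congr 1
      funext i
      rcases i with i | i <;> simp [J₀, stdRoot] <;> ring

end Cfsg.Agent.S5976
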