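import Cfsg.Agent.Lib.TransvMax.SymRootMain
-- import your own Cfsg.Agent.* helpers here

set_option autoImplicit false
open scoped MatrixGroups
open Cfsg

namespace Cfsg.Agent.S5977

open Cfsg.Agent Cfsg.Agent.FormsLib Cfsg.Agent.SymRoot Module QuadraticMap
open scoped Matrix

/-- Elements of prime order of PΩ⁺_n(q), q odd, and the field-extension subgroups of degree 2 (orthogonal type over F_{q²}). Here `T = PΩ⁺_{2d}(F)` for a field `F` with `q` elements, `q` odd, `d ≥ 4`, realised through `Ω⁺_{2d}(q)`, the commutator subgroup of the isometry group of `Q = Σ xᵢyᵢ`, with polar form `B`; `K` is a subalgebra of the `2d × 2d` matrices that is a field of degree 2 over `F` whose elements are self-adjoint for `B` (so `F^{2d}` becomes a `d`-dimensional space over `K ≅ F_{q²}` on which `B` is the trace of a `K`-bilinear symmetric form); `H` is the subgroup of `Ω⁺_{2d}(q)` normalizing `K` — the elements of `Ω⁺_{2d}(q)` that are `K`-linear or `K`-semilinear, a subgroup of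 orthogonal type over the quadratic extension (maximality is not assumed). Ω is the set of cosets of `H`, so an element of `T` of prime order `r` (`x ∈ Ω⁺_{2d}(q)` with `x^r` scalar, `x` not scalar) fixes a point of Ω exactly when some `Ω⁺_{2d}(q)`-conjugate of `x` normalizes `K`. Let `r` be a prime dividing the index of `H`. Then every element of `T` of order `r` fixes a point of Ω if and only if `r = 2`. -/
theorem result {F : Type*} [Field F] [Fintype F] {p : ℕ} [Fact p.Prime] [CharP F p] {q : ℕ} (hq : Fintype.card F = q)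
    (hodd : Odd q) (d : ℕ) (hd : 4 ≤ d)
    (K : Subalgebra F (Matrix (Fin d ⊕ Fin d) (Fin d ⊕ Fin d) F)) (hK : Cfsg.Geo.IsFieldSubalgebra 2 K)
    (hKf : Cfsg.Geo.IsSelfAdjointFor (QuadraticMap.polar (Cfsg.quadFormPlus d F)) K)
    (r : ℕ) [Fact r.Prime]
    (hΩ : r ∣ (Cfsg.Geo.subalgebraNormalizer K).relIndex (Cfsg.Geo.omegaGL (Cfsg.quadFormPlus d F))) :
    (∀ x ∈ Cfsg.Geo.omegaGL (Cfsg.quadFormPlus d F), (∃ z : F, ((x ^ r : GL (Fin d ⊕ Fin d) F) : Matrix (Fin d ⊕ Fin d) (Fin d ⊕ Fin d) F) = z • (1 : Matrix (Fin d ⊕ Fin d) (Fin d ⊕ Fin d) F)) →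
      (∀ z : F, (x : Matrix (Fin d ⊕ Fin d) (Fin d ⊕ Fin d) F) ≠ z • (1 : Matrix (Fin d ⊕ Fin d) (Fin d ⊕ Fin d) F)) →
      ∃ g ∈ Cfsg.Geo.omegaGL (Cfsg.quadFormPlus d F), g⁻¹ * x * g ∈ Cfsg.Geo.subalgebraNormalizer K) ↔ r = 2 := by
  subst hq
  set q := Fintype.card F with hqdef
  have h2 : (2 : F) ≠ 0 := Ring.two_ne_zero fun h => by
    have := FiniteField.even_card_of_char_two h
    rw [Nat.odd_iff] at hodd
    omega
  have hq1 : 1 < q := Fintype.one_lt_card
  have hcoe : Cfsg.quadFormPlus d F = ⇑(OrthOrder.qPlus d F) := funext fun v => (OrthOrder.qPlus_apply d v).symm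
  rw [hcoe] at hKf hΩ ⊢
  obtain ⟨n, hn⟩ : ∃ n, d = n + 1 := ⟨d - 1, by omega⟩
  refine elusive_iff (N := d * (d - 1)) (E := q ^ d - 1) rfl hodd (p := p) (qPlus_nondeg F d) hd (by simp; omega) K hK hKf
    ?_ ?_ r ?_ hΩ
  · subst hn
    rw [card_oGroup_qPlus, Nat.add_sub_cancel]
  · intro δ hδ J hJ k hk
    subst hk
    let e : Fin (k + 1 + (k + 1)) ≃ Fin (2 * (k + 1)) := finCongr (by omega)
    have h := card_cent_plus (δ := δ) h2 (qPlus_nondeg F (2 * (k + 1))) hJ (k := k) (by simp; omega)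
      (φ := LinearEquiv.funCongrLeft F F (Equiv.sumCongr e.symm e.symm)) (fun v => by
        rw [OrthOrder.qPlus_apply, OrthOrder.qPlus_apply, Cfsg.quadFormPlus, Cfsg.quadFormPlus, ← Equiv.sum_comp e]
        simp [LinearEquiv.funCongrLeft_apply, LinearMap.funLeft_apply])
    rw [h, ← pow_mul q 2 (k + 1)]
  · intro hr2 hrq hdodd hrE
    have hr : r.Prime := Fact.out
    have hod : orderOf (q : ZMod r) ∣ d := orderOf_dvd_of_pow_eq_one (by
      rw [← ZMod.natCast_eq_zero_iff, Nat.cast_sub (Nat.one_le_pow _ _ (by omega)), sub_eq_zero, Nat.cast_pow,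
        Nat.cast_one] at hrE
      exact hrE)
    set o := orderOf (q : ZMod r) with ho
    have hoodd : Odd o := hdodd.of_dvd_nat hod
    rcases lt_or_eq_of_le (Nat.le_of_dvd (by omega) hod) with hlt | heq
    · refine hasBad_of_dvd h2 (qPlus_nondeg F d) (p := p) hr2 (d := d) (by simp; omega) hoodd hlt ?_
      rw [← ZMod.natCast_eq_zero_iff, Nat.cast_sub (Nat.one_le_pow _ _ (by omega)), sub_eq_zero, Nat.cast_pow,
        Nat.cast_one, mul_comm 2 o, pow_mul, pow_orderOf_eq_one, one_pow]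
    · obtain ⟨g, hg, hgr, hrk⟩ := exists_hyperbolic (F := F) p h2 hr2 (r := r) (i := d) (ho.symm.trans heq) (by omega)
      refine ⟨g, hg, hgr, ?_⟩
      rw [hrk]
      obtain ⟨t, ht⟩ := hdodd
      omega

end Cfsg.Agent.S5977
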