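import Cfsg.Agent.Lib.TransvMax.SymRootMain
-- import your own Cfsg.Agent.* helpers here

set_option autoImplicit false
open scoped MatrixGroups
open Cfsg

namespace Cfsg.Agent.S5978

open Cfsg.Agent Cfsg.Agent.FormsLib Cfsg.Agent.SymRoot Module QuadraticMap
open scoped Matrix

/-- Elements of prime order of PΩ⁻_n(q), q odd, and the field-extension subgroups of degree 2 (orthogonal type over F_{q²}). Here `T = PΩ⁻_{2d}(F)` for a field `F` with `q` elements, `q` odd, `d ≥ 4`, realised through `Ω⁻_{2d}(q)`, the commutator subgroup of the isometry group of `Q = Σ_{i<d−1} xᵢyᵢ + z₁² + a z₁z₂ + b z₂²` with `z₁² + a z₁z₂ + b z₂²` anisotropic, with polar form `B`; `K` is a subalgebra of the `2d × 2d` matrices that is a field of degree 2 over `F` whose elements are self-adjoint for `B` (so `F^{2d}` becomes a `d`-dimensional space over `K ≅ F_{q²}` on which `B` is the trace of a `K`-bilinear symmetric form); `H` is the subgroup of `Ω⁻_{2d}(q)`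 normalizing `K` — the elements of `Ω⁻_{2d}(q)` that are `K`-linear or `K`-semilinear, a subgroup of orthogonal type over the quadratic extension (maximality is not assumed). Ω is the set of cosets of `H`, so an element of `T` of prime order `r` (`x ∈ Ω⁻_{2d}(q)` with `x^r` scalar, `x` not scalar) fixes a point of Ω exactly when some `Ω⁻_{2d}(q)`-conjugate of `x` normalizes `K`. Let `r` be a prime dividing the index of `H`. Then every element of `T` of order `r` fixes a point of Ω if and only if `r = 2`. -/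
theorem result {F : Type*} [Field F] [Fintype F] {p : ℕ} [Fact p.Prime] [CharP F p] {q : ℕ} (hq : Fintype.card F = q)
    (hodd : Odd q) (d : ℕ) (hd : 4 ≤ d) (a b : F) (hab : ∀ x y : F, x ^ 2 + a * x * y + b * y ^ 2 = 0 → x = 0 ∧ y = 0)
    (K : Subalgebra F (Matrix ((Fin (d - 1) ⊕ Fin (d - 1)) ⊕ Fin 2) ((Fin (d - 1) ⊕ Fin (d - 1)) ⊕ Fin 2) F)) (hK : Cfsg.Geo.IsFieldSubalgebra 2 K)
    (hKf : Cfsg.Geo.IsSelfAdjointFor (QuadraticMap.polar (Cfsg.quadFormMinus (d - 1) F a b)) K)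
    (r : ℕ) [Fact r.Prime]
    (hΩ : r ∣ (Cfsg.Geo.subalgebraNormalizer K).relIndex (Cfsg.Geo.omegaGL (Cfsg.quadFormMinus (d - 1) F a b))) :
    (∀ x ∈ Cfsg.Geo.omegaGL (Cfsg.quadFormMinus (d - 1) F a b), (∃ z : F, ((x ^ r : GL ((Fin (d - 1) ⊕ Fin (d - 1)) ⊕ Fin 2) F) : Matrix ((Fin (d - 1) ⊕ Fin (d - 1)) ⊕ Fin 2) ((Fin (d - 1) ⊕ Fin (d - 1)) ⊕ Fin 2) F) = z • (1 : Matrix ((Fin (d - 1) ⊕ Fin (d - 1)) ⊕ Fin 2) ((Fin (d - 1) ⊕ Fin (d - 1)) ⊕ Fin 2) F)) →
      (∀ z : F, (x : Matrix ((Fin (d - 1) ⊕ Fin (d - 1)) ⊕ Fin 2) ((Fin (d - 1) ⊕ Fin (d - 1)) ⊕ Fin 2) F) ≠ z • (1 : Matrix ((Fin (d - 1) ⊕ Fin (d - 1)) ⊕ Fin 2) ((Fin (d - 1) ⊕ Fin (d - 1)) ⊕ Fin 2) F)) →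
      ∃ g ∈ Cfsg.Geo.omegaGL (Cfsg.quadFormMinus (d - 1) F a b), g⁻¹ * x * g ∈ Cfsg.Geo.subalgebraNormalizer K) ↔ r = 2 := by
  subst hq
  set q := Fintype.card F with hqdef
  have h2 : (2 : F) ≠ 0 := Ring.two_ne_zero fun h => by
    have := FiniteField.even_card_of_char_two h
    rw [Nat.odd_iff] at hodd
    omega
  have hq1 : 1 < q := Fintype.one_lt_card
  let Ll := LinearEquiv.sumArrowLequivProdArrow (Fin (d - 1) ⊕ Fin (d - 1)) (Fin 2) F F
  let Q : QuadraticForm F ((Fin (d - 1) ⊕ Fin (d - 1)) ⊕ Fin 2 → F) :=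
    (OrthOrder.qSum (d - 1) (S0288.binForm a b)).comp Ll.toLinearMap
  have hcoe : Cfsg.quadFormMinus (d - 1) F a b = ⇑Q := funext fun v => by
    show _ = OrthOrder.qSum (d - 1) (S0288.binForm a b) (Ll v)
    simp [Ll, OrthOrder.qSum_apply, S0288.binForm_apply, Cfsg.quadFormMinus, Cfsg.quadFormPlus]
  have hQ : (polarBilin Q).Nondegenerate := OrthOrder.nondegenerate_congr Ll (fun v => rfl)
    (OrthOrder.qSum_nondeg (S0288.binForm_nondeg a b hab) _)
  rw [hcoe] at hKf hΩ ⊢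
  have hdim : Fintype.card ((Fin (d - 1) ⊕ Fin (d - 1)) ⊕ Fin 2) = 2 * d := by simp; omega
  have hcard : Nat.card (oGroup Q) = 2 * q ^ (d * (d - 1)) * (q ^ d + 1) *
      ∏ i ∈ Finset.range (d - 1), (q ^ (2 * (i + 1)) - 1) := by
    rw [← Nat.card_congr (oEquiv Q).toEquiv, ← hcoe]
    exact S0288.result rfl d (by omega) a b hab
  have hpos : 0 < ∏ i ∈ Finset.range (d - 1), (q ^ (2 * (i + 1)) - 1) :=
    Finset.prod_pos fun i _ => by
      have : 1 < q ^ (2 * (i + 1)) := Nat.one_lt_pow (by omega) hq1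
      omega
  have hplus : ∀ D, D = d → ¬ ∃ φ : ((Fin (d - 1) ⊕ Fin (d - 1)) ⊕ Fin 2 → F) ≃ₗ[F] (Fin D ⊕ Fin D → F),
      ∀ v, OrthOrder.qPlus D F (φ v) = Q v := by
    rintro D rfl ⟨φ, hφ⟩
    obtain ⟨n, rfl⟩ : ∃ n, D = n + 1 := ⟨D - 1, by omega⟩
    have h := OrthOrder.card_oGroup_congr φ hφ
    rw [hcard, card_oGroup_qPlus, ← hqdef] at h
    simp only [Nat.add_sub_cancel] at h hpos
    have h' := Nat.eq_of_mul_eq_mul_left (Nat.mul_pos two_pos (pow_pos (Nat.zero_lt_of_lt hq1) _))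
      (Nat.eq_of_mul_eq_mul_right hpos h)
    have : 1 ≤ q ^ (n + 1) := Nat.one_le_pow _ _ (by omega)
    omega
  refine elusive_iff (N := d * (d - 1)) (E := q ^ d + 1) rfl hodd (p := p) hQ hd hdim K hK hKf hcard ?_ r ?_ hΩ
  · intro δ hδ J hJ k hk
    rw [card_cent_minus (δ := δ) h2 hQ hJ (k := k) (by rw [hdim, hk]) (hplus _ (by omega)), ← pow_mul q 2 (k + 1), ← hk]
  · intro hr2 hrq hdodd hrE
    have hr : r.Prime := Fact.out
    have hqd : (q : ZMod r) ^ d = -1 := by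
      rw [← ZMod.natCast_eq_zero_iff] at hrE
      push_cast at hrE
      linear_combination hrE
    have hone : (q : ZMod r) ^ d ≠ 1 := fun h => by
      rw [hqd] at h
      have h' : ((2 : ℕ) : ZMod r) = 0 := by push_cast; linear_combination -h
      rw [ZMod.natCast_eq_zero_iff] at h'
      exact hr2 ((Nat.prime_dvd_prime_iff_eq hr Nat.prime_two).1 h')
    set o := orderOf (q : ZMod r) with ho
    have ho2 : o ∣ 2 * d := orderOf_dvd_of_pow_eq_one (by rw [mul_comm, pow_mul, hqd]; ring)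
    obtain ⟨i, hi⟩ : 2 ∣ o := by
      by_contra hodd'
      exact hone (orderOf_dvd_iff_pow_eq_one.1
        ((Nat.Coprime.dvd_mul_left ((Nat.prime_two.coprime_iff_not_dvd.2 hodd').symm)).1 ho2))
    have hid : i ∣ d := Nat.dvd_of_mul_dvd_mul_left two_pos (hi ▸ ho2)
    rcases lt_or_eq_of_le (Nat.le_of_dvd (by omega) hid) with hlt | rfl
    · refine hasBad_of_dvd h2 hQ (p := p) hr2 hdim (hdodd.of_dvd_nat hid) hlt ?_
      rw [← ZMod.natCast_eq_zero_iff, Nat.cast_sub (Nat.one_le_pow _ _ (by omega)), sub_eq_zero, Nat.cast_pow,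
        Nat.cast_one, ← hi, pow_orderOf_eq_one]
    · obtain ⟨Q₀, g₁, hnd, hg₁, hgr, hg1, hrk⟩ := exists_elliptic (F := F) p h2 hr2 (r := r) (i := i) hi (by omega)
      have hW : ¬ ∃ φ : (Fin (2 * i) → F) ≃ₗ[F] (Fin i ⊕ Fin i → F), ∀ v, OrthOrder.qPlus i F (φ v) = Q₀ v := by
        rintro ⟨φ, hφ⟩
        haveI : Finite ((Fin (2 * i) → F) ≃ₗ[F] (Fin (2 * i) → F)) := Finite.of_injective _ DFunLike.coe_injective
        have hdvd : r ∣ Nat.card (oGroup (OrthOrder.qPlus i F)) := by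
          rw [← OrthOrder.card_oGroup_congr φ hφ]
          have h : orderOf (⟨g₁, hg₁⟩ : oGroup Q₀) = r :=
            orderOf_eq_prime (Subtype.ext hgr) fun h => hg1 (congrArg Subtype.val h)
          exact h ▸ orderOf_dvd_natCard _
        obtain ⟨n, rfl⟩ : ∃ n, i = n + 1 := ⟨i - 1, by omega⟩
        rw [card_oGroup_qPlus, ← hqdef] at hdvd
        rcases hr.dvd_mul.1 hdvd with h | h
        · rcases hr.dvd_mul.1 h with h | h
          · rcases hr.dvd_mul.1 h with h | h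
            · exact hr2 ((Nat.prime_dvd_prime_iff_eq hr Nat.prime_two).1 h)
            · exact hrq (hr.dvd_of_dvd_pow h)
          · rw [← ZMod.natCast_eq_zero_iff, Nat.cast_sub (Nat.one_le_pow _ _ (by omega)), sub_eq_zero, Nat.cast_pow,
              Nat.cast_one] at h
            exact hone h
        · obtain ⟨l, hl, hl'⟩ := (Prime.dvd_finsetProd_iff hr.prime _).1 h
          rw [Finset.mem_range] at hl
          rw [← ZMod.natCast_eq_zero_iff, Nat.cast_sub (Nat.one_le_pow _ _ (by omega)), sub_eq_zero, Nat.cast_pow,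
            Nat.cast_one] at hl'
          have h' := Nat.le_of_dvd (by omega) (orderOf_dvd_of_pow_eq_one hl')
          rw [← ho, hi] at h'
          omega
      obtain ⟨φ, hφ⟩ := exists_iso_of_not h2 hnd hQ (qPlus_nondeg F i) (n := 2 * i) (finrank_fin_fun F)
        (by rw [finrank_fintype_fun_eq_card, hdim]) (by simp; omega) hW (hplus i rfl)
      obtain ⟨g, hg, hgr', hrk'⟩ := exists_ext hnd φ.toLinearMap hφ hg₁ hgr
      refine ⟨g, hg, hgr', ?_⟩
      rw [hrk', hrk]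
      obtain ⟨t, ht⟩ := hdodd
      omega

end Cfsg.Agent.S5978
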