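import Cfsg.Agent.Lib.TransvMax.SimTools
import Cfsg.Agent.Lib.TransvMax.TensorEl
import Cfsg.Agent.Lib.Elusive.InvolutionType
import Cfsg.Agent.Lib.Elusive.QuadraticExt
-- import your own Cfsg.Agent.* helpers here

set_option autoImplicit false
open scoped MatrixGroups
open Cfsg

namespace Cfsg.Agent.S5979

open Cfsg.Agent Cfsg.Agent.TensorEl Module
open scoped Matrix

variable {F : Type*} [Field F] [Fintype F] {n : ℕ}

/-- A diagonal element of `SL`. -/
theorem exists_diag (w : Fin n → F) (hw : ∏ i, w i = 1) :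
    ∃ x ∈ Cfsg.Geo.specialLinear (Fin n) F, ((x : GL (Fin n) F) : Matrix (Fin n) (Fin n) F) = Matrix.diagonal w := by
  have hd : (Matrix.diagonal w).det = 1 := by rw [Matrix.det_diagonal, hw]
  exact ⟨Matrix.GeneralLinearGroup.mkOfDetNeZero (Matrix.diagonal w) (by rw [hd]; exact one_ne_zero), Units.ext hd, rfl⟩

/-- A counterexample when the criterion fails. -/
theorem exists_bad {p : ℕ} [Fact p.Prime] [CharP F p] {a b : ℕ} (hab : n = a * b) (ha : 2 ≤ a) (hlt : a < b)
    (r : ℕ) [Fact r.Prime] (hrle : r ≠ p → orderOf (Fintype.card F : ZMod r) ≤ n)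
    (hno : ¬ (r = 2 ∧ a = 2 ∧ (2 : F) ≠ 0 ∧ padicValNat 2 (Fintype.card F - 1) ≤ padicValNat 2 n)) :
    ∃ x ∈ Cfsg.Geo.specialLinear (Fin n) F, (∃ z : F, ((x ^ r : GL (Fin n) F) : Matrix (Fin n) (Fin n) F) = z • 1) ∧
      (∀ z : F, (x : Matrix (Fin n) (Fin n) F) ≠ z • 1) ∧
      ∀ (e : Fin n ≃ Fin a × Fin b) (P g : GL (Fin n) F), g⁻¹ * x * g ∉ Cfsg.Geo.tensorProductSubgroup a b e P := by
  classical
  have hr := (Fact.out : r.Prime)
  obtain ⟨k, rfl⟩ : ∃ k, a = k + 1 := ⟨a - 1, by omega⟩
  have hn : n = k * b + b := by rw [hab, add_mul, one_mul]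
  have hkb : b ≤ k * b := Nat.le_mul_of_pos_left b (by omega)
  -- the final step
  have key : ∀ x : GL (Fin n) F, (∀ z : F, (x : Matrix (Fin n) (Fin n) F) ≠ z • 1) → ∀ (u v : F),
      k * b < finrank F (LinearMap.ker (Matrix.toLin' (x : Matrix (Fin n) (Fin n) F) - u • LinearMap.id)) →
      ¬ (k + 1) ∣ finrank F (LinearMap.ker (Matrix.toLin' (x : Matrix (Fin n) (Fin n) F) - v • LinearMap.id)) →
      ∀ (e : Fin n ≃ Fin (k + 1) × Fin b) (P g : GL (Fin n) F),
        g⁻¹ * x * g ∉ Cfsg.Geo.tensorProductSubgroup (k + 1) b e P := fun x _ u v hu hv e P g hg => by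
    rcases eigen_cases hg with h | ⟨B, hB, -⟩
    · have := h u
      rw [Nat.add_sub_cancel] at this
      omega
    · exact hv (Dvd.intro _ (hB v).symm)
  have hcount : ∀ (P : Fin n → Prop) [DecidablePred P] (T : Finset (Fin n)), (∀ i, P i ↔ i ∈ T) →
      (Finset.univ.filter P).card = T.card := fun P _ T h => by
    congr 1; ext i; simp [h]
  let i0 : Fin n := ⟨0, by omega⟩
  let i1 : Fin n := ⟨1, by omega⟩
  let i2 : Fin n := ⟨2, by omega⟩
  have h01 : i0 ≠ i1 := by simp [i0, i1]
  by_cases hrp : r = p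
  · subst hrp
    let x : GL (Fin n) F := Matrix.GeneralLinearGroup.mkOfDetNeZero (Matrix.transvection i0 i1 1)
      (by rw [Matrix.det_transvection_of_ne i0 i1 h01]; exact one_ne_zero)
    have hns : ∀ z : F, (x : Matrix (Fin n) (Fin n) F) ≠ z • 1 := fun z hz => by
      have := congrFun (congrFun hz i0) i1
      simp [x, Matrix.transvection, h01] at this
    have hk : ∀ k : ℕ, (Matrix.transvection i0 i1 (1 : F)) ^ k = Matrix.transvection i0 i1 (k : F) := by
      intro k
      induction k with
      | zero => rw [pow_zero, Nat.cast_zero, Matrix.transvection_zero]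
      | succ k ih =>
        rw [pow_succ, ih, Matrix.transvection_mul_transvection_same (i := i0) (j := i1) h01, Nat.cast_succ]
    have hker : LinearMap.ker (Matrix.toLin' (x : Matrix (Fin n) (Fin n) F) - (1 : F) • LinearMap.id) =
        LinearMap.ker (LinearMap.proj i1 : (Fin n → F) →ₗ[F] F) := by
      ext v
      simp [x, Matrix.transvection, Matrix.add_mulVec, Matrix.single_mulVec, funext_iff, Function.update_apply]
    have hd : finrank F (LinearMap.ker (LinearMap.proj i1 : (Fin n → F) →ₗ[F] F)) = n - 1 := by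
      have h := LinearMap.finrank_range_add_finrank_ker (LinearMap.proj i1 : (Fin n → F) →ₗ[F] F)
      rw [LinearMap.range_eq_top.2 (fun t => ⟨Pi.single i1 t, by simp⟩), finrank_top, finrank_self, finrank_fin_fun] at h
      omega
    refine ⟨x, Units.ext (Matrix.det_transvection_of_ne i0 i1 h01 1), ⟨1, ?_⟩, hns,
      key x hns 1 1 (by rw [hker, hd]; omega) (by
        rw [hker, hd]
        intro hdv
        have h1 : k + 1 ∣ n - (n - 1) := Nat.dvd_sub ⟨b, hab⟩ hdv
        have := Nat.le_of_dvd (by omega) h1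
        omega)⟩
    rw [Units.val_pow_eq_pow_val, one_smul]
    show (Matrix.transvection i0 i1 (1 : F)) ^ r = 1
    rw [hk, CharP.cast_eq_zero, Matrix.transvection_zero]
  have hrF := Elusive.natCast_prime_ne_zero (F := F) (p := p) hrp
  have ho := hrle hrp
  set o := orderOf (Fintype.card F : ZMod r) with hodef
  by_cases ho1 : o = 1
  · have hdvd := Elusive.orderOf_card_eq_one_iff.1 ho1
    obtain ⟨ω₀, hω₀⟩ := exists_prime_orderOf_dvd_card' (G := Fˣ) r (by
      rw [Nat.card_units, Nat.card_eq_fintype_card]; exact hdvd)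
    set ω : F := (ω₀ : F)
    have hω0 : ω ≠ 0 := ω₀.ne_zero
    have hωr : ω ^ r = 1 := by rw [← Units.val_pow_eq_pow_val, ← hω₀, pow_orderOf_eq_one, Units.val_one]
    have hω1 : ω ≠ 1 := fun e => hr.ne_one (hω₀ ▸ orderOf_eq_one_iff.2 (Units.ext e))
    have mk : ∀ w : Fin n → F, ∏ i, w i = 1 → (∀ i, w i ^ r = 1) → w i0 ≠ w i2 → ∀ u v : F,
        k * b < (Finset.univ.filter fun i => w i = u).card → ¬ (k + 1) ∣ (Finset.univ.filter fun i => w i = v).card →
        ∃ x ∈ Cfsg.Geo.specialLinear (Fin n) F, (∃ z : F, ((x ^ r : GL (Fin n) F) : Matrix (Fin n) (Fin n) F) = z • 1) ∧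
          (∀ z : F, (x : Matrix (Fin n) (Fin n) F) ≠ z • 1) ∧
          ∀ (e : Fin n ≃ Fin (k + 1) × Fin b) (P g : GL (Fin n) F),
            g⁻¹ * x * g ∉ Cfsg.Geo.tensorProductSubgroup (k + 1) b e P := by
      intro w hw hwr hne u v hu hv
      obtain ⟨x, hx, hxw⟩ := exists_diag w hw
      have hns : ∀ z : F, (x : Matrix (Fin n) (Fin n) F) ≠ z • 1 := fun z hz => by
        rw [hxw, Matrix.smul_one_eq_diagonal, Matrix.diagonal_eq_diagonal_iff] at hz
        exact hne ((hz i0).trans (hz i2).symm)
      refine ⟨x, hx, ⟨1, ?_⟩, hns, key x hns u v (by rwa [hxw, finrank_ker_diag]) (by rwa [hxw, finrank_ker_diag])⟩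
      rw [Units.val_pow_eq_pow_val, hxw, Matrix.diagonal_pow, one_smul, ← Matrix.diagonal_one]
      exact congrArg _ (funext hwr)
    by_cases hr2 : r = 2
    · subst hr2
      have h2 : (2 : F) ≠ 0 := by exact_mod_cast hrF
      have hωm : ω = -1 := by
        rcases sq_eq_sq_iff_eq_or_eq_neg.1 (show ω ^ 2 = 1 ^ 2 by rw [hωr, one_pow]) with h | h
        · exact absurd h hω1
        · exact h
      by_cases hk : k = 1
      · subst hk
        obtain ⟨x, μ, ⟨z, hz⟩, hns, hμ, -, hsq, h1⟩ := Elusive.exists_reflection_type (F := F) (n := n) (by omega)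
          (not_le.1 fun hle => hno ⟨rfl, rfl, h2, hle⟩)
        have hpow : (((Matrix.SpecialLinearGroup.toGL x) ^ 2 : GL (Fin n) F) : Matrix (Fin n) (Fin n) F) = z • 1 := by
          rw [← map_pow]; exact hz
        have hK : finrank F (LinearMap.ker (Matrix.toLin' (x : Matrix (Fin n) (Fin n) F) - μ • LinearMap.id)) + 1 = n := by
          rw [← h1]
          exact (Submodule.finrank_add_eq_of_isCompl (Elusive.isCompl_eigen h2 _ hμ hsq)).trans (finrank_fin_fun F)
        refine ⟨Matrix.SpecialLinearGroup.toGL x, Units.ext x.det_coe, ⟨z, hpow⟩, hns,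
          key (Matrix.SpecialLinearGroup.toGL x) hns μ (-μ) ?_ ?_⟩
        · rw [show finrank F (LinearMap.ker (Matrix.toLin' ((Matrix.SpecialLinearGroup.toGL x : GL (Fin n) F) :
            Matrix (Fin n) (Fin n) F) - μ • LinearMap.id)) = n - 1 from Nat.eq_sub_of_add_eq hK]
          omega
        · have h1' : finrank F (LinearMap.ker (Matrix.toLin' ((Matrix.SpecialLinearGroup.toGL x : GL (Fin n) F) :
            Matrix (Fin n) (Fin n) F) + μ • LinearMap.id)) = 1 := h1
          intro hdv
          have he : Matrix.toLin' ((Matrix.SpecialLinearGroup.toGL x : GL (Fin n) F) :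
            Matrix (Fin n) (Fin n) F) - (-μ) • LinearMap.id = Matrix.toLin' ((Matrix.SpecialLinearGroup.toGL x : GL (Fin n) F) :
            Matrix (Fin n) (Fin n) F) + μ • LinearMap.id := LinearMap.ext fun v => by simp
          have := Nat.le_of_dvd one_pos (h1' ▸ he ▸ hdv)
          omega
      · refine mk (fun i => if i = i0 ∨ i = i1 then ω else 1) ?_ (fun i => by split_ifs <;> simp [hωr])
          (by simp [i0, i1, i2, hω1]) 1 ω ?_ ?_
        · rw [Fintype.prod_eq_mul i0 i1 h01 (fun i hi => by simp [hi.1, hi.2])]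
          simp [hωm]
        · rw [hcount _ ({i0, i1}ᶜ : Finset (Fin n)) (fun i => by by_cases h : i = i0 <;> by_cases h' : i = i1 <;> simp [h, h', hω1, h01, h01.symm]),
            Finset.card_compl, Finset.card_pair h01, Fintype.card_fin]
          omega
        · rw [hcount _ ({i0, i1} : Finset (Fin n)) (fun i => by by_cases h : i = i0 <;> by_cases h' : i = i1 <;> simp [h, h', hω1.symm, h01, h01.symm]),
            Finset.card_pair h01]
          intro h
          have := Nat.le_of_dvd two_pos h
          omega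
    · have hr3 : 2 < r := by have := hr.two_le; omega
      have hne : ω⁻¹ ≠ ω := fun h => by
        have h2' : ω ^ 2 = 1 := by rw [pow_two]; nth_rewrite 1 [← h]; exact inv_mul_cancel₀ hω0
        have := Nat.le_of_dvd two_pos (hω₀ ▸ orderOf_dvd_of_pow_eq_one (Units.ext h2' : ω₀ ^ 2 = 1))
        omega
      refine mk (fun i => if i = i0 then ω else if i = i1 then ω⁻¹ else 1) ?_
        (fun i => by split_ifs <;> simp [hωr]) (by simp [i0, i1, i2, hω1]) 1 ω ?_ ?_
      · rw [Fintype.prod_eq_mul i0 i1 h01 (fun i hi => by simp [hi.1, hi.2])]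
        simp [h01.symm, hω0]
      · rw [hcount _ ({i0, i1}ᶜ : Finset (Fin n)) (fun i => by
          by_cases h : i = i0 <;> by_cases h' : i = i1 <;> simp [h, h', hω1, h01, h01.symm]),
          Finset.card_compl, Finset.card_pair h01, Fintype.card_fin]
        omega
      · rw [hcount _ ({i0} : Finset (Fin n)) (fun i => by
          by_cases h : i = i0 <;> by_cases h' : i = i1 <;> simp [h, h', hω1.symm, hne, h01, h01.symm]),
          Finset.card_singleton]
        intro h
        have := Nat.le_of_dvd one_pos h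
        omega
  -- elements with one block
  have ho2 : 2 ≤ o := by
    have := Elusive.orderOf_card_pos (F := F) (p := p) (r := r) hrp
    omega
  obtain ⟨x, hxr, hns, hfix⟩ := Elusive.exists_fixed_blocks (F := F) (n := n) hrp ho2 le_rfl (by rw [one_mul]; exact ho)
  have hpow : (((Matrix.SpecialLinearGroup.toGL x) ^ r : GL (Fin n) F) : Matrix (Fin n) (Fin n) F) = (1 : F) • 1 := by
    rw [← map_pow]; exact hxr
  refine ⟨Matrix.SpecialLinearGroup.toGL x, Units.ext x.det_coe, ⟨1, hpow⟩, hns, fun e P g hg => ?_⟩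
  set X : GL (Fin n) F := Matrix.SpecialLinearGroup.toGL x
  have hX1 : (X : Matrix (Fin n) (Fin n) F) ^ r = 1 := by rw [← Units.val_pow_eq_pow_val, hpow, one_smul]
  rw [one_mul] at hfix
  have hfx : finrank F (LinearMap.ker (Matrix.toLin' (X : Matrix (Fin n) (Fin n) F) - (1 : F) • LinearMap.id)) = n - o := by
    rw [← hfix, one_smul]; rfl
  obtain ⟨L, A, B, hAB⟩ := exists_sandwich hg
  have hmod : ∀ (m : ℕ) (C : Module.End F (Fin m → F)), C ^ r = 1 →
      m % o = finrank F (Elusive.fixedSpace C) % o := fun m C hC => by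
    have := Elusive.finrank_mod_orderOf hC hrF (X := ⊤) le_top
    rwa [top_inf_eq, finrank_top, finrank_fin_fun] at this
  have hfsle : ∀ (m : ℕ) (C : Module.End F (Fin m → F)), finrank F (Elusive.fixedSpace C) ≤ m := fun m C =>
    (Submodule.finrank_le _).trans (le_of_eq (finrank_fin_fun F))
  rcases eigen_cases hg with h | ⟨B', hB', hB'r⟩
  · -- the first factor is small
    by_cases hob : o < b
    · have := h 1
      rw [hfx, Nat.add_sub_cancel] at this
      omega
    -- then the first factor is scalar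
    have hk : ∀ (l : ℕ) Y, ((X : Matrix (Fin n) (Fin n) F) ^ l) *ᵥ L Y =
        L (sandwich ((A : Matrix (Fin (k + 1)) (Fin (k + 1)) F) ^ l) ((B : Matrix (Fin b) (Fin b) F) ^ l) Y) := by
      intro l
      induction l with
      | zero => intro Y; simp [sandwich_apply]
      | succ l ih =>
        intro Y
        rw [pow_succ' (X : Matrix (Fin n) (Fin n) F), ← Matrix.mulVec_mulVec, ih, hAB, ← sandwich_pow, ← sandwich_pow,
          ← Module.End.mul_apply, ← pow_succ']
    set Ar := (A : Matrix (Fin (k + 1)) (Fin (k + 1)) F) ^ r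
    set Br := (B : Matrix (Fin b) (Fin b) F) ^ r
    have hent : ∀ i j l m, Ar l i * Br m j = (if l = i then 1 else 0) * (if m = j then 1 else 0) := fun i j l m => by
      have h1 := hk r (Matrix.single i j 1)
      rw [hX1, Matrix.one_mulVec] at h1
      have h2 := congrFun (congrFun (L.injective h1) l) m
      rw [sandwich_apply] at h2
      simp [Matrix.mul_apply, Matrix.single_apply, ← Matrix.transpose_pow, ite_and] at h2
      show ((A : Matrix (Fin (k + 1)) (Fin (k + 1)) F) ^ r) l i * ((B : Matrix (Fin b) (Fin b) F) ^ r) m j = _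
      refine h2.symm.trans ?_
      simp only [eq_comm (a := i), eq_comm (a := j)]
      split_ifs <;> simp
    have hb0 : (⟨0, by omega⟩ : Fin b) = ⟨0, by omega⟩ := rfl
    obtain ⟨j₀, hj₀⟩ : ∃ j : Fin b, j = ⟨0, by omega⟩ := ⟨_, rfl⟩
    have hβ0 : Br j₀ j₀ ≠ 0 := fun e => by
      have h1 := hent 0 j₀ 0 j₀
      rw [e, mul_zero, if_pos rfl, if_pos rfl, one_mul] at h1
      exact zero_ne_one h1
    obtain ⟨γ, hγ⟩ := Elusive.exists_pow_eq_of_orderOf_ne_one ho1 (Br j₀ j₀)
    have hAr : (γ • (A : Matrix (Fin (k + 1)) (Fin (k + 1)) F)) ^ r = 1 := by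
      rw [smul_pow, hγ]
      refine Matrix.ext fun l i => ?_
      have h1 := hent i j₀ l j₀
      rw [if_pos rfl, mul_one] at h1
      rw [Matrix.smul_apply, smul_eq_mul, mul_comm, h1, Matrix.one_apply]
    set C : Module.End F (Fin (k + 1) → F) := Matrix.toLin' (γ • (A : Matrix (Fin (k + 1)) (Fin (k + 1)) F))
    have hC : C ^ r = 1 := by rw [← Matrix.toLin'_pow, hAr, Matrix.toLin'_one]; rfl
    have h3 := hmod _ C hC
    have h4 := hfsle _ C
    rw [Nat.mod_eq_of_lt (by omega : k + 1 < o), Nat.mod_eq_of_lt (by omega)] at h3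
    have h5 : Elusive.fixedSpace C = ⊤ := Submodule.eq_top_of_finrank_eq (by rw [finrank_fin_fun, ← h3])
    have hγ0 : γ ≠ 0 := fun e => hβ0 (by rw [← hγ, e, zero_pow hr.ne_zero])
    have hA1 : (A : Matrix (Fin (k + 1)) (Fin (k + 1)) F) = γ⁻¹ • 1 := by
      rw [eq_inv_smul_iff₀ hγ0]
      refine Matrix.toLin'.injective (LinearMap.ext fun v => ?_)
      rw [Matrix.toLin'_one]
      exact Elusive.mem_fixedSpace.1 (h5.symm ▸ Submodule.mem_top)
    -- a scalar first factor has divisible eigenspaces
    have hker := finrank_ker_of_intertwine L (f := sandwich (A : Matrix (Fin (k + 1)) (Fin (k + 1)) F)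
      (B : Matrix (Fin b) (Fin b) F)) (g := Matrix.toLin' (X : Matrix (Fin n) (Fin n) F))
      (fun Y => by rw [Matrix.toLin'_apply, hAB]) 1
    rw [hfx, hA1, finrank_ker_scalar] at hker
    have hBr : (γ⁻¹ • (B : Matrix (Fin b) (Fin b) F)) ^ r = 1 := by
      rw [smul_pow, inv_pow, hγ]
      refine Matrix.ext fun m j => ?_
      have h1 := hent 0 j 0 m
      have h2 : Ar 0 0 * Br j₀ j₀ = 1 := by rw [hent]; simp
      rw [if_pos rfl, one_mul] at h1
      rw [Matrix.smul_apply, smul_eq_mul, Matrix.one_apply, ← h1]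
      rw [show (Br j₀ j₀)⁻¹ = Ar 0 0 by rw [inv_eq_of_mul_eq_one_left h2]]
    set D : Module.End F (Fin b → F) := Matrix.toLin' (γ⁻¹ • (B : Matrix (Fin b) (Fin b) F))
    have h6 := hmod _ D (by rw [← Matrix.toLin'_pow, hBr, Matrix.toLin'_one]; rfl)
    have h7 := hfsle _ D
    have hD : finrank F (LinearMap.ker (D - (1 : F) • LinearMap.id)) = finrank F (Elusive.fixedSpace D) := by
      rw [one_smul]; rfl
    rw [hD] at hker
    obtain ⟨t, ht⟩ : o ∣ b - finrank F (Elusive.fixedSpace D) := (Nat.modEq_iff_dvd' h7).1 h6.symm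
    have h8 : (k + 1) * (b - finrank F (Elusive.fixedSpace D)) = o := by rw [Nat.mul_sub, ← hker, ← hab]; omega
    rw [ht] at h8
    rcases Nat.eq_zero_or_pos t with h9 | h9
    · subst h9; simp at h8; omega
    · have : 2 * o ≤ (k + 1) * (o * t) := Nat.mul_le_mul (by omega) (Nat.le_mul_of_pos_right o h9)
      omega
  · set D : Module.End F (Fin b → F) := Matrix.toLin' B'
    have hBr := hB'r r (by omega) hX1
    have h6 := hmod _ D (by rw [← Matrix.toLin'_pow, hBr, Matrix.toLin'_one]; rfl)
    have h7 := hfsle _ D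
    have hker := hB' 1
    have hD : finrank F (LinearMap.ker (D - (1 : F) • LinearMap.id)) = finrank F (Elusive.fixedSpace D) := by
      rw [one_smul]; rfl
    rw [hfx, hD] at hker
    obtain ⟨t, ht⟩ : o ∣ b - finrank F (Elusive.fixedSpace D) := (Nat.modEq_iff_dvd' h7).1 h6.symm
    have h8 : (k + 1) * (b - finrank F (Elusive.fixedSpace D)) = o := by rw [Nat.mul_sub, ← hker, ← hab]; omega
    rw [ht] at h8
    rcases Nat.eq_zero_or_pos t with h9 | h9
    · subst h9; simp at h8; omega
    · have : 2 * o ≤ (k + 1) * (o * t) := Nat.mul_le_mul (by omega) (Nat.le_mul_of_pos_right o h9)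
      omega

/-- All involutions when the criterion holds. -/
theorem exists_conj_two {b : ℕ} (h2 : (2 : F) ≠ 0) (hn : n = 2 * b) (hb : 0 < b)
    (hv : padicValNat 2 (Fintype.card F - 1) ≤ padicValNat 2 n) (e : Fin n ≃ Fin 2 × Fin b) (P : GL (Fin n) F)
    {x : GL (Fin n) F} (hx : x ∈ Cfsg.Geo.specialLinear (Fin n) F) {z : F}
    (hz : ((x ^ 2 : GL (Fin n) F) : Matrix (Fin n) (Fin n) F) = z • 1) :
    ∃ g ∈ Cfsg.Geo.specialLinear (Fin n) F, g⁻¹ * x * g ∈ Cfsg.Geo.tensorProductSubgroup 2 b e P := by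
  classical
  set A : Module.End F (Fin n → F) := Matrix.toLin' (x : Matrix (Fin n) (Fin n) F) with hAdef
  have hxd : (x : Matrix (Fin n) (Fin n) F).det = 1 := congrArg Units.val hx
  have hA : ∀ v, A (A v) = z • v := fun v => by
    rw [Units.val_pow_eq_pow_val, pow_two] at hz
    rw [hAdef, Matrix.toLin'_apply, Matrix.toLin'_apply, Matrix.mulVec_mulVec, hz, Matrix.smul_mulVec, Matrix.one_mulVec]
  have hz0 : z ≠ 0 := fun e => by
    haveI : Nonempty (Fin n) := ⟨⟨0, by omega⟩⟩
    rw [e, zero_smul, Units.val_pow_eq_pow_val] at hz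
    have h1 := congrArg Matrix.det hz
    rw [Matrix.det_pow, hxd, one_pow, Matrix.det_zero] at h1
    exact one_ne_zero h1
  set L := coord e P
  by_cases hs : ∃ l : F, l ^ 2 = z
  · obtain ⟨l, rfl⟩ := hs
    have hl : l ≠ 0 := fun h => hz0 (by rw [h, zero_pow two_ne_zero])
    set K₁ := LinearMap.ker (A - l • LinearMap.id)
    set K₂ := LinearMap.ker (A + l • LinearMap.id)
    have hC := Elusive.isCompl_eigen h2 A hl hA
    have hdet := Elusive.det_split h2 A hl hA
    rw [hAdef, LinearMap.det_toLin', hxd, finrank_fin_fun, ← hAdef] at hdet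
    have hsum : finrank F K₁ + finrank F K₂ = n :=
      (Submodule.finrank_add_eq_of_isCompl hC).trans (finrank_fin_fun F)
    obtain ⟨t, ht⟩ : Even (finrank F K₂) := by
      by_contra hodd
      rw [Nat.not_even_iff_odd] at hodd
      have := Elusive.lt_of_pow_eq_neg_one h2 (by omega : n ≠ 0) (l := l) (by
        rw [hodd.neg_one_pow] at hdet
        linear_combination hdet)
      omega
    let w : Fin b → F := fun j => if j.val < b - t then l else -l
    have hw0 : ∀ j, w j ≠ 0 := fun j => by simp only [w]; split_ifs <;> simp [hl]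
    obtain ⟨y, hy, hyX⟩ := exists_mem e P 1 (Matrix.GeneralLinearGroup.mkOfDetNeZero (Matrix.diagonal w)
      (by rw [Matrix.det_diagonal]; exact Finset.prod_ne_zero_iff.2 fun j _ => hw0 j))
    set T : Module.End F (Fin n → F) := Matrix.toLin' (y : Matrix (Fin n) (Fin n) F) with hTdef
    have hTX : ∀ X, T (L X) = L (sandwich ((1 : F) • (1 : Matrix (Fin 2) (Fin 2) F)) (Matrix.diagonal w) X) := fun X => by
      rw [hTdef, Matrix.toLin'_apply, hyX, one_smul]; rfl
    have hT : ∀ v, T (T v) = (l ^ 2) • v := fun v => by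
      obtain ⟨X, rfl⟩ := L.surjective v
      rw [hTX, hTX, ← map_smul, ← Module.End.mul_apply, ← pow_two, sandwich_pow, sandwich_apply]
      congr 1
      rw [one_smul, one_pow, Matrix.one_mul, Matrix.diagonal_pow, Matrix.diagonal_transpose]
      refine Matrix.ext fun i j => ?_
      rw [Matrix.mul_diagonal, Matrix.smul_apply, Pi.pow_apply, smul_eq_mul]
      simp only [w]
      split_ifs <;> ring
    have hkd : ∀ μ, finrank F (LinearMap.ker (T - μ • LinearMap.id)) =
        2 * (Finset.univ.filter fun j => w j = μ).card := fun μ => by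
      rw [finrank_ker_of_intertwine L hTX μ, finrank_ker_scalar, one_smul, finrank_ker_diag]
    have hne : -l ≠ l := fun h => h2 (by
      have : (2 : F) * l = 0 := by linear_combination -h
      exact (mul_eq_zero.1 this).resolve_right hl)
    have hf1 : (Finset.univ.filter fun j => w j = l).card = b - t := by
      rw [show (Finset.univ.filter fun j => w j = l) = Finset.univ.filter (fun j : Fin b => j.val < b - t) by
        ext j; simp only [w, Finset.mem_filter, Finset.mem_univ, true_and]; split_ifs with h <;> simp [h, hne],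
        Fin.card_filter_val_lt]
      omega
    have hf2 : (Finset.univ.filter fun j => w j = -l).card = t := by
      rw [show (Finset.univ.filter fun j => w j = -l) = (Finset.univ.filter (fun j : Fin b => j.val < b - t))ᶜ by
        ext j; simp only [w, Finset.mem_filter, Finset.mem_univ, true_and, Finset.mem_compl]
        split_ifs with h <;> simp [h, hne.symm],
        Finset.card_compl, Fin.card_filter_val_lt, Fintype.card_fin]
      omega
    have hC' := Elusive.isCompl_eigen h2 T hl hT
    have e1 : finrank F K₁ = finrank F (LinearMap.ker (T - l • LinearMap.id)) := by rw [hkd, hf1]; omega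
    have e2 : finrank F K₂ = finrank F (LinearMap.ker (T + l • LinearMap.id)) := by
      rw [show T + l • LinearMap.id = T - (-l) • LinearMap.id by ext v; simp, hkd, hf2]
      omega
    let φ : (Fin n → F) ≃ₗ[F] (Fin n → F) := (Submodule.prodEquivOfIsCompl _ _ hC).symm.trans
      (((LinearEquiv.ofFinrankEq _ _ e1).prodCongr (LinearEquiv.ofFinrankEq _ _ e2)).trans
        (Submodule.prodEquivOfIsCompl _ _ hC'))
    have hadj : SimEl.Adj x := SimEl.adj_of_eigen (by omega)
      ((((Module.finBasis F K₁).prod (Module.finBasis F K₂)).map (Submodule.prodEquivOfIsCompl K₁ K₂ hC)).reindex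
        ((finSumFinEquiv).trans (finCongr hsum)))
      (fun i => Sum.elim (fun _ => l) (fun _ => -l) (((finSumFinEquiv).trans (finCongr hsum)).symm i)) fun i => by
        rw [Basis.reindex_apply]
        rcases ((finSumFinEquiv).trans (finCongr hsum)).symm i with u | u
        · have h := (Module.finBasis F K₁ u).2
          simp only [K₁, LinearMap.mem_ker, LinearMap.sub_apply, LinearMap.smul_apply, LinearMap.id_apply,
            sub_eq_zero, A, Matrix.toLin'_apply] at h
          simpa [Basis.prod_apply] using h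
        · have h := (Module.finBasis F K₂ u).2
          simp only [K₂, LinearMap.mem_ker, LinearMap.add_apply, LinearMap.smul_apply, LinearMap.id_apply,
            ← eq_neg_iff_add_eq_zero, A, Matrix.toLin'_apply] at h
          simpa [Basis.prod_apply, neg_smul] using h
    obtain ⟨g, hg, hgx⟩ := SimEl.exists_conj hadj φ
    refine ⟨g, hg, ?_⟩
    rw [show g⁻¹ * x * g = y from TransvMax.gl_ext fun v => ?_]
    · exact hy
    obtain ⟨u, rfl⟩ := φ.surjective v
    rw [hgx, ← Matrix.toLin'_apply, ← Matrix.toLin'_apply, ← hAdef, ← hTdef]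
    obtain ⟨⟨u₁, u₂⟩, rfl⟩ := (Submodule.prodEquivOfIsCompl K₁ K₂ hC).surjective u
    have hu₁ : A u₁ = l • (u₁ : Fin n → F) := by
      exact sub_eq_zero.1 u₁.2
    have hu₂ : A u₂ = (-l) • (u₂ : Fin n → F) := by
      exact (eq_neg_of_add_eq_zero_left u₂.2).trans (neg_smul l (u₂ : Fin n → F)).symm
    have hv₁ : ∀ v : LinearMap.ker (T - l • LinearMap.id), T v = l • (v : Fin n → F) := fun v => by
      exact sub_eq_zero.1 v.2
    have hv₂ : ∀ v : LinearMap.ker (T + l • LinearMap.id), T v = (-l) • (v : Fin n → F) := fun v => by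
      exact (eq_neg_of_add_eq_zero_left v.2).trans (neg_smul l (v : Fin n → F)).symm
    have hφ1 : φ (u₁ : Fin n → F) = (LinearEquiv.ofFinrankEq _ _ e1 u₁ : LinearMap.ker (T - l • LinearMap.id)) := by
      simp [φ]
    have hφ2 : φ (u₂ : Fin n → F) = (LinearEquiv.ofFinrankEq _ _ e2 u₂ : LinearMap.ker (T + l • LinearMap.id)) := by
      simp [φ]
    rw [Submodule.coe_prodEquivOfIsCompl', map_add, hu₁, hu₂, map_add, map_smul, map_smul, map_add, hφ1, hφ2]
    rw [map_add, hv₁, hv₂]
  · push Not at hs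
    have hJd : (!![0, z; 1, 0] : Matrix (Fin 2) (Fin 2) F).det ≠ 0 := by simp [Matrix.det_fin_two_of, hz0]
    obtain ⟨y, hy, hyX⟩ := exists_mem e P (Matrix.GeneralLinearGroup.mkOfDetNeZero _ hJd) (1 : GL (Fin b) F)
    set T : Module.End F (Fin n → F) := Matrix.toLin' (y : Matrix (Fin n) (Fin n) F) with hTdef
    have hT : ∀ v, T (T v) = z • v := fun v => by
      obtain ⟨X, rfl⟩ := L.surjective v
      rw [hTdef, Matrix.toLin'_apply, Matrix.toLin'_apply, hyX, hyX, ← map_smul, ← Module.End.mul_apply, ← pow_two,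
        sandwich_pow, sandwich_apply, Units.val_one, one_pow, Matrix.transpose_one, Matrix.mul_one]
      congr 1
      show (!![0, z; 1, 0] : Matrix (Fin 2) (Fin 2) F) ^ 2 * X = z • X
      rw [show (!![0, z; 1, 0] : Matrix (Fin 2) (Fin 2) F) ^ 2 = z • 1 by
        ext i j; fin_cases i <;> fin_cases j <;> simp [pow_two], Matrix.smul_mul, Matrix.one_mul]
    obtain ⟨P₀, hP₀⟩ := Elusive.exists_conj_root hs (by omega : 0 < n) A T hA hT
    refine ⟨Matrix.SpecialLinearGroup.toGL P₀, Units.ext P₀.det_coe, ?_⟩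
    rw [show (Matrix.SpecialLinearGroup.toGL P₀)⁻¹ * x * Matrix.SpecialLinearGroup.toGL P₀ = y by
      rw [mul_assoc, inv_mul_eq_iff_eq_mul]
      refine TransvMax.gl_ext fun v => ?_
      simp only [Units.val_mul, ← Matrix.mulVec_mulVec]
      have := hP₀ v
      simp only [A, T, Matrix.toLin'_apply] at this
      exact this]
    exact hy

/-- Elements of prime order of PSL_n(q) and the stabilizers of tensor decompositions with factors of different dimensions. Here `T = PSL_n(F)` for a field `F` with `q` elements and `n = a·b` with `2 ≤ a < b`; a tensor decomposition `F^n ≅ F^a ⊗ F^b` is given by a bijection `e` of index sets and a change of basis `P`, and `H` is the subgroup of matrices of determinant 1 in its stabilizer (the conjugate by `P` of the group of Kronecker products `g₁ ⊗ g₂`) — a subgroup of type GL_a(q) ⊗ GL_b(q) (maximality is not assumed); Ω is the set of cosets of `H` in `T`, so an element of `T` of prime order `r` (a matrix `x` of determinant 1 with `x^r` scalar, `x` not scalar)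 fixes a point of Ω exactly when some conjugate of `x` by a matrix of determinant 1 lies in `H`. Let `r` be a prime dividing the index of `H`. Then every element of `T` of order `r` fixes a point of Ω if and only if `r = 2`, `a = 2`, `q` is odd and `(q − 1)_2 ≤ (n)_2` (2-parts). -/
theorem result {F : Type*} [Field F] [Fintype F] {p : ℕ} [Fact p.Prime] [CharP F p] {q : ℕ} (hq : Fintype.card F = q)
    (n a b : ℕ) (hab : n = a * b) (ha : 2 ≤ a) (hlt : a < b) (e : Fin n ≃ Fin a × Fin b) (P : GL (Fin n) F)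
    (r : ℕ) [Fact r.Prime]
    (hΩ : r ∣ (Cfsg.Geo.tensorProductSubgroup a b e P).relIndex (Cfsg.Geo.specialLinear (Fin n) F)) :
    (∀ x ∈ Cfsg.Geo.specialLinear (Fin n) F, (∃ z : F, ((x ^ r : GL (Fin n) F) : Matrix (Fin n) (Fin n) F) = z • (1 : Matrix (Fin n) (Fin n) F)) →
      (∀ z : F, (x : Matrix (Fin n) (Fin n) F) ≠ z • (1 : Matrix (Fin n) (Fin n) F)) →
      ∃ g ∈ Cfsg.Geo.specialLinear (Fin n) F, g⁻¹ * x * g ∈ Cfsg.Geo.tensorProductSubgroup a b e P) ↔
    (r = 2 ∧ a = 2 ∧ Odd q ∧ padicValNat 2 (q - 1) ≤ padicValNat 2 n) := by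
  subst hq
  have hn0 : 0 < n := by rw [hab]; exact Nat.mul_pos (by omega) (by omega)
  have hodd : Odd (Fintype.card F) ↔ (2 : F) ≠ 0 := by
    refine ⟨fun ho => Ring.two_ne_zero fun h => ?_, fun h2 => ?_⟩
    · have := FiniteField.even_card_of_char_two h
      rw [Nat.odd_iff] at ho
      omega
    · by_contra h
      rw [Nat.not_odd_iff] at h
      haveI := ringChar.of_eq (FiniteField.even_card_iff_char_two.2 h)
      exact h2 (CharP.cast_eq_zero F 2)
  have hr := (Fact.out : r.Prime)
  constructor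
  · intro hall
    by_contra hno
    obtain ⟨x, hx, hz, hns, hbad⟩ := exists_bad (p := p) hab ha hlt r (fun hrp => by
      have h1 : r ∣ Nat.card (Cfsg.Geo.specialLinear (Fin n) F) :=
        hΩ.trans (Subgroup.relIndex_dvd_card _ _)
      rw [show Nat.card (Cfsg.Geo.specialLinear (Fin n) F) = Nat.card (Matrix.SpecialLinearGroup (Fin n) F) from
        (Nat.card_congr (LinGrp.slEquivKerDet (n := Fin n) (F := F)).toEquiv).symm] at h1
      have h2 := h1.mul_left (Fintype.card F - 1)
      rw [LinGrp.natCard_SL_mul n hn0] at h2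
      obtain ⟨N, hN⟩ := SimEl.prod_GL (Fintype.card F) n
      rw [hN] at h2
      rcases hr.dvd_mul.1 h2 with e1 | e1
      · obtain ⟨f, -, hf⟩ := FiniteField.card F p
        rw [hf] at e1
        exact absurd ((Nat.prime_dvd_prime_iff_eq hr Fact.out).1 (hr.dvd_of_dvd_pow (hr.dvd_of_dvd_pow e1))) hrp
      · obtain ⟨i, hi, hri⟩ := (Prime.dvd_finsetProd_iff hr.prime _).1 e1
        refine le_trans (Nat.le_of_dvd (by omega) (orderOf_dvd_of_pow_eq_one (n := i + 1) ?_)) (Finset.mem_range.1 hi)
        rwa [← ZMod.natCast_eq_zero_iff, Nat.cast_sub (Nat.one_le_pow _ _ Fintype.card_pos), sub_eq_zero,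
          Nat.cast_pow, Nat.cast_one] at hri)
      (fun h => hno ⟨h.1, h.2.1, hodd.2 h.2.2.1, h.2.2.2⟩)
    obtain ⟨g, -, hg⟩ := hall x hx hz hns
    exact hbad e P g hg
  · rintro ⟨rfl, rfl, ho, hv⟩ x hx ⟨z, hz⟩ -
    exact exists_conj_two (hodd.1 ho) hab (by omega) hv e P hx hz

end Cfsg.Agent.S5979
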