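import Cfsg.Agent.Lib.TransvMax.SimOrth
import Cfsg.Agent.Lib.TransvMax.TensorEl
import Cfsg.Agent.Lib.TransvMax.TensorForms
import Cfsg.Agent.Lib.TransvMax.SpBridge
import Cfsg.Agent.Lib.Forms.SpInvol
import Cfsg.Agent.Lib.Elusive.SymplecticWitness
-- import your own Cfsg.Agent.* helpers here

set_option autoImplicit false
open scoped MatrixGroups
open Cfsg

namespace Cfsg.Agent.S5980

open Cfsg.Agent Cfsg.Agent.TensorEl Module
open scoped Matrix

variable {F : Type*} [Field F] {d a b : ℕ} {e : (Fin d ⊕ Fin d) ≃ Fin a × Fin b} {P : GL (Fin d ⊕ Fin d) F}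

theorem coord_vecMulVec (u : Fin a → F) (v : Fin b → F) :
    coord e P (Matrix.vecMulVec u v) = TensorSmall.tp e P u v := by
  rw [coord_apply]; rfl

theorem sandwich_vecMulVec (A : Matrix (Fin a) (Fin a) F) (B : Matrix (Fin b) (Fin b) F) (u : Fin a → F)
    (v : Fin b → F) : sandwich A B (Matrix.vecMulVec u v) = Matrix.vecMulVec (A *ᵥ u) (B *ᵥ v) := by
  rw [sandwich_apply, Matrix.mul_vecMulVec, Matrix.vecMulVec_mul, Matrix.vecMul_transpose]

theorem mulVec_tp {y : GL (Fin d ⊕ Fin d) F} {A : Matrix (Fin a) (Fin a) F} {B : Matrix (Fin b) (Fin b) F}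
    (h : ∀ X, (y : Matrix (Fin d ⊕ Fin d) (Fin d ⊕ Fin d) F) *ᵥ coord e P X = coord e P (sandwich A B X))
    (u : Fin a → F) (v : Fin b → F) :
    (y : Matrix (Fin d ⊕ Fin d) (Fin d ⊕ Fin d) F) *ᵥ TensorSmall.tp e P u v =
      TensorSmall.tp e P (A *ᵥ u) (B *ᵥ v) := by
  rw [← coord_vecMulVec, h, sandwich_vecMulVec, coord_vecMulVec]

/-- An element preserving the form on pure tensors is symplectic. -/
theorem mem_spGL_of_tp {y : GL (Fin d ⊕ Fin d) F}
    (h : ∀ u v u' v', FormsLib.spB d F ((y : Matrix (Fin d ⊕ Fin d) (Fin d ⊕ Fin d) F) *ᵥ TensorSmall.tp e P u v)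
      ((y : Matrix (Fin d ⊕ Fin d) (Fin d ⊕ Fin d) F) *ᵥ TensorSmall.tp e P u' v') =
      FormsLib.spB d F (TensorSmall.tp e P u v) (TensorSmall.tp e P u' v')) : y ∈ Cfsg.spGL d F := by
  rw [← TransvMax.glOf_linOf y, TransvMax.glOf_mem_spGL]
  let bas := (Matrix.stdBasis F (Fin a) (Fin b)).map (coord e P)
  have hbas : ∀ k, bas k = TensorSmall.tp e P (Pi.single k.1 1) (Pi.single k.2 1) := fun k => by
    rw [← coord_vecMulVec]
    simp [bas]
    rw [Matrix.stdBasis_eq_single, Matrix.single_eq_single_vecMulVec_single]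
  intro u v
  have hh : (FormsLib.spB d F).compl₁₂ (TransvMax.linOf y : _ →ₗ[F] _) (TransvMax.linOf y : _ →ₗ[F] _) =
      FormsLib.spB d F := LinearMap.ext_basis bas bas fun i j => by
    simp only [LinearMap.compl₁₂_apply, LinearEquiv.coe_coe, TransvMax.linOf_apply, hbas]
    exact h _ _ _ _
  exact congrArg (fun k : LinearMap.BilinForm F (Fin d ⊕ Fin d → F) => k u v) hh

theorem finrank_conj (x g : GL (Fin d ⊕ Fin d) F) (μ : F) :
    finrank F (LinearMap.ker (Matrix.toLin' ((g⁻¹ * x * g : GL (Fin d ⊕ Fin d) F) :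
        Matrix (Fin d ⊕ Fin d) (Fin d ⊕ Fin d) F) - μ • LinearMap.id)) =
      finrank F (LinearMap.ker (Matrix.toLin' (x : Matrix (Fin d ⊕ Fin d) (Fin d ⊕ Fin d) F) - μ • LinearMap.id)) := by
  refine finrank_ker_of_intertwine (TransvMax.linOf g⁻¹) (fun v => ?_) μ
  rw [Matrix.toLin'_apply, Matrix.toLin'_apply, TransvMax.linOf_apply, TransvMax.linOf_apply, Matrix.mulVec_mulVec,
    Matrix.mulVec_mulVec, ← Units.val_mul, ← Units.val_mul, mul_assoc (g⁻¹ * x), mul_inv_cancel, mul_one]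

variable {f₁ : (Fin a → F) → (Fin a → F) → F} {f₂ : (Fin b → F) → (Fin b → F) → F}

theorem exists_form_tp (hf₁ : Cfsg.Geo.IsSymplecticForm f₁) (hf₂ : Cfsg.Geo.IsSymmetricForm f₂)
    (hS : Cfsg.Geo.IsTensorFormStructure id (Cfsg.sympForm d F) f₁ f₂ e P) :
    ∃ c : F, c ≠ 0 ∧ ∀ u v u' v', FormsLib.spB d F (TensorSmall.tp e P u v) (TensorSmall.tp e P u' v') =
      c * (f₁ u u' * f₂ v v') := by
  obtain ⟨c, hc, h⟩ := TensorSmall.form_tp e P (fun _ _ => rfl) (TensorSmall.sesq_of_bilinear hf₁.bilinear)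
    (TensorSmall.sesq_of_bilinear hf₂.bilinear) hS
  exact ⟨c, hc, fun u v u' v' => by rw [← TransvMax.sympForm_eq_spB, h]⟩

theorem exists_pair {a : ℕ} (ha : 0 < a) {f : (Fin a → F) → (Fin a → F) → F}
    (hf : Cfsg.Geo.IsSymplecticForm f) : ∃ u u', f u u' ≠ 0 := by
  obtain ⟨x, hx⟩ := (hf.nondegenerate (Pi.single ⟨0, ha⟩ 1) (by simp)).1
  exact ⟨_, _, hx⟩

/-- The criterion suffices. -/
theorem exists_conj_two [Finite F] {e : (Fin d ⊕ Fin d) ≃ Fin 2 × Fin b} {f₁ : (Fin 2 → F) → (Fin 2 → F) → F}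
    (h2 : (2 : F) ≠ 0) (hd : d = b) (hb : 0 < b) (hf₁ : Cfsg.Geo.IsSymplecticForm f₁) (hf₂ : Cfsg.Geo.IsSymmetricForm f₂)
    (hS : Cfsg.Geo.IsTensorFormStructure id (Cfsg.sympForm d F) f₁ f₂ e P) {x : GL (Fin d ⊕ Fin d) F}
    (hx : x ∈ Cfsg.spGL d F) {z : F}
    (hz : ((x ^ 2 : GL (Fin d ⊕ Fin d) F) : Matrix (Fin d ⊕ Fin d) (Fin d ⊕ Fin d) F) = z • 1) :
    ∃ g ∈ Cfsg.spGL d F, g⁻¹ * x * g ∈ Cfsg.Geo.tensorProductSubgroup 2 b e P := by
  classical
  obtain ⟨c, hc, hform⟩ := exists_form_tp hf₁ hf₂ hS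
  obtain ⟨u₁, u₂, hu⟩ := exists_pair two_pos hf₁
  have hA := FormsLib.spB_alt (m := d) (F := F)
  have hB := FormsLib.spB_nondeg (m := d) (F := F)
  set g := TransvMax.linOf x
  have hgB : g ∈ FormsLib.isoGroup (FormsLib.spB d F) := TransvMax.glOf_mem_spGL.1 (by
    rw [TransvMax.glOf_linOf]; exact hx)
  have hgg : ∀ v, g (g v) = z • v := fun v => by
    rw [TransvMax.linOf_apply, TransvMax.linOf_apply, Matrix.mulVec_mulVec, ← Units.val_mul, ← pow_two, hz,
      Matrix.smul_mulVec, Matrix.one_mulVec]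
  have fin : ∀ y ∈ Cfsg.Geo.tensorProductSubgroup 2 b e P,
      (∃ k ∈ FormsLib.isoGroup (FormsLib.spB d F), k * g = TransvMax.linOf y * k) →
      ∃ g ∈ Cfsg.spGL d F, g⁻¹ * x * g ∈ Cfsg.Geo.tensorProductSubgroup 2 b e P := by
    rintro y hy ⟨k, hk, hky⟩
    refine ⟨(TransvMax.glOf k)⁻¹, inv_mem (TransvMax.glOf_mem_spGL.2 hk), ?_⟩
    have h := congrArg TransvMax.glOf hky
    rw [map_mul, map_mul, TransvMax.glOf_linOf, TransvMax.glOf_linOf] at h
    rw [inv_inv, h, mul_inv_cancel_right]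
    exact hy
  have hz2 : z = 1 ∨ z = -1 := by
    let i₀ : Fin d := ⟨0, by omega⟩
    have h1 := hgB (g (Pi.single (.inr i₀) 1)) (g (Pi.single (.inl i₀) 1))
    rw [hgg, hgg, hgB, map_smul, map_smul, LinearMap.smul_apply, smul_eq_mul, smul_eq_mul] at h1
    have h2 : FormsLib.spB d F (Pi.single (.inr i₀) 1) (Pi.single (.inl i₀) 1) = 1 := by
      simp [FormsLib.spB_expand, Pi.single_apply]
    rw [h2, mul_one] at h1
    exact mul_self_eq_one_iff.1 h1
  rcases hz2 with rfl | rfl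
  · simp only [one_smul] at hgg
    obtain ⟨s, t, ee, ff, hfr, hP, hN⟩ := FormsLib.exists_frame_sq_one hA hB h2 hgB hgg
    have hst : s + t = b := by
      have := hfr.finrank_eq hA
      simp [Module.finrank_fintype_fun_eq_card] at this
      omega
    obtain ⟨v, hv, ho, hv0⟩ := TensorSmall.exists_ortho h2 hf₂
    haveI : Nonempty (Fin b) := ⟨⟨0, hb⟩⟩
    let vb := basisOfLinearIndependentOfCardEqFinrank hv (by simp)
    have hvb : ∀ j, vb j = v j := fun j => by simp [vb]
    let E : Fin s ⊕ Fin t ≃ Fin b := finSumFinEquiv.trans (finCongr hst)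
    let w : Fin b → Fˣ := fun j => Sum.elim (fun _ => 1) (fun _ => -1) (E.symm j)
    let T := vb.equiv (vb.unitsSMul w) (Equiv.refl _)
    have hT : ∀ j, T (v j) = (w j : F) • v j := fun j => by
      rw [← hvb, Basis.equiv_apply]; exact Basis.unitsSMul_apply j
    obtain ⟨y, hy, hyX⟩ := exists_mem e P (1 : GL (Fin 2) F) (TransvMax.glOf T)
    have hyt : ∀ u j, TransvMax.linOf y (TensorSmall.tp e P u (v j)) = (w j : F) • TensorSmall.tp e P u (v j) := by
      intro u j
      rw [TransvMax.linOf_apply, mulVec_tp hyX, Units.val_one, Matrix.one_mulVec, TransvMax.glOf_mulVec, hT,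
        ← coord_vecMulVec, ← coord_vecMulVec, Matrix.vecMulVec_smul, map_smul]
    let κ : Fin b → F := fun j => (c * (f₁ u₁ u₂ * f₂ (v j) (v j)))⁻¹
    let ey : Fin s ⊕ Fin t → (Fin d ⊕ Fin d → F) := fun i => TensorSmall.tp e P u₁ (v (E i))
    let fy : Fin s ⊕ Fin t → (Fin d ⊕ Fin d → F) := fun i => κ (E i) • TensorSmall.tp e P u₂ (v (E i))
    have hef : ∀ i j, FormsLib.spB d F (ey i) (fy j) = if i = j then 1 else 0 := fun i j => by
      simp only [ey, fy, map_smul, hform, smul_eq_mul, κ]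
      split_ifs with h
      · rw [h]; exact inv_mul_cancel₀ (mul_ne_zero hc (mul_ne_zero hu (hv0 _)))
      · rw [ho _ _ (fun he => h (E.injective he))]; simp
    have hee : ∀ i j, FormsLib.spB d F (ey i) (ey j) = 0 := fun i j => by simp [ey, hform, hf₁.alternating]
    have hff : ∀ i j, FormsLib.spB d F (fy i) (fy j) = 0 := fun i j => by simp [fy, hform, hf₁.alternating]
    have hfr' : FormsLib.IsSFrame (FormsLib.spB d F) ey fy := ⟨hef, hee, hff, le_of_eq (Eq.symm
      ((FormsLib.sfamily_linearIndependent hA hef hee hff).span_eq_top_of_card_eq_finrank' (by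
        simp [Module.finrank_fintype_fun_eq_card]; omega)))⟩
    refine fin y hy (FormsLib.conj_of_frames hA hB hfr hP hN hfr' (fun i => ?_) (fun i => ?_) rfl)
    · simp only [ey, fy, map_smul, hyt, w, Equiv.symm_apply_apply, Sum.elim_inl, Units.val_one, one_smul,
        and_self]
    · simp only [ey, fy, map_smul, hyt, w, Equiv.symm_apply_apply, Sum.elim_inr, Units.val_neg, Units.val_one,
        neg_smul, one_smul, smul_neg, and_self]
  · simp only [neg_smul, one_smul] at hgg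
    let J : GL (Fin 2) F := Matrix.GeneralLinearGroup.mkOfDetNeZero !![0, 1; -1, 0] (by simp [Matrix.det_fin_two])
    have hJ : ∀ u : Fin 2 → F, (J : Matrix (Fin 2) (Fin 2) F) *ᵥ u = ![u 1, -u 0] := fun u => by
      show (!![0, 1; -1, 0] : Matrix (Fin 2) (Fin 2) F) *ᵥ u = _
      ext i; fin_cases i <;> simp [Matrix.mulVec, dotProduct, Fin.sum_univ_two]
    obtain ⟨y, hy, hyX⟩ := exists_mem e P J (1 : GL (Fin b) F)
    have hyt : ∀ u v, (y : Matrix (Fin d ⊕ Fin d) (Fin d ⊕ Fin d) F) *ᵥ TensorSmall.tp e P u v =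
        TensorSmall.tp e P ![u 1, -u 0] v := fun u v => by
      rw [mulVec_tp hyX, hJ, Units.val_one, Matrix.one_mulVec]
    have hdet : ∀ u u' : Fin 2 → F, f₁ u u' = (u 0 * u' 1 - u 1 * u' 0) * f₁ (Pi.single 0 1) (Pi.single 1 1) := by
      intro u u'
      conv_lhs => rw [pi_eq_sum_univ' u, pi_eq_sum_univ' u']
      simp only [Fin.sum_univ_two, hf₁.bilinear.add_left, hf₁.bilinear.add_right, hf₁.bilinear.smul_left,
        hf₁.bilinear.smul_right, hf₁.alternating, hf₁.skew (Pi.single 1 1) (Pi.single 0 1)]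
      ring
    have hyS : y ∈ Cfsg.spGL d F := mem_spGL_of_tp (e := e) (P := P) fun u v u' v' => by
      rw [hyt, hyt, hform, hform, hdet u u', hdet ![u 1, -u 0]]
      simp
      ring_nf
      tauto
    refine fin y hy (FormsLib.conj_of_sq_neg_one hA hB h2 hgB hgg (TransvMax.glOf_mem_spGL.1 (by
      rw [TransvMax.glOf_linOf]; exact hyS)) fun v => ?_)
    obtain ⟨X, rfl⟩ := (coord e P).surjective v
    rw [TransvMax.linOf_apply, TransvMax.linOf_apply, hyX, hyX, ← Module.End.mul_apply, ← pow_two, sandwich_pow,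
      sandwich_apply, Units.val_one, one_pow, Matrix.transpose_one, Matrix.mul_one, ← map_neg]
    congr 1
    show (!![0, 1; -1, 0] : Matrix (Fin 2) (Fin 2) F) ^ 2 * X = -X
    rw [show (!![0, 1; -1, 0] : Matrix (Fin 2) (Fin 2) F) ^ 2 = -1 by
      ext i j; fin_cases i <;> fin_cases j <;> simp [pow_two], Matrix.neg_mul, Matrix.one_mul]

theorem finrank_ker_one {V : Type*} [AddCommGroup V] [Module F V] (T : Module.End F V) :
    finrank F (LinearMap.ker (T - (1 : F) • LinearMap.id)) = finrank F (Elusive.fixedSpace T) := by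
  rw [one_smul]; rfl

/-- The symmetric bound. -/
theorem finrank_ker_swap (A : Matrix (Fin a) (Fin a) F) (B : Matrix (Fin b) (Fin b) F) (μ : F) :
    finrank F (LinearMap.ker (sandwich B A - μ • LinearMap.id)) =
      finrank F (LinearMap.ker (sandwich A B - μ • LinearMap.id)) :=
  finrank_ker_of_intertwine (Matrix.transposeLinearEquiv (Fin a) (Fin b) F F) (fun X => by
    simp [sandwich_apply, Matrix.transpose_mul, Matrix.mul_assoc]) μ

section Order

variable [Fintype F] {p : ℕ} [Fact p.Prime] [CharP F p] {r : ℕ} [Fact r.Prime]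

local notation "oq" => orderOf (Fintype.card F : ZMod r)

/-- A non-trivial first factor of order `r` leaves few fixed vectors. -/
theorem factor_cases (hrp : r ≠ p) {A : Matrix (Fin a) (Fin a) F} (hA : A ^ r = 1) (B : GL (Fin b) F) :
    A = 1 ∨ (oq ≤ a ∧ finrank F (LinearMap.ker (sandwich A (B : Matrix (Fin b) (Fin b) F) -
      (1 : F) • LinearMap.id)) ≤ (a - oq + 1) * b) := by
  classical
  set T : Module.End F (Fin a → F) := Matrix.toLin' Aᵀ with hTdef
  have hT : T ^ r = 1 := by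
    rw [hTdef, ← Matrix.toLin'_pow, ← Matrix.transpose_pow, hA, Matrix.transpose_one, Matrix.toLin'_one]; rfl
  by_cases hall : ∀ v, T v = v
  · refine Or.inl (Matrix.transpose_injective (Matrix.toLin'.injective ?_))
    rw [Matrix.transpose_one, Matrix.toLin'_one]
    exact LinearMap.ext hall
  push Not at hall
  obtain ⟨v, hv⟩ := hall
  let S := Submodule.span F (Set.range fun k : ℕ => (T ^ k) v)
  have hvS : v ∈ S := Submodule.subset_span ⟨0, by simp⟩
  have hSi : S.map T ≤ S := by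
    rw [Submodule.map_span_le]
    rintro _ ⟨k, rfl⟩
    exact Submodule.subset_span ⟨k + 1, by simp [pow_succ']⟩
  have hlt : finrank F ↥(S ⊓ Elusive.fixedSpace T) < finrank F S := by
    refine Submodule.finrank_lt_finrank_of_lt (lt_of_le_of_ne inf_le_left fun h => hv ?_)
    exact Elusive.mem_fixedSpace.1 (h.symm ▸ hvS : v ∈ S ⊓ Elusive.fixedSpace T).2
  have hmod := Elusive.finrank_mod_orderOf hT (Elusive.natCast_prime_ne_zero (F := F) (p := p) hrp) hSi
  have hoS : oq ≤ finrank F S := by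
    have := Nat.le_of_dvd (by omega) ((Nat.modEq_iff_dvd' hlt.le).1 hmod.symm)
    omega
  have hSa : finrank F S ≤ a := (Submodule.finrank_le _).trans (le_of_eq (finrank_fin_fun F))
  refine Or.inr ⟨hoS.trans hSa, ?_⟩
  obtain ⟨C, hC⟩ := S.exists_isCompl
  let W := C ⊔ Submodule.span F {v}
  have hW : finrank F W ≤ a - oq + 1 := by
    have h1 := Submodule.finrank_add_le_finrank_add_finrank C (Submodule.span F {v})
    have h3 := finrank_span_le_card (R := F) ({v} : Set (Fin a → F))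
    have h4 := (Submodule.finrank_add_eq_of_isCompl hC).trans (finrank_fin_fun F)
    simp at h3
    change finrank F ↥(C ⊔ Submodule.span F {v}) ≤ _
    omega
  set B' : Matrix (Fin b) (Fin b) F := (B : Matrix (Fin b) (Fin b) F) with hB'
  let K := LinearMap.ker (sandwich A B' - (1 : F) • LinearMap.id)
  let L : K →ₗ[F] (W →ₗ[F] (Fin b → F)) :=
    { toFun := fun X =>
        { toFun := fun w => (w : Fin a → F) ᵥ* (X : Matrix (Fin a) (Fin b) F)
          map_add' := fun w w' => Matrix.add_vecMul _ _ _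
          map_smul' := fun s w => Matrix.smul_vecMul _ _ _ }
      map_add' := fun X Y => LinearMap.ext fun w => by simp [Matrix.vecMul_add]
      map_smul' := fun s X => LinearMap.ext fun w => by simp [Matrix.vecMul_smul] }
  have hL : Function.Injective L := by
    rw [injective_iff_map_eq_zero]
    intro X hX
    let R : Submodule F (Fin a → F) := LinearMap.ker (Matrix.vecMulLinear (X : Matrix (Fin a) (Fin b) F))
    have hR : ∀ w, w ∈ R ↔ w ᵥ* (X : Matrix (Fin a) (Fin b) F) = 0 := fun w => Iff.rfl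
    have hWR : W ≤ R := fun w hw => (hR w).2 (LinearMap.congr_fun hX ⟨w, hw⟩)
    have hK : A * (X : Matrix (Fin a) (Fin b) F) * B'ᵀ = (X : Matrix (Fin a) (Fin b) F) := by
      have := sub_eq_zero.1 X.2
      simpa [sandwich_apply] using this
    have hstep : ∀ w ∈ R, T w ∈ R := fun w hw => by
      have h1 : ((T w) ᵥ* (X : Matrix (Fin a) (Fin b) F)) ᵥ* B'ᵀ = 0 := by
        rw [hTdef, Matrix.toLin'_apply, Matrix.mulVec_transpose, Matrix.vecMul_vecMul, Matrix.vecMul_vecMul,
          ← Matrix.mul_assoc, hK, (hR w).1 hw]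
      rw [Matrix.vecMul_transpose] at h1
      have h2 := congrArg (fun u => ((B⁻¹ : GL (Fin b) F) : Matrix (Fin b) (Fin b) F) *ᵥ u) h1
      exact (hR _).2 (by simpa [hB', Matrix.mulVec_mulVec] using h2)
    have hSR : S ≤ R := by
      refine Submodule.span_le.2 ?_
      rintro _ ⟨k, rfl⟩
      induction k with
      | zero => simpa using hWR (Submodule.mem_sup_right (Submodule.mem_span_singleton_self v))
      | succ k ih =>
        show (T ^ (k + 1)) v ∈ R
        rw [pow_succ', Module.End.mul_apply]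
        exact hstep _ ih
    have htop : R = ⊤ := top_unique (hC.sup_eq_top ▸ sup_le hSR (le_sup_left.trans hWR))
    refine Subtype.ext (Matrix.ext fun i j => ?_)
    have := (hR (Pi.single i 1)).1 (htop ▸ Submodule.mem_top)
    simpa using congrFun this j
  refine (LinearMap.finrank_le_finrank_of_injective hL).trans ?_
  rw [finrank_linearMap, finrank_fin_fun]
  exact Nat.mul_le_mul_right b hW

theorem factor_one (hrp : r ≠ p) {B : Matrix (Fin b) (Fin b) F} (hB : B ^ r = 1) :
    finrank F (LinearMap.ker (sandwich (1 : Matrix (Fin a) (Fin a) F) B - (1 : F) • LinearMap.id)) =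
      a * finrank F (Elusive.fixedSpace (Matrix.toLin' B)) ∧
    oq ∣ b - finrank F (Elusive.fixedSpace (Matrix.toLin' B)) ∧
    finrank F (Elusive.fixedSpace (Matrix.toLin' B)) ≤ b := by
  have hle : finrank F (Elusive.fixedSpace (Matrix.toLin' B)) ≤ b :=
    (Submodule.finrank_le _).trans (le_of_eq (finrank_fin_fun F))
  refine ⟨?_, ?_, hle⟩
  · rw [← finrank_ker_one, ← one_smul F (1 : Matrix (Fin a) (Fin a) F), finrank_ker_scalar, one_smul F B]
  · have h := Elusive.finrank_mod_orderOf (B := Matrix.toLin' B) (by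
      rw [← Matrix.toLin'_pow, hB, Matrix.toLin'_one]; rfl)
      (Elusive.natCast_prime_ne_zero (F := F) (p := p) hrp) (X := ⊤) le_top
    rw [top_inf_eq, finrank_top, finrank_fin_fun] at h
    exact (Nat.modEq_iff_dvd' hle).1 h.symm

/-- Elements of order `r` in the stabiliser have factors of order `r`. -/
theorem exists_normal (ha : 0 < a) (hb : 0 < b) (hi : oq ≠ 1) {y : GL (Fin d ⊕ Fin d) F}
    (hy : y ∈ Cfsg.Geo.tensorProductSubgroup a b e P) (hyr : y ^ r = 1) :
    ∃ (A : GL (Fin a) F) (B : GL (Fin b) F), (A : Matrix (Fin a) (Fin a) F) ^ r = 1 ∧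
      (B : Matrix (Fin b) (Fin b) F) ^ r = 1 ∧ ∀ X, (y : Matrix (Fin d ⊕ Fin d) (Fin d ⊕ Fin d) F) *ᵥ coord e P X =
        coord e P (sandwich (A : Matrix (Fin a) (Fin a) F) (B : Matrix (Fin b) (Fin b) F) X) := by
  classical
  obtain ⟨A, B, hAB⟩ := exists_of_mem hy
  have hk : ∀ (l : ℕ) X, ((y ^ l : GL (Fin d ⊕ Fin d) F) : Matrix (Fin d ⊕ Fin d) (Fin d ⊕ Fin d) F) *ᵥ coord e P X =
      coord e P ((sandwich (A : Matrix (Fin a) (Fin a) F) (B : Matrix (Fin b) (Fin b) F) ^ l) X) := by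
    intro l
    induction l with
    | zero => intro X; simp
    | succ l ih =>
      intro X
      rw [pow_succ', Units.val_mul, ← Matrix.mulVec_mulVec, ih, hAB, pow_succ', Module.End.mul_apply]
  set Ar := (A : Matrix (Fin a) (Fin a) F) ^ r with hAr
  set Br := (B : Matrix (Fin b) (Fin b) F) ^ r with hBr
  have hent : ∀ i j l m, Ar l i * Br m j = (if l = i then 1 else 0) * (if m = j then 1 else 0) := fun i j l m => by
    have h := hk r (Matrix.vecMulVec (Pi.single i 1) (Pi.single j 1))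
    rw [hyr, Units.val_one, Matrix.one_mulVec, sandwich_pow, sandwich_vecMulVec] at h
    have h1 := congrFun (congrFun ((coord e P).injective h) l) m
    simp [Matrix.vecMulVec_apply, Pi.single_apply] at h1
    simp only [hAr, hBr]
    rw [← h1]
    split_ifs <;> simp
  let i₀ : Fin a := ⟨0, ha⟩
  let j₀ : Fin b := ⟨0, hb⟩
  have h00 : Ar i₀ i₀ * Br j₀ j₀ = 1 := by rw [hent]; simp
  obtain ⟨γ, hγ⟩ := Elusive.exists_pow_eq_of_orderOf_ne_one hi (Br j₀ j₀)
  have hγ0 : γ ≠ 0 := fun h => by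
    rw [h, zero_pow (Fact.out : r.Prime).ne_zero] at hγ
    rw [← hγ, mul_zero] at h00
    exact zero_ne_one h00
  refine ⟨Units.mk0 γ hγ0 • A, (Units.mk0 γ hγ0)⁻¹ • B, ?_, ?_, fun X => ?_⟩
  · rw [Units.val_smul, Units.smul_def, Units.val_mk0, smul_pow, hγ]
    refine Matrix.ext fun l i => ?_
    have h := hent i j₀ l j₀
    rw [if_pos rfl, mul_one] at h
    rw [Matrix.smul_apply, smul_eq_mul, mul_comm, Matrix.one_apply]
    exact h
  · rw [Units.val_smul, Units.smul_def, Units.val_inv_eq_inv_val, Units.val_mk0, smul_pow, inv_pow, hγ]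
    refine Matrix.ext fun m j => ?_
    have h := hent i₀ j i₀ m
    rw [if_pos rfl, one_mul] at h
    rw [Matrix.smul_apply, smul_eq_mul, Matrix.one_apply, inv_eq_of_mul_eq_one_left h00]
    exact h
  · rw [hAB]
    congr 1
    simp [sandwich_apply, Units.smul_def, smul_smul, hγ0]

/-- Symplectic elements of order `r` with the smallest moved space avoid the stabiliser. -/
theorem not_mem_of_fixed (h2 : (2 : F) ≠ 0) (hrp : r ≠ p) (hab : 2 * d = a * b) (ha : Even a) (ha2 : 2 ≤ a)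
    (hb : 3 ≤ b) (hf₁ : Cfsg.Geo.IsSymplecticForm f₁) (hf₂ : Cfsg.Geo.IsSymmetricForm f₂)
    (hS : Cfsg.Geo.IsTensorFormStructure id (Cfsg.sympForm d F) f₁ f₂ e P) (ho : 2 ≤ oq) (hr : r ≠ 2)
    {c : ℕ} (hc : c = if Even oq then oq else 2 * oq) (hcd : c ≤ 2 * d) {y : GL (Fin d ⊕ Fin d) F}
    (hy : y ∈ Cfsg.spGL d F) (hyr : y ^ r = 1)
    (hfix : finrank F (LinearMap.ker (Matrix.toLin' (y : Matrix (Fin d ⊕ Fin d) (Fin d ⊕ Fin d) F) -
      (1 : F) • LinearMap.id)) = 2 * d - c) :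
    y ∉ Cfsg.Geo.tensorProductSubgroup a b e P := by
  intro hyH
  obtain ⟨A, B, hAr, hBr, hAB⟩ := exists_normal (e := e) (P := P) (by omega) (by omega) (by omega) hyH hyr
  rw [finrank_ker_of_intertwine (coord e P) (f := sandwich (A : Matrix (Fin a) (Fin a) F) (B : Matrix (Fin b) (Fin b) F))
    (fun X => by rw [Matrix.toLin'_apply, hAB]) 1, hab] at hfix
  rw [hab] at hcd
  obtain ⟨k, hk⟩ := ha
  rcases factor_cases (p := p) hrp hAr B with hA1 | ⟨hoa, hbd⟩
  · rw [hA1] at hfix
    obtain ⟨h1, ⟨t, ht⟩, hle⟩ := factor_one (p := p) (a := a) hrp hBr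
    set m := finrank F (Elusive.fixedSpace (Matrix.toLin' (B : Matrix (Fin b) (Fin b) F))) with hm
    rw [h1] at hfix
    have h4 : a * (b - m) = c := by rw [Nat.mul_sub]; omega
    rw [ht] at h4
    have ht0 : 0 < t := by
      rcases Nat.eq_zero_or_pos t with h | h
      · subst h; simp at h4; split_ifs at hc <;> omega
      · exact h
    have h5 : a * t ≤ 2 := by
      have : oq * (a * t) ≤ oq * 2 := by
        rw [show oq * (a * t) = a * (oq * t) by ring, h4, hc]; split_ifs <;> omega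
      exact Nat.le_of_mul_le_mul_left this (by omega)
    obtain ⟨rfl, rfl⟩ : a = 2 ∧ t = 1 := by
      have h6 : a * 1 ≤ a * t := Nat.mul_le_mul_left a ht0
      have h7 : 2 * t ≤ a * t := Nat.mul_le_mul_right t ha2
      omega
    rw [mul_one] at h4 ht
    have hodd : ¬ Even oq := fun h => by rw [if_pos h] at hc; omega
    -- the second factor is an isometry
    obtain ⟨c', hc', hform⟩ := exists_form_tp hf₁ hf₂ hS
    obtain ⟨u, u', hu⟩ := exists_pair two_pos hf₁
    have hiso : ∀ v v', f₂ ((B : Matrix (Fin b) (Fin b) F) *ᵥ v) ((B : Matrix (Fin b) (Fin b) F) *ᵥ v') = f₂ v v' := by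
      intro v v'
      have h := hy (TensorSmall.tp e P u v) (TensorSmall.tp e P u' v')
      simp only [TransvMax.sympForm_eq_spB] at h
      change FormsLib.spB d F ((y : Matrix (Fin d ⊕ Fin d) (Fin d ⊕ Fin d) F) *ᵥ _)
        ((y : Matrix (Fin d ⊕ Fin d) (Fin d ⊕ Fin d) F) *ᵥ _) = _ at h
      rw [mulVec_tp hAB, mulVec_tp hAB, hA1, Matrix.one_mulVec, Matrix.one_mulVec, hform, hform] at h
      exact mul_left_cancel₀ hu (mul_left_cancel₀ hc' h)
    let Bl : LinearMap.BilinForm F (Fin b → F) := LinearMap.mk₂ F f₂ hf₂.bilinear.add_left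
      hf₂.bilinear.smul_left hf₂.bilinear.add_right hf₂.bilinear.smul_right
    have hQ : (QuadraticMap.polarBilin Bl.toQuadraticMap).Nondegenerate := OrthOrder.nondegenerate_iff.2 fun v hv => by
      by_contra hv0
      obtain ⟨-, w, hw⟩ := hf₂.nondegenerate v hv0
      refine hw ((mul_eq_zero.1 (show (2 : F) * f₂ v w = 0 from ?_)).resolve_left h2)
      have h := hv w
      rw [LinearMap.BilinMap.polar_toQuadraticMap] at h
      simp [Bl, hf₂.symm w v] at h
      linear_combination h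
    have he := SimEl.even_moved (Q' := Bl.toQuadraticMap) hQ
      (T := Matrix.toLin' (B : Matrix (Fin b) (Fin b) F))
      (fun v => by simp [Bl, hiso]) ((Fact.out : r.Prime).odd_of_ne_two hr)
      (by rw [← Matrix.toLin'_pow, hBr, Matrix.toLin'_one]; rfl)
    rw [finrank_fin_fun, ← hm, ht] at he
    exact hodd he
  · rw [hfix] at hbd
    set o := oq with hodef
    have h3 : (a - o + 1) * b + (o - 1) * b = a * b := by rw [← add_mul]; congr 1; omega
    have h4 : (o - 1) * b ≤ c := by omega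
    have h5 : (o - 1) * 3 ≤ (o - 1) * b := Nat.mul_le_mul_left _ hb
    have h6 : ¬ Even o := fun h => by rw [if_pos h] at hc; omega
    rw [if_neg h6] at hc
    rw [Nat.not_even_iff] at h6
    have ho3 : o = 3 := by omega
    rw [ho3] at h4 hc hoa
    have hb3 : b = 3 := by omega
    subst hb3
    rw [← finrank_ker_swap] at hfix
    rcases factor_cases (p := p) hrp hBr A with hB1 | ⟨-, hbd'⟩
    · rw [hB1] at hfix
      obtain ⟨h1, ⟨t, ht⟩, hle⟩ := factor_one (p := p) (a := 3) hrp hAr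
      rw [h1] at hfix
      rw [← hodef, ho3] at ht
      omega
    · rw [hfix, ← hodef, ho3] at hbd'
      omega

end Order

/-- A diagonal symplectic element. -/
theorem exists_diag (w : Fin d ⊕ Fin d → F) (hw : ∀ i, w (.inl i) * w (.inr i) = 1) :
    ∃ x ∈ Cfsg.spGL d F, ((x : GL (Fin d ⊕ Fin d) F) : Matrix (Fin d ⊕ Fin d) (Fin d ⊕ Fin d) F) = Matrix.diagonal w := by
  classical
  refine ⟨Matrix.GeneralLinearGroup.mkOfDetNeZero (Matrix.diagonal w) ?_, fun u v => ?_, rfl⟩
  · rw [Matrix.det_diagonal]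
    exact Finset.prod_ne_zero_iff.2 fun i _ => by
      rcases i with i | i
      · exact left_ne_zero_of_mul_eq_one (hw i)
      · exact right_ne_zero_of_mul_eq_one (hw i)
  · show Cfsg.sympForm d F (Matrix.diagonal w *ᵥ u) (Matrix.diagonal w *ᵥ v) = Cfsg.sympForm d F u v
    simp only [TransvMax.sympForm_eq_spB, FormsLib.spB_expand, Matrix.mulVec_diagonal]
    exact Finset.sum_congr rfl fun i _ => by
      linear_combination (u (.inr i) * v (.inl i) - u (.inl i) * v (.inr i)) * hw i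

/-- A counterexample when the criterion fails. -/
theorem exists_bad [Fintype F] {p : ℕ} [Fact p.Prime] [CharP F p] (h2 : (2 : F) ≠ 0) (hab : 2 * d = a * b) (ha : Even a) (ha2 : 2 ≤ a) (hb : 3 ≤ b)
    (hf₁ : Cfsg.Geo.IsSymplecticForm f₁) (hf₂ : Cfsg.Geo.IsSymmetricForm f₂)
    (hS : Cfsg.Geo.IsTensorFormStructure id (Cfsg.sympForm d F) f₁ f₂ e P) (r : ℕ) [Fact r.Prime]
    (hdvd : r ∣ Nat.card (Cfsg.spGL d F)) (hno : ¬ (r = 2 ∧ a = 2)) :
    ∃ x ∈ Cfsg.spGL d F, (∃ z : F, ((x ^ r : GL (Fin d ⊕ Fin d) F) : Matrix (Fin d ⊕ Fin d) (Fin d ⊕ Fin d) F) = z • 1) ∧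
      (∀ z : F, (x : Matrix (Fin d ⊕ Fin d) (Fin d ⊕ Fin d) F) ≠ z • 1) ∧
      ∀ g ∈ Cfsg.spGL d F, g⁻¹ * x * g ∉ Cfsg.Geo.tensorProductSubgroup a b e P := by
  classical
  have hr := (Fact.out : r.Prime)
  have hd : 2 ≤ d := by
    have := Nat.mul_le_mul ha2 hb
    omega
  let i₀ : Fin d := ⟨0, by omega⟩
  let i₁ : Fin d := ⟨1, by omega⟩
  have hab1 : (a - 1) * b + b = a * b := by rw [← Nat.succ_mul]; congr 1; omega
  -- the final step
  have key : ∀ (x : GL (Fin d ⊕ Fin d) F) (u v : F),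
      (a - 1) * b < finrank F (LinearMap.ker (Matrix.toLin' (x : Matrix (Fin d ⊕ Fin d) (Fin d ⊕ Fin d) F) - u • LinearMap.id)) →
      ¬ a ∣ finrank F (LinearMap.ker (Matrix.toLin' (x : Matrix (Fin d ⊕ Fin d) (Fin d ⊕ Fin d) F) - v • LinearMap.id)) →
      ∀ g ∈ Cfsg.spGL d F, g⁻¹ * x * g ∉ Cfsg.Geo.tensorProductSubgroup a b e P := fun x u v hu hv g _ hg => by
    rcases eigen_cases hg with h | ⟨B, hB, -⟩
    · have := h u
      omega
    · exact hv (Dvd.intro _ (hB v).symm)
  by_cases hrp : r = p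
  · subst hrp
    let v₀ : Fin d ⊕ Fin d → F := Pi.single (.inl i₀) 1
    set t := FormsLib.tau (FormsLib.spB_alt (m := d) (F := F)) v₀ 1
    set x := TransvMax.glOf t
    have hxv : ∀ v, (x : Matrix (Fin d ⊕ Fin d) (Fin d ⊕ Fin d) F) *ᵥ v = v + FormsLib.spB d F v v₀ • v₀ := fun v => by
      rw [TransvMax.glOf_mulVec, FormsLib.tau_apply, one_mul]
    have hval : ∀ v, FormsLib.spB d F v v₀ = v (.inr i₀) := fun v => by
      simp [v₀, FormsLib.spB_expand, Pi.single_apply]
    have hker : LinearMap.ker (Matrix.toLin' (x : Matrix (Fin d ⊕ Fin d) (Fin d ⊕ Fin d) F) - (1 : F) • LinearMap.id) =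
        LinearMap.ker (LinearMap.proj (.inr i₀) : (Fin d ⊕ Fin d → F) →ₗ[F] F) := by
      ext v
      simp [hxv, hval, v₀]
    have hdim : finrank F (LinearMap.ker (LinearMap.proj (.inr i₀) : (Fin d ⊕ Fin d → F) →ₗ[F] F)) = 2 * d - 1 := by
      have h := LinearMap.finrank_range_add_finrank_ker (LinearMap.proj (.inr i₀) : (Fin d ⊕ Fin d → F) →ₗ[F] F)
      rw [LinearMap.range_eq_top.2 (fun s => ⟨Pi.single (.inr i₀) s, by simp⟩), finrank_top, finrank_self,
        Module.finrank_fintype_fun_eq_card, Fintype.card_sum, Fintype.card_fin] at h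
      omega
    refine ⟨x, TransvMax.glOf_mem_spGL.2 (FormsLib.tau_mem _ _ _), ⟨1, ?_⟩, fun z hz => ?_,
      key x 1 1 (by rw [hker, hdim]; omega) (by
        rw [hker, hdim]
        intro hdv
        have h1 : a ∣ 2 * d - (2 * d - 1) := Nat.dvd_sub ⟨b, hab⟩ hdv
        have := Nat.le_of_dvd (by omega) h1
        omega)⟩
    · have hk : ∀ k : ℕ, ∀ v, ((x ^ k : GL (Fin d ⊕ Fin d) F) : Matrix (Fin d ⊕ Fin d) (Fin d ⊕ Fin d) F) *ᵥ v =
          v + ((k : F) * FormsLib.spB d F v v₀) • v₀ := by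
        intro k
        induction k with
        | zero => intro v; simp
        | succ k ih =>
          intro v
          rw [pow_succ', Units.val_mul, ← Matrix.mulVec_mulVec, ih, hxv, map_add, map_smul, LinearMap.add_apply,
            LinearMap.smul_apply, FormsLib.spB_alt v₀, smul_zero, add_zero, add_assoc, ← add_smul, Nat.cast_succ, add_mul,
            one_mul]
      refine Matrix.toLin'.injective (LinearMap.ext fun v => ?_)
      rw [Matrix.toLin'_apply, hk, CharP.cast_eq_zero, zero_mul, zero_smul, add_zero, one_smul, Matrix.toLin'_one]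
      rfl
    · have h1 := congrArg (fun M => M *ᵥ Pi.single (.inr i₀) (1 : F)) hz
      simp only [hxv, Matrix.smul_mulVec, Matrix.one_mulVec] at h1
      have h3 := congrFun h1 (.inl i₀)
      rw [hval] at h3
      simp [v₀] at h3
  have hrF := Elusive.natCast_prime_ne_zero (F := F) (p := p) hrp
  by_cases ho1 : orderOf (Fintype.card F : ZMod r) = 1
  · obtain ⟨ω₀, hω₀⟩ := exists_prime_orderOf_dvd_card' (G := Fˣ) r (by
      rw [Nat.card_units, Nat.card_eq_fintype_card]; exact Elusive.orderOf_card_eq_one_iff.1 ho1)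
    set ω : F := (ω₀ : F)
    have hω0 : ω ≠ 0 := ω₀.ne_zero
    have hωr : ω ^ r = 1 := by rw [← Units.val_pow_eq_pow_val, ← hω₀, pow_orderOf_eq_one, Units.val_one]
    have hω1 : ω ≠ 1 := fun e => hr.ne_one (hω₀ ▸ orderOf_eq_one_iff.2 (Units.ext e))
    let w : Fin d ⊕ Fin d → F := Sum.elim (fun i => if i = i₀ then ω else 1) fun i => if i = i₀ then ω⁻¹ else 1
    have hpair : (Sum.inl i₀ : Fin d ⊕ Fin d) ≠ Sum.inr i₀ := Sum.inl_ne_inr
    obtain ⟨x, hx, hxw⟩ := exists_diag w (fun i => by simp only [w, Sum.elim_inl, Sum.elim_inr]; split_ifs <;> simp [hω0])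
    have hns : ∀ z : F, (x : Matrix (Fin d ⊕ Fin d) (Fin d ⊕ Fin d) F) ≠ z • 1 := fun z hz => by
      rw [hxw, Matrix.smul_one_eq_diagonal, Matrix.diagonal_eq_diagonal_iff] at hz
      have h := (hz (.inl i₀)).trans (hz (.inl i₁)).symm
      simp [w, i₀, i₁] at h
      exact hω1 h
    have hxr : ((x ^ r : GL (Fin d ⊕ Fin d) F) : Matrix (Fin d ⊕ Fin d) (Fin d ⊕ Fin d) F) = (1 : F) • 1 := by
      rw [Units.val_pow_eq_pow_val, hxw, Matrix.diagonal_pow, one_smul, ← Matrix.diagonal_one]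
      congr 1
      funext i
      rcases i with i | i <;> simp only [w, Pi.pow_apply, Sum.elim_inl, Sum.elim_inr] <;> split_ifs <;> simp [hωr]
    have hωi : ω⁻¹ ≠ 1 := fun h => hω1 (inv_eq_one.1 h)
    have hfix : (Finset.univ.filter fun i => w i = 1) = ({Sum.inl i₀, Sum.inr i₀}ᶜ : Finset (Fin d ⊕ Fin d)) := by
      ext i
      rcases i with i | i <;> by_cases h : i = i₀ <;> simp [w, h, hω1, hωi]
    have hcard : (Finset.univ.filter fun i => w i = 1).card = 2 * d - 2 := by
      rw [hfix, Finset.card_compl, Finset.card_pair hpair, Fintype.card_sum, Fintype.card_fin]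
      omega
    by_cases hr2 : r = 2
    · have ha4 : 4 ≤ a := by
        obtain ⟨k, hk⟩ := ha
        have : a ≠ 2 := fun h => hno ⟨hr2, h⟩
        omega
      refine ⟨x, hx, ⟨1, hxr⟩, hns, key x 1 1 (by rw [hxw, finrank_ker_diag, hcard]; omega) ?_⟩
      rw [hxw, finrank_ker_diag, hcard]
      intro hdv
      have h1 : a ∣ 2 * d - (2 * d - 2) := Nat.dvd_sub ⟨b, hab⟩ hdv
      have := Nat.le_of_dvd (by omega) h1
      omega
    · have hne : ω⁻¹ ≠ ω := fun h => by
        have h2' : ω ^ 2 = 1 := by rw [pow_two]; nth_rewrite 1 [← h]; exact inv_mul_cancel₀ hω0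
        have := Nat.le_of_dvd two_pos (hω₀ ▸ orderOf_dvd_of_pow_eq_one (Units.ext h2' : ω₀ ^ 2 = 1))
        have := hr.two_le
        omega
      refine ⟨x, hx, ⟨1, hxr⟩, hns, key x 1 ω (by rw [hxw, finrank_ker_diag, hcard]; omega) ?_⟩
      rw [hxw, finrank_ker_diag, show (Finset.univ.filter fun i => w i = ω) = {Sum.inl i₀} by
        ext i
        rcases i with i | i <;> by_cases h : i = i₀ <;> simp [w, h, hω1.symm, hne], Finset.card_singleton]
      intro h
      have := Nat.le_of_dvd one_pos h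
      omega
  have ho2 : 2 ≤ orderOf (Fintype.card F : ZMod r) := by
    have := Elusive.orderOf_card_pos (F := F) (p := p) (r := r) hrp
    omega
  have hr2 : r ≠ 2 := by
    intro h
    subst h
    have h1 : orderOf (Fintype.card F : ZMod 2) ∣ 2 - 1 :=
      orderOf_dvd_of_pow_eq_one (ZMod.pow_card_sub_one_eq_one (Elusive.card_cast_ne_zero (F := F) (p := p) hrp))
    have := Nat.le_of_dvd one_pos h1
    omega
  obtain ⟨c, hc⟩ : ∃ c, c = if Even (orderOf (Fintype.card F : ZMod r)) then orderOf (Fintype.card F : ZMod r)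
      else 2 * orderOf (Fintype.card F : ZMod r) := ⟨_, rfl⟩
  have hcd : c ≤ 2 * d := Elusive.SpWitness.c_le_of_dvd_card (F := F) (p := p) hr2 hrp hc (m := d) (by
    convert hdvd using 1
    exact Nat.card_congr
      { toFun := fun A => ⟨Units.map (Matrix.symplecticGroup (Fin d) F).subtype (toUnits A), fun u v => by
          show Cfsg.sympForm d F ((A : Matrix (Fin d ⊕ Fin d) (Fin d ⊕ Fin d) F) *ᵥ u)
            ((A : Matrix (Fin d ⊕ Fin d) (Fin d ⊕ Fin d) F) *ᵥ v) = _
          simp only [TransvMax.sympForm_eq_spB]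
          exact (FormsLib.mem_symplectic_iff _).1 A.2 u v⟩
        invFun := fun x => ⟨(x.1 : Matrix (Fin d ⊕ Fin d) (Fin d ⊕ Fin d) F), (FormsLib.mem_symplectic_iff _).2 fun u v => by
          simp only [← TransvMax.sympForm_eq_spB]
          exact x.2 u v⟩
        left_inv := fun A => rfl
        right_inv := fun x => Subtype.ext (Units.ext rfl) })
  obtain ⟨A, hAr, hfix⟩ := Elusive.SpWitness.exists_element (F := F) (p := p) hr2 hrp hc (m := d) (j := 1)
    (by rwa [one_mul])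
  set x : GL (Fin d ⊕ Fin d) F := Units.map (Matrix.symplecticGroup (Fin d) F).subtype (toUnits A)
  have hxA : (x : Matrix (Fin d ⊕ Fin d) (Fin d ⊕ Fin d) F) = (A : Matrix (Fin d ⊕ Fin d) (Fin d ⊕ Fin d) F) := rfl
  have hx : x ∈ Cfsg.spGL d F := fun u v => by
    show Cfsg.sympForm d F ((x : Matrix (Fin d ⊕ Fin d) (Fin d ⊕ Fin d) F) *ᵥ u)
      ((x : Matrix (Fin d ⊕ Fin d) (Fin d ⊕ Fin d) F) *ᵥ v) = _
    simp only [TransvMax.sympForm_eq_spB, hxA]
    exact (FormsLib.mem_symplectic_iff _).1 A.2 u v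
  have hxr : x ^ r = 1 := Units.ext (by rw [Units.val_pow_eq_pow_val, hxA, hAr, Units.val_one])
  rw [one_mul] at hfix
  have hfx : finrank F (LinearMap.ker (Matrix.toLin' (x : Matrix (Fin d ⊕ Fin d) (Fin d ⊕ Fin d) F) -
      (1 : F) • LinearMap.id)) = 2 * d - c := by rw [finrank_ker_one, hxA, hfix]
  have hc0 : 0 < c := by rw [hc]; split_ifs <;> omega
  refine ⟨x, hx, ⟨1, by rw [hxr, Units.val_one, one_smul]⟩, fun z hz => ?_, fun g hg hgH => ?_⟩
  · have h1 : (z ^ r) • (1 : Matrix (Fin d ⊕ Fin d) (Fin d ⊕ Fin d) F) = 1 := by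
      rw [← one_pow (M := Matrix (Fin d ⊕ Fin d) (Fin d ⊕ Fin d) F) r, ← smul_pow, one_pow, ← hz,
        ← Units.val_pow_eq_pow_val, hxr, Units.val_one]
    have h3 := congrFun (congrFun h1 (.inl i₀)) (.inl i₀)
    simp at h3
    rw [Elusive.eq_one_of_pow_eq_one ho1 h3, one_smul] at hz
    rw [hz, Matrix.toLin'_one, one_smul, sub_self, LinearMap.ker_zero, finrank_top,
      Module.finrank_fintype_fun_eq_card, Fintype.card_sum, Fintype.card_fin] at hfx
    omega
  · have hyr : (g⁻¹ * x * g) ^ r = 1 := by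
      have := conj_pow (a := g⁻¹) (b := x) (i := r)
      rw [inv_inv] at this
      rw [this, hxr, mul_one, inv_mul_cancel]
    exact not_mem_of_fixed (p := p) h2 hrp hab ha ha2 hb hf₁ hf₂ hS ho2 hr2 hc hcd
      (mul_mem (mul_mem (inv_mem hg) hx) hg) hyr (by rw [finrank_conj, hfx]) hgH

/-- Elements of prime order of PSp_n(q), q odd, and the stabilizers of tensor decompositions Sp_a(q) ⊗ O_b(q). Here `T = PSp_{2d}(F)` for a field `F` with `q` elements, `q` odd, `d ≥ 2`, realised through the matrices preserving the standard alternating form `f`; `2d = a·b` with `a` even, `b ≥ 3`, and the bijection `e` and change of basis `P` exhibit `f` as a non-zero scalar multiple of the tensor product of a non-degenerate alternating form `f₁` on `F^a` and a non-degenerate symmetric bilinear form `f₂` on `F^b`; `H` is the subgroup of `T` stabilizing this tensor decomposition (the elements of `T` in the conjugate by `P` of the group of Kronecker products) — a subgroup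 of type Sp_a(q) ⊗ O^ε_b(q) (maximality is not assumed). Ω is the set of cosets of `H` in `T`, so an element of `T` of prime order `r` (`x ∈ T` with `x^r` scalar, `x` not scalar) fixes a point of Ω exactly when some `T`-conjugate of `x` lies in `H`. Let `r` be a prime dividing the index of `H`. Then every element of `T` of order `r` fixes a point of Ω if and only if `r = 2` and `a = 2`. -/
theorem result {F : Type*} [Field F] [Fintype F] {p : ℕ} [Fact p.Prime] [CharP F p] {q : ℕ} (hq : Fintype.card F = q)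
    (hodd : Odd q) (d : ℕ) (hd : 2 ≤ d) (a b : ℕ) (hab : 2 * d = a * b) (ha : Even a) (ha2 : 2 ≤ a) (hb : 3 ≤ b)
    (e : (Fin d ⊕ Fin d) ≃ Fin a × Fin b) (P : GL (Fin d ⊕ Fin d) F)
    (f₁ : (Fin a → F) → (Fin a → F) → F) (f₂ : (Fin b → F) → (Fin b → F) → F)
    (hf₁ : Cfsg.Geo.IsSymplecticForm f₁) (hf₂ : Cfsg.Geo.IsSymmetricForm f₂)
    (hS : Cfsg.Geo.IsTensorFormStructure id (Cfsg.sympForm d F) f₁ f₂ e P)
    (r : ℕ) [Fact r.Prime]
    (hΩ : r ∣ (Cfsg.Geo.tensorProductSubgroup a b e P).relIndex (Cfsg.spGL d F)) :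
    (∀ x ∈ Cfsg.spGL d F, (∃ z : F, ((x ^ r : GL (Fin d ⊕ Fin d) F) : Matrix (Fin d ⊕ Fin d) (Fin d ⊕ Fin d) F) = z • (1 : Matrix (Fin d ⊕ Fin d) (Fin d ⊕ Fin d) F)) →
      (∀ z : F, (x : Matrix (Fin d ⊕ Fin d) (Fin d ⊕ Fin d) F) ≠ z • (1 : Matrix (Fin d ⊕ Fin d) (Fin d ⊕ Fin d) F)) →
      ∃ g ∈ Cfsg.spGL d F, g⁻¹ * x * g ∈ Cfsg.Geo.tensorProductSubgroup a b e P) ↔ (r = 2 ∧ a = 2) := by
  subst hq
  have h2 : (2 : F) ≠ 0 := Ring.two_ne_zero fun h => by
    have := FiniteField.even_card_of_char_two h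
    rw [Nat.odd_iff] at hodd
    omega
  constructor
  · intro hall
    by_contra hno
    obtain ⟨x, hx, hz, hns, hbad⟩ := exists_bad (p := p) h2 hab ha ha2 hb hf₁ hf₂ hS r
      (hΩ.trans (Subgroup.relIndex_dvd_card _ _)) hno
    obtain ⟨g, hg, hgH⟩ := hall x hx hz hns
    exact hbad g hg hgH
  · rintro ⟨rfl, rfl⟩ x hx ⟨z, hz⟩ -
    exact exists_conj_two h2 (by omega) (by omega) hf₁ hf₂ hS hx hz

end Cfsg.Agent.S5980
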