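import Cfsg.Agent.Lib.TransvMax.SimOrth
-- import your own Cfsg.Agent.* helpers here

set_option autoImplicit false
open scoped MatrixGroups
open Cfsg

namespace Cfsg.Agent.S5981

open Cfsg.Agent Cfsg.Agent.FormsLib Cfsg.Agent.SimEl Module QuadraticMap
open scoped Matrix

variable {F : Type*} [Field F] [Fintype F] {n : ℕ}

/-- A transvection is no element of a similitude group. -/
theorem no_transvection (h2 : (2 : F) ≠ 0) {p : ℕ} [Fact p.Prime] [CharP F p] (hn : 3 ≤ n)
    {Q : QuadraticForm F (Fin n → F)} (hQ : (polarBilin Q).Nondegenerate) :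
    ∃ x ∈ Cfsg.Geo.specialLinear (Fin n) F, (∃ z : F, ((x ^ p : GL (Fin n) F) : Matrix (Fin n) (Fin n) F) = z • 1) ∧
      (∀ z : F, (x : Matrix (Fin n) (Fin n) F) ≠ z • 1) ∧
      ∀ g : GL (Fin n) F, g⁻¹ * x * g ∉ Cfsg.Geo.quadSimilarityGroup ⇑Q := by
  classical
  let i0 : Fin n := ⟨0, by omega⟩
  let i1 : Fin n := ⟨1, by omega⟩
  have hne : i0 ≠ i1 := by simp [i0, i1]
  let x : GL (Fin n) F := Matrix.GeneralLinearGroup.mkOfDetNeZero (Matrix.transvection i0 i1 1)
    (by rw [Matrix.det_transvection_of_ne i0 i1 hne]; exact one_ne_zero)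
  have hxp : (Matrix.transvection i0 i1 (1 : F)) ^ p = 1 := by
    have hk : ∀ k : ℕ, (Matrix.transvection i0 i1 (1 : F)) ^ k = Matrix.transvection i0 i1 (k : F) := by
      intro k
      induction k with
      | zero => rw [pow_zero, Nat.cast_zero, Matrix.transvection_zero]
      | succ k ih =>
        rw [pow_succ, ih, Matrix.transvection_mul_transvection_same (i := i0) (j := i1) hne, Nat.cast_succ]
    rw [hk, CharP.cast_eq_zero, Matrix.transvection_zero]
  refine ⟨x, Units.ext (Matrix.det_transvection_of_ne i0 i1 hne 1), ⟨1, ?_⟩, fun z hz => ?_, fun g hg => ?_⟩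
  · rw [Units.val_pow_eq_pow_val, one_smul]; exact hxp
  · have := congrFun (congrFun hz i0) i1
    simp [x, Matrix.transvection, hne] at this
  · obtain ⟨Q', c, hc0, hQ', hinv, -⟩ := exists_inv_form hQ hg
    have hcp := mult_pow h2 hQ' (by omega) hinv (r := p) hxp
    have hc1 : c = 1 := frobenius_inj F p (show frobenius F p c = frobenius F p 1 by
      rw [map_one, frobenius_def, hcp])
    set w : Fin n → F := Pi.single i0 1
    have hxv : ∀ v : Fin n → F, (x : Matrix (Fin n) (Fin n) F) *ᵥ v = v + v i1 • w := fun v => by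
      funext j
      simp [x, w, Matrix.transvection, Matrix.add_mulVec, Matrix.single_mulVec, Function.update_apply,
        Pi.single_apply]
    have hkey : ∀ u : Fin n → F, u i1 * polar Q' u w + u i1 * u i1 * Q' w = 0 := fun u => by
      have h := hinv u
      rw [hxv, hc1, one_mul, quad_add, QuadraticMap.map_smul, polar_smul_right, smul_eq_mul, smul_eq_mul] at h
      linear_combination h
    have hw0 : polar Q' (Pi.single i1 1) w + Q' w = 0 := by
      simpa using hkey (Pi.single i1 1)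
    have hww : Q' w = 0 := by
      have h := hkey (Pi.single i1 1 + w)
      rw [polar_add_left, polar_self'] at h
      simp [w, hne.symm] at h
      have : (2 : F) * Q' w = 0 := by linear_combination h - hw0
      exact (mul_eq_zero.1 this).resolve_left h2
    rw [hww, add_zero] at hw0
    have hall : ∀ u, polar Q' w u = 0 := fun u => by
      rw [polar_comm]
      by_cases hu : u i1 = 0
      · have h := hkey (u + Pi.single i1 1)
        simp [hu, hww, polar_add_left, hw0] at h
        exact h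
      · have h := hkey u
        rw [hww, mul_zero, add_zero] at h
        exact (mul_eq_zero.1 h).resolve_left hu
    have := congrFun ((OrthOrder.nondegenerate_iff.1 hQ') w hall) i0
    simp [w] at this

/-- Three consequences of `r` dividing the index. -/
theorem index_cases (h2 : (2 : F) ≠ 0) {Q : QuadraticForm F (Fin n → F)} (hQ : (polarBilin Q).Nondegenerate)
    (hn : 3 ≤ n) {r : ℕ} [Fact r.Prime] (hr2 : r ≠ 2) (hrq : ¬ r ∣ Fintype.card F)
    (hΩ : r ∣ (Cfsg.Geo.quadSimilarityGroup ⇑Q).relIndex (Cfsg.Geo.specialLinear (Fin n) F)) :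
    (∃ i, 1 ≤ i ∧ 2 * i + 1 ≤ n ∧ r ∣ Fintype.card F ^ (2 * i + 1) - 1) ∨
      ∃ k, 1 ≤ k ∧ n = 2 * (k + 1) ∧ r ∣ Fintype.card F ^ (2 * (k + 1)) - 1 ∧
        (orderOf (Fintype.card F : ZMod r) ≠ 1 → ¬ r ∣ Nat.card {v // Q v = 0} - 1) := by
  classical
  have hr := (Fact.out : r.Prime)
  set q := Fintype.card F with hqdef
  have hq1 : 1 < q := Fintype.one_lt_card
  have hd := dvd_of_index h2 hQ (by omega) hΩ
  obtain ⟨N, hN⟩ := prod_GL q n
  rw [hN] at hd
  set f : ℕ → ℕ := fun i => q ^ (i + 1) - 1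
  have hev : ∀ j, f (2 * j + 1) = q ^ (2 * (j + 1)) - 1 := fun j => by simp only [f]; ring_nf
  have hpos : ∀ h, 0 < (q - 1) * ∏ i ∈ Finset.range h, (q ^ (2 * (i + 1)) - 1) := fun h =>
    Nat.mul_pos (by omega) (Finset.prod_pos fun i _ => by
      have : 1 < q ^ (2 * (i + 1)) := Nat.one_lt_pow (by omega) hq1
      omega)
  -- the conclusion from a product
  have hfin : ∀ (h R : ℕ), (∀ i, i < h → 2 * (i + 1) + 1 ≤ n) →
      r ∣ q ^ N * ((∏ i ∈ Finset.range h, f (2 * (i + 1))) * R) →
      (∃ i, 1 ≤ i ∧ 2 * i + 1 ≤ n ∧ r ∣ q ^ (2 * i + 1) - 1) ∨ r ∣ R := fun h R hle hh => by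
    rcases hr.dvd_mul.1 ((hr.dvd_mul.1 hh).resolve_left fun e => hrq (hr.dvd_of_dvd_pow e)) with e | e
    · obtain ⟨i, hi, hi'⟩ := (Prime.dvd_finsetProd_iff hr.prime _).1 e
      exact Or.inl ⟨i + 1, by omega, hle i (Finset.mem_range.1 hi), hi'⟩
    · exact Or.inr e
  rcases Nat.even_or_odd n with ⟨k', hk'⟩ | ⟨h, hh⟩
  · obtain ⟨k, rfl⟩ : ∃ k, k' = k + 1 := ⟨k' - 1, by omega⟩
    have hp : ∀ E, Nat.card (oGroup Q) = 2 * q ^ ((k + 1) * k) * E * ∏ i ∈ Finset.range k, (q ^ (2 * (i + 1)) - 1) →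
        ∀ E', E * E' = q ^ (2 * (k + 1)) - 1 → 0 < E →
          (∃ i, 1 ≤ i ∧ 2 * i + 1 ≤ n ∧ r ∣ q ^ (2 * i + 1) - 1) ∨ r ∣ E' := by
      intro E hE E' hEE hEpos
      rw [hE, show n = 2 * (k + 1) by omega, prod_range_double f, Finset.prod_range_succ' (fun j => f (2 * j)),
        Finset.prod_range_succ (fun j => f (2 * j + 1)), Finset.prod_congr rfl (fun j _ => hev j), hev, ← hEE] at hd
      refine hfin k E' (fun i hi => by omega) ?_
      have h' : (r * q ^ ((k + 1) * k)) * (2 * (E * ((q - 1) * ∏ i ∈ Finset.range k, (q ^ (2 * (i + 1)) - 1)))) ∣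
          (q ^ N * ((∏ i ∈ Finset.range k, f (2 * (i + 1))) * E')) *
            (2 * (E * ((q - 1) * ∏ i ∈ Finset.range k, (q ^ (2 * (i + 1)) - 1)))) := by
        convert hd using 1
        · ring
        · simp only [f, mul_zero, zero_add, pow_one]; ring
      exact (Dvd.intro _ rfl).trans (Nat.dvd_of_mul_dvd_mul_right (Nat.mul_pos two_pos (Nat.mul_pos hEpos (hpos k))) h')
    have hfac : (q ^ (k + 1) - 1) * (q ^ (k + 1) + 1) = q ^ (2 * (k + 1)) - 1 := by
      rw [mul_comm 2 (k + 1), pow_mul, mul_comm, ← Nat.sq_sub_sq, one_pow]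
    have hp1 : 1 < q ^ (k + 1) := Nat.one_lt_pow (by omega) hq1
    have hrd : ∀ E', r ∣ E' → (E' ∣ q ^ (2 * (k + 1)) - 1) → r ∣ q ^ (2 * (k + 1)) - 1 := fun E' a b => a.trans b
    have hcast : ∀ m, r ∣ q ^ m - 1 → ((q : ZMod r)) ^ m = 1 := fun m hm => by
      rwa [← ZMod.natCast_eq_zero_iff, Nat.cast_sub (Nat.one_le_pow _ _ (by omega)), sub_eq_zero, Nat.cast_pow,
        Nat.cast_one] at hm
    have hcast' : ∀ m, r ∣ q ^ m + 1 → ((q : ZMod r)) ^ m = -1 := fun m hm => by
      rwa [← ZMod.natCast_eq_zero_iff, Nat.cast_add, add_eq_zero_iff_eq_neg, Nat.cast_pow, Nat.cast_one] at hm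
    have h2r : (-1 : ZMod r) ≠ 1 := fun e => by
      have : ((2 : ℕ) : ZMod r) = 0 := by
        show (2 : ZMod r) = 0
        linear_combination -e
      rw [ZMod.natCast_eq_zero_iff] at this
      exact hr2 ((Nat.prime_dvd_prime_iff_eq hr Nat.prime_two).1 this)
    have hfr : finrank F (Fin n → F) = 2 * (k + 1) := by rw [finrank_fin_fun]; omega
    by_cases hplus : ∃ φ : (Fin n → F) ≃ₗ[F] (Fin (k + 1) ⊕ Fin (k + 1) → F), ∀ v, OrthOrder.qPlus (k + 1) F (φ v) = Q v
    · obtain ⟨φ, hφ⟩ := hplus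
      rcases hp (q ^ (k + 1) - 1) ((OrthOrder.card_oGroup_congr φ hφ).trans (SymRoot.card_oGroup_qPlus F k)) _ hfac (by omega) with
        e | e
      · exact Or.inl e
      refine Or.inr ⟨k, by omega, by omega, hrd _ e (Dvd.intro_left _ hfac), fun ho hdv => ?_⟩
      have hZ : Nat.card {v // Q v = 0} = Nat.card {v // OrthOrder.qSum (k + 1) (0 : QuadraticForm F (Fin 0 → F)) v = 0} :=
        Nat.card_congr (Equiv.subtypeEquiv (φ.toEquiv.trans
          { toFun := fun v => (v, 0)
            invFun := Prod.fst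
            left_inv := fun _ => rfl
            right_inv := fun v => Prod.ext rfl (Subsingleton.elim _ _) }) fun v => by
          simp [OrthOrder.qSum_apply, ← hφ, OrthOrder.qPlus_apply])
      rw [hZ, S0287.card_count] at hdv
      rcases hr.dvd_mul.1 hdv with e' | e'
      · exact h2r ((hcast' _ e).symm.trans (hcast _ e'))
      · have h1 := hcast' _ e
        rw [pow_succ, hcast' _ e', neg_one_mul, neg_inj] at h1
        exact ho (by rw [orderOf_eq_one_iff]; exact h1)
    · obtain ⟨ν, hν⟩ := FiniteField.exists_nonsquare (F := F) (Spinor.ringChar_ne_two h2)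
      have hab : ∀ z₁ z₂ : F, z₁ ^ 2 + 0 * z₁ * z₂ + -ν * z₂ ^ 2 = 0 → z₁ = 0 ∧ z₂ = 0 := fun z₁ z₂ h => by
        rcases eq_or_ne z₂ 0 with hz | hz
        · subst hz
          exact ⟨(pow_eq_zero_iff two_ne_zero).1 (by linear_combination h), rfl⟩
        · exact absurd ⟨z₁ / z₂, by field_simp; linear_combination -h⟩ hν
      let P := OrthOrder.qSum k (S0288.binForm (0 : F) (-ν))
      have hP : (polarBilin P).Nondegenerate := OrthOrder.qSum_nondeg (S0288.binForm_nondeg _ _ hab) k
      have hTd : finrank F ((Fin k ⊕ Fin k → F) × (Fin 2 → F)) = 2 * (k + 1) := by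
        rw [finrank_prod, finrank_fintype_fun_eq_card, finrank_fin_fun, Fintype.card_sum, Fintype.card_fin]; omega
      obtain ⟨φ, hφ⟩ := SymRoot.exists_iso_of_not h2 hQ hP (SymRoot.qPlus_nondeg F (k + 1)) hfr hTd
        (by rw [finrank_fintype_fun_eq_card, Fintype.card_sum, Fintype.card_fin]; omega) hplus (by
          rintro ⟨ψ, hψ⟩
          have h := (OrthOrder.card_oGroup_congr ψ hψ).trans (SymRoot.card_oGroup_qPlus F k)
          rw [S0288.card_minus_group (0 : F) (-ν) hab k] at h
          have hp0 : 0 < ∏ i ∈ Finset.range k, (q ^ (2 * (i + 1)) - 1) :=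
            Nat.pos_of_mul_pos_left (hpos k)
          have h' := Nat.eq_of_mul_eq_mul_left (Nat.mul_pos two_pos (pow_pos (by omega : 0 < q) _))
            (Nat.eq_of_mul_eq_mul_right hp0 h)
          omega)
      rcases hp (q ^ (k + 1) + 1) ((OrthOrder.card_oGroup_congr φ hφ).trans (S0288.card_minus_group (0 : F) (-ν) hab k)) _
        (by rw [mul_comm]; exact hfac) (by omega) with e | e
      · exact Or.inl e
      refine Or.inr ⟨k, by omega, by omega, hrd _ e (Dvd.intro _ hfac), fun ho hdv => ?_⟩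
      obtain ⟨m, rfl⟩ : ∃ m, k = m + 1 := ⟨k - 1, by omega⟩
      rw [show Nat.card {v // Q v = 0} = Nat.card {v // P v = 0} from
        Nat.card_congr (Equiv.subtypeEquiv φ.toEquiv fun v => by rw [← hφ]; rfl),
        S0288.card_count (0 : F) (-ν) hab] at hdv
      rcases hr.dvd_mul.1 hdv with e' | e'
      · exact h2r ((hcast' _ e').symm.trans (hcast _ e))
      · have h1 := hcast _ e
        rw [pow_succ, hcast _ e', one_mul] at h1
        exact ho (by rw [orderOf_eq_one_iff]; exact h1)
  · -- odd dimension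
    have hfr : finrank F ((Fin h ⊕ Fin h → F) × (Unit → F)) = n := by
      rw [finrank_prod, finrank_fintype_fun_eq_card, finrank_fintype_fun_eq_card, Fintype.card_sum, Fintype.card_fin,
        Fintype.card_unit]
      omega
    let a : (Fin n → F) ≃ₗ[F] ((Fin h ⊕ Fin h → F) × (Unit → F)) :=
      (Module.finBasisOfFinrankEq F _ hfr).equivFun.symm
    let P : QuadraticForm F (Fin n → F) := (OrthOrder.qSum h (S0286.sqForm F)).comp a.toLinearMap
    have hP : (polarBilin P).Nondegenerate :=
      OrthOrder.nondegenerate_congr a (fun u => rfl) (OrthOrder.qSum_nondeg (S0286.sqForm_nondeg h2) h)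
    obtain ⟨φ, s, hs, hφ⟩ := exists_similar h2 ⟨h, hh⟩ hQ hP
    have hsmul : oGroup (s • P) = oGroup P := by
      ext g
      simp only [mem_oGroup, smul_apply]
      exact forall_congr' fun v => ⟨fun e => smul_right_injective F hs e, fun e => by rw [e]⟩
    have hcard : Nat.card (oGroup Q) = 2 * q ^ (h ^ 2) * ∏ i ∈ Finset.range h, (q ^ (2 * (i + 1)) - 1) := by
      rw [← OrthOrder.card_oGroup_congr φ (Q := s • P) (fun v => hφ v), hsmul, ← S0286.card_odd_group h2]
      exact OrthOrder.card_oGroup_congr a fun v => rfl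
    rw [hcard, hh, Finset.prod_range_succ, prod_range_double f, Finset.prod_congr rfl (fun j _ => hev j),
      mul_comm (∏ j ∈ Finset.range h, f (2 * j)), mul_assoc (∏ j ∈ Finset.range h, _), ← Finset.prod_range_succ
      (fun j => f (2 * j)), Finset.prod_range_succ' (fun j => f (2 * j))] at hd
    have h' : (r * q ^ (h ^ 2)) * (2 * ((q - 1) * ∏ i ∈ Finset.range h, (q ^ (2 * (i + 1)) - 1))) ∣
        (q ^ N * ((∏ i ∈ Finset.range h, f (2 * (i + 1))) * 1)) *
          (2 * ((q - 1) * ∏ i ∈ Finset.range h, (q ^ (2 * (i + 1)) - 1))) := by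
      convert hd using 1
      · ring
      · simp only [f, mul_zero, zero_add, pow_one]; ring
    rcases hfin h 1 (fun i hi => by omega)
      ((Dvd.intro _ rfl).trans (Nat.dvd_of_mul_dvd_mul_right (Nat.mul_pos two_pos (hpos h)) h')) with e | e
    · exact Or.inl e
    · exact absurd e hr.not_dvd_one

/-- Elements of prime order of PSL_n(q), q odd, and the subgroups of orthogonal type. Here `T = PSL_n(F)` for a field `F` with `q` elements, `q` odd, `n ≥ 3`; `Q` is a non-degenerate quadratic form on `F^n` (of either type when `n` is even) and `H` is the subgroup of matrices of determinant 1 that preserve `Q` up to a scalar — a subgroup of type O^ε_n(q) (maximality is not assumed); Ω is the set of cosets of `H` in `T`, so an element of `T` of prime order `r` (a matrix `x` of determinant 1 with `x^r` scalar, `x` not scalar) fixes a point of Ω exactly when some conjugate of `x` by a matrix of determinant 1 preserves `Q` up to a scalar. Let `r` be a prime dividing the index of `H`,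 with `(n, r) ≠ (6, 3)`. Then every element of `T` of order `r` fixes a point of Ω if and only if `r = 2`, or `r ∈ {3, 5}`, `n = r` and `(q − 1)_r = r` (the `r`-part of `q − 1` is exactly `r`). The case `(n, r) = (6, 3)` is not covered by this statement. -/
theorem result {F : Type*} [Field F] [Fintype F] {p : ℕ} [Fact p.Prime] [CharP F p] {q : ℕ} (hq : Fintype.card F = q)
    (hodd : Odd q) (n : ℕ) (hn : 3 ≤ n) (Q : (Fin n → F) → F) (hQ : Cfsg.Geo.IsNondegenerateQuadraticForm Q)
    (r : ℕ) [Fact r.Prime] (hgap : ¬ (n = 6 ∧ r = 3))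
    (hΩ : r ∣ (Cfsg.Geo.quadSimilarityGroup Q).relIndex (Cfsg.Geo.specialLinear (Fin n) F)) :
    (∀ x ∈ Cfsg.Geo.specialLinear (Fin n) F, (∃ z : F, ((x ^ r : GL (Fin n) F) : Matrix (Fin n) (Fin n) F) = z • (1 : Matrix (Fin n) (Fin n) F)) →
      (∀ z : F, (x : Matrix (Fin n) (Fin n) F) ≠ z • (1 : Matrix (Fin n) (Fin n) F)) →
      ∃ g ∈ Cfsg.Geo.specialLinear (Fin n) F, g⁻¹ * x * g ∈ Cfsg.Geo.quadSimilarityGroup Q) ↔
    (r = 2 ∨ ((r = 3 ∨ r = 5) ∧ n = r ∧ padicValNat r (q - 1) = 1)) := by
  classical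
  subst hq
  have hn0 : 0 < n := by omega
  have h2 : (2 : F) ≠ 0 := Ring.two_ne_zero fun h => by
    have := FiniteField.even_card_of_char_two h
    rw [Nat.odd_iff] at hodd
    omega
  let QF : QuadraticForm F (Fin n → F) := QuadraticMap.ofPolar Q
    (fun a x => by rw [hQ.smul, smul_eq_mul, pow_two])
    (fun x x' y => hQ.polar_bilinear.add_left x x' y)
    (fun a x y => hQ.polar_bilinear.smul_left a x y)
  have hnd : (polarBilin QF).Nondegenerate := OrthOrder.nondegenerate_iff.2 fun v hv => by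
    by_contra h
    obtain ⟨w, hw⟩ := (hQ.nondegenerate v h).2
    exact hw (hv w)
  have hr := (Fact.out : r.Prime)
  have hdet : ∀ {x : GL (Fin n) F}, x ∈ Cfsg.Geo.specialLinear (Fin n) F → ∀ {z : F},
      ((x ^ r : GL (Fin n) F) : Matrix (Fin n) (Fin n) F) = z • 1 → z ≠ 0 := fun {x} hx {z} hz e => by
    haveI : Nonempty (Fin n) := ⟨⟨0, hn0⟩⟩
    rw [e, zero_smul, Units.val_pow_eq_pow_val] at hz
    have h1 := congrArg Matrix.det hz
    rw [Matrix.det_pow, show (x : Matrix (Fin n) (Fin n) F).det = 1 from congrArg Units.val hx, one_pow,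
      Matrix.det_zero] at h1
    exact one_ne_zero h1
  constructor
  · intro hall
    by_contra hcrit
    have hr2 : r ≠ 2 := fun e => hcrit (Or.inl e)
    rcases eq_or_ne r p with rfl | hrp
    · obtain ⟨x, hx, hz, hns, hno⟩ := no_transvection (p := r) h2 hn hnd
      obtain ⟨g, -, hg⟩ := hall x hx hz hns
      exact hno g hg
    have hrq : ¬ r ∣ Fintype.card F := by
      obtain ⟨a, -, hcard⟩ := FiniteField.card F p
      intro h
      rw [hcard] at h
      exact hrp ((Nat.prime_dvd_prime_iff_eq hr Fact.out).1 (hr.dvd_of_dvd_pow h))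
    have hcases := index_cases h2 hnd hn hr2 hrq hΩ
    by_cases ho1 : orderOf (Fintype.card F : ZMod r) = 1
    · obtain ⟨x, w, hx, hxw, hz, hns, -, hbad⟩ := exists_bad_diag (n := n) hr2 hn hgap
        (Elusive.orderOf_card_eq_one_iff.1 ho1) (fun h => hcrit (Or.inr h))
      obtain ⟨g, -, hg⟩ := hall x hx hz hns
      obtain ⟨Q', c, -, hQ', hinv, -⟩ := exists_inv_form hnd (Q := QF) hg
      obtain ⟨a, ha⟩ := hbad c
      obtain ⟨S, hlt, hS⟩ := ha (Finset.univ.filter fun j => a * w j = c) fun j hj => (Finset.mem_filter.1 hj).2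
      refine absurd (card_le_of_support (M := fun i j => polar Q' (Pi.single i (1 : F)) (Pi.single j 1))
        (fun u hu => (OrthOrder.nondegenerate_iff.1 hQ') u fun v => ?_) S _ fun i hi j hij => ?_) (not_le.2 hlt)
      · show polarBilin Q' u v = 0
        have h0 : polarBilin Q' u = 0 := (Pi.basisFun F (Fin n)).ext fun j => by
          conv_lhs => rw [pi_eq_sum_univ' u]
          rw [map_sum, LinearMap.sum_apply, LinearMap.zero_apply, ← hu j]
          simp [polar_smul_left]
        rw [h0, LinearMap.zero_apply]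
      · refine Finset.mem_filter.2 ⟨Finset.mem_univ _, ?_⟩
        rw [← hS i hi]
        refine mul_right_cancel₀ hij ?_
        have hm : ∀ l, (x : Matrix (Fin n) (Fin n) F) *ᵥ Pi.single l 1 = w l • Pi.single l 1 := fun l => by
          rw [hxw, Matrix.diagonal_mulVec_single, mul_one, ← Pi.single_smul', smul_eq_mul, mul_one]
        have h1 : polar Q' ((x : Matrix (Fin n) (Fin n) F) *ᵥ Pi.single i 1)
            ((x : Matrix (Fin n) (Fin n) F) *ᵥ Pi.single j 1) = c * polar Q' (Pi.single i 1) (Pi.single j 1) := by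
          simp only [polar, ← Matrix.mulVec_add, hinv]; ring
        rw [hm, hm, polar_smul_left, polar_smul_right, smul_eq_mul, smul_eq_mul, ← mul_assoc] at h1
        exact h1
    have ho2 : 2 ≤ orderOf (Fintype.card F : ZMod r) := by
      have := Elusive.orderOf_card_pos (F := F) (p := p) (r := r) hrp
      omega
    -- an element with `j` blocks and its invariant form
    have hbl : ∀ j, 1 ≤ j → j * orderOf (Fintype.card F : ZMod r) ≤ n →
        ∃ (Q' : QuadraticForm F (Fin n → F)) (T : Module.End F (Fin n → F)), (polarBilin Q').Nondegenerate ∧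
          (∀ v, Q' (T v) = Q' v) ∧ T ^ r = 1 ∧ (∃ φ : (Fin n → F) ≃ₗ[F] (Fin n → F), ∀ v, QF (φ v) = Q' v) ∧
          finrank F (Elusive.fixedSpace T) = n - j * orderOf (Fintype.card F : ZMod r) := by
      intro j hj hjn
      obtain ⟨x, hxr, hns, hfix⟩ := Elusive.exists_fixed_blocks (F := F) hrp ho2 hj hjn
      have hpow : (((Matrix.SpecialLinearGroup.toGL x) ^ r : GL (Fin n) F) : Matrix (Fin n) (Fin n) F) =
          (1 : F) • 1 := by
        rw [← map_pow]; exact hxr
      obtain ⟨g, -, hg⟩ := hall (Matrix.SpecialLinearGroup.toGL x) (Units.ext x.det_coe) ⟨1, hpow⟩ hns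
      obtain ⟨Q', c, -, hQ', hinv, hφ⟩ := exists_inv_form hnd (Q := QF) hg
      have hx1 : (x : Matrix (Fin n) (Fin n) F) ^ r = 1 := by
        rw [← Matrix.SpecialLinearGroup.coe_pow, hxr, one_smul]
      have hc1 : c = 1 := Elusive.eq_one_of_pow_eq_one (by omega) (mult_pow h2 hQ' hn0 hinv hx1)
      refine ⟨Q', Matrix.toLin' (x : Matrix (Fin n) (Fin n) F), hQ', fun v => ?_, ?_, hφ, hfix⟩
      · rw [Matrix.toLin'_apply]
        exact (hinv v).trans (by rw [hc1, one_mul])
      · rw [← Matrix.toLin'_pow, hx1, Matrix.toLin'_one]; rfl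
    have hcast : ∀ m, r ∣ Fintype.card F ^ m - 1 → orderOf (Fintype.card F : ZMod r) ∣ m := fun m hm =>
      orderOf_dvd_of_pow_eq_one (by
        rwa [← ZMod.natCast_eq_zero_iff, Nat.cast_sub (Nat.one_le_pow _ _ Fintype.card_pos), sub_eq_zero,
          Nat.cast_pow, Nat.cast_one] at hm)
    rcases hcases with ⟨i, -, hin, hri⟩ | ⟨k, -, hnk, hrk, hcount⟩
    · have hoi := hcast _ hri
      have hle := Nat.le_of_dvd (by omega) hoi
      obtain ⟨Q', T, hQ', hT, hTr, -, hfix⟩ := hbl 1 le_rfl (by omega)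
      have he := even_moved hQ' hT (hr.odd_of_ne_two hr2) hTr
      rw [finrank_fin_fun, hfix, one_mul, Nat.sub_sub_self (by omega)] at he
      exact Nat.not_even_iff_odd.2 ((odd_two_mul_add_one i).of_dvd_nat hoi) he
    · obtain ⟨j, hj⟩ := hcast _ hrk
      obtain ⟨Q', T, -, hT, hTr, ⟨φ, hφ⟩, hfix⟩ := hbl j (Nat.pos_of_ne_zero fun e => by rw [e, mul_zero] at hj; omega)
        (by rw [mul_comm]; omega)
      refine hcount ho1 ?_
      rw [show Nat.card {v // QF v = 0} = Nat.card {v // Q' v = 0} from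
        (Nat.card_congr (Equiv.subtypeEquiv φ.toEquiv fun v => by rw [← hφ]; rfl)).symm]
      refine dvd_singular hT hTr fun v hv => ?_
      have h0 : Elusive.fixedSpace T = ⊥ := Submodule.finrank_eq_zero.1 (by rw [hfix, mul_comm]; omega)
      exact (Submodule.mem_bot F).1 (h0 ▸ Elusive.mem_fixedSpace.2 hv)
  · rintro (rfl | ⟨h35, hnr, hv⟩) x hx ⟨z, hz⟩ -
    · exact exists_conj_invol (Q := QF) h2 hnd hn0 (hdet hx hz) hz
    · exact exists_conj_exception (Q := QF) (p := p) h2 hnd h35 hnr hv hx ⟨z, hz⟩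

end Cfsg.Agent.S5981
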