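import Cfsg.Agent.Lib.TransvMax.SimUnit
-- import your own Cfsg.Agent.* helpers here

set_option autoImplicit false
open scoped MatrixGroups
open Cfsg

namespace Cfsg.Agent.S5982

open Cfsg.Agent Cfsg.Agent.SimEl Module
open scoped Matrix

variable {F : Type*} [Field F] [Fintype F] {n q : ℕ}

/-- The consequence of `r` dividing the index. -/
theorem index_case [AutPSU.QField F q] {f : (Fin n → F) → (Fin n → F) → F} (hf : Cfsg.Geo.IsUnitaryFormPow q f)
    (hn : 3 ≤ n) {r : ℕ} [Fact r.Prime] (hrq : ¬ r ∣ q)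
    (hΩ : r ∣ (Cfsg.Geo.similarityGroup f).relIndex (Cfsg.Geo.specialLinear (Fin n) F)) :
    ∃ i, 2 ≤ i ∧ i ≤ n ∧ (-(q : ZMod r)) ^ i = -1 := by
  classical
  have hr := (Fact.out : r.Prime)
  have hq2 := q_pos F q
  have hd := dvd_of_index_herm hf (by omega) hΩ
  obtain ⟨N, hN⟩ := prod_GL (Fintype.card F) n
  rw [hN, UnitaryOrder.card_GU (card_eq F q), card_eq F q] at hd
  set a : ℕ → ℕ := fun i => if Even i then q ^ (i + 1) + 1 else q ^ (i + 1) - 1
  set b : ℕ → ℕ := fun i => if Even i then q ^ (i + 1) - 1 else q ^ (i + 1) + 1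
  have hab : ∀ i, (q ^ 2) ^ (i + 1) - 1 = a i * b i := fun i => by
    rw [← pow_mul, mul_comm 2, pow_mul]
    have h := Nat.sq_sub_sq (q ^ (i + 1)) 1
    rw [one_pow] at h
    rw [h]
    simp only [a, b]
    split_ifs <;> ring
  rw [Finset.prod_congr rfl (fun i _ => hab i), Finset.prod_mul_distrib] at hd
  have hapos : 0 < ∏ i ∈ Finset.range n, a i := Finset.prod_pos fun i _ => by
    have : 1 < q ^ (i + 1) := Nat.one_lt_pow (by omega) (by omega)
    simp only [a]; split_ifs <;> omega
  have hsq : q ^ 2 - 1 = (q + 1) * (q - 1) := by simpa using Nat.sq_sub_sq q 1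
  obtain ⟨m, rfl⟩ : ∃ m, n = m + 1 := ⟨n - 1, by omega⟩
  have hb0 : b 0 = q - 1 := by simp [b]
  rw [hsq, Finset.prod_range_succ' b, hb0] at hd
  have h' : (r * q ^ ((m + 1) * (m + 1 - 1) / 2)) * ((q + 1) * (q - 1) * ∏ i ∈ Finset.range (m + 1), a i) ∣
      ((q ^ 2) ^ N * ∏ i ∈ Finset.range m, b (i + 1)) * ((q + 1) * (q - 1) * ∏ i ∈ Finset.range (m + 1), a i) := by
    convert hd using 1 <;> ring
  have h'' := (Dvd.intro _ rfl).trans (Nat.dvd_of_mul_dvd_mul_right
    (Nat.mul_pos (Nat.mul_pos (by omega) (by omega)) hapos) h')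
  rcases hr.dvd_mul.1 h'' with e | e
  · exact absurd (hr.dvd_of_dvd_pow (hr.dvd_of_dvd_pow e)) hrq
  obtain ⟨i, hi, hri⟩ := (Prime.dvd_finsetProd_iff hr.prime _).1 e
  refine ⟨i + 2, by omega, by have := Finset.mem_range.1 hi; omega, ?_⟩
  simp only [b] at hri
  split_ifs at hri with hev
  · rw [← ZMod.natCast_eq_zero_iff, Nat.cast_sub (Nat.one_le_pow _ _ (by omega)), sub_eq_zero, Nat.cast_pow,
      Nat.cast_one] at hri
    rw [show i + 2 = i + 1 + 1 by omega, neg_pow, hri, mul_one, hev.add_one.neg_one_pow]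
  · rw [← ZMod.natCast_eq_zero_iff, Nat.cast_add, add_eq_zero_iff_eq_neg, Nat.cast_pow, Nat.cast_one] at hri
    rw [show i + 2 = i + 1 + 1 by omega, neg_pow, hri, (Nat.not_even_iff_odd.1 hev).add_one.neg_one_pow, one_mul]

/-- Elements of prime order of PSL_n(q), q = q₀², and the subgroups of unitary type. Here `T = PSL_n(F)` for a field `F` with `q = q₀²` elements (`n ≥ 3`), `f` is a non-degenerate unitary form on `F^n` for the involutory automorphism `x ↦ x^{q₀}`, and `H` is the subgroup of matrices of determinant 1 that preserve `f` up to a scalar — a subgroup of type GU_n(q₀) (maximality is not assumed); Ω is the set of cosets of `H` in `T`, so an element of `T` of prime order `r` (a matrix `x` of determinant 1 with `x^r` scalar, `x` not scalar) fixes a point of Ω exactly when some conjugate of `x` by a matrix of determinant 1 preserves `f` up to a scalar. Let `r` be a prime dividing the index of `H`, with `r = 2` or `r` different from the characteristic `p`, and with `(n,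 r) ≠ (6, 3)`. Then every element of `T` of order `r` fixes a point of Ω if and only if either `r = 2` and (`p = 2` or `(n)_2 ≤ (q − 1)_2`), or `r ∈ {3, 5}`, `n = r` and `(q₀ − 1)_r = r`. (Odd `r = p` and the case `(n, r) = (6, 3)` are not covered by this statement.) -/
theorem result {F : Type*} [Field F] [Fintype F] {p : ℕ} [Fact p.Prime] [CharP F p] {q : ℕ} (hq : Fintype.card F = q)
    (q₀ : ℕ) (hq₀ : q = q₀ ^ 2) (n : ℕ) (hn : 3 ≤ n) (f : (Fin n → F) → (Fin n → F) → F) (hf : Cfsg.Geo.IsUnitaryFormPow q₀ f)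
    (r : ℕ) [Fact r.Prime] (hr : r = 2 ∨ r ≠ p) (hgap : ¬ (n = 6 ∧ r = 3))
    (hΩ : r ∣ (Cfsg.Geo.similarityGroup f).relIndex (Cfsg.Geo.specialLinear (Fin n) F)) :
    (∀ x ∈ Cfsg.Geo.specialLinear (Fin n) F, (∃ z : F, ((x ^ r : GL (Fin n) F) : Matrix (Fin n) (Fin n) F) = z • (1 : Matrix (Fin n) (Fin n) F)) →
      (∀ z : F, (x : Matrix (Fin n) (Fin n) F) ≠ z • (1 : Matrix (Fin n) (Fin n) F)) →
      ∃ g ∈ Cfsg.Geo.specialLinear (Fin n) F, g⁻¹ * x * g ∈ Cfsg.Geo.similarityGroup f) ↔
    ((r = 2 ∧ (p = 2 ∨ padicValNat 2 n ≤ padicValNat 2 (q - 1))) ∨ ((r = 3 ∨ r = 5) ∧ n = r ∧ padicValNat r (q₀ - 1) = 1)) := by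
  classical
  have hcard : Fintype.card F = q₀ ^ 2 := hq.trans hq₀
  subst hq
  haveI : AutPSU.QField F q₀ := AutPSU.QField.of_card hcard
  have hn0 : 0 < n := by omega
  have hq2 := q_pos F q₀
  have hrpr := (Fact.out : r.Prime)
  have hsq : Fintype.card F - 1 = (q₀ + 1) * (q₀ - 1) := by rw [hcard]; simpa using Nat.sq_sub_sq q₀ 1
  obtain ⟨a, -, hpa⟩ := FiniteField.card F p
  have hpq : p ∣ q₀ := (Fact.out : p.Prime).dvd_of_dvd_pow (show p ∣ q₀ ^ 2 by
    rw [← hcard, hpa]; exact dvd_pow_self p a.pos.ne')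
  by_cases hr2 : r = 2
  · subst hr2
    have hzero : ∀ {x : GL (Fin n) F}, x ∈ Cfsg.Geo.specialLinear (Fin n) F → ∀ {z : F},
        ((x ^ 2 : GL (Fin n) F) : Matrix (Fin n) (Fin n) F) = z • 1 → z ≠ 0 := fun {x} hx {z} hz e => by
      haveI : Nonempty (Fin n) := ⟨⟨0, hn0⟩⟩
      rw [e, zero_smul, Units.val_pow_eq_pow_val] at hz
      have h1 := congrArg Matrix.det hz
      rw [Matrix.det_pow, show (x : Matrix (Fin n) (Fin n) F).det = 1 from congrArg Units.val hx, one_pow,
        Matrix.det_zero] at h1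
      exact one_ne_zero h1
    have hcar : p ≠ 2 → (2 : F) ≠ 0 := fun hp2 h => hp2 ((Nat.prime_dvd_prime_iff_eq Fact.out Nat.prime_two).1
      ((CharP.cast_eq_zero_iff F p 2).1 (by exact_mod_cast h)))
    have hoddq : p ≠ 2 → Odd q₀ := fun hp2 => by
      have h : Odd (Fintype.card F) := by rw [hpa]; exact ((Fact.out : p.Prime).odd_of_ne_two hp2).pow
      rw [hcard] at h
      exact (Nat.odd_pow_iff two_ne_zero).1 h
    have hneg : p ≠ 2 → IsSquare (-1 : F) := fun hp2 => by
      obtain ⟨k, hk⟩ := hoddq hp2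
      rw [FiniteField.isSquare_neg_one_iff, hcard, hk, Nat.pow_mod]
      rcases Nat.even_or_odd k with ⟨j, hj⟩ | ⟨j, hj⟩ <;> subst hj
      · rw [show 2 * (j + j) + 1 = 1 + 4 * j by ring, Nat.add_mul_mod_self_left]; norm_num
      · rw [show 2 * (2 * j + 1) + 1 = 3 + 4 * j by ring, Nat.add_mul_mod_self_left]; norm_num
    constructor
    · intro hall
      refine Or.inl ⟨rfl, or_iff_not_imp_left.2 fun hp2 => not_lt.1 fun hlt => ?_⟩
      have h2n : 2 ∣ n := dvd_of_one_le_padicValNat (by omega)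
      obtain ⟨m, hm⟩ := h2n
      have h2q : 2 ∣ Fintype.card F - 1 := by
        obtain ⟨k, hk⟩ := hoddq hp2
        exact ⟨(k + 1) * (2 * k), by rw [hsq, hk]; rw [show 2 * k + 1 - 1 = 2 * k by omega]; ring⟩
      obtain ⟨c, hc, hc1⟩ := Elusive.exists_nonpower (F := F) (r := 2) h2q
      have hvm : padicValNat 2 n = padicValNat 2 m + 1 := by
        rw [hm, padicValNat.mul two_ne_zero (by omega), padicValNat.self (by norm_num), add_comm]
      have hcm : c ^ m = 1 := by
        obtain ⟨t, ht⟩ := (pow_dvd_pow 2 (show padicValNat 2 (Fintype.card F - 1) ≤ padicValNat 2 m by omega)).trans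
          pow_padicValNat_dvd
        rw [ht, pow_mul, hc1, one_pow]
      have hnc : ∀ b : F, b ^ 2 ≠ -c := fun b hb => by
        obtain ⟨i, hi⟩ := hneg hp2
        exact hc (i * b) (by rw [mul_pow, hb, pow_two, ← hi]; ring)
      obtain ⟨x, hx⟩ := Elusive.exists_nonpower_element (F := F) (p := p) (r := 2) (n := n) (fun e => hp2 e.symm) ⟨m, hm⟩ hnc
        (by rw [show n / 2 = m by omega]; simpa using hcm)
      have hpow : (((Matrix.SpecialLinearGroup.toGL x) ^ 2 : GL (Fin n) F) : Matrix (Fin n) (Fin n) F) = (-c) • 1 := by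
        rw [← map_pow]; exact hx
      obtain ⟨g, -, hg⟩ := hall (Matrix.SpecialLinearGroup.toGL x) (Units.ext x.det_coe) ⟨-c, hpow⟩ fun s hs => by
        haveI : Nonempty (Fin n) := ⟨⟨0, hn0⟩⟩
        rw [Units.val_pow_eq_pow_val, hs, smul_pow, one_pow] at hpow
        exact hnc s (smul_left_injective F one_ne_zero hpow)
      exact no_sim_nonsquare (hoddq hp2) hn0 hf hnc hpow hg
    · intro hcond x hx hz _
      obtain ⟨z, hz⟩ := hz
      by_cases hs : ∃ l : F, l ^ 2 = z
      · obtain ⟨l, rfl⟩ := hs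
        exact exists_conj_split hn0 hf (fun e => hzero hx hz (by rw [e]; ring)) hz
      exfalso
      push Not at hs
      have hp2 : p ≠ 2 := by
        rintro rfl
        obtain ⟨b, hb⟩ := surjective_frobenius F 2 z
        exact hs b (by rwa [frobenius_def] at hb)
      have hle : padicValNat 2 n ≤ padicValNat 2 (Fintype.card F - 1) := by
        rcases hcond with ⟨-, h | h⟩ | ⟨h, -⟩
        · exact absurd h hp2
        · exact h
        · omega
      set A : Module.End F (Fin n → F) := Matrix.toLin' (x : Matrix (Fin n) (Fin n) F) with hAdef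
      have hA : A ^ 2 = z • (1 : Module.End F (Fin n → F)) := by
        rw [hAdef, ← Matrix.toLin'_pow, ← Units.val_pow_eq_pow_val, hz, map_smul, Matrix.toLin'_one]; rfl
      obtain ⟨m, hm⟩ := Elusive.prime_dvd_finrank hA hs (U := ⊤) le_top
      rw [finrank_top, finrank_fin_fun] at hm
      have hd := Elusive.det_of_nonpower (by exact_mod_cast hcar hp2) hA hs
      rw [hAdef, LinearMap.det_toLin', show (x : Matrix (Fin n) (Fin n) F).det = 1 from congrArg Units.val hx,
        finrank_fin_fun, show n / 2 = m by omega] at hd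
      norm_num at hd
      have hnz : ∀ b : F, b ^ 2 ≠ -z := fun b hb => by
        obtain ⟨i, hi⟩ := hneg hp2
        exact hs (i * b) (by rw [mul_pow, hb, pow_two, ← hi]; ring)
      have := Elusive.padicValNat_le_of_nonpower hnz (by omega : m ≠ 0) hd.symm
      rw [hm, padicValNat.mul two_ne_zero (by omega), padicValNat.self (by norm_num)] at hle
      omega
  have hrp : r ≠ p := hr.resolve_left hr2
  have hr3 : 3 ≤ r := by have := hrpr.two_le; omega
  have hrq : ¬ r ∣ q₀ := fun h => by
    have h' : r ∣ Fintype.card F := hcard ▸ dvd_pow h two_ne_zero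
    rw [hpa] at h'
    exact hrp ((Nat.prime_dvd_prime_iff_eq hrpr Fact.out).1 (hrpr.dvd_of_dvd_pow h'))
  have hm1 : (-1 : ZMod r) ≠ 1 := fun e => by
    have : ((2 : ℕ) : ZMod r) = 0 := by
      show (2 : ZMod r) = 0
      linear_combination -e
    rw [ZMod.natCast_eq_zero_iff] at this
    exact hr2 ((Nat.prime_dvd_prime_iff_eq hrpr Nat.prime_two).1 this)
  have hqq : ((Fintype.card F : ℕ) : ZMod r) = (-(q₀ : ZMod r)) ^ 2 := by rw [hcard, Nat.cast_pow, neg_sq]
  constructor
  · intro hall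
    by_contra hcrit
    obtain ⟨j, hj2, hjn, hj⟩ := index_case hf hn hrq hΩ
    have hoj : orderOf (Fintype.card F : ZMod r) ∣ j := orderOf_dvd_of_pow_eq_one (by
      rw [hqq, ← pow_mul, mul_comm, pow_mul, hj, neg_one_sq])
    by_cases ho1 : orderOf (Fintype.card F : ZMod r) = 1
    · have hnd : ¬ r ∣ q₀ + 1 := fun h => by
        rw [← ZMod.natCast_eq_zero_iff, Nat.cast_add, Nat.cast_one, add_eq_zero_iff_eq_neg] at h
        rw [h, neg_neg, one_pow] at hj
        exact hm1 hj.symm
      have hrq1 := Elusive.orderOf_card_eq_one_iff.1 ho1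
      have hv : padicValNat r (Fintype.card F - 1) = padicValNat r (q₀ - 1) := by
        rw [hsq, padicValNat.mul (by omega) (by omega), padicValNat.eq_zero_of_not_dvd hnd, zero_add]
      obtain ⟨x, w, hx, hxw, hz, hns, hw, hbad⟩ := exists_bad_diag (n := n) hr2 hn hgap hrq1
        fun h => hcrit (Or.inr ⟨h.1, h.2.1, hv ▸ h.2.2⟩)
      have hwq : ∀ i, w i ^ q₀ = w i := fun i => by
        have h1 := orderOf_dvd_of_pow_eq_one (hw i)
        have hw0 : w i ≠ 0 := fun e => by
          have := hw i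
          rw [e, zero_pow (by positivity)] at this
          exact zero_ne_one this
        have h2 := orderOf_dvd_of_pow_eq_one (FiniteField.pow_card_sub_one_eq_one _ hw0)
        rw [hsq] at h2
        have hcop : (orderOf (w i)).Coprime (q₀ + 1) :=
          Nat.Coprime.coprime_dvd_left h1 (Nat.Coprime.mul_left ((hrpr.coprime_iff_not_dvd).2 hnd)
            ((hrpr.coprime_iff_not_dvd).2 hnd))
        have h3 := orderOf_dvd_iff_pow_eq_one.1 (hcop.dvd_mul_left.1 h2)
        conv_lhs => rw [show q₀ = q₀ - 1 + 1 by omega, pow_succ, h3, one_mul]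
      obtain ⟨g, -, hg⟩ := hall x hx hz hns
      obtain ⟨f', c, -, -, hf', hinv, -⟩ := exists_inv_herm hn0 hf hg
      obtain ⟨a, ha⟩ := hbad c
      obtain ⟨S, hlt, hS⟩ := ha (Finset.univ.filter fun k => a * w k = c) fun k hk => (Finset.mem_filter.1 hk).2
      refine absurd (card_le_of_support (M := fun i k => f' (Pi.single i (1 : F)) (Pi.single k 1))
        (fun u hu => ?_) S _ fun i hi k hik => ?_) (not_le.2 hlt)
      · by_contra hu0
        obtain ⟨v, hv⟩ := (hf'.nondegenerate u hu0).2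
        refine hv ?_
        have h0 : (toB hf').flip u = 0 := (Pi.basisFun F (Fin n)).ext fun k => by
          rw [Pi.basisFun_apply, LinearMap.flip_apply, LinearMap.zero_apply]
          conv_lhs => rw [pi_eq_sum_univ' u]
          simp only [map_sum, map_smul, smul_eq_mul]
          exact hu k
        exact LinearMap.congr_fun h0 v
      · refine Finset.mem_filter.2 ⟨Finset.mem_univ _, ?_⟩
        rw [← hS i hi]
        refine mul_right_cancel₀ hik ?_
        have hmv : ∀ l, (x : Matrix (Fin n) (Fin n) F) *ᵥ Pi.single l 1 = w l • Pi.single l 1 := fun l => by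
          rw [hxw, Matrix.diagonal_mulVec_single, mul_one, ← Pi.single_smul', smul_eq_mul, mul_one]
        have h1 := hinv (Pi.single i 1) (Pi.single k 1)
        rw [hmv, hmv, hf'.smul_left, hf'.herm (Pi.single i 1), hf'.smul_left, mul_pow, ← hf'.herm, hwq,
          ← mul_assoc] at h1
        exact h1
    set o := orderOf (Fintype.card F : ZMod r) with hodef
    have ho2 : 2 ≤ o := by
      have := Elusive.orderOf_card_pos (F := F) (p := p) (r := r) hrp
      omega
    have hon : o ≤ n := le_trans (Nat.le_of_dvd (by omega) hoj) hjn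
    obtain ⟨x, hxr, hns, hfix⟩ := Elusive.exists_fixed_blocks (F := F) (n := n) hrp ho2 le_rfl (by omega)
    rw [one_mul] at hfix
    have hpow : (((Matrix.SpecialLinearGroup.toGL x) ^ r : GL (Fin n) F) : Matrix (Fin n) (Fin n) F) = (1 : F) • 1 := by
      rw [← map_pow]; exact hxr
    obtain ⟨g, -, hg⟩ := hall (Matrix.SpecialLinearGroup.toGL x) (Units.ext x.det_coe) ⟨1, hpow⟩ hns
    obtain ⟨f', c, -, -, hf', hinv, u, v, huv⟩ := exists_inv_herm hn0 hf hg
    have hx1 : (x : Matrix (Fin n) (Fin n) F) ^ r = 1 := by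
      rw [← Matrix.SpecialLinearGroup.coe_pow, hxr, one_smul]
    have hc1 : c = 1 := by
      refine Elusive.eq_one_of_pow_eq_one (r := r) (by omega) ((mul_eq_right₀ huv).1 ?_)
      have h := inv_pow_apply hinv r u v
      rw [Units.val_pow_eq_pow_val] at hpow
      rw [hpow, one_smul, Matrix.one_mulVec, Matrix.one_mulVec] at h
      exact h.symm
    have hT : ∀ u v, f' (Matrix.toLin' (x : Matrix (Fin n) (Fin n) F) u) (Matrix.toLin' (x : Matrix (Fin n) (Fin n) F) v) =
        f' u v := fun u v => by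
      rw [Matrix.toLin'_apply, Matrix.toLin'_apply]
      exact (hinv u v).trans (by rw [hc1, one_mul])
    have hd := dvd_card_GU_of_isometry hf' (Elusive.natCast_prime_ne_zero (F := F) (p := p) hrp) hT
      (by rw [← Matrix.toLin'_pow, hx1, Matrix.toLin'_one]; rfl) (o := o) (by omega) (by rw [hfix]; omega)
    rw [UnitaryOrder.card_GU (card_eq F q₀)] at hd
    rcases hrpr.dvd_mul.1 hd with e | e
    · exact hrq (hrpr.dvd_of_dvd_pow e)
    obtain ⟨i, hi, hri⟩ := (Prime.dvd_finsetProd_iff hrpr.prime _).1 e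
    have hone : (-(q₀ : ZMod r)) ^ (i + 1) = 1 := by
      split_ifs at hri with hev
      · rw [← ZMod.natCast_eq_zero_iff, Nat.cast_add, add_eq_zero_iff_eq_neg, Nat.cast_pow, Nat.cast_one] at hri
        rw [neg_pow, hri, hev.add_one.neg_one_pow, neg_mul_neg, one_mul]
      · rw [← ZMod.natCast_eq_zero_iff, Nat.cast_sub (Nat.one_le_pow _ _ (by omega)), sub_eq_zero, Nat.cast_pow,
          Nat.cast_one] at hri
        rw [neg_pow, hri, mul_one, (Nat.not_even_iff_odd.1 hev).add_one.neg_one_pow]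
    have hoi : o ∣ i + 1 := orderOf_dvd_of_pow_eq_one (by rw [hqq, ← pow_mul, mul_comm, pow_mul, hone, one_pow])
    have hio : i + 1 = o := le_antisymm (Finset.mem_range.1 hi) (Nat.le_of_dvd (by omega) hoi)
    obtain ⟨t, ht⟩ := hoj
    rw [ht, ← hio, pow_mul, hone, one_pow] at hj
    exact hm1 hj.symm
  · rintro (⟨h, -⟩ | ⟨h35, hnr, hv⟩) x hx hz -
    · exact absurd h hr2
    · exact exists_conj_exception_herm (p := p) hf h35 hnr hv hx hz

end Cfsg.Agent.S5982
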