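import Cfsg.Agent.Lib.TransvMax.SpQuad
-- import your own Cfsg.Agent.* helpers here

set_option autoImplicit false
open scoped MatrixGroups
open Cfsg

namespace Cfsg.Agent.S5983

open Cfsg.Agent Cfsg.Agent.SpQuad
open scoped Matrix

/-- Elements of prime order of PSp_n(q), q even, and the subgroups of orthogonal type. Here `T = Sp_{2d}(F)` for a field `F` of characteristic 2 with `q` elements (`d ≥ 2`, `(d, q) ≠ (2, 2)`), realised as the invertible matrices preserving the standard alternating form; `Q` is a non-degenerate quadratic form on `F^{2d}` whose polar form is that alternating form, and `H` is the subgroup of `T` preserving `Q` up to a scalar (equivalently preserving `Q`) — a subgroup of type O^±_{2d}(q) (maximality is not assumed); `Q` is of plus type when `F^{2d}` contains a `d`-dimensional subspace on which `Q` vanishes, of minus type otherwise. Ω is the set of cosets of `H` in `T`, so an element of `T` of prime order `r` (`x ∈ T` with `x^r` scalar, `x` not scalar) fixes a point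 of Ω exactly when some `T`-conjugate of `x` preserves `Q`. Let `r` be a prime dividing the index of `H`. Then every element of `T` of order `r` fixes a point of Ω if and only if `r = 2` and either `Q` is of plus type or `d` is odd. -/
theorem result {F : Type*} [Field F] [Fintype F] {p : ℕ} [Fact p.Prime] [CharP F p] {q : ℕ} (hq : Fintype.card F = q)
    (hp : p = 2) (d : ℕ) (hd : 2 ≤ d) (hT : (d, q) ≠ (2, 2)) (Q : (Fin d ⊕ Fin d → F) → F) (hQ : Cfsg.Geo.IsNondegenerateQuadraticForm Q)
    (hQf : ∀ u v, QuadraticMap.polar Q u v = Cfsg.sympForm d F u v)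
    (r : ℕ) [Fact r.Prime]
    (hΩ : r ∣ (Cfsg.Geo.quadSimilarityGroup Q).relIndex (Cfsg.spGL d F)) :
    (∀ x ∈ Cfsg.spGL d F, (∃ z : F, ((x ^ r : GL (Fin d ⊕ Fin d) F) : Matrix (Fin d ⊕ Fin d) (Fin d ⊕ Fin d) F) = z • (1 : Matrix (Fin d ⊕ Fin d) (Fin d ⊕ Fin d) F)) →
      (∀ z : F, (x : Matrix (Fin d ⊕ Fin d) (Fin d ⊕ Fin d) F) ≠ z • (1 : Matrix (Fin d ⊕ Fin d) (Fin d ⊕ Fin d) F)) →
      ∃ g ∈ Cfsg.spGL d F, g⁻¹ * x * g ∈ Cfsg.Geo.quadSimilarityGroup Q) ↔
    (r = 2 ∧ (Cfsg.Geo.IsPlusTypeOn Q ⊤ ∨ Odd d)) := by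
  classical
  subst hq
  have h2 : (2 : F) = 0 := by
    subst hp
    exact_mod_cast CharP.cast_eq_zero F 2
  obtain ⟨Q', rfl⟩ : ∃ Q' : QuadraticForm F (Fin d ⊕ Fin d → F), ⇑Q' = Q := by
    refine ⟨QuadraticMap.ofPolar Q (fun c v => by rw [hQ.smul, smul_eq_mul, pow_two])
      (fun x x' y => ?_) (fun c x y => ?_), rfl⟩
    · rw [hQf, hQf, hQf, ← fB_apply, ← fB_apply, ← fB_apply, map_add, LinearMap.add_apply]
    · rw [hQf, hQf, ← fB_apply, ← fB_apply, LinearMap.map_smul₂]
  have hQp : Pol Q' := hQf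
  obtain ⟨m, rfl⟩ : ∃ m, d = m + 1 := ⟨d - 1, by omega⟩
  have hr : r.Prime := Fact.out
  set q0 := OrthOrder.qPlus (m + 1) F
  have hp0 : Pol q0 := pol_qPlus h2
  obtain ⟨a, b, k₁, hab, hk₁, hnp, c0, c1, o0, o1, hor⟩ := classes h2 m
  set q1 := sh q0 k₁
  have hp1 : Pol q1 := hp0.sh h2 k₁
  obtain ⟨kQ, hkQ⟩ := exists_sh h2 hp0 hQp
  have hcase : (Cfsg.Geo.IsPlusTypeOn ⇑Q' ⊤ ∧ Iso q0 Q') ∨ (¬ Cfsg.Geo.IsPlusTypeOn ⇑Q' ⊤ ∧ Iso q1 Q') := by
    rw [hkQ]
    rcases hor kQ with h | h
    · exact Or.inl ⟨plus_transport h qPlus_isPlus, h⟩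
    · exact Or.inr ⟨fun hp => hnp (plus_transport h.symm hp), h⟩
  have hidx : ∀ R, Iso R Q' → (Cfsg.Geo.quadSimilarityGroup ⇑Q').relIndex (Cfsg.spGL (m + 1) F) =
      Nat.card {k // Iso R (sh q0 k)} := fun R hR => by
    rw [relIndex_eq h2 (by omega) hQp]
    exact Nat.card_congr (Equiv.subtypeEquivRight fun k => ⟨hR.trans, hR.symm.trans⟩)
  have hone : ∀ x : GL (Fin (m + 1) ⊕ Fin (m + 1)) F, x ∈ Cfsg.spGL (m + 1) F →
      (∀ v, (x : Matrix (Fin (m + 1) ⊕ Fin (m + 1)) (Fin (m + 1) ⊕ Fin (m + 1)) F) *ᵥ v = v → v = 0) →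
      ∀ z : F, (x : Matrix (Fin (m + 1) ⊕ Fin (m + 1)) (Fin (m + 1) ⊕ Fin (m + 1)) F) ≠ z • 1 := by
    intro x hx hfix z hz
    have := hfix (Pi.single (.inl 0) 1) (by
      rw [smul_eq_one h2 (by omega) hx hz, Units.val_one, Matrix.one_mulVec])
    simpa using congrFun this (.inl 0)
  -- an element without fixed vectors has a single invariant form
  have hfpf : ∀ (R : QuadraticForm F (Fin (m + 1) ⊕ Fin (m + 1) → F)), Pol R →
      ∀ g : (Fin (m + 1) ⊕ Fin (m + 1) → F) ≃ₗ[F] (Fin (m + 1) ⊕ Fin (m + 1) → F),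
      (∀ v, R (g v) = R v) → g ^ r = 1 → (∀ v, g v = v → v = 0) → ¬ Iso R Q' →
      ¬ (∀ x ∈ Cfsg.spGL (m + 1) F, (∃ z : F, ((x ^ r : GL (Fin (m + 1) ⊕ Fin (m + 1)) F) :
          Matrix (Fin (m + 1) ⊕ Fin (m + 1)) (Fin (m + 1) ⊕ Fin (m + 1)) F) = z • 1) →
        (∀ z : F, (x : Matrix (Fin (m + 1) ⊕ Fin (m + 1)) (Fin (m + 1) ⊕ Fin (m + 1)) F) ≠ z • 1) →
        ∃ g ∈ Cfsg.spGL (m + 1) F, g⁻¹ * x * g ∈ Cfsg.Geo.quadSimilarityGroup ⇑Q') := by
    intro R hR g hg hgr hfix hne hall
    set x := TransvMax.glOf g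
    have hxv : ∀ v, R ((x : Matrix (Fin (m + 1) ⊕ Fin (m + 1)) (Fin (m + 1) ⊕ Fin (m + 1)) F) *ᵥ v) = R v := fun v => by rw [TransvMax.glOf_mulVec, hg]
    have hx : x ∈ Cfsg.spGL (m + 1) F := mem_spGL_of_isometry hR hR hxv
    have hxf : ∀ v, (x : Matrix (Fin (m + 1) ⊕ Fin (m + 1)) (Fin (m + 1) ⊕ Fin (m + 1)) F) *ᵥ v = v → v = 0 := fun v h =>
      hfix v (by rwa [TransvMax.glOf_mulVec] at h)
    obtain ⟨k, hk, hkinv⟩ := (conj_iff h2 (by omega) hQp hx).1
      (hall x hx ⟨1, by rw [← map_pow, hgr, map_one, Units.val_one, one_smul]⟩ (hone x hx hxf))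
    obtain ⟨k', hk'⟩ := exists_sh h2 hR (hp0.sh h2 k)
    rw [hk'] at hkinv hk
    rw [hxf k' ((fixed_of_invariant h2 hR hx hxv).1 hkinv), sh_zero] at hk
    exact hne hk.symm
  set q := Fintype.card F
  have hq1 : 1 ≤ q ^ (m + 1) := Nat.one_le_pow _ _ Fintype.card_pos
  have hdiv : ∀ N : ℕ, ∀ e : ℕ, r ∣ N → 2 * N = q ^ (m + 1) * e → r ≠ 2 → r ∣ e := by
    intro N e hN he hr2
    have h : r ∣ q ^ (m + 1) * e := he ▸ dvd_mul_of_dvd_right hN 2
    exact (hr.dvd_mul.1 h).resolve_left fun h' =>
      NonsingPoints.not_dvd_card h2 hr hr2 (hr.dvd_of_dvd_pow h')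
  constructor
  · intro hall
    have hr2 : r = 2 := by
      by_contra hr2
      rcases hcase with ⟨hP, h0⟩ | ⟨hP, h1⟩
      · -- plus type: an element of the minus group
        have hN : r ∣ q ^ (m + 1) + 1 := hdiv _ _ (hidx q0 h0 ▸ hΩ) (by
          zify
          rw [c0]
          ring) hr2
        obtain ⟨g, hg, hgr, hfix⟩ := NonsingPoints.exists_fpf_minus h2 (m + 1) (by omega) a b hab hr hr2 hN
        let L := lastPair m F
        let g' := (L.trans g).trans L.symm
        have hg' : ∀ v, L (g' v) = g (L v) := fun v => L.apply_symm_apply _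
        have hpow : ∀ n : ℕ, ∀ v, L ((g' ^ n) v) = (g ^ n) (L v) := by
          intro n
          induction n with
          | zero => intro v; rfl
          | succ n ih =>
            intro v
            rw [pow_succ', pow_succ', LinearEquiv.mul_apply, LinearEquiv.mul_apply, hg', ih]
        refine hfpf q1 hp1 g' (fun v => ?_) (LinearEquiv.ext fun v => L.injective ?_) (fun v h => ?_)
          (fun h => hnp (plus_transport h.symm hP)) hall
        · rw [← hk₁, ← hk₁, hg']
          exact hg _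
        · rw [hpow, hgr]
          rfl
        · have := hfix (L v) (by rw [← hg', h])
          exact L.injective (this.trans (map_zero L).symm)
      · -- minus type: an element of the plus group
        have hN : r ∣ q ^ (m + 1) - 1 := hdiv _ _ (hidx q1 h1 ▸ hΩ) (by
          zify [hq1]
          rw [c1]
          ring) hr2
        obtain ⟨g, hg, hgr, hfix⟩ := NonsingPoints.exists_fpf_plus (F := F) (m + 1) (by omega) hr hN
        exact hfpf q0 hp0 g (fun v => by rw [OrthOrder.qPlus_apply, OrthOrder.qPlus_apply]; exact hg v)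
          hgr hfix (fun h => hP (plus_transport h qPlus_isPlus)) hall
    refine ⟨hr2, ?_⟩
    subst hr2
    by_contra hc
    push Not at hc
    obtain ⟨hP, hev⟩ := hc
    rw [Nat.not_odd_iff_even] at hev
    let g : (Fin (m + 1) ⊕ Fin (m + 1) → F) ≃ₗ[F] (Fin (m + 1) ⊕ Fin (m + 1) → F) :=
      LinearEquiv.ofInvolutive
        { toFun := fun v => Sum.elim (fun i => v (.inl i) + v (.inr i.rev)) (fun i => v (.inr i))
          map_add' := fun u v => by
            funext i
            rcases i with i | i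
            · simp only [Sum.elim_inl, Pi.add_apply]; ring
            · rfl
          map_smul' := fun c v => by
            funext i
            rcases i with i | i
            · simp only [Sum.elim_inl, Pi.smul_apply, smul_eq_mul, RingHom.id_apply]; ring
            · rfl }
        (fun v => by
          funext i
          rcases i with i | i
          · simp only [LinearMap.coe_mk, AddHom.coe_mk, Sum.elim_inl, Sum.elim_inr]
            linear_combination (v (.inr i.rev)) * h2
          · simp)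
    have hgl : ∀ v i, g v (.inl i) = v (.inl i) + v (.inr i.rev) := fun v i => rfl
    have hgr : ∀ v i, g v (.inr i) = v (.inr i) := fun v i => rfl
    set x := TransvMax.glOf g
    have hxq : ∀ v, q0 ((x : Matrix (Fin (m + 1) ⊕ Fin (m + 1)) (Fin (m + 1) ⊕ Fin (m + 1)) F) *ᵥ v) = q0 v := by
      intro v
      rw [TransvMax.glOf_mulVec, OrthOrder.qPlus_apply, OrthOrder.qPlus_apply, Cfsg.quadFormPlus,
        Cfsg.quadFormPlus]
      simp only [hgl, hgr, add_mul, Finset.sum_add_distrib]
      rw [add_eq_left]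
      refine Finset.sum_involution (fun i _ => i.rev) (fun i _ => ?_) (fun i _ _ h => ?_)
        (fun i _ => Finset.mem_univ _) (fun i _ => Fin.rev_rev i)
      · rw [Fin.rev_rev, mul_comm (v (.inr i))]
        exact two_mul_zero h2 _
      · have := congrArg Fin.val h
        rw [Fin.val_rev] at this
        obtain ⟨l, hl⟩ := hev
        omega
    have hx : x ∈ Cfsg.spGL (m + 1) F := mem_spGL_of_isometry hp0 hp0 hxq
    have hx2 : x ^ 2 = 1 := by
      rw [← map_pow, show g ^ 2 = 1 from LinearEquiv.ext fun v => by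
        rw [pow_two, LinearEquiv.mul_apply]
        exact g.left_inv v, map_one]
    obtain ⟨k, hk, hkinv⟩ := (conj_iff h2 (by omega) hQp hx).1
      (hall x hx ⟨1, by rw [hx2, Units.val_one, one_smul]⟩ (fun z hz => by
        have h := congrFun (congrArg (fun M => M *ᵥ Pi.single (.inr 0) 1) hz) (.inl (Fin.rev 0))
        rw [TransvMax.glOf_mulVec, hgl, Fin.rev_rev, Matrix.smul_mulVec, Matrix.one_mulVec] at h
        simp at h))
    have hfix := (fixed_of_invariant h2 hp0 hx hxq).1 hkinv
    rw [TransvMax.glOf_mulVec] at hfix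
    have hz : q0 k = 0 := by
      have : ∀ i, k (.inr i) = 0 := fun i => by
        have h := congrFun hfix (.inl i.rev)
        rw [hgl, Fin.rev_rev, add_eq_left] at h
        exact h
      simp [q0, OrthOrder.qPlus_apply, Cfsg.quadFormPlus, this]
    exact hP (plus_transport (((o0 k).2 ⟨0, by rw [hz]; ring⟩).trans hk.symm) qPlus_isPlus)
  · rintro ⟨rfl, hcond⟩ x hx ⟨z, hz⟩ hns
    have hx2 : x * x = 1 := by
      rw [← pow_two]
      exact smul_eq_one h2 (by omega) (pow_mem hx 2) hz
    obtain ⟨R, hR, hRinv⟩ := exists_invariant h2 hx hx2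
    obtain ⟨kR, rfl⟩ := exists_sh h2 hp0 hR
    refine (conj_iff h2 (by omega) hQp hx).2 ?_
    by_cases hiso : Iso Q' (sh q0 kR)
    · exact ⟨kR, hiso, hRinv⟩
    by_cases hts : ∀ k, (x : Matrix (Fin (m + 1) ⊕ Fin (m + 1)) (Fin (m + 1) ⊕ Fin (m + 1)) F) *ᵥ k = k → sh q0 kR k = 0
    · exfalso
      have hev := even_of_ts h2 hR hx hx2 hRinv hts
      rcases hcond with hP | hodd
      · refine hiso ?_
        rcases hcase with ⟨-, h0⟩ | ⟨hnP, -⟩
        · rcases hor kR with h | h
          · exact h0.symm.trans h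
          · exfalso
            -- the fixed space is totally singular of half dimension
            set X := Matrix.toLin' (x : Matrix (Fin (m + 1) ⊕ Fin (m + 1)) (Fin (m + 1) ⊕ Fin (m + 1)) F)
            let K := LinearMap.ker (X + LinearMap.id)
            have hK : ∀ v ∈ K, sh q0 kR v = 0 := fun v hv => hts v (by
              funext i
              have := congrFun (LinearMap.mem_ker.1 hv) i
              simp [X] at this
              linear_combination this - (v i) * h2)
            have hsub : LinearMap.range (X + LinearMap.id) ≤ K := by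
              rintro _ ⟨v, rfl⟩
              rw [LinearMap.mem_ker]
              funext i
              simp [X, Matrix.mulVec_add, Matrix.mulVec_mulVec, ← Units.val_mul, hx2]
              linear_combination (((x : Matrix (Fin (m + 1) ⊕ Fin (m + 1)) (Fin (m + 1) ⊕ Fin (m + 1)) F) *ᵥ v) i + v i) * h2
            have h1 := (X + LinearMap.id).finrank_range_add_finrank_ker
            have h3 := Submodule.finrank_mono hsub
            rw [Module.finrank_fintype_fun_eq_card, Fintype.card_sum, Fintype.card_fin] at h1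
            obtain ⟨g, -, hgR⟩ := h
            let e := (TransvMax.linOf g⁻¹).trans (lastPair m F)
            have h4 := Spinor.minus_ts_finrank_le a b hab (K.map e.toLinearMap) (by
              rintro _ ⟨v, hv, rfl⟩
              refine (hk₁ (TransvMax.linOf g⁻¹ v)).trans ?_
              rw [← hgR]
              show sh q0 kR ((g : Matrix (Fin (m + 1) ⊕ Fin (m + 1)) (Fin (m + 1) ⊕ Fin (m + 1)) F) *ᵥ
                (((g⁻¹ : GL (Fin (m + 1) ⊕ Fin (m + 1)) F) :
                  Matrix (Fin (m + 1) ⊕ Fin (m + 1)) (Fin (m + 1) ⊕ Fin (m + 1)) F) *ᵥ v)) = 0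
              rw [TransvMax.mulVec_inv_mulVec]
              exact hK v hv)
            rw [LinearEquiv.finrank_map_eq] at h4
            change Module.finrank F ↥K ≤ m at h4
            change _ ≤ Module.finrank F ↥K at h3
            change _ + Module.finrank F ↥K = _ at h1
            omega
        · exact absurd hP hnP
      · exact Nat.not_even_iff_odd.2 hodd hev
    push Not at hts
    obtain ⟨k, hk, hk0⟩ := hts
    obtain ⟨s, hs⟩ := exists_not_AS (F := F) h2
    obtain ⟨t, ht⟩ := exists_sqrt h2 (s / sh q0 kR k)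
    have hval : sh q0 kR (t • k) = s := by
      rw [QuadraticMap.map_smul, ht, smul_eq_mul, div_mul_cancel₀ _ hk0]
    have hkk : k₁ + k₁ = 0 := by funext i; exact two_mul_zero h2 _
    -- shifting by a value outside the image changes the class
    have hchange : ∀ R, (R = q0 ∨ R = q1) → Iso R (sh q0 kR) → ¬ Iso R (sh (sh q0 kR) (t • k)) := by
      rintro R hR01 ⟨g, hg, hgR⟩ h
      set w := ((g⁻¹ : GL (Fin (m + 1) ⊕ Fin (m + 1)) F) : Matrix (Fin (m + 1) ⊕ Fin (m + 1)) (Fin (m + 1) ⊕ Fin (m + 1)) F) *ᵥ (t • k) with hw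
      have h' : Iso R (sh R w) := h.trans (Iso.symm ⟨g, hg, fun v => by
        rw [sh_apply, sh_apply R w, hgR]
        conv_lhs => rw [← TransvMax.mulVec_inv_mulVec g (t • k), mem_spGL.1 hg, ← hw]⟩)
      have hRw : R w = s := by rw [← hgR, hw, TransvMax.mulVec_inv_mulVec, hval]
      rcases hR01 with rfl | rfl
      · exact hs (hRw ▸ (o0 w).1 h')
      · rw [sh_sh q0 h2, o1, add_assoc, add_comm w, ← add_assoc, hkk, zero_add] at h'
        exact hs (hRw ▸ h')
    refine ⟨kR + t • k, ?_, ?_⟩
    · rw [← sh_sh q0 h2]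
      rcases hor (kR + t • k) with h | h <;> rw [← sh_sh q0 h2] at h <;>
        rcases hcase with ⟨-, hc⟩ | ⟨-, hc⟩ <;> rcases hor kR with h' | h'
      all_goals first
        | exact hc.symm.trans h
        | exact absurd (hc.symm.trans h') hiso
        | exact absurd h (hchange _ (Or.inl rfl) h')
        | exact absurd h (hchange _ (Or.inr rfl) h')
    · rw [← sh_sh q0 h2]
      exact (fixed_of_invariant h2 hR hx hRinv).2 (by rw [Matrix.mulVec_smul, hk])

end Cfsg.Agent.S5983
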