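import Cfsg.Agent.Lib.TransvMax.UnitaryPairs
import Cfsg.Agent.Lib.TransvMax.Basic
import Cfsg.Agent.Lib.LinearGroups.UnitaryOrder
import Cfsg.Agent.Lib.FormTorus.UnitaryOrders
-- import your own Cfsg.Agent.* helpers here

set_option autoImplicit false
open scoped MatrixGroups
open Cfsg

namespace Cfsg.Agent.S5984

open Cfsg.Agent Cfsg.Agent.FormsLib Cfsg.Agent.UnitaryPairs Module
open scoped Matrix

section Abstract

variable {F V : Type*} [Field F] [AddCommGroup V] [Module F V] {σ : F →+* F}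
  {B : V →ₛₗ[σ] V →ₗ[F] F}

private theorem IsPair.map {U W : Submodule F V} (h : IsPair B U W) {g : V ≃ₗ[F] V} (hg : Preserves B g) :
    IsPair B (U.map (g : V →ₗ[F] V)) (W.map (g : V →ₗ[F] V)) where
  compl := h.compl.map (Submodule.orderIsoMapComap g)
  isoU := by
    rintro _ ⟨a, ha, rfl⟩ _ ⟨b, hb, rfl⟩
    exact (hg a b).trans (h.isoU a ha b hb)
  isoW := by
    rintro _ ⟨a, ha, rfl⟩ _ ⟨b, hb, rfl⟩
    exact (hg a b).trans (h.isoW a ha b hb)

private theorem pull {U W U' W' : Submodule F V} (hc : IsCompl U W) (hc' : IsCompl U' W') {g : V →ₗ[F] V}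
    (hg : Function.Injective g) (hU : ∀ v ∈ U, g v ∈ U') (hW : ∀ v ∈ W, g v ∈ W') {z : V}
    (hz : g z ∈ U') : z ∈ U := by
  obtain ⟨a, ha, b, hb, rfl⟩ := Submodule.mem_sup.1 (hc.sup_eq_top.ge (Submodule.mem_top (x := z)))
  rw [map_add, Submodule.add_mem_iff_right _ (hU a ha)] at hz
  have : b = 0 := hg (by rw [map_zero]; exact Submodule.disjoint_def.1 hc'.disjoint _ hz (hW b hb))
  rw [this, add_zero]
  exact ha

/-- Fix or exchange two subspaces. -/
def Moves (U W : Submodule F V) (y : V → V) : Prop :=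
  ((∀ v ∈ U, y v ∈ U) ∧ (∀ v ∈ W, y v ∈ W)) ∨ ((∀ v ∈ U, y v ∈ W) ∧ (∀ v ∈ W, y v ∈ U))

private theorem not_swap_odd {U W : Submodule F V} (hc : IsCompl U W) (hU : U ≠ ⊥) {y : V ≃ₗ[F] V} {r : ℕ}
    (hr : Odd r) (hy : y ^ r = 1) (h : Moves U W y) : (∀ v ∈ U, y v ∈ U) ∧ (∀ v ∈ W, y v ∈ W) := by
  refine h.resolve_right fun ⟨h1, h2⟩ => hU ?_
  have key : ∀ k : ℕ, ∀ v ∈ U, (y ^ (2 * k)) v ∈ U := by
    intro k
    induction k with
    | zero => intro v hv; exact hv
    | succ k ih =>
      intro v hv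
      rw [show 2 * (k + 1) = 2 + 2 * k by ring, pow_add, pow_two, LinearEquiv.mul_apply, LinearEquiv.mul_apply]
      exact h2 _ (h1 _ (ih v hv))
  obtain ⟨k, rfl⟩ := hr
  rw [Submodule.eq_bot_iff]
  intro v hv
  refine Submodule.disjoint_def.1 hc.disjoint v hv ?_
  have h3 := h1 _ (key k v hv)
  rwa [← LinearEquiv.mul_apply, ← pow_succ', hy] at h3

/-- A non-degenerate space with an orthonormal basis of even size is the sum of two isotropic halves. -/
private theorem even_pair [Finite F] [FiniteDimensional F V] (hB : IsTraceForm σ 1 B) (hσ : σ ≠ RingHom.id F)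
    (h2 : (2 : F) ≠ 0) {l : F} (hl : l * σ l = -1) (P : Submodule F V)
    (hP : ∀ u ∈ P, (∀ v ∈ P, B u v = 0) → u = 0) (hev : Even (finrank F P)) :
    ∃ U W : Submodule F V, U ⊔ W = P ∧ (∀ u ∈ U, ∀ v ∈ U, B u v = 0) ∧
      (∀ u ∈ W, ∀ v ∈ W, B u v = 0) ∧ finrank F U + finrank F W ≤ finrank F P := by
  classical
  obtain ⟨k, hk⟩ := hev
  obtain ⟨b, hb⟩ := FormModel.exists_orthonormal σ hσ hB.invol (FormModel.restr B P)
    ⟨fun x y => by
      show σ (B (x : V) (y : V)) = B (y : V) (x : V)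
      rw [hB.flip (x : V) (y : V), one_mul]⟩
    ⟨fun x hx => Subtype.ext (hP x x.2 fun v hv => hx ⟨v, hv⟩),
      fun x hx => Subtype.ext (hP x x.2 fun v hv => flip_zero hB (hx ⟨v, hv⟩))⟩
  let e : Fin k ⊕ Fin k ≃ Fin (finrank F P) := finSumFinEquiv.trans (finCongr hk.symm)
  have hbb : ∀ i j, B (b i : V) (b j : V) = if i = j then 1 else 0 := fun i j => hb i j
  let f : F → Fin k → V := fun c i => (b (e (.inl i)) : V) + c • (b (e (.inr i)) : V)
  have hiso : ∀ c, σ c * c = -1 → ∀ u ∈ Submodule.span F (Set.range (f c)),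
      ∀ v ∈ Submodule.span F (Set.range (f c)), B u v = 0 := by
    intro c hc
    have hgen : ∀ i j, B (f c i) (f c j) = 0 := by
      intro i j
      simp only [f, map_add, LinearMap.add_apply, map_smulₛₗ, LinearMap.smul_apply, map_smul,
        smul_eq_mul, RingHom.id_apply, hbb, e.apply_eq_iff_eq, reduceCtorEq, if_false, mul_zero, add_zero,
        zero_add, Sum.inl.injEq, Sum.inr.injEq]
      split_ifs with hij
      · linear_combination hc
      · ring
    intro u hu v hv
    induction hu using Submodule.span_induction with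
    | mem u hu =>
      obtain ⟨i, rfl⟩ := hu
      induction hv using Submodule.span_induction with
      | mem v hv => obtain ⟨j, rfl⟩ := hv; exact hgen i j
      | zero => simp
      | add _ _ _ _ h1 h2 => simp [map_add, h1, h2]
      | smul _ _ _ h1 => simp [h1]
    | zero => simp
    | add _ _ _ _ h1 h2 => simp [map_add, h1, h2]
    | smul _ _ _ h1 => simp [map_smulₛₗ, h1]
  refine ⟨Submodule.span F (Set.range (f l)), Submodule.span F (Set.range (f (-l))), ?_,
    hiso l (by rw [mul_comm]; exact hl), hiso (-l) (by rw [map_neg, neg_mul_neg, mul_comm]; exact hl), ?_⟩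
  · refine le_antisymm (sup_le ?_ ?_) ?_
    · rw [Submodule.span_le]; rintro _ ⟨i, rfl⟩; exact P.add_mem (b _).2 (P.smul_mem _ (b _).2)
    · rw [Submodule.span_le]; rintro _ ⟨i, rfl⟩; exact P.add_mem (b _).2 (P.smul_mem _ (b _).2)
    · intro v hv
      rw [show v = ((⟨v, hv⟩ : P) : V) from rfl, ← b.sum_repr ⟨v, hv⟩, Submodule.coe_sum]
      refine Submodule.sum_mem _ fun j _ => ?_
      rw [Submodule.coe_smul]
      refine Submodule.smul_mem _ _ ?_
      have hl0 : l ≠ 0 := fun h => by simp [h] at hl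
      have h2l : (2 * l)⁻¹ * (2 * l) = 1 := inv_mul_cancel₀ (mul_ne_zero h2 hl0)
      obtain ⟨i | i, rfl⟩ := e.surjective j
      · have : (b (e (.inl i)) : V) = (2 : F)⁻¹ • (f l i + f (-l) i) := by
          simp only [f]
          match_scalars <;> field_simp <;> ring
        rw [this]
        exact Submodule.smul_mem _ _ (Submodule.add_mem_sup (Submodule.subset_span ⟨i, rfl⟩)
          (Submodule.subset_span ⟨i, rfl⟩))
      · have : (b (e (.inr i)) : V) = (2 * l)⁻¹ • (f l i + (-1 : F) • f (-l) i) := by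
          simp only [f]
          match_scalars <;> field_simp <;> ring
        rw [this]
        exact Submodule.smul_mem _ _ (Submodule.add_mem_sup (Submodule.subset_span ⟨i, rfl⟩)
          (Submodule.smul_mem _ _ (Submodule.subset_span ⟨i, rfl⟩)))
  · have h1 := finrank_range_le_card (R := F) (f l)
    have h3 := finrank_range_le_card (R := F) (f (-l))
    rw [Set.finrank, Fintype.card_fin] at h1 h3
    omega

end Abstract

variable {F : Type*} [Field F] [Fintype F] {q : ℕ} [AutPSU.QField F q] {n : ℕ}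

local notation "σ" => ((AutPSU.qb (F := F) q : F ≃+* F) : F →+* F)
local notation "Bn" => hermB (F := F) n σ

private theorem tf (hq : Fintype.card F = q ^ 2) : IsTraceForm σ 1 (Bn) :=
  (hermB_isUnitary hq n FormTorus.sigma_apply FormTorus.sigma_sigma
    (AutPSU.two_le_q (F := F))).1.tf

private theorem mem_GU {x : GL (Fin n) F} : x ∈ Cfsg.GU n F q ↔ Preserves (Bn) (TransvMax.linOf x) := by
  constructor
  · intro h u v
    rw [hermB_apply FormTorus.sigma_apply, hermB_apply FormTorus.sigma_apply]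
    exact h v u
  · intro h u v
    have := h v u
    rw [hermB_apply FormTorus.sigma_apply, hermB_apply FormTorus.sigma_apply] at this
    exact this

private theorem mem_S {x : GL (Fin n) F} : x ∈ Cfsg.GU n F q ⊓ Cfsg.Geo.specialLinear (Fin n) F ↔
    Preserves (Bn) (TransvMax.linOf x) ∧ LinearMap.det (TransvMax.linOf x : (Fin n → F) →ₗ[F] (Fin n → F)) = 1 := by
  rw [Subgroup.mem_inf, mem_GU]
  refine and_congr_right' ?_
  have h : LinearMap.det (TransvMax.linOf x : (Fin n → F) →ₗ[F] (Fin n → F)) = (x : Matrix (Fin n) (Fin n) F).det :=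
    LinearMap.det_toLin' _
  rw [h]
  exact ⟨fun h => congrArg Units.val (h : Matrix.GeneralLinearGroup.det x = 1),
    fun h => (Units.ext h : Matrix.GeneralLinearGroup.det x = 1)⟩

private theorem linOf_glOf (g : (Fin n → F) ≃ₗ[F] (Fin n → F)) : TransvMax.linOf (TransvMax.glOf g) = g :=
  LinearEquiv.ext fun v => TransvMax.glOf_mulVec g v

private theorem norm_pow {c : F} : c * σ c = 1 ↔ c ^ (q + 1) = 1 := by
  rw [FormTorus.sigma_apply, pow_succ']

open scoped Classical in
/-- Diagonal isometries. -/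
private theorem exists_diag (hq : Fintype.card F = q ^ 2) (δ : Fin n → F) (hδ : ∀ i, δ i * σ (δ i) = 1) (c : F) :
    ∃ g : (Fin n → F) ≃ₗ[F] (Fin n → F), Preserves (Bn) g ∧
      LinearMap.det (g : (Fin n → F) →ₗ[F] (Fin n → F)) = ∏ i, δ i ∧ (∀ v i, g v i = δ i * v i) ∧
      (∀ k : ℕ, ∀ v i, (g ^ k) v i = δ i ^ k * v i) ∧
      (∀ u ∈ LinearMap.range ((g : (Fin n → F) →ₗ[F] (Fin n → F)) - c • LinearMap.id),
        (∀ v ∈ LinearMap.range ((g : (Fin n → F) →ₗ[F] (Fin n → F)) - c • LinearMap.id), (Bn) u v = 0) → u = 0) ∧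
      finrank F (LinearMap.range ((g : (Fin n → F) →ₗ[F] (Fin n → F)) - c • LinearMap.id)) =
        (Finset.univ.filter fun i => δ i ≠ c).card := by
  classical
  let L : (Fin n → F) →ₗ[F] (Fin n → F) := Matrix.toLin' (Matrix.diagonal δ)
  have hL : ∀ v i, L v i = δ i * v i := fun v i => by simp [L, Matrix.mulVec_diagonal]
  obtain ⟨g, hg, hgL⟩ := (tf hq).exists_equiv L (fun u v => by
    show ∑ i, L v i * σ (L u i) = ∑ i, v i * σ (u i)
    refine Finset.sum_congr rfl fun i _ => ?_
    rw [hL, hL, map_mul]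
    linear_combination (v i * σ (u i)) * hδ i)
  have hgl : (g : (Fin n → F) →ₗ[F] (Fin n → F)) = L := LinearMap.ext hgL
  have hR : (g : (Fin n → F) →ₗ[F] (Fin n → F)) - c • LinearMap.id =
      Matrix.toLin' (Matrix.diagonal fun i => δ i - c) := by
    refine LinearMap.ext fun v => funext fun i => ?_
    rw [hgl]
    simp [hL, Matrix.mulVec_diagonal, sub_mul]
  refine ⟨g, hg, by rw [hgl, LinearMap.det_toLin', Matrix.det_diagonal], fun v i => by rw [hgL, hL],
    fun k => ?_, ?_, ?_⟩
  · induction k with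
    | zero => intro v i; simp
    | succ k ih =>
      intro v i
      rw [pow_succ', LinearEquiv.mul_apply, hgL, hL, ih, pow_succ']
      ring
  · rw [hR]
    rintro _ ⟨a, rfl⟩ h
    funext i
    have := h _ ⟨Pi.single i 1, rfl⟩
    rw [hermB_apply FormTorus.sigma_apply] at this
    simp only [Matrix.toLin'_apply, Matrix.mulVec_diagonal, hermForm] at this
    rw [Finset.sum_eq_single i (fun j _ hj => by simp [Pi.single_eq_of_ne hj]) (by simp),
      Pi.single_eq_same, mul_one] at this
    simp only [Matrix.toLin'_apply, Matrix.mulVec_diagonal, Pi.zero_apply]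
    rcases mul_eq_zero.1 this with h0 | h0
    · rw [h0, zero_mul]
    · exact eq_zero_of_pow_eq_zero h0
  · rw [hR]
    show (Matrix.diagonal fun i => δ i - c).rank = _
    rw [Matrix.rank_diagonal, Fintype.card_subtype]
    simp only [sub_ne_zero]

/-- An element of order `r` with a non-degenerate moved space of odd dimension. -/
private theorem exists_odd_elt {p : ℕ} [Fact p.Prime] [CharP F p] (hq : Fintype.card F = q ^ 2) (hn : 4 ≤ n)
    {r : ℕ} (hr : r.Prime) (hr2 : r ≠ 2) {i : ℕ} (hi : Odd i) (hin : i < n) (hri : r ∣ q ^ i + 1) :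
    ∃ g : (Fin n → F) ≃ₗ[F] (Fin n → F), Preserves (Bn) g ∧
      LinearMap.det (g : (Fin n → F) →ₗ[F] (Fin n → F)) = 1 ∧ g ^ r = 1 ∧
      (∀ u ∈ LinearMap.range ((g : (Fin n → F) →ₗ[F] (Fin n → F)) - (1 : F) • LinearMap.id),
        (∀ v ∈ LinearMap.range ((g : (Fin n → F) →ₗ[F] (Fin n → F)) - (1 : F) • LinearMap.id),
          (Bn) u v = 0) → u = 0) ∧
      Odd (finrank F (LinearMap.range ((g : (Fin n → F) →ₗ[F] (Fin n → F)) - (1 : F) • LinearMap.id))) := by
  classical
  haveI := Fact.mk hr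
  have hq2 : 2 ≤ q := AutPSU.two_le_q (F := F)
  by_cases h1 : r ∣ q + 1
  · obtain ⟨z₀, hz, hz1⟩ := FormTorus.exists_zeta (F := F) hr h1
    rw [← orderOf_units] at hz
    set z := (z₀ : F)
    have hzne : z ≠ 1 := by
      intro e; rw [e, orderOf_one] at hz; exact hr.ne_one hz.symm
    have hz2 : z ^ 2 ≠ 1 := fun e => by
      have := orderOf_dvd_of_pow_eq_one e
      rw [hz] at this
      exact hr2 ((Nat.prime_dvd_prime_iff_eq hr Nat.prime_two).1 this)
    have hzr : z ^ r = 1 := hz ▸ pow_orderOf_eq_one z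
    let δ : Fin n → F := fun k => if (k : ℕ) < 2 then z else if (k : ℕ) = 2 then (z ^ 2)⁻¹ else 1
    obtain ⟨g, hg, hdet, hgv, hgp, hnd, hrank⟩ := exists_diag hq δ (fun k => by
      rw [norm_pow]
      simp only [δ]
      split_ifs
      · exact hz1
      · rw [inv_pow, ← pow_mul, mul_comm, pow_mul, hz1, one_pow, inv_one]
      · exact one_pow _) 1
    refine ⟨g, hg, ?_, LinearEquiv.ext fun v => funext fun k => ?_, hnd, ?_⟩
    · rw [hdet]
      obtain ⟨l, rfl⟩ : ∃ l, n = l + 3 := ⟨n - 3, by omega⟩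
      rw [Fin.prod_univ_succ, Fin.prod_univ_succ, Fin.prod_univ_succ]
      simp only [δ, Fin.val_succ, Fin.val_zero]
      norm_num [show ∀ a : ℕ, a + 1 + 1 + 1 ≠ 2 from fun a => by omega]
      field_simp
      exact div_self (Units.ne_zero z₀)

    · rw [hgp]
      have : δ k ^ r = 1 := by
        simp only [δ]
        split_ifs
        · exact hzr
        · rw [inv_pow, ← pow_mul, mul_comm, pow_mul, hzr, one_pow, inv_one]
        · exact one_pow _
      rw [this, one_mul]
      rfl
    · rw [hrank]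
      have : (Finset.univ.filter fun k => δ k ≠ 1) = (Finset.univ.filter fun k : Fin n => (k : ℕ) < 3) := by
        refine Finset.filter_congr fun k _ => ?_
        simp only [δ]
        split_ifs with h h'
        · exact ⟨fun _ => by omega, fun _ => hzne⟩
        · exact ⟨fun _ => by omega, fun _ => inv_ne_one.2 hz2⟩
        · exact ⟨fun h'' => absurd rfl h'', fun _ => by omega⟩
      rw [this, Fin.card_filter_val_lt, min_eq_right (by omega)]
      exact ⟨1, rfl⟩
  · -- a field model in the least odd dimension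
    have hex : ∃ e, Odd e ∧ r ∣ q ^ e + 1 := ⟨i, hi, hri⟩
    set e := Nat.find hex
    obtain ⟨heo, her⟩ := Nat.find_spec hex
    have hen : e < n := lt_of_le_of_lt (Nat.find_le ⟨hi, hri⟩) hin
    have he1 : e ≠ 1 := fun h => h1 (by rw [show Nat.find hex = 1 from h, pow_one] at her; exact her)
    haveI : NeZero e := ⟨fun h => by rw [show Nat.find hex = 0 from h] at heo; exact absurd heo (by decide)⟩
    obtain ⟨k₀, hk₀⟩ := heo
    have hcF : Nat.card F = q ^ 2 := by rw [Nat.card_eq_fintype_card, hq]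
    obtain ⟨⟨a, ha⟩, -, hcard⟩ := FiniteField.card F p
    set K := FiniteField.Extension F p e
    have hK : Nat.card K = (q ^ 2) ^ e := by rw [FiniteField.natCard_extension, hcF]
    have hfr : finrank F K = e := FiniteField.finrank_extension F p e
    haveI : Finite K := Nat.finite_of_card_ne_zero (by rw [hK]; positivity)
    haveI : Module.Finite F K := Module.Finite.of_finite
    haveI : Fintype K := Fintype.ofFinite K
    haveI : CharP K p := charP_of_injective_algebraMap (algebraMap F K).injective p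
    haveI : ExpChar K p := ExpChar.prime Fact.out
    obtain ⟨f, -, hqf⟩ := (Nat.dvd_prime_pow (Fact.out : p.Prime)).1
      ((hq ▸ hcard : q ^ 2 = p ^ a) ▸ dvd_pow_self q two_ne_zero)
    let τ : K →+* K := iterateFrobenius K p (f * e)
    have hτ : ∀ z, τ z = z ^ q ^ e := fun z => by rw [hqf, ← pow_mul, iterateFrobenius_def]
    have hodd : ∀ c : F, c ^ q ^ e = c ^ q := fun c => by
      rw [show e = 2 * k₀ + 1 from hk₀, pow_succ, pow_mul, pow_mul, ← hq, FiniteField.pow_card_pow]
    have hτc : ∀ c, τ (algebraMap F K c) = algebraMap F K (σ c) := fun c => by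
      rw [hτ, ← map_pow, hodd, FormTorus.sigma_apply]
    have hττ : ∀ z, τ (τ z) = z := fun z => by
      rw [hτ, hτ, ← pow_mul, ← pow_two, ← pow_mul, mul_comm e 2, pow_mul, ← hK,
        Nat.card_eq_fintype_card, FiniteField.pow_card]
    have htr : ∀ z, Algebra.trace F K (τ z) = σ (Algebra.trace F K z) := fun z => by
      refine (algebraMap F K).injective ?_
      rw [← hτc, FiniteField.algebraMap_trace_eq_sum_pow, FiniteField.algebraMap_trace_eq_sum_pow,
        map_sum]
      simp only [map_pow]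
    have hdK : r ∣ Nat.card Kˣ := by
      rw [Nat.card_units, hK, ← pow_mul, mul_comm 2 e, pow_mul]
      refine dvd_trans her (Dvd.intro (q ^ e - 1) ?_)
      rw [← Nat.sq_sub_sq, one_pow]
    obtain ⟨y, hy⟩ := exists_prime_orderOf_dvd_card' r hdK
    have hyr : (y : K) ^ r = 1 := by
      rw [← Units.val_pow_eq_pow_val, ← hy, pow_orderOf_eq_one, Units.val_one]
    have hy1 : (y : K) ≠ 1 := fun h => hr.ne_one (by rw [← hy, orderOf_eq_one_iff]; exact Units.ext h)
    have hyy : τ (y : K) * (y : K) = 1 := by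
      obtain ⟨t, ht⟩ := her
      rw [hτ, ← pow_succ, ht, pow_mul, hyr, one_pow]
    -- determinant one
    have hnorm : Algebra.norm F (y : K) = 1 := by
      refine (algebraMap F K).injective ?_
      rw [FiniteField.algebraMap_norm_eq_pow_sum, hfr, hcF, map_one]
      have hsum : (r : ℤ) ∣ ∑ j ∈ Finset.range e, ((q : ℤ) ^ 2) ^ j := by
        have h2 : ((∑ j ∈ Finset.range e, ((q : ℤ) ^ 2) ^ j)) * ((q : ℤ) ^ 2 - 1) = ((q : ℤ) ^ e + 1) * ((q : ℤ) ^ e - 1) := by
          rw [geom_sum_mul, ← pow_mul]; ring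
        have h3 : (r : ℤ) ∣ (q : ℤ) ^ e + 1 := by exact_mod_cast her
        have h4 := h2 ▸ Dvd.dvd.mul_right h3 _
        refine ((Nat.prime_iff_prime_int.1 hr).dvd_or_dvd h4).resolve_right fun h5 => ?_
        rw [show (q : ℤ) ^ 2 - 1 = ((q : ℤ) + 1) * ((q : ℤ) - 1) by ring] at h5
        rcases (Nat.prime_iff_prime_int.1 hr).dvd_or_dvd h5 with h6 | h6
        · exact h1 (by exact_mod_cast h6)
        · have h7 : (r : ℤ) ∣ 2 := by
            have h8 := h6.trans (sub_dvd_pow_sub_pow (q : ℤ) 1 e)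
            have h9 := dvd_sub h3 h8
            simpa using h9
          exact hr2 ((Nat.prime_dvd_prime_iff_eq hr Nat.prime_two).1 (by exact_mod_cast h7))
      obtain ⟨t, ht⟩ : r ∣ ∑ j ∈ Finset.range e, (q ^ 2) ^ j := by exact_mod_cast hsum
      rw [ht, pow_mul, hyr, one_pow]
    set W := Fin (n - e) → F
    let m₀ := (LinearEquiv.smulOfUnit y : K ≃ₗ[K] K).restrictScalars F
    have hm₀ : ∀ v : K, m₀ v = (y : K) * v := fun v => rfl
    let g₁ : (K × W) ≃ₗ[F] (K × W) := m₀.prodCongr (LinearEquiv.refl F W)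
    have hB₁ := FormTorus.prodB_isFlip (FormTorus.fieldB_isFlip σ (1 : F) τ hτc htr hττ 1 (by simp) one_ne_zero)
      (FormTorus.hermB_flip (F := F) (q := q) (n - e))
    obtain ⟨Φ, hΦ⟩ := FormTorus.exists_isometry_fin hB₁ (n := n) (by
      rw [Module.finrank_prod, hfr, Module.finrank_fin_fun]; omega)
    have hΦB : ∀ u v, (Bn) (Φ u) (Φ v) = FormTorus.prodB σ (FormTorus.fieldB σ τ hτc (1 : K)) (hermB (n - e) σ) u v :=
      fun u v => by rw [hermB_apply FormTorus.sigma_apply, hΦ]
    have hg₁ := FormTorus.preserves_prodCongr (B₁ := FormTorus.fieldB σ τ hτc (1 : K)) (B₂ := hermB (n - e) σ)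
      (g₁ := m₀) (g₂ := LinearEquiv.refl F W)
      (fun u v => by rw [hm₀, hm₀]; exact FormTorus.fieldB_mul σ τ hτc 1 _ hyy u v) (fun u v => rfl)
    let g := Φ.symm.trans (g₁.trans Φ)
    have hgv : ∀ v, g (Φ v) = Φ (g₁ v) := fun v => by simp [g]
    have hpow : ∀ j : ℕ, ∀ v, (g ^ j) (Φ v) = Φ ((y : K) ^ j * v.1, v.2) := by
      intro j
      induction j with
      | zero => intro v; simp
      | succ j ih =>
        intro v
        rw [pow_succ', LinearEquiv.mul_apply, ih, hgv, pow_succ', mul_assoc]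
        rfl
    have hrange : LinearMap.range ((g : (Fin n → F) →ₗ[F] (Fin n → F)) - (1 : F) • LinearMap.id) =
        LinearMap.range ((Φ : (K × W) →ₗ[F] (Fin n → F)) ∘ₗ LinearMap.inl F K W) := by
      refine le_antisymm ?_ ?_
      · rintro _ ⟨v, rfl⟩
        obtain ⟨w, rfl⟩ := Φ.surjective v
        refine ⟨(y : K) * w.1 - w.1, ?_⟩
        simp only [LinearMap.comp_apply, LinearMap.inl_apply, LinearMap.sub_apply, LinearMap.smul_apply,
          LinearMap.id_apply, one_smul, LinearEquiv.coe_coe, hgv]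
        rw [← map_sub]
        exact congrArg Φ (Prod.ext rfl (sub_self _).symm)
      · rintro _ ⟨a, rfl⟩
        refine ⟨Φ ((((y : K) - 1)⁻¹ * a), 0), ?_⟩
        simp only [LinearMap.comp_apply, LinearMap.inl_apply, LinearMap.sub_apply, LinearMap.smul_apply,
          LinearMap.id_apply, one_smul, LinearEquiv.coe_coe, hgv]
        rw [← map_sub]
        refine congrArg Φ (Prod.ext ?_ (sub_self _))
        show (y : K) * _ - _ = a
        rw [← sub_one_mul, mul_inv_cancel_left₀ (sub_ne_zero.2 hy1)]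
    refine ⟨g, fun u v => ?_, ?_, ?_, ?_, ?_⟩
    · obtain ⟨u, rfl⟩ := Φ.surjective u
      obtain ⟨v, rfl⟩ := Φ.surjective v
      rw [hgv, hgv, hΦB, hΦB]
      exact hg₁ u v
    · show LinearMap.det ((Φ : (K × W) →ₗ[F] (Fin n → F)) ∘ₗ (g₁ : (K × W) →ₗ[F] (K × W)) ∘ₗ
        (Φ.symm : (Fin n → F) →ₗ[F] (K × W))) = 1
      rw [LinearMap.det_conj, show (g₁ : (K × W) →ₗ[F] (K × W)) =
        LinearMap.prodMap (LinearMap.mulLeft F (y : K)) LinearMap.id from rfl, LinearMap.det_prodMap,
        LinearMap.det_id, mul_one]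
      exact hnorm
    · refine LinearEquiv.ext fun v => ?_
      obtain ⟨w, rfl⟩ := Φ.surjective v
      rw [hpow, hyr, one_mul]
      rfl
    · rw [hrange]
      rintro _ ⟨a, rfl⟩ h
      have : a = 0 := (FormTorus.fieldB_isFlip σ (1 : F) τ hτc htr hττ 1 (by simp) one_ne_zero).nondeg a
        fun b => by
          have h0 := h _ ⟨b, rfl⟩
          simpa [hΦB, FormTorus.prodB_apply] using h0
      rw [this, map_zero]
    · rw [hrange, LinearMap.finrank_range_of_inj (f := (Φ : (K × W) →ₗ[F] (Fin n → F)) ∘ₗ LinearMap.inl F K W) (Φ.injective.comp LinearMap.inl_injective), hfr]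
      exact ⟨k₀, hk₀⟩

private theorem gl_prod (Q m : ℕ) : ∃ A, ∏ i ∈ Finset.range m, (Q ^ m - Q ^ i) =
    Q ^ A * ∏ i ∈ Finset.range m, (Q ^ (i + 1) - 1) := by
  induction m with
  | zero => exact ⟨0, by simp⟩
  | succ m ih =>
    obtain ⟨A, hA⟩ := ih
    refine ⟨A + m, ?_⟩
    have h0 : ∀ i, Q ^ (m + 1) - Q ^ (i + 1) = Q * (Q ^ m - Q ^ i) := fun i => by
      rw [Nat.mul_sub, pow_succ', pow_succ']
    rw [Finset.prod_range_succ', Finset.prod_congr rfl (fun i _ => h0 i), Finset.prod_mul_distrib,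
      Finset.prod_const, Finset.card_range, hA, Finset.prod_range_succ, pow_zero, pow_add]
    ring

/-- The odd prime divisors of the index. -/
private theorem dvd_index (hq : Fintype.card F = q ^ 2) {m : ℕ} (hnm : n = m + m) {U W : Submodule F (Fin n → F)}
    (h : IsPair (Bn) U W) (hU : finrank F U = m) (H : Subgroup (GL (Fin n) F))
    (hH : ∀ x ∈ Cfsg.GU n F q ⊓ Cfsg.Geo.specialLinear (Fin n) F,
      (∀ v ∈ U, TransvMax.linOf x v ∈ U) → (∀ v ∈ W, TransvMax.linOf x v ∈ W) → x ∈ H)
    {r : ℕ} (hr : r.Prime) (hrq : ¬ r ∣ q)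
    (hΩ : r ∣ H.relIndex (Cfsg.GU n F q ⊓ Cfsg.Geo.specialLinear (Fin n) F)) :
    ∃ i, Odd i ∧ i < n ∧ r ∣ q ^ i + 1 := by
  classical
  have hB := tf (n := n) hq
  set S := Cfsg.GU n F q ⊓ Cfsg.Geo.specialLinear (Fin n) F
  let L : Subgroup (GL (Fin n) F) :=
    { carrier := {x | x ∈ Cfsg.GU n F q ∧ (∀ v ∈ U, TransvMax.linOf x v ∈ U) ∧ ∀ v ∈ W, TransvMax.linOf x v ∈ W}
      one_mem' := ⟨one_mem _, fun v hv => by simpa using hv, fun v hv => by simpa using hv⟩
      mul_mem' := fun {a b} ha hb => ⟨mul_mem ha.1 hb.1,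
        fun v hv => by simpa using ha.2.1 _ (hb.2.1 v hv),
        fun v hv => by simpa using ha.2.2 _ (hb.2.2 v hv)⟩
      inv_mem' := fun {a} ha => ⟨inv_mem ha.1,
        fun v hv => pull h.compl h.compl (g := (TransvMax.linOf a : (Fin n → F) →ₗ[F] (Fin n → F)))
          (TransvMax.linOf a).injective ha.2.1 ha.2.2 (by simpa [TransvMax.mulVec_inv_mulVec] using hv),
        fun v hv => pull h.compl.symm h.compl.symm (g := (TransvMax.linOf a : (Fin n → F) →ₗ[F] (Fin n → F)))
          (TransvMax.linOf a).injective ha.2.2 ha.2.1 (by simpa [TransvMax.mulVec_inv_mulVec] using hv)⟩ }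
  -- restriction to the first member
  let ρ : L →* Module.End F U :=
    { toFun := fun x => (TransvMax.linOf (x : GL (Fin n) F) : (Fin n → F) →ₗ[F] (Fin n → F)).restrict x.2.2.1
      map_one' := LinearMap.ext fun v => Subtype.ext (by simp)
      map_mul' := fun a b => LinearMap.ext fun v => Subtype.ext (by simp) }
  have hsurj : Function.Surjective ρ.toHomUnits := by
    intro A
    let eA := LinearMap.GeneralLinearGroup.generalLinearEquiv F U A
    let bU := finBasisOfFinrankEq F U hU
    obtain ⟨b, hb, hbl, hbr⟩ := exists_hyp hB h bU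
    obtain ⟨b', hb', hbl', hbr'⟩ := exists_hyp hB h (bU.map eA)
    let g := b.equiv b' (Equiv.refl _)
    have hg : ∀ i, g (b i) = b' i := fun i => Basis.equiv_apply _ _ _ _
    have hp : Preserves (Bn) g := by
      refine preserves_of_basis b fun i j => ?_
      rw [hg, hg]
      obtain ⟨h1, h2, h3, h4⟩ := hb
      obtain ⟨k1, k2, k3, k4⟩ := hb'
      rcases i with i | i <;> rcases j with j | j
      · rw [k1, h1]
      · rw [k3, h3]
      · rw [k4, h4]
      · rw [k2, h2]
    have hl2 : ∀ i, b (.inl i) ∈ U := fun i => hbl i ▸ (bU i).2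
    have hgU : ∀ v ∈ U, g v ∈ U := fun v hv => mem_of_hyp h.compl hl2 hbr
      (g := (g : (Fin n → F) →ₗ[F] (Fin n → F))) (fun i => by
        rw [LinearEquiv.coe_coe, hg, hbl']; exact (bU.map eA i).2) hv
    have hgW : ∀ v ∈ W, g v ∈ W := fun v hv => mem_of_hyp h.compl.symm (b := b.reindex (Equiv.sumComm _ _))
      (g := (g : (Fin n → F) →ₗ[F] (Fin n → F)))
      (fun i => by rw [Basis.reindex_apply]; exact hbr i)
      (fun i => by rw [Basis.reindex_apply]; exact hl2 i)
      (fun i => by rw [Basis.reindex_apply, LinearEquiv.coe_coe, hg]; exact hbr' i) hv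
    refine ⟨⟨TransvMax.glOf g, mem_GU.2 (by rw [linOf_glOf]; exact hp), fun v hv => ?_, fun v hv => ?_⟩, ?_⟩
    · rw [linOf_glOf]; exact hgU v hv
    · rw [linOf_glOf]; exact hgW v hv
    · refine Units.ext (bU.ext fun i => Subtype.ext ?_)
      show TransvMax.linOf (TransvMax.glOf g) (bU i : Fin n → F) = _
      rw [linOf_glOf, ← hbl, hg, hbl', Basis.map_apply]
      rfl
  have hGL : Nat.card (Module.End F U)ˣ = ∏ i ∈ Finset.range m, ((q ^ 2) ^ m - (q ^ 2) ^ i) := by
    rw [← Nat.card_congr (Matrix.GeneralLinearGroup.toLin' (finBasisOfFinrankEq F U hU)).toEquiv,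
      Matrix.card_GL_field, hq, Finset.prod_range]
  have hdvdL : Nat.card (Module.End F U)ˣ ∣ Nat.card L := Subgroup.card_dvd_of_surjective _ hsurj
  -- compare with the index
  have hdet : H.relIndex S * Nat.card L ∣ Nat.card (Cfsg.GU n F q) := by
    let d : GL (Fin n) F →* Fˣ := Matrix.GeneralLinearGroup.det
    have key : ∀ A : Subgroup (GL (Fin n) F), Nat.card (A ⊓ Cfsg.Geo.specialLinear (Fin n) F : Subgroup _) *
        Nat.card (A.map d) = Nat.card A := fun A => by
      rw [← Subgroup.range_subtype A, ← MonoidHom.range_comp, Subgroup.range_subtype, ← Subgroup.index_ker,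
        ← Subgroup.card_mul_index (d.comp A.subtype).ker]
      congr 1
      refine Nat.card_congr (Equiv.symm ?_)
      exact {
        toFun := fun x => ⟨x.1.1, x.1.2, x.2⟩
        invFun := fun x => ⟨⟨x.1, x.2.1⟩, x.2.2⟩
        left_inv := fun x => rfl
        right_inv := fun x => rfl }
    have hLH : Nat.card L ∣ Nat.card (H ⊓ S : Subgroup _) * Nat.card ((Cfsg.GU n F q).map d) := by
      rw [← key L]
      exact Nat.mul_dvd_mul (Subgroup.card_dvd_of_le fun x hx =>
        ⟨hH x ⟨hx.1.1, hx.2⟩ hx.1.2.1 hx.1.2.2, hx.1.1, hx.2⟩)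
        (Subgroup.card_dvd_of_le (Subgroup.map_mono fun x hx => hx.1))
    have hidx : H.relIndex S * Nat.card (H ⊓ S : Subgroup _) = Nat.card S := by
      rw [mul_comm, ← Subgroup.inf_relIndex_right, ← Subgroup.relIndex_bot_left,
        ← Subgroup.relIndex_bot_left (H := S)]
      exact Subgroup.relIndex_mul_relIndex _ _ _ bot_le inf_le_right
    refine (Nat.mul_dvd_mul_left _ hLH).trans ?_
    rw [← mul_assoc, hidx, ← key (Cfsg.GU n F q)]
  have hmain := (Nat.mul_dvd_mul hΩ hdvdL).trans hdet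
  obtain ⟨A, hA⟩ := gl_prod (q ^ 2) m
  rw [hGL, hA, UnitaryOrder.card_GU hq, hnm] at hmain
  set f : ℕ → ℕ := fun i => if Even i then q ^ (i + 1) + 1 else q ^ (i + 1) - 1 with hf
  have hsplit : ∀ k, ∏ i ∈ Finset.range (k + k), f i =
      (∏ j ∈ Finset.range k, (q ^ (2 * j + 1) + 1)) * ∏ j ∈ Finset.range k, ((q ^ 2) ^ (j + 1) - 1) := by
    intro k
    induction k with
    | zero => simp
    | succ k ih =>
      rw [show k + 1 + (k + 1) = k + k + 1 + 1 by ring, Finset.prod_range_succ, Finset.prod_range_succ, ih,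
        Finset.prod_range_succ, Finset.prod_range_succ]
      have h1 : f (k + k) = q ^ (2 * k + 1) + 1 := by simp [hf, two_mul]
      have h2 : f (k + k + 1) = (q ^ 2) ^ (k + 1) - 1 := by
        simp [hf, Nat.even_add_one]
        rw [← pow_mul]; congr 2; ring
      rw [h1, h2]; ring
  rw [hsplit] at hmain
  have hq2 : 2 ≤ q := AutPSU.two_le_q (F := F)
  have hP : 0 < ∏ j ∈ Finset.range m, ((q ^ 2) ^ (j + 1) - 1) :=
    Finset.prod_pos fun j _ => by
      have : 1 < (q ^ 2) ^ (j + 1) := Nat.one_lt_pow (by omega) (Nat.one_lt_pow two_ne_zero hq2)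
      omega
  rw [← mul_assoc, ← mul_assoc] at hmain
  have hd := (Dvd.intro _ rfl).trans (Nat.dvd_of_mul_dvd_mul_right hP hmain)
  rcases hr.dvd_mul.1 hd with h' | h'
  · exact absurd (hr.dvd_of_dvd_pow h') hrq
  · obtain ⟨j, hj, hj'⟩ := (Prime.dvd_finsetProd_iff hr.prime _).1 h'
    exact ⟨2 * j + 1, ⟨j, rfl⟩, by have := Finset.mem_range.1 hj; omega, hj'⟩


/-- Elements of prime order of PSU_n(q) and the stabilizers of pairs of complementary totally singular subspaces. Here `T = PSU_n(q)` is realised through `SU_n(q)`, the matrices of determinant 1 over the field `F` with `q²` elements preserving the hermitian form `Σ uᵢ vᵢ^q`, with `n ≥ 4` even; `D` is a pair of complementary subspaces of dimension `n/2` on each of which the form vanishes identically, and `H` is the subgroup of `SU_n(q)` fixing or interchanging the two members — a subgroup of type GL_{n/2}(q²).2 (maximality is not assumed). Ω is the set of cosets of `H`, so an element of `T` of prime order `r` (`x ∈ SU_n(q)`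 with `x^r` scalar, `x` not scalar) fixes a point of Ω exactly when some `SU_n(q)`-conjugate of `x` lies in `H`. Let `r` be a prime dividing the index of `H`. Then every element of `T` of order `r` fixes a point of Ω if and only if `r = 2`, `q` is odd and `(q + 1)_2 ≤ (n)_2` (2-parts). -/
theorem result {F : Type*} [Field F] [Fintype F] {p : ℕ} [Fact p.Prime] [CharP F p] {q : ℕ} (hq : Fintype.card F = q ^ 2)
    (n : ℕ) (hn : 4 ≤ n) (he : Even n) (D : Fin 2 → Submodule F (Fin n → F)) (hD : Cfsg.Geo.IsMDecomposition (n / 2) D)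
    (hDs : ∀ i, Cfsg.Geo.IsTotallySingularFor (Cfsg.hermForm n F q) (D i))
    (r : ℕ) [Fact r.Prime]
    (hΩ : r ∣ (Cfsg.Geo.decompositionStabilizer D).relIndex (Cfsg.GU n F q ⊓ Cfsg.Geo.specialLinear (Fin n) F)) :
    (∀ x ∈ Cfsg.GU n F q ⊓ Cfsg.Geo.specialLinear (Fin n) F, (∃ z : F, ((x ^ r : GL (Fin n) F) : Matrix (Fin n) (Fin n) F) = z • (1 : Matrix (Fin n) (Fin n) F)) →
      (∀ z : F, (x : Matrix (Fin n) (Fin n) F) ≠ z • (1 : Matrix (Fin n) (Fin n) F)) →
      ∃ g ∈ Cfsg.GU n F q ⊓ Cfsg.Geo.specialLinear (Fin n) F, g⁻¹ * x * g ∈ Cfsg.Geo.decompositionStabilizer D) ↔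
    (r = 2 ∧ Odd q ∧ padicValNat 2 (q + 1) ≤ padicValNat 2 n) := by
  classical
  haveI : AutPSU.QField F q := AutPSU.QField.of_card hq
  set σ' := ((AutPSU.qb (F := F) q : F ≃+* F) : F →+* F)
  set B := hermB (F := F) n σ'
  have hB : IsTraceForm σ' 1 B := tf hq
  have hσ : σ' ≠ RingHom.id F := FormTorus.sigma_ne_id
  have hr : r.Prime := Fact.out
  have hp : p.Prime := Fact.out
  have hq2 : 2 ≤ q := AutPSU.two_le_q (F := F)
  obtain ⟨m, hnm⟩ := he
  have hm2 : n / 2 = m := by omega
  have hBv : ∀ u v, B u v = hermForm n F q v u := fun u v => hermB_apply FormTorus.sigma_apply u v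
  have hP : IsPair B (D 0) (D 1) := by
    refine ⟨IsCompl.of_eq (hD.indep.pairwiseDisjoint (by decide : (0 : Fin 2) ≠ 1)).eq_bot ?_,
      fun u hu v hv => (hBv u v).trans (hDs 0 v hv u hu), fun u hu v hv => (hBv u v).trans (hDs 1 v hv u hu)⟩
    rw [← hD.iSup_eq_top]
    refine le_antisymm (sup_le (le_iSup D 0) (le_iSup D 1)) (iSup_le fun i => ?_)
    fin_cases i
    · exact le_sup_left
    · exact le_sup_right
  have hdim : ∀ U W, IsPair B U W → finrank F U = m ∧ finrank F W = m := fun U W h => by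
    have h1 := h.finrank_eq hB
    have h2 := Submodule.finrank_add_eq_of_isCompl h.compl
    rw [Module.finrank_fin_fun] at h2
    omega
  have hstab : ∀ x : GL (Fin n) F, x ∈ Cfsg.Geo.decompositionStabilizer D ↔ Moves (D 0) (D 1) (TransvMax.linOf x) := by
    intro x
    constructor
    · rintro ⟨π, hπ⟩
      have him : ∀ i, ∀ v ∈ D i, TransvMax.linOf x v ∈ D (π i) := fun i v hv => by
        rw [← hπ i]
        exact ⟨v, hv, Matrix.toLin'_apply _ _⟩
      by_cases h0 : π 0 = 0
      · have h1 : π 1 = 1 := by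
          have := π.injective.ne (by decide : (1 : Fin 2) ≠ 0)
          omega
        exact Or.inl ⟨fun v hv => h0 ▸ him 0 v hv, fun v hv => h1 ▸ him 1 v hv⟩
      · have h0' : π 0 = 1 := by omega
        have h1 : π 1 = 0 := by
          have := π.injective.ne (by decide : (1 : Fin 2) ≠ 0)
          omega
        exact Or.inr ⟨fun v hv => h0' ▸ him 0 v hv, fun v hv => h1 ▸ him 1 v hv⟩
    · intro h
      have hto : ∀ i j, (∀ v ∈ D i, TransvMax.linOf x v ∈ D j) →
          (D i).map (Matrix.toLin' (x : Matrix (Fin n) (Fin n) F)) = D j := by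
        intro i j hij
        refine Submodule.eq_of_le_of_finrank_eq ?_ ?_
        · rintro _ ⟨v, hv, rfl⟩
          rw [Matrix.toLin'_apply]
          exact hij v hv
        · rw [hD.finrank_eq]
          exact (LinearEquiv.finrank_map_eq (TransvMax.linOf x) (D i)).trans (hD.finrank_eq i)
      rcases h with ⟨h0, h1⟩ | ⟨h0, h1⟩
      · exact ⟨1, fun i => by fin_cases i; exacts [hto 0 0 h0, hto 1 1 h1]⟩
      · exact ⟨Equiv.swap 0 1, fun i => by
          fin_cases i
          · simpa using hto 0 1 h0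
          · simpa using hto 1 0 h1⟩
  -- fixed points are invariant pairs
  have hfwd : ∀ x : GL (Fin n) F, (∃ g ∈ Cfsg.GU n F q ⊓ Cfsg.Geo.specialLinear (Fin n) F,
      g⁻¹ * x * g ∈ Cfsg.Geo.decompositionStabilizer D) → ∃ U W, IsPair B U W ∧ Moves U W (TransvMax.linOf x) := by
    rintro x ⟨g, hg, hgx⟩
    have hgp := (mem_S.1 hg).1
    refine ⟨_, _, IsPair.map hP hgp, ?_⟩
    have hstep : ∀ X Y : Submodule F (Fin n → F), (∀ v ∈ X, TransvMax.linOf (g⁻¹ * x * g) v ∈ Y) →
        ∀ v ∈ X.map (TransvMax.linOf g : (Fin n → F) →ₗ[F] (Fin n → F)),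
          TransvMax.linOf x v ∈ Y.map (TransvMax.linOf g : (Fin n → F) →ₗ[F] (Fin n → F)) := by
      rintro X Y h _ ⟨v, hv, rfl⟩
      refine ⟨_, h v hv, ?_⟩
      simp [Matrix.mulVec_mulVec, mul_assoc]
    rcases (hstab _).1 hgx with ⟨h0, h1⟩ | ⟨h0, h1⟩
    · exact Or.inl ⟨hstep _ _ h0, hstep _ _ h1⟩
    · exact Or.inr ⟨hstep _ _ h0, hstep _ _ h1⟩
  have hbwd : ∀ (x : GL (Fin n) F) U W, IsPair B U W → Moves U W (TransvMax.linOf x) →
      ∃ g ∈ Cfsg.GU n F q ⊓ Cfsg.Geo.specialLinear (Fin n) F,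
        g⁻¹ * x * g ∈ Cfsg.Geo.decompositionStabilizer D := by
    intro x U W h hmv
    obtain ⟨g, hg, hgU, hgW, hgd⟩ := exists_map hB hσ hP h
      (by rw [(hdim _ _ hP).1, (hdim _ _ h).1]) (by rw [(hdim _ _ hP).1]; omega) (d := 1) (by simp)
    refine ⟨TransvMax.glOf g, mem_S.2 ⟨by rw [linOf_glOf]; exact hg, by rw [linOf_glOf]; exact hgd⟩, (hstab _).2 ?_⟩
    have hgx : ∀ v, g (TransvMax.linOf ((TransvMax.glOf g)⁻¹ * x * TransvMax.glOf g) v) = TransvMax.linOf x (g v) :=
      fun v => by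
        rw [← TransvMax.glOf_mulVec g (TransvMax.linOf _ v), TransvMax.linOf_apply, TransvMax.linOf_apply,
          Matrix.mulVec_mulVec, ← Units.val_mul, ← mul_assoc, ← mul_assoc, mul_inv_cancel, one_mul, Units.val_mul,
          ← Matrix.mulVec_mulVec, TransvMax.glOf_mulVec]
    have h0 : ∀ v, g v ∈ U → v ∈ D 0 := fun v hv => pull hP.compl h.compl
      (g := (g : (Fin n → F) →ₗ[F] (Fin n → F))) g.injective hgU hgW hv
    have h1 : ∀ v, g v ∈ W → v ∈ D 1 := fun v hv => pull hP.compl.symm h.compl.symm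
      (g := (g : (Fin n → F) →ₗ[F] (Fin n → F))) g.injective hgW hgU hv
    rcases hmv with ⟨a0, a1⟩ | ⟨a0, a1⟩
    · exact Or.inl ⟨fun v hv => h0 _ (by rw [hgx]; exact a0 _ (hgU v hv)),
        fun v hv => h1 _ (by rw [hgx]; exact a1 _ (hgW v hv))⟩
    · exact Or.inr ⟨fun v hv => h1 _ (by rw [hgx]; exact a0 _ (hgU v hv)),
        fun v hv => h0 _ (by rw [hgx]; exact a1 _ (hgW v hv))⟩
  constructor
  · intro hall
    -- an element without an invariant pair
    have hbad : ∀ g : (Fin n → F) ≃ₗ[F] (Fin n → F), Preserves B g →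
        LinearMap.det (g : (Fin n → F) →ₗ[F] (Fin n → F)) = 1 → ∀ c : F, (∀ v, (g ^ r) v = c • v) →
        (∀ c : F, ¬ ∀ v, g v = c • v) → ∃ U W, IsPair B U W ∧ Moves U W g := by
      intro g hg hdet c hc hns
      have hlg := linOf_glOf g
      have hx := hall (TransvMax.glOf g) (mem_S.2 ⟨by rw [hlg]; exact hg, by rw [hlg]; exact hdet⟩)
        ⟨c, Matrix.ext_iff_mulVec.2 fun v => by
          rw [← map_pow, TransvMax.glOf_mulVec, hc, Matrix.smul_mulVec, Matrix.one_mulVec]⟩
        (fun z hz => hns z fun v => by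
          rw [← TransvMax.glOf_mulVec g v, hz, Matrix.smul_mulVec, Matrix.one_mulVec])
      have := hfwd _ hx
      rwa [hlg] at this
    obtain ⟨l, hl⟩ : ∃ l : F, l * σ' l = -1 := by
      obtain ⟨l, hl⟩ := AutPSU.exists_norm (q := q) (c := (-1 : F)) (by simp)
      exact ⟨l, hl⟩
    have hrp : r ≠ p := by
      rintro rfl
      -- transvections
      obtain ⟨e, he0, he⟩ := FormsLib.exists_skew (hermB_isUnitary hq n FormTorus.sigma_apply FormTorus.sigma_sigma hq2).1
      let i0 : Fin n := ⟨0, by omega⟩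
      let i1 : Fin n := ⟨1, by omega⟩
      have hi01 : i0 ≠ i1 := by simp [i0, i1, Fin.ext_iff]
      let a : Fin n → F := Pi.single i0 1 + Pi.single i1 l
      have ha0 : a ≠ 0 := fun h => by
        have := congrFun h i0
        simp [a, hi01] at this
      have haa : B a a = 0 := by
        show ∑ i, a i * σ' (a i) = 0
        rw [Fintype.sum_eq_add i0 i1 hi01 (fun j hj => by simp [a, hj.1, hj.2])]
        simp [a, hi01, hi01.symm, hl]
      let f : (Fin n → F) →ₗ[F] (Fin n → F) := LinearMap.id + (e • B a).smulRight a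
      obtain ⟨g, hg, hgf⟩ := hB.exists_equiv f (fun u v => by
        simp only [f, LinearMap.add_apply, LinearMap.id_apply, LinearMap.smulRight_apply,
          LinearMap.smul_apply, smul_eq_mul, map_add, map_smulₛₗ, map_smul, haa, RingHom.id_apply]
        rw [hB.flip a u, one_mul, map_mul]
        linear_combination (σ' (B a u) * B a v) * he)
      have hgv : ∀ v, g v = v + (e * B a v) • a := fun v => by rw [hgf]; simp [f]
      have hpow : ∀ k : ℕ, ∀ v, (g ^ k) v = v + ((k : F) * (e * B a v)) • a := by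
        intro k
        induction k with
        | zero => intro v; simp
        | succ k ih =>
          intro v
          rw [pow_succ', LinearEquiv.mul_apply, ih, hgv, map_add (B a), map_smul (B a), haa, smul_zero, add_zero,
            add_assoc, ← add_smul]
          push_cast; ring_nf
      have hgr : g ^ r = 1 := LinearEquiv.ext fun v => by rw [hpow, CharP.cast_eq_zero]; simp
      have hdet : LinearMap.det (g : (Fin n → F) →ₗ[F] (Fin n → F)) = 1 := by
        have h1 : LinearMap.det (g : (Fin n → F) →ₗ[F] (Fin n → F)) ^ r = 1 := by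
          have := congrArg (fun t : (Fin n → F) ≃ₗ[F] (Fin n → F) => ((LinearEquiv.det t : Fˣ) : F)) hgr
          simpa using this
        have h2 := sub_pow_char (p := r) (LinearMap.det (g : (Fin n → F) →ₗ[F] (Fin n → F))) (1 : F)
        rw [h1, one_pow, sub_self] at h2
        exact sub_eq_zero.1 (eq_zero_of_pow_eq_zero h2)
      obtain ⟨U, W, h, hmv⟩ := hbad g hg hdet 1 (fun v => by rw [hgr]; simp) fun c hc => by
        have h1 := hc a
        rw [hgv, haa, mul_zero, zero_smul, add_zero] at h1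
        obtain rfl : c = 1 := by
          by_contra hne
          exact ha0 ((smul_eq_zero.1 (show (c - 1) • a = 0 by rw [sub_smul, one_smul, ← h1, sub_self])).resolve_left (sub_ne_zero.2 hne))
        refine ha0 (hB.nondeg a fun v => ?_)
        have h2 := hc v
        rw [hgv, one_smul, add_eq_left] at h2
        exact ((mul_eq_zero.1 ((smul_eq_zero.1 h2).resolve_right ha0))).resolve_left he0
      rcases hmv with h' | ⟨h', -⟩
      · exact transv_not_fix hB h (x := (g : (Fin n → F) →ₗ[F] (Fin n → F))) ha0 he0 hgv h'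
      · refine no_swap h.compl (x := (g : (Fin n → F) →ₗ[F] (Fin n → F))) one_ne_zero (LinearMap.ker (B a))
          (fun v hv => by rw [LinearEquiv.coe_coe, hgv, LinearMap.mem_ker.1 hv, mul_zero, zero_smul, add_zero, one_smul]) ?_ h'
        have h1 := LinearMap.finrank_range_add_finrank_ker (B a)
        have h2 := Submodule.finrank_le (LinearMap.range (B a))
        rw [Module.finrank_self] at h2
        rw [Module.finrank_fin_fun] at h1
        rw [(hdim _ _ h).2]
        omega
    have hrq : ¬ r ∣ q := by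
      obtain ⟨⟨a, ha⟩, -, hcard⟩ := FiniteField.card F p
      intro h
      have h1 : r ∣ p ^ a := (hq ▸ hcard : q ^ 2 = p ^ a) ▸ dvd_pow h two_ne_zero
      exact hrp ((Nat.prime_dvd_prime_iff_eq hr hp).1 (hr.dvd_of_dvd_pow h1))
    have hr2 : r = 2 := by
      by_contra hr2
      obtain ⟨i, hi, hin, hri⟩ := dvd_index hq hnm hP ((hdim _ _ hP).1) _
        (fun x _ h0 h1 => (hstab x).2 (Or.inl ⟨h0, h1⟩)) hr hrq hΩ
      obtain ⟨g, hg, hdet, hgr, hnd, hoddR⟩ := exists_odd_elt (p := p) hq hn hr hr2 hi hin hri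
      obtain ⟨U, W, h, hmv⟩ := hbad g hg hdet 1 (fun v => by rw [hgr]; simp) fun c hc => by
        have h1 : LinearMap.range ((g : (Fin n → F) →ₗ[F] (Fin n → F)) - (1 : F) • LinearMap.id) =
            LinearMap.range ((c - 1) • (LinearMap.id : (Fin n → F) →ₗ[F] (Fin n → F))) := by
          congr 1
          exact LinearMap.ext fun v => by simp [hc, sub_smul]
        rcases eq_or_ne c 1 with rfl | hne
        · rw [h1, sub_self, zero_smul, LinearMap.range_zero, finrank_bot] at hoddR
          exact absurd hoddR (by decide)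
        · rw [h1, LinearMap.range_smul _ _ (sub_ne_zero.2 hne), LinearMap.range_id, finrank_top,
            Module.finrank_fin_fun, hnm] at hoddR
          exact Nat.not_even_iff_odd.2 hoddR ⟨m, rfl⟩
      obtain ⟨h0, h1⟩ := not_swap_odd h.compl (fun e => by
        have := (hdim _ _ h).1
        rw [e, finrank_bot] at this
        omega) (hr.odd_of_ne_two hr2) hgr hmv
      exact Nat.not_even_iff_odd.2 hoddR (range_even hB h h0 h1 1 hnd)
    subst hr2
    have hodd : Odd q := by
      rw [← Nat.not_even_iff_odd, even_iff_two_dvd]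
      exact hrq
    refine ⟨rfl, hodd, ?_⟩
    by_contra hlt
    push Not at hlt
    -- a root of unity `w` with `w ^ n = -1`
    set a := padicValNat 2 n
    haveI : Fact (Nat.Prime 2) := ⟨Nat.prime_two⟩
    obtain ⟨n', hn'⟩ : 2 ^ a ∣ n := pow_padicValNat_dvd
    have hn'o : Odd n' := by
      rw [← Nat.not_even_iff_odd, even_iff_two_dvd]
      intro h2
      refine pow_succ_padicValNat_not_dvd (p := 2) (by omega : n ≠ 0) ?_
      rw [pow_succ]
      exact (Nat.mul_dvd_mul_left _ h2).trans (dvd_of_eq hn'.symm)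
    have hd : 2 ^ (a + 1) ∣ q + 1 := (pow_dvd_pow 2 hlt).trans pow_padicValNat_dvd
    have hdu : 2 ^ (a + 1) ∣ Nat.card Fˣ := by
      rw [Nat.card_units, Nat.card_eq_fintype_card, hq]
      exact hd.trans (Dvd.intro (q - 1) (by rw [← Nat.sq_sub_sq, one_pow]))
    obtain ⟨g₀, hg₀⟩ := IsCyclic.exists_generator (α := Fˣ)
    obtain ⟨t, ht⟩ := hdu
    set w := ((g₀ ^ t : Fˣ) : F)
    have hw1 : w ^ (2 ^ (a + 1)) = 1 := by
      rw [← Units.val_pow_eq_pow_val, ← pow_mul, mul_comm, ← ht, pow_card_eq_one', Units.val_one]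
    have hw2 : w ^ (2 ^ a) = -1 := by
      refine ((sq_eq_one_iff).1 (by rw [← pow_mul, ← pow_succ]; exact hw1)).resolve_left fun h => ?_
      rw [← Units.val_pow_eq_pow_val, ← pow_mul, Units.val_eq_one] at h
      have := orderOf_dvd_of_pow_eq_one h
      rw [orderOf_eq_card_of_forall_mem_zpowers hg₀, ht, mul_comm (2 ^ (a + 1))] at this
      have ht0 : t ≠ 0 := fun e => by simp [e] at ht
      have := Nat.le_of_dvd (by positivity) (Nat.dvd_of_mul_dvd_mul_left (Nat.pos_of_ne_zero ht0) this)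
      rw [pow_succ] at this
      omega
    have hwn : w ^ n = -1 := by rw [hn', pow_mul, hw2, hn'o.neg_one_pow]
    have hwσ : w * σ' w = 1 := by
      rw [norm_pow]
      obtain ⟨s, hs⟩ := hd
      rw [hs, pow_mul, hw1, one_pow]
    have hw0 : w ≠ 0 := Units.ne_zero _
    let i0 : Fin n := ⟨0, by omega⟩
    obtain ⟨g, hg, hdet, hgv, hgp, hnd, hrank⟩ := exists_diag hq (fun i => if i = i0 then -w else w)
      (fun i => by
        by_cases hi : i = i0
        · rw [if_pos hi, map_neg, neg_mul_neg]; exact hwσ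
        · rw [if_neg hi]; exact hwσ) w
    have h2F : (2 : F) ≠ 0 := fun h => hrp (by
      have : (p : ℕ) ∣ 2 := (CharP.cast_eq_zero_iff F p 2).1 (by exact_mod_cast h)
      exact ((Nat.prime_dvd_prime_iff_eq hp Nat.prime_two).1 this).symm)
    have hww : -w ≠ w := fun h => mul_ne_zero h2F hw0 (by linear_combination -h)
    obtain ⟨U, W, h, hmv⟩ := hbad g hg (by
        rw [hdet, ← Finset.mul_prod_erase _ _ (Finset.mem_univ i0), if_pos rfl,
          Finset.prod_congr rfl (fun i hi => if_neg (Finset.ne_of_mem_erase hi)), Finset.prod_const,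
          Finset.card_erase_of_mem (Finset.mem_univ _), Finset.card_univ, Fintype.card_fin, neg_mul,
          ← pow_succ', Nat.sub_add_cancel (by omega), hwn, neg_neg])
      (w ^ 2) (fun v => funext fun i => by
        rw [hgp, Pi.smul_apply, smul_eq_mul]
        by_cases hi : i = i0 <;> simp [hi])
      (fun c hc => by
        have h1 := congrFun (hc (fun _ => 1)) i0
        have h2 := congrFun (hc (fun _ => 1)) ⟨1, by omega⟩
        rw [hgv, if_pos rfl] at h1
        rw [hgv, if_neg (by simp [i0, Fin.ext_iff])] at h2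
        exact hww (by simpa using h1.trans h2.symm))
    have hone : (Finset.univ.filter fun i : Fin n => (if i = i0 then -w else w) ≠ w) = {i0} := by
      ext i
      by_cases hi : i = i0 <;> simp [hi, hww]
    rw [hone, Finset.card_singleton] at hrank
    rcases hmv with ⟨h0, h1⟩ | ⟨h0, -⟩
    · exact absurd (hrank ▸ range_even hB h h0 h1 w hnd) (by decide)
    · refine no_swap h.compl (x := (g : (Fin n → F) →ₗ[F] (Fin n → F))) hw0 (LinearMap.ker (LinearMap.proj i0))
        (fun v hv => funext fun i => ?_) ?_ h0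
      · rw [LinearEquiv.coe_coe, hgv, Pi.smul_apply, smul_eq_mul]
        by_cases hi : i = i0
        · subst hi
          rw [show v i0 = 0 from hv]; ring
        · rw [if_neg hi]
      · have h3 := LinearMap.finrank_range_add_finrank_ker (LinearMap.proj i0 : (Fin n → F) →ₗ[F] F)
        have h4 := Submodule.finrank_le (LinearMap.range (LinearMap.proj i0 : (Fin n → F) →ₗ[F] F))
        rw [Module.finrank_self] at h4
        rw [Module.finrank_fin_fun] at h3
        rw [(hdim _ _ h).2]
        omega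
  · rintro ⟨rfl, hodd, hval⟩ x hx ⟨z, hz⟩ -
    obtain ⟨hg, hdet⟩ := mem_S.1 hx
    set X := TransvMax.linOf x
    have hp2 : p ≠ 2 := by
      rintro rfl
      obtain ⟨⟨a, ha⟩, -, hcard⟩ := FiniteField.card F 2
      have h1 : Even (q ^ 2) := by
        rw [← hq, hcard]
        exact Nat.even_pow.2 ⟨even_two, ha.ne'⟩
      exact Nat.not_even_iff_odd.2 hodd ((Nat.even_pow.1 h1).1)
    have h2F : (2 : F) ≠ 0 := fun h => hp2 (by
      have : (p : ℕ) ∣ 2 := (CharP.cast_eq_zero_iff F p 2).1 (by exact_mod_cast h)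
      exact (Nat.prime_dvd_prime_iff_eq hp Nat.prime_two).1 this)
    have hXX : ∀ v, X (X v) = z • v := fun v => by
      simp only [X, TransvMax.linOf_apply, Matrix.mulVec_mulVec]
      rw [← Units.val_mul, ← pow_two, hz, Matrix.smul_mulVec, Matrix.one_mulVec]
    -- square root of `z`
    obtain ⟨i0⟩ : Nonempty (Fin n) := ⟨⟨0, by omega⟩⟩
    have hzz : z * σ' z = 1 := by
      have h1 : B (X (X (Pi.single i0 1))) (X (X (Pi.single i0 1))) = B (Pi.single i0 1) (Pi.single i0 1) := by
        rw [hg, hg]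
      rw [hXX] at h1
      simp only [map_smulₛₗ, LinearMap.smul_apply, map_smul, smul_eq_mul, RingHom.id_apply] at h1
      have h2 : B (Pi.single i0 1) (Pi.single i0 1) = 1 := by
        show ∑ i, (Pi.single i0 (1 : F) : Fin n → F) i * σ' ((Pi.single i0 (1 : F) : Fin n → F) i) = 1
        rw [Fintype.sum_eq_single i0 (fun j hj => by simp [Pi.single_eq_of_ne hj])]
        simp
      rw [h2] at h1
      linear_combination h1
    have hz0 : z ≠ 0 := fun e => by simp [e] at hzz
    obtain ⟨u, hu⟩ : IsSquare z := by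
      rw [FiniteField.isSquare_iff (by rw [ringChar.eq F p]; exact hp2) hz0, hq]
      obtain ⟨k, rfl⟩ := hodd
      rw [show (2 * k + 1) ^ 2 / 2 = (2 * k + 1 + 1) * k by
        rw [show (2 * k + 1) ^ 2 = 2 * ((2 * k + 1 + 1) * k) + 1 by ring]; omega, pow_mul,
        norm_pow.1 hzz, one_pow]
    have hu0 : u ≠ 0 := fun e => hz0 (by rw [hu, e, zero_mul])
    set c := u * σ' u with hc
    have hc2 : c = 1 ∨ c = -1 := mul_self_eq_one_iff.1 (by
      rw [hc, ← hzz, hu, map_mul]; ring)
    let Y : (Fin n → F) →ₗ[F] (Fin n → F) := u⁻¹ • (X : (Fin n → F) →ₗ[F] (Fin n → F))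
    have hY : ∀ v, Y v = u⁻¹ • X v := fun v => rfl
    have hYY : ∀ v, Y (Y v) = v := fun v => by
      rw [hY, hY, map_smul, hXX, smul_smul, smul_smul, hu, show u⁻¹ * u⁻¹ * (u * u) = 1 by field_simp, one_smul]
    have hXY : ∀ v, X v = u • Y v := fun v => by rw [hY, smul_smul, mul_inv_cancel₀ hu0, one_smul]
    have hYB : ∀ v w, c * B (Y v) (Y w) = B v w := fun v w => by
      rw [← hg v w, hXY, hXY]
      simp only [map_smulₛₗ, LinearMap.smul_apply, map_smul, smul_eq_mul, RingHom.id_apply, hc]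
      ring
    set P := LinearMap.ker (Y - LinearMap.id)
    set M := LinearMap.ker (Y + LinearMap.id)
    have hPm : ∀ v, v ∈ P ↔ Y v = v := fun v => by
      rw [LinearMap.mem_ker, LinearMap.sub_apply, sub_eq_zero]; rfl
    have hMm : ∀ v, v ∈ M ↔ Y v = -v := fun v => by
      rw [LinearMap.mem_ker, LinearMap.add_apply, add_eq_zero_iff_eq_neg]; rfl
    have hPM : IsCompl P M := by
      refine IsCompl.of_eq ?_ ?_
      · rw [Submodule.eq_bot_iff]
        rintro v ⟨h1, h2⟩
        have h3 := ((hPm v).1 h1).symm.trans ((hMm v).1 h2)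
        have : (2 : F) • v = 0 := by rw [two_smul]; exact add_eq_zero_iff_eq_neg.2 h3
        exact (smul_eq_zero.1 this).resolve_left h2F
      · rw [eq_top_iff]
        intro v _
        have h1 : v + Y v ∈ P := by rw [hPm, map_add, hYY, add_comm]
        have h2 : v - Y v ∈ M := by rw [hMm, map_sub, hYY, neg_sub]
        have h3 : v = (2 : F)⁻¹ • ((v + Y v) + (v - Y v)) := by
          rw [add_add_sub_cancel, ← two_smul F, smul_smul, inv_mul_cancel₀ h2F, one_smul]
        rw [h3]
        exact Submodule.smul_mem _ _ (Submodule.add_mem_sup h1 h2)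
    suffices ∃ U W, IsPair B U W ∧ Moves U W X by
      obtain ⟨U, W, h, hmv⟩ := this
      exact hbwd x U W h hmv
    rcases hc2 with hc1 | hc1
    · -- two non-degenerate eigenspaces of even dimension
      have hperp : ∀ v ∈ P, ∀ w ∈ M, B v w = 0 := fun v hv w hw => by
        have h1 := hYB v w
        rw [hc1, (hPm v).1 hv, (hMm w).1 hw, map_neg] at h1
        exact (mul_eq_zero.1 (show (2 : F) * B v w = 0 by linear_combination -h1)).resolve_left h2F
      have hperp' : ∀ v ∈ M, ∀ w ∈ P, B v w = 0 := fun v hv w hw => flip_zero hB (hperp w hw v hv)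
      have hndP : ∀ v ∈ P, (∀ w ∈ P, B v w = 0) → v = 0 := fun v hv h => hB.nondeg v fun w => by
        obtain ⟨a, ha, b, hb, rfl⟩ := Submodule.mem_sup.1 (hPM.sup_eq_top.ge (Submodule.mem_top (x := w)))
        rw [map_add, h a ha, hperp v hv b hb, add_zero]
      have hndM : ∀ v ∈ M, (∀ w ∈ M, B v w = 0) → v = 0 := fun v hv h => hB.nondeg v fun w => by
        obtain ⟨a, ha, b, hb, rfl⟩ := Submodule.mem_sup.1 (hPM.sup_eq_top.ge (Submodule.mem_top (x := w)))
        rw [map_add, h b hb, hperp' v hv a ha, add_zero]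
      have hsum := Submodule.finrank_add_eq_of_isCompl hPM
      rw [Module.finrank_fin_fun] at hsum
      have hdetY : LinearMap.det Y = (-1) ^ finrank F M := by
        have he : Y = (Submodule.prodEquivOfIsCompl P M hPM).conj
            (LinearMap.prodMap LinearMap.id (-LinearMap.id)) := by
          refine LinearMap.ext fun v => ?_
          obtain ⟨⟨a, b⟩, rfl⟩ := (Submodule.prodEquivOfIsCompl P M hPM).surjective v
          simp only [Submodule.coe_prodEquivOfIsCompl', map_add, (hPm _).1 a.2, (hMm _).1 b.2,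
            LinearEquiv.conj_apply, LinearMap.comp_apply, LinearEquiv.coe_coe, LinearMap.prodMap_apply]
          simp
        rw [he, LinearEquiv.conj_apply, LinearMap.comp_assoc, LinearMap.det_conj, LinearMap.det_prodMap,
          LinearMap.det_id, one_mul, ← neg_one_smul F (LinearMap.id : M →ₗ[F] M), LinearMap.det_smul,
          LinearMap.det_id, mul_one]
      have hMev : Even (finrank F M) := by
        by_contra ho
        rw [Nat.not_even_iff_odd] at ho
        have h1 : u ^ n = -1 := by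
          have h2 : LinearMap.det Y = u⁻¹ ^ n := by
            rw [LinearMap.det_smul, hdet, mul_one, Module.finrank_fin_fun]
          rw [hdetY, ho.neg_one_pow, inv_pow] at h2
          rw [← inv_inv (u ^ n), ← h2, inv_neg, inv_one]
        haveI : Fact (Nat.Prime 2) := ⟨Nat.prime_two⟩
        set b := padicValNat 2 (q + 1)
        obtain ⟨s, hs⟩ : 2 ^ b ∣ q + 1 := pow_padicValNat_dvd
        obtain ⟨t, ht⟩ : 2 ^ b ∣ n := (pow_dvd_pow 2 hval).trans pow_padicValNat_dvd
        have hso : Odd s := by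
          rw [← Nat.not_even_iff_odd, even_iff_two_dvd]
          intro h2
          refine pow_succ_padicValNat_not_dvd (p := 2) (Nat.succ_ne_zero q) ?_
          rw [pow_succ]
          exact (Nat.mul_dvd_mul_left _ h2).trans (dvd_of_eq hs.symm)
        have h3 : (u ^ n) ^ s = 1 := by
          rw [← pow_mul, ht, show 2 ^ b * t * s = (2 ^ b * s) * t by ring, ← hs, pow_mul,
            norm_pow.1 hc1, one_pow]
        rw [h1, hso.neg_one_pow] at h3
        exact h2F (by linear_combination -h3)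
      have hPev : Even (finrank F P) := by
        obtain ⟨k, hk⟩ := hMev
        exact ⟨m - k, by omega⟩
      obtain ⟨l, hl⟩ := AutPSU.exists_norm (q := q) (c := (-1 : F)) (by simp)
      obtain ⟨U₁, W₁, h1, hu1, hw1, hd1⟩ := even_pair hB hσ h2F hl P hndP hPev
      obtain ⟨U₂, W₂, h2, hu2, hw2, hd2⟩ := even_pair hB hσ h2F hl M hndM hMev
      have hsupTop : (U₁ ⊔ U₂) ⊔ (W₁ ⊔ W₂) = ⊤ := by
        rw [sup_sup_sup_comm, h1, h2]; exact hPM.sup_eq_top
      have hiso : ∀ A A' : Submodule F (Fin n → F), A ≤ P → A' ≤ M → (∀ a ∈ A, ∀ b ∈ A, B a b = 0) →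
          (∀ a ∈ A', ∀ b ∈ A', B a b = 0) → ∀ a ∈ A ⊔ A', ∀ b ∈ A ⊔ A', B a b = 0 := by
        intro A A' hA hA' hi hi' a ha b hb
        obtain ⟨a1, ha1, a2, ha2, rfl⟩ := Submodule.mem_sup.1 ha
        obtain ⟨b1, hb1, b2, hb2, rfl⟩ := Submodule.mem_sup.1 hb
        simp [map_add, hi a1 ha1 b1 hb1, hi' a2 ha2 b2 hb2, hperp a1 (hA ha1) b2 (hA' hb2),
          hperp' a2 (hA' ha2) b1 (hA hb1)]
      have hle1 : U₁ ≤ P ∧ W₁ ≤ P := ⟨h1 ▸ le_sup_left, h1 ▸ le_sup_right⟩
      have hle2 : U₂ ≤ M ∧ W₂ ≤ M := ⟨h2 ▸ le_sup_left, h2 ▸ le_sup_right⟩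
      refine ⟨U₁ ⊔ U₂, W₁ ⊔ W₂, ⟨IsCompl.of_eq ?_ hsupTop, hiso _ _ hle1.1 hle2.1 hu1 hu2,
        hiso _ _ hle1.2 hle2.2 hw1 hw2⟩, Or.inl ?_⟩
      · refine Submodule.finrank_eq_zero.1 ?_
        have e1 := Submodule.finrank_sup_add_finrank_inf_eq (U₁ ⊔ U₂) (W₁ ⊔ W₂)
        have e2 := Submodule.finrank_sup_add_finrank_inf_eq U₁ U₂
        have e3 := Submodule.finrank_sup_add_finrank_inf_eq W₁ W₂
        rw [hsupTop, finrank_top, Module.finrank_fin_fun] at e1
        omega
      · have hinv : ∀ A A' : Submodule F (Fin n → F), A ≤ P → A' ≤ M → ∀ v ∈ A ⊔ A', X v ∈ A ⊔ A' := by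
          intro A A' hA hA' v hv
          obtain ⟨a, ha, b, hb, rfl⟩ := Submodule.mem_sup.1 hv
          rw [hXY, map_add, (hPm a).1 (hA ha), (hMm b).1 (hA' hb)]
          exact Submodule.smul_mem _ _ (Submodule.add_mem_sup ha (A'.neg_mem hb))
        exact ⟨hinv _ _ hle1.1 hle2.1, hinv _ _ hle1.2 hle2.2⟩
    · -- two totally isotropic eigenspaces
      have hiso : ∀ v w, (Y v = v ∧ Y w = w) ∨ (Y v = -v ∧ Y w = -w) → B v w = 0 := by
        intro v w h
        have h1 := hYB v w
        rw [hc1] at h1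
        rcases h with ⟨hv, hw⟩ | ⟨hv, hw⟩ <;> rw [hv, hw] at h1 <;>
          (try simp only [map_neg, LinearMap.neg_apply, neg_neg] at h1) <;>
          exact (mul_eq_zero.1 (show (2 : F) * B v w = 0 by linear_combination -h1)).resolve_left h2F
      refine ⟨P, M, ⟨hPM, fun v hv w hw => hiso v w (Or.inl ⟨(hPm v).1 hv, (hPm w).1 hw⟩),
        fun v hv w hw => hiso v w (Or.inr ⟨(hMm v).1 hv, (hMm w).1 hw⟩)⟩, Or.inl ⟨fun v hv => ?_, fun v hv => ?_⟩⟩
      · rw [hXY, (hPm v).1 hv]; exact P.smul_mem _ hv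
      · rw [hXY, (hMm v).1 hv]; exact M.smul_mem _ (M.neg_mem hv)

end Cfsg.Agent.S5984
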