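import Cfsg.Agent.Lib.TransvMax.NonsingModels
-- import your own Cfsg.Agent.* helpers here

set_option autoImplicit false
open scoped MatrixGroups
open Cfsg

namespace Cfsg.Agent.S5985

open Cfsg.Agent
open scoped Matrix

/-- Elements of prime order of Ω⁺_n(q), q even, with no fixed nonsingular 1-space. Here `T = PΩ⁺_n(F)`, `n = 2d ≥ 8`, realised through `Ω⁺_n(q)`, the commutator subgroup of the isometry group of `Q = Σ xᵢyᵢ` over the field `F` with `q` elements; an element of `T` of prime order `r` is an element `x` of `Ω⁺_n(q)` with `x^r` scalar and `x` not scalar; `q` is even (so the centre is trivial). Let Ω be the set of 1-dimensional subspaces spanned by a vector `v` with `Q(v) ≠ 0`, and let `r` be a prime dividing their number. Then every element of `T` of order `r` fixes some nonsingular 1-space if and only if `r = 2` and `n ≡ 2 (mod 4)` (that is, `d` is odd). -/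
theorem result {F : Type*} [Field F] [Fintype F] {p : ℕ} [Fact p.Prime] [CharP F p] {q : ℕ} (hq : Fintype.card F = q)
    (hp : p = 2) (d : ℕ) (hd : 4 ≤ d) (r : ℕ) [Fact r.Prime]
    (hrΩ : r ∣ Nat.card {W : Submodule F (Fin d ⊕ Fin d → F) // Module.finrank F ↥W = 1 ∧ ∃ v ∈ W, Cfsg.quadFormPlus d F v ≠ 0}) :
    (∀ x : GL (Fin d ⊕ Fin d) F, x ∈ Cfsg.Geo.omegaGL (Cfsg.quadFormPlus d F) →
      (∃ z : F, ((x ^ r : GL (Fin d ⊕ Fin d) F) : Matrix (Fin d ⊕ Fin d) (Fin d ⊕ Fin d) F) = z • (1 : Matrix (Fin d ⊕ Fin d) (Fin d ⊕ Fin d) F)) →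
      (∀ z : F, (x : Matrix (Fin d ⊕ Fin d) (Fin d ⊕ Fin d) F) ≠ z • (1 : Matrix (Fin d ⊕ Fin d) (Fin d ⊕ Fin d) F)) →
      ∃ W : Submodule F (Fin d ⊕ Fin d → F), (Module.finrank F ↥W = 1 ∧ ∃ v ∈ W, Cfsg.quadFormPlus d F v ≠ 0) ∧ W.map (Matrix.toLin' (x : Matrix (Fin d ⊕ Fin d) (Fin d ⊕ Fin d) F)) ≤ W) ↔ (r = 2 ∧ Odd d) := by
  classical
  subst hq
  have h2 : (2 : F) = 0 := by
    subst hp
    exact_mod_cast CharP.cast_eq_zero F 2
  let Q : QuadraticForm F (Fin d ⊕ Fin d → F) := OrthOrder.qPlus d F
  have hQf : ⇑Q = Cfsg.quadFormPlus d F := funext fun v => OrthOrder.qPlus_apply d v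
  have S : QMax.QSetting Q := ⟨OrthForms.qPlus_nondeg d, by simp; omega⟩
  have hcard : (Fintype.card F : ℤ) * Nat.card {W : Submodule F (Fin d ⊕ Fin d → F) //
      Module.finrank F ↥W = 1 ∧ ∃ v ∈ W, Cfsg.quadFormPlus d F v ≠ 0} =
      (Fintype.card F : ℤ) ^ d * ((Fintype.card F : ℤ) ^ d - 1) := by
    have h := FormCount.card_plus d (1 : F)
    rw [if_neg one_ne_zero] at h
    have hp' := NonsingPoints.card_points S h2
    simp only [hQf] at hp'
    rw [hp', h, pow_mul']
    ring
  show (∀ x : GL (Fin d ⊕ Fin d) F, x ∈ Cfsg.Geo.omegaGL (Cfsg.quadFormPlus d F) → _) ↔ _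
  constructor
  · intro hall
    have hall' : NonsingPoints.AllFix Q r := by
      rw [NonsingPoints.AllFix, hQf]; exact hall
    have hrp : r.Prime := Fact.out
    have hr2 : r = 2 := by
      by_contra hr2
      have hr : r ∣ Fintype.card F ^ d - 1 := by
        have h1 : (r : ℤ) ∣ (Fintype.card F : ℤ) ^ d * ((Fintype.card F : ℤ) ^ d - 1) := by
          rw [← hcard]
          exact dvd_mul_of_dvd_right (Int.natCast_dvd_natCast.2 hrΩ) _
        have hpos : 1 ≤ Fintype.card F ^ d := Nat.one_le_pow _ _ Fintype.card_pos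
        have h2' : (r : ℤ) ∣ ((Fintype.card F ^ d * (Fintype.card F ^ d - 1) : ℕ) : ℤ) := by
          push_cast [Nat.cast_sub hpos]
          exact h1
        exact (hrp.dvd_mul.1 (Int.natCast_dvd_natCast.1 h2')).resolve_left fun h =>
          NonsingPoints.not_dvd_card h2 hrp hr2 (hrp.dvd_of_dvd_pow h)
      obtain ⟨g, hgQ, hgr, hfix⟩ := NonsingPoints.exists_fpf_plus (F := F) d (by omega) hrp hr
      exact NonsingPoints.not_allFix_of_fpf S h2 (fun v => by rw [hQf]; exact hgQ v)
        (hrp.odd_of_ne_two hr2) hgr hfix hall'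
    refine ⟨hr2, ?_⟩
    by_contra hde
    rw [Nat.not_odd_iff_even] at hde
    subst hr2
    let g : (Fin d ⊕ Fin d → F) ≃ₗ[F] (Fin d ⊕ Fin d → F) :=
      { toFun := fun v => Sum.elim (fun i => v (.inl i) + v (.inr i.rev)) (fun i => v (.inr i))
        invFun := fun v => Sum.elim (fun i => v (.inl i) + v (.inr i.rev)) (fun i => v (.inr i))
        map_add' := fun v w => by
          funext i; rcases i with i | i <;> simp [add_add_add_comm]
        map_smul' := fun c v => by
          funext i; rcases i with i | i <;> simp [mul_add]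
        left_inv := fun v => by
          funext i
          rcases i with i | i
          · simp only [Sum.elim_inl, Sum.elim_inr]
            linear_combination (v (.inr i.rev)) * h2
          · rfl
        right_inv := fun v => by
          funext i
          rcases i with i | i
          · simp only [Sum.elim_inl, Sum.elim_inr]
            linear_combination (v (.inr i.rev)) * h2
          · rfl }
    have hrev : ∀ i : Fin d, i.rev ≠ i := fun i h => by
      have := congrArg Fin.val h
      simp only [Fin.val_rev] at this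
      obtain ⟨k, hk⟩ := hde
      omega
    have hgQ : g ∈ FormsLib.oGroup Q := fun v => by
      rw [hQf]
      show ∑ i, (v (.inl i) + v (.inr i.rev)) * v (.inr i) = ∑ i, v (.inl i) * v (.inr i)
      simp only [add_mul, Finset.sum_add_distrib]
      rw [add_eq_left]
      refine Finset.sum_involution (fun i _ => i.rev) (fun i _ => ?_) (fun i _ _ => hrev i)
        (fun i _ => Finset.mem_univ _) (fun i _ => Fin.rev_rev i)
      rw [Fin.rev_rev]
      linear_combination (v (.inr i.rev) * v (.inr i)) * h2
    have hgv : ∀ v, g v = v ↔ ∀ i, v (.inr i) = 0 := by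
      intro v
      refine ⟨fun h i => ?_, fun h => ?_⟩
      · have := congrFun h (.inl i.rev)
        simpa [g, Fin.rev_rev] using this
      · funext i
        rcases i with i | i
        · simp [g, h]
        · simp [g]
    refine NonsingPoints.not_allFix_involution S h2 hgQ ?_ ?_ (d := d) (by simp; ring) hde ?_ hall'
    · exact LinearEquiv.ext fun v => g.left_inv v
    · intro v hv
      rw [hQf]
      exact Finset.sum_eq_zero fun i _ => by rw [(hgv v).1 hv i, mul_zero]
    · let j : (Fin d → F) →ₗ[F] (Fin d ⊕ Fin d → F) :=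
        { toFun := fun a => Sum.elim a 0
          map_add' := fun a b => by funext i; rcases i with i | i <;> simp
          map_smul' := fun c a => by funext i; rcases i with i | i <;> simp }
      have hj : Function.Injective j := fun a b h => funext fun i => congrFun h (.inl i)
      have he : LinearMap.ker ((g : (Fin d ⊕ Fin d → F) →ₗ[F] (Fin d ⊕ Fin d → F)) - LinearMap.id) =
          LinearMap.range j := by
        ext v
        rw [LinearMap.mem_ker, LinearMap.sub_apply, sub_eq_zero]
        show g v = v ↔ _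
        rw [hgv]
        refine ⟨fun h => ⟨fun i => v (.inl i), funext fun i => ?_⟩, fun ⟨a, ha⟩ i => by rw [← ha]; rfl⟩
        rcases i with i | i
        · rfl
        · exact (h i).symm
      rw [he, LinearMap.finrank_range_of_inj hj]
      simp
  · rintro ⟨rfl, hd'⟩ x hx hz -
    rcases NonsingPoints.involution_fix S h2 (x := x) (by rw [hQf]; exact hx) hz with h | ⟨T, -, hT, hpar⟩
    · simpa only [hQf] using h
    · exfalso
      simp only [Fintype.card_sum, Fintype.card_fin] at hT hpar
      obtain ⟨k, rfl⟩ := hd'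
      omega

end Cfsg.Agent.S5985
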