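import Cfsg.Agent.Lib.TransvMax.NonsingModels
-- import your own Cfsg.Agent.* helpers here

set_option autoImplicit false
open scoped MatrixGroups
open Cfsg

namespace Cfsg.Agent.S5986

open Cfsg.Agent
open scoped Matrix

/-- Elements of prime order of Ω⁻_n(q), q even, with no fixed nonsingular 1-space. Here `T = PΩ⁻_n(F)`, `n = 2d ≥ 8`, realised through `Ω⁻_n(q)`, the commutator subgroup of the isometry group of `Q = Σ_{i<d−1} xᵢyᵢ + z₁² + a z₁z₂ + b z₂²` with `z₁² + a z₁z₂ + b z₂²` anisotropic, over the field `F` with `q` elements; an element of `T` of prime order `r` is an element `x` of `Ω⁻_n(q)` with `x^r` scalar and `x` not scalar; `q` is even (so the centre is trivial). Let Ω be the set of 1-dimensional subspaces spanned by a vector `v` with `Q(v) ≠ 0`, and let `r` be a prime dividing their number. Then every element of `T` of order `r` fixes some nonsingular 1-space if and only if `r = 2`. -/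
theorem result {F : Type*} [Field F] [Fintype F] {p : ℕ} [Fact p.Prime] [CharP F p] {q : ℕ} (hq : Fintype.card F = q)
    (hp : p = 2) (d : ℕ) (hd : 4 ≤ d) (a b : F) (hab : ∀ x y : F, x ^ 2 + a * x * y + b * y ^ 2 = 0 → x = 0 ∧ y = 0) (r : ℕ) [Fact r.Prime]
    (hrΩ : r ∣ Nat.card {W : Submodule F ((Fin (d - 1) ⊕ Fin (d - 1)) ⊕ Fin 2 → F) // Module.finrank F ↥W = 1 ∧ ∃ v ∈ W, Cfsg.quadFormMinus (d - 1) F a b v ≠ 0}) :
    (∀ x : GL ((Fin (d - 1) ⊕ Fin (d - 1)) ⊕ Fin 2) F, x ∈ Cfsg.Geo.omegaGL (Cfsg.quadFormMinus (d - 1) F a b) →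
      (∃ z : F, ((x ^ r : GL ((Fin (d - 1) ⊕ Fin (d - 1)) ⊕ Fin 2) F) : Matrix ((Fin (d - 1) ⊕ Fin (d - 1)) ⊕ Fin 2) ((Fin (d - 1) ⊕ Fin (d - 1)) ⊕ Fin 2) F) = z • (1 : Matrix ((Fin (d - 1) ⊕ Fin (d - 1)) ⊕ Fin 2) ((Fin (d - 1) ⊕ Fin (d - 1)) ⊕ Fin 2) F)) →
      (∀ z : F, (x : Matrix ((Fin (d - 1) ⊕ Fin (d - 1)) ⊕ Fin 2) ((Fin (d - 1) ⊕ Fin (d - 1)) ⊕ Fin 2) F) ≠ z • (1 : Matrix ((Fin (d - 1) ⊕ Fin (d - 1)) ⊕ Fin 2) ((Fin (d - 1) ⊕ Fin (d - 1)) ⊕ Fin 2) F)) →
      ∃ W : Submodule F ((Fin (d - 1) ⊕ Fin (d - 1)) ⊕ Fin 2 → F), (Module.finrank F ↥W = 1 ∧ ∃ v ∈ W, Cfsg.quadFormMinus (d - 1) F a b v ≠ 0) ∧ W.map (Matrix.toLin' (x : Matrix ((Fin (d - 1) ⊕ Fin (d - 1)) ⊕ Fin 2) ((Fin (d - 1) ⊕ Fin (d - 1)) ⊕ Fin 2) F)) ≤ W) ↔ r = 2 := by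
  classical
  subst hq
  have h2 : (2 : F) = 0 := by
    subst hp
    exact_mod_cast CharP.cast_eq_zero F 2
  obtain ⟨m, rfl⟩ : ∃ m, d = m + 1 := ⟨d - 1, by omega⟩
  revert hrΩ
  rw [show m + 1 - 1 = m by omega]
  intro hrΩ
  obtain ⟨Q, hQf, hnd⟩ := OrthForms.exists_qMinus m a b hab
  have S : QMax.QSetting Q := ⟨hnd, by simp; omega⟩
  set q := Fintype.card F
  have hN0 := FormCount.card_minus m a b hab
  have hscale : Nat.card {v // Cfsg.quadFormMinus m F a b v ≠ 0} =
      (Fintype.card F - 1) * Nat.card {v // Cfsg.quadFormMinus m F a b v = 1} := by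
    have hsm : ∀ (t : F) v, Cfsg.quadFormMinus m F a b (t • v) =
        t * t * Cfsg.quadFormMinus m F a b v := fun t v => by
      rw [← hQf, QuadraticMap.map_smul, smul_eq_mul]
    choose rt hrt using S.exists_sq h2
    let e : {v // Cfsg.quadFormMinus m F a b v ≠ 0} ≃ {c : F // c ≠ 0} ×
        {v // Cfsg.quadFormMinus m F a b v = 1} :=
      { toFun := fun v => (⟨_, v.2⟩, ⟨rt (Cfsg.quadFormMinus m F a b v.1)⁻¹ • v.1, by
          rw [hsm, hrt, inv_mul_cancel₀ v.2]⟩)
        invFun := fun p => ⟨rt p.1.1 • p.2.1, by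
          rw [hsm, hrt, p.2.2, mul_one]
          exact p.1.2⟩
        left_inv := fun v => by
          refine Subtype.ext ?_
          show rt _ • (rt _ • v.1) = v.1
          rw [smul_smul]
          conv_rhs => rw [← one_smul F v.1]
          congr 1
          refine NonsingPoints.sq_inj S h2 ?_
          rw [mul_mul_mul_comm, hrt, hrt, mul_one, mul_inv_cancel₀ v.2]
        right_inv := fun p => by
          have hQ : Cfsg.quadFormMinus m F a b (rt p.1.1 • p.2.1) = p.1.1 := by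
            rw [hsm, hrt, p.2.2, mul_one]
          refine Prod.ext (Subtype.ext hQ) (Subtype.ext ?_)
          show rt _ • (rt _ • p.2.1) = p.2.1
          rw [smul_smul]
          conv_rhs => rw [← one_smul F p.2.1]
          congr 1
          refine NonsingPoints.sq_inj S h2 ?_
          rw [mul_mul_mul_comm, hrt, hrt, hQ, mul_one, inv_mul_cancel₀ p.1.2] }
    rw [Nat.card_congr e, Nat.card_prod]
    congr 1
    rw [Nat.card_eq_fintype_card, Fintype.card_subtype_compl, Fintype.card_subtype_eq]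
  constructor
  · intro hall
    have hall' : NonsingPoints.AllFix Q r := by
      rw [NonsingPoints.AllFix, hQf]; exact hall
    have hrp : r.Prime := Fact.out
    by_contra hr2
    have hN1 : (q : ℤ) * Nat.card {v // Cfsg.quadFormMinus m F a b v = 1} =
        (q : ℤ) ^ (m + 1) * ((q : ℤ) ^ (m + 1) + 1) := by
      have htot : Nat.card {v // Cfsg.quadFormMinus m F a b v ≠ 0} +
          Nat.card {v // Cfsg.quadFormMinus m F a b v = 0} = q ^ (2 * m + 2) := by
        rw [Nat.card_eq_fintype_card, Nat.card_eq_fintype_card, Fintype.card_subtype_compl,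
          Nat.sub_add_cancel (Fintype.card_subtype_le _)]
        simp [q]
        ring
      rw [hscale] at htot
      have hq1 : 1 ≤ Fintype.card F := Fintype.card_pos
      have htot' := congrArg (Nat.cast : ℕ → ℤ) htot
      push_cast [Nat.cast_sub hq1] at htot'
      refine mul_left_cancel₀ (show ((q : ℤ) - 1) ≠ 0 by
        have := Fintype.one_lt_card (α := F); omega) ?_
      linear_combination (q : ℤ) * htot' - hN0
    have hr : r ∣ Fintype.card F ^ (m + 1) + 1 := by
      have hp' := NonsingPoints.card_points S h2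
      simp only [hQf] at hp'
      rw [hp'] at hrΩ
      have h1 : (r : ℤ) ∣ ((Fintype.card F ^ (m + 1) * (Fintype.card F ^ (m + 1) + 1) : ℕ) : ℤ) := by
        push_cast
        rw [← hN1]
        exact dvd_mul_of_dvd_right (Int.natCast_dvd_natCast.2 hrΩ) _
      exact (hrp.dvd_mul.1 (Int.natCast_dvd_natCast.1 h1)).resolve_left fun h =>
        NonsingPoints.not_dvd_card h2 hrp hr2 (hrp.dvd_of_dvd_pow h)
    obtain ⟨g, hgQ, hgr, hfix⟩ :=
      NonsingPoints.exists_fpf_minus h2 (m + 1) (by omega) a b hab hrp hr2 hr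
    exact NonsingPoints.not_allFix_of_fpf S h2 (fun v => by rw [hQf]; exact hgQ v)
      (hrp.odd_of_ne_two hr2) hgr hfix hall'
  · rintro rfl x hx hz -
    rcases NonsingPoints.involution_fix S h2 (x := x) (by rw [hQf]; exact hx) hz with h | ⟨T, hts, hT, -⟩
    · simpa only [hQf] using h
    · exfalso
      have := Spinor.minus_ts_finrank_le a b hab T (fun v hv => by rw [← hQf]; exact hts v hv)
      simp only [Fintype.card_sum, Fintype.card_fin] at hT
      omega

end Cfsg.Agent.S5986
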