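import Cfsg.Statements.S5987
import Cfsg.Agent.Lib.Elusive.OrthogonalEvenMain
import Cfsg.Agent.Lib.Elusive.OrthogonalEvenSquares

set_option autoImplicit false
open scoped MatrixGroups
open Cfsg

namespace Cfsg.Agent.S5987

/-- Elements of prime order of PΩ⁻_n(q) with no fixed totally singular `m`-space. Here `T = PΩ⁻_n(F)`, `n = 2d ≥ 8`, realised through `Ω⁻_n(q)`, the commutator subgroup of the isometry group of `Q = Σ_{i<d−1} xᵢyᵢ + z₁² + a z₁z₂ + b z₂²` with `z₁² + a z₁z₂ + b z₂²` anisotropic, over the field `F` with `q` elements; an element of `T` of prime order `r` is an element `x` of `Ω⁻_n(q)` with `x^r` scalar and `x` not scalar. Let `1 ≤ m ≤ d − 1` and let `r` be a prime dividing the number of totally singular `m`-spaces (subspaces of dimension `m` on which `Q` vanishes); for `r ≠ p` let `i` be the multiplicative order of `q` modulo `r`, `c = i` for `i` even and `c = 2i` for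 `i` odd, and write `k = n mod c`, `ℓ = m mod i`, `n' = ⌊n/i⌋`, `m' = ⌊m/i⌋`, `t = (r−1)/i`. Then every element of `T` of order `r` fixes some totally singular `m`-space if and only if one of: (i) `r = 2 ≠ p` and (`n ≡ 0 (mod 4)`, or `m` is even, or `q ≢ 7 (mod 8)`); (ii) `r ≠ p` odd, `i` odd, `i ≤ m` and (`k = 0` or `k > 2ℓ`); (iii) `r ≠ p` odd, `i` even, `i ≤ m`, `n' − 2m' ≥ t`, and one of: (a) `i ≥ 2ℓ`, `k = 0`, `n/i` even and `n' − 2m' > t` (all four); (b) `k ≥ 2ℓ` and `n'` odd; (c) `k > 2ℓ` and `n'` even. -/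
theorem result {F : Type*} [Field F] [Fintype F] {p : ℕ} [Fact p.Prime] [CharP F p] {q : ℕ} (hq : Fintype.card F = q)
    (d m : ℕ) (hd : 4 ≤ d) (hm : 1 ≤ m) (hmd : m + 1 ≤ d) (a b : F) (hab : ∀ x y : F, x ^ 2 + a * x * y + b * y ^ 2 = 0 → x = 0 ∧ y = 0)
    (r : ℕ) [Fact r.Prime]
    (hrΩ : r ∣ Nat.card {W : Submodule F ((Fin (d - 1) ⊕ Fin (d - 1)) ⊕ Fin 2 → F) // Module.finrank F ↥W = m ∧ Cfsg.Geo.IsTotallySingularQuad (Cfsg.quadFormMinus (d - 1) F a b) W})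
    (i c : ℕ) (hi : i = orderOf (q : ZMod r)) (hc : c = if Even i then i else 2 * i) :
    (∀ x : GL ((Fin (d - 1) ⊕ Fin (d - 1)) ⊕ Fin 2) F, x ∈ Cfsg.Geo.omegaGL (Cfsg.quadFormMinus (d - 1) F a b) →
      (∃ z : F, ((x ^ r : GL ((Fin (d - 1) ⊕ Fin (d - 1)) ⊕ Fin 2) F) : Matrix ((Fin (d - 1) ⊕ Fin (d - 1)) ⊕ Fin 2) ((Fin (d - 1) ⊕ Fin (d - 1)) ⊕ Fin 2) F) = z • (1 : Matrix ((Fin (d - 1) ⊕ Fin (d - 1)) ⊕ Fin 2) ((Fin (d - 1) ⊕ Fin (d - 1)) ⊕ Fin 2) F)) →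
      (∀ z : F, (x : Matrix ((Fin (d - 1) ⊕ Fin (d - 1)) ⊕ Fin 2) ((Fin (d - 1) ⊕ Fin (d - 1)) ⊕ Fin 2) F) ≠ z • (1 : Matrix ((Fin (d - 1) ⊕ Fin (d - 1)) ⊕ Fin 2) ((Fin (d - 1) ⊕ Fin (d - 1)) ⊕ Fin 2) F)) →
      ∃ W : Submodule F ((Fin (d - 1) ⊕ Fin (d - 1)) ⊕ Fin 2 → F), (Module.finrank F ↥W = m ∧ Cfsg.Geo.IsTotallySingularQuad (Cfsg.quadFormMinus (d - 1) F a b) W) ∧ W.map (Matrix.toLin' (x : Matrix ((Fin (d - 1) ⊕ Fin (d - 1)) ⊕ Fin 2) ((Fin (d - 1) ⊕ Fin (d - 1)) ⊕ Fin 2) F)) ≤ W) ↔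
    ((r = 2 ∧ p ≠ 2 ∧ (Even d ∨ Even m ∨ q % 8 ≠ 7)) ∨
     (r ≠ p ∧ 2 < r ∧ Odd i ∧ i ≤ m ∧ ((2 * d) % c = 0 ∨ 2 * (m % i) < (2 * d) % c)) ∨
     (r ≠ p ∧ 2 < r ∧ Even i ∧ i ≤ m ∧ (r - 1) / i + 2 * (m / i) ≤ (2 * d) / i ∧
       ((2 * (m % i) ≤ i ∧ (2 * d) % c = 0 ∧ Even ((2 * d) / i) ∧ (r - 1) / i + 2 * (m / i) < (2 * d) / i) ∨
        (2 * (m % i) ≤ (2 * d) % c ∧ Odd ((2 * d) / i)) ∨
        (2 * (m % i) < (2 * d) % c ∧ Even ((2 * d) / i))))) := by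
  classical
  subst hq hi hc
  obtain ⟨Q, hQc, hQ⟩ := Cfsg.Agent.OrthForms.exists_qMinus (d - 1) a b hab
  have hι : Fintype.card ((Fin (d - 1) ⊕ Fin (d - 1)) ⊕ Fin 2) = 2 * d := by simp; omega
  have hσ : (1 : ℕ) = 0 ∧ Cfsg.Agent.Elusive.OrthType.Half Q ⊤ ∨ (1 : ℕ) = 1 ∧ ¬ Cfsg.Agent.Elusive.OrthType.Half Q ⊤ := by
    refine Or.inr ⟨rfl, fun h => ?_⟩
    obtain ⟨W, -, hW, hWd⟩ := Cfsg.Agent.Elusive.OrthType.half_iff.1 h
    refine Cfsg.Agent.OrthClasses.minus_no_half (d - 1) a b hab ⟨W, ?_, fun w hw => (congrFun hQc w).symm.trans (hW w hw)⟩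
    rw [hWd, finrank_top, Module.finrank_pi, hι]
    omega
  have key := Cfsg.Agent.Elusive.OrthEvenMain.all_fix_iff (p := p) (Q := Q) (r := r)
    hQ (d := d) (m := m) (by omega) hι hσ hm hmd (by rw [hQc]; exact hrΩ)
  rw [hQc] at key
  simp only [Cfsg.Geo.IsTotallySingularQuad, and_assoc]
  refine key.trans (or_congr ?_ ?_)
  · refine and_congr_right fun _ => and_congr_right fun hp => ?_
    have h20 : (2 : F) ≠ 0 := Ring.two_ne_zero (by rwa [ringChar.eq F p])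
    have hodd := Cfsg.Agent.Elusive.OrthEvenSquares.card_mod_two (F := F) hp
    rw [FiniteField.isSquare_neg_one_iff, Cfsg.Agent.Elusive.OrthEvenSquares.two_pow_iff h20]
    simp only [Nat.even_iff, Nat.one_ne_zero, false_iff, false_implies, true_and]
    omega
  · rw [Cfsg.Agent.Elusive.OrthEven.Cond]
    set e := orderOf (Fintype.card F : ZMod r)
    set k := (2 * d) % if Even e then e else 2 * e with hk
    rcases Nat.even_or_odd e with he | he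
    · have hne := Nat.not_odd_iff_even.2 he
      simp only [hk, ↓reduceIte, he, hne, Nat.odd_add_one, Nat.even_add_one, Nat.not_odd_iff_even, Nat.not_even_iff_odd,
        false_and, and_false, or_false, false_or, true_and, ne_eq]
    · have hne := Nat.not_even_iff_odd.2 he
      rw [if_neg hne] at hk
      simp only [↓reduceIte, he, hne, false_and, and_false, or_false, false_or, true_and, ne_eq, ← hk]
      have hk2 : k % 2 = 0 := by
        rw [hk, Nat.mod_mod_of_dvd _ (dvd_mul_right 2 e), Nat.mul_mod_right]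
      refine and_congr_right fun _ => and_congr_right fun _ => and_congr_right fun _ => ?_
      omega

end Cfsg.Agent.S5987
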