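import Cfsg.Statements.S5988
import Cfsg.Agent.Lib.Elusive.OrthogonalNdOdd
import Cfsg.Agent.Lib.Elusive.OrthogonalNdTwo
import Cfsg.Agent.Lib.Elusive.OrthogonalNdUni

set_option autoImplicit false
open scoped MatrixGroups
open Cfsg

namespace Cfsg.Agent.S5988

/-- Elements of prime order of PΩ⁺_n(q) with no fixed elliptic `m`-space. Here `T = PΩ⁺_n(F)`, `n = 2d ≥ 8`, realised through `Ω⁺_n(q)`, the commutator subgroup of the isometry group of `Q = Σ xᵢyᵢ` over the field `F` with `q` elements; an element of `T` of prime order `r` is an element `x` of `Ω⁺_n(q)` with `x^r` scalar and `x` not scalar; a nondegenerate `m`-space (even `m`) is a subspace on which the polar form of `Q` is nondegenerate; it is hyperbolic if it contains an `m/2`-dimensional subspace on which `Q` vanishes, elliptic otherwise. Let `m` be even with `2 ≤ m < n/2` and let `r` be a prime dividing the number of elliptic `m`-spaces; for `r ≠ p` let `i` be the multiplicative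 order of `q` modulo `r`, `c = i` for `i` even and `c = 2i` for `i` odd, and write `k = n mod c`, `ℓ = m mod i`, `ℓ' = m mod c`, `n' = ⌊n/i⌋`, `m' = ⌊m/i⌋`, `t = (r−1)/i`. Then every element of `T` of order `r` fixes some elliptic `m`-space if and only if one of: (i) `r = 2 ≠ p` and either `n ≡ 0 (mod 4)`, `q ≡ 3 (mod 4)` and `m ≡ 2 (mod 4)`, or `n ≡ 2 (mod 4)` and `q ≢ 1 (mod 8)`; (ii) `r ≠ p` odd, `i` odd, `c ≤ m` and `k > ℓ' > 0`; (iii) `r ≠ p` odd, `i` even, and either `k = 0` and (`n/i` odd, or `ℓ' = 0` and `m/i` odd), or `i ≤ m` and (`k > ℓ' > 0`, or `k = ℓ' > 0` and `(n + m − 2k)/i` odd, or `k > ℓ' = 0` and `m/i` odd). (For `r = p` there is always an element of order `p` fixing no elliptic `m`-space.) -/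
theorem result {F : Type*} [Field F] [Fintype F] {p : ℕ} [Fact p.Prime] [CharP F p] {q : ℕ} (hq : Fintype.card F = q)
    (d m : ℕ) (hd : 4 ≤ d) (hm : 2 ≤ m) (hme : Even m) (hmd : m < d)
    (r : ℕ) [Fact r.Prime]
    (hrΩ : r ∣ Nat.card {W : Submodule F (Fin d ⊕ Fin d → F) // Module.finrank F ↥W = m ∧ Cfsg.Geo.IsNondegenerateOn (QuadraticMap.polar (Cfsg.quadFormPlus d F)) W ∧ ¬ Cfsg.Geo.IsPlusTypeOn (Cfsg.quadFormPlus d F) W})
    (i c : ℕ) (hi : i = orderOf (q : ZMod r)) (hc : c = if Even i then i else 2 * i) :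
    (∀ x : GL (Fin d ⊕ Fin d) F, x ∈ Cfsg.Geo.omegaGL (Cfsg.quadFormPlus d F) →
      (∃ z : F, ((x ^ r : GL (Fin d ⊕ Fin d) F) : Matrix (Fin d ⊕ Fin d) (Fin d ⊕ Fin d) F) = z • (1 : Matrix (Fin d ⊕ Fin d) (Fin d ⊕ Fin d) F)) →
      (∀ z : F, (x : Matrix (Fin d ⊕ Fin d) (Fin d ⊕ Fin d) F) ≠ z • (1 : Matrix (Fin d ⊕ Fin d) (Fin d ⊕ Fin d) F)) →
      ∃ W : Submodule F (Fin d ⊕ Fin d → F), (Module.finrank F ↥W = m ∧ Cfsg.Geo.IsNondegenerateOn (QuadraticMap.polar (Cfsg.quadFormPlus d F)) W ∧ ¬ Cfsg.Geo.IsPlusTypeOn (Cfsg.quadFormPlus d F) W) ∧ W.map (Matrix.toLin' (x : Matrix (Fin d ⊕ Fin d) (Fin d ⊕ Fin d) F)) ≤ W) ↔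
    ((r = 2 ∧ p ≠ 2 ∧ ((Even d ∧ q % 4 = 3 ∧ m % 4 = 2) ∨ (Odd d ∧ q % 8 ≠ 1))) ∨
     (r ≠ p ∧ 2 < r ∧ Odd i ∧ c ≤ m ∧ 0 < m % c ∧ m % c < (2 * d) % c) ∨
     (r ≠ p ∧ 2 < r ∧ Even i ∧
       (((2 * d) % c = 0 ∧ (Odd ((2 * d) / i) ∨ (m % c = 0 ∧ Odd (m / i)))) ∨
        (i ≤ m ∧ ((0 < m % c ∧ m % c < (2 * d) % c) ∨
                  (0 < m % c ∧ m % c = (2 * d) % c ∧ Odd ((2 * d + m - 2 * ((2 * d) % c)) / i)) ∨
                  (m % c = 0 ∧ 0 < (2 * d) % c ∧ Odd (m / i))))))) := by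
  classical
  subst hq hi
  have hrpr := (Fact.out : r.Prime)
  have hppr := (Fact.out : p.Prime)
  set Q := Cfsg.Agent.OrthOrder.qPlus d F with hQdef
  have hQc : ⇑Q = Cfsg.quadFormPlus d F := funext (Cfsg.Agent.OrthOrder.qPlus_apply d)
  have hQ : (QuadraticMap.polarBilin Q).Nondegenerate := Cfsg.Agent.OrthForms.qPlus_nondeg d
  have hι : Fintype.card (Fin d ⊕ Fin d) = 2 * d := by simp; omega
  have hH : Cfsg.Agent.Elusive.OrthType.Half Q ⊤ := by
    refine Cfsg.Agent.Elusive.OrthType.half_iff.2 ?_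
    obtain ⟨W, hW, hW'⟩ := Cfsg.Agent.OrthClasses.plus_half (F := F) d
    refine ⟨W, le_top, fun w hw => (congrFun hQc w).trans (hW' w hw), ?_⟩
    rw [hW, finrank_top, Module.finrank_pi, hι]
    omega
  have hk : ∀ W : Submodule F (Fin d ⊕ Fin d → F),
      (Module.finrank F W = m ∧ Cfsg.Geo.IsNondegenerateOn (QuadraticMap.polar (Cfsg.quadFormPlus d F)) W ∧
        ¬ Cfsg.Geo.IsPlusTypeOn (Cfsg.quadFormPlus d F) W) ↔
      (Module.finrank F W = m ∧ Cfsg.Agent.Elusive.FormIso.NdOn (QuadraticMap.polarBilin Q) W ∧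
        (Cfsg.Agent.Elusive.OrthType.Half Q W ↔ False)) := fun W => by
    rw [← hQc, Cfsg.Agent.Elusive.OrthNd.ndOn_iff, iff_false]
    exact and_congr_right fun hd' => and_congr_right fun _ =>
      not_congr (Cfsg.Agent.Elusive.OrthNd.plus_iff (hd' ▸ hme))
  simp only [hk] at hrΩ ⊢
  rw [← hQc]
  by_cases hrp : r = p
  · subst hrp
    refine iff_of_false (fun hall => ?_) (by simp; omega)
    obtain ⟨x, hx, hxp, hxn, hbad⟩ := Cfsg.Agent.Elusive.OrthNd.uni_bad (p := r) hQ (d := d) (a := d / 2) hι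
      (by omega) (by omega) (Or.inr ⟨by omega, hH⟩)
    obtain ⟨W, ⟨hWd, hW, hWpl⟩, hWT⟩ := hall x hx ⟨1, hxp⟩ hxn
    obtain ⟨b, w, hbw, hw, hw0, hw2⟩ := hbad W hW hWT
    rw [hWd] at hbw
    refine hWpl.1 ?_
    rcases Nat.eq_zero_or_pos w with h | h
    · exact hw0 h
    · rw [Nat.even_iff] at hme
      exact hw2 (by omega) (by omega) hH
  have hrp' : r ≠ p := hrp
  by_cases hr2 : r = 2
  · subst hr2
    have hp : p ≠ 2 := fun h => hrp h.symm
    have h20 : (2 : F) ≠ 0 := Ring.two_ne_zero (by rwa [ringChar.eq F p])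
    have hodd := Cfsg.Agent.Elusive.OrthEvenSquares.card_mod_two (F := F) hp
    obtain ⟨h, rfl⟩ := hme
    rw [← two_mul] at hm hmd hrΩ ⊢
    rw [Cfsg.Agent.Elusive.OrthNd.two_even_iff h20 hQ (by omega) hι (by omega) (by omega) False,
      FiniteField.isSquare_neg_one_iff, Cfsg.Agent.Elusive.OrthEvenSquares.two_pow_iff h20]
    simp only [hH, hp, Nat.even_iff, Nat.odd_iff, true_iff, false_iff, ne_eq, not_false_eq_true, true_and, lt_irrefl,
      false_and, and_false, or_false]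
    omega
  have hr3 : 2 < r := lt_of_le_of_ne hrpr.two_le (Ne.symm hr2)
  rw [Cfsg.Agent.Elusive.OrthNd.even_iff_cond (p := p) (c := c) hQ (by omega) hι (by omega) hme (by omega) False
    hr2 hrp hc hrΩ]
  set e := orderOf (Fintype.card F : ZMod r) with he
  have hn := Nat.div_add_mod (2 * d) c
  have hmdiv := Nat.div_add_mod m c
  have hcm : m % c = 0 → c ≤ m := fun h => Nat.le_of_dvd (by omega) (Nat.dvd_of_mod_eq_zero h)
  have hle : m / c ≤ 2 * d / c := Nat.div_le_div_right (by omega)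
  simp only [hH, hr2, hr3, hrp', Cfsg.Agent.Elusive.OrthNd.Plus, ne_eq, not_false_eq_true, false_and, false_or,
    true_and, false_iff, true_iff]
  rcases Nat.even_or_odd e with hev | hodd
  · rw [if_pos hev] at hc
    subst hc
    have hne := Nat.not_odd_iff_even.2 hev
    have hc0 : 0 < e := Nat.pos_of_ne_zero fun h => by
      have h1 : orderOf (Fintype.card F : ZMod r) ≠ 0 :=
        (orderOf_pos_iff.2 (isUnit_iff_ne_zero.2 (Cfsg.Agent.Elusive.card_cast_ne_zero (F := F) (p := p) hrp)).isOfFinOrder).ne'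
      exact h1 h
    have hsum : m % e = 2 * d % e → (2 * d + m - 2 * (2 * d % e)) / e = 2 * d / e + m / e := fun h => by
      rw [show 2 * d + m - 2 * (2 * d % e) = e * (2 * d / e + m / e) by rw [Nat.mul_add]; omega,
        Nat.mul_div_cancel_left _ hc0]
    have hX : m % e = 2 * d % e → ((2 * d + m - 2 * (2 * d % e)) / e) % 2 = (2 * d / e - m / e) % 2 := fun h => by
      rw [hsum h]; omega
    simp only [hev, hne, Nat.even_iff, Nat.odd_iff, forall_const, false_and, false_or, true_and]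
    generalize (2 * d + m - 2 * (2 * d % e)) / e = X at hX ⊢
    generalize hN : 2 * d / e = N at hn hle hX ⊢
    generalize hM : m / e = M at hmdiv hle hX ⊢
    generalize hk' : 2 * d % e = k at hn hX ⊢
    generalize hl' : m % e = l at hmdiv hcm hX ⊢
    clear hsum
    omega
  · have hne := Nat.not_even_iff_odd.2 hodd
    simp only [hodd, hne, false_implies, not_true_eq_false, and_false, false_and, false_or, or_false, true_and]

end Cfsg.Agent.S5988
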