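import Cfsg.Statements.S5989
import Cfsg.Agent.Lib.Elusive.OrthogonalNdOdd
import Cfsg.Agent.Lib.Elusive.OrthogonalNdTwo
import Cfsg.Agent.Lib.Elusive.OrthogonalNdSiegel
import Cfsg.Agent.Lib.Elusive.OrthogonalNdJordan

set_option autoImplicit false
open scoped MatrixGroups
open Cfsg

namespace Cfsg.Agent.S5989

/-- Elements of prime order of PΩ⁺_n(q), q odd, with no fixed nondegenerate `m`-space of odd dimension. Here `T = PΩ⁺_n(F)`, `n = 2d ≥ 8`, realised through `Ω⁺_n(q)`, the commutator subgroup of the isometry group of `Q = Σ xᵢyᵢ` over the field `F` with `q` elements; an element of `T` of prime order `r` is an element `x` of `Ω⁺_n(q)` with `x^r` scalar and `x` not scalar; `q` and `m` are odd, `1 ≤ m < n/2`. The nondegenerate `m`-spaces (subspaces on which the polar form is nondegenerate) fall into two isometry classes, each an orbit of `T`, and the two actions are equivalent; fix one such space `W₀` and let Ω be the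 set of nondegenerate `m`-spaces isometric to `W₀` (some linear isomorphism preserves `Q`). Let `r` be a prime dividing the size of Ω; for `r ≠ p` let `i` be the multiplicative order of `q` modulo `r`, `c = i` for `i` even and `c = 2i` for `i` odd, and write `k = n mod c`, `ℓ = m mod i`, `ℓ' = m mod c`, `n' = ⌊n/i⌋`, `m' = ⌊m/i⌋`, `t = (r−1)/i`. Then every element of `T` of order `r` fixes a member of Ω if and only if one of: (i) `r = 2`, `n ≡ 2 (mod 4)` and `q ≢ 1 (mod 8)`; (ii) `r ≠ p` odd, `i` odd, `c ≤ m` and `k > ℓ' > 0`; (iii) `r ≠ p` odd, `i` even, and either `k = 0` and `n/i` odd, or `i ≤ m` and `k > ℓ' > 0`. (For `r = p` there is always an element of order `p` fixing no member of Ω.) -/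
theorem result {F : Type*} [Field F] [Fintype F] {p : ℕ} [Fact p.Prime] [CharP F p] {q : ℕ} (hq : Fintype.card F = q)
    (hodd : Odd q) (d m : ℕ) (hd : 4 ≤ d) (hm : Odd m) (hmd : m < d)
    (W₀ : Submodule F (Fin d ⊕ Fin d → F)) (hW₀ : Module.finrank F ↥W₀ = m ∧ Cfsg.Geo.IsNondegenerateOn (QuadraticMap.polar (Cfsg.quadFormPlus d F)) W₀)
    (r : ℕ) [Fact r.Prime]
    (hrΩ : r ∣ Nat.card {W : Submodule F (Fin d ⊕ Fin d → F) // Module.finrank F ↥W = m ∧ Cfsg.Geo.IsNondegenerateOn (QuadraticMap.polar (Cfsg.quadFormPlus d F)) W ∧ Cfsg.Geo.AreIsometricFor (Cfsg.quadFormPlus d F) W W₀})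
    (i c : ℕ) (hi : i = orderOf (q : ZMod r)) (hc : c = if Even i then i else 2 * i) :
    (∀ x : GL (Fin d ⊕ Fin d) F, x ∈ Cfsg.Geo.omegaGL (Cfsg.quadFormPlus d F) →
      (∃ z : F, ((x ^ r : GL (Fin d ⊕ Fin d) F) : Matrix (Fin d ⊕ Fin d) (Fin d ⊕ Fin d) F) = z • (1 : Matrix (Fin d ⊕ Fin d) (Fin d ⊕ Fin d) F)) →
      (∀ z : F, (x : Matrix (Fin d ⊕ Fin d) (Fin d ⊕ Fin d) F) ≠ z • (1 : Matrix (Fin d ⊕ Fin d) (Fin d ⊕ Fin d) F)) →
      ∃ W : Submodule F (Fin d ⊕ Fin d → F), (Module.finrank F ↥W = m ∧ Cfsg.Geo.IsNondegenerateOn (QuadraticMap.polar (Cfsg.quadFormPlus d F)) W ∧ Cfsg.Geo.AreIsometricFor (Cfsg.quadFormPlus d F) W W₀) ∧ W.map (Matrix.toLin' (x : Matrix (Fin d ⊕ Fin d) (Fin d ⊕ Fin d) F)) ≤ W) ↔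
    ((r = 2 ∧ Odd d ∧ q % 8 ≠ 1) ∨
     (r ≠ p ∧ 2 < r ∧ Odd i ∧ c ≤ m ∧ 0 < m % c ∧ m % c < (2 * d) % c) ∨
     (r ≠ p ∧ 2 < r ∧ Even i ∧ (((2 * d) % c = 0 ∧ Odd ((2 * d) / i)) ∨ (i ≤ m ∧ 0 < m % c ∧ m % c < (2 * d) % c)))) := by
  classical
  subst hq hi
  have hrpr := (Fact.out : r.Prime)
  have hppr := (Fact.out : p.Prime)
  set Q := Cfsg.Agent.OrthOrder.qPlus d F with hQdef
  have hQc : ⇑Q = Cfsg.quadFormPlus d F := funext (Cfsg.Agent.OrthOrder.qPlus_apply d)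
  have hQ : (QuadraticMap.polarBilin Q).Nondegenerate := Cfsg.Agent.OrthForms.qPlus_nondeg d
  have hι : Fintype.card (Fin d ⊕ Fin d) = 2 * d := by simp; omega
  have hH : Cfsg.Agent.Elusive.OrthType.Half Q ⊤ := by
    refine Cfsg.Agent.Elusive.OrthType.half_iff.2 ?_
    obtain ⟨W, hW, hW'⟩ := Cfsg.Agent.OrthClasses.plus_half (F := F) d
    refine ⟨W, le_top, fun w hw => (congrFun hQc w).trans (hW' w hw), ?_⟩
    rw [hW, finrank_top, Module.finrank_pi, hι]
    omega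
  obtain ⟨hW₀d, hW₀n⟩ := hW₀
  rw [← hQc, Cfsg.Agent.Elusive.OrthNd.ndOn_iff] at hW₀n
  have hp2 : p ≠ 2 := fun h => by
    have := (FiniteField.even_card_iff_char_two (F := F)).1 ((ringChar.eq F p).trans h)
    rw [Nat.odd_iff] at hodd
    omega
  have h20 : (2 : F) ≠ 0 := Ring.two_ne_zero (by rwa [ringChar.eq F p])
  have hk : ∀ W : Submodule F (Fin d ⊕ Fin d → F),
      (Module.finrank F W = m ∧ Cfsg.Geo.IsNondegenerateOn (QuadraticMap.polar (Cfsg.quadFormPlus d F)) W ∧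
        Cfsg.Geo.AreIsometricFor (Cfsg.quadFormPlus d F) W W₀) ↔ Cfsg.Agent.Elusive.OrthNd.Iso Q W W₀ := fun W => by
    rw [← hQc, Cfsg.Agent.Elusive.OrthNd.ndOn_iff, Cfsg.Agent.Elusive.OrthNd.iso_iff]
    exact ⟨fun h => h.2.2, fun h => ⟨h.finrank_eq'.trans hW₀d, h.ndOn hW₀n, h⟩⟩
  simp only [hk] at hrΩ ⊢
  rw [← hQc]
  by_cases hrp : r = p
  · subst hrp
    refine iff_of_false (fun hall => ?_) (by simp only [ne_eq, not_true_eq_false, false_and, or_false, hp2, not_false_eq_true])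
    rcases Nat.even_or_odd d with hde | hdo
    · obtain ⟨x, hx, hxp, hxn, hbad⟩ := Cfsg.Agent.Elusive.OrthNd.siegel_bad (p := r) hp2 hQ hι (by omega) hde hm hmd
        hW₀n hW₀d
      obtain ⟨W, hW, hWT⟩ := hall x hx ⟨1, hxp⟩ hxn
      exact hbad W hWT hW
    · refine Cfsg.Agent.Elusive.OrthNd.jordan_bad hp2 ⟨hQ, by omega⟩ hd hdo hm (fun μ hμ hev hod hsum => ?_)
        (C := fun W => Cfsg.Agent.Elusive.OrthNd.Iso Q W W₀)
        (fun W hW => ⟨hW.finrank_eq'.trans hW₀d, Cfsg.Agent.Elusive.OrthNd.ndOn_iff.2 (hW.ndOn hW₀n)⟩) hall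
      obtain ⟨a, b, hab⟩ : ∃ a b : F, ∀ z₁ z₂ : F, z₁ ^ 2 + a * z₁ * z₂ + b * z₂ ^ 2 = 0 → z₁ = 0 ∧ z₂ = 0 :=
        Cfsg.Agent.Spinor.exists_aniso F
      obtain ⟨⟨l, hl, L, hL⟩, -⟩ := Cfsg.Agent.JordanOrth.exists_even_model h20 (by omega) hμ hev hod hsum a b hab
      exact ⟨l, hl, L, fun v => (congrFun hQc _).trans (hL v)⟩
  have hrp' : r ≠ p := hrp
  by_cases hr2 : r = 2
  · subst hr2
    have hmod := Cfsg.Agent.Elusive.OrthEvenSquares.card_mod_two (F := F) hp2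
    rw [Cfsg.Agent.Elusive.OrthNd.two_odd_iff h20 hQ (by omega) hι hm hmd hW₀n hW₀d,
      FiniteField.isSquare_neg_one_iff, Cfsg.Agent.Elusive.OrthEvenSquares.two_pow_iff h20]
    simp only [hH, Nat.even_iff, Nat.odd_iff, true_iff, false_iff, ne_eq, true_and, lt_irrefl, false_and,
      and_false, or_false]
    omega
  have hr3 : 2 < r := lt_of_le_of_ne hrpr.two_le (Ne.symm hr2)
  rw [Cfsg.Agent.Elusive.OrthNd.odd_iff_cond (p := p) (c := c) h20 hQ (by omega) hι hm (by omega) hW₀n hW₀d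
    hr2 hrp hc hrΩ]
  set e := orderOf (Fintype.card F : ZMod r) with he
  simp only [hH, hr2, hr3, hrp', Cfsg.Agent.Elusive.OrthNd.Plus, ne_eq, not_false_eq_true, false_and, false_or,
    true_and, false_iff, true_iff, not_not]
  rcases Nat.even_or_odd e with hev | hoe
  · rw [if_pos hev] at hc
    subst hc
    have hne := Nat.not_odd_iff_even.2 hev
    simp only [hev, hne, Nat.even_iff, Nat.odd_iff, forall_const, false_and, false_or, true_and]
    omega
  · have hne := Nat.not_even_iff_odd.2 hoe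
    simp only [hoe, hne, false_implies, not_true_eq_false, and_false, false_and, false_or, or_false, true_and, and_true]

end Cfsg.Agent.S5989
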