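import Cfsg.Statements.S5990
import Cfsg.Agent.Lib.Elusive.OrthogonalNdOdd
import Cfsg.Agent.Lib.Elusive.OrthogonalNdTwo
import Cfsg.Agent.Lib.Elusive.OrthogonalNdInvol

set_option autoImplicit false
open scoped MatrixGroups
open Cfsg

namespace Cfsg.Agent.S5990

/-- Elements of prime order of PΩ⁻_n(q) with no fixed elliptic `m`-space. Here `T = PΩ⁻_n(F)`, `n = 2d ≥ 8`, realised through `Ω⁻_n(q)`, the commutator subgroup of the isometry group of `Q = Σ_{i<d−1} xᵢyᵢ + z₁² + a z₁z₂ + b z₂²` with `z₁² + a z₁z₂ + b z₂²` anisotropic, over the field `F` with `q` elements; an element of `T` of prime order `r` is an element `x` of `Ω⁻_n(q)` with `x^r` scalar and `x` not scalar; a nondegenerate `m`-space (even `m`) is a subspace on which the polar form of `Q` is nondegenerate; it is hyperbolic if it contains an `m/2`-dimensional subspace on which `Q` vanishes, elliptic otherwise. Let `m` be even with `2 ≤ m ≤ n − 2` (no restriction `m <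 n/2`: fixing an elliptic `m`-space is the same as fixing its hyperbolic orthogonal complement) and let `r` be a prime dividing the number of elliptic `m`-spaces, with `r = 2` or `r ≠ p`; for `r ≠ p` let `i` be the multiplicative order of `q` modulo `r`, `c = i` for `i` even and `c = 2i` for `i` odd, and write `k = n mod c`, `ℓ = m mod i`, `ℓ' = m mod c`, `n' = ⌊n/i⌋`, `m' = ⌊m/i⌋`, `t = (r−1)/i`. Then every element of `T` of order `r` fixes some elliptic `m`-space if and only if one of: (i) `r = p = 2` and (`n ≡ 0 (mod 4)` or `m ≡ 2 (mod 4)`); (ii) `r = 2 ≠ p` and (`n ≡ 0 (mod 4)`, or `q ≢ 7 (mod 8)`, or `m ≡ 2 (mod 4)`); (iii) `r ≠ p` odd, `i` odd, and `k = 0` or (`c ≤ m` and `k ≥ ℓ' > 0`); (iv) `r ≠ p` odd, `i` even, and either `k = 0` and (`n/i` even, or `ℓ' = 0` and `m/i` odd), or `k > 0`, `i ≤ m` and (`k > ℓ' > 0`, or `ℓ' = 0` and `m/i` odd, or `k = ℓ'` and `(n + m − 2k)/i` even). (Odd `r = p` is not covered by this statement.)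 -/
theorem result {F : Type*} [Field F] [Fintype F] {p : ℕ} [Fact p.Prime] [CharP F p] {q : ℕ} (hq : Fintype.card F = q)
    (d m : ℕ) (hd : 4 ≤ d) (hm : 2 ≤ m) (hme : Even m) (hmn : m + 2 ≤ 2 * d) (a b : F) (hab : ∀ x y : F, x ^ 2 + a * x * y + b * y ^ 2 = 0 → x = 0 ∧ y = 0)
    (r : ℕ) [Fact r.Prime] (hr : r = 2 ∨ r ≠ p)
    (hrΩ : r ∣ Nat.card {W : Submodule F ((Fin (d - 1) ⊕ Fin (d - 1)) ⊕ Fin 2 → F) // Module.finrank F ↥W = m ∧ Cfsg.Geo.IsNondegenerateOn (QuadraticMap.polar (Cfsg.quadFormMinus (d - 1) F a b)) W ∧ ¬ Cfsg.Geo.IsPlusTypeOn (Cfsg.quadFormMinus (d - 1) F a b) W})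
    (i c : ℕ) (hi : i = orderOf (q : ZMod r)) (hc : c = if Even i then i else 2 * i) :
    (∀ x : GL ((Fin (d - 1) ⊕ Fin (d - 1)) ⊕ Fin 2) F, x ∈ Cfsg.Geo.omegaGL (Cfsg.quadFormMinus (d - 1) F a b) →
      (∃ z : F, ((x ^ r : GL ((Fin (d - 1) ⊕ Fin (d - 1)) ⊕ Fin 2) F) : Matrix ((Fin (d - 1) ⊕ Fin (d - 1)) ⊕ Fin 2) ((Fin (d - 1) ⊕ Fin (d - 1)) ⊕ Fin 2) F) = z • (1 : Matrix ((Fin (d - 1) ⊕ Fin (d - 1)) ⊕ Fin 2) ((Fin (d - 1) ⊕ Fin (d - 1)) ⊕ Fin 2) F)) →
      (∀ z : F, (x : Matrix ((Fin (d - 1) ⊕ Fin (d - 1)) ⊕ Fin 2) ((Fin (d - 1) ⊕ Fin (d - 1)) ⊕ Fin 2) F) ≠ z • (1 : Matrix ((Fin (d - 1) ⊕ Fin (d - 1)) ⊕ Fin 2) ((Fin (d - 1) ⊕ Fin (d - 1)) ⊕ Fin 2) F)) →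
      ∃ W : Submodule F ((Fin (d - 1) ⊕ Fin (d - 1)) ⊕ Fin 2 → F), (Module.finrank F ↥W = m ∧ Cfsg.Geo.IsNondegenerateOn (QuadraticMap.polar (Cfsg.quadFormMinus (d - 1) F a b)) W ∧ ¬ Cfsg.Geo.IsPlusTypeOn (Cfsg.quadFormMinus (d - 1) F a b) W) ∧ W.map (Matrix.toLin' (x : Matrix ((Fin (d - 1) ⊕ Fin (d - 1)) ⊕ Fin 2) ((Fin (d - 1) ⊕ Fin (d - 1)) ⊕ Fin 2) F)) ≤ W) ↔
    ((r = 2 ∧ p = 2 ∧ (Even d ∨ m % 4 = 2)) ∨
     (r = 2 ∧ p ≠ 2 ∧ (Even d ∨ q % 8 ≠ 7 ∨ m % 4 = 2)) ∨
     (r ≠ p ∧ 2 < r ∧ Odd i ∧ ((2 * d) % c = 0 ∨ (c ≤ m ∧ 0 < m % c ∧ m % c ≤ (2 * d) % c))) ∨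
     (r ≠ p ∧ 2 < r ∧ Even i ∧
       (((2 * d) % c = 0 ∧ (Even ((2 * d) / i) ∨ (m % c = 0 ∧ Odd (m / i)))) ∨
        (0 < (2 * d) % c ∧ i ≤ m ∧ ((0 < m % c ∧ m % c < (2 * d) % c) ∨ (m % c = 0 ∧ Odd (m / i)) ∨
                                    (m % c = (2 * d) % c ∧ Even ((2 * d + m - 2 * ((2 * d) % c)) / i))))))) := by
  classical
  subst hq hi
  have hrpr := (Fact.out : r.Prime)
  have hppr := (Fact.out : p.Prime)
  obtain ⟨Q, hQc, hQ⟩ := Cfsg.Agent.OrthForms.exists_qMinus (d - 1) a b hab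
  have hι : Fintype.card ((Fin (d - 1) ⊕ Fin (d - 1)) ⊕ Fin 2) = 2 * d := by simp; omega
  have hH : ¬ Cfsg.Agent.Elusive.OrthType.Half Q ⊤ := fun h => by
    obtain ⟨W, -, hW, hWd⟩ := Cfsg.Agent.Elusive.OrthType.half_iff.1 h
    refine Cfsg.Agent.OrthClasses.minus_no_half (d - 1) a b hab ⟨W, ?_, fun w hw => (congrFun hQc w).symm.trans (hW w hw)⟩
    rw [hWd, finrank_top, Module.finrank_pi, hι]
    omega
  have hk : ∀ W : Submodule F ((Fin (d - 1) ⊕ Fin (d - 1)) ⊕ Fin 2 → F),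
      (Module.finrank F W = m ∧ Cfsg.Geo.IsNondegenerateOn (QuadraticMap.polar (Cfsg.quadFormMinus (d - 1) F a b)) W ∧
        ¬ Cfsg.Geo.IsPlusTypeOn (Cfsg.quadFormMinus (d - 1) F a b) W) ↔
      (Module.finrank F W = m ∧ Cfsg.Agent.Elusive.FormIso.NdOn (QuadraticMap.polarBilin Q) W ∧
        (Cfsg.Agent.Elusive.OrthType.Half Q W ↔ False)) := fun W => by
    rw [← hQc, Cfsg.Agent.Elusive.OrthNd.ndOn_iff, iff_false]
    exact and_congr_right fun hd' => and_congr_right fun _ =>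
      not_congr (Cfsg.Agent.Elusive.OrthNd.plus_iff (hd' ▸ hme))
  simp only [hk] at hrΩ ⊢
  rw [← hQc]
  obtain ⟨h, rfl⟩ := hme
  rw [← two_mul] at *
  by_cases hr2 : r = 2
  · subst hr2
    by_cases hp2 : p = 2
    · subst hp2
      have h20 : (2 : F) = 0 := by exact_mod_cast CharP.cast_eq_zero F 2
      have hqe : Fintype.card F % 2 = 0 := FiniteField.even_card_of_char_two (ringChar.eq F 2)
      constructor
      · intro hall
        by_contra hcon
        simp only [lt_irrefl, ne_eq, not_true_eq_false, false_and, and_false, or_false, true_and, Nat.even_iff,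
          Nat.odd_iff] at hcon
        obtain ⟨x, hx, hxp, hxn, hbad⟩ := Cfsg.Agent.Elusive.OrthNd.uni_bad (p := 2) hQ (d := d) (a := (d - 1) / 2) hι
          (by omega) (by omega) (Or.inl (by omega))
        obtain ⟨W, ⟨hWd, hW, hWpl⟩, hWT⟩ := hall x hx ⟨1, hxp⟩ hxn
        obtain ⟨b', w, hbw, hw, hw0, -⟩ := hbad W hW hWT
        rw [hWd] at hbw
        exact hWpl.1 (hw0 (by omega))
      · intro hcond x hx ⟨z, hz⟩ _
        simp only [lt_irrefl, ne_eq, not_true_eq_false, false_and, and_false, or_false, true_and, Nat.even_iff,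
          Nat.odd_iff] at hcond
        exact Cfsg.Agent.Elusive.OrthNd.invol_fix h20 hQ (by omega) hι (by omega) (by omega) False
          (by simp only [hH, Nat.even_iff, Nat.odd_iff, not_true_eq_false, not_false_eq_true, true_and, false_and, false_or, or_false]; omega) hx hz
    have h20 : (2 : F) ≠ 0 := Ring.two_ne_zero (by rwa [ringChar.eq F p])
    have hodd := Cfsg.Agent.Elusive.OrthEvenSquares.card_mod_two (F := F) hp2
    rw [Cfsg.Agent.Elusive.OrthNd.two_even_iff h20 hQ (by omega) hι (by omega) (by omega) False,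
      FiniteField.isSquare_neg_one_iff, Cfsg.Agent.Elusive.OrthEvenSquares.two_pow_iff h20]
    simp only [hH, hp2, Nat.even_iff, Nat.odd_iff, true_iff, false_iff, ne_eq, not_false_eq_true, true_and, lt_irrefl,
      false_and, and_false, false_or, or_false]
    omega
  have hrp : r ≠ p := hr.resolve_left hr2
  have hrp' := hrp
  have hr3 : 2 < r := lt_of_le_of_ne hrpr.two_le (Ne.symm hr2)
  generalize hm2 : 2 * h = m at *
  have hme : Even m := ⟨h, by omega⟩
  rw [Cfsg.Agent.Elusive.OrthNd.even_iff_cond (p := p) (c := c) hQ (by omega) hι (by omega) hme (by omega) False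
    hr2 hrp hc hrΩ]
  set e := orderOf (Fintype.card F : ZMod r) with he
  have hn := Nat.div_add_mod (2 * d) c
  have hmdiv := Nat.div_add_mod m c
  have hcm : m % c = 0 → c ≤ m := fun h => Nat.le_of_dvd (by omega) (Nat.dvd_of_mod_eq_zero h)
  have hle : m / c ≤ 2 * d / c := Nat.div_le_div_right (by omega)
  simp only [hH, hr2, hr3, hrp', Cfsg.Agent.Elusive.OrthNd.Plus, ne_eq, not_false_eq_true, false_and, false_or,
    true_and, false_iff, true_iff]
  rcases Nat.even_or_odd e with hev | hodd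
  · rw [if_pos hev] at hc
    subst hc
    have hne := Nat.not_odd_iff_even.2 hev
    have hc0 : 0 < e := Nat.pos_of_ne_zero fun h => by
      have h1 : orderOf (Fintype.card F : ZMod r) ≠ 0 :=
        (orderOf_pos_iff.2 (isUnit_iff_ne_zero.2 (Cfsg.Agent.Elusive.card_cast_ne_zero (F := F) (p := p) hrp)).isOfFinOrder).ne'
      exact h1 h
    have hsum : m % e = 2 * d % e → (2 * d + m - 2 * (2 * d % e)) / e = 2 * d / e + m / e := fun h => by
      rw [show 2 * d + m - 2 * (2 * d % e) = e * (2 * d / e + m / e) by rw [Nat.mul_add]; omega,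
        Nat.mul_div_cancel_left _ hc0]
    have hX : m % e = 2 * d % e → ((2 * d + m - 2 * (2 * d % e)) / e) % 2 = (2 * d / e - m / e) % 2 := fun h => by
      rw [hsum h]; omega
    simp only [hev, hne, Nat.even_iff, Nat.odd_iff, forall_const, false_and, false_or, true_and]
    generalize (2 * d + m - 2 * (2 * d % e)) / e = X at hX ⊢
    generalize hN : 2 * d / e = N at hn hle hX ⊢
    generalize hM : m / e = M at hmdiv hle hX ⊢
    generalize hk' : 2 * d % e = k at hn hX ⊢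
    generalize hl' : m % e = l at hmdiv hcm hX ⊢
    clear hsum
    omega
  · have hne := Nat.not_even_iff_odd.2 hodd
    simp only [hodd, hne, false_implies, not_true_eq_false, not_false_eq_true, and_false, false_and, false_or, or_false,
      true_and, and_true]
    omega

end Cfsg.Agent.S5990
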