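import Cfsg.Statements.S5991
import Cfsg.Agent.Lib.Elusive.OrthogonalNdOdd
import Cfsg.Agent.Lib.Elusive.OrthogonalNdTwo
import Cfsg.Agent.Lib.Elusive.OrthogonalNdSiegel
import Cfsg.Agent.Lib.Elusive.OrthogonalNdJordan

set_option autoImplicit false
open scoped MatrixGroups
open Cfsg

namespace Cfsg.Agent.S5991

/-- Elements of prime order of PΩ⁻_n(q), q odd, with no fixed nondegenerate `m`-space of odd dimension. Here `T = PΩ⁻_n(F)`, `n = 2d ≥ 8`, realised through `Ω⁻_n(q)`, the commutator subgroup of the isometry group of `Q = Σ_{i<d−1} xᵢyᵢ + z₁² + a z₁z₂ + b z₂²` with `z₁² + a z₁z₂ + b z₂²` anisotropic, over the field `F` with `q` elements; an element of `T` of prime order `r` is an element `x` of `Ω⁻_n(q)` with `x^r` scalar and `x` not scalar; `q` and `m` are odd, `1 ≤ m < n/2`. The nondegenerate `m`-spaces fall into two isometry classes, each an orbit of `T`, with equivalent actions;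 fix one such space `W₀` and let Ω be the set of nondegenerate `m`-spaces isometric to `W₀`. Let `r` be a prime dividing the size of Ω; for `r ≠ p` let `i` be the multiplicative order of `q` modulo `r`, `c = i` for `i` even and `c = 2i` for `i` odd, and write `k = n mod c`, `ℓ = m mod i`, `ℓ' = m mod c`, `n' = ⌊n/i⌋`, `m' = ⌊m/i⌋`, `t = (r−1)/i`. Then every element of `T` of order `r` fixes a member of Ω if and only if one of: (i) `r = 2` and (`n ≡ 0 (mod 4)` or `q ≢ 7 (mod 8)`); (ii) `r ≠ p` odd, `i` odd, and `k = 0` or (`c ≤ m` and `k > ℓ' > 0`); (iii) `r ≠ p` odd, `i` even, and either `k = 0` and `n/i` even, or `k > 0`, `i ≤ m` and `k > ℓ' > 0`. (For `r = p` there is always an element of order `p` fixing no member of Ω.) -/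
theorem result {F : Type*} [Field F] [Fintype F] {p : ℕ} [Fact p.Prime] [CharP F p] {q : ℕ} (hq : Fintype.card F = q)
    (hodd : Odd q) (d m : ℕ) (hd : 4 ≤ d) (hm : Odd m) (hmd : m < d) (a b : F) (hab : ∀ x y : F, x ^ 2 + a * x * y + b * y ^ 2 = 0 → x = 0 ∧ y = 0)
    (W₀ : Submodule F ((Fin (d - 1) ⊕ Fin (d - 1)) ⊕ Fin 2 → F)) (hW₀ : Module.finrank F ↥W₀ = m ∧ Cfsg.Geo.IsNondegenerateOn (QuadraticMap.polar (Cfsg.quadFormMinus (d - 1) F a b)) W₀)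
    (r : ℕ) [Fact r.Prime]
    (hrΩ : r ∣ Nat.card {W : Submodule F ((Fin (d - 1) ⊕ Fin (d - 1)) ⊕ Fin 2 → F) // Module.finrank F ↥W = m ∧ Cfsg.Geo.IsNondegenerateOn (QuadraticMap.polar (Cfsg.quadFormMinus (d - 1) F a b)) W ∧ Cfsg.Geo.AreIsometricFor (Cfsg.quadFormMinus (d - 1) F a b) W W₀})
    (i c : ℕ) (hi : i = orderOf (q : ZMod r)) (hc : c = if Even i then i else 2 * i) :
    (∀ x : GL ((Fin (d - 1) ⊕ Fin (d - 1)) ⊕ Fin 2) F, x ∈ Cfsg.Geo.omegaGL (Cfsg.quadFormMinus (d - 1) F a b) →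
      (∃ z : F, ((x ^ r : GL ((Fin (d - 1) ⊕ Fin (d - 1)) ⊕ Fin 2) F) : Matrix ((Fin (d - 1) ⊕ Fin (d - 1)) ⊕ Fin 2) ((Fin (d - 1) ⊕ Fin (d - 1)) ⊕ Fin 2) F) = z • (1 : Matrix ((Fin (d - 1) ⊕ Fin (d - 1)) ⊕ Fin 2) ((Fin (d - 1) ⊕ Fin (d - 1)) ⊕ Fin 2) F)) →
      (∀ z : F, (x : Matrix ((Fin (d - 1) ⊕ Fin (d - 1)) ⊕ Fin 2) ((Fin (d - 1) ⊕ Fin (d - 1)) ⊕ Fin 2) F) ≠ z • (1 : Matrix ((Fin (d - 1) ⊕ Fin (d - 1)) ⊕ Fin 2) ((Fin (d - 1) ⊕ Fin (d - 1)) ⊕ Fin 2) F)) →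
      ∃ W : Submodule F ((Fin (d - 1) ⊕ Fin (d - 1)) ⊕ Fin 2 → F), (Module.finrank F ↥W = m ∧ Cfsg.Geo.IsNondegenerateOn (QuadraticMap.polar (Cfsg.quadFormMinus (d - 1) F a b)) W ∧ Cfsg.Geo.AreIsometricFor (Cfsg.quadFormMinus (d - 1) F a b) W W₀) ∧ W.map (Matrix.toLin' (x : Matrix ((Fin (d - 1) ⊕ Fin (d - 1)) ⊕ Fin 2) ((Fin (d - 1) ⊕ Fin (d - 1)) ⊕ Fin 2) F)) ≤ W) ↔
    ((r = 2 ∧ (Even d ∨ q % 8 ≠ 7)) ∨
     (r ≠ p ∧ 2 < r ∧ Odd i ∧ ((2 * d) % c = 0 ∨ (c ≤ m ∧ 0 < m % c ∧ m % c < (2 * d) % c))) ∨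
     (r ≠ p ∧ 2 < r ∧ Even i ∧ (((2 * d) % c = 0 ∧ Even ((2 * d) / i)) ∨ (0 < (2 * d) % c ∧ i ≤ m ∧ 0 < m % c ∧ m % c < (2 * d) % c)))) := by
  classical
  subst hq hi
  have hrpr := (Fact.out : r.Prime)
  have hppr := (Fact.out : p.Prime)
  obtain ⟨Q, hQc, hQ⟩ := Cfsg.Agent.OrthForms.exists_qMinus (d - 1) a b hab
  have hι : Fintype.card ((Fin (d - 1) ⊕ Fin (d - 1)) ⊕ Fin 2) = 2 * d := by simp; omega
  have hH : ¬ Cfsg.Agent.Elusive.OrthType.Half Q ⊤ := fun h => by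
    obtain ⟨W, -, hW, hWd⟩ := Cfsg.Agent.Elusive.OrthType.half_iff.1 h
    refine Cfsg.Agent.OrthClasses.minus_no_half (d - 1) a b hab ⟨W, ?_, fun w hw => (congrFun hQc w).symm.trans (hW w hw)⟩
    rw [hWd, finrank_top, Module.finrank_pi, hι]
    omega
  obtain ⟨hW₀d, hW₀n⟩ := hW₀
  rw [← hQc, Cfsg.Agent.Elusive.OrthNd.ndOn_iff] at hW₀n
  have hp2 : p ≠ 2 := fun h => by
    have := (FiniteField.even_card_iff_char_two (F := F)).1 ((ringChar.eq F p).trans h)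
    rw [Nat.odd_iff] at hodd
    omega
  have h20 : (2 : F) ≠ 0 := Ring.two_ne_zero (by rwa [ringChar.eq F p])
  have hk : ∀ W : Submodule F ((Fin (d - 1) ⊕ Fin (d - 1)) ⊕ Fin 2 → F),
      (Module.finrank F W = m ∧ Cfsg.Geo.IsNondegenerateOn (QuadraticMap.polar (Cfsg.quadFormMinus (d - 1) F a b)) W ∧
        Cfsg.Geo.AreIsometricFor (Cfsg.quadFormMinus (d - 1) F a b) W W₀) ↔ Cfsg.Agent.Elusive.OrthNd.Iso Q W W₀ := fun W => by
    rw [← hQc, Cfsg.Agent.Elusive.OrthNd.ndOn_iff, Cfsg.Agent.Elusive.OrthNd.iso_iff]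
    exact ⟨fun h => h.2.2, fun h => ⟨h.finrank_eq'.trans hW₀d, h.ndOn hW₀n, h⟩⟩
  simp only [hk] at hrΩ ⊢
  rw [← hQc]
  by_cases hrp : r = p
  · subst hrp
    refine iff_of_false (fun hall => ?_) (by simp only [ne_eq, not_true_eq_false, false_and, or_false, hp2, not_false_eq_true])
    rcases Nat.even_or_odd d with hde | hdo
    · obtain ⟨x, hx, hxp, hxn, hbad⟩ := Cfsg.Agent.Elusive.OrthNd.siegel_bad (p := r) hp2 hQ hι (by omega) hde hm hmd
        hW₀n hW₀d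
      obtain ⟨W, hW, hWT⟩ := hall x hx ⟨1, hxp⟩ hxn
      exact hbad W hWT hW
    · refine Cfsg.Agent.Elusive.OrthNd.jordan_bad hp2 ⟨hQ, by omega⟩ hd hdo hm (fun μ hμ hev hod hsum => ?_)
        (C := fun W => Cfsg.Agent.Elusive.OrthNd.Iso Q W W₀)
        (fun W hW => ⟨hW.finrank_eq'.trans hW₀d, Cfsg.Agent.Elusive.OrthNd.ndOn_iff.2 (hW.ndOn hW₀n)⟩) hall
      obtain ⟨-, l, hl, L, hL⟩ := Cfsg.Agent.JordanOrth.exists_even_model h20 (by omega) hμ hev hod hsum a b hab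
      exact ⟨l, hl, L, fun v => (congrFun hQc _).trans (hL v)⟩
  have hrp' : r ≠ p := hrp
  by_cases hr2 : r = 2
  · subst hr2
    have hmod := Cfsg.Agent.Elusive.OrthEvenSquares.card_mod_two (F := F) hp2
    rw [Cfsg.Agent.Elusive.OrthNd.two_odd_iff h20 hQ (by omega) hι hm hmd hW₀n hW₀d,
      FiniteField.isSquare_neg_one_iff, Cfsg.Agent.Elusive.OrthEvenSquares.two_pow_iff h20]
    simp only [hH, Nat.even_iff, Nat.odd_iff, true_iff, false_iff, ne_eq, true_and, lt_irrefl, false_and,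
      and_false, or_false]
    omega
  have hr3 : 2 < r := lt_of_le_of_ne hrpr.two_le (Ne.symm hr2)
  rw [Cfsg.Agent.Elusive.OrthNd.odd_iff_cond (p := p) (c := c) h20 hQ (by omega) hι hm (by omega) hW₀n hW₀d
    hr2 hrp hc hrΩ]
  set e := orderOf (Fintype.card F : ZMod r) with he
  simp only [hH, hr2, hr3, hrp', Cfsg.Agent.Elusive.OrthNd.Plus, ne_eq, not_false_eq_true, false_and, false_or,
    true_and, false_iff, true_iff, not_not]
  rcases Nat.even_or_odd e with hev | hoe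
  · rw [if_pos hev] at hc
    subst hc
    have hne := Nat.not_odd_iff_even.2 hev
    simp only [hev, hne, Nat.even_iff, Nat.odd_iff, forall_const, false_and, false_or, true_and]
    omega
  · have hne := Nat.not_even_iff_odd.2 hoe
    simp only [hoe, hne, false_implies, not_true_eq_false, and_false, false_and, false_or, or_false, true_and, and_true]

end Cfsg.Agent.S5991
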