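import Cfsg.Statements.S5993
import Cfsg.Agent.Lib.OrthClasses.ElusiveSpecial
-- import your own Cfsg.Agent.* helpers here

set_option autoImplicit false
open scoped MatrixGroups
open Cfsg

namespace Cfsg.Agent.S5993

open Cfsg.Agent Cfsg.Agent.OrthClasses

/-- Elements of prime order of Ω_n(q), nq odd, with no fixed elliptic `m`-space. Here `T = Ω_n(F)`, `n = 2d+1 ≥ 7`, `q` odd, realised as the commutator subgroup of the isometry group of `Q = x₀² + Σ xᵢyᵢ` over the field `F` with `q` elements (trivial centre, so its elements of prime order `r` are used directly); a nondegenerate `m`-space (even `m`) is a subspace on which the polar form of `Q` is nondegenerate; it is hyperbolic if it contains an `m/2`-dimensional subspace on which `Q` vanishes, elliptic otherwise. Let `m` be even with `2 ≤ m ≤ n − 1` (no restriction `m < n/2`) and let `r` be a prime dividing the number of elliptic `m`-spaces; for `r ≠ p` let `i` be the multiplicative order of `q` modulo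 `r`, `c = i` for `i` even and `c = 2i` for `i` odd, and write `k = n mod c`, `ℓ' = m mod c`. Then every element of `T` of order `r` fixes some elliptic `m`-space if and only if `r = 2`, or `r ≠ p` is odd and one of: (i) `i` odd, `c ≤ m` and `k > ℓ' > 0`; (ii) `i` even, `i ≤ m`, `k > ℓ'`, and `m/i` odd whenever `ℓ' = 0`. (For `r = p` there is always an element of order `p` fixing no elliptic `m`-space.) -/
theorem result {F : Type*} [Field F] [Fintype F] {p : ℕ} [Fact p.Prime] [CharP F p] {q : ℕ} (hq : Fintype.card F = q) (hqodd : Odd q)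
    (d m : ℕ) (hd : 3 ≤ d) (hm : 2 ≤ m) (hme : Even m) (hmn : m ≤ 2 * d)
    (r : ℕ) [Fact r.Prime]
    (hrΩ : r ∣ Nat.card {W : Submodule F (Unit ⊕ (Fin d ⊕ Fin d) → F) // Module.finrank F ↥W = m ∧ Cfsg.Geo.IsNondegenerateOn (QuadraticMap.polar (Cfsg.quadFormOdd d F)) W ∧ ¬ Cfsg.Geo.IsPlusTypeOn (Cfsg.quadFormOdd d F) W})
    (i c : ℕ) (hi : i = orderOf (q : ZMod r)) (hc : c = if Even i then i else 2 * i) :
    (∀ x : GL (Unit ⊕ (Fin d ⊕ Fin d)) F, x ∈ Cfsg.Geo.omegaGL (Cfsg.quadFormOdd d F) → orderOf x = r →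
      ∃ W : Submodule F (Unit ⊕ (Fin d ⊕ Fin d) → F), (Module.finrank F ↥W = m ∧ Cfsg.Geo.IsNondegenerateOn (QuadraticMap.polar (Cfsg.quadFormOdd d F)) W ∧ ¬ Cfsg.Geo.IsPlusTypeOn (Cfsg.quadFormOdd d F) W) ∧ W.map (Matrix.toLin' (x : Matrix (Unit ⊕ (Fin d ⊕ Fin d)) (Unit ⊕ (Fin d ⊕ Fin d)) F)) ≤ W) ↔
    (r = 2 ∨
     (r ≠ p ∧ 2 < r ∧ Odd i ∧ c ≤ m ∧ 0 < m % c ∧ m % c < (2 * d + 1) % c) ∨
     (r ≠ p ∧ 2 < r ∧ Even i ∧ i ≤ m ∧ m % c < (2 * d + 1) % c ∧ (0 < m % c ∨ Odd (m / i)))) := by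
  classical
  subst hq
  have hF : Fintype.card F = Fintype.card F := rfl
  have hr : r.Prime := Fact.out
  have h2 := two_ne_zero_of_odd_card hqodd
  obtain ⟨h, rfl⟩ : ∃ h, m = 2 * h := ⟨m / 2, by rw [Nat.even_iff] at hme; omega⟩
  have hkind : ∀ W : Submodule F (Unit ⊕ (Fin d ⊕ Fin d) → F),
      (Module.finrank F ↥W = 2 * h ∧ Cfsg.Geo.IsNondegenerateOn (QuadraticMap.polar (Cfsg.quadFormOdd d F)) W ∧
        ¬ Cfsg.Geo.IsPlusTypeOn (Cfsg.quadFormOdd d F) W) ↔ Kind ⇑(FormsLib.qOdd d F) h False W := fun W => by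
    simp [Kind, FormsLib.coe_qOdd]
  simp only [hkind] at hrΩ ⊢
  rw [show Cfsg.quadFormOdd d F = ⇑(FormsLib.qOdd d F) from FormsLib.coe_qOdd.symm]
  by_cases hr2 : r = 2
  · subst hr2
    exact iff_of_true (fun x hx hxo => elusive_two h2 hd (by omega) (by omega) _ x hx hxo) (Or.inl rfl)
  have hr3 : 2 < r := lt_of_le_of_ne hr.two_le (Ne.symm hr2)
  by_cases hrp : r = p
  · subst hrp
    exact iff_of_false (elusive_p_minus h2 hd) (by simp [hr2])
  rw [elusive_odd_iff hF h2 hr hr2 hrp hi hc hd (by omega) (by omega) hrΩ]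
  rcases Nat.even_or_odd i with he | ho
  · rw [if_pos he] at hc
    subst hc
    have hno : ¬ Odd c := Nat.not_odd_iff_even.2 he
    simp only [hr2, hr3, hrp, ne_eq, not_false_iff, he, hno, false_or, true_and, false_and, false_iff,
      Nat.not_even_iff_odd]
    constructor
    · rintro ⟨h1, h3, h4⟩
      exact ⟨h1, h3, (Nat.eq_zero_or_pos _).symm.imp_right h4⟩
    · rintro ⟨h1, h3, h4⟩
      exact ⟨h1, h3, fun e => h4.resolve_left (by omega)⟩
  · have hne : ¬ Even i := Nat.not_even_iff_odd.2 ho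
    rw [if_neg hne] at hc
    simp only [hr2, hr3, hrp, ne_eq, not_false_iff, ho, hne, false_or, true_and, false_and, or_false, true_or,
      false_iff, not_true_eq_false, imp_false, Nat.pos_iff_ne_zero]
    tauto

end Cfsg.Agent.S5993
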