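import Cfsg.Agent.Lib.TransvMax.JordanRows

set_option autoImplicit false
open scoped MatrixGroups
open Cfsg

namespace Cfsg.Agent.S5994

open Cfsg.Agent Cfsg.Agent.JordanOrth

/-- A necessary condition for every element of order p of PΩ⁻_n(q), q odd, to fix an elliptic `m`-space. Here `T = PΩ⁻_n(F)`, `n = 2d ≥ 8`, realised through `Ω⁻_n(q)`, the commutator subgroup of the isometry group of `Q = Σ_{i<d−1} xᵢyᵢ + z₁² + a z₁z₂ + b z₂²` with `z₁² + a z₁z₂ + b z₂²` anisotropic, over the field `F` with `q` elements; an element of `T` of prime order `r` is an element `x` of `Ω⁻_n(q)` with `x^r` scalar and `x` not scalar; `q` is odd; a nondegenerate `m`-space (even `m`) is a subspace on which the polar form of `Q` is nondegenerate; it is hyperbolic if it contains an `m/2`-dimensional subspace on which `Q` vanishes, elliptic otherwise. Let `m` be even with `2 ≤ m ≤ n − 2` and suppose `p` divides the number of elliptic `m`-spaces.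 If every element of `T` of order `p` fixes some elliptic `m`-space, then `n ≡ m (mod 4)` and every partition of `n` into parts of size at most `p` in which every even part has even multiplicity contains (as a sub-multiset) a partition of `m` in which every even part has even multiplicity. -/
theorem result {F : Type*} [Field F] [Fintype F] {p : ℕ} [Fact p.Prime] [CharP F p] {q : ℕ} (hq : Fintype.card F = q) (hqodd : Odd q)
    (d m : ℕ) (hd : 4 ≤ d) (hm : 2 ≤ m) (hme : Even m) (hmn : m + 2 ≤ 2 * d) (a b : F) (hab : ∀ x y : F, x ^ 2 + a * x * y + b * y ^ 2 = 0 → x = 0 ∧ y = 0)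
    (hpΩ : p ∣ Nat.card {W : Submodule F ((Fin (d - 1) ⊕ Fin (d - 1)) ⊕ Fin 2 → F) // Module.finrank F ↥W = m ∧ Cfsg.Geo.IsNondegenerateOn (QuadraticMap.polar (Cfsg.quadFormMinus (d - 1) F a b)) W ∧ ¬ Cfsg.Geo.IsPlusTypeOn (Cfsg.quadFormMinus (d - 1) F a b) W}) :
    (∀ x : GL ((Fin (d - 1) ⊕ Fin (d - 1)) ⊕ Fin 2) F, x ∈ Cfsg.Geo.omegaGL (Cfsg.quadFormMinus (d - 1) F a b) →
      (∃ z : F, ((x ^ p : GL ((Fin (d - 1) ⊕ Fin (d - 1)) ⊕ Fin 2) F) : Matrix ((Fin (d - 1) ⊕ Fin (d - 1)) ⊕ Fin 2) ((Fin (d - 1) ⊕ Fin (d - 1)) ⊕ Fin 2) F) = z • (1 : Matrix ((Fin (d - 1) ⊕ Fin (d - 1)) ⊕ Fin 2) ((Fin (d - 1) ⊕ Fin (d - 1)) ⊕ Fin 2) F)) →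
      (∀ z : F, (x : Matrix ((Fin (d - 1) ⊕ Fin (d - 1)) ⊕ Fin 2) ((Fin (d - 1) ⊕ Fin (d - 1)) ⊕ Fin 2) F) ≠ z • (1 : Matrix ((Fin (d - 1) ⊕ Fin (d - 1)) ⊕ Fin 2) ((Fin (d - 1) ⊕ Fin (d - 1)) ⊕ Fin 2) F)) →
      ∃ W : Submodule F ((Fin (d - 1) ⊕ Fin (d - 1)) ⊕ Fin 2 → F), (Module.finrank F ↥W = m ∧ Cfsg.Geo.IsNondegenerateOn (QuadraticMap.polar (Cfsg.quadFormMinus (d - 1) F a b)) W ∧ ¬ Cfsg.Geo.IsPlusTypeOn (Cfsg.quadFormMinus (d - 1) F a b) W) ∧ W.map (Matrix.toLin' (x : Matrix ((Fin (d - 1) ⊕ Fin (d - 1)) ⊕ Fin 2) ((Fin (d - 1) ⊕ Fin (d - 1)) ⊕ Fin 2) F)) ≤ W) →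
    ((2 * d) % 4 = m % 4 ∧ (∀ μ : Multiset ℕ, (∀ e ∈ μ, 0 < e ∧ e ≤ p) → (∀ e : ℕ, Even e → Even (μ.count e)) → μ.sum = 2 * d →
        ∃ ν : Multiset ℕ, ν ≤ μ ∧ ν.sum = m ∧ ∀ e : ℕ, Even e → Even (ν.count e))) := by
  classical
  intro hall
  have hp : p.Prime := Fact.out
  have h2 : (2 : F) ≠ 0 := Ring.two_ne_zero fun h => by
    haveI := ringChar.charP F
    have h2q := (FiniteField.even_card_iff_char_two).1 h
    subst hq
    rw [Nat.odd_iff] at hqodd
    omega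
  have hp2 : p ≠ 2 := fun e => h2 (by subst e; exact_mod_cast CharP.cast_eq_zero F 2)
  have hp3 : 3 ≤ p := by have := hp.two_le; omega
  have hpo : Odd p := hp.odd_of_ne_two hp2
  subst hq
  obtain ⟨k, rfl⟩ : ∃ k, d = k + 1 := ⟨d - 1, by omega⟩
  obtain ⟨Q, hQ, hnd⟩ := OrthForms.exists_qMinus (F := F) (k + 1 - 1) a b hab
  have S : QMax.QSetting Q := ⟨hnd, by simp [Fintype.card_sum]; omega⟩
  let C : Submodule F ((Fin (k + 1 - 1) ⊕ Fin (k + 1 - 1)) ⊕ Fin 2 → F) → Prop := fun W =>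
    Module.finrank F ↥W = m ∧
    Cfsg.Geo.IsNondegenerateOn (QuadraticMap.polar ⇑Q) W ∧ ¬ Cfsg.Geo.IsPlusTypeOn ⇑Q W
  have hallP : AllFixP p ⇑Q C := by
    intro x hx hxp _ hxn
    obtain ⟨W, hW, hWm⟩ := hall x (hQ ▸ hx) ⟨1, by rw [hxp, Units.val_one, one_smul]⟩ hxn
    exact ⟨W, by simp only [C, hQ]; exact hW, hWm⟩
  have fromElem : ∀ μ : Multiset ℕ, (∀ e ∈ μ, 0 < e ∧ e ≤ p) → (∀ e : ℕ, Even e → Even (μ.count e)) →
      μ.sum = 2 * (k + 1) → (∃ e ∈ μ, Odd e) → (∃ e ∈ μ, 2 ≤ e) →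
      ∃ W ν, C W ∧ ν ≤ μ ∧ ν.sum = m ∧ (∀ e : ℕ, Even e → Even (ν.count e)) ∧
        ((∀ e ∈ ν, e = 2) → Cfsg.Geo.IsPlusTypeOn ⇑Q W) := by
    intro μ hμ hev hsum hodd h1
    obtain ⟨l, hl, L, a', hL⟩ : ∃ l, BlockConst l ∧ ∃ (L : (Idx p μ → F) ≃ₗ[F] ((Fin (k + 1 - 1) ⊕ Fin (k + 1 - 1)) ⊕ Fin 2 → F)) (a' : F),
        ∀ v, Q (L v) = a' * model l v := by
      obtain ⟨-, l, hl, L, hL⟩ := exists_even_model h2 (d := k + 1) (by omega) (fun e he => (hμ e he).2) hev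
        hodd hsum a b hab
      exact ⟨l, hl, L, 1, fun v => by rw [hQ, hL, one_mul]⟩
    exact split_of_allFix hp2 S C (fun W hW => ⟨hW.1, hW.2.1⟩) hallP hμ h1 hl L (polar_of_equiv hl hev L hL)
  have full : ∀ μ : Multiset ℕ, (∀ e ∈ μ, 0 < e ∧ e ≤ p) → (∀ e : ℕ, Even e → Even (μ.count e)) →
      μ.sum = 2 * (k + 1) → Subpart m μ := by
    intro μ hμ hev hsum
    refine subpart_of_odd (p := p) hme (by omega) hpo (fun μ hμ hev hsum hodd => ?_) hμ hev hsum
    by_cases h1 : ∃ e ∈ μ, 2 ≤ e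
    · obtain ⟨W, ν, -, hν, hs, he, -⟩ := fromElem μ hμ hev hsum hodd h1
      exact ⟨ν, hν, hs, he⟩
    · push Not at h1
      exact subpart_ones (fun e he => by have := (hμ e he).1; have := h1 e he; omega) (by omega)
  refine ⟨?_, full⟩
  obtain ⟨w, hw⟩ := hme
  rcases Nat.even_or_odd (k + 1) with hd2 | hd2
  · obtain ⟨j, hj⟩ := hd2
    obtain ⟨ν, hν, hs, he⟩ := full (Multiset.replicate (k + 1) 2) (by
        intro e he
        rw [Multiset.eq_of_mem_replicate he]; omega)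
      (fun e he => by
        rw [Multiset.count_replicate]
        split
        · exact ⟨j, hj⟩
        · exact ⟨0, rfl⟩)
      (by simp; omega)
    have hmem : ∀ e ∈ ν, e = 2 := fun e hm => Multiset.eq_of_mem_replicate (Multiset.mem_of_le hν hm)
    obtain ⟨u, hu⟩ := he 2 ⟨1, rfl⟩
    rw [sum_small fun e hm => Or.inr (Or.inl (hmem e hm)), hu,
      Multiset.count_eq_zero.2 (fun h => absurd (hmem 1 h) (by omega)),
      Multiset.count_eq_zero.2 (fun h => absurd (hmem 3 h) (by omega))] at hs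
    omega
  · obtain ⟨j, hj⟩ := hd2
    have hev : ∀ e : ℕ, Even e → Even ((Multiset.replicate k 2 + Multiset.replicate 2 1).count e) := by
      intro e he
      rw [Multiset.count_add, Multiset.count_replicate, Multiset.count_replicate,
        if_neg (show ¬ 1 = e by rintro rfl; exact Nat.not_even_one he), add_zero]
      split
      · exact ⟨j, by omega⟩
      · exact ⟨0, rfl⟩
    obtain ⟨W, ν, ⟨-, -, hWt⟩, hν, hs, he, hpl⟩ := fromElem (Multiset.replicate k 2 + Multiset.replicate 2 1) (by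
        intro e he
        rcases Multiset.mem_add.1 he with he | he <;> rw [Multiset.eq_of_mem_replicate he] <;> omega)
      hev (by simp; omega) ⟨1, by simp, odd_one⟩ ⟨2, Multiset.mem_add.2 (Or.inl (Multiset.mem_replicate.2 ⟨by omega, rfl⟩)), le_rfl⟩
    have hmem : ∀ e ∈ ν, e = 1 ∨ e = 2 ∨ e = 3 := fun e hm => by
      rcases Multiset.mem_add.1 (Multiset.mem_of_le hν hm) with h | h <;>
        rw [Multiset.eq_of_mem_replicate h] <;> omega
    have h1 := Multiset.le_iff_count.1 hν 1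
    have h3 := Multiset.le_iff_count.1 hν 3
    rw [Multiset.count_add, Multiset.count_replicate, Multiset.count_replicate, if_neg (by omega),
      zero_add] at h1 h3
    rw [if_pos rfl] at h1
    rw [if_neg (by omega), Nat.le_zero] at h3
    obtain ⟨u, hu⟩ := he 2 ⟨1, rfl⟩
    have hc : ν.count 1 ≠ 0 := fun h0 => hWt (hpl fun e hm => by
      have := Multiset.count_pos.2 hm
      rcases hmem e hm with rfl | rfl | rfl
      · omega
      · rfl
      · omega)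
    rw [sum_small hmem, hu, h3] at hs
    omega

end Cfsg.Agent.S5994
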