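import Cfsg.Agent.Lib.TransvMax.JordanRows

set_option autoImplicit false
open scoped MatrixGroups
open Cfsg

namespace Cfsg.Agent.S5995

open Cfsg.Agent Cfsg.Agent.JordanOrth

/-- A necessary condition for every element of order p of Ω_n(q), nq odd, to fix a hyperbolic `m`-space. Here `T = Ω_n(F)`, `n = 2d+1 ≥ 7`, `q` odd, realised as the commutator subgroup of the isometry group of `Q = x₀² + Σ xᵢyᵢ` over the field `F` with `q` elements (trivial centre, so its elements of prime order `r` are used directly); a nondegenerate `m`-space (even `m`) is a subspace on which the polar form of `Q` is nondegenerate; it is hyperbolic if it contains an `m/2`-dimensional subspace on which `Q` vanishes, elliptic otherwise. Let `m` be even with `2 ≤ m ≤ n − 1` and suppose `p` divides the number of hyperbolic `m`-spaces. If every element of `T` of order `p` fixes some hyperbolic `m`-space, then `m ≡ 0 (mod 4)` and every partition of `n` into parts of size at most `p` in which every even part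 has even multiplicity contains (as a sub-multiset) a partition of `m` in which every even part has even multiplicity. -/
theorem result {F : Type*} [Field F] [Fintype F] {p : ℕ} [Fact p.Prime] [CharP F p] {q : ℕ} (hq : Fintype.card F = q) (hqodd : Odd q)
    (d m : ℕ) (hd : 3 ≤ d) (hm : 2 ≤ m) (hme : Even m) (hmn : m ≤ 2 * d)
    (hpΩ : p ∣ Nat.card {W : Submodule F (Unit ⊕ (Fin d ⊕ Fin d) → F) // Module.finrank F ↥W = m ∧ Cfsg.Geo.IsNondegenerateOn (QuadraticMap.polar (Cfsg.quadFormOdd d F)) W ∧ Cfsg.Geo.IsPlusTypeOn (Cfsg.quadFormOdd d F) W}) :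
    (∀ x : GL (Unit ⊕ (Fin d ⊕ Fin d)) F, x ∈ Cfsg.Geo.omegaGL (Cfsg.quadFormOdd d F) → orderOf x = p →
      ∃ W : Submodule F (Unit ⊕ (Fin d ⊕ Fin d) → F), (Module.finrank F ↥W = m ∧ Cfsg.Geo.IsNondegenerateOn (QuadraticMap.polar (Cfsg.quadFormOdd d F)) W ∧ Cfsg.Geo.IsPlusTypeOn (Cfsg.quadFormOdd d F) W) ∧ W.map (Matrix.toLin' (x : Matrix (Unit ⊕ (Fin d ⊕ Fin d)) (Unit ⊕ (Fin d ⊕ Fin d)) F)) ≤ W) →
    (m % 4 = 0 ∧ (∀ μ : Multiset ℕ, (∀ e ∈ μ, 0 < e ∧ e ≤ p) → (∀ e : ℕ, Even e → Even (μ.count e)) → μ.sum = 2 * d + 1 →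
        ∃ ν : Multiset ℕ, ν ≤ μ ∧ ν.sum = m ∧ ∀ e : ℕ, Even e → Even (ν.count e))) := by
  classical
  intro hall
  have hp : p.Prime := Fact.out
  have h2 : (2 : F) ≠ 0 := Ring.two_ne_zero fun h => by
    haveI := ringChar.charP F
    have h2q := (FiniteField.even_card_iff_char_two).1 h
    subst hq
    rw [Nat.odd_iff] at hqodd
    omega
  have hp2 : p ≠ 2 := fun e => h2 (by subst e; exact_mod_cast CharP.cast_eq_zero F 2)
  have hp3 : 3 ≤ p := by have := hp.two_le; omega
  have hpo : Odd p := hp.odd_of_ne_two hp2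
  subst hq
  set Q := FormsLib.qOdd d F
  have hQ : ⇑Q = Cfsg.quadFormOdd d F := FormsLib.coe_qOdd
  have S : QMax.QSetting Q := ⟨FormsLib.qOdd_nondeg h2, by simp [Fintype.card_sum]; omega⟩
  let C : Submodule F (Unit ⊕ (Fin d ⊕ Fin d) → F) → Prop := fun W => Module.finrank F ↥W = m ∧
    Cfsg.Geo.IsNondegenerateOn (QuadraticMap.polar ⇑Q) W ∧ Cfsg.Geo.IsPlusTypeOn ⇑Q W
  have hallP : AllFixP p ⇑Q C := by
    intro x hx _ hxo _
    obtain ⟨W, hW, hWm⟩ := hall x (hQ ▸ hx) hxo
    exact ⟨W, by simp only [C, hQ]; exact hW, hWm⟩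
  have fromElem : ∀ μ : Multiset ℕ, (∀ e ∈ μ, 0 < e ∧ e ≤ p) → (∀ e : ℕ, Even e → Even (μ.count e)) →
      μ.sum = 2 * d + 1 → (∃ e ∈ μ, Odd e) → (∃ e ∈ μ, 2 ≤ e) →
      ∃ W ν, C W ∧ ν ≤ μ ∧ ν.sum = m ∧ (∀ e : ℕ, Even e → Even (ν.count e)) ∧
        ((∀ e ∈ ν, e = 2) → Cfsg.Geo.IsPlusTypeOn ⇑Q W) := by
    intro μ hμ hev hsum hodd h1
    obtain ⟨l, hl, L, a', hL⟩ : ∃ l, BlockConst l ∧ ∃ (L : (Idx p μ → F) ≃ₗ[F] (Unit ⊕ (Fin d ⊕ Fin d) → F)) (a' : F),
        ∀ v, Q (L v) = a' * model l v := by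
      obtain ⟨l, l', hl, hl', hl0, hl0', -⟩ := exists_pair (F := F) (p := p) (by
        haveI := ringChar.charP F
        exact FiniteField.exists_nonsquare (Spinor.ringChar_ne_two h2)) (fun e he => (hμ e he).2) hodd
      obtain ⟨L, a', -, hL⟩ := equiv_odd h2 (d := d) (by
        rw [Module.finrank_fintype_fun_eq_card, card_idx fun e he => (hμ e he).2, hsum])
        (model l) (model_nondeg h2 hl hl0 hev)
      exact ⟨l, hl, L, a', hL⟩
    exact split_of_allFix hp2 S C (fun W hW => ⟨hW.1, hW.2.1⟩) hallP hμ h1 hl L (polar_of_equiv hl hev L hL)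
  have full : ∀ μ : Multiset ℕ, (∀ e ∈ μ, 0 < e ∧ e ≤ p) → (∀ e : ℕ, Even e → Even (μ.count e)) →
      μ.sum = 2 * d + 1 → Subpart m μ := by
    intro μ hμ hev hsum
    refine subpart_of_odd (p := p) hme (by omega) hpo (fun μ hμ hev hsum hodd => ?_) hμ hev hsum
    by_cases h1 : ∃ e ∈ μ, 2 ≤ e
    · obtain ⟨W, ν, -, hν, hs, he, -⟩ := fromElem μ hμ hev hsum hodd h1
      exact ⟨ν, hν, hs, he⟩
    · push Not at h1
      exact subpart_ones (fun e he => by have := (hμ e he).1; have := h1 e he; omega) (by omega)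
  refine ⟨?_, full⟩
  obtain ⟨k, hk⟩ := hme
  rcases Nat.even_or_odd d with hd2 | hd2
  · obtain ⟨j, rfl⟩ := hd2
    obtain ⟨ν, hν, hs, he⟩ := full (Multiset.replicate (j + j) 2 + {1}) (by
        intro e he
        rcases Multiset.mem_add.1 he with he | he
        · rw [Multiset.eq_of_mem_replicate he]; omega
        · rw [Multiset.mem_singleton.1 he]; omega)
      (fun e he => by
        rw [Multiset.count_add, Multiset.count_replicate, Multiset.count_singleton,
          if_neg (show ¬ e = 1 by rintro rfl; exact Nat.not_even_one he), add_zero]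
        split
        · exact ⟨j, rfl⟩
        · exact ⟨0, rfl⟩)
      (by simp; omega)
    have hmem : ∀ e ∈ ν, e = 1 ∨ e = 2 ∨ e = 3 := fun e hm => by
      rcases Multiset.mem_add.1 (Multiset.mem_of_le hν hm) with h | h
      · exact Or.inr (Or.inl (Multiset.eq_of_mem_replicate h))
      · rw [Multiset.mem_singleton.1 h]; omega
    have h1 := Multiset.le_iff_count.1 hν 1
    have h3 := Multiset.le_iff_count.1 hν 3
    rw [Multiset.count_add, Multiset.count_replicate, Multiset.count_singleton, if_neg (by omega),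
      zero_add] at h1 h3
    obtain ⟨u, hu⟩ := he 2 ⟨1, rfl⟩
    rw [if_pos rfl] at h1
    rw [if_neg (by omega)] at h3
    rw [sum_small hmem, hu, Nat.le_zero.1 h3] at hs
    omega
  · obtain ⟨j, rfl⟩ := hd2
    obtain ⟨ν, hν, hs, he⟩ := full (Multiset.replicate (2 * j) 2 + {3}) (by
        intro e he
        rcases Multiset.mem_add.1 he with he | he
        · rw [Multiset.eq_of_mem_replicate he]; omega
        · rw [Multiset.mem_singleton.1 he]; omega)
      (fun e he => by
        rw [Multiset.count_add, Multiset.count_replicate, Multiset.count_singleton,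
          if_neg (show ¬ e = 3 by rintro rfl; exact absurd he (by decide)), add_zero]
        split
        · exact ⟨j, by omega⟩
        · exact ⟨0, rfl⟩)
      (by simp; omega)
    have hmem : ∀ e ∈ ν, e = 1 ∨ e = 2 ∨ e = 3 := fun e hm => by
      rcases Multiset.mem_add.1 (Multiset.mem_of_le hν hm) with h | h
      · exact Or.inr (Or.inl (Multiset.eq_of_mem_replicate h))
      · rw [Multiset.mem_singleton.1 h]; omega
    have h1 := Multiset.le_iff_count.1 hν 1
    have h3 := Multiset.le_iff_count.1 hν 3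
    rw [Multiset.count_add, Multiset.count_replicate, Multiset.count_singleton, if_neg (by omega),
      zero_add] at h1 h3
    obtain ⟨u, hu⟩ := he 2 ⟨1, rfl⟩
    rw [if_neg (by omega)] at h1
    rw [if_pos rfl] at h3
    rw [sum_small hmem, hu, Nat.le_zero.1 h1] at hs
    omega

end Cfsg.Agent.S5995
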