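import Cfsg.Agent.Lib.TransvMax.JordanRows

set_option autoImplicit false
open scoped MatrixGroups
open Cfsg

namespace Cfsg.Agent.S5996

open Cfsg.Agent Cfsg.Agent.JordanOrth

/-- A necessary condition for every element of order p of PΩ⁺_n(q), q odd, to fix a hyperbolic `m`-space. Here `T = PΩ⁺_n(F)`, `n = 2d ≥ 8`, realised through `Ω⁺_n(q)`, the commutator subgroup of the isometry group of `Q = Σ xᵢyᵢ` over the field `F` with `q` elements; an element of `T` of prime order `r` is an element `x` of `Ω⁺_n(q)` with `x^r` scalar and `x` not scalar; `q` is odd; a nondegenerate `m`-space (even `m`) is a subspace on which the polar form of `Q` is nondegenerate; it is hyperbolic if it contains an `m/2`-dimensional subspace on which `Q` vanishes, elliptic otherwise. Let `m` be even with `2 ≤ m < n/2` and suppose `p` divides the number of hyperbolic `m`-spaces. If every element of `T` of order `p` fixes some hyperbolic `m`-space, then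 every partition of `n` into parts of size at most `p` in which every even part has even multiplicity contains (as a sub-multiset) a partition of `m` in which every even part has even multiplicity. -/
theorem result {F : Type*} [Field F] [Fintype F] {p : ℕ} [Fact p.Prime] [CharP F p] {q : ℕ} (hq : Fintype.card F = q) (hqodd : Odd q)
    (d m : ℕ) (hd : 4 ≤ d) (hm : 2 ≤ m) (hme : Even m) (hmd : m < d)
    (hpΩ : p ∣ Nat.card {W : Submodule F (Fin d ⊕ Fin d → F) // Module.finrank F ↥W = m ∧ Cfsg.Geo.IsNondegenerateOn (QuadraticMap.polar (Cfsg.quadFormPlus d F)) W ∧ Cfsg.Geo.IsPlusTypeOn (Cfsg.quadFormPlus d F) W}) :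
    (∀ x : GL (Fin d ⊕ Fin d) F, x ∈ Cfsg.Geo.omegaGL (Cfsg.quadFormPlus d F) →
      (∃ z : F, ((x ^ p : GL (Fin d ⊕ Fin d) F) : Matrix (Fin d ⊕ Fin d) (Fin d ⊕ Fin d) F) = z • (1 : Matrix (Fin d ⊕ Fin d) (Fin d ⊕ Fin d) F)) →
      (∀ z : F, (x : Matrix (Fin d ⊕ Fin d) (Fin d ⊕ Fin d) F) ≠ z • (1 : Matrix (Fin d ⊕ Fin d) (Fin d ⊕ Fin d) F)) →
      ∃ W : Submodule F (Fin d ⊕ Fin d → F), (Module.finrank F ↥W = m ∧ Cfsg.Geo.IsNondegenerateOn (QuadraticMap.polar (Cfsg.quadFormPlus d F)) W ∧ Cfsg.Geo.IsPlusTypeOn (Cfsg.quadFormPlus d F) W) ∧ W.map (Matrix.toLin' (x : Matrix (Fin d ⊕ Fin d) (Fin d ⊕ Fin d) F)) ≤ W) →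
    (∀ μ : Multiset ℕ, (∀ e ∈ μ, 0 < e ∧ e ≤ p) → (∀ e : ℕ, Even e → Even (μ.count e)) → μ.sum = 2 * d →
        ∃ ν : Multiset ℕ, ν ≤ μ ∧ ν.sum = m ∧ ∀ e : ℕ, Even e → Even (ν.count e)) := by
  classical
  intro hall
  have hp : p.Prime := Fact.out
  have h2 : (2 : F) ≠ 0 := Ring.two_ne_zero fun h => by
    haveI := ringChar.charP F
    have h2q := (FiniteField.even_card_iff_char_two).1 h
    subst hq
    rw [Nat.odd_iff] at hqodd
    omega
  have hp2 : p ≠ 2 := fun e => h2 (by subst e; exact_mod_cast CharP.cast_eq_zero F 2)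
  have hp3 : 3 ≤ p := by have := hp.two_le; omega
  have hpo : Odd p := hp.odd_of_ne_two hp2
  subst hq
  set Q := OrthOrder.qPlus d F
  have hQ : ⇑Q = Cfsg.quadFormPlus d F := funext (OrthOrder.qPlus_apply d)
  have S : QMax.QSetting Q := ⟨OrthForms.qPlus_nondeg d, by simp [Fintype.card_sum]; omega⟩
  let C : Submodule F (Fin d ⊕ Fin d → F) → Prop := fun W => Module.finrank F ↥W = m ∧
    Cfsg.Geo.IsNondegenerateOn (QuadraticMap.polar ⇑Q) W ∧ Cfsg.Geo.IsPlusTypeOn ⇑Q W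
  have hallP : AllFixP p ⇑Q C := by
    intro x hx hxp _ hxn
    obtain ⟨W, hW, hWm⟩ := hall x (hQ ▸ hx) ⟨1, by rw [hxp, Units.val_one, one_smul]⟩ hxn
    exact ⟨W, by simp only [C, hQ]; exact hW, hWm⟩
  have fromElem : ∀ μ : Multiset ℕ, (∀ e ∈ μ, 0 < e ∧ e ≤ p) → (∀ e : ℕ, Even e → Even (μ.count e)) →
      μ.sum = 2 * d → (∃ e ∈ μ, Odd e) → (∃ e ∈ μ, 2 ≤ e) →
      ∃ W ν, C W ∧ ν ≤ μ ∧ ν.sum = m ∧ (∀ e : ℕ, Even e → Even (ν.count e)) ∧
        ((∀ e ∈ ν, e = 2) → Cfsg.Geo.IsPlusTypeOn ⇑Q W) := by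
    intro μ hμ hev hsum hodd h1
    obtain ⟨l, hl, L, a', hL⟩ : ∃ l, BlockConst l ∧ ∃ (L : (Idx p μ → F) ≃ₗ[F] (Fin d ⊕ Fin d → F)) (a' : F),
        ∀ v, Q (L v) = a' * model l v := by
      obtain ⟨ν₀, hν₀⟩ : ∃ ν₀ : F, ¬ IsSquare ν₀ := by
        haveI := ringChar.charP F
        exact FiniteField.exists_nonsquare (Spinor.ringChar_ne_two h2)
      have hab : ∀ z₁ z₂ : F, z₁ ^ 2 + 0 * z₁ * z₂ + -ν₀ * z₂ ^ 2 = 0 → z₁ = 0 ∧ z₂ = 0 := by
        intro z₁ z₂ h
        by_cases hz : z₂ = 0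
        · subst hz; simpa using h
        · exact absurd ⟨z₁ / z₂, by field_simp; linear_combination -h⟩ hν₀
      obtain ⟨⟨l, hl, L, hL⟩, -⟩ := exists_even_model h2 (d := d) (by omega) (fun e he => (hμ e he).2) hev hodd
        hsum 0 (-ν₀) hab
      exact ⟨l, hl, L, 1, fun v => by rw [hQ, hL, one_mul]⟩
    exact split_of_allFix hp2 S C (fun W hW => ⟨hW.1, hW.2.1⟩) hallP hμ h1 hl L (polar_of_equiv hl hev L hL)
  have full : ∀ μ : Multiset ℕ, (∀ e ∈ μ, 0 < e ∧ e ≤ p) → (∀ e : ℕ, Even e → Even (μ.count e)) →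
      μ.sum = 2 * d → Subpart m μ := by
    intro μ hμ hev hsum
    refine subpart_of_odd (p := p) hme (by omega) hpo (fun μ hμ hev hsum hodd => ?_) hμ hev hsum
    by_cases h1 : ∃ e ∈ μ, 2 ≤ e
    · obtain ⟨W, ν, -, hν, hs, he, -⟩ := fromElem μ hμ hev hsum hodd h1
      exact ⟨ν, hν, hs, he⟩
    · push Not at h1
      exact subpart_ones (fun e he => by have := (hμ e he).1; have := h1 e he; omega) (by omega)
  exact full

end Cfsg.Agent.S5996
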