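import Cfsg.Prelude.Def_GeometricClasses
import Cfsg.Agent.Lib.FormCentral.NormRing
-- import your own Cfsg.Agent.* helpers here

set_option autoImplicit false
open scoped MatrixGroups
open Cfsg

namespace Cfsg.Agent.S5997

open Cfsg.Agent
open scoped Matrix MatrixGroups

variable {F : Type*} [Field F]

/-- Cayley-Hamilton for two by two matrices. -/
theorem sq_eq (X : Matrix (Fin 2) (Fin 2) F) : X * X = X.trace • X - X.det • 1 := by
  ext i j
  fin_cases i <;> fin_cases j <;>
    simp [Matrix.mul_apply, Matrix.trace_fin_two, Matrix.det_fin_two] <;> ring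

/-- A non-scalar two by two matrix is cyclic. -/
theorem exists_cyclic {X : Matrix (Fin 2) (Fin 2) F} (hX : ∀ z : F, X ≠ z • 1) :
    ∃ v : Fin 2 → F, v 0 * (X *ᵥ v) 1 - v 1 * (X *ᵥ v) 0 ≠ 0 := by
  by_contra hc
  push Not at hc
  have h0 := hc ![1, 0]
  have h1 := hc ![0, 1]
  have h2 := hc ![1, 1]
  simp [Matrix.mulVec, dotProduct] at h0 h1 h2
  refine hX (X 0 0) ?_
  ext i j
  fin_cases i <;> fin_cases j <;> simp [h0, h1]
  linear_combination h2 - h0 + h1

/-- Commutant of a non-scalar two by two matrix. -/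
theorem commutant {X Y : Matrix (Fin 2) (Fin 2) F} (hX : ∀ z : F, X ≠ z • 1) (h : Y * X = X * Y) :
    ∃ a b : F, Y = a • 1 + b • X := by
  obtain ⟨v, hv⟩ := exists_cyclic hX
  set w := X *ᵥ v with hw
  set D := v 0 * w 1 - v 1 * w 0
  set a := ((Y *ᵥ v) 0 * w 1 - (Y *ᵥ v) 1 * w 0) / D
  set b := (v 0 * (Y *ᵥ v) 1 - v 1 * (Y *ᵥ v) 0) / D
  refine ⟨a, b, ?_⟩
  have e : Y *ᵥ v = a • v + b • w := by
    funext i
    fin_cases i <;> simp [a, b] <;> field_simp <;> ring
  have e' : Y *ᵥ w = a • w + b • (X *ᵥ w) := by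
    rw [hw, Matrix.mulVec_mulVec, h, ← Matrix.mulVec_mulVec, e, Matrix.mulVec_add, Matrix.mulVec_smul,
      Matrix.mulVec_smul]
  refine Matrix.ext_iff_mulVec.2 fun u => ?_
  have hu : u = ((u 0 * w 1 - u 1 * w 0) / D) • v + ((v 0 * u 1 - v 1 * u 0) / D) • w := by
    funext i
    fin_cases i <;> simp <;> field_simp <;> ring
  rw [hu]
  simp only [Matrix.mulVec_add, Matrix.mulVec_smul, Matrix.add_mulVec, Matrix.smul_mulVec,
    Matrix.one_mulVec, e, e', ← hw]

variable [Fintype F]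

/-- Regular semisimple elements of `SL₂` with equal traces are conjugate in `SL₂`. -/
theorem exists_conj {x y : GL (Fin 2) F}
    (hxd : (x : Matrix (Fin 2) (Fin 2) F).det = 1) (hyd : (y : Matrix (Fin 2) (Fin 2) F).det = 1)
    (hx : ∀ z : F, (x : Matrix (Fin 2) (Fin 2) F) ≠ z • 1)
    (hy : ∀ z : F, (y : Matrix (Fin 2) (Fin 2) F) ≠ z • 1)
    (ht : (x : Matrix (Fin 2) (Fin 2) F).trace = (y : Matrix (Fin 2) (Fin 2) F).trace)
    (hd : (x : Matrix (Fin 2) (Fin 2) F).trace ^ 2 - 4 * 1 ≠ 0) :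
    ∃ g ∈ Cfsg.Geo.specialLinear (Fin 2) F, g⁻¹ * x * g = y := by
  obtain ⟨v, hv⟩ := exists_cyclic hx
  obtain ⟨u, hu⟩ := exists_cyclic hy
  set X := (x : Matrix (Fin 2) (Fin 2) F)
  set Y := (y : Matrix (Fin 2) (Fin 2) F)
  set t := X.trace
  obtain ⟨a, b, hab⟩ := FormCentral.exists_rep_field hd
    ((u 0 * (Y *ᵥ u) 1 - u 1 * (Y *ᵥ u) 0) / (v 0 * (X *ᵥ v) 1 - v 1 * (X *ᵥ v) 0))
  have hXX : ∀ w, X *ᵥ (X *ᵥ w) = t • (X *ᵥ w) - w := fun w => by
    rw [Matrix.mulVec_mulVec, sq_eq X, hxd, Matrix.sub_mulVec, Matrix.smul_mulVec, one_smul,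
      Matrix.one_mulVec]
  have hYY : ∀ w, Y *ᵥ (Y *ᵥ w) = t • (Y *ᵥ w) - w := fun w => by
    rw [Matrix.mulVec_mulVec, sq_eq Y, hyd, Matrix.sub_mulVec, Matrix.smul_mulVec, one_smul,
      Matrix.one_mulVec, ← ht]
  obtain ⟨v', hv'⟩ : ∃ v', v' = a • v + b • (X *ᵥ v) := ⟨_, rfl⟩
  let mk : Matrix (Fin 2) (Fin 2) F → (Fin 2 → F) → Matrix (Fin 2) (Fin 2) F := fun M z =>
    !![z 0, (M *ᵥ z) 0; z 1, (M *ᵥ z) 1]
  have hmk : ∀ (M : Matrix (Fin 2) (Fin 2) F) (z : Fin 2 → F), (M *ᵥ (M *ᵥ z) = t • (M *ᵥ z) - z) →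
      M * mk M z = mk M z * !![0, -1; 1, t] := by
    intro M z hMz
    have e0 := congrFun hMz 0
    have e1 := congrFun hMz 1
    simp [Matrix.mulVec, dotProduct] at e0 e1
    ext i j
    fin_cases i <;> fin_cases j <;> simp [mk, Matrix.mul_apply, Matrix.mulVec, dotProduct]
    · linear_combination e0
    · linear_combination e1
  set A := mk X v' with hA
  set B := mk Y u with hB
  have hdet : A.det = B.det := by
    have e0 := congrFun (hXX v) 0
    have e1 := congrFun (hXX v) 1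
    simp only [Pi.sub_apply, Pi.smul_apply, smul_eq_mul] at e0 e1
    rw [eq_div_iff hv] at hab
    simp only [hA, hB, mk, hv', Matrix.det_fin_two, Matrix.of_apply, Matrix.cons_val',
      Matrix.cons_val_zero, Matrix.cons_val_one, Matrix.empty_val', Matrix.cons_val_fin_one,
      Matrix.mulVec_add, Matrix.mulVec_smul, Pi.add_apply, Pi.smul_apply, smul_eq_mul, e0, e1]
    linear_combination hab
  have hBu : IsUnit B.det := by
    rw [isUnit_iff_ne_zero, hB]
    simpa [mk, Matrix.det_fin_two, mul_comm, mul_left_comm] using hu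
  have hP : (A * B⁻¹).det = 1 := by
    rw [Matrix.det_mul, hdet, ← Matrix.det_mul, Matrix.mul_nonsing_inv _ hBu, Matrix.det_one]
  let g : GL (Fin 2) F := Matrix.GeneralLinearGroup.mk'' (A * B⁻¹) (by rw [hP]; exact isUnit_one)
  refine ⟨g, ?_, ?_⟩
  · rw [Cfsg.Geo.specialLinear, MonoidHom.mem_ker]
    exact Units.ext hP
  · rw [mul_assoc, inv_mul_eq_iff_eq_mul]
    refine Units.ext ?_
    show X * (A * B⁻¹) = A * B⁻¹ * Y
    have h1 := hmk X v' (hXX v')
    have h2 := hmk Y u (hYY u)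
    calc X * (A * B⁻¹) = A * !![0, -1; 1, t] * B⁻¹ := by rw [← Matrix.mul_assoc, h1]
      _ = A * (B⁻¹ * (B * !![0, -1; 1, t]) * B⁻¹) := by
        rw [Matrix.nonsing_inv_mul_cancel_left _ _ hBu, Matrix.mul_assoc]
      _ = A * B⁻¹ * Y := by
        rw [← h2, ← Matrix.mul_assoc B⁻¹ Y, Matrix.mul_assoc (B⁻¹ * Y),
          Matrix.mul_nonsing_inv _ hBu, Matrix.mul_one, Matrix.mul_assoc]


/-- Elements of prime order of PSL_2(p) and the normalizer of a quaternion subgroup. Here `T = PSL_2(F)` for the field `F` with `p` elements, `p ≥ 5` prime; `R` is a subgroup of GL_2(F) isomorphic to the quaternion group of order 8 (an absolutely irreducible 2-group of symplectic type), and `H` is the subgroup of matrices of determinant 1 normalizing `R` — a subgroup of type 2^{1+2}.O₂⁻(2), isomorphic modulo scalars to A₄ or S₄ (maximality is not assumed). Ω is the set of cosets of `H` in `T`, so an element of `T` of prime order `r` (a matrix `x` of determinant 1 with `x^r`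 scalar, `x` not scalar) fixes a point of Ω exactly when some conjugate of `x` by a matrix of determinant 1 normalizes `R`. Let `r` be a prime dividing the index of `H`. Then every element of `T` of order `r` fixes a point of Ω if and only if `r = 2` or `r = 3`. -/
theorem result {F : Type*} [Field F] [Fintype F] {p : ℕ} [Fact p.Prime] [CharP F p] (hF : Fintype.card F = p) (hp : 5 ≤ p)
    (R : Subgroup (GL (Fin 2) F)) (hR : Nonempty (↥R ≃* QuaternionGroup 2))
    (r : ℕ) [Fact r.Prime]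
    (hΩ : r ∣ (Cfsg.Geo.subgroupNormalizer R).relIndex (Cfsg.Geo.specialLinear (Fin 2) F)) :
    (∀ x ∈ Cfsg.Geo.specialLinear (Fin 2) F, (∃ z : F, ((x ^ r : GL (Fin 2) F) : Matrix (Fin 2) (Fin 2) F) = z • (1 : Matrix (Fin 2) (Fin 2) F)) →
      (∀ z : F, (x : Matrix (Fin 2) (Fin 2) F) ≠ z • (1 : Matrix (Fin 2) (Fin 2) F)) →
      ∃ g ∈ Cfsg.Geo.specialLinear (Fin 2) F, g⁻¹ * x * g ∈ Cfsg.Geo.subgroupNormalizer R) ↔ (r = 2 ∨ r = 3) := by
  classical
  have hchar : ringChar F = p := (ringChar.eq F p)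
  have hnat : ∀ k : ℕ, 0 < k → k < 5 → (k : F) ≠ 0 := fun k hk hk5 h0 => by
    have := Nat.le_of_dvd hk ((CharP.cast_eq_zero_iff F p k).1 h0)
    omega
  have h2 : (2 : F) ≠ 0 := by simpa using hnat 2 (by norm_num) (by norm_num)
  have h3 : (3 : F) ≠ 0 := by simpa using hnat 3 (by norm_num) (by norm_num)
  have h4 : (4 : F) ≠ 0 := by simpa using hnat 4 (by norm_num) (by norm_num)
  have h1ne : (-1 : Matrix (Fin 2) (Fin 2) F) ≠ 1 := fun e => h2 (by
    have := congrFun (congrFun e 0) 0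
    simp at this
    linear_combination -this)
  obtain ⟨φ⟩ := hR
  let ψ : QuaternionGroup 2 →* GL (Fin 2) F := R.subtype.comp φ.symm.toMonoidHom
  have hψi : Function.Injective ψ := R.subtype_injective.comp φ.symm.injective
  have hψR : ∀ q, ψ q ∈ R := fun q => (φ.symm q).2
  have hRψ : ∀ w ∈ R, ∃ q, ψ q = w := fun w hw => ⟨φ ⟨w, hw⟩, by simp [ψ]⟩
  set I : Matrix (Fin 2) (Fin 2) F := ((ψ (.a 1) : GL (Fin 2) F) : Matrix (Fin 2) (Fin 2) F) with hI
  set J : Matrix (Fin 2) (Fin 2) F := ((ψ (.xa 0) : GL (Fin 2) F) : Matrix (Fin 2) (Fin 2) F) with hJ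
  set Z : Matrix (Fin 2) (Fin 2) F := ((ψ (.a 2) : GL (Fin 2) F) : Matrix (Fin 2) (Fin 2) F) with hZ
  have mulv : ∀ q q', ((ψ q : GL (Fin 2) F) : Matrix (Fin 2) (Fin 2) F) * ((ψ q' : GL (Fin 2) F) : Matrix (Fin 2) (Fin 2) F) =
      ((ψ (q * q') : GL (Fin 2) F) : Matrix (Fin 2) (Fin 2) F) := fun q q' => by rw [map_mul, Units.val_mul]
  have hII : I * I = Z := by rw [hI, hZ, mulv]; rfl
  have hJJ : J * J = Z := by rw [hJ, hZ, mulv]; rfl
  have hZ1 : Z * Z = 1 := by
    rw [hZ, mulv, show (QuaternionGroup.a 2 * .a 2 : QuaternionGroup 2) = 1 from rfl, map_one, Units.val_one]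
  have hIJ0 : I * J = Z * (J * I) := by
    rw [hI, hJ, hZ, mulv, mulv, mulv]; rfl
  have hdetI : I.det ≠ 0 := ((Matrix.isUnit_iff_isUnit_det _).1 (ψ (.a 1)).isUnit).ne_zero
  have hdetJ : J.det ≠ 0 := ((Matrix.isUnit_iff_isUnit_det _).1 (ψ (.xa 0)).isUnit).ne_zero
  have hdetZ : Z.det = 1 := by
    have h := congrArg Matrix.det hIJ0
    rw [Matrix.det_mul, Matrix.det_mul, Matrix.det_mul] at h
    exact mul_right_cancel₀ (mul_ne_zero hdetJ hdetI) (by linear_combination -h)
  have hZne : Z ≠ 1 := fun e => by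
    have : ψ (.a 2) = ψ 1 := by rw [map_one]; exact Units.ext e
    exact absurd (hψi this) (by decide)
  have hZm : Z = -1 := by
    have h := sq_eq Z
    rw [hZ1, hdetZ, one_smul] at h
    have h' : Z.trace • Z = (2 : F) • (1 : Matrix (Fin 2) (Fin 2) F) := by
      rw [two_smul]; exact (eq_sub_iff_add_eq.1 h).symm
    have ht : Z.trace ≠ 0 := fun e => by
      rw [e, zero_smul] at h'
      exact h2 (by simpa using (congrFun (congrFun h' 0) 0).symm)
    have hz : Z = (Z.trace⁻¹ * 2) • (1 : Matrix (Fin 2) (Fin 2) F) := by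
      rw [← smul_smul, ← h', smul_smul, inv_mul_cancel₀ ht, one_smul]
    have hc : (Z.trace⁻¹ * 2) * (Z.trace⁻¹ * 2) = 1 := by
      have := congrFun (congrFun hZ1 0) 0
      rw [hz] at this
      simpa [Matrix.mul_apply] using this
    rcases mul_self_eq_one_iff.1 hc with e | e
    · exact absurd (by rw [hz, e, one_smul]) hZne
    · rw [hz, e, neg_smul, one_smul]
  rw [hZm] at hII hJJ hIJ0
  have hIJ : I * J = -(J * I) := by rw [hIJ0, neg_one_mul]
  have hJI : J * I = -(I * J) := by rw [hIJ, neg_neg]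
  have pure : ∀ M : Matrix (Fin 2) (Fin 2) F, M * M = -1 → (∀ z : F, M ≠ z • 1) →
      M.trace = 0 ∧ M.det = 1 := by
    intro M hM hns
    have h := sq_eq M
    rw [hM] at h
    have h' : M.trace • M = (M.det - 1) • (1 : Matrix (Fin 2) (Fin 2) F) := by
      rw [sub_smul, one_smul, sub_eq_add_neg, h]; abel
    have ht : M.trace = 0 := by
      by_contra ht
      exact hns (M.trace⁻¹ * (M.det - 1)) (by rw [← smul_smul, ← h', smul_smul, inv_mul_cancel₀ ht, one_smul])
    rw [ht, zero_smul] at h'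
    exact ⟨ht, sub_eq_zero.1 (by simpa using (congrFun (congrFun h' 0) 0).symm)⟩
  have hne0 : I * J ≠ 0 := fun e => by
    have := congrArg Matrix.det e
    rw [Matrix.det_mul, Matrix.det_zero] at this
    exact mul_ne_zero hdetI hdetJ this
  have hanti : I * J ≠ J * I := fun e => by
    have h : (2 : F) • (I * J) = 0 := by
      rw [two_smul]
      nth_rewrite 2 [hIJ]
      rw [← e, add_neg_cancel]
    exact hne0 ((smul_eq_zero.1 h).resolve_left h2)
  have hIs : ∀ z : F, I ≠ z • 1 := fun z e => hanti (by rw [e]; simp)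
  have hJs : ∀ z : F, J ≠ z • 1 := fun z e => hanti (by rw [e]; simp)
  obtain ⟨hIt, hId⟩ := pure I hII hIs
  obtain ⟨hJt, hJd⟩ := pure J hJJ hJs
  have hKK : I * J * (I * J) = -1 := by
    rw [show I * J * (I * J) = I * (J * I) * J by noncomm_ring, hJI,
      show I * -(I * J) * J = -((I * I) * (J * J)) by noncomm_ring, hII, hJJ]
    simp
  have hKs : ∀ z : F, I * J ≠ z • 1 := fun z e => by
    have : z • J = -I := by
      rw [← Matrix.one_mul J, ← Matrix.smul_mul, ← e, Matrix.mul_assoc, hJJ, mul_neg, mul_one]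
    exact hanti (by rw [show I = -(z • J) by rw [this, neg_neg]]; simp)
  obtain ⟨hKt, hKd⟩ := pure (I * J) hKK hKs
  -- the element of order three
  obtain ⟨W, hWdef⟩ : ∃ W, W = (2 : F)⁻¹ • (-1 + I + J + I * J) := ⟨_, rfl⟩
  have hWt : W.trace = -1 := by
    rw [hWdef, Matrix.trace_smul, Matrix.trace_add, Matrix.trace_add, Matrix.trace_add, Matrix.trace_neg,
      Matrix.trace_one, hIt, hJt, hKt, Fintype.card_fin, smul_eq_mul]
    field_simp
    norm_num
  have hJK : J * (I * J) = I := by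
    rw [← Matrix.mul_assoc, hJI, neg_mul, Matrix.mul_assoc, hJJ]; simp
  have hKJ : I * J * J = -I := by rw [Matrix.mul_assoc, hJJ, mul_neg, mul_one]
  have hKI : I * J * I = J := by
    rw [Matrix.mul_assoc, hJI, mul_neg, ← Matrix.mul_assoc, hII]; simp
  have hIK : I * (I * J) = -J := by rw [← Matrix.mul_assoc, hII, neg_one_mul]
  have hWW : W * W = -W - 1 := by
    rw [hWdef, Matrix.smul_mul, Matrix.mul_smul, smul_smul]
    simp only [add_mul, mul_add, neg_mul, mul_neg, one_mul, mul_one, hII, hJJ, hJI, hJK, hKJ, hKI,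
      hIK, hKK, neg_neg]
    match_scalars <;> field_simp <;> ring
  have hWd : W.det = 1 := by
    have h := sq_eq W
    rw [hWW, hWt, neg_one_smul] at h
    have h' := congrFun (congrFun (sub_right_injective h) 0) 0
    simpa using h'.symm
  let ω : GL (Fin 2) F := Matrix.GeneralLinearGroup.mk'' W (by rw [hWd]; exact isUnit_one)
  have hωI : W * I = I * J * W := by
    rw [hWdef, Matrix.smul_mul, Matrix.mul_smul]
    simp only [add_mul, mul_add, neg_mul, mul_neg, one_mul, mul_one, hII, hJJ, hJI, hJK, hKJ, hKI,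
      hIK, hKK, neg_neg]
    congr 1
    abel
  have hωJ : W * J = I * W := by
    rw [hWdef, Matrix.smul_mul, Matrix.mul_smul]
    simp only [add_mul, mul_add, neg_mul, mul_neg, one_mul, mul_one, hII, hJJ, hJI, hJK, hKJ, hKI,
      hIK, hKK, neg_neg]
    congr 1
    abel
  have hgen : ∀ q : QuaternionGroup 2, ∃ a b : ℕ, q = .xa 0 ^ a * .a 1 ^ b := by
    intro q
    rcases q with k | k
    · exact ⟨0, k.val, by rw [pow_zero, one_mul, QuaternionGroup.a_one_pow, ZMod.natCast_zmod_val]⟩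
    · exact ⟨1, k.val, by
        rw [pow_one, QuaternionGroup.a_one_pow, ZMod.natCast_zmod_val, QuaternionGroup.xa_mul_a, zero_add]⟩
  have hωn : ω ∈ Cfsg.Geo.subgroupNormalizer R := by
    have hcI : ω * ψ (.a 1) * ω⁻¹ = ψ (.a 1 * .xa 0) := by
      rw [mul_inv_eq_iff_eq_mul]
      refine Units.ext ?_
      show W * I = _
      rw [hωI, map_mul]; rfl
    have hcJ : ω * ψ (.xa 0) * ω⁻¹ = ψ (.a 1) := by
      rw [mul_inv_eq_iff_eq_mul]
      exact Units.ext hωJ
    have hle : ∀ q, ω * ψ q * ω⁻¹ ∈ R := fun q => by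
      obtain ⟨a, b, rfl⟩ := hgen q
      rw [map_mul, map_pow, map_pow, ← MulAut.conj_apply, map_mul, map_pow, map_pow, MulAut.conj_apply,
        MulAut.conj_apply, hcI, hcJ]
      exact R.mul_mem (R.pow_mem (hψR _) _) (R.pow_mem (hψR _) _)
    show ω ∈ Subgroup.normalizer (R : Set (GL (Fin 2) F))
    rw [Subgroup.mem_normalizer_iff]
    have hfun : ∀ q, ∃ q', ψ q' = ω * ψ q * ω⁻¹ := fun q => hRψ _ (hle q)
    choose θ hθ using hfun
    have hθs : Function.Surjective θ := Finite.injective_iff_surjective.1 fun q q' e => hψi (by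
      have := hθ q
      rw [e, hθ q'] at this
      exact (mul_left_cancel (mul_right_cancel this)).symm)
    intro w
    constructor
    · intro hw
      obtain ⟨q, rfl⟩ := hRψ w hw
      exact hle q
    · intro hw
      obtain ⟨q, hq⟩ := hRψ _ hw
      obtain ⟨q', rfl⟩ := hθs q
      rw [hθ q'] at hq
      rw [← mul_left_cancel (mul_right_cancel hq)]
      exact hψR q'
  have hneg : ψ (.a 2) ∈ Cfsg.Geo.subgroupNormalizer R :=
    Subgroup.le_normalizer (hψR _)
  have hrp : r.Prime := Fact.out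
  have sc : ∀ (X : Matrix (Fin 2) (Fin 2) F), X.det = 1 → ∀ z : F, X = z • 1 → z * z = 1 := by
    intro X hX z e
    rw [e, Matrix.det_smul, Matrix.det_one, Fintype.card_fin, mul_one, pow_two] at hX
    exact hX
  have hsl : ∀ x : GL (Fin 2) F, x ∈ Cfsg.Geo.specialLinear (Fin 2) F →
      (x : Matrix (Fin 2) (Fin 2) F).det = 1 := fun x hx => by
    rw [Cfsg.Geo.specialLinear, MonoidHom.mem_ker] at hx
    exact congrArg Units.val hx
  constructor
  · intro hall
    by_contra hc
    push Not at hc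
    have hr5 : 5 ≤ r := by
      have := hrp.two_le
      rcases Nat.lt_or_ge r 5 with h | h
      · interval_cases r
        · exact absurd rfl hc.1
        · exact absurd rfl hc.2
        · exact absurd hrp (by norm_num)
      · exact h
    haveI : Finite (Cfsg.Geo.specialLinear (Fin 2) F) := inferInstance
    have hdvd : r ∣ Nat.card (Cfsg.Geo.specialLinear (Fin 2) F) :=
      hΩ.trans (Subgroup.index_dvd_card _)
    obtain ⟨⟨x, hx⟩, hxo⟩ := exists_prime_orderOf_dvd_card' r hdvd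
    rw [Subgroup.orderOf_mk] at hxo
    have hxr : x ^ r = 1 := by rw [← hxo]; exact pow_orderOf_eq_one x
    have hxs : ∀ z : F, (x : Matrix (Fin 2) (Fin 2) F) ≠ z • 1 := by
      intro z e
      have hx2 : x ^ 2 = 1 := Units.ext (by
        rw [Units.val_pow_eq_pow_val, e, smul_pow, one_pow, pow_two, sc _ (hsl x hx) z e, one_smul]
        rfl)
      have := Nat.le_of_dvd (by norm_num) (hxo ▸ orderOf_dvd_of_pow_eq_one hx2)
      omega
    obtain ⟨g, -, hg⟩ := hall x hx ⟨1, by rw [hxr, Units.val_one, one_smul]⟩ hxs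
    set y := g⁻¹ * x * g with hy
    have hyr : y ^ r = 1 := by
      rw [hy, show g⁻¹ * x * g = MulAut.conj g⁻¹ x by simp, ← map_pow, hxr, map_one]
    have hyn : ∀ (k : ℕ), y ^ k ∈ Subgroup.normalizer (R : Set (GL (Fin 2) F)) := fun k =>
      Subgroup.pow_mem _ hg k
    -- elements squaring to -1
    have six : ∀ q : QuaternionGroup 2, q * q = .a 2 →
        q = .a 1 ∨ q = .a 1 * .a 2 ∨ q = .xa 0 ∨ q = .xa 0 * .a 2 ∨ q = .a 1 * .xa 0 ∨
          q = .a 1 * .xa 0 * .a 2 := by decide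
    have hc2 : ∀ w : GL (Fin 2) F, w * ψ (.a 2) = ψ (.a 2) * w := fun w => Units.ext (by
      simp only [Units.val_mul]
      rw [← hZ, hZm]; simp)
    have comm : ∀ q : QuaternionGroup 2, q * q = .a 2 → y * ψ q = ψ q * y := by
      intro q hq
      have img : ∀ k : ℕ, ∃ c : Fin 3, y ^ k * ψ q * (y ^ k)⁻¹ = ψ (![.a 1, .xa 0, .a 1 * .xa 0] c) ∨
          y ^ k * ψ q * (y ^ k)⁻¹ = ψ (![.a 1, .xa 0, .a 1 * .xa 0] c * .a 2) := by
        intro k
        obtain ⟨q', hq'⟩ := hRψ _ ((Subgroup.mem_normalizer_iff.1 (hyn k) _).1 (hψR q))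
        have hq'2 : q' * q' = .a 2 := hψi (by
          rw [map_mul, hq', show y ^ k * ψ q * (y ^ k)⁻¹ * (y ^ k * ψ q * (y ^ k)⁻¹) =
            y ^ k * ψ (q * q) * (y ^ k)⁻¹ by rw [map_mul]; group, hq, hc2, mul_inv_cancel_right])
        rcases six q' hq'2 with e | e | e | e | e | e <;> rw [← hq', e]
        · exact ⟨0, Or.inl rfl⟩
        · exact ⟨0, Or.inr rfl⟩
        · exact ⟨1, Or.inl rfl⟩
        · exact ⟨1, Or.inr rfl⟩
        · exact ⟨2, Or.inl rfl⟩
        · exact ⟨2, Or.inr rfl⟩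
      choose c hc' using img
      obtain ⟨a, b, hab, hcab⟩ := Fintype.exists_ne_map_eq_of_card_lt (fun k : Fin 4 => c k) (by simp)
      wlog hlt : (a : ℕ) < (b : ℕ) generalizing a b
      · exact this b a hab.symm hcab.symm (lt_of_le_of_ne (Nat.le_of_not_lt hlt)
          (fun e => hab (Fin.ext e.symm)))
      obtain ⟨d, hd⟩ := Nat.exists_eq_add_of_lt hlt
      set m := d + 1
      have hm : m < 4 := by have := b.isLt; omega
      have key : y ^ m * ψ q * (y ^ m)⁻¹ = ψ q ∨ y ^ m * ψ q * (y ^ m)⁻¹ = ψ q * ψ (.a 2) := by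
        have hb : y ^ (b : ℕ) * ψ q * (y ^ (b : ℕ))⁻¹ =
            y ^ (a : ℕ) * (y ^ m * ψ q * (y ^ m)⁻¹) * (y ^ (a : ℕ))⁻¹ := by
          rw [show (b : ℕ) = a + m by omega, pow_add]; group
        have hsq : ψ (.a 2) * ψ (.a 2) = 1 := by rw [← map_mul, ← map_one ψ]; rfl
        have cases2 : y ^ (b : ℕ) * ψ q * (y ^ (b : ℕ))⁻¹ = y ^ (a : ℕ) * ψ q * (y ^ (a : ℕ))⁻¹ ∨
            y ^ (b : ℕ) * ψ q * (y ^ (b : ℕ))⁻¹ =
              y ^ (a : ℕ) * (ψ q * ψ (.a 2)) * (y ^ (a : ℕ))⁻¹ := by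
          have hmv : y ^ (a : ℕ) * (ψ q * ψ (.a 2)) * (y ^ (a : ℕ))⁻¹ =
              y ^ (a : ℕ) * ψ q * (y ^ (a : ℕ))⁻¹ * ψ (.a 2) := by
            rw [← mul_assoc, mul_assoc _ (ψ (.a 2)), ← hc2, mul_assoc]
            group
          rw [hmv]
          rcases hc' (a : ℕ) with e | e <;> rcases hc' (b : ℕ) with e' | e' <;>
            rw [e, e', show c (b : ℕ) = c (a : ℕ) from hcab.symm] <;>
            simp [map_mul, mul_assoc, hsq]
        rw [hb] at cases2
        exact cases2.imp (fun h => mul_left_cancel (mul_right_cancel h))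
          (fun h => mul_left_cancel (mul_right_cancel h))
      have h2m : Commute (y ^ (2 * m)) (ψ q) := by
        have hsq : ψ (.a 2) * ψ (.a 2) = 1 := by rw [← map_mul, ← map_one ψ]; rfl
        show _ = _
        rw [← mul_inv_eq_iff_eq_mul, two_mul, pow_add,
          show y ^ m * y ^ m * ψ q * (y ^ m * y ^ m)⁻¹ =
            y ^ m * (y ^ m * ψ q * (y ^ m)⁻¹) * (y ^ m)⁻¹ by group]
        rcases key with e | e <;> rw [e]
        · exact e
        · rw [← mul_assoc, mul_assoc _ (ψ (.a 2)), ← hc2, ← mul_assoc, e, mul_assoc, hsq, mul_one]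
      have hco : Nat.Coprime (2 * m) r := by
        rw [Nat.coprime_comm, hrp.coprime_iff_not_dvd]
        intro h
        rcases hrp.dvd_mul.1 h with h | h
        · have := Nat.le_of_dvd (by norm_num) h; omega
        · have := Nat.le_of_dvd (by omega) h; omega
      obtain ⟨u, hu⟩ := exists_pow_eq_self_of_coprime (x := y) (n := 2 * m) (by
        exact hco.coprime_dvd_right (orderOf_dvd_of_pow_eq_one hyr))
      rw [← hu]
      exact h2m.pow_left u
    have cI := congrArg Units.val (comm (.a 1) rfl)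
    have cJ := congrArg Units.val (comm (.xa 0) rfl)
    simp only [Units.val_mul] at cI cJ
    obtain ⟨α, β, hαβ⟩ := commutant hIs cI
    have hβ : β = 0 := by
      rw [hαβ] at cJ
      have : β • (I * J) = β • (J * I) := by
        simp only [add_mul, mul_add, Matrix.smul_mul, Matrix.mul_smul, one_mul, mul_one] at cJ
        exact add_left_cancel cJ
      rw [← sub_eq_zero, ← smul_sub, smul_eq_zero] at this
      exact this.resolve_right (sub_ne_zero.2 hanti)
    rw [hβ, zero_smul, add_zero] at hαβ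
    refine hxs α ?_
    have hxy : x = g * y * g⁻¹ := by rw [hy]; group
    rw [hxy, Units.val_mul, Units.val_mul, hαβ, Matrix.mul_smul, mul_one, Matrix.smul_mul,
      ← Units.val_mul, mul_inv_cancel, Units.val_one]
  · intro hr x hx hz hns
    obtain ⟨z, hz⟩ := hz
    rw [Units.val_pow_eq_pow_val] at hz
    set X := (x : Matrix (Fin 2) (Fin 2) F) with hX
    have hXd := hsl x hx
    have hCH := sq_eq X
    rw [hXd, one_smul] at hCH
    have fin : ∀ y : GL (Fin 2) F, y ∈ Cfsg.Geo.subgroupNormalizer R →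
        (y : Matrix (Fin 2) (Fin 2) F).det = 1 → (∀ z : F, (y : Matrix (Fin 2) (Fin 2) F) ≠ z • 1) →
        X.trace = (y : Matrix (Fin 2) (Fin 2) F).trace → X.trace ^ 2 - 4 * 1 ≠ 0 →
        ∃ g ∈ Cfsg.Geo.specialLinear (Fin 2) F, g⁻¹ * x * g ∈ Cfsg.Geo.subgroupNormalizer R := by
      intro y hy hyd hys hyt hd
      obtain ⟨g, hg, hgx⟩ := exists_conj hXd hyd hns hys hyt hd
      exact ⟨g, hg, hgx ▸ hy⟩
    rcases hr with rfl | rfl
    · have ht : X.trace = 0 := by
        by_contra ht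
        refine hns (X.trace⁻¹ * (z + 1)) ?_
        rw [pow_two, hCH, sub_eq_iff_eq_add] at hz
        rw [← smul_smul, add_smul, one_smul, ← hz, smul_smul, inv_mul_cancel₀ ht, one_smul]
      exact fin (ψ (.a 1)) (Subgroup.le_normalizer (hψR _)) hId hIs (ht.trans hIt.symm)
        (by rw [ht]; simpa using h4)
    · have ht : X.trace * X.trace = 1 := by
        by_contra ht
        have h3' : X ^ 3 = (X.trace * X.trace - 1) • X - X.trace • 1 := by
          rw [pow_succ, pow_two, hCH, sub_mul, Matrix.smul_mul, hCH, one_mul, smul_sub, smul_smul,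
            sub_smul, one_smul]
          abel
        rw [h3', sub_eq_iff_eq_add, ← add_smul] at hz
        refine hns ((X.trace * X.trace - 1)⁻¹ * (z + X.trace)) ?_
        rw [← smul_smul, ← hz, smul_smul, inv_mul_cancel₀ (sub_ne_zero.2 ht), one_smul]
      have hWs : ∀ z : F, W ≠ z • 1 := fun z e => by
        have h1 := sc W hWd z e
        have h2' := hWt
        rw [e, Matrix.trace_smul, Matrix.trace_one, Fintype.card_fin, smul_eq_mul] at h2'
        have : (3 : F) = 0 := by push_cast at h2'; linear_combination (2 * z - 1) * h2' - 4 * h1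
        exact h3 this
      rcases mul_self_eq_one_iff.1 ht with e | e
      · refine fin (ψ (.a 2) * ω) ((Cfsg.Geo.subgroupNormalizer R).mul_mem hneg hωn) ?_ (fun z ez => ?_) ?_
          (by rw [e]; norm_num; exact h3)
        · rw [Units.val_mul, Matrix.det_mul, ← hZ, hdetZ, one_mul]; exact hWd
        · rw [Units.val_mul, ← hZ, hZm, neg_one_mul, neg_eq_iff_eq_neg, ← neg_smul] at ez
          exact hWs _ ez
        · rw [Units.val_mul, ← hZ, hZm, neg_one_mul, Matrix.trace_neg]
          show _ = -W.trace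
          rw [hWt, e, neg_neg]
      · exact fin ω hωn hWd hWs (by show _ = W.trace; rw [hWt, e]) (by rw [e]; norm_num; exact h3)

end Cfsg.Agent.S5997
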