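import Cfsg.Agent.Lib.TransvMax.PauliRich
import Cfsg.Agent.Lib.TransvMax.SimTools
import Cfsg.Agent.Lib.TransvMax.SimOrth
import Cfsg.Agent.Lib.Elusive.QuadraticExt
-- import your own Cfsg.Agent.* helpers here

set_option autoImplicit false
open scoped MatrixGroups
open Cfsg

namespace Cfsg.Agent.S6000

open Cfsg.Agent Cfsg.Agent.Pauli Module
open scoped Matrix

variable {F : Type*} [Field F]

local notation "M4" => Matrix (Fin 4) (Fin 4) F

/-- A two by two block. -/
def emb (c : Matrix (Fin 2) (Fin 2) F) : M4 :=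
  !![c 0 0, c 0 1, 0, 0; c 1 0, c 1 1, 0, 0; 0, 0, 1, 0; 0, 0, 0, 1]

theorem emb_mul (c c' : Matrix (Fin 2) (Fin 2) F) : emb c * emb c' = emb (c * c') := by
  ext i j; fin_cases i <;> fin_cases j <;> simp [emb, Matrix.mul_apply, Fin.sum_univ_four, Fin.sum_univ_two]

theorem emb_one : emb (1 : Matrix (Fin 2) (Fin 2) F) = 1 := by
  ext i j; fin_cases i <;> fin_cases j <;> simp [emb, Matrix.one_apply]

theorem trace_emb (c : Matrix (Fin 2) (Fin 2) F) : Matrix.trace (emb c) = c 0 0 + c 1 1 + 2 := by
  simp [Matrix.trace, emb, Fin.sum_univ_four]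
  ring

/-- The rotation with trace `t`, or diagonal with three equal eigenvalues. -/
theorem exists_witness {t : F} (ht : t * t + t = 1) :
    ∃ x ∈ Cfsg.Geo.specialLinear (Fin 4) F, x ^ 5 = 1 ∧ Matrix.trace (x : M4) = t + 2 ∧
      Matrix.trace ((x⁻¹ : GL (Fin 4) F) : M4) = t + 2 ∧ ∀ z : F, (x : M4) ≠ z • 1 := by
  set c : Matrix (Fin 2) (Fin 2) F := !![t, 1; -1, 0]
  set c' : Matrix (Fin 2) (Fin 2) F := !![0, -1; 1, t]
  have h1 : c * c' = 1 := by ext i j; fin_cases i <;> fin_cases j <;> simp [c, c', Matrix.mul_apply, Fin.sum_univ_two]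
  have h2 : c' * c = 1 := by ext i j; fin_cases i <;> fin_cases j <;> simp [c, c', Matrix.mul_apply, Fin.sum_univ_two]
  let x : GL (Fin 4) F := ⟨emb c, emb c', by rw [emb_mul, h1, emb_one], by rw [emb_mul, h2, emb_one]⟩
  refine ⟨x, Units.ext ?_, ?_, by show Matrix.trace (emb c) = _; rw [trace_emb]; simp [c],
    by show Matrix.trace (emb c') = _; rw [trace_emb]; simp [c'], fun z hz => ?_⟩
  · show (emb c).det = 1
    simp [emb, c, Matrix.det_succ_row_zero, Fin.sum_univ_succ, Fin.succAbove]
  · refine Units.ext ?_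
    rw [Units.val_pow_eq_pow_val, Units.val_one]
    have hpow : ∀ k : ℕ, (x : M4) ^ k = emb (c ^ k) := fun k => by
      induction k with
      | zero => rw [pow_zero, pow_zero, emb_one]
      | succ k ih => rw [pow_succ, ih, pow_succ, ← emb_mul]
    rw [hpow, ← emb_one]
    congr 1
    ext i j
    fin_cases i <;> fin_cases j <;> simp [c, pow_succ, Matrix.mul_apply, Fin.sum_univ_two]
    · linear_combination (t * t * t - t * t - 2 * t + 1) * ht
    · linear_combination (t * t - t - 1) * ht
    · linear_combination -(t * t - t - 1) * ht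
    · linear_combination -(t - 1) * ht
  · have h3 : emb c 1 0 = (z • (1 : M4)) 1 0 := by rw [← hz]
    simp [emb, c] at h3

section Fintype

variable [Fintype F]

/-- An eigenbasis of an involution. -/
theorem invol_data (h2 : (2 : F) ≠ 0) {Z : GL (Fin 4) F} (hZ : Z * Z = 1) :
    ∃ (b : Basis (Fin 4) F (Fin 4 → F)) (s : Fin 4 → Bool), (∀ i, (Z : M4) *ᵥ b i = (sg (s i) : F) • b i) ∧
      Matrix.trace (Z : M4) = 4 - 2 * ((Finset.univ.filter fun i => s i = true).card : F) ∧
      (Z : M4).det = (-1) ^ (Finset.univ.filter fun i => s i = true).card := by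
  classical
  obtain ⟨b, e, hbe⟩ := SimEl.exists_eigenbasis (r := 2) (Matrix.toLin' (Z : M4))
    (by rw [← Matrix.toLin'_pow, pow_two, ← Units.val_mul, hZ, Units.val_one, Matrix.toLin'_one]; rfl)
    (IsPrimitiveRoot.neg_one (ringChar F) (Spinor.ringChar_ne_two h2)) (by exact_mod_cast h2)
  let s : Fin 4 → Bool := fun i => decide (Odd (e i))
  have hs : ∀ i, ((-1 : F) ^ e i) = sg (s i) := fun i => by
    rcases Nat.even_or_odd (e i) with he | he
    · simp [s, sg, he.neg_one_pow, Nat.not_odd_iff_even.2 he]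
    · simp [s, sg, he.neg_one_pow, he]
  have hev : ∀ i, (Z : M4) *ᵥ b i = (sg (s i) : F) • b i := fun i => by
    rw [← Matrix.toLin'_apply, hbe, hs]
  refine ⟨b, s, hev, ?_, ?_⟩
  swap
  · rw [← LinearMap.det_toLin', Elusive.det_monomial b (Matrix.toLin' (Z : M4)) 1 (fun i => sg (s i)) (fun i => by
      rw [Matrix.toLin'_apply, hev]; rfl)]
    simp only [Equiv.Perm.sign_one, Units.val_one, Int.cast_one, one_mul, sg]
    rw [Finset.prod_ite]
    simp
  rw [← Matrix.trace_toLin'_eq, LinearMap.trace_eq_matrix_trace F b, Matrix.trace]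
  have h1 : ∀ i, Matrix.diag (LinearMap.toMatrix b b (Matrix.toLin' (Z : M4))) i = 1 - 2 * (if s i = true then 1 else 0) :=
    fun i => by
      rw [Matrix.diag_apply, LinearMap.toMatrix_apply, hbe, hs, map_smul, Finsupp.smul_apply, b.repr_self,
        Finsupp.single_eq_same, smul_eq_mul, mul_one]
      cases s i <;> simp [sg] <;> norm_num
  rw [Finset.sum_congr rfl fun i _ => h1 i, Finset.sum_sub_distrib, ← Finset.mul_sum, Finset.sum_boole,
    Finset.sum_const, Finset.card_univ, Fintype.card_fin, nsmul_one]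
  norm_num

/-- Involutions are conjugate when their traces agree. -/
theorem exists_conj_invol (h2 : (2 : F) ≠ 0) (h3 : (3 : F) ≠ 0) {X Y : GL (Fin 4) F} (hX : X * X = 1) (hY : Y * Y = 1)
    (ht : Matrix.trace (X : M4) = Matrix.trace (Y : M4)) :
    ∃ g ∈ Cfsg.Geo.specialLinear (Fin 4) F, g⁻¹ * X * g = Y := by
  classical
  obtain ⟨b, s, hb, htx, -⟩ := invol_data h2 hX
  obtain ⟨b', s', hb', hty, -⟩ := invol_data h2 hY
  set k := (Finset.univ.filter fun i => s i = true).card
  set k' := (Finset.univ.filter fun i => s' i = true).card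
  have hk : k = k' := by
    have e : (2 : F) * ((k : F) - k') = 0 := by linear_combination htx - hty - ht
    have e' : (k : F) = k' := sub_eq_zero.1 ((mul_eq_zero.1 e).resolve_left h2)
    have hk4 : k ≤ 4 := (Finset.card_filter_le _ _).trans (by simp)
    have hk4' : k' ≤ 4 := (Finset.card_filter_le _ _).trans (by simp)
    have hd : ∀ d : ℕ, 0 < d → d ≤ 4 → (d : F) ≠ 0 := fun d h1 h4 => by
      interval_cases d
      · simp
      · exact_mod_cast h2
      · exact_mod_cast h3
      · rw [show ((4 : ℕ) : F) = 2 * 2 by norm_num]; exact mul_ne_zero h2 h2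
    rcases lt_trichotomy k k' with h | h | h
    · exact absurd (by rw [Nat.cast_sub h.le, e', sub_self]) (hd (k' - k) (by omega) (by omega))
    · exact h
    · exact absurd (by rw [Nat.cast_sub h.le, e', sub_self]) (hd (k - k') (by omega) (by omega))
  have hcnt : ∀ v : Bool, (Finset.univ.filter fun i => s i = v).card = (Finset.univ.filter fun i => s' i = v).card := by
    intro v
    cases v
    · have e1 := Finset.card_filter_add_card_filter_not (s := (Finset.univ : Finset (Fin 4))) fun i => s i = true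
      have e2 := Finset.card_filter_add_card_filter_not (s := (Finset.univ : Finset (Fin 4))) fun i => s' i = true
      simp only [Bool.not_eq_true] at e1 e2
      omega
    · exact hk
  let π : Fin 4 ≃ Fin 4 := Equiv.ofFiberEquiv (f := s) (g := s') fun v =>
    Fintype.equivOfCardEq (by rw [Fintype.card_subtype, Fintype.card_subtype]; exact hcnt v)
  have hπ : ∀ i, s' (π i) = s i := fun i => Equiv.ofFiberEquiv_map _ i
  obtain ⟨g, hg, hgx⟩ := SimEl.exists_conj (SimEl.adj_of_eigen (by norm_num) b _ hb) (b.equiv b' π)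
  refine ⟨g, hg, Units.ext (Matrix.toLin'.injective (b'.ext fun j => ?_))⟩
  obtain ⟨i, rfl⟩ := π.surjective j
  rw [Matrix.toLin'_apply, Matrix.toLin'_apply, hb', hπ, show b' (π i) = b.equiv b' π (b i) by rw [Basis.equiv_apply],
    hgx, hb, map_smul]

/-- An element whose square is a non-square scalar has determinant the square of the scalar. -/
theorem det_of_sq {z : F} (hz : ∀ e : F, e ^ 2 ≠ z) {x : GL (Fin 4) F}
    (hx : ((x ^ 2 : GL (Fin 4) F) : M4) = z • 1) : (x : M4).det = z * z := by
  classical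
  obtain ⟨h, c, hc, hh⟩ := Elusive.exists_root_basis hz (Matrix.toLin' (x : M4)) fun v => by
    rw [Matrix.toLin'_apply, Matrix.toLin'_apply, Matrix.mulVec_mulVec, ← Units.val_mul, ← pow_two, hx, Matrix.smul_mulVec,
      Matrix.one_mulVec]
  obtain rfl : h = 2 := by omega
  rw [← LinearMap.det_toLin', Elusive.det_monomial c (Matrix.toLin' (x : M4)) (Equiv.sumComm (Fin 2) (Fin 2))
    (Sum.elim (fun _ => 1) fun _ => z) (by
      rintro (l | l)
      · simp only [Sum.elim_inl, one_smul, Equiv.sumComm_apply, Sum.swap_inl]; exact hc l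
      · simp only [Sum.elim_inr, Equiv.sumComm_apply, Sum.swap_inr]
        rw [← hc l, Matrix.toLin'_apply, Matrix.toLin'_apply, Matrix.mulVec_mulVec, ← Units.val_mul, ← pow_two, hx,
          Matrix.smul_mulVec, Matrix.one_mulVec])]
  have hs : Equiv.Perm.sign (Equiv.sumComm (Fin 2) (Fin 2)) = 1 := by decide
  rw [hs]
  simp [Fintype.prod_sum_type, pow_two]

/-- Elements with a plane of fixed vectors acting without eigenvalues on a complement. -/
theorem exists_shape (h3 : (3 : F) ≠ 0) (hω : ∀ e : F, e * e + e + 1 ≠ 0) {x : GL (Fin 4) F}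
    (hx : x ^ 3 = 1) (hx1 : x ≠ 1) (hq : (x : M4) * x + x + 1 ≠ 0)
    (hfix : finrank F (Elusive.fixedSpace (Matrix.toLin' (x : M4))) % 2 = 0) :
    ∃ b : Basis (Fin 4) F (Fin 4 → F), (x : M4) *ᵥ b 0 = b 0 ∧ (x : M4) *ᵥ b 1 = b 1 ∧ (x : M4) *ᵥ b 2 = b 3 ∧
      (x : M4) *ᵥ b 3 = -b 2 - b 3 := by
  set T := Matrix.toLin' (x : M4) with hT
  set Q : M4 := (x : M4) * x + x + 1
  have hx3 : (x : M4) * ((x : M4) * x) = 1 := by
    rw [← Units.val_mul, ← Units.val_mul, show x * (x * x) = x ^ 3 by rw [pow_succ', pow_two], hx, Units.val_one]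
  have hQx : ((x : M4) - 1) * Q = 0 := by
    simp only [Q, sub_mul, mul_add, one_mul, mul_one, hx3]
    abel
  have hxQ : Q * ((x : M4) - 1) = 0 := by
    simp only [Q, mul_sub, add_mul, one_mul, mul_one, mul_assoc, hx3]
    abel
  have hK : finrank F (Elusive.fixedSpace T) = 2 := by
    have hle : finrank F (Elusive.fixedSpace T) ≤ 4 := (Submodule.finrank_le _).trans (le_of_eq (finrank_fin_fun F))
    have h0 : finrank F (Elusive.fixedSpace T) ≠ 0 := fun e => hq (Matrix.toLin'.injective (LinearMap.ext fun v => by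
      have h1 : Q *ᵥ v ∈ Elusive.fixedSpace T := Elusive.mem_fixedSpace.2 (by
        have := congrArg (fun X : M4 => X *ᵥ v) hQx
        simp only [sub_mul, one_mul, Matrix.sub_mulVec, Matrix.zero_mulVec, ← Matrix.mulVec_mulVec] at this
        rw [hT, Matrix.toLin'_apply]
        exact sub_eq_zero.1 this)
      rw [Submodule.finrank_eq_zero.1 e, Submodule.mem_bot] at h1
      simpa [Q, Matrix.add_mulVec] using h1))
    have h4 : finrank F (Elusive.fixedSpace T) ≠ 4 := fun e => hx1 (Units.ext (Matrix.toLin'.injective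
      (LinearMap.ext fun v => by
        rw [Matrix.toLin'_apply, Units.val_one, Matrix.toLin'_one]
        have hv : v ∈ Elusive.fixedSpace T := (Submodule.eq_top_of_finrank_eq (by rw [e, finrank_fin_fun])).symm ▸ Submodule.mem_top
        rw [← Matrix.toLin'_apply]
        exact Elusive.mem_fixedSpace.1 hv)))
    omega
  obtain ⟨u, hu⟩ : ∃ u, ((x : M4) - 1) *ᵥ u ≠ 0 := by
    by_contra hno
    push Not at hno
    refine hx1 (Units.ext (sub_eq_zero.1 (Matrix.toLin'.injective (LinearMap.ext fun v => ?_))))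
    rw [map_zero, Matrix.toLin'_apply, Units.val_one, hno]; rfl
  set w := ((x : M4) - 1) *ᵥ u
  have hw : (x : M4) *ᵥ ((x : M4) *ᵥ w) = -w - (x : M4) *ᵥ w := by
    have h1 : Q *ᵥ w = 0 := by simp only [w, Matrix.mulVec_mulVec, hxQ, Matrix.zero_mulVec]
    simp only [Q, Matrix.add_mulVec, Matrix.one_mulVec, ← Matrix.mulVec_mulVec] at h1
    linear_combination (norm := module) h1
  let kb := (finBasis F (Elusive.fixedSpace T)).reindex (finCongr hK)
  have hk : ∀ i, (x : M4) *ᵥ (kb i : Fin 4 → F) = kb i := fun i => by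
    rw [← Matrix.toLin'_apply]; exact Elusive.mem_fixedSpace.1 (kb i).2
  have hli : LinearIndependent F ![(kb 0 : Fin 4 → F), (kb 1 : Fin 4 → F), w, (x : M4) *ᵥ w] := by
    rw [Fintype.linearIndependent_iff]
    intro g hg
    simp [Fin.sum_univ_four] at hg
    have e0 := congrArg (fun v => Q *ᵥ v) hg
    simp only [Q, Matrix.add_mulVec, Matrix.one_mulVec, ← Matrix.mulVec_mulVec, Matrix.mulVec_add, Matrix.mulVec_smul, hk,
      hw, Matrix.mulVec_sub, Matrix.mulVec_neg, Matrix.mulVec_zero] at e0
    have e1 : (3 : F) • (g 0 • (kb 0 : Fin 4 → F) + g 1 • (kb 1 : Fin 4 → F)) = 0 := by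
      linear_combination (norm := module) e0
    have e2 := (smul_eq_zero.1 e1).resolve_left h3
    have e3 : g 0 • kb 0 + g 1 • kb 1 = 0 := Subtype.ext (by simpa using e2)
    have e4 := Fintype.linearIndependent_iff.1 kb.linearIndependent ![g 0, g 1] (by simpa [Fin.sum_univ_two] using e3)
    have g0 : g 0 = 0 := e4 0
    have g1 : g 1 = 0 := e4 1
    rw [g0, g1, zero_smul, zero_smul, zero_add, zero_add] at hg
    have g3 : g 3 = 0 := by
      by_contra h
      have hxw : (x : M4) *ᵥ w = (-(g 2) / g 3) • w := by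
        have := congrArg (fun v => (g 3)⁻¹ • v) hg
        simp only [smul_add, smul_smul, smul_zero, inv_mul_cancel₀ h, one_smul] at this
        rw [div_eq_inv_mul, mul_neg, neg_smul]
        linear_combination (norm := module) this
      set l := -(g 2) / g 3
      have e5 := hw
      rw [hxw, Matrix.mulVec_smul, hxw, smul_smul] at e5
      have e6 : (l * l + l + 1) • w = 0 := by linear_combination (norm := module) e5
      exact hω l ((smul_eq_zero.1 e6).resolve_right hu)
    have g2 : g 2 = 0 := by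
      rw [g3, zero_smul, add_zero] at hg
      exact (smul_eq_zero.1 hg).resolve_right hu
    intro i; fin_cases i <;> assumption
  refine ⟨basisOfLinearIndependentOfCardEqFinrank hli (by simp), ?_, ?_, ?_, ?_⟩ <;>
    simp [coe_basisOfLinearIndependentOfCardEqFinrank, hk, hw]

theorem exists_conj_shape {x y : GL (Fin 4) F} {b b' : Basis (Fin 4) F (Fin 4 → F)}
    (hb : (x : M4) *ᵥ b 0 = b 0 ∧ (x : M4) *ᵥ b 1 = b 1 ∧ (x : M4) *ᵥ b 2 = b 3 ∧ (x : M4) *ᵥ b 3 = -b 2 - b 3)
    (hb' : (y : M4) *ᵥ b' 0 = b' 0 ∧ (y : M4) *ᵥ b' 1 = b' 1 ∧ (y : M4) *ᵥ b' 2 = b' 3 ∧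
      (y : M4) *ᵥ b' 3 = -b' 2 - b' 3) : ∃ g ∈ Cfsg.Geo.specialLinear (Fin 4) F, g⁻¹ * x * g = y := by
  classical
  obtain ⟨b0, b1, b2, b3⟩ := hb
  obtain ⟨c0, c1, c2, c3⟩ := hb'
  have hadj : SimEl.Adj x := by
    intro t _
    let s : Fin 4 → F := ![t, 1, 1, 1]
    let D : Module.End F (Fin 4 → F) := b.constr F fun i => s i • b i
    have hD : ∀ i, D (b i) = s i • b ((1 : Equiv.Perm (Fin 4)) i) := fun i => b.constr_basis F _ i
    refine ⟨LinearMap.toMatrix' D, ?_, ?_⟩
    · refine Matrix.toLin'.injective (b.ext fun i => ?_)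
      simp only [Matrix.toLin'_mul, LinearMap.comp_apply, Matrix.toLin'_toMatrix', Matrix.toLin'_apply, hD, Matrix.mulVec_smul]
      fin_cases i <;> simp [b0, b1, b2, b3, hD, s]
    · rw [LinearMap.det_toMatrix', Elusive.det_monomial b D 1 s hD]
      simp [s, Fin.prod_univ_four]
  obtain ⟨g, hg, hgx⟩ := SimEl.exists_conj hadj (b.equiv b' (Equiv.refl _))
  refine ⟨g, hg, Units.ext (Matrix.toLin'.injective (b'.ext fun j => ?_))⟩
  have hφ : ∀ i, b.equiv b' (Equiv.refl _) (b i) = b' i := fun i => by rw [Basis.equiv_apply]; rfl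
  rw [Matrix.toLin'_apply, Matrix.toLin'_apply, ← hφ j, hgx]
  fin_cases j <;> simp [b0, b1, b2, b3, c0, c1, c2, c3, hφ]

theorem exists_conj_quad (h2 : (2 : F) ≠ 0) (hω : ∀ e : F, e * e + e + 1 ≠ 0) {x y : GL (Fin 4) F}
    (hx : (x : M4) * x + x + 1 = 0) (hy : (y : M4) * y + y + 1 = 0) :
    ∃ g ∈ Cfsg.Geo.specialLinear (Fin 4) F, g⁻¹ * x * g = y := by
  have hns : ∀ e : F, e ^ 2 ≠ (-3 : F) := fun e he => by
    refine hω ((-1 + e) / 2) ?_
    field_simp
    linear_combination he
  let U : M4 → Module.End F (Fin 4 → F) := fun X => Matrix.toLin' ((2 : F) • X + 1)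
  have hU : ∀ X : M4, X * X + X + 1 = 0 → ∀ v, U X (U X v) = (-3 : F) • v := fun X hX v => by
    simp only [U, Matrix.toLin'_apply, Matrix.mulVec_mulVec]
    have e : ((2 : F) • X + 1) * ((2 : F) • X + 1) = (-3 : F) • 1 := by
      simp only [add_mul, mul_add, smul_mul_assoc, mul_smul_comm, one_mul, mul_one, smul_smul]
      linear_combination (norm := module) (4 : F) • hX
    rw [e, Matrix.smul_mulVec, Matrix.one_mulVec]
  obtain ⟨P, hP⟩ := Elusive.exists_conj_root hns (by norm_num : 0 < 4) (U x) (U y) (hU _ hx) (hU _ hy)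
  refine ⟨Matrix.SpecialLinearGroup.toGL P, Units.ext P.det_coe, ?_⟩
  rw [mul_assoc, inv_mul_eq_iff_eq_mul]
  refine Units.ext (Matrix.toLin'.injective (LinearMap.ext fun v => ?_))
  have h := hP v
  simp only [U, Matrix.toLin'_apply, Matrix.add_mulVec, Matrix.one_mulVec, Matrix.smul_mulVec, Matrix.mulVec_add,
    Matrix.mulVec_smul] at h
  simp only [Units.val_mul, Matrix.toLin'_apply, ← Matrix.mulVec_mulVec]
  exact smul_right_injective _ h2 (add_right_cancel h)

end Fintype

set_option maxHeartbeats 4000000 in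
/-- Elements of prime order of PSL_4(p), p ≡ 1 (mod 4), and the normalizer of a 2-group of symplectic type of order 2⁶. Here `T = PSL_4(F)` for the field `F` with `p` elements, `p` a prime with `p ≡ 1 (mod 4)`; `R` is an absolutely irreducible subgroup of GL_4(F) of order 2⁶ that is a 2-group of symplectic type of exponent 4 with centre of order 4 (the central product of the scalars of order 4 with an extraspecial group 2^{1+4}), and `H` is the subgroup of matrices of determinant 1 normalizing `R` — a subgroup of type 2⁴.Sp₄(2) (maximality is not assumed). Ω is the set of cosets of `H` in `T`, so an element of `T` of prime order `r` (a matrix `x` of determinant 1 with `x^r` scalar, `x` not scalar) fixes a point of Ω exactly when some conjugate of `x` by a matrix of determinant 1 normalizes `R`. Let `r` be a prime dividing the index of `H`. Then every element of `T` of order `r` fixes a point of Ω if and only if `r = 2`, or `r = 3` and `p ≡ 2 (mod 3)`, or `r = 5` and `p ≡ ±2 (mod 5)` (`p` has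 multiplicative order 4 modulo 5). -/
theorem result {F : Type*} [Field F] [Fintype F] {p : ℕ} [Fact p.Prime] [CharP F p] (hF : Fintype.card F = p) (hp4 : p % 4 = 1)
    (R : Subgroup (GL (Fin 4) F)) (hR : Cfsg.Geo.IsLinearSymplecticTypeData 2 R) (hR6 : Nat.card R = 2 ^ 6)
    (r : ℕ) [Fact r.Prime]
    (hΩ : r ∣ (Cfsg.Geo.subgroupNormalizer R).relIndex (Cfsg.Geo.specialLinear (Fin 4) F)) :
    (∀ x ∈ Cfsg.Geo.specialLinear (Fin 4) F, (∃ z : F, ((x ^ r : GL (Fin 4) F) : Matrix (Fin 4) (Fin 4) F) = z • (1 : Matrix (Fin 4) (Fin 4) F)) →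
      (∀ z : F, (x : Matrix (Fin 4) (Fin 4) F) ≠ z • (1 : Matrix (Fin 4) (Fin 4) F)) →
      ∃ g ∈ Cfsg.Geo.specialLinear (Fin 4) F, g⁻¹ * x * g ∈ Cfsg.Geo.subgroupNormalizer R) ↔ (r = 2 ∨ (r = 3 ∧ p % 3 = 2) ∨ (r = 5 ∧ orderOf (p : ZMod 5) = 4)) := by
  classical
  have hp : p.Prime := Fact.out
  have hr : r.Prime := Fact.out
  have cast0 : ∀ m : ℕ, m.Prime → p ≠ m → (m : F) ≠ 0 := fun m hm hne e =>
    hne ((Nat.prime_dvd_prime_iff_eq hp hm).1 ((CharP.cast_eq_zero_iff F p m).1 e))
  have h2 : (2 : F) ≠ 0 := by exact_mod_cast cast0 2 Nat.prime_two (fun e => by omega)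
  have h3 : (3 : F) ≠ 0 := by exact_mod_cast cast0 3 Nat.prime_three (fun e => by omega)
  have hRZ : Nat.card (Subgroup.center R) = 4 := by
    obtain ⟨p', e, -, -, h | h | h⟩ := hR.field
    · exact absurd h.1 (by decide)
    · exact h.2.2.1
    · have := h.2.2.1
      simp at this
  have hP : IsPauli R := isPauli_of h2 (by simp) hR.symplecticType hR.absIrred (by rw [hR6, hRZ]; norm_num)
  have hex : Monoid.exponent R = 4 := by rw [hR.symplecticType.exponent_eq]; norm_num
  obtain ⟨i, c, A, B, C, D, hrich⟩ := hP.exists_rich hex hRZ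
  have hRN : R ≤ Cfsg.Geo.subgroupNormalizer R := Subgroup.le_normalizer
  have det1 : ∀ {w : GL (Fin 4) F}, w ∈ Cfsg.Geo.specialLinear (Fin 4) F →
      (w : Matrix (Fin 4) (Fin 4) F).det = 1 := fun hw => congrArg Units.val hw
  have z4 : ∀ {w : GL (Fin 4) F}, w ∈ Cfsg.Geo.specialLinear (Fin 4) F → ∀ {n : ℕ} {z : F},
      ((w ^ n : GL (Fin 4) F) : Matrix (Fin 4) (Fin 4) F) = z • 1 → z ^ 4 = 1 := fun {w} hw {n z} e => by
    have h := det1 (pow_mem hw n)
    rwa [e, Matrix.det_smul, Matrix.det_one, mul_one, Fintype.card_fin] at h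
  have conjpow : ∀ {g x : GL (Fin 4) F} {n : ℕ}, x ^ n = 1 → (g⁻¹ * x * g) ^ n = 1 := fun {g x n} e => by
    have := conj_pow (a := g⁻¹) (b := x) (i := n)
    rw [inv_inv] at this
    rw [this, e, mul_one, inv_mul_cancel]
  have conjns : ∀ {g x : GL (Fin 4) F}, (∀ z : F, (x : Matrix (Fin 4) (Fin 4) F) ≠ z • 1) →
      ∀ z : F, ((g⁻¹ * x * g : GL (Fin 4) F) : Matrix (Fin 4) (Fin 4) F) ≠ z • 1 := fun {g x} hx z hz => hx z (by
    rw [show x = g * (g⁻¹ * x * g) * g⁻¹ by group, Units.val_mul, Units.val_mul g, hz, mul_smul_comm, mul_one,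
      smul_mul_assoc, Units.mul_inv])
  constructor
  · intro hall
    by_contra hno
    push Not at hno
    obtain ⟨hr2, hno3, hno5⟩ := hno
    by_cases hrp : r = p
    · subst hrp
      let v₀ : Fin 4 → F := Pi.single 0 1
      let φ : Fin 4 → F := Pi.single 1 1
      have hnil : Matrix.vecMulVec v₀ φ * Matrix.vecMulVec v₀ φ = 0 := by
        rw [Matrix.vecMulVec_mul_vecMulVec]; simp [v₀, φ]
      have hne : Matrix.vecMulVec v₀ φ ≠ 0 := fun e => by
        have := congrFun (congrFun e 0) 1
        simp [v₀, φ, Matrix.vecMulVec_apply] at this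
      let x : GL (Fin 4) F := ⟨1 + Matrix.vecMulVec v₀ φ, 1 - Matrix.vecMulVec v₀ φ,
        by rw [add_mul, one_mul, mul_sub, mul_one, hnil, sub_zero, sub_add_cancel],
        by rw [sub_mul, one_mul, mul_add, mul_one, hnil, add_zero, add_sub_cancel_right]⟩
      have hxN : (x : Matrix (Fin 4) (Fin 4) F) = 1 + Matrix.vecMulVec v₀ φ := rfl
      have hxd : x ∈ Cfsg.Geo.specialLinear (Fin 4) F := Units.ext (by
        show (1 + Matrix.vecMulVec v₀ φ).det = 1
        rw [show Matrix.vecMulVec v₀ φ = Matrix.single 0 1 1 from (Matrix.single_eq_single_vecMulVec_single _ _).symm]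
        exact Matrix.det_transvection_of_ne 0 1 (by decide) 1)
      obtain ⟨g, hg, hgH⟩ := hall x hxd ⟨1, by
          have hk : ∀ k : ℕ, ((x ^ k : GL (Fin 4) F) : Matrix (Fin 4) (Fin 4) F) =
              1 + (k : F) • Matrix.vecMulVec v₀ φ := by
            intro k
            induction k with
            | zero => simp
            | succ k ih =>
              rw [pow_succ, Units.val_mul, ih, hxN, add_mul, one_mul, smul_mul_assoc, mul_add, mul_one, hnil, add_zero,
                Nat.cast_succ, add_smul, one_smul]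
              abel
          rw [hk, CharP.cast_eq_zero, zero_smul, add_zero, one_smul]⟩
        (fun z hz => by
          rw [hxN] at hz
          have := congrFun (congrFun hz 0) 1
          simp [v₀, φ, Matrix.vecMulVec_apply] at this)
      refine hP.false_of_transvection hgH hr2 (((g⁻¹ : GL (Fin 4) F) : Matrix (Fin 4) (Fin 4) F) *ᵥ v₀)
        (φ ᵥ* (g : Matrix (Fin 4) (Fin 4) F)) ?_ ?_ ?_
      all_goals rw [← Matrix.vecMulVec_mul, ← Matrix.mul_vecMulVec]
      · rw [Units.val_mul, Units.val_mul, hxN]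
        simp [mul_add, add_mul]
      · simp only [mul_assoc]
        rw [← mul_assoc (g : Matrix (Fin 4) (Fin 4) F), Units.mul_inv, one_mul, ← mul_assoc (Matrix.vecMulVec v₀ φ), hnil,
          zero_mul, mul_zero]
      · intro e
        have := congrArg (fun X : Matrix (Fin 4) (Fin 4) F => (g : Matrix (Fin 4) (Fin 4) F) * X *
          ((g⁻¹ : GL (Fin 4) F) : Matrix (Fin 4) (Fin 4) F)) e
        simp only [mul_assoc, mul_zero, zero_mul, Units.mul_inv, mul_one, Units.mul_inv_cancel_left] at this
        exact hne this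
    by_cases h53 : r = 3 ∨ r = 5
    · obtain ⟨x, hx, hxr, hns, T, T', htr, htr', hT⟩ : ∃ x ∈ Cfsg.Geo.specialLinear (Fin 4) F, x ^ r = 1 ∧
          (∀ z : F, (x : Matrix (Fin 4) (Fin 4) F) ≠ z • 1) ∧ ∃ T T' : F, Matrix.trace (x : Matrix (Fin 4) (Fin 4) F) = T ∧
            Matrix.trace ((x⁻¹ : GL (Fin 4) F) : Matrix (Fin 4) (Fin 4) F) = T' ∧
              T * T' ≠ 1 ∧ (r = 3 → T * T' ≠ 4) := by
        rcases h53 with rfl | rfl
        · have hp3 : p % 3 = 1 := by
            have := hno3 rfl
            have h0 : p % 3 ≠ 0 := fun e => hrp ((Nat.prime_dvd_prime_iff_eq Nat.prime_three hp).1 (Nat.dvd_of_mod_eq_zero e))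
            omega
          obtain ⟨ω₀, hω₀⟩ := exists_prime_orderOf_dvd_card' (G := Fˣ) 3 (by
            rw [Nat.card_units, Nat.card_eq_fintype_card, hF]; omega)
          set ω : F := (ω₀ : F)
          have hω3 : ω ^ 3 = 1 := by rw [← Units.val_pow_eq_pow_val, ← hω₀, pow_orderOf_eq_one, Units.val_one]
          have hω1 : ω ≠ 1 := fun e => by
            rw [show ω₀ = 1 from Units.ext e, orderOf_one] at hω₀
            omega
          have hω : ω * ω + ω + 1 = 0 := by
            refine (mul_eq_zero.1 (show (ω - 1) * (ω * ω + ω + 1) = 0 by linear_combination hω3)).resolve_left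
              (sub_ne_zero.2 hω1)
          let x : GL (Fin 4) F := ⟨Matrix.diagonal ![ω, ω, ω, 1], Matrix.diagonal ![ω * ω, ω * ω, ω * ω, 1],
            by rw [Matrix.diagonal_mul_diagonal, ← Matrix.diagonal_one]; congr 1; funext j
               fin_cases j <;> simp <;> linear_combination hω3,
            by rw [Matrix.diagonal_mul_diagonal, ← Matrix.diagonal_one]; congr 1; funext j
               fin_cases j <;> simp <;> linear_combination hω3⟩
          refine ⟨x, Units.ext ?_, Units.ext ?_, fun z hz => ?_, 3 * ω + 1, 3 * (ω * ω) + 1, ?_, ?_, ?_, fun _ => ?_⟩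
          · show (Matrix.diagonal ![ω, ω, ω, 1]).det = 1
            simp [Matrix.det_diagonal, Fin.prod_univ_four]
            linear_combination hω3
          · rw [Units.val_pow_eq_pow_val, Units.val_one]
            show Matrix.diagonal ![ω, ω, ω, 1] ^ 3 = 1
            rw [Matrix.diagonal_pow, ← Matrix.diagonal_one]; congr 1; funext j
            fin_cases j <;> simp [hω3]
          · have e : Matrix.diagonal ![ω, ω, ω, 1] = z • (1 : Matrix (Fin 4) (Fin 4) F) := hz
            rw [Matrix.smul_one_eq_diagonal, Matrix.diagonal_eq_diagonal_iff] at e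
            exact hω1 ((e 0).trans (e 3).symm)
          · show Matrix.trace (Matrix.diagonal ![ω, ω, ω, 1]) = _
            simp [Matrix.trace_diagonal, Fin.sum_univ_four]; ring
          · show Matrix.trace (Matrix.diagonal ![ω * ω, ω * ω, ω * ω, 1]) = _
            simp [Matrix.trace_diagonal, Fin.sum_univ_four]; ring
          · intro e
            exact mul_ne_zero h2 h3 (by linear_combination e - 9 * hω3 - 3 * hω)
          · intro e
            exact h3 (by linear_combination e - 9 * hω3 - 3 * hω)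
        · obtain ⟨t, ht, -⟩ := exists_golden (F := F) (p := p) (fun e => by omega) (fun e => hrp e.symm) (hno5 rfl)
          obtain ⟨x, hx, hxr, htr, htr', hns⟩ := exists_witness ht
          have h5 : (5 : F) ≠ 0 := by exact_mod_cast cast0 5 (by norm_num) (fun e => hrp e.symm)
          refine ⟨x, hx, hxr, hns, _, _, htr, htr', fun e => ?_, fun h => absurd h (by norm_num)⟩
          have ht' : 3 * t + 4 = 0 := by linear_combination e - ht
          exact h5 (by linear_combination (3 * t - 1) * ht' - 9 * ht)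
      obtain ⟨g, hg, hgH⟩ := hall x hx ⟨1, by rw [hxr, Units.val_one, one_smul]⟩ hns
      have hyr : (((g⁻¹ * x * g) ^ r : GL (Fin 4) F) : Matrix (Fin 4) (Fin 4) F) = (1 : F) • 1 := by
        rw [conjpow hxr, Units.val_one, one_smul]
      have htrace := hP.trace_mul_trace hgH (hr.odd_of_ne_two hr2) hyr
      rw [show (g⁻¹ * x * g)⁻¹ = g⁻¹ * x⁻¹ * g by group, Units.val_mul, Units.val_mul, Units.val_mul, Units.val_mul,
        Matrix.trace_units_conj', Matrix.trace_units_conj', htr, htr'] at htrace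
      rcases hP.fixed_cases hgH (conjns hns) hr2 hyr with ⟨h, hC | hC⟩ | ⟨h, hC⟩ <;> rw [hC] at htrace <;>
        norm_num at htrace
      · exact hT.1 htrace
      · exact hT.2 h htrace
      · exact hT.1 htrace
    obtain ⟨⟨x, hx⟩, hxo⟩ := exists_prime_orderOf_dvd_card' (G := Cfsg.Geo.specialLinear (Fin 4) F) r
      (hΩ.trans (Subgroup.relIndex_dvd_card _ _))
    have hxr : x ^ r = 1 := by
      have := congrArg Subtype.val (pow_orderOf_eq_one (⟨x, hx⟩ : Cfsg.Geo.specialLinear (Fin 4) F))
      rw [hxo] at this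
      exact this
    have hxn : ∀ z : F, (x : Matrix (Fin 4) (Fin 4) F) ≠ z • 1 := fun z hz => by
      have h4 : z ^ 4 = 1 := z4 hx (n := 1) (by rw [pow_one]; exact hz)
      have hx4 : x ^ 4 = 1 := Units.ext (by
        rw [Units.val_pow_eq_pow_val, hz, smul_pow, one_pow, h4, one_smul, Units.val_one])
      have hd : orderOf x ∣ 2 ^ 2 := orderOf_dvd_of_pow_eq_one (by norm_num [hx4])
      rw [show orderOf x = r by rw [← hxo]; exact (Subgroup.orderOf_mk x hx).symm] at hd
      exact hr2 ((Nat.prime_dvd_prime_iff_eq hr Nat.prime_two).1 (hr.dvd_of_dvd_pow hd))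
    obtain ⟨g, hg, hgH⟩ := hall x hx ⟨1, by rw [hxr, Units.val_one, one_smul]⟩ hxn
    rcases hP.fixed_cases hgH (conjns hxn) hr2 (c := 1) (by rw [conjpow hxr, Units.val_one, one_smul]) with ⟨h, -⟩ | ⟨h, -⟩
    · exact h53 (Or.inl h)
    · exact h53 (Or.inr h)
  · intro hcrit x hx hz hns
    obtain ⟨z, hz⟩ := hz
    have hz4 : z ^ 4 = 1 := z4 hx hz
    rcases hcrit with rfl | ⟨rfl, hp3⟩ | ⟨rfl, ho⟩
    · by_cases hl : ∃ l : F, l ^ 2 = z
      · obtain ⟨l, rfl⟩ := hl
        have hl0 : l ≠ 0 := fun e => by simp [e] at hz4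
        let X : GL (Fin 4) F := (Units.mk0 l⁻¹ (inv_ne_zero hl0)) • x
        have hXv : (X : Matrix (Fin 4) (Fin 4) F) = l⁻¹ • (x : Matrix (Fin 4) (Fin 4) F) := rfl
        have hXX : X * X = 1 := Units.ext (by
          rw [Units.val_mul, hXv, smul_mul_assoc, mul_smul_comm, ← Units.val_mul, ← pow_two, hz, smul_smul, smul_smul,
            Units.val_one, show l⁻¹ * l⁻¹ * l ^ 2 = 1 by field_simp, one_smul])
        obtain ⟨b, s, hb, htrX, hdetX⟩ := invol_data h2 hXX
        rw [hXv, Matrix.det_smul, det1 hx, mul_one, Fintype.card_fin] at hdetX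
        set k := (Finset.univ.filter fun i => s i = true).card with hk
        have hk4 : k ≤ 4 := (Finset.card_filter_le _ _).trans (by simp)
        have hk0 : k ≠ 0 ∧ k ≠ 4 := by
          have hall : ∀ v : F, (∀ i, (sg (s i) : F) = v) → False := fun v hv => hns (l * v) (by
            have e : (X : Matrix (Fin 4) (Fin 4) F) = v • 1 := Matrix.toLin'.injective (b.ext fun i => by
              rw [Matrix.toLin'_apply, hb, hv, map_smul, Matrix.toLin'_one]; rfl)
            rw [hXv] at e
            rw [← smul_smul, ← e, smul_inv_smul₀ hl0])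
          constructor
          · intro e
            refine hall 1 fun i => ?_
            have : s i = false := by
              by_contra h
              rw [Bool.not_eq_false] at h
              have h0 : (Finset.univ.filter fun i => s i = true).card ≠ 0 := Finset.card_ne_zero.2 ⟨i, by simp [h]⟩
              exact h0 e
            simp [this, sg]
          · intro e
            refine hall (-1) fun i => ?_
            have h4 : (Finset.univ.filter fun i => s i = true) = Finset.univ :=
              Finset.eq_univ_of_card _ (by rw [← hk, e]; simp)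
            have : s i = true := by
              have hi := Finset.mem_univ i
              rw [← h4, Finset.mem_filter] at hi
              exact hi.2
            simp [this, sg]
        obtain ⟨Y, hYN, hY2, hYt⟩ : ∃ Y ∈ Cfsg.Geo.subgroupNormalizer R, Y * Y = 1 ∧
            Matrix.trace (X : Matrix (Fin 4) (Fin 4) F) = Matrix.trace (Y : Matrix (Fin 4) (Fin 4) F) := by
          by_cases hk2 : k = 2
          · refine ⟨A, hRN hrich.mA, Units.ext (by rw [Units.val_mul, hrich.sA, Units.val_one]), ?_⟩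
            rw [htrX, hk2, hP.trace_eq_zero hrich.mA (fun u hu => ?_)]
            · norm_num
            have e := hrich.ab
            rw [hu, mul_smul_comm, mul_one, smul_mul_assoc, one_mul] at e
            have h0 : (2 * u) • (B : Matrix (Fin 4) (Fin 4) F) = 0 := by
              rw [mul_smul, two_smul]; exact eq_neg_iff_add_eq_zero.1 e
            rcases smul_eq_zero.1 h0 with e0 | e0
            · exact A.ne_zero (by rw [hu, (mul_eq_zero.1 e0).resolve_left h2, zero_smul])
            · exact B.ne_zero e0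
          obtain ⟨y, -, hy2, hyt, hyN⟩ := hrich.exists_refl hP
          rcases (show k = 1 ∨ k = 3 by omega) with e | e
          · exact ⟨y, hyN, hy2, by rw [htrX, e, hyt]; norm_num⟩
          · refine ⟨-y, mem_normalizer_smul hyN (c := -1) (by rw [Units.val_neg, neg_one_smul]), by rw [neg_mul_neg, hy2], ?_⟩
            rw [htrX, e, Units.val_neg, Matrix.trace_neg, hyt]; norm_num
        obtain ⟨g, hg, hgX⟩ := exists_conj_invol h2 h3 hXX hY2 hYt
        refine ⟨g, hg, mem_normalizer_smul (y := Y) hYN (c := l) ?_⟩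
        rw [← hgX, Units.val_mul, Units.val_mul, Units.val_mul, Units.val_mul, hXv, mul_smul_comm, smul_mul_assoc,
          smul_inv_smul₀ hl0]
      · exfalso
        push Not at hl
        have h := det_of_sq hl hz
        rw [det1 hx] at h
        rcases mul_self_eq_one_iff.1 h.symm with rfl | rfl
        · exact hl 1 (one_pow 2)
        · obtain ⟨l, hl'⟩ := FiniteField.isSquare_neg_one_iff.2 (show Fintype.card F % 4 ≠ 3 by omega)
          exact hl l (by rw [pow_two, ← hl'])
    · have hz0 : z ≠ 0 := fun e => by simp [e] at hz4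
      have hx4 : ((x ^ 4 : GL (Fin 4) F) : Matrix (Fin 4) (Fin 4) F) = z • (x : Matrix (Fin 4) (Fin 4) F) := by
        rw [pow_succ x 3, Units.val_mul, hz, smul_mul_assoc, one_mul]
      have hx43 : (x ^ 4) ^ 3 = 1 := Units.ext (by
        rw [← pow_mul, show 4 * 3 = 3 * 4 from rfl, pow_mul, Units.val_pow_eq_pow_val, hz, smul_pow, one_pow, hz4,
          one_smul, Units.val_one])
      have hx41 : x ^ 4 ≠ 1 := fun e => hns z⁻¹ (by
        rw [e, Units.val_one] at hx4
        rw [hx4, inv_smul_smul₀ hz0])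
      have hω : ∀ e : F, e * e + e + 1 ≠ 0 := fun e he => by
        have e3 : e ^ 3 = 1 := by linear_combination (e - 1) * he
        have e0 : e ≠ 0 := fun h => by simp [h] at he
        have hd : orderOf (Units.mk0 e e0) ∣ Fintype.card Fˣ := orderOf_dvd_card
        rw [orderOf_eq_prime (p := 3) (Units.ext (by simpa using e3)) (fun h => h3 (by
          have h1 : e = 1 := congrArg Units.val h
          rw [h1] at he
          linear_combination he)), Fintype.card_units, hF] at hd
        omega
      have ho : orderOf (Fintype.card F : ZMod 3) = 2 := by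
        rw [hF, ← ZMod.natCast_mod, hp3]
        exact orderOf_eq_prime rfl fun h => absurd (congrArg ZMod.val h) (by rw [ZMod.val_natCast, ZMod.val_one]; norm_num)
      have par : ∀ w : GL (Fin 4) F, w ^ 3 = 1 →
          finrank F (Elusive.fixedSpace (Matrix.toLin' (w : Matrix (Fin 4) (Fin 4) F))) % 2 = 0 := fun w hw => by
        have h := Elusive.finrank_mod_orderOf (B := Matrix.toLin' (w : Matrix (Fin 4) (Fin 4) F)) (r := 3) (by
          rw [← Matrix.toLin'_pow, ← Units.val_pow_eq_pow_val, hw, Units.val_one, Matrix.toLin'_one]; rfl)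
          (by exact_mod_cast h3) (X := ⊤) le_top
        rw [top_inf_eq, finrank_top, finrank_fin_fun, ho] at h
        omega
      obtain ⟨f₁, f₂, hf₁, hq₁, -, hf₂, hq₂, hf₂3, hf₂1, -⟩ := hrich.exists_threes hP h3
      obtain ⟨g, hg, hgH⟩ : ∃ g ∈ Cfsg.Geo.specialLinear (Fin 4) F, g⁻¹ * x ^ 4 * g ∈ Cfsg.Geo.subgroupNormalizer R := by
        by_cases hq : ((x ^ 4 : GL (Fin 4) F) : Matrix (Fin 4) (Fin 4) F) * (x ^ 4 : GL (Fin 4) F) + (x ^ 4 : GL (Fin 4) F) + 1 = 0
        · obtain ⟨g, hg, e⟩ := exists_conj_quad h2 hω hq hq₁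
          exact ⟨g, hg, e ▸ hf₁⟩
        · obtain ⟨b, hb⟩ := exists_shape h3 hω hx43 hx41 hq (par _ hx43)
          obtain ⟨b', hb'⟩ := exists_shape h3 hω hf₂3 hf₂1 hq₂ (par _ hf₂3)
          obtain ⟨g, hg, e⟩ := exists_conj_shape hb hb'
          exact ⟨g, hg, e ▸ hf₂⟩
      refine ⟨g, hg, mem_normalizer_smul hgH (c := z⁻¹) ?_⟩
      simp only [Units.val_mul, hx4, mul_smul_comm, smul_mul_assoc, inv_smul_smul₀ hz0]
    · have hp5 : p ≠ 5 := fun e => by
        subst e
        rw [ZMod.natCast_self, orderOf_zero] at ho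
        norm_num at ho
      have hz0 : z ≠ 0 := fun e => by simp [e] at hz4
      obtain ⟨g₀, -, -, hN, h5, hne, hd⟩ := hrich.gamma.exists_five hP
      have hx16 : ((x ^ 16 : GL (Fin 4) F) : Matrix (Fin 4) (Fin 4) F) = z ^ 3 • (x : Matrix (Fin 4) (Fin 4) F) := by
        rw [show (16 : ℕ) = 5 * 3 + 1 from rfl, pow_succ, pow_mul, Units.val_mul, Units.val_pow_eq_pow_val, hz, smul_pow,
          one_pow, smul_mul_assoc, one_mul]
      have hx165 : (x ^ 16) ^ 5 = 1 := Units.ext (by
        rw [← pow_mul, show 16 * 5 = 5 * (4 * 4) from rfl, pow_mul, Units.val_pow_eq_pow_val, hz, smul_pow, one_pow,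
          pow_mul, hz4, one_pow, one_smul, Units.val_one])
      have hx161 : x ^ 16 ≠ 1 := fun e => hns (z ^ 3)⁻¹ (by
        rw [e, Units.val_one] at hx16
        rw [hx16, inv_smul_smul₀ (pow_ne_zero _ hz0)])
      obtain ⟨g, hg, hgH⟩ := exists_conj_of_zpowers (K := Cfsg.Geo.specialLinear (Fin 4) F)
        (H := Cfsg.Geo.subgroupNormalizer R) (fun u _ v _ hu hu1 hv huv =>
          exists_pow_eq (p := p) (r := 5) hp5.symm (by rw [hF, ho]; simp) hu hu1 hv huv)
        (pow_mem hx 16) hx165 hx161 (y := g₀ ^ 16) (Units.ext hd) h5 hne hN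
      refine ⟨g, hg, mem_normalizer_smul hgH (c := (z ^ 3)⁻¹) ?_⟩
      simp only [Units.val_mul, hx16, mul_smul_comm, smul_mul_assoc, inv_smul_smul₀ (pow_ne_zero _ hz0)]

end Cfsg.Agent.S6000
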