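import Cfsg.Agent.S6000
import Cfsg.Agent.Lib.FormCentral.SUConj
import Cfsg.Prelude.Def_LieClassical
-- import your own Cfsg.Agent.* helpers here

set_option autoImplicit false
open scoped MatrixGroups
open Cfsg

namespace Cfsg.Agent.S6001

open Cfsg.Agent Cfsg.Agent.Pauli Module
open scoped Matrix

variable {F : Type*} [Field F]

local notation "M4" => Matrix (Fin 4) (Fin 4) F

/-- The conjugate transpose. -/
def st (σ : F →+* F) (X : M4) : M4 := (X.map σ)ᵀ

theorem st_mul (σ : F →+* F) (X Y : M4) : st σ (X * Y) = st σ Y * st σ X := by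
  simp only [st, Matrix.map_mul, Matrix.transpose_mul]

theorem st_add (σ : F →+* F) (X Y : M4) : st σ (X + Y) = st σ X + st σ Y := by
  ext i j; simp [st]

theorem st_sub (σ : F →+* F) (X Y : M4) : st σ (X - Y) = st σ X - st σ Y := by
  ext i j; simp [st]

theorem st_neg (σ : F →+* F) (X : M4) : st σ (-X) = -st σ X := by
  ext i j; simp [st]

theorem st_smul (σ : F →+* F) (c : F) (X : M4) : st σ (c • X) = σ c • st σ X := by
  ext i j; simp [st]

theorem st_one (σ : F →+* F) : st σ (1 : M4) = 1 := by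
  simp [st]

theorem trace_st (σ : F →+* F) (X : M4) : Matrix.trace (st σ X) = σ (Matrix.trace X) := by
  simp [st, Matrix.trace]

variable {p : ℕ} {σ : F →+* F}

theorem st_st (hσσ : ∀ x, σ (σ x) = x) (X : M4) : st σ (st σ X) = X := by
  ext i j; simp [st, hσσ]

theorem mem_GU_iff_st (hp : p ≠ 0) (hσ : ∀ x, σ x = x ^ p) (hσσ : ∀ x, σ (σ x) = x) {g : GL (Fin 4) F} :
    g ∈ Cfsg.GU 4 F p ↔ st σ (g : M4) * (g : M4) = 1 := by
  have hdot : ∀ u v : Fin 4 → F, Cfsg.hermForm 4 F p u v = u ⬝ᵥ (fun i => σ (v i)) := fun u v => by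
    simp [Cfsg.hermForm, dotProduct, hσ]
  have key : (g : M4)ᵀ * (g : M4).map σ = 1 ↔ st σ (g : M4) * (g : M4) = 1 := by
    have e : st σ ((g : M4)ᵀ * (g : M4).map σ) = st σ ((g : M4).map σ) * st σ (g : M4)ᵀ := st_mul σ _ _
    have e1 : st σ ((g : M4).map σ) = (g : M4)ᵀ := by ext i j; simp [st, hσσ]
    constructor <;> intro h
    · have h' := congrArg (fun X : M4 => (X.map σ)) h
      simp only [Matrix.map_mul, Matrix.map_one σ (map_zero σ) (map_one σ)] at h'
      have e2 : ((g : M4).map σ).map σ = (g : M4) := by ext i j; simp [hσσ]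
      have e3 : ((g : M4)ᵀ).map σ = st σ (g : M4) := Matrix.transpose_map
      rwa [e2, e3] at h'
    · have h' := congrArg (fun X : M4 => (X.map σ)) h
      simp only [Matrix.map_mul, Matrix.map_one σ (map_zero σ) (map_one σ)] at h'
      have e2 : (st σ (g : M4)).map σ = (g : M4)ᵀ := by ext i j; simp [st, hσσ]
      rwa [e2] at h'
  rw [← key]
  show (∀ u v, Cfsg.hermForm 4 F p ((g : M4) *ᵥ u) ((g : M4) *ᵥ v) = Cfsg.hermForm 4 F p u v) ↔ _
  constructor
  · intro h
    ext i j
    have := h (Pi.single i 1) (Pi.single j 1)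
    rw [Matrix.mulVec_single_one, Matrix.mulVec_single_one, hdot, hdot] at this
    simp only [Matrix.mul_apply, Matrix.transpose_apply, Matrix.map_apply]
    refine this.trans ?_
    rcases eq_or_ne i j with rfl | hij
    · simp
    · simp [Matrix.one_apply_ne hij, hij]
  · intro h u v
    rw [hdot, hdot]
    rw [show (fun i => σ (((g : M4) *ᵥ v) i)) = (g : M4).map σ *ᵥ fun i => σ (v i) from funext fun i =>
      RingHom.map_mulVec σ (g : M4) v i]
    conv_rhs => rw [← Matrix.one_mulVec (fun i => σ (v i)), ← h]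
    rw [← Matrix.mulVec_mulVec, Matrix.dotProduct_mulVec u (g : M4)ᵀ, Matrix.vecMul_transpose]

theorem st_eq_inv {g : GL (Fin 4) F} (h : st σ (g : M4) * (g : M4) = 1) :
    st σ (g : M4) = ((g⁻¹ : GL (Fin 4) F) : M4) := by
  have := congrArg (fun X : M4 => X * ((g⁻¹ : GL (Fin 4) F) : M4)) h
  simpa [mul_assoc] using this

theorem st_of_invol {g : GL (Fin 4) F} (h : st σ (g : M4) * (g : M4) = 1) (hg : (g : M4) * g = 1) :
    st σ (g : M4) = (g : M4) := by
  have := congrArg (fun X : M4 => X * (g : M4)) h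
  simpa [mul_assoc, hg] using this

section Fintype

variable [Fintype F]

/-- Elements of the unitary group similar in the general linear group are conjugate in the special one. -/
theorem exists_conj_su (hF : Fintype.card F = p ^ 2) {x y P : GL (Fin 4) F}
    (hx : x ∈ Cfsg.GU 4 F p ⊓ Cfsg.Geo.specialLinear (Fin 4) F) (hy : y ∈ Cfsg.GU 4 F p) (hP : P * x = y * P) {n : ℕ}
    (hn : (n : F) ≠ 0) {c : F} (hc : c ≠ 0) (hxn : ((x ^ n : GL (Fin 4) F) : M4) = c • 1) :
    ∃ g ∈ Cfsg.GU 4 F p ⊓ Cfsg.Geo.specialLinear (Fin 4) F, g⁻¹ * x * g = y := by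
  have hdx : (x : M4).det = 1 := congrArg Units.val hx.2
  have hdy : (y : M4).det = 1 := by
    have h := congrArg (fun w : GL (Fin 4) F => (w : M4).det) hP
    simp only [Units.val_mul, Matrix.det_mul, hdx, mul_one] at h
    exact (mul_eq_right₀ ((Matrix.isUnit_iff_isUnit_det _).1 P.isUnit).ne_zero).1 h.symm
  let s : ↥(Cfsg.SU 4 F p) := ⟨⟨(x : M4), hdx⟩, hx.1⟩
  let t : ↥(Cfsg.SU 4 F p) := ⟨⟨(y : M4), hdy⟩, hy⟩
  have es : Matrix.SpecialLinearGroup.toGL (s : Matrix.SpecialLinearGroup (Fin 4) F) = x := Units.ext rfl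
  have et : Matrix.SpecialLinearGroup.toGL (t : Matrix.SpecialLinearGroup (Fin 4) F) = y := Units.ext rfl
  have hss : Module.End.IsSemisimple (Matrix.toLinAlgEquiv' (x : M4)) := by
    refine Module.End.isSemisimple_of_squarefree_aeval_eq_zero
      (Polynomial.separable_X_pow_sub_C c hn hc).squarefree ?_
    rw [map_sub, map_pow, Polynomial.aeval_X, Polynomial.aeval_C, ← map_pow, ← Units.val_pow_eq_pow_val, hxn, map_smul,
      map_one, Algebra.algebraMap_eq_smul_one, sub_self]
  obtain ⟨h, hh⟩ := isConj_iff.1 (FormCentral.su_isConj hF s t P (by rw [es, et]; exact hP) fun w hw => by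
    rw [es]
    exact FormCentral.gu_centraliser_det hF (by norm_num) hx.1 hss hw)
  set g := Matrix.SpecialLinearGroup.toGL (h : Matrix.SpecialLinearGroup (Fin 4) F)
  refine ⟨g⁻¹, inv_mem ⟨FormCentral.su_toGL_mem h, Units.ext (h : Matrix.SpecialLinearGroup (Fin 4) F).det_coe⟩, ?_⟩
  have := congrArg (fun w : ↥(Cfsg.SU 4 F p) => Matrix.SpecialLinearGroup.toGL (w : Matrix.SpecialLinearGroup (Fin 4) F)) hh
  simp only [Subgroup.coe_mul, Subgroup.coe_inv, map_mul, map_inv, es, et] at this
  rw [inv_inv]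
  exact this

/-- Similar elements through eigenbases. -/
theorem exists_P_of_eigen {x y : GL (Fin 4) F} {α : Type} [DecidableEq α] [Fintype α] {b b' : Basis (Fin 4) F (Fin 4 → F)}
    {s s' : Fin 4 → α} (v : α → F) (hb : ∀ i, (x : M4) *ᵥ b i = v (s i) • b i)
    (hb' : ∀ i, (y : M4) *ᵥ b' i = v (s' i) • b' i)
    (hcnt : ∀ a, (Finset.univ.filter fun i => s i = a).card = (Finset.univ.filter fun i => s' i = a).card) :
    ∃ P : GL (Fin 4) F, P * x = y * P := by
  classical
  let π : Fin 4 ≃ Fin 4 := Equiv.ofFiberEquiv (f := s) (g := s') fun a =>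
    Fintype.equivOfCardEq (by rw [Fintype.card_subtype, Fintype.card_subtype]; exact hcnt a)
  have hπ : ∀ i, s' (π i) = s i := fun i => Equiv.ofFiberEquiv_map _ i
  refine ⟨TransvMax.glOf (b.equiv b' π), Units.ext (Matrix.toLin'.injective (b.ext fun i => ?_))⟩
  simp only [Units.val_mul, Matrix.toLin'_mul, LinearMap.comp_apply, Matrix.toLin'_apply, hb, Matrix.mulVec_smul,
    TransvMax.glOf_mulVec, Basis.equiv_apply, hb', hπ]

/-- Counts below three are determined modulo an odd prime. -/
theorem eq_of_cast (h2 : (2 : F) ≠ 0) {k k' : ℕ} (h : (k : F) = k') (hk : 1 ≤ k ∧ k ≤ 3) (hk' : 1 ≤ k' ∧ k' ≤ 3) : k = k' := by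
  have hd : ∀ d : ℕ, 0 < d → d ≤ 2 → (d : F) ≠ 0 := fun d h1 h4 => by
    interval_cases d
    · simp
    · exact_mod_cast h2
  rcases lt_trichotomy k k' with e | e | e
  · exact absurd (by rw [Nat.cast_sub e.le, h, sub_self]) (hd (k' - k) (by omega) (by omega))
  · exact e
  · exact absurd (by rw [Nat.cast_sub e.le, h, sub_self]) (hd (k - k') (by omega) (by omega))

/-- Data of a non-scalar involution. -/
theorem invol_count (h2 : (2 : F) ≠ 0) {Z : GL (Fin 4) F} (hZ : Z * Z = 1) (hns : ∀ u : F, (Z : M4) ≠ u • 1) :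
    ∃ (b : Basis (Fin 4) F (Fin 4 → F)) (s : Fin 4 → Bool), (∀ i, (Z : M4) *ᵥ b i = (sg (s i) : F) • b i) ∧
      Matrix.trace (Z : M4) = 4 - 2 * ((Finset.univ.filter fun i => s i = true).card : F) ∧
      (1 ≤ (Finset.univ.filter fun i => s i = true).card ∧ (Finset.univ.filter fun i => s i = true).card ≤ 3) := by
  classical
  obtain ⟨b, s, hb, htr, -⟩ := S6000.invol_data h2 hZ
  refine ⟨b, s, hb, htr, ?_⟩
  have hall : ∀ v : F, (∀ i, (sg (s i) : F) = v) → False := fun v hv => hns v (Matrix.toLin'.injective (b.ext fun i => by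
    rw [Matrix.toLin'_apply, hb, hv, map_smul, Matrix.toLin'_one]; rfl))
  set k := (Finset.univ.filter fun i => s i = true).card with hk
  have hle : k ≤ 4 := (Finset.card_filter_le _ _).trans (by simp)
  have h0 : k ≠ 0 := fun e => hall 1 fun i => by
    have : s i = false := by
      by_contra h
      rw [Bool.not_eq_false] at h
      exact Finset.card_ne_zero.2 ⟨i, by simp [h]⟩ e
    simp [this, sg]
  have h4 : k ≠ 4 := fun e => hall (-1) fun i => by
    have h4 : (Finset.univ.filter fun i => s i = true) = Finset.univ :=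
      Finset.eq_univ_of_card _ (by rw [← hk, e]; simp)
    have : s i = true := by
      have hi := Finset.mem_univ i
      rw [← h4, Finset.mem_filter] at hi
      exact hi.2
    simp [this, sg]
  omega

/-- Elements of order three with a cube root of unity in the field. -/
theorem three_data (hp : p ≠ 0) (hσ : ∀ x, σ x = x ^ p) (hσσ : ∀ x, σ (σ x) = x) {ω : F} (hω : ω * ω + ω + 1 = 0)
    (hσω : σ ω = ω) (hcast : ∀ m : ℕ, 0 < m → m ≤ 4 → (m : F) ≠ 0) {x : GL (Fin 4) F}
    (hx : x ∈ Cfsg.GU 4 F p) (hx3 : x ^ 3 = 1) (hx1 : x ≠ 1) :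
    ∃ (b : Basis (Fin 4) F (Fin 4 → F)) (s : Fin 4 → Fin 3), (∀ i, (x : M4) *ᵥ b i = ω ^ (s i).1 • b i) ∧
      (x : M4).det = 1 ∧
      (Finset.univ.filter fun i => s i = 1).card = (Finset.univ.filter fun i => s i = 2).card ∧
      ((x : M4) * x + x + 1 = 0 → (Finset.univ.filter fun i => s i = 0).card = 0) ∧
      ((x : M4) * x + x + 1 ≠ 0 → (Finset.univ.filter fun i => s i = 0).card = 2) := by
  classical
  have h3 : (3 : F) ≠ 0 := by exact_mod_cast hcast 3 (by norm_num) (by norm_num)
  have hω3 : ω ^ 3 = 1 := by linear_combination (ω - 1) * hω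
  have hω1 : ω ≠ 1 := fun e => h3 (by rw [e] at hω; linear_combination hω)
  have hωm : ∀ m, ω ^ m = ω ^ (m % 3) := fun m => by
    conv_lhs => rw [← Nat.mod_add_div m 3, pow_add, pow_mul, hω3, one_pow, mul_one]
  have hprim : IsPrimitiveRoot ω 3 := by
    have h1 : orderOf ω = 3 := orderOf_eq_prime hω3 hω1
    simpa [h1] using IsPrimitiveRoot.orderOf ω
  obtain ⟨b, e, hbe⟩ := SimEl.exists_eigenbasis (r := 3) (Matrix.toLin' (x : M4))
    (by rw [← Matrix.toLin'_pow, ← Units.val_pow_eq_pow_val, hx3, Units.val_one, Matrix.toLin'_one]; rfl) hprim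
    (by exact_mod_cast h3)
  let s : Fin 4 → Fin 3 := fun i => ⟨e i % 3, Nat.mod_lt _ (by norm_num)⟩
  have hs : ∀ i, (x : M4) *ᵥ b i = ω ^ (s i).1 • b i := fun i => by rw [← Matrix.toLin'_apply, hbe, hωm]
  have hinv : ∀ i, ((x⁻¹ : GL (Fin 4) F) : M4) *ᵥ b i = ω ^ (2 * (s i).1) • b i := fun i => by
    rw [show x⁻¹ = x * x by rw [inv_eq_iff_mul_eq_one, ← pow_two, ← pow_succ', hx3], Units.val_mul,
      ← Matrix.mulVec_mulVec, hs, Matrix.mulVec_smul, hs, smul_smul, ← pow_add, two_mul]
  have trace_of : ∀ (X : M4) (w : Fin 4 → F), (∀ i, X *ᵥ b i = w i • b i) → Matrix.trace X = ∑ i, w i := fun X w hw => by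
    rw [← Matrix.trace_toLin'_eq, LinearMap.trace_eq_matrix_trace F b, Matrix.trace]
    refine Finset.sum_congr rfl fun i _ => ?_
    rw [Matrix.diag_apply, LinearMap.toMatrix_apply, Matrix.toLin'_apply, hw, map_smul, Finsupp.smul_apply, b.repr_self,
      Finsupp.single_eq_same, smul_eq_mul, mul_one]
  set c : Fin 3 → ℕ := fun a => (Finset.univ.filter fun i => s i = a).card with hc
  have hsum : ∀ g : Fin 3 → F, ∑ i, g (s i) = c 0 * g 0 + c 1 * g 1 + c 2 * g 2 := fun g => by
    rw [← Finset.sum_fiberwise (Finset.univ : Finset (Fin 4)) s (fun i => g (s i))]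
    rw [Fin.sum_univ_three]
    simp only [hc]
    congr 1
    · congr 1 <;> (rw [Finset.sum_congr rfl fun i hi => by rw [(Finset.mem_filter.1 hi).2]]; simp)
    · rw [Finset.sum_congr rfl fun i hi => by rw [(Finset.mem_filter.1 hi).2]]; simp
  have hct : c 0 + c 1 + c 2 = 4 := by
    have h := Finset.card_eq_sum_card_fiberwise (f := s) (s := (Finset.univ : Finset (Fin 4))) (t := Finset.univ)
      (fun i _ => Finset.mem_univ _)
    rw [Fin.sum_univ_three] at h
    simp only [Finset.card_univ, Fintype.card_fin] at h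
    exact h.symm
  have h12 : c 1 = c 2 := by
    have h1 := trace_st σ (x : M4)
    rw [st_eq_inv ((mem_GU_iff_st hp hσ hσσ).1 hx), trace_of _ _ hinv, trace_of _ _ hs,
      hsum (fun a => ω ^ (2 * a.1)), hsum (fun a => ω ^ a.1)] at h1
    simp [hσω] at h1
    have e' : ((c 1 : F) - c 2) * (ω * ω - ω) = 0 := by
      linear_combination h1 - (c 2 : F) * ω * hω3
    have hne : ω * ω - ω ≠ 0 := fun e0 => hω1 (by
      have h0 : ω ≠ 0 := fun z0 => by rw [z0] at hω; simp at hω
      exact mul_left_cancel₀ h0 (by rw [mul_one]; linear_combination e0))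
    have e'' : (c 1 : F) = c 2 := sub_eq_zero.1 ((mul_eq_zero.1 e').resolve_right hne)
    rcases lt_trichotomy (c 1) (c 2) with h | h | h
    · exact absurd (by rw [Nat.cast_sub h.le, e'', sub_self]) (hcast (c 2 - c 1) (by omega) (by omega))
    · exact h
    · exact absurd (by rw [Nat.cast_sub h.le, e'', sub_self]) (hcast (c 1 - c 2) (by omega) (by omega))
  have h04 : c 0 ≠ 4 := fun e0 => hx1 (Units.ext (Matrix.toLin'.injective (b.ext fun i => by
    have h4 : (Finset.univ.filter fun i => s i = 0) = Finset.univ :=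
      Finset.eq_univ_of_card _ (by simp only [hc] at e0; rw [e0]; simp)
    have hi : s i = 0 := by
      have hi := Finset.mem_univ i
      rw [← h4, Finset.mem_filter] at hi
      exact hi.2
    rw [Matrix.toLin'_apply, hs, hi, Units.val_one, Matrix.toLin'_one]
    simp)))
  refine ⟨b, s, hs, ?_, h12, fun hq => ?_, fun hq => ?_⟩
  · rw [← LinearMap.det_toLin', Elusive.det_monomial b (Matrix.toLin' (x : M4)) 1 (fun i => ω ^ (s i).1) (fun i => by
      rw [Matrix.toLin'_apply, hs]; rfl)]
    rw [Equiv.Perm.sign_one, Units.val_one, Int.cast_one, one_mul, Finset.prod_pow_eq_pow_sum]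
    have e : ∑ i, (s i).1 = c 1 + 2 * c 2 := by
      rw [← Finset.sum_fiberwise (Finset.univ : Finset (Fin 4)) s (fun i => (s i).1), Fin.sum_univ_three]
      simp only [hc]
      rw [Finset.sum_congr rfl fun i hi => by rw [(Finset.mem_filter.1 hi).2]]
      rw [Finset.sum_congr rfl (fun i hi => by rw [(Finset.mem_filter.1 hi).2] :
        ∀ i ∈ (Finset.univ.filter fun i => s i = 1), (s i).1 = ((1 : Fin 3)).1)]
      rw [Finset.sum_congr rfl (fun i hi => by rw [(Finset.mem_filter.1 hi).2] :
        ∀ i ∈ (Finset.univ.filter fun i => s i = 2), (s i).1 = ((2 : Fin 3)).1)]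
      simp
      ring
    rw [e, h12, show c 2 + 2 * c 2 = 3 * c 2 by ring, pow_mul, hω3, one_pow]
  · by_contra h0
    obtain ⟨i, hi⟩ := Finset.card_ne_zero.1 h0
    have hi' : s i = 0 := (Finset.mem_filter.1 hi).2
    have h := congrArg (fun X : M4 => X *ᵥ b i) hq
    simp only [Matrix.add_mulVec, ← Matrix.mulVec_mulVec, hs, hi', Matrix.one_mulVec, Matrix.zero_mulVec] at h
    simp [hs, hi'] at h
    have h' : (3 : F) • b i = 0 := by linear_combination (norm := module) h
    exact b.ne_zero i ((smul_eq_zero.1 h').resolve_left h3)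
  · have h0 : c 0 ≠ 0 := fun e0 => hq (Matrix.toLin'.injective (b.ext fun i => by
      have hi : s i ≠ 0 := fun e1 => Finset.card_ne_zero.2 ⟨i, by simp [e1]⟩ e0
      rw [map_zero, Matrix.toLin'_apply, LinearMap.zero_apply]
      simp only [Matrix.add_mulVec, ← Matrix.mulVec_mulVec, hs, Matrix.one_mulVec, Matrix.mulVec_smul, smul_smul]
      have hm : ω ^ (s i).1 * ω ^ (s i).1 + ω ^ (s i).1 + 1 = 0 := by
        rcases (show (s i).1 = 1 ∨ (s i).1 = 2 by
          have := (s i).isLt
          have : (s i).1 ≠ 0 := fun h => hi (Fin.ext h)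
          omega) with h | h <;> rw [h]
        · linear_combination hω
        · linear_combination hω + ω * hω3
      linear_combination (norm := module) hm • b i))
    show c 0 = 2
    omega

/-- A basis adapted to an element of order five. -/
theorem five_shape (hp : p ≠ 0) (hσ : ∀ x, σ x = x ^ p) (hσσ : ∀ x, σ (σ x) = x) (h5 : (5 : F) ≠ 0)
    (hroot : ∀ e : F, e ^ 5 = 1 → e = 1) {t : F} (ht : t * t + t = 1) (htt : σ t ≠ t) (hst : σ t = -1 - t)
    {x : GL (Fin 4) F} (hx : x ∈ Cfsg.GU 4 F p) (hx5 : x ^ 5 = 1) (hx1 : x ≠ 1) :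
    ∃ b : Basis (Fin 4) F (Fin 4 → F), (x : M4) *ᵥ b 0 = b 1 ∧ (x : M4) *ᵥ b 1 = -b 0 + t • b 1 ∧
      (x : M4) *ᵥ b 2 = b 3 ∧ (x : M4) *ᵥ b 3 = -b 2 + (-1 - t) • b 3 := by
  classical
  set t' : F := -1 - t with ht'
  have hne : t ≠ t' := fun e => htt (hst.trans e.symm)
  set X : M4 := (x : M4) with hX
  set Y : M4 := ((x⁻¹ : GL (Fin 4) F) : M4) with hY
  have hXY : X * Y = 1 := Units.mul_inv x
  have hYX : Y * X = 1 := Units.inv_mul x
  have hX5 : X * (X * (X * (X * X))) = 1 := by
    rw [← Units.val_one, ← hx5, Units.val_pow_eq_pow_val]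
    simp only [pow_succ, pow_zero, one_mul, mul_assoc, hX]
  have stX : st σ X = Y := st_eq_inv ((mem_GU_iff_st hp hσ hσσ).1 hx)
  have stY : st σ Y = X := by rw [← stX, st_st hσσ]
  -- no eigenvalue among the roots
  have noeig : ∀ u : F, u = t ∨ u = t' → ∀ l : F, l * l - u * l + 1 ≠ 0 := fun u hu l hl => by
    have hu2 : u * u + u = 1 := by
      rcases hu with rfl | rfl
      · exact ht
      · rw [ht']; linear_combination ht
    have hl5 : l ^ 5 = 1 := by
      linear_combination (l - 1) * (l * l + (1 + u) * l + 1) * hl + (l - 1) * l * l * hu2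
    rw [hroot l hl5] at hl
    exact h5 (by linear_combination hu2 + (u + 3) * hl)
  have hQ : ∀ u : F, u = t ∨ u = t' → ∃ v : Fin 4 → F, v ≠ 0 ∧ X *ᵥ (X *ᵥ v) = -v + u • (X *ᵥ v) := by
    intro u hu
    by_contra hno
    push Not at hno
    -- otherwise the other quadratic and `X - 1` kill everything
    set u' : F := -1 - u with hu'
    have hu2 : u * u + u = 1 := by
      rcases hu with rfl | rfl
      · exact ht
      · rw [ht']; linear_combination ht
    have hinj : ∀ v, (X * X - u • X + 1) *ᵥ v = 0 → v = 0 := fun v hv => by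
      by_contra h0
      refine hno v h0 ?_
      simp only [Matrix.add_mulVec, Matrix.sub_mulVec, Matrix.smul_mulVec, ← Matrix.mulVec_mulVec, Matrix.one_mulVec] at hv
      linear_combination (norm := module) hv
    have hprod : (X * X - u • X + 1) * ((X - 1) * (X * X - u' • X + 1)) = 0 := by
      have e1 : u * u' = -1 := by rw [hu']; linear_combination -hu2
      have e2 : u + u' = -1 := by rw [hu']; ring
      simp only [mul_add, add_mul, mul_sub, sub_mul, smul_mul_assoc, mul_smul_comm, smul_smul, mul_one, one_mul, mul_assoc, hX5]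
      match_scalars <;> first
        | ring1
        | linear_combination e1
        | linear_combination -e1
        | linear_combination e2
        | linear_combination -e2
        | linear_combination e1 + e2
        | linear_combination -e1 - e2
        | linear_combination e1 - e2
        | linear_combination e2 - e1
        | linear_combination e1 + e2
        | linear_combination (2 : F) * e1 + e2
    have h1 : (X - 1) * (X * X - u' • X + 1) = 0 := Matrix.toLin'.injective (LinearMap.ext fun v => by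
      rw [map_zero, LinearMap.zero_apply, Matrix.toLin'_apply]
      exact hinj _ (by rw [Matrix.mulVec_mulVec, hprod, Matrix.zero_mulVec]))
    have h2 : (X + Y - (2 : F) • 1) * (X + Y - u' • 1) = 0 := by
      have e : Y * ((X - 1) * ((X - 1) * (X * X - u' • X + 1))) * Y = 0 := by rw [h1, mul_zero, mul_zero, zero_mul]
      rw [← e]
      have hXY' : ∀ Z : M4, X * (Y * Z) = Z := fun Z => by rw [← mul_assoc, hXY, one_mul]
      have hYX' : ∀ Z : M4, Y * (X * Z) = Z := fun Z => by rw [← mul_assoc, hYX, one_mul]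
      simp only [mul_add, add_mul, mul_sub, sub_mul, smul_mul_assoc, mul_smul_comm, smul_smul, mul_one, one_mul, mul_assoc,
        hXY, hYX, hXY', hYX']
      module
    have hsu : σ u' = u := by
      rcases hu with rfl | rfl
      · rw [hu', map_sub, map_neg, map_one, hst]; ring
      · rw [hu', show -1 - t' = t by rw [ht']; ring, hst]
    have h3 : (X + Y - u • 1) * (X + Y - (2 : F) • 1) = 0 := by
      have e := congrArg (st σ) h2
      simp only [st_mul, st_sub, st_add, st_smul, st_one, stX, stY, hsu, map_ofNat] at e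
      rw [add_comm Y X] at e
      rw [e]
      ext i j; simp [st]
    have h4 : (u - u') • (X + Y - (2 : F) • 1) = 0 := by
      have e : (X + Y - (2 : F) • 1) * (X + Y - u' • 1) - (X + Y - u • 1) * (X + Y - (2 : F) • 1) = 0 := by
        rw [h2, h3, sub_self]
      rw [← e]
      simp only [mul_sub, sub_mul, smul_mul_assoc, mul_smul_comm, one_mul, mul_one, smul_sub, smul_smul]
      module
    have huu : u - u' ≠ 0 := by
      rcases hu with rfl | rfl
      · exact sub_ne_zero.2 hne
      · rw [hu', show -1 - t' = t by rw [ht']; ring]; exact sub_ne_zero.2 hne.symm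
    have h6 := (smul_eq_zero.1 h4).resolve_left huu
    have hN : (X - 1) * (X - 1) = 0 := by
      have e : X * (X + Y - (2 : F) • 1) = 0 := by rw [h6, mul_zero]
      rw [← e]
      simp only [mul_add, mul_sub, sub_mul, hXY, mul_smul_comm, mul_one, one_mul, two_smul]
      abel
    have hpow : ∀ k : ℕ, X ^ k = 1 + (k : F) • (X - 1) := by
      intro k
      induction k with
      | zero => simp
      | succ k ih =>
        rw [pow_succ, ih]
        have e : (X - 1) * X = X - 1 := by
          have : (X - 1) * X = (X - 1) * (X - 1) + (X - 1) := by rw [mul_sub (X - 1), mul_one, sub_add_cancel]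
          rw [this, hN, zero_add]
        rw [add_mul, one_mul, smul_mul_assoc, e, Nat.cast_succ, add_smul, one_smul]
        abel
    have h7 : (5 : F) • (X - 1) = 0 := by
      have e := hpow 5
      rw [hX, ← Units.val_pow_eq_pow_val, hx5, Units.val_one] at e
      exact_mod_cast (left_eq_add.1 e)
    exact hx1 (Units.ext (sub_eq_zero.1 ((smul_eq_zero.1 h7).resolve_left h5)))
  obtain ⟨v, hv0, hv⟩ := hQ t (Or.inl rfl)
  obtain ⟨w, hw0, hw⟩ := hQ t' (Or.inr rfl)
  have indep : ∀ (u : F), (u = t ∨ u = t') → ∀ z : Fin 4 → F, z ≠ 0 → X *ᵥ (X *ᵥ z) = -z + u • (X *ᵥ z) →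
      ∀ a c : F, a • z + c • (X *ᵥ z) = 0 → a = 0 ∧ c = 0 := by
    intro u hu z hz0 hz a c h
    by_cases hc : c = 0
    · subst hc
      rw [zero_smul, add_zero] at h
      exact ⟨(smul_eq_zero.1 h).resolve_right hz0, rfl⟩
    exfalso
    have hxz : X *ᵥ z = (-a / c) • z := by
      have := congrArg (fun v => c⁻¹ • v) h
      simp only [smul_add, smul_smul, smul_zero, inv_mul_cancel₀ hc, one_smul] at this
      rw [div_eq_inv_mul, mul_neg, neg_smul]
      linear_combination (norm := module) this
    set l := -a / c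
    rw [hxz, Matrix.mulVec_smul, hxz, smul_smul, smul_smul] at hz
    have e6 : (l * l - u * l + 1) • z = 0 := by linear_combination (norm := module) hz
    exact noeig u hu l ((smul_eq_zero.1 e6).resolve_right hz0)
  have hli : LinearIndependent F ![v, X *ᵥ v, w, X *ᵥ w] := by
    rw [Fintype.linearIndependent_iff]
    intro g hg
    simp [Fin.sum_univ_four] at hg
    have e0 := congrArg (fun z => X *ᵥ (X *ᵥ z) - t' • (X *ᵥ z) + z) hg
    simp only [Matrix.mulVec_add, Matrix.mulVec_smul, hv, hw, Matrix.mulVec_neg, Matrix.mulVec_zero, smul_zero, sub_zero,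
      add_zero] at e0
    have e1 : (t - t') • (X *ᵥ (g 0 • v + g 1 • (X *ᵥ v))) = 0 := by
      simp only [Matrix.mulVec_add, Matrix.mulVec_smul, hv]
      linear_combination (norm := module) e0
    have e2 : g 0 • v + g 1 • (X *ᵥ v) = 0 := by
      have := congrArg (fun z => Y *ᵥ z) ((smul_eq_zero.1 e1).resolve_left (sub_ne_zero.2 hne))
      simpa only [Matrix.mulVec_mulVec, hYX, Matrix.one_mulVec, Matrix.mulVec_zero] using this
    obtain ⟨g0, g1⟩ := indep t (Or.inl rfl) v hv0 hv _ _ e2
    rw [g0, g1, zero_smul, zero_smul, zero_add, zero_add] at hg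
    obtain ⟨g2, g3⟩ := indep t' (Or.inr rfl) w hw0 hw _ _ hg
    intro i; fin_cases i <;> assumption
  refine ⟨basisOfLinearIndependentOfCardEqFinrank hli (by simp), ?_, ?_, ?_, ?_⟩ <;>
    simp [coe_basisOfLinearIndependentOfCardEqFinrank, ← hX, hv, hw]

/-- The element of order three built from two anticommuting skew square roots of minus one is unitary. -/
theorem three_mem (hp : p ≠ 0) (hσ : ∀ x, σ x = x ^ p) (hσσ : ∀ x, σ (σ x) = x) (h2 : (2 : F) ≠ 0) {I J : M4}
    (hI : st σ I = -I) (hJ : st σ J = -J) (hJI : J * I = -(I * J)) {f : GL (Fin 4) F}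
    (hf : (f : M4) = (2 : F)⁻¹ • (-1 + I + J + I * J)) (fe : (f : M4) * f + f + 1 = 0) : f ∈ Cfsg.GU 4 F p := by
  rw [mem_GU_iff_st hp hσ hσσ]
  have e : st σ (f : M4) = -1 - (f : M4) := by
    have e1 : st σ (f : M4) = (2 : F)⁻¹ • (-1 - I - J - I * J) := by
      rw [hf, st_smul, map_inv₀, map_ofNat, st_add, st_add, st_add, st_neg, st_one, st_mul, hI, hJ, neg_mul_neg, hJI]
      congr 1
      abel
    have e2 : (2 : F)⁻¹ * 2 = 1 := inv_mul_cancel₀ h2
    rw [e1, hf]
    match_scalars <;> first
      | linear_combination -e2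
      | linear_combination e2
      | ring1
  rw [e]
  linear_combination (norm := noncomm_ring) -fe

/-- A conjugate of a transvection moves the group. -/
theorem transvection_false {R : Subgroup (GL (Fin 4) F)} (hP : IsPauli R) {r : ℕ} [Fact r.Prime] [CharP F r] (hr2 : r ≠ 2)
    {x g : GL (Fin 4) F} (hgH : g⁻¹ * x * g ∈ Cfsg.Geo.subgroupNormalizer R) {v₀ φ : Fin 4 → F}
    (hxN : (x : M4) = 1 + Matrix.vecMulVec v₀ φ) (hnil : Matrix.vecMulVec v₀ φ * Matrix.vecMulVec v₀ φ = 0)
    (hne : Matrix.vecMulVec v₀ φ ≠ 0) : False := by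
  refine hP.false_of_transvection hgH hr2 (((g⁻¹ : GL (Fin 4) F) : M4) *ᵥ v₀) (φ ᵥ* (g : M4)) ?_ ?_ ?_
  all_goals rw [← Matrix.vecMulVec_mul, ← Matrix.mul_vecMulVec]
  · rw [Units.val_mul, Units.val_mul, hxN]
    simp [mul_add, add_mul]
  · simp only [mul_assoc]
    rw [← mul_assoc (g : M4), Units.mul_inv, one_mul, ← mul_assoc (Matrix.vecMulVec v₀ φ), hnil, zero_mul, mul_zero]
  · intro e
    have := congrArg (fun X : M4 => (g : M4) * X * ((g⁻¹ : GL (Fin 4) F) : M4)) e
    simp only [mul_assoc, mul_zero, zero_mul, Units.mul_inv, mul_one, Units.mul_inv_cancel_left] at this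
    exact hne this

end Fintype

set_option maxHeartbeats 4000000 in
/-- Elements of prime order of PSU_4(p), p ≡ 3 (mod 4), and the normalizer of a 2-group of symplectic type of order 2⁶. Here `T = PSU_4(p)` for a prime `p ≡ 3 (mod 4)`, realised through `SU_4(p)`, the matrices of determinant 1 over the field `F` with `p²` elements preserving the hermitian form `f = Σ uᵢvᵢ^p`; `R` is an absolutely irreducible subgroup of the full unitary group of `f` of order 2⁶ that is a 2-group of symplectic type of exponent 4 with centre of order 4, and `H` is the subgroup of `SU_4(p)` normalizing `R` — a subgroup of type 2⁴.Sp₄(2) (maximality is not assumed). Ω is the set of cosets of `H`, so an element of `T` of prime order `r` (`x ∈ SU_4(p)` with `x^r` scalar, `x` not scalar) fixes a point of Ω exactly when some `SU_4(p)`-conjugate of `x` normalizes `R`. Let `r` be a prime dividing the index of `H`. Then every element of `T` of order `r` fixes a point of Ω if and only if `r = 2`, or `r = 3` and `p ≡ 1 (mod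 3)`, or `r = 5` and `p ≡ ±2 (mod 5)` (`p` has multiplicative order 4 modulo 5). -/
theorem result {F : Type*} [Field F] [Fintype F] {p : ℕ} [Fact p.Prime] [CharP F p] (hF : Fintype.card F = p ^ 2) (hp4 : p % 4 = 3)
    (R : Subgroup (GL (Fin 4) F)) (hRs : Cfsg.Geo.IsSymplecticTypeGroup 2 R) (hRi : Cfsg.Geo.ActsAbsolutelyIrreducibly (Cfsg.Geo.matrixSet R))
    (hRU : R ≤ Cfsg.GU 4 F p) (hR6 : Nat.card R = 2 ^ 6) (hRZ : Nat.card (Subgroup.center R) = 4)
    (r : ℕ) [Fact r.Prime]
    (hΩ : r ∣ (Cfsg.Geo.subgroupNormalizer R).relIndex (Cfsg.GU 4 F p ⊓ Cfsg.Geo.specialLinear (Fin 4) F)) :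
    (∀ x ∈ Cfsg.GU 4 F p ⊓ Cfsg.Geo.specialLinear (Fin 4) F, (∃ z : F, ((x ^ r : GL (Fin 4) F) : Matrix (Fin 4) (Fin 4) F) = z • (1 : Matrix (Fin 4) (Fin 4) F)) →
      (∀ z : F, (x : Matrix (Fin 4) (Fin 4) F) ≠ z • (1 : Matrix (Fin 4) (Fin 4) F)) →
      ∃ g ∈ Cfsg.GU 4 F p ⊓ Cfsg.Geo.specialLinear (Fin 4) F, g⁻¹ * x * g ∈ Cfsg.Geo.subgroupNormalizer R) ↔ (r = 2 ∨ (r = 3 ∧ p % 3 = 1) ∨ (r = 5 ∧ orderOf (p : ZMod 5) = 4)) := by
  classical
  have hp : p.Prime := Fact.out
  have hp0 : p ≠ 0 := hp.ne_zero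
  have hr : r.Prime := Fact.out
  have cast0 : ∀ m : ℕ, m.Prime → p ≠ m → (m : F) ≠ 0 := fun m hm hne e =>
    hne ((Nat.prime_dvd_prime_iff_eq hp hm).1 ((CharP.cast_eq_zero_iff F p m).1 e))
  have h2 : (2 : F) ≠ 0 := by exact_mod_cast cast0 2 Nat.prime_two (fun e => by omega)
  obtain ⟨σ, hσ, hσσ, hp2⟩ := FormsLib.exists_qhom hF
  have hU := (FormsLib.hermB_isUnitary hF 4 hσ hσσ hp2).1
  have gu : ∀ {w : GL (Fin 4) F}, w ∈ Cfsg.GU 4 F p ↔ st σ (w : Matrix (Fin 4) (Fin 4) F) * w = 1 :=
    mem_GU_iff_st hp0 hσ hσσ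
  have hP : IsPauli R := isPauli_of h2 (by simp) hRs hRi (by rw [hR6, hRZ]; norm_num)
  have hex : Monoid.exponent R = 4 := by rw [hRs.exponent_eq]; norm_num
  obtain ⟨i, c, A, B, C, D, hrich⟩ := hP.exists_rich hex hRZ
  have hRN : R ≤ Cfsg.Geo.subgroupNormalizer R := Subgroup.le_normalizer
  -- unitarity of the standard elements
  have hσc : σ c = -c := by
    have h := gu.1 (hRU hrich.mi)
    rw [hrich.iv, st_smul, st_one, smul_mul_assoc, one_mul, smul_smul] at h
    have e := congrFun (congrFun h 0) 0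
    simp at e
    linear_combination (-c) * e + σ c * hrich.sqc
  have sti : ∀ {U : GL (Fin 4) F}, U ∈ R → (U : Matrix (Fin 4) (Fin 4) F) * U = 1 →
      st σ ((i * U : GL (Fin 4) F) : Matrix (Fin 4) (Fin 4) F) = -((i * U : GL (Fin 4) F) : Matrix (Fin 4) (Fin 4) F) :=
    fun {U} hm hs => by
      simp only [Units.val_mul, hrich.iv, smul_mul_assoc, one_mul, st_smul, hσc, st_of_invol (gu.1 (hRU hm)) hs, neg_smul]
  have hskew : ∀ {U V : GL (Fin 4) F}, (V : Matrix (Fin 4) (Fin 4) F) * U = -((U : Matrix (Fin 4) (Fin 4) F) * V) →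
      ((i * V : GL (Fin 4) F) : Matrix (Fin 4) (Fin 4) F) * ((i * U : GL (Fin 4) F) : Matrix (Fin 4) (Fin 4) F) =
        -(((i * U : GL (Fin 4) F) : Matrix (Fin 4) (Fin 4) F) * ((i * V : GL (Fin 4) F) : Matrix (Fin 4) (Fin 4) F)) :=
    fun {U V} e => by simp only [Units.val_mul, hrich.iv, smul_mul_assoc, one_mul, mul_smul_comm, e, smul_neg]
  have det1 : ∀ {w : GL (Fin 4) F}, w ∈ Cfsg.Geo.specialLinear (Fin 4) F →
      (w : Matrix (Fin 4) (Fin 4) F).det = 1 := fun hw => congrArg Units.val hw
  have z4 : ∀ {w : GL (Fin 4) F}, w ∈ Cfsg.GU 4 F p ⊓ Cfsg.Geo.specialLinear (Fin 4) F → ∀ {n : ℕ} {z : F},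
      ((w ^ n : GL (Fin 4) F) : Matrix (Fin 4) (Fin 4) F) = z • 1 → z ^ 4 = 1 ∧ σ z * z = 1 := fun {w} hw {n z} e => by
    refine ⟨?_, ?_⟩
    · have h := det1 (pow_mem hw.2 n)
      rwa [e, Matrix.det_smul, Matrix.det_one, mul_one, Fintype.card_fin] at h
    · have h := gu.1 (pow_mem hw.1 n)
      rw [e, st_smul, st_one, smul_mul_assoc, one_mul, smul_smul] at h
      simpa using congrFun (congrFun h 0) 0
  have conjpow : ∀ {g x : GL (Fin 4) F} {n : ℕ}, x ^ n = 1 → (g⁻¹ * x * g) ^ n = 1 := fun {g x n} e => by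
    have := conj_pow (a := g⁻¹) (b := x) (i := n)
    rw [inv_inv] at this
    rw [this, e, mul_one, inv_mul_cancel]
  have conjns : ∀ {g x : GL (Fin 4) F}, (∀ z : F, (x : Matrix (Fin 4) (Fin 4) F) ≠ z • 1) →
      ∀ z : F, ((g⁻¹ * x * g : GL (Fin 4) F) : Matrix (Fin 4) (Fin 4) F) ≠ z • 1 := fun {g x} hx z hz => hx z (by
    rw [show x = g * (g⁻¹ * x * g) * g⁻¹ by group, Units.val_mul, Units.val_mul g, hz, mul_smul_comm, mul_one,
      smul_mul_assoc, Units.mul_inv])
  have hcardu : Nat.card Fˣ = p ^ 2 - 1 := by rw [Nat.card_units, Nat.card_eq_fintype_card, hF]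
  constructor
  · intro hall
    by_contra hno
    push Not at hno
    obtain ⟨hr2, hno3, hno5⟩ := hno
    by_cases hrp : r = p
    · subst hrp
      obtain ⟨a, ha⟩ := hU.norm_surj (-1) (by rw [map_neg, map_one])
      obtain ⟨e, he0, he⟩ := FormsLib.exists_skew hU
      let u : Fin 4 → F := ![1, a, 0, 0]
      let φ : Fin 4 → F := fun j => e * σ (u j)
      have hdot : φ ⬝ᵥ u = 0 := by
        simp [φ, u, dotProduct, Fin.sum_univ_four]
        linear_combination e * ha
      have hnil : Matrix.vecMulVec u φ * Matrix.vecMulVec u φ = 0 := by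
        rw [Matrix.vecMulVec_mul_vecMulVec, hdot, zero_smul]; simp
      have hne : Matrix.vecMulVec u φ ≠ 0 := fun h0 => by
        have := congrFun (congrFun h0 0) 0
        simp [u, φ, Matrix.vecMulVec_apply] at this
        exact he0 this
      let x : GL (Fin 4) F := ⟨1 + Matrix.vecMulVec u φ, 1 - Matrix.vecMulVec u φ,
        by rw [add_mul, one_mul, mul_sub, mul_one, hnil, sub_zero, sub_add_cancel],
        by rw [sub_mul, one_mul, mul_add, mul_one, hnil, add_zero, add_sub_cancel_right]⟩
      have hxN : (x : Matrix (Fin 4) (Fin 4) F) = 1 + Matrix.vecMulVec u φ := rfl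
      have hxst : st σ (Matrix.vecMulVec u φ) = -Matrix.vecMulVec u φ := by
        ext i j
        simp only [st, Matrix.transpose_apply, Matrix.map_apply, Matrix.neg_apply, Matrix.vecMulVec_apply, φ, map_mul, hσσ]
        linear_combination σ (u j) * u i * he
      have hxr : x ^ r = 1 := Units.ext (by
        have hk : ∀ k : ℕ, ((x ^ k : GL (Fin 4) F) : Matrix (Fin 4) (Fin 4) F) =
            1 + (k : F) • Matrix.vecMulVec u φ := by
          intro k
          induction k with
          | zero => simp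
          | succ k ih =>
            rw [pow_succ, Units.val_mul, ih, hxN, add_mul, one_mul, smul_mul_assoc, mul_add, mul_one, hnil, add_zero,
              Nat.cast_succ, add_smul, one_smul]
            abel
        rw [hk, CharP.cast_eq_zero, zero_smul, add_zero, Units.val_one])
      have hx : x ∈ Cfsg.GU 4 F r ⊓ Cfsg.Geo.specialLinear (Fin 4) F := by
        refine ⟨gu.2 ?_, Units.ext ?_⟩
        · rw [hxN, st_add, st_one, hxst, add_mul, one_mul, neg_mul, mul_add, mul_one, hnil, add_zero]
          abel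
        · show (x : Matrix (Fin 4) (Fin 4) F).det = 1
          have h1 : (x : Matrix (Fin 4) (Fin 4) F).det ^ r = 1 := by
            rw [← Matrix.det_pow, ← Units.val_pow_eq_pow_val, hxr, Units.val_one, Matrix.det_one]
          exact sub_eq_zero.1 (eq_zero_of_pow_eq_zero (n := r) (by rw [sub_pow_char, h1, one_pow, sub_self]))
      obtain ⟨g, hg, hgH⟩ := hall x hx ⟨1, by rw [hxr, Units.val_one, one_smul]⟩ (fun z hz => by
        rw [hxN] at hz
        have h00 := congrFun (congrFun hz 0) 0
        have h22 := congrFun (congrFun hz 2) 2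
        rw [Matrix.add_apply, Matrix.vecMulVec_apply, Matrix.smul_apply] at h00 h22
        simp [u, φ] at h00 h22
        exact he0 (by linear_combination h00 - h22))
      exact transvection_false hP hr2 hgH hxN hnil hne
    by_cases h53 : r = 3 ∨ r = 5
    · obtain ⟨x, hx, hxr, hns, T, T', htr, htr', hT⟩ : ∃ x ∈ Cfsg.GU 4 F p ⊓ Cfsg.Geo.specialLinear (Fin 4) F,
          x ^ r = 1 ∧ (∀ z : F, (x : Matrix (Fin 4) (Fin 4) F) ≠ z • 1) ∧ ∃ T T' : F,
            Matrix.trace (x : Matrix (Fin 4) (Fin 4) F) = T ∧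
            Matrix.trace ((x⁻¹ : GL (Fin 4) F) : Matrix (Fin 4) (Fin 4) F) = T' ∧
              T * T' ≠ 1 ∧ (r = 3 → T * T' ≠ 4) := by
        rcases h53 with rfl | rfl
        · have h3 : (3 : F) ≠ 0 := by exact_mod_cast cast0 3 Nat.prime_three (Ne.symm hrp)
          have hp3 : p % 3 = 2 := by
            have := hno3 rfl
            have h0 : p % 3 ≠ 0 := fun e => hrp ((Nat.prime_dvd_prime_iff_eq Nat.prime_three hp).1 (Nat.dvd_of_mod_eq_zero e))
            omega
          obtain ⟨ω₀, hω₀⟩ := exists_prime_orderOf_dvd_card' (G := Fˣ) 3 (by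
            rw [hcardu]
            have : p ^ 2 % 3 = 1 := by rw [Nat.pow_mod, hp3]
            omega)
          set ω : F := (ω₀ : F)
          have hω3 : ω ^ 3 = 1 := by rw [← Units.val_pow_eq_pow_val, ← hω₀, pow_orderOf_eq_one, Units.val_one]
          have hω1 : ω ≠ 1 := fun e => by
            rw [show ω₀ = 1 from Units.ext e, orderOf_one] at hω₀
            omega
          have hω : ω * ω + ω + 1 = 0 := by
            refine (mul_eq_zero.1 (show (ω - 1) * (ω * ω + ω + 1) = 0 by linear_combination hω3)).resolve_left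
              (sub_ne_zero.2 hω1)
          have hσω : σ ω = ω * ω := by
            rw [hσ, ← Nat.mod_add_div p 3, hp3, pow_add, pow_mul, hω3, one_pow, mul_one, pow_two]
          let x : GL (Fin 4) F := ⟨Matrix.diagonal ![ω, ω, ω, 1], Matrix.diagonal ![ω * ω, ω * ω, ω * ω, 1],
            by rw [Matrix.diagonal_mul_diagonal, ← Matrix.diagonal_one]; congr 1; funext j
               fin_cases j <;> simp <;> linear_combination hω3,
            by rw [Matrix.diagonal_mul_diagonal, ← Matrix.diagonal_one]; congr 1; funext j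
               fin_cases j <;> simp <;> linear_combination hω3⟩
          have hxst : st σ (x : Matrix (Fin 4) (Fin 4) F) = Matrix.diagonal ![ω * ω, ω * ω, ω * ω, 1] := by
            show (Matrix.map (Matrix.diagonal ![ω, ω, ω, 1]) σ)ᵀ = _
            rw [Matrix.diagonal_map (map_zero σ), Matrix.diagonal_transpose]
            congr 1; funext j
            fin_cases j <;> simp [hσω]
          refine ⟨x, ⟨gu.2 (by rw [hxst]; exact x.inv_mul), Units.ext ?_⟩, Units.ext ?_, fun z hz => ?_, 3 * ω + 1,
            3 * (ω * ω) + 1, ?_, ?_, ?_, fun _ => ?_⟩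
          · show (Matrix.diagonal ![ω, ω, ω, 1]).det = 1
            simp [Matrix.det_diagonal, Fin.prod_univ_four]
            linear_combination hω3
          · rw [Units.val_pow_eq_pow_val, Units.val_one]
            show Matrix.diagonal ![ω, ω, ω, 1] ^ 3 = 1
            rw [Matrix.diagonal_pow, ← Matrix.diagonal_one]; congr 1; funext j
            fin_cases j <;> simp [hω3]
          · have e : Matrix.diagonal ![ω, ω, ω, 1] = z • (1 : Matrix (Fin 4) (Fin 4) F) := hz
            rw [Matrix.smul_one_eq_diagonal, Matrix.diagonal_eq_diagonal_iff] at e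
            exact hω1 ((e 0).trans (e 3).symm)
          · show Matrix.trace (Matrix.diagonal ![ω, ω, ω, 1]) = _
            simp [Matrix.trace_diagonal, Fin.sum_univ_four]; ring
          · show Matrix.trace (Matrix.diagonal ![ω * ω, ω * ω, ω * ω, 1]) = _
            simp [Matrix.trace_diagonal, Fin.sum_univ_four]; ring
          · intro e
            exact mul_ne_zero h2 h3 (by linear_combination e - 9 * hω3 - 3 * hω)
          · intro e
            exact h3 (by linear_combination e - 9 * hω3 - 3 * hω)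
        · have h5 : (5 : F) ≠ 0 := by exact_mod_cast cast0 5 (by norm_num) (Ne.symm hrp)
          obtain ⟨t, ht, htp⟩ := exists_golden (F := F) (p := p) (fun e => by omega) (fun e => hrp e.symm) (hno5 rfl)
          have hσt : σ t = t := by rw [hσ, htp]
          set α : F := t / 2
          have hα : 2 * α = t := mul_div_cancel₀ t h2
          have hσα : σ α = α := by rw [show α = t / 2 from rfl, map_div₀, hσt, map_ofNat]
          obtain ⟨β, hβ⟩ := hU.norm_surj (1 - α * α) (by rw [map_sub, map_one, map_mul, hσα])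
          set c : Matrix (Fin 2) (Fin 2) F := !![α, -σ β; β, α]
          set c' : Matrix (Fin 2) (Fin 2) F := !![α, σ β; -β, α]
          have h1 : c * c' = 1 := by
            ext i j; fin_cases i <;> fin_cases j <;> simp [c, c', Matrix.mul_apply, Fin.sum_univ_two] <;>
              first | ring1 | linear_combination hβ
          have h1' : c' * c = 1 := mul_eq_one_comm.1 h1
          let x : GL (Fin 4) F := ⟨S6000.emb c, S6000.emb c', by rw [S6000.emb_mul, h1, S6000.emb_one],
            by rw [S6000.emb_mul, h1', S6000.emb_one]⟩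
          have hxst : st σ (x : Matrix (Fin 4) (Fin 4) F) = S6000.emb c' := by
            show st σ (S6000.emb c) = S6000.emb c'
            ext i j; fin_cases i <;> fin_cases j <;> simp [st, S6000.emb, c, c', hσα, hσσ]
          have hc2 : c * c = t • c - 1 := by
            ext i j; fin_cases i <;> fin_cases j <;> simp [c, Matrix.mul_apply, Fin.sum_univ_two] <;>
              first
                | linear_combination β * hα
                | linear_combination -(σ β) * hα
                | linear_combination α * hα - hβ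
          have htrx : Matrix.trace (x : Matrix (Fin 4) (Fin 4) F) = t + 2 := by
            show Matrix.trace (S6000.emb c) = t + 2
            rw [S6000.trace_emb]
            simp [c]
            linear_combination hα
          refine ⟨x, ⟨gu.2 (by rw [hxst]; exact x.inv_mul), Units.ext ?_⟩, Units.ext ?_, fun z hz => ?_, _, _, htrx,
            (?_ : _ = t + 2), fun e => ?_, fun h => absurd h (by norm_num)⟩
          · show (S6000.emb c).det = 1
            simp [S6000.emb, c, Matrix.det_succ_row_zero, Fin.sum_univ_succ, Fin.succAbove]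
            linear_combination hβ
          · rw [Units.val_pow_eq_pow_val, Units.val_one]
            have hpow : ∀ k : ℕ, (x : Matrix (Fin 4) (Fin 4) F) ^ k = S6000.emb (c ^ k) := fun k => by
              induction k with
              | zero => rw [pow_zero, pow_zero, S6000.emb_one]
              | succ k ih => rw [pow_succ, ih, pow_succ, ← S6000.emb_mul]
            rw [hpow, ← S6000.emb_one]
            congr 1
            have step : ∀ a b : F, c * (a • c + b • 1) = (a * t + b) • c + (-a) • 1 := fun a b => by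
              rw [mul_add, mul_smul_comm, mul_smul_comm, hc2, mul_one]
              module
            have e : c ^ 5 = ((((1 * t + 0) * t + -1) * t + -(1 * t + 0)) * t + -((1 * t + 0) * t + -1)) • c +
                (-(((1 * t + 0) * t + -1) * t + -(1 * t + 0))) • 1 := by
              rw [← step, ← step, ← step, ← step]
              simp [pow_succ', mul_assoc]
            rw [e]
            match_scalars
            · linear_combination (t * t - t - 1) * ht
            · linear_combination -(t - 1) * ht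
          · have e22 := congrFun (congrFun hz 2) 2
            have e00 := congrFun (congrFun hz 0) 0
            simp [x, S6000.emb, c] at e22 e00
            exact h5 (by linear_combination ht - (t + 3) * (2 * (e00 - e22) - hα))
          · rw [← st_eq_inv (gu.1 (gu.2 (by rw [hxst]; exact x.inv_mul))), trace_st, htrx, map_add, hσt, map_ofNat]
          · have ht' : 3 * t + 4 = 0 := by linear_combination e - ht
            exact h5 (by linear_combination (3 * t - 1) * ht' - 9 * ht)
      obtain ⟨g, hg, hgH⟩ := hall x hx ⟨1, by rw [hxr, Units.val_one, one_smul]⟩ hns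
      have hyr : (((g⁻¹ * x * g) ^ r : GL (Fin 4) F) : Matrix (Fin 4) (Fin 4) F) = (1 : F) • 1 := by
        rw [conjpow hxr, Units.val_one, one_smul]
      have htrace := hP.trace_mul_trace hgH (hr.odd_of_ne_two hr2) hyr
      rw [show (g⁻¹ * x * g)⁻¹ = g⁻¹ * x⁻¹ * g by group, Units.val_mul, Units.val_mul, Units.val_mul, Units.val_mul,
        Matrix.trace_units_conj', Matrix.trace_units_conj', htr, htr'] at htrace
      rcases hP.fixed_cases hgH (conjns hns) hr2 hyr with ⟨h, hC | hC⟩ | ⟨h, hC⟩ <;> rw [hC] at htrace <;>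
        norm_num at htrace
      · exact hT.1 htrace
      · exact hT.2 h htrace
      · exact hT.1 htrace
    obtain ⟨⟨x, hx⟩, hxo⟩ := exists_prime_orderOf_dvd_card'
      (G := ↥(Cfsg.GU 4 F p ⊓ Cfsg.Geo.specialLinear (Fin 4) F)) r (hΩ.trans (Subgroup.relIndex_dvd_card _ _))
    have hxr : x ^ r = 1 := by
      have := congrArg Subtype.val (pow_orderOf_eq_one (⟨x, hx⟩ : ↥(Cfsg.GU 4 F p ⊓ Cfsg.Geo.specialLinear (Fin 4) F)))
      rw [hxo] at this
      exact this
    have hxn : ∀ z : F, (x : Matrix (Fin 4) (Fin 4) F) ≠ z • 1 := fun z hz => by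
      have h4 : z ^ 4 = 1 := (z4 hx (n := 1) (by rw [pow_one]; exact hz)).1
      have hx4 : x ^ 4 = 1 := Units.ext (by
        rw [Units.val_pow_eq_pow_val, hz, smul_pow, one_pow, h4, one_smul, Units.val_one])
      have hd : orderOf x ∣ 2 ^ 2 := orderOf_dvd_of_pow_eq_one (by norm_num [hx4])
      rw [show orderOf x = r by rw [← hxo]; exact (Subgroup.orderOf_mk x hx).symm] at hd
      exact hr2 ((Nat.prime_dvd_prime_iff_eq hr Nat.prime_two).1 (hr.dvd_of_dvd_pow hd))
    obtain ⟨g, hg, hgH⟩ := hall x hx ⟨1, by rw [hxr, Units.val_one, one_smul]⟩ hxn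
    rcases hP.fixed_cases hgH (conjns hxn) hr2 (c := 1) (by rw [conjpow hxr, Units.val_one, one_smul]) with ⟨h, -⟩ | ⟨h, -⟩
    · exact h53 (Or.inl h)
    · exact h53 (Or.inr h)
  · intro hcrit x hx hz hns
    obtain ⟨z, hz⟩ := hz
    obtain ⟨hz4, hzn⟩ := z4 hx hz
    have hz0 : z ≠ 0 := fun e => by simp [e] at hz4
    have hrc : ringChar F = p := ringChar.eq F p
    rcases hcrit with rfl | ⟨rfl, hp3⟩ | ⟨rfl, ho⟩
    · obtain ⟨l, rfl⟩ : ∃ l : F, l * l = z := by
        obtain ⟨l, hl⟩ := (FiniteField.isSquare_iff (by rw [hrc]; omega) hz0).2 (by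
          obtain ⟨m, rfl⟩ : ∃ m, p = 4 * m + 3 := ⟨p / 4, by omega⟩
          rw [hF, show (4 * m + 3) ^ 2 / 2 = 4 * ((m + 1) * (2 * m + 1)) by
            rw [show (4 * m + 3) ^ 2 = 1 + 2 * (4 * ((m + 1) * (2 * m + 1))) by ring]; omega, pow_mul, hz4, one_pow])
        exact ⟨l, hl.symm⟩
      have hl0 : l ≠ 0 := fun e => hz0 (by rw [e, mul_zero])
      let X : GL (Fin 4) F := (Units.mk0 l⁻¹ (inv_ne_zero hl0)) • x
      have hXv : (X : Matrix (Fin 4) (Fin 4) F) = l⁻¹ • (x : Matrix (Fin 4) (Fin 4) F) := rfl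
      have hXX : X * X = 1 := Units.ext (by
        rw [Units.val_mul, hXv, smul_mul_assoc, mul_smul_comm, ← Units.val_mul, ← pow_two, hz, smul_smul, smul_smul,
          Units.val_one, show l⁻¹ * l⁻¹ * (l * l) = 1 by field_simp, one_smul])
      have hXns : ∀ u : F, (X : Matrix (Fin 4) (Fin 4) F) ≠ u • 1 := fun u hu => hns (l * u) (by
        rw [← smul_smul, ← hu, hXv, smul_inv_smul₀ hl0])
      obtain ⟨b, s, hb, htrX, hk13⟩ := invol_count h2 hXX hXns
      set k := (Finset.univ.filter fun i => s i = true).card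
      have hσl : σ l * l = 1 := by
        have e : (σ l * l) * (σ l * l) = 1 := by rw [map_mul] at hzn; linear_combination hzn
        rcases mul_self_eq_one_iff.1 e with e' | e'
        · exact e'
        exfalso
        have hstX : st σ (X : Matrix (Fin 4) (Fin 4) F) = -(X : Matrix (Fin 4) (Fin 4) F) := by
          have h1 := st_eq_inv (gu.1 hx.1)
          have h2' : ((x⁻¹ : GL (Fin 4) F) : Matrix (Fin 4) (Fin 4) F) = (l * l)⁻¹ • (x : Matrix (Fin 4) (Fin 4) F) := by
            have h3 := congrArg (fun Z : Matrix (Fin 4) (Fin 4) F => ((x⁻¹ : GL (Fin 4) F) : Matrix (Fin 4) (Fin 4) F) * Z) hz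
            rw [pow_two] at h3
            simp only [Units.val_mul, ← mul_assoc, Units.inv_mul, one_mul, mul_smul_comm, mul_one] at h3
            rw [h3, inv_smul_smul₀ hz0]
          rw [hXv, st_smul, h1, h2', smul_smul, ← neg_smul]
          congr 1
          have hs0 : σ l ≠ 0 := fun e0 => by rw [e0] at e'; simp at e'
          rw [map_inv₀]
          field_simp
          linear_combination e'
        have htr := trace_st σ (X : Matrix (Fin 4) (Fin 4) F)
        rw [hstX, Matrix.trace_neg, htrX, map_sub, map_mul, map_ofNat, map_ofNat, map_natCast] at htr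
        have hk2 : k = 2 := eq_of_cast h2 (by
          have e4 : (2 : F) * 2 * (2 - (k : F)) = 0 := by linear_combination -htr
          rw [Nat.cast_two]
          exact (sub_eq_zero.1 ((mul_eq_zero.1 e4).resolve_left (mul_ne_zero h2 h2))).symm) hk13 (by norm_num)
        have hdX : (X : Matrix (Fin 4) (Fin 4) F).det = (-1) ^ k := by
          rw [← LinearMap.det_toLin', Elusive.det_monomial b (Matrix.toLin' (X : Matrix (Fin 4) (Fin 4) F)) 1
            (fun i => sg (s i)) (fun i => by rw [Matrix.toLin'_apply, hb]; rfl)]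
          simp only [Equiv.Perm.sign_one, Units.val_one, Int.cast_one, one_mul, sg]
          rw [Finset.prod_ite]
          simp [k]
        rw [hk2, neg_one_sq, hXv, Matrix.det_smul, det1 hx.2, mul_one, Fintype.card_fin, inv_pow] at hdX
        have hl4 : l ^ 4 = 1 := inv_eq_one.1 hdX
        have h11 : σ l * l = 1 := by
          rw [hσ, ← pow_succ]
          obtain ⟨m, hm⟩ : ∃ m, p + 1 = 4 * m := ⟨(p + 1) / 4, by omega⟩
          rw [hm, pow_mul, hl4, one_pow]
        exact h2 (by linear_combination e' - h11)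
      -- an involution in the normaliser with the same trace
      have hAns : ∀ {U V : GL (Fin 4) F}, (V : Matrix (Fin 4) (Fin 4) F) * U = -((U : Matrix (Fin 4) (Fin 4) F) * V) →
          ∀ u : F, (U : Matrix (Fin 4) (Fin 4) F) ≠ u • 1 := fun {U V} e u hu => by
        rw [hu, mul_smul_comm, mul_one, smul_mul_assoc, one_mul] at e
        have h0 : (2 * u) • (V : Matrix (Fin 4) (Fin 4) F) = 0 := by
          rw [mul_smul, two_smul]; exact eq_neg_iff_add_eq_zero.1 e
        rcases smul_eq_zero.1 h0 with e0 | e0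
        · exact U.ne_zero (by rw [hu, (mul_eq_zero.1 e0).resolve_left h2, zero_smul])
        · exact V.ne_zero e0
      have tA := hP.trace_eq_zero hrich.mA (hAns hrich.ab)
      obtain ⟨Y, hYN, hY2, hYst, hYns, hYt⟩ : ∃ Y ∈ Cfsg.Geo.subgroupNormalizer R, Y * Y = 1 ∧
          st σ (Y : Matrix (Fin 4) (Fin 4) F) = Y ∧ (∀ u : F, (Y : Matrix (Fin 4) (Fin 4) F) ≠ u • 1) ∧
          Matrix.trace (Y : Matrix (Fin 4) (Fin 4) F) = 4 - 2 * (k : F) := by
        by_cases hk2 : k = 2
        · exact ⟨A, hRN hrich.mA, Units.ext (by rw [Units.val_mul, hrich.sA, Units.val_one]),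
            st_of_invol (gu.1 (hRU hrich.mA)) hrich.sA, hAns hrich.ab, by rw [tA, hk2]; norm_num⟩
        obtain ⟨y, hyv, hy2, hyt, hyN⟩ := hrich.exists_refl hP
        have hyst : st σ (y : Matrix (Fin 4) (Fin 4) F) = y := by
          rw [hyv, st_smul, map_inv₀, map_ofNat, st_sub, st_add, st_add, st_one, st_mul,
            st_of_invol (gu.1 (hRU hrich.mA)) hrich.sA, st_of_invol (gu.1 (hRU hrich.mC)) hrich.sC, hrich.ca]
        have hyns : ∀ u : F, (y : Matrix (Fin 4) (Fin 4) F) ≠ u • 1 := fun u hu => by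
          have tC := hP.trace_eq_zero hrich.mC (hAns hrich.cd)
          have tAC : Matrix.trace ((A : Matrix (Fin 4) (Fin 4) F) * (C : Matrix (Fin 4) (Fin 4) F)) = 0 := by
            rw [← Units.val_mul]
            exact hP.trace_eq_zero (mul_mem hrich.mA hrich.mC) (hAns (U := A * C) (V := B) (by
              rw [Units.val_mul, ← mul_assoc, hrich.ab, neg_mul, mul_assoc, ← hrich.cb, ← mul_assoc]))
          have e := congrArg (fun Z : Matrix (Fin 4) (Fin 4) F => Matrix.trace ((A : Matrix (Fin 4) (Fin 4) F) * Z)) hu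
          rw [hyv] at e
          simp only [mul_smul_comm, mul_one, mul_add, mul_sub, ← mul_assoc, hrich.sA, one_mul, Matrix.trace_smul,
            Matrix.trace_add, Matrix.trace_sub, Matrix.trace_one, tA, tC, tAC, Fintype.card_fin, smul_eq_mul] at e
          field_simp at e
          norm_num at e
          exact h2 (mul_self_eq_zero.1 (by linear_combination e))
        rcases (show k = 1 ∨ k = 3 by omega) with e | e
        · exact ⟨y, hyN, hy2, hyst, hyns, by rw [e, hyt]; norm_num⟩
        · refine ⟨-y, mem_normalizer_smul hyN (c := -1) (by rw [Units.val_neg, neg_one_smul]), by rw [neg_mul_neg, hy2],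
            by rw [Units.val_neg, st_neg, hyst], fun u hu => hyns (-u) (by rw [neg_smul, ← hu, Units.val_neg, neg_neg]), ?_⟩
          rw [e, Units.val_neg, Matrix.trace_neg, hyt]; norm_num
      obtain ⟨b', s', hb', htrY, hk13'⟩ := invol_count h2 hY2 hYns
      have hkk : k = (Finset.univ.filter fun i => s' i = true).card := eq_of_cast h2 (by
        have e : (2 : F) * ((k : F) - (Finset.univ.filter fun i => s' i = true).card) = 0 := by
          rw [hYt] at htrY; linear_combination -htrY
        exact sub_eq_zero.1 ((mul_eq_zero.1 e).resolve_left h2)) hk13 hk13'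
      have hcnt : ∀ v : Bool, (Finset.univ.filter fun i => s i = v).card = (Finset.univ.filter fun i => s' i = v).card := by
        intro v
        cases v
        · have e1 := Finset.card_filter_add_card_filter_not (s := (Finset.univ : Finset (Fin 4))) fun i => s i = true
          have e2 := Finset.card_filter_add_card_filter_not (s := (Finset.univ : Finset (Fin 4))) fun i => s' i = true
          simp only [Bool.not_eq_true] at e1 e2
          omega
        · exact hkk
      let y : GL (Fin 4) F := (Units.mk0 l hl0) • Y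
      have hyv : (y : Matrix (Fin 4) (Fin 4) F) = l • (Y : Matrix (Fin 4) (Fin 4) F) := rfl
      have hy : y ∈ Cfsg.GU 4 F p := gu.2 (by
        rw [hyv, st_smul, hYst, smul_mul_assoc, mul_smul_comm, smul_smul, hσl, one_smul, ← Units.val_mul, hY2,
          Units.val_one])
      have hxX : (x : Matrix (Fin 4) (Fin 4) F) = l • (X : Matrix (Fin 4) (Fin 4) F) := by rw [hXv, smul_inv_smul₀ hl0]
      obtain ⟨P, hPxy⟩ := exists_P_of_eigen (x := x) (y := y) (b := b) (b' := b') (s := s) (s' := s')
        (fun v => l * sg v) (fun i => by rw [hxX, Matrix.smul_mulVec, hb, smul_smul])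
        (fun i => by rw [hyv, Matrix.smul_mulVec, hb', smul_smul]) hcnt
      obtain ⟨g, hg, hgy⟩ := exists_conj_su hF hx hy hPxy (n := 2) (by exact_mod_cast h2) hz0 hz
      exact ⟨g, hg, hgy ▸ mem_normalizer_smul hYN hyv⟩
    · have hcast : ∀ m : ℕ, 0 < m → m ≤ 4 → (m : F) ≠ 0 := fun m h0 h4 e => by
        have h := Nat.le_of_dvd h0 ((CharP.cast_eq_zero_iff F p m).1 e)
        omega
      have h3 : (3 : F) ≠ 0 := by exact_mod_cast hcast 3 (by norm_num) (by norm_num)
      obtain ⟨ω₀, hω₀⟩ := exists_prime_orderOf_dvd_card' (G := Fˣ) 3 (by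
        rw [hcardu]
        have : p ^ 2 % 3 = 1 := by rw [Nat.pow_mod, hp3]
        omega)
      set ω : F := (ω₀ : F)
      have hω3 : ω ^ 3 = 1 := by rw [← Units.val_pow_eq_pow_val, ← hω₀, pow_orderOf_eq_one, Units.val_one]
      have hω1 : ω ≠ 1 := fun e => by
        rw [show ω₀ = 1 from Units.ext e, orderOf_one] at hω₀
        omega
      have hω : ω * ω + ω + 1 = 0 := by
        refine (mul_eq_zero.1 (show (ω - 1) * (ω * ω + ω + 1) = 0 by linear_combination hω3)).resolve_left
          (sub_ne_zero.2 hω1)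
      have hσω : σ ω = ω := by rw [hσ, ← Nat.mod_add_div p 3, hp3, pow_add, pow_mul, hω3, one_pow, mul_one, pow_one]
      have hx4 : ((x ^ 4 : GL (Fin 4) F) : Matrix (Fin 4) (Fin 4) F) = z • (x : Matrix (Fin 4) (Fin 4) F) := by
        rw [pow_succ x 3, Units.val_mul, hz, smul_mul_assoc, one_mul]
      have hx43 : (x ^ 4) ^ 3 = 1 := Units.ext (by
        rw [← pow_mul, show 4 * 3 = 3 * 4 from rfl, pow_mul, Units.val_pow_eq_pow_val, hz, smul_pow, one_pow, hz4,
          one_smul, Units.val_one])
      have hx41 : x ^ 4 ≠ 1 := fun e => hns z⁻¹ (by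
        rw [e, Units.val_one] at hx4
        rw [hx4, inv_smul_smul₀ hz0])
      obtain ⟨f, h₂, hf, fe, f3, hh₂, hq₂, hh₂3, hh₂1, fv, g₁, rfl, ge, gv⟩ := hrich.exists_threes hP h3
      have hfU : f ∈ Cfsg.GU 4 F p :=
        three_mem hp0 hσ hσσ h2 (sti hrich.mA hrich.sA) (sti hrich.mB hrich.sB) (hskew hrich.ab) fv fe
      have hgU : g₁ ∈ Cfsg.GU 4 F p :=
        three_mem hp0 hσ hσσ h2 (sti hrich.mC hrich.sC) (sti hrich.mD hrich.sD) (hskew hrich.cd) gv ge
      have hf1 : f ≠ 1 := fun e => h3 (by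
        rw [e, Units.val_one, mul_one] at fe
        have := congrFun (congrFun fe 0) 0
        simp at this
        linear_combination this)
      obtain ⟨b, s, hb, -, h12, hA, hB⟩ := three_data hp0 hσ hσσ hω hσω hcast (pow_mem hx.1 4) hx43 hx41
      obtain ⟨y, hyN, hyU, hy3, hy1, hyq⟩ : ∃ y ∈ Cfsg.Geo.subgroupNormalizer R, y ∈ Cfsg.GU 4 F p ∧ y ^ 3 = 1 ∧ y ≠ 1 ∧
          ((y : Matrix (Fin 4) (Fin 4) F) * y + y + 1 = 0 ↔
            ((x ^ 4 : GL (Fin 4) F) : Matrix (Fin 4) (Fin 4) F) * (x ^ 4 : GL (Fin 4) F) + (x ^ 4 : GL (Fin 4) F) + 1 = 0) := by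
        by_cases hq : ((x ^ 4 : GL (Fin 4) F) : Matrix (Fin 4) (Fin 4) F) * (x ^ 4 : GL (Fin 4) F) + (x ^ 4 : GL (Fin 4) F) + 1 = 0
        · exact ⟨f, hf, hfU, f3, hf1, iff_of_true fe hq⟩
        · exact ⟨_, hh₂, mul_mem hfU hgU, hh₂3, hh₂1, iff_of_false hq₂ hq⟩
      obtain ⟨b', s', hb', -, h12', hA', hB'⟩ := three_data hp0 hσ hσσ hω hσω hcast hyU hy3 hy1
      have tot : ∀ s : Fin 4 → Fin 3, (Finset.univ.filter fun i => s i = 0).card + (Finset.univ.filter fun i => s i = 1).card +
          (Finset.univ.filter fun i => s i = 2).card = 4 := fun s => by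
        have h := Finset.card_eq_sum_card_fiberwise (f := s) (s := (Finset.univ : Finset (Fin 4))) (t := Finset.univ)
          (fun i _ => Finset.mem_univ _)
        rw [Fin.sum_univ_three] at h
        simp only [Finset.card_univ, Fintype.card_fin] at h
        exact h.symm
      have t1 := tot s
      have t2 := tot s'
      have h00 : (Finset.univ.filter fun i => s i = 0).card = (Finset.univ.filter fun i => s' i = 0).card := by
        by_cases hq : ((x ^ 4 : GL (Fin 4) F) : Matrix (Fin 4) (Fin 4) F) * (x ^ 4 : GL (Fin 4) F) + (x ^ 4 : GL (Fin 4) F) + 1 = 0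
        · rw [hA hq, hA' (hyq.2 hq)]
        · rw [hB hq, hB' (fun e => hq (hyq.1 e))]
      obtain ⟨P, hPxy⟩ := exists_P_of_eigen (fun a : Fin 3 => ω ^ a.1) hb hb' (fun a => by fin_cases a <;> simp <;> omega)
      obtain ⟨g, hg, hgy⟩ := exists_conj_su hF (pow_mem hx 4) hyU hPxy (n := 3) (by exact_mod_cast h3) one_ne_zero
        (by rw [hx43, Units.val_one, one_smul])
      refine ⟨g, hg, mem_normalizer_smul (hgy ▸ hyN) (c := z⁻¹) ?_⟩
      simp only [Units.val_mul, hx4, mul_smul_comm, smul_mul_assoc, inv_smul_smul₀ hz0]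
    · haveI : Fact (Nat.Prime 5) := ⟨by norm_num⟩
      have hp5 : p ≠ 5 := fun e => by
        subst e
        rw [ZMod.natCast_self, orderOf_zero] at ho
        norm_num at ho
      have h5 : (5 : F) ≠ 0 := by exact_mod_cast cast0 5 (by norm_num) hp5
      have h5p : ((5 : F)) ^ (p - 1) = 1 := by
        have h := congrArg (ZMod.castHom (dvd_refl p) F) (ZMod.pow_card_sub_one_eq_one (p := p) (a := 5) (fun e => h5 (by
          have := congrArg (ZMod.castHom (dvd_refl p) F) e
          rwa [map_ofNat, map_zero] at this)))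
        rwa [map_pow, map_ofNat, map_one] at h
      obtain ⟨sq5, hs5⟩ := (FiniteField.isSquare_iff (by rw [hrc]; omega) h5).2 (by
        obtain ⟨m, hm⟩ : ∃ m, p = 4 * m + 3 := ⟨p / 4, by omega⟩
        rw [hF, show p ^ 2 / 2 = (p - 1) * (2 * (m + 1)) by
          rw [hm, show (4 * m + 3) ^ 2 = 1 + 2 * ((4 * m + 2) * (2 * (m + 1))) by ring,
            show 4 * m + 3 - 1 = 4 * m + 2 by omega]
          omega, pow_mul, h5p, one_pow])
      set t : F := (sq5 - 1) / 2
      have ht2 : 2 * t + 1 = sq5 := by rw [show t = (sq5 - 1) / 2 from rfl]; field_simp; ring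
      have ht : t * t + t = 1 := mul_left_cancel₀ (mul_ne_zero h2 h2)
        (by linear_combination (2 * t + 1 + sq5) * ht2 - hs5)
      have hσ5 : σ sq5 ≠ sq5 := fun e => by
        have hq0 : sq5 ≠ 0 := fun e0 => h5 (by rw [hs5, e0, mul_zero])
        have e1 : sq5 ^ (p - 1) = 1 := by
          rw [hσ] at e
          exact mul_left_cancel₀ hq0 (by rw [← pow_succ', Nat.sub_add_cancel hp.pos, mul_one, e])
        have e2 : (5 : F) ^ (p / 2) = 1 := by
          rw [hs5, ← pow_two, ← pow_mul, show 2 * (p / 2) = p - 1 by omega, e1]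
        have e3 : ((5 : ℕ) : ZMod p) ^ (p / 2) = 1 := (ZMod.castHom (dvd_refl p) F).injective (by
          rw [map_pow, map_natCast, map_one]; exact_mod_cast e2)
        have h50 : ((5 : ℕ) : ZMod p) ≠ 0 := fun e0 => by
          rw [ZMod.natCast_eq_zero_iff] at e0
          exact hp5 ((Nat.prime_dvd_prime_iff_eq hp (by norm_num)).1 e0)
        have e4 : IsSquare (p : ZMod 5) := (ZMod.exists_sq_eq_prime_iff_of_mod_four_eq_one (p := 5) (q := p)
          (by norm_num) (by omega)).2 ((ZMod.euler_criterion p h50).2 e3)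
        obtain ⟨w, hw⟩ := e4
        have hw0 : w ≠ 0 := fun e0 => by rw [hw, e0, mul_zero, orderOf_zero] at ho; norm_num at ho
        have hd : orderOf (p : ZMod 5) ∣ 2 := orderOf_dvd_of_pow_eq_one (by
          rw [hw, ← pow_two, ← pow_mul]; exact ZMod.pow_card_sub_one_eq_one hw0)
        rw [ho] at hd
        norm_num at hd
      have htt : σ t ≠ t := fun e => hσ5 (by rw [← ht2, map_add, map_mul, e, map_ofNat, map_one])
      have hst : σ t = -1 - t := by
        have e := congrArg σ ht
        rw [map_add, map_mul, map_one] at e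
        have e' : (σ t - t) * (σ t + t + 1) = 0 := by linear_combination e - ht
        linear_combination (mul_eq_zero.1 e').resolve_left (sub_ne_zero.2 htt)
      have hroot : ∀ e : F, e ^ 5 = 1 → e = 1 := fun e he => by
        have he0 : e ≠ 0 := fun e0 => by simp [e0] at he
        have h1 : e ^ (p ^ 2 - 1) = 1 := by rw [← hF]; exact FiniteField.pow_card_sub_one_eq_one e he0
        have hcop : Nat.gcd 5 (p ^ 2 - 1) = 1 := by
          refine (Nat.Prime.coprime_iff_not_dvd (by norm_num)).2 fun hd => ?_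
          have h0 : ((p ^ 2 - 1 : ℕ) : ZMod 5) = 0 := (ZMod.natCast_eq_zero_iff _ _).2 hd
          rw [Nat.cast_sub (Nat.one_le_pow _ _ hp.pos), sub_eq_zero, Nat.cast_pow, Nat.cast_one] at h0
          have := orderOf_dvd_of_pow_eq_one h0
          rw [ho] at this
          norm_num at this
        have h2' := pow_gcd_eq_one.2 ⟨he, h1⟩
        rwa [hcop, pow_one] at h2'
      obtain ⟨g₀, hG, hGv, hN, hg5, hne, -⟩ := hrich.gamma.exists_five hP
      have hg₀U : g₀ ∈ Cfsg.GU 4 F p := by
        have sta : ∀ j, st σ ((![A, B, i * (A * B * C), i * (A * B * D), A * B * (C * D)] j : GL (Fin 4) F) : Matrix (Fin 4) (Fin 4) F) =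
            (![A, B, i * (A * B * C), i * (A * B * D), A * B * (C * D)] j : GL (Fin 4) F) := fun j =>
          st_of_invol (gu.1 (hRU (hrich.gamma.mem j))) (by rw [← Units.val_mul, hrich.gamma.sq, Units.val_one])
        have e1 := congrArg (st σ) hGv
        simp only [st_smul, st_mul, st_sub, sta, map_ofNat] at e1
        simp only [mul_assoc] at e1 hG
        rw [← e1] at hG
        rw [gu]
        have h4 : (4 : F) ≠ 0 := by rw [show (4 : F) = 2 * 2 by norm_num]; exact mul_ne_zero h2 h2
        refine mul_eq_one_comm.1 ?_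
        simp only [smul_mul_assoc, mul_smul_comm] at hG
        exact (smul_right_injective _ h4 (smul_right_injective _ h4 hG)).symm
      obtain ⟨b, hb0, hb1, hb2, hb3⟩ := five_shape hp0 hσ hσσ h5 hroot ht htt hst (pow_mem hx.1 16)
        (show (x ^ 16) ^ 5 = 1 from Units.ext (by
          rw [← pow_mul, show 16 * 5 = 5 * (4 * 4) from rfl, pow_mul, Units.val_pow_eq_pow_val, hz, smul_pow, one_pow,
            pow_mul, hz4, one_pow, one_smul, Units.val_one]))
        (fun e => hns (z ^ 3)⁻¹ (by
          have hx16 : ((x ^ 16 : GL (Fin 4) F) : Matrix (Fin 4) (Fin 4) F) = z ^ 3 • (x : Matrix (Fin 4) (Fin 4) F) := by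
            rw [show (16 : ℕ) = 5 * 3 + 1 from rfl, pow_succ, pow_mul, Units.val_mul, Units.val_pow_eq_pow_val, hz, smul_pow,
              one_pow, smul_mul_assoc, one_mul]
          rw [e, Units.val_one] at hx16
          rw [hx16, inv_smul_smul₀ (pow_ne_zero _ hz0)]))
      obtain ⟨b', hc0, hc1, hc2, hc3⟩ := five_shape hp0 hσ hσσ h5 hroot ht htt hst (pow_mem hg₀U 16) hg5 hne
      have hPxy : ∃ P : GL (Fin 4) F, P * x ^ 16 = g₀ ^ 16 * P := by
        refine ⟨TransvMax.glOf (b.equiv b' (Equiv.refl _)), Units.ext (Matrix.toLin'.injective (b.ext fun j => ?_))⟩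
        simp only [Units.val_mul, Matrix.toLin'_mul, LinearMap.comp_apply, Matrix.toLin'_apply, TransvMax.glOf_mulVec,
          Basis.equiv_apply, Equiv.refl_apply]
        fin_cases j <;> simp [hb0, hb1, hb2, hb3, hc0, hc1, hc2, hc3, -Units.val_pow_eq_pow_val]
      obtain ⟨P, hP'⟩ := hPxy
      obtain ⟨g, hg, hgy⟩ := exists_conj_su hF (pow_mem hx 16) (pow_mem hg₀U 16) hP' (n := 5) (by exact_mod_cast h5)
        one_ne_zero (by
          rw [← pow_mul, show 16 * 5 = 5 * (4 * 4) from rfl, pow_mul, Units.val_pow_eq_pow_val, hz, smul_pow, one_pow,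
            pow_mul, hz4, one_pow, one_smul])
      refine ⟨g, hg, mem_normalizer_smul (hgy ▸ hN) (c := (z ^ 3)⁻¹) ?_⟩
      have hx16 : ((x ^ 16 : GL (Fin 4) F) : Matrix (Fin 4) (Fin 4) F) = z ^ 3 • (x : Matrix (Fin 4) (Fin 4) F) := by
        rw [show (16 : ℕ) = 5 * 3 + 1 from rfl, pow_succ, pow_mul, Units.val_mul, Units.val_pow_eq_pow_val, hz, smul_pow,
          one_pow, smul_mul_assoc, one_mul]
      simp only [Units.val_mul, hx16, mul_smul_comm, smul_mul_assoc, inv_smul_smul₀ (pow_ne_zero _ hz0)]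

end Cfsg.Agent.S6001
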