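import Cfsg.Agent.Lib.TransvMax.PauliTools
import Cfsg.Agent.Lib.TransvMax.SpBridge
import Cfsg.Agent.Lib.Forms.SpInvol
-- import your own Cfsg.Agent.* helpers here

set_option autoImplicit false
open scoped MatrixGroups
open Cfsg

namespace Cfsg.Agent.S6002

open Cfsg.Agent Cfsg.Agent.Pauli Module
open scoped Matrix

variable {F : Type*} [Field F]

local notation "ι₄" => Fin 2 ⊕ Fin 2
local notation "M4" => Matrix (Fin 2 ⊕ Fin 2) (Fin 2 ⊕ Fin 2) F

set_option maxHeartbeats 4000000 in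
/-- Five anticommuting involutions in a group of minus type. -/
theorem exists_gamma {R : Subgroup (GL ι₄ F)} [Finite (GL ι₄ F)] (h : IsPauli R) (hR5 : Nat.card R = 2 ^ 5)
    (hRZ : Nat.card (Subgroup.center R) = 2) (hRm : Cfsg.Geo.IsOfMinusType 2 R) :
    (∃ a, IsGamma R a) ∧ ∀ z ∈ R, ∀ c : F, (z : M4) = c • 1 → c * c = 1 := by
  classical
  haveI := h.nonempty
  have hpm : ∀ z ∈ R, ∀ c : F, (z : M4) = c • 1 → c * c = 1 := fun z hz c hc => by
    have hzc : (⟨z, hz⟩ : R) ∈ Subgroup.center R := Subgroup.mem_center_iff.2 fun ⟨t, ht⟩ =>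
      Subtype.ext (Units.ext (by
        show (t : M4) * (z : M4) = (z : M4) * (t : M4)
        rw [hc, mul_smul_comm, mul_one, smul_mul_assoc, one_mul]))
    have h2 : (⟨⟨z, hz⟩, hzc⟩ : Subgroup.center R) ^ 2 = 1 := by
      have e := pow_card_eq_one' (x := (⟨⟨z, hz⟩, hzc⟩ : Subgroup.center R))
      rwa [hRZ] at e
    have h3 : ((z * z : GL ι₄ F) : M4) = 1 := by
      rw [← pow_two, ← Units.val_one (α := M4)]
      exact congrArg (fun w : Subgroup.center R => ((w.1 : GL ι₄ F) : M4)) h2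
    rw [Units.val_mul, hc, smul_mul_assoc, one_mul, smul_smul] at h3
    simpa using congrFun (congrFun h3 (.inl 0)) (.inl 0)
  refine ⟨?_, hpm⟩
  have hsq : ∀ r ∈ R, r * r = 1 ∨ ((r : M4) * r = -1) := fun r hr => by
    obtain ⟨c, hc⟩ := h.scalar (r * r) (mul_mem hr hr) fun s hs => by
      refine Units.ext ?_
      rcases h.anti r hr s hs with e | e
      · rw [mul_assoc, e, ← mul_assoc, e, mul_assoc]
      · simp only [Units.val_mul]
        rw [mul_assoc, e, mul_neg, ← mul_assoc, e, neg_mul, neg_neg, mul_assoc]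
    rcases mul_self_eq_one_iff.1 (hpm _ (mul_mem hr hr) c hc) with rfl | rfl
    · exact Or.inl (Units.ext (by rw [hc, one_smul, Units.val_one]))
    · exact Or.inr (by rw [← Units.val_mul, hc, neg_one_smul])
  have hval : ∀ {r : GL ι₄ F}, r * r = 1 → (r : M4) * r = 1 := fun {r} e => by rw [← Units.val_mul, e, Units.val_one]
  -- no elementary abelian subgroup of order eight
  have hno : ∀ r ∈ R, ∀ s ∈ R, r * r = 1 → s * s = 1 → r * s = s * r → (∀ c : F, (r : M4) ≠ c • 1) →
      (∀ c : F, (s : M4) ≠ c • 1) → (∀ c : F, ((r * s : GL ι₄ F) : M4) ≠ c • 1) →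
      ∀ m ∈ R, (m : M4) = -1 → False := by
    intro r hr s hs hr2 hs2 hrs hrn hsn hrsn m hm hmv
    let S : Set R := {⟨r, hr⟩, ⟨s, hs⟩, ⟨m, hm⟩}
    have hmc : ∀ t : GL ι₄ F, m * t = t * m := fun t => Units.ext (by simp [hmv])
    have hm2 : m * m = 1 := Units.ext (by simp [hmv])
    have hc : ∀ x ∈ S, ∀ y ∈ S, x * y = y * x := by
      intro x hx y hy
      simp only [S, Set.mem_insert_iff, Set.mem_singleton_iff] at hx hy
      rcases hx with rfl | rfl | rfl <;> rcases hy with rfl | rfl | rfl <;> refine Subtype.ext ?_ <;>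
        simp only [Subgroup.coe_mul] <;>
        first | rfl | exact hrs | exact hrs.symm | exact hmc _ | exact (hmc _).symm
    set A := Subgroup.closure S
    haveI hA : IsMulCommutative A := Subgroup.isMulCommutative_closure hc
    have hA2 : ∀ x ∈ A, x * x = 1 := fun x hx => by
      induction hx using Subgroup.closure_induction with
      | mem x hx =>
        simp only [S, Set.mem_insert_iff, Set.mem_singleton_iff] at hx
        rcases hx with rfl | rfl | rfl
        · exact Subtype.ext hr2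
        · exact Subtype.ext hs2
        · exact Subtype.ext hm2
      | one => exact one_mul 1
      | mul x y hx hy ihx ihy =>
        have hxy : x * y = y * x := congrArg Subtype.val (mul_comm' (⟨x, hx⟩ : A) ⟨y, hy⟩)
        rw [show x * y * (x * y) = x * (y * x) * y by group, ← hxy, show x * (x * y) * y = x * x * (y * y) by group,
          ihx, ihy, one_mul]
      | inv x _ ih => rw [← mul_inv_rev, ih, inv_one]
    have h8 : 8 ≤ Nat.card A := by
      have hrA : (⟨r, hr⟩ : R) ∈ A := Subgroup.subset_closure (by simp [S])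
      have hsA : (⟨s, hs⟩ : R) ∈ A := Subgroup.subset_closure (by simp [S])
      have hmA : (⟨m, hm⟩ : R) ∈ A := Subgroup.subset_closure (by simp [S])
      let f : Bool × Bool × Bool → A := fun e =>
        (if e.1 then ⟨⟨m, hm⟩, hmA⟩ else 1) * (if e.2.1 then ⟨⟨r, hr⟩, hrA⟩ else 1) * (if e.2.2 then ⟨⟨s, hs⟩, hsA⟩ else 1)
      have hf : Function.Injective f := by
        have hv : ∀ e, (((f e : A) : R) : GL ι₄ F).val =
            (if e.1 then (-1 : F) else 1) • ((pw e.2.1 r * pw e.2.2 s : GL ι₄ F) : M4) := by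
          rintro ⟨e0, e1, e2⟩
          cases e0 <;> cases e1 <;> cases e2 <;> simp [f, pw, hmv]
        intro e e' he
        have h1 := hv e
        rw [he, hv e'] at h1
        obtain ⟨e0, e1, e2⟩ := e
        obtain ⟨e0', e1', e2'⟩ := e'
        have hone : (2 : F) ≠ 0 := h.two
        have hr' := hval hr2
        have hs' := hval hs2
        have hrs' : (r : M4) * s = s * r := congrArg Units.val hrs
        have key : ∀ (b c : Bool) (u : F), ((pw b r * pw c s : GL ι₄ F) : M4) = u • 1 → b = false ∧ c = false := by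
          intro b c u hu
          cases b <;> cases c
          · exact ⟨rfl, rfl⟩
          · exact absurd (by simpa [pw] using hu) (hsn u)
          · exact absurd (by simpa [pw] using hu) (hrn u)
          · exact absurd (by simpa [pw] using hu) (hrsn u)
        -- the quotient of two such products is again one
        have hq : ((pw (xor e1 e1') r * pw (xor e2 e2') s : GL ι₄ F) : M4) =
            ((if e0 then (-1 : F) else 1) * (if e0' then (-1 : F) else 1)) • 1 := by
          have hmul : ∀ b b' c c' : Bool, ((pw b r * pw c s : GL ι₄ F) : M4) * ((pw b' r * pw c' s : GL ι₄ F) : M4) =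
              ((pw (xor b b') r * pw (xor c c') s : GL ι₄ F) : M4) := by
            have hr'' : ∀ X : M4, (r : M4) * ((r : M4) * X) = X := fun X => by rw [← mul_assoc, hr', one_mul]
            have hs'' : ∀ X : M4, (s : M4) * ((s : M4) * X) = X := fun X => by rw [← mul_assoc, hs', one_mul]
            have hrs'' : ∀ X : M4, (s : M4) * ((r : M4) * X) = (r : M4) * ((s : M4) * X) := fun X => by
              rw [← mul_assoc, ← hrs', mul_assoc]
            intro b b' c c'
            cases b <;> cases b' <;> cases c <;> cases c' <;>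
              simp [pw, mul_assoc, hr', hs', hr'', hs'', hrs'', ← hrs']
          have hs1 : ((pw e1' r * pw e2' s : GL ι₄ F) : M4) * ((pw e1' r * pw e2' s : GL ι₄ F) : M4) = 1 := by
            rw [hmul]; simp [pw]
          have hu : ∀ b : Bool, ((if b then (-1 : F) else 1) : F) * (if b then (-1 : F) else 1) = 1 := fun b => by
            cases b <;> simp
          have h1' := congrArg (fun X : M4 => (if e0 then (-1 : F) else 1) • (X * ((pw e1' r * pw e2' s : GL ι₄ F) : M4))) h1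
          simp only [smul_mul_assoc, smul_smul, hs1, hmul, hu, one_smul] at h1'
          exact h1'.symm
        obtain ⟨he1, he2⟩ := key _ _ _ hq
        simp only [bne_eq_false_iff_eq] at he1 he2
        subst he1 he2
        simp [pw] at hq
        have : e0 = e0' := by
          by_contra hne
          cases e0 <;> cases e0' <;> simp at hne hq
          all_goals
            have h0 := congrFun (congrFun hq (.inl 0)) (.inl 0)
            simp at h0
            exact hone (by linear_combination h0)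
        subst this
        rfl
      have := Nat.card_le_card_of_injective f hf
      simpa using this
    have := hRm A hA hA2
    omega
  -- two commuting pairs of anticommuting elements
  haveI := h.finiteQ
  haveI := Fintype.ofFinite (R ⧸ Subgroup.center R)
  obtain ⟨k, hk⟩ : ∃ k : R ⧸ Subgroup.center R, k ≠ 1 := by
    haveI : Nontrivial (R ⧸ Subgroup.center R) := Finite.one_lt_card_iff_nontrivial.1 (by rw [h.index]; norm_num)
    exact exists_ne 1
  have hone : (QuotientGroup.mk (⟨1, one_mem R⟩ : R) : R ⧸ Subgroup.center R) = 1 := rfl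
  set a := rep k with ha_def
  have ha : a ∈ R := rep_mem k
  obtain ⟨b, hb, hab⟩ := h.exists_anti ha fun c hc => hk (by
    rw [← mk_rep k, ← hone, eq_comm, h.mk_eq_iff]
    exact ⟨c, by rw [Units.val_one]; exact hc⟩)
  -- commuting with a pair after a correction
  have fix2 : ∀ t ∈ R, ∃ (i j : Bool), pw i a * pw j b * t ∈ R ∧
      Commute (((pw i a * pw j b * t : GL ι₄ F)) : M4) (a : M4) ∧ Commute (((pw i a * pw j b * t : GL ι₄ F)) : M4) (b : M4) := by
    intro t ht
    have hba : (b : M4) * a = -((a : M4) * b) := by rw [hab, neg_neg]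
    have hsa : ∀ z ∈ R, ∃ p : Bool, (z : M4) * a = (sg p : F) • ((a : M4) * z) := fun z hz => by
      rcases h.anti z hz a ha with e | e
      · exact ⟨false, by rw [← Units.val_mul, e, Units.val_mul]; simp [sg]⟩
      · exact ⟨true, by rw [e]; simp [sg]⟩
    have hsb : ∀ z ∈ R, ∃ p : Bool, (z : M4) * b = (sg p : F) • ((b : M4) * z) := fun z hz => by
      rcases h.anti z hz b hb with e | e
      · exact ⟨false, by rw [← Units.val_mul, e, Units.val_mul]; simp [sg]⟩
      · exact ⟨true, by rw [e]; simp [sg]⟩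
    obtain ⟨p, hp⟩ := hsa t ht
    obtain ⟨q, hq⟩ := hsb t ht
    refine ⟨q, p, mul_mem (mul_mem ?_ ?_) ht, ?_, ?_⟩
    · cases q <;> simp [pw, ha, one_mem]
    · cases p <;> simp [pw, hb, one_mem]
    · have h1 : (pw q a : M4) * a = (sg false : F) • ((a : M4) * pw q a) := by cases q <;> simp [pw, sg]
      have h2 : (pw p b : M4) * a = (sg p : F) • ((a : M4) * pw p b) := by cases p <;> simp [pw, sg, hba]
      have h3 := step_comm (step_comm h1 h2) hp
      simp [sg] at h3
      simpa [Commute, SemiconjBy, Units.val_mul] using h3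
    · have h1 : (pw q a : M4) * b = (sg q : F) • ((b : M4) * pw q a) := by cases q <;> simp [pw, sg, hab]
      have h2 : (pw p b : M4) * b = (sg false : F) • ((b : M4) * pw p b) := by cases p <;> simp [pw, sg]
      have h3 := step_comm (step_comm h1 h2) hq
      simp [sg] at h3
      simpa [Commute, SemiconjBy, Units.val_mul] using h3
  obtain ⟨t, ht⟩ : ∃ t : R ⧸ Subgroup.center R, ∀ i j : Bool,
      t ≠ QuotientGroup.mk (⟨pw i a * pw j b, mul_mem (by cases i <;> simp [pw, ha, one_mem])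
        (by cases j <;> simp [pw, hb, one_mem])⟩ : R) := by
    by_contra hall
    push Not at hall
    choose i j hij using hall
    have := Nat.card_le_card_of_injective (fun t => (i t, j t)) fun t t' e => by
      simp only [Prod.mk.injEq] at e
      rw [hij t, hij t']
      simp only [e.1, e.2]
    rw [h.index] at this
    simp at this
  obtain ⟨i, j, hcR, hca, hcb⟩ := fix2 (rep t) (rep_mem t)
  set c := pw i a * pw j b * rep t with hcdef
  have hcn : ∀ u : F, (c : M4) ≠ u • 1 := fun u hu => by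
    have hu0 : u ≠ 0 := fun e => by rw [e, zero_smul] at hu; exact c.ne_zero hu
    apply ht i j
    conv_lhs => rw [← mk_rep t]
    rw [h.mk_eq_iff]
    -- the correction is an involution up to sign
    have hs : ∀ {z : GL ι₄ F}, z ∈ R → ∃ e : F, e * e = 1 ∧ (z : M4) * z = e • 1 := fun {z} hz => by
      rcases hsq z hz with e | e
      · exact ⟨1, one_mul 1, by rw [hval e, one_smul]⟩
      · exact ⟨-1, by norm_num, by rw [e, neg_one_smul]⟩
    obtain ⟨e, he, hee⟩ := hs (z := pw i a * pw j b) (mul_mem (by cases i <;> simp [pw, ha, one_mem])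
      (by cases j <;> simp [pw, hb, one_mem]))
    refine ⟨e * u⁻¹, ?_⟩
    have h1 := congrArg (fun X : M4 => ((pw i a * pw j b : GL ι₄ F) : M4) * X) hu
    rw [hcdef] at h1
    simp only [Units.val_mul] at hee h1 ⊢
    rw [← mul_assoc ((pw i a : M4) * pw j b), hee, smul_mul_assoc, one_mul, mul_smul_comm, mul_one] at h1
    have h2 := congrArg (fun X : M4 => (e * u⁻¹) • X) h1
    simp only [smul_smul] at h2
    rw [show e * u⁻¹ * u = e by rw [inv_mul_cancel_right₀ hu0], show e * u⁻¹ * e = u⁻¹ by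
      rw [mul_right_comm, he, one_mul]] at h2
    have h3 := congrArg (fun X : M4 => e • X) h2
    simp only [smul_smul, he, one_smul] at h3
    exact h3.symm
  obtain ⟨d₀, hd₀, hcd₀⟩ := h.exists_anti hcR hcn
  obtain ⟨i', j', hdR, hda, hdb⟩ := fix2 d₀ hd₀
  set d := pw i' a * pw j' b * d₀ with hddef
  have hcd : (c : M4) * d = -((d : M4) * c) := by
    have h1 : (pw i' a : M4) * c = (sg false : F) • ((c : M4) * pw i' a) := by
      cases i' <;> simp [pw, sg, hca.symm.eq]
    have h2 : (pw j' b : M4) * c = (sg false : F) • ((c : M4) * pw j' b) := by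
      cases j' <;> simp [pw, sg, hcb.symm.eq]
    have h3 := step_comm (step_comm h1 h2) (show (d₀ : M4) * c = (sg true : F) • ((c : M4) * d₀) by
      rw [hcd₀]; simp [sg])
    simp [sg] at h3
    rw [hddef]
    simp only [Units.val_mul]
    rw [h3, neg_neg]
  have hm : a * b * (b * a)⁻¹ ∈ R := mul_mem (mul_mem ha hb) (inv_mem (mul_mem hb ha))
  have hmv : ((a * b * (b * a)⁻¹ : GL ι₄ F) : M4) = -1 := by
    rw [Units.val_mul, Units.val_mul, hab, neg_mul, ← Units.val_mul b a, Units.mul_inv]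
  -- normalise the squares within a pair
  have norm : ∀ r ∈ R, ∀ s ∈ R, (r : M4) * s = -((s : M4) * r) → ∀ (K : M4 → Prop),
      K r → K s → K ((r : M4) * s) → ∃ r' ∈ R, ∃ s' ∈ R, K r' ∧ K s' ∧ (r' : M4) * s' = -((s' : M4) * r') ∧
        ((r' * r' = 1 ∧ s' * s' = 1) ∨ ((r' : M4) * r' = -1 ∧ (s' : M4) * s' = -1)) := by
    intro r hr s hs hrs K hKr hKs hKrs
    have hsr : (s : M4) * r = -((r : M4) * s) := by rw [hrs, neg_neg]
    rcases hsq r hr with e | e <;> rcases hsq s hs with e' | e'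
    · exact ⟨r, hr, s, hs, hKr, hKs, hrs, Or.inl ⟨e, e'⟩⟩
    · refine ⟨r, hr, r * s, mul_mem hr hs, hKr, by rwa [Units.val_mul], ?_, Or.inl ⟨e, Units.ext ?_⟩⟩
      · rw [Units.val_mul, mul_assoc (r : M4) s r, hsr, mul_neg, neg_neg]
      · rw [Units.val_mul, Units.val_mul, Units.val_one, show (r : M4) * s * (r * s) = r * ((s : M4) * r) * s by
          simp only [mul_assoc], hsr, mul_neg, neg_mul, ← mul_assoc, hval e, one_mul, e', neg_neg]
    · refine ⟨r * s, mul_mem hr hs, s, hs, by rwa [Units.val_mul], hKs, ?_, Or.inl ⟨Units.ext ?_, e'⟩⟩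
      · rw [Units.val_mul, ← mul_assoc (s : M4) r s, hsr, neg_mul, neg_neg]
      · rw [Units.val_mul, Units.val_mul, Units.val_one, show (r : M4) * s * (r * s) = r * ((s : M4) * r) * s by
          simp only [mul_assoc], hsr, mul_neg, neg_mul, ← mul_assoc, e, neg_mul, neg_mul, neg_neg, one_mul, hval e']
    · exact ⟨r, hr, s, hs, hKr, hKs, hrs, Or.inr ⟨e, e'⟩⟩
  obtain ⟨A, hA, B, hB, ⟨hAc, hAd⟩, ⟨hBc, hBd⟩, hAB, hsqA⟩ := norm a ha b hb hab
    (fun X => Commute X (c : M4) ∧ Commute X (d : M4)) ⟨hca.symm, hda.symm⟩ ⟨hcb.symm, hdb.symm⟩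
    ⟨hca.symm.mul_left hcb.symm, hda.symm.mul_left hdb.symm⟩
  obtain ⟨C, hC, D, hD, ⟨hCA, hCB⟩, ⟨hDA, hDB⟩, hCD, hsqC⟩ := norm c hcR d hdR hcd
    (fun X => Commute X (A : M4) ∧ Commute X (B : M4)) ⟨hAc.symm, hBc.symm⟩ ⟨hAd.symm, hBd.symm⟩
    ⟨hAc.symm.mul_left hAd.symm, hBc.symm.mul_left hBd.symm⟩
  -- one pair of each kind
  have hns : ∀ {r s : GL ι₄ F}, (r : M4) * s = -((s : M4) * r) → ∀ u : F, (r : M4) ≠ u • 1 := fun {r s} e u hu => by
    rw [hu, smul_mul_assoc, one_mul, mul_smul_comm, mul_one] at e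
    have h0 : (2 * u) • (s : M4) = 0 := by rw [mul_smul, two_smul]; exact eq_neg_iff_add_eq_zero.1 e
    rcases smul_eq_zero.1 h0 with e0 | e0
    · exact r.ne_zero (by rw [hu, (mul_eq_zero.1 e0).resolve_left h.two, zero_smul])
    · exact s.ne_zero e0
  have mk : ∀ P ∈ R, ∀ Q ∈ R, ∀ U ∈ R, ∀ V ∈ R, (P : M4) * Q = -((Q : M4) * P) → (U : M4) * V = -((V : M4) * U) →
      Commute (U : M4) (P : M4) → Commute (U : M4) (Q : M4) → Commute (V : M4) (P : M4) → Commute (V : M4) (Q : M4) →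
      P * P = 1 → Q * Q = 1 → (U : M4) * U = -1 → (V : M4) * V = -1 → ∃ a, IsGamma R a := by
    intro P hP Q hQ U hU V hV hPQ hUV hUP hUQ hVP hVQ hP2 hQ2 hU2 hV2
    refine ⟨![P, Q, P * Q * U, P * Q * V, P * Q * (U * V)], fun l => ?_, fun l => ?_, fun l m hlm => ?_⟩
    · fin_cases l <;> simp [hP, hQ, hU, hV, mul_mem]
    all_goals
      have qp : (Q : M4) * P = -((P : M4) * Q) := by rw [hPQ, neg_neg]
      have qp' : ∀ X : M4, (Q : M4) * ((P : M4) * X) = -((P : M4) * ((Q : M4) * X)) := fun X => by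
        rw [← mul_assoc, qp, neg_mul, mul_assoc]
      have vu : (V : M4) * U = -((U : M4) * V) := by rw [hUV, neg_neg]
      have vu' : ∀ X : M4, (V : M4) * ((U : M4) * X) = -((U : M4) * ((V : M4) * X)) := fun X => by
        rw [← mul_assoc, vu, neg_mul, mul_assoc]
      have p2 := hval hP2
      have q2 := hval hQ2
      have p2' : ∀ X : M4, (P : M4) * ((P : M4) * X) = X := fun X => by rw [← mul_assoc, p2, one_mul]
      have q2' : ∀ X : M4, (Q : M4) * ((Q : M4) * X) = X := fun X => by rw [← mul_assoc, q2, one_mul]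
      have u2' : ∀ X : M4, (U : M4) * ((U : M4) * X) = -X := fun X => by rw [← mul_assoc, hU2, neg_mul, one_mul]
      have v2' : ∀ X : M4, (V : M4) * ((V : M4) * X) = -X := fun X => by rw [← mul_assoc, hV2, neg_mul, one_mul]
      have up' : ∀ X : M4, (U : M4) * ((P : M4) * X) = (P : M4) * ((U : M4) * X) := fun X => hUP.left_comm X
      have uq' : ∀ X : M4, (U : M4) * ((Q : M4) * X) = (Q : M4) * ((U : M4) * X) := fun X => hUQ.left_comm X
      have vp' : ∀ X : M4, (V : M4) * ((P : M4) * X) = (P : M4) * ((V : M4) * X) := fun X => hVP.left_comm X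
      have vq' : ∀ X : M4, (V : M4) * ((Q : M4) * X) = (Q : M4) * ((V : M4) * X) := fun X => hVQ.left_comm X
    · refine Units.ext ?_
      fin_cases l <;> simp [mul_assoc, qp, qp', vu, vu', p2, q2, p2', q2', hU2, hV2, u2', v2', hUP.eq, hUQ.eq, hVP.eq,
        hVQ.eq, up', uq', vp', vq']
    · fin_cases l <;> fin_cases m <;> first | exact absurd rfl hlm | simp [mul_assoc, qp, qp', vu, vu', p2, q2, p2',
        q2', hU2, hV2, u2', v2', hUP.eq, hUQ.eq, hVP.eq, hVQ.eq, up', uq', vp', vq']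
  rcases hsqA with ⟨eA, eB⟩ | ⟨eA, eB⟩ <;> rcases hsqC with ⟨eC, eD⟩ | ⟨eC, eD⟩
  · exfalso
    refine hno A hA C hC eA eC (Units.ext hCA.symm.eq) (hns hAB) (hns hCD) (hns (s := B) ?_) _ hm hmv
    rw [Units.val_mul, mul_assoc, hCB.eq, ← mul_assoc, hAB, neg_mul, mul_assoc]
  · exact mk A hA B hB C hC D hD hAB hCD hCA hCB hDA hDB eA eB eC eD
  · exact mk C hC D hD A hA B hB hCD hAB hCA.symm hDA.symm hCB.symm hDB.symm eC eD eA eB
  · exfalso
    refine hno (A * C) (mul_mem hA hC) (B * D) (mul_mem hB hD) (Units.ext ?_) (Units.ext ?_) (Units.ext ?_)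
      (hns (s := B) ?_) (hns (s := A) ?_) (hns (s := B) ?_) _ hm hmv
    all_goals
      have ba : (B : M4) * A = -((A : M4) * B) := by rw [hAB, neg_neg]
      have ba' : ∀ X : M4, (B : M4) * ((A : M4) * X) = -((A : M4) * ((B : M4) * X)) := fun X => by
        rw [← mul_assoc, ba, neg_mul, mul_assoc]
      have dc : (D : M4) * C = -((C : M4) * D) := by rw [hCD, neg_neg]
      have dc' : ∀ X : M4, (D : M4) * ((C : M4) * X) = -((C : M4) * ((D : M4) * X)) := fun X => by
        rw [← mul_assoc, dc, neg_mul, mul_assoc]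
      have a2' : ∀ X : M4, (A : M4) * ((A : M4) * X) = -X := fun X => by rw [← mul_assoc, eA, neg_mul, one_mul]
      have b2' : ∀ X : M4, (B : M4) * ((B : M4) * X) = -X := fun X => by rw [← mul_assoc, eB, neg_mul, one_mul]
      have c2' : ∀ X : M4, (C : M4) * ((C : M4) * X) = -X := fun X => by rw [← mul_assoc, eC, neg_mul, one_mul]
      have d2' : ∀ X : M4, (D : M4) * ((D : M4) * X) = -X := fun X => by rw [← mul_assoc, eD, neg_mul, one_mul]
      have ca' : ∀ X : M4, (C : M4) * ((A : M4) * X) = (A : M4) * ((C : M4) * X) := fun X => hCA.left_comm X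
      have cb' : ∀ X : M4, (C : M4) * ((B : M4) * X) = (B : M4) * ((C : M4) * X) := fun X => hCB.left_comm X
      have da' : ∀ X : M4, (D : M4) * ((A : M4) * X) = (A : M4) * ((D : M4) * X) := fun X => hDA.left_comm X
      have db' : ∀ X : M4, (D : M4) * ((B : M4) * X) = (B : M4) * ((D : M4) * X) := fun X => hDB.left_comm X
      simp [mul_assoc, ba, ba', dc, dc', eA, eB, eC, eD, a2', b2', c2', d2', hCA.eq, hCB.eq, hDA.eq, hDB.eq, ca', cb',
        da', db']

theorem exists_golden_or_one [Fintype F] {p : ℕ} [Fact p.Prime] [CharP F p] (hp2 : p ≠ 2) {r : ℕ} (hr : r = 3 ∨ r = 5)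
    (hrp : r ≠ p) (ho : r = 5 → orderOf (p : ZMod 5) ≠ 4) :
    ∃ t : F, (r = 3 ∧ t = -1) ∨ (r = 5 ∧ t * t + t = 1) := by
  rcases hr with rfl | rfl
  · exact ⟨-1, Or.inl ⟨rfl, rfl⟩⟩
  · obtain ⟨t, ht, -⟩ := exists_golden (F := F) hp2 (fun e => hrp e.symm) (ho rfl)
    exact ⟨t, Or.inr ⟨rfl, ht⟩⟩

/-- A two by two block on the first pair of coordinates. -/
def emb (c : Matrix (Fin 2) (Fin 2) F) : M4 :=
  Matrix.fromBlocks !![c 0 0, 0; 0, 1] !![c 0 1, 0; 0, 0] !![c 1 0, 0; 0, 0] !![c 1 1, 0; 0, 1]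

theorem emb_mul (c c' : Matrix (Fin 2) (Fin 2) F) : emb c * emb c' = emb (c * c') := by
  ext (i | i) (j | j) <;> fin_cases i <;> fin_cases j <;> simp [emb, Matrix.fromBlocks_multiply, Matrix.mul_apply,
    Fin.sum_univ_two]

theorem emb_one : emb (1 : Matrix (Fin 2) (Fin 2) F) = 1 := by
  ext (i | i) (j | j) <;> fin_cases i <;> fin_cases j <;> simp [emb, Matrix.one_apply]

theorem trace_emb (c : Matrix (Fin 2) (Fin 2) F) : Matrix.trace (emb c) = c 0 0 + c 1 1 + 2 := by
  simp [Matrix.trace, emb, Fin.sum_univ_two]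
  ring

/-- The rotation with trace `t`. -/
theorem exists_witness {r : ℕ} {t : F} (ht : (r = 3 ∧ t = -1) ∨ (r = 5 ∧ t * t + t = 1)) :
    ∃ x ∈ Cfsg.spGL 2 F, x ^ r = 1 ∧ Matrix.trace (x : M4) = t + 2 ∧ Matrix.trace ((x⁻¹ : GL ι₄ F) : M4) = t + 2 ∧
      ∀ z : F, (x : M4) ≠ z • 1 := by
  set c : Matrix (Fin 2) (Fin 2) F := !![t, 1; -1, 0]
  set c' : Matrix (Fin 2) (Fin 2) F := !![0, -1; 1, t]
  have h1 : c * c' = 1 := by ext i j; fin_cases i <;> fin_cases j <;> simp [c, c', Matrix.mul_apply, Fin.sum_univ_two]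
  have h2 : c' * c = 1 := by ext i j; fin_cases i <;> fin_cases j <;> simp [c, c', Matrix.mul_apply, Fin.sum_univ_two]
  let x : GL ι₄ F := ⟨emb c, emb c', by rw [emb_mul, h1, emb_one], by rw [emb_mul, h2, emb_one]⟩
  refine ⟨x, fun u v => ?_, ?_, by show Matrix.trace (emb c) = _; rw [trace_emb]; simp [c],
    by show Matrix.trace (emb c') = _; rw [trace_emb]; simp [c'], fun z hz => ?_⟩
  · show Cfsg.sympForm 2 F (emb c *ᵥ u) (emb c *ᵥ v) = _
    simp only [TransvMax.sympForm_eq_spB, FormsLib.spB_expand, Fin.sum_univ_two]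
    simp [emb, c, Matrix.mulVec, dotProduct, Fin.sum_univ_two, Fintype.sum_sum_type]
    ring
  · refine Units.ext ?_
    rw [Units.val_pow_eq_pow_val, Units.val_one]
    have hpow : ∀ k : ℕ, (x : M4) ^ k = emb (c ^ k) := fun k => by
      induction k with
      | zero => rw [pow_zero, pow_zero, emb_one]
      | succ k ih => rw [pow_succ, ih, pow_succ, ← emb_mul]
    rw [hpow, ← emb_one]
    congr 1
    rcases ht with ⟨rfl, rfl⟩ | ⟨rfl, ht⟩
    · ext i j; fin_cases i <;> fin_cases j <;> simp [c, pow_succ, Matrix.mul_apply, Fin.sum_univ_two]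
    · ext i j
      fin_cases i <;> fin_cases j <;> simp [c, pow_succ, Matrix.mul_apply, Fin.sum_univ_two]
      · linear_combination (t * t * t - t * t - 2 * t + 1) * ht
      · linear_combination (t * t - t - 1) * ht
      · linear_combination -(t * t - t - 1) * ht
      · linear_combination -(t - 1) * ht
  · have h3 : emb c (.inr 0) (.inl 0) = (z • (1 : M4)) (.inr 0) (.inl 0) := by rw [← hz]
    simp [emb, c] at h3

/-- Conjugacy of elements squaring to a scalar. -/
theorem exists_conj_sq [Finite F] (h2 : (2 : F) ≠ 0) {x y : GL ι₄ F} (hx : x ∈ Cfsg.spGL 2 F) (hy : y ∈ Cfsg.spGL 2 F)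
    {z : F} (hz : z = 1 ∨ z = -1) (hxz : ((x ^ 2 : GL ι₄ F) : M4) = z • 1) (hyz : ((y ^ 2 : GL ι₄ F) : M4) = z • 1)
    (hxn : ∀ u : F, (x : M4) ≠ u • 1) (hyn : ∀ u : F, (y : M4) ≠ u • 1) :
    ∃ g ∈ Cfsg.spGL 2 F, g⁻¹ * x * g = y := by
  have hA := FormsLib.spB_alt (m := 2) (F := F)
  have hB := FormsLib.spB_nondeg (m := 2) (F := F)
  have key : ∀ w : GL ι₄ F, w ∈ Cfsg.spGL 2 F → ((w ^ 2 : GL ι₄ F) : M4) = z • 1 →
      TransvMax.linOf w ∈ FormsLib.isoGroup (FormsLib.spB 2 F) ∧
      ∀ v, TransvMax.linOf w (TransvMax.linOf w v) = z • v := fun w hw hwz =>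
    ⟨TransvMax.glOf_mem_spGL.1 (by rw [TransvMax.glOf_linOf]; exact hw), fun v => by
      rw [TransvMax.linOf_apply, TransvMax.linOf_apply, Matrix.mulVec_mulVec, ← Units.val_mul, ← pow_two, hwz,
        Matrix.smul_mulVec, Matrix.one_mulVec]⟩
  obtain ⟨hgB, hgg⟩ := key x hx hxz
  obtain ⟨hgB', hgg'⟩ := key y hy hyz
  obtain ⟨k, hk, hky⟩ : ∃ k ∈ FormsLib.isoGroup (FormsLib.spB 2 F), k * TransvMax.linOf x = TransvMax.linOf y * k := by
    rcases hz with rfl | rfl
    · simp only [one_smul] at hgg hgg'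
      have one : ∀ w : GL ι₄ F, (∀ u : F, (w : M4) ≠ u • 1) → ∀ {s t : ℕ} {ee ff : Fin s ⊕ Fin t → (ι₄ → F)},
          FormsLib.IsSFrame (FormsLib.spB 2 F) ee ff →
          (∀ i, TransvMax.linOf w (ee (.inl i)) = ee (.inl i) ∧ TransvMax.linOf w (ff (.inl i)) = ff (.inl i)) →
          (∀ i, TransvMax.linOf w (ee (.inr i)) = -ee (.inr i) ∧ TransvMax.linOf w (ff (.inr i)) = -ff (.inr i)) →
          s = 1 := by
        intro w hw s t ee ff hfr hP hN
        have hst := hfr.finrank_eq hA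
        simp [Module.finrank_fintype_fun_eq_card] at hst
        have hsc : ∀ u : F, (∀ v, (w : M4) *ᵥ v = u • v) → False := fun u hu => hw u (Matrix.toLin'.injective
          (LinearMap.ext fun v => by rw [Matrix.toLin'_apply, hu, map_smul, Matrix.toLin'_one]; rfl))
        by_contra hs
        let bb := Module.Basis.mk (FormsLib.sfamily_linearIndependent hA hfr.ef hfr.ee hfr.ff) hfr.span
        rcases (show s = 0 ∨ t = 0 by omega) with rfl | rfl
        · refine hsc (-1) fun v => ?_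
          have : Matrix.toLin' (w : M4) = (-1 : F) • LinearMap.id := bb.ext fun l => by
            rcases l with (i | i) | (i | i)
            · exact i.elim0
            · simpa [bb, ← TransvMax.linOf_apply] using (hN i).1
            · exact i.elim0
            · simpa [bb, ← TransvMax.linOf_apply] using (hN i).2
          simpa using LinearMap.congr_fun this v
        · refine hsc 1 fun v => ?_
          have : Matrix.toLin' (w : M4) = (1 : F) • LinearMap.id := bb.ext fun l => by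
            rcases l with (i | i) | (i | i)
            · simpa [bb, ← TransvMax.linOf_apply] using (hP i).1
            · exact i.elim0
            · simpa [bb, ← TransvMax.linOf_apply] using (hP i).2
            · exact i.elim0
          simpa using LinearMap.congr_fun this v
      obtain ⟨s, t, ee, ff, hfr, hP, hN⟩ := FormsLib.exists_frame_sq_one hA hB h2 hgB hgg
      obtain ⟨s', t', ee', ff', hfr', hP', hN'⟩ := FormsLib.exists_frame_sq_one hA hB h2 hgB' hgg'
      exact FormsLib.conj_of_frames hA hB hfr hP hN hfr' hP' hN' ((one x hxn hfr hP hN).trans (one y hyn hfr' hP' hN').symm)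
    · simp only [neg_smul, one_smul] at hgg hgg'
      exact FormsLib.conj_of_sq_neg_one hA hB h2 hgB hgg hgB' hgg'
  refine ⟨(TransvMax.glOf k)⁻¹, inv_mem (TransvMax.glOf_mem_spGL.2 hk), ?_⟩
  have h := congrArg TransvMax.glOf hky
  rw [map_mul, map_mul, TransvMax.glOf_linOf, TransvMax.glOf_linOf] at h
  rw [inv_inv, h, mul_inv_cancel_right]

/-- The element of order five is symplectic. -/
theorem five_mem {R : Subgroup (GL ι₄ F)} (hRf : R ≤ Cfsg.spGL 2 F) {a : Fin 5 → GL ι₄ F} (ha : IsGamma R a)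
    (h4 : (4 : F) ≠ 0) {g : GL ι₄ F}
    (h1 : (4 : F) • (4 : F) • (1 : M4) = ((4 : F) • (g : M4)) *
      (((a 3 : M4) - a 4) * ((a 2 : M4) - a 3) * ((a 1 : M4) - a 2) * ((a 0 : M4) - a 1)))
    (hg : (4 : F) • (g : M4) = ((a 0 : M4) - a 1) * ((a 1 : M4) - a 2) * ((a 2 : M4) - a 3) * ((a 3 : M4) - a 4)) :
    g ∈ Cfsg.spGL 2 F := by
  have hs : ∀ (i : Fin 5) u v, FormsLib.spB 2 F ((a i : M4) *ᵥ u) v = FormsLib.spB 2 F u ((a i : M4) *ᵥ v) := by
    intro i u v
    have h := hRf (ha.mem i) u ((a i : M4) *ᵥ v)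
    change Cfsg.sympForm 2 F ((a i : M4) *ᵥ u) ((a i : M4) *ᵥ ((a i : M4) *ᵥ v)) = _ at h
    rw [Matrix.mulVec_mulVec, ← Units.val_mul, ha.sq, Units.val_one, Matrix.one_mulVec] at h
    simpa only [TransvMax.sympForm_eq_spB] using h
  have hw : ∀ (i j : Fin 5) u v, FormsLib.spB 2 F (((a i : M4) - (a j : M4)) *ᵥ u) v =
      FormsLib.spB 2 F u (((a i : M4) - (a j : M4)) *ᵥ v) := fun i j u v => by
    rw [Matrix.sub_mulVec, Matrix.sub_mulVec, map_sub, LinearMap.sub_apply, hs, hs, map_sub]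
  set G' := ((a 3 : M4) - a 4) * ((a 2 : M4) - a 3) * ((a 1 : M4) - a 2) * ((a 0 : M4) - a 1)
  have hG' : G' = (4 : F) • ((g⁻¹ : GL ι₄ F) : M4) := by
    have := congrArg (fun X : M4 => ((g⁻¹ : GL ι₄ F) : M4) * X) h1
    simp only [mul_smul_comm, mul_one, smul_mul_assoc, Units.inv_mul_cancel_left] at this
    exact smul_right_injective M4 h4 (by simpa only using this.symm)
  intro u v
  show Cfsg.sympForm 2 F ((g : M4) *ᵥ u) ((g : M4) *ᵥ v) = Cfsg.sympForm 2 F u v
  simp only [TransvMax.sympForm_eq_spB]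
  have e : FormsLib.spB 2 F (((4 : F) • (g : M4)) *ᵥ u) ((g : M4) *ᵥ v) = (4 : F) * FormsLib.spB 2 F u v := by
    rw [hg]
    simp only [← Matrix.mulVec_mulVec, hw]
    have e' : G' *ᵥ ((g : M4) *ᵥ v) = (4 : F) • v := by
      rw [hG', Matrix.smul_mulVec, TransvMax.inv_mulVec_mulVec]
    simp only [G', ← Matrix.mulVec_mulVec] at e'
    rw [e', map_smul, smul_eq_mul]
  rw [Matrix.smul_mulVec, map_smul, LinearMap.smul_apply, smul_eq_mul] at e
  exact mul_left_cancel₀ h4 e

set_option maxHeartbeats 4000000 in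
/-- Elements of prime order of PSp_4(p), p odd, and the normalizer of an extraspecial 2-group of order 2⁵ of minus type. Here `T = PSp_4(F)` for the field `F` with `p` elements, `p` an odd prime, realised through the matrices preserving the standard alternating form `f`; `R` is an absolutely irreducible subgroup of `T` (it preserves `f`) that is a 2-group of symplectic type of exponent 4, order 2⁵ and centre of order 2, of minus type (no elementary abelian subgroup of order 2³), and `H` is the subgroup of `T` normalizing `R` — a subgroup of type 2^{1+4}.O₄⁻(2) (maximality is not assumed). Ω is the set of cosets of `H` in `T`, so an element of `T` of prime order `r` (`x ∈ T` with `x^r` scalar, `x` not scalar) fixes a point of Ω exactly when some `T`-conjugate of `x` normalizes `R`. Let `r` be a prime dividing the index of `H`. Then every element of `T` of order `r` fixes a point of Ω if and only if `r = 2`, or `r = 5` and `p` has multiplicative order 4 modulo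 5. -/
theorem result {F : Type*} [Field F] [Fintype F] {p : ℕ} [Fact p.Prime] [CharP F p] (hF : Fintype.card F = p) (hodd : Odd p)
    (R : Subgroup (GL (Fin 2 ⊕ Fin 2) F)) (hRs : Cfsg.Geo.IsSymplecticTypeGroup 2 R) (hRi : Cfsg.Geo.ActsAbsolutelyIrreducibly (Cfsg.Geo.matrixSet R))
    (hRf : R ≤ Cfsg.spGL 2 F) (hR5 : Nat.card R = 2 ^ 5) (hRZ : Nat.card (Subgroup.center R) = 2) (hRm : Cfsg.Geo.IsOfMinusType 2 R)
    (r : ℕ) [Fact r.Prime]
    (hΩ : r ∣ (Cfsg.Geo.subgroupNormalizer R).relIndex (Cfsg.spGL 2 F)) :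
    (∀ x ∈ Cfsg.spGL 2 F, (∃ z : F, ((x ^ r : GL (Fin 2 ⊕ Fin 2) F) : Matrix (Fin 2 ⊕ Fin 2) (Fin 2 ⊕ Fin 2) F) = z • (1 : Matrix (Fin 2 ⊕ Fin 2) (Fin 2 ⊕ Fin 2) F)) →
      (∀ z : F, (x : Matrix (Fin 2 ⊕ Fin 2) (Fin 2 ⊕ Fin 2) F) ≠ z • (1 : Matrix (Fin 2 ⊕ Fin 2) (Fin 2 ⊕ Fin 2) F)) →
      ∃ g ∈ Cfsg.spGL 2 F, g⁻¹ * x * g ∈ Cfsg.Geo.subgroupNormalizer R) ↔ (r = 2 ∨ (r = 5 ∧ orderOf (p : ZMod 5) = 4)) := by
  classical
  have hp2 : p ≠ 2 := fun e => by rw [e] at hodd; exact absurd hodd (by decide)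
  have hp : p.Prime := Fact.out
  have hr : r.Prime := Fact.out
  have h2 : (2 : F) ≠ 0 := fun e => hp2 (by
    have : ((2 : ℕ) : F) = 0 := by exact_mod_cast e
    rw [CharP.cast_eq_zero_iff F p] at this
    exact (Nat.prime_dvd_prime_iff_eq hp Nat.prime_two).1 this)
  have hP : IsPauli R := isPauli_of h2 (by simp) hRs hRi (by rw [hR5, hRZ]; norm_num)
  obtain ⟨⟨a, ha⟩, hpm⟩ := exists_gamma hP hR5 hRZ hRm
  have hRN : R ≤ Cfsg.Geo.subgroupNormalizer R := Subgroup.le_normalizer
  constructor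
  · intro hall
    by_contra hno
    push Not at hno
    obtain ⟨hr2, hno5⟩ := hno
    by_cases hrp : r = p
    · subst hrp
      let v₀ : Fin 2 ⊕ Fin 2 → F := Pi.single (.inl 0) 1
      let φ : Fin 2 ⊕ Fin 2 → F := Pi.single (.inr 0) 1
      set x := TransvMax.glOf (FormsLib.tau (FormsLib.spB_alt (m := 2) (F := F)) v₀ 1)
      have hxN : (x : Matrix (Fin 2 ⊕ Fin 2) (Fin 2 ⊕ Fin 2) F) = 1 + Matrix.vecMulVec v₀ φ := by
        refine Matrix.toLin'.injective (LinearMap.ext fun v => ?_)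
        rw [Matrix.toLin'_apply, Matrix.toLin'_apply, TransvMax.glOf_mulVec, FormsLib.tau_apply, one_mul,
          Matrix.add_mulVec, Matrix.one_mulVec, Matrix.vecMulVec_mulVec]
        simp [v₀, φ, FormsLib.spB_expand, Fin.sum_univ_two]
      have hnil : Matrix.vecMulVec v₀ φ * Matrix.vecMulVec v₀ φ = 0 := by
        rw [Matrix.vecMulVec_mul_vecMulVec]; simp [v₀, φ]
      have hne : Matrix.vecMulVec v₀ φ ≠ 0 := fun e => by
        have := congrFun (congrFun e (.inl 0)) (.inr 0)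
        simp [v₀, φ, Matrix.vecMulVec_apply] at this
      obtain ⟨g, hg, hgH⟩ := hall x (TransvMax.glOf_mem_spGL.2 (FormsLib.tau_mem _ _ _)) ⟨1, by
          have hk : ∀ k : ℕ, ((x ^ k : GL (Fin 2 ⊕ Fin 2) F) : Matrix (Fin 2 ⊕ Fin 2) (Fin 2 ⊕ Fin 2) F) =
              1 + (k : F) • Matrix.vecMulVec v₀ φ := by
            intro k
            induction k with
            | zero => simp
            | succ k ih =>
              rw [pow_succ, Units.val_mul, ih, hxN, add_mul, one_mul, smul_mul_assoc, mul_add, mul_one, hnil, add_zero,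
                Nat.cast_succ, add_smul, one_smul]
              abel
          rw [hk, CharP.cast_eq_zero, zero_smul, add_zero, one_smul]⟩
        (fun z hz => by
          rw [hxN] at hz
          have := congrFun (congrFun hz (.inl 0)) (.inr 0)
          simp [v₀, φ, Matrix.vecMulVec_apply] at this)
      refine hP.false_of_transvection hgH hr2
        (((g⁻¹ : GL (Fin 2 ⊕ Fin 2) F) : Matrix (Fin 2 ⊕ Fin 2) (Fin 2 ⊕ Fin 2) F) *ᵥ v₀)
        (φ ᵥ* (g : Matrix (Fin 2 ⊕ Fin 2) (Fin 2 ⊕ Fin 2) F)) ?_ ?_ ?_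
      all_goals rw [← Matrix.vecMulVec_mul, ← Matrix.mul_vecMulVec]
      · rw [Units.val_mul, Units.val_mul, hxN]
        simp [mul_add, add_mul]
      · simp only [mul_assoc]
        rw [← mul_assoc (g : Matrix (Fin 2 ⊕ Fin 2) (Fin 2 ⊕ Fin 2) F), Units.mul_inv, one_mul,
          ← mul_assoc (Matrix.vecMulVec v₀ φ), hnil, zero_mul, mul_zero]
      · intro e
        have := congrArg (fun X : Matrix (Fin 2 ⊕ Fin 2) (Fin 2 ⊕ Fin 2) F => (g : Matrix (Fin 2 ⊕ Fin 2) (Fin 2 ⊕ Fin 2) F) * X * ((g⁻¹ : GL (Fin 2 ⊕ Fin 2) F) : Matrix (Fin 2 ⊕ Fin 2) (Fin 2 ⊕ Fin 2) F)) e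
        simp only [mul_assoc, mul_zero, zero_mul, Units.mul_inv, mul_one, Units.mul_inv_cancel_left] at this
        exact hne this
    by_cases hr35 : r = 3 ∨ r = 5
    · obtain ⟨t, ht⟩ := exists_golden_or_one (F := F) (p := p) hp2 hr35 hrp hno5
      obtain ⟨x, hx, hxr, htr, htr', hns⟩ := exists_witness ht
      obtain ⟨g, hg, hgH⟩ := hall x hx ⟨1, by rw [hxr, Units.val_one, one_smul]⟩ hns
      set y := g⁻¹ * x * g with hy
      have hyr : y ^ r = 1 := by
        have := conj_pow (a := g⁻¹) (b := x) (i := r)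
        rw [inv_inv] at this
        rw [hy, this, hxr, mul_one, inv_mul_cancel]
      have hyr' : ((y ^ r : GL (Fin 2 ⊕ Fin 2) F) : Matrix (Fin 2 ⊕ Fin 2) (Fin 2 ⊕ Fin 2) F) = (1 : F) • 1 := by
        rw [hyr, Units.val_one, one_smul]
      have hyn : ∀ z : F, (y : Matrix (Fin 2 ⊕ Fin 2) (Fin 2 ⊕ Fin 2) F) ≠ z • 1 := fun z hz => hns z (by
        rw [show x = g * y * g⁻¹ by rw [hy]; group, Units.val_mul, Units.val_mul, hz, mul_smul_comm, mul_one,
          smul_mul_assoc, Units.mul_inv])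
      have htrace := hP.trace_mul_trace hgH (hr.odd_of_ne_two hr2) hyr'
      have hyinv : y⁻¹ = g⁻¹ * x⁻¹ * g := by rw [hy]; group
      have htry : Matrix.trace (y : Matrix (Fin 2 ⊕ Fin 2) (Fin 2 ⊕ Fin 2) F) = t + 2 := by
        rw [hy, Units.val_mul, Units.val_mul, Matrix.trace_units_conj', htr]
      rw [hyinv, htry, Units.val_mul, Units.val_mul, Matrix.trace_units_conj', htr'] at htrace
      have h3 : p ≠ 3 → (3 : F) ≠ 0 := fun hne e => hne (by
        have : ((3 : ℕ) : F) = 0 := by exact_mod_cast e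
        rw [CharP.cast_eq_zero_iff F p] at this
        exact (Nat.prime_dvd_prime_iff_eq hp Nat.prime_three).1 this)
      rcases hP.fixed_cases hgH hyn hr2 hyr' with ⟨rfl, hC⟩ | ⟨rfl, hC⟩
      · rcases hC with hC | hC
        · exact ha.exists_fixed_involution hP hpm hgH hyr' hC
        · obtain ⟨-, rfl⟩ : 3 = 3 ∧ t = -1 := ht.resolve_right fun h => by omega
          rw [hC] at htrace
          refine h3 (fun e => hrp e.symm) ?_
          norm_num at htrace
          linear_combination -htrace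
      · obtain ⟨-, ht⟩ := ht.resolve_left fun h => by omega
        rw [hC] at htrace
        have h5 : (5 : F) ≠ 0 := fun e => hrp (by
          have : ((5 : ℕ) : F) = 0 := by exact_mod_cast e
          rw [CharP.cast_eq_zero_iff F p] at this
          exact ((Nat.prime_dvd_prime_iff_eq hp (by norm_num)).1 this).symm)
        norm_num at htrace
        have ht' : 3 * t + 4 = 0 := by linear_combination htrace - ht
        exact h5 (by linear_combination (3 * t - 1) * ht' - 9 * ht)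
    -- an element of order `r` has no conjugate in the normaliser
    obtain ⟨⟨x, hx⟩, hxo⟩ := exists_prime_orderOf_dvd_card' (G := Cfsg.spGL 2 F) r
      (hΩ.trans (Subgroup.relIndex_dvd_card _ _))
    have hxr : x ^ r = 1 := by
      have := congrArg Subtype.val (pow_orderOf_eq_one (⟨x, hx⟩ : Cfsg.spGL 2 F))
      rw [hxo] at this
      exact this
    have hxn : ∀ z : F, (x : Matrix (Fin 2 ⊕ Fin 2) (Fin 2 ⊕ Fin 2) F) ≠ z • 1 := fun z hz => by
      have h1 := hx (Pi.single (.inr 0) 1) (Pi.single (.inl 0) 1)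
      change Cfsg.sympForm 2 F ((x : Matrix (Fin 2 ⊕ Fin 2) (Fin 2 ⊕ Fin 2) F) *ᵥ _)
        ((x : Matrix (Fin 2 ⊕ Fin 2) (Fin 2 ⊕ Fin 2) F) *ᵥ _) = _ at h1
      simp only [TransvMax.sympForm_eq_spB, hz, Matrix.smul_mulVec, Matrix.one_mulVec, map_smul, LinearMap.smul_apply,
        smul_eq_mul] at h1
      simp [FormsLib.spB_expand, Fin.sum_univ_two] at h1
      have hx2 : x ^ 2 = 1 := Units.ext (by
        rw [Units.val_pow_eq_pow_val, hz, smul_pow, one_pow, pow_two, h1, one_smul, Units.val_one])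
      have hd : orderOf x ∣ 2 := orderOf_dvd_of_pow_eq_one hx2
      rw [show orderOf x = r by rw [← hxo]; exact (Subgroup.orderOf_mk x hx).symm] at hd
      exact hr2 ((Nat.prime_dvd_prime_iff_eq hr Nat.prime_two).1 hd)
    obtain ⟨g, hg, hgH⟩ := hall x hx ⟨1, by rw [hxr, Units.val_one, one_smul]⟩ hxn
    have hyr : ((((g⁻¹ * x * g) ^ r : GL (Fin 2 ⊕ Fin 2) F)) : Matrix (Fin 2 ⊕ Fin 2) (Fin 2 ⊕ Fin 2) F) = (1 : F) • 1 := by
      have := conj_pow (a := g⁻¹) (b := x) (i := r)
      rw [inv_inv] at this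
      rw [this, hxr, mul_one, inv_mul_cancel, Units.val_one, one_smul]
    rcases hP.fixed_cases hgH (fun z hz => hxn z (by
        rw [show x = g * (g⁻¹ * x * g) * g⁻¹ by group, Units.val_mul, Units.val_mul g, hz, mul_smul_comm, mul_one,
          smul_mul_assoc, Units.mul_inv])) hr2 hyr with ⟨h, -⟩ | ⟨h, -⟩
    · exact hr35 (Or.inl h)
    · exact hr35 (Or.inr h)
  · intro hcrit x hx hz hns
    obtain ⟨z, hz⟩ := hz
    rcases hcrit with rfl | ⟨rfl, ho⟩
    · have hz2 : z = 1 ∨ z = -1 := by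
        have h1 := pow_mem hx 2 (Pi.single (.inr 0) 1) (Pi.single (.inl 0) 1)
        change Cfsg.sympForm 2 F (((x ^ 2 : GL (Fin 2 ⊕ Fin 2) F) : Matrix (Fin 2 ⊕ Fin 2) (Fin 2 ⊕ Fin 2) F) *ᵥ _)
          (((x ^ 2 : GL (Fin 2 ⊕ Fin 2) F) : Matrix (Fin 2 ⊕ Fin 2) (Fin 2 ⊕ Fin 2) F) *ᵥ _) = _ at h1
        simp only [TransvMax.sympForm_eq_spB, hz, Matrix.smul_mulVec, Matrix.one_mulVec, map_smul, LinearMap.smul_apply,
          smul_eq_mul] at h1
        simp [FormsLib.spB_expand, Fin.sum_univ_two] at h1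
        exact mul_self_eq_one_iff.1 h1
      have hns0 : ∀ {u v : GL (Fin 2 ⊕ Fin 2) F}, ((u : Matrix (Fin 2 ⊕ Fin 2) (Fin 2 ⊕ Fin 2) F) * v = -((v : Matrix (Fin 2 ⊕ Fin 2) (Fin 2 ⊕ Fin 2) F) * u)) →
          ∀ c : F, (u : Matrix (Fin 2 ⊕ Fin 2) (Fin 2 ⊕ Fin 2) F) ≠ c • 1 := fun {u v} e c hc => by
        rw [hc, smul_mul_assoc, one_mul, mul_smul_comm, mul_one] at e
        have h0 : (2 * c) • (v : Matrix (Fin 2 ⊕ Fin 2) (Fin 2 ⊕ Fin 2) F) = 0 := by
          rw [mul_smul, two_smul]; exact eq_neg_iff_add_eq_zero.1 e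
        rcases smul_eq_zero.1 h0 with e0 | e0
        · exact u.ne_zero (by rw [hc, (mul_eq_zero.1 e0).resolve_left h2, zero_smul])
        · exact v.ne_zero e0
      have hanti := ha.anti 0 1 (by decide)
      obtain ⟨y, hyR, hyz, hyn⟩ : ∃ y ∈ R, ((y ^ 2 : GL (Fin 2 ⊕ Fin 2) F) : Matrix (Fin 2 ⊕ Fin 2) (Fin 2 ⊕ Fin 2) F) = z • 1 ∧
          ∀ c : F, (y : Matrix (Fin 2 ⊕ Fin 2) (Fin 2 ⊕ Fin 2) F) ≠ c • 1 := by
        rcases hz2 with rfl | rfl
        · exact ⟨a 0, ha.mem 0, by rw [pow_two, ha.sq, Units.val_one, one_smul], hns0 hanti⟩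
        · refine ⟨a 0 * a 1, mul_mem (ha.mem 0) (ha.mem 1), ?_, hns0 (v := a 1) ?_⟩
          · rw [pow_two, Units.val_mul, Units.val_mul, neg_one_smul]
            calc _ = (a 0 : Matrix (Fin 2 ⊕ Fin 2) (Fin 2 ⊕ Fin 2) F) * ((a 1 : Matrix (Fin 2 ⊕ Fin 2) (Fin 2 ⊕ Fin 2) F) * a 0) * a 1 := by
                  simp only [mul_assoc]
              _ = _ := by
                rw [ha.anti 1 0 (by decide), mul_neg, neg_mul, ← mul_assoc, ← Units.val_mul, ha.sq, Units.val_one, one_mul,
                  ← Units.val_mul, ha.sq, Units.val_one]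
          · rw [Units.val_mul, ← mul_assoc (a 1 : Matrix (Fin 2 ⊕ Fin 2) (Fin 2 ⊕ Fin 2) F), ha.anti 1 0 (by decide), neg_mul,
              neg_neg]
      obtain ⟨g, hg, hgxy⟩ := exists_conj_sq h2 hx (hRf hyR) hz2 hz hyz hns hyn
      exact ⟨g, hg, hgxy ▸ hRN hyR⟩
    · have hp5 : p ≠ 5 := fun e => by
        subst e
        haveI : Fact (Nat.Prime 5) := ⟨by norm_num⟩
        rw [ZMod.natCast_self, orderOf_zero] at ho
        norm_num at ho
      obtain ⟨g₀, hG, hg4, hN, h5, hne, -⟩ := ha.exists_five hP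
      have hy : g₀ ^ 16 ∈ Cfsg.spGL 2 F := pow_mem (five_mem hRf ha hP.four hG hg4) 16
      have hcomm : ∀ u ∈ Cfsg.spGL 2 F, ∀ v ∈ Cfsg.spGL 2 F, u ^ 5 = 1 → u ≠ 1 → v ^ 5 = 1 → Commute u v →
          v ∈ Subgroup.zpowers u := fun u _ v _ hu hu1 hv huv =>
        exists_pow_eq (p := p) (r := 5) hp5.symm (by rw [hF, ho]; simp) hu hu1 hv huv
      -- remove the scalar
      have hz5 : z * z = 1 := by
        have h1 := pow_mem hx 5 (Pi.single (.inr 0) 1) (Pi.single (.inl 0) 1)
        change Cfsg.sympForm 2 F (((x ^ 5 : GL (Fin 2 ⊕ Fin 2) F) : Matrix (Fin 2 ⊕ Fin 2) (Fin 2 ⊕ Fin 2) F) *ᵥ _)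
          (((x ^ 5 : GL (Fin 2 ⊕ Fin 2) F) : Matrix (Fin 2 ⊕ Fin 2) (Fin 2 ⊕ Fin 2) F) *ᵥ _) = _ at h1
        simp only [TransvMax.sympForm_eq_spB, hz, Matrix.smul_mulVec, Matrix.one_mulVec, map_smul, LinearMap.smul_apply,
          smul_eq_mul] at h1
        simpa [FormsLib.spB_expand, Fin.sum_univ_two] using h1
      have hx6 : (x ^ 6) ^ 5 = 1 := Units.ext (by
        rw [← pow_mul, show 6 * 5 = 5 * 6 from rfl, pow_mul, Units.val_pow_eq_pow_val, hz, smul_pow, one_pow,
          show (6 : ℕ) = 2 * 3 from rfl, pow_mul, pow_two, hz5, one_pow, one_smul, Units.val_one])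
      have hzx : (x : Matrix (Fin 2 ⊕ Fin 2) (Fin 2 ⊕ Fin 2) F) = z • ((x ^ 6 : GL (Fin 2 ⊕ Fin 2) F) : Matrix (Fin 2 ⊕ Fin 2) (Fin 2 ⊕ Fin 2) F) := by
        rw [show (6 : ℕ) = 5 + 1 from rfl, pow_succ, Units.val_mul, hz, smul_mul_assoc, one_mul, smul_smul, hz5, one_smul]
      obtain ⟨g, hg, hgH⟩ := exists_conj_of_zpowers (K := Cfsg.spGL 2 F) (H := Cfsg.Geo.subgroupNormalizer R) hcomm
        (pow_mem hx 6) hx6 (fun e => hns z (by rw [hzx, e, Units.val_one])) hy h5 hne hN
      refine ⟨g, hg, ha.mem_normalizer hP fun k => ?_⟩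
      have h1 := conj_mem hgH (ha.mem k)
      suffices e : g⁻¹ * x * g * a k * (g⁻¹ * x * g)⁻¹ = g⁻¹ * (x ^ 6) * g * a k * (g⁻¹ * (x ^ 6) * g)⁻¹ by
        rw [e]; exact h1
      have hx5 : ∀ w : GL (Fin 2 ⊕ Fin 2) F, x ^ 5 * w = w * x ^ 5 := fun w => Units.ext (by
        rw [Units.val_mul, Units.val_mul, hz, smul_mul_assoc, one_mul, mul_smul_comm, mul_one])
      rw [show (6 : ℕ) = 5 + 1 from rfl, pow_succ, show g⁻¹ * (x ^ 5 * x) * g = x ^ 5 * (g⁻¹ * x * g) by
        rw [← mul_assoc, ← mul_assoc, hx5]; group]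
      rw [show x ^ 5 * (g⁻¹ * x * g) * a k * (x ^ 5 * (g⁻¹ * x * g))⁻¹ =
        x ^ 5 * (g⁻¹ * x * g * a k * (g⁻¹ * x * g)⁻¹) * (x ^ 5)⁻¹ by group, hx5, mul_inv_cancel_right]

end Cfsg.Agent.S6002
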